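import Mathlib
import Groth.Prelude.Def_EtRam
import Groth.Agent.Helper7.KmRF

set_option autoImplicit false

/-!
# Kummer-type extensions of the fraction field of a DVR: all generators, and assembly
-/

namespace Groth.Agent.Helper7.KmR

open Polynomial IsLocalRing Groth.Agent.Helper7.ASch

universe u

section Red2

variable (p : ℕ) [hp : Fact p.Prime] {A K L : Type u} [CommRing A] [IsDomain A]
  [IsDiscreteValuationRing A] [Field K] [Algebra A K] [IsFractionRing A K] [Field L] [Algebra K L]
  [Algebra A L] [IsScalarTower A K L] [CharZero K] [CharP (ResidueField A) p]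
  (ζ : A) (hζ : aeval ζ (cyclotomic p ℤ) = 0)
  (P : A[X]) (hP : C ((1 - ζ) ^ p) * P = (1 + C (1 - ζ) * X) ^ p - 1)
  (π : A) (hπ : maximalIdeal A = Ideal.span {π})

include K hπ hζ hP in
/-- unit `θ` -/
theorem kcases_unit (u : Aˣ) (t : L) (ht : t ^ p = algebraMap A L (u : A))
    (hgen : IntermediateField.adjoin K {t} = ⊤) : Cases p A K L := by
  haveI := charZero_A (A := A) (K := K)
  by_cases hpow : ∃ r : A, residue A (u : A) = residue A r ^ p
  · obtain ⟨r, hr⟩ := hpow
    have hru : IsUnit r := by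
      rw [← residue_ne_zero_iff_isUnit]
      intro h0
      rw [h0, zero_pow hp.out.ne_zero] at hr
      exact (residue_ne_zero_iff_isUnit (u : A)).2 u.isUnit hr
    obtain ⟨ρ, rfl⟩ := hru
    have hmem : (u : A) - (ρ : A) ^ p ∈ maximalIdeal A := by
      rw [← residue_eq_zero_iff, map_sub, map_pow, hr, sub_self]
    rw [hπ, Ideal.mem_span_singleton] at hmem
    obtain ⟨c, hc⟩ := hmem
    obtain ⟨ω, ν, hw⟩ := exists_unit_mul_pow π hπ (w_ne_zero p ζ hζ)
    have hρ0 : algebraMap A K ((ρ⁻¹ : Aˣ) : A) ≠ 0 := fun h0 =>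
      (ρ⁻¹).ne_zero ((map_eq_zero_iff _ (IsFractionRing.injective A K)).1 h0)
    have hgen' := adjoin_mul_eq_top t hgen _ hρ0
    rw [← IsScalarTower.algebraMap_apply] at hgen'
    apply kcases_one_add (K := K) p ζ hζ P hP π hπ ω ν hw (p * ν) 1
      (((ρ⁻¹ : Aˣ) : A) ^ p * c) (algebraMap A L ((ρ⁻¹ : Aˣ) : A) * t) le_rfl (by omega) _ hgen'
    rw [mul_pow, ht, ← map_pow, ← map_mul]
    congr 1
    have h1 : ((ρ⁻¹ : Aˣ) : A) ^ p * (ρ : A) ^ p = 1 := by
      rw [← mul_pow, Units.inv_mul, one_pow]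
    rw [pow_one]
    linear_combination ((ρ⁻¹ : Aˣ) : A) ^ p * hc + h1
  · push Not at hpow
    right; right; right
    have hG : (X ^ p - C (u : A) : A[X]).Monic := monic_X_pow_sub_C _ hp.out.ne_zero
    have hGd : (X ^ p - C (u : A) : A[X]).natDegree = p := natDegree_X_pow_sub_C
    have hmap : (X ^ p - C (u : A) : A[X]).map (residue A) = X ^ p - C (residue A (u : A)) := by
      rw [Polynomial.map_sub, Polynomial.map_pow, map_X, map_C]
    have hGt : aeval t (X ^ p - C (u : A) : A[X]) = 0 := by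
      rw [map_sub, map_pow, aeval_X, aeval_C, ht, sub_self]
    exact case4_general (K := K) p π hπ _ hG hGd (u : A) hmap hpow t hGt hgen

include K hπ hζ hP in
/-- `θ = u πˢ` -/
theorem kcases_int (u : Aˣ) (s : ℕ) (t : L) (ht : t ^ p = algebraMap A L ((u : A) * π ^ s))
    (hgen : IntermediateField.adjoin K {t} = ⊤) : Cases p A K L := by
  haveI := charZero_A (A := A) (K := K)
  have hπK : algebraMap A K π ≠ 0 := fun h0 =>
    pi_ne_zero π hπ ((map_eq_zero_iff _ (IsFractionRing.injective A K)).1 h0)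
  have hπL : algebraMap A L π ≠ 0 := map_pi_ne_zero (K := K) π hπ
  by_cases hdvd : p ∣ s
  · obtain ⟨s₁, rfl⟩ := hdvd
    have hc0 : (algebraMap A K π ^ s₁)⁻¹ ≠ 0 := inv_ne_zero (pow_ne_zero _ hπK)
    have hgen' := adjoin_mul_eq_top t hgen _ hc0
    apply kcases_unit (K := K) p ζ hζ P hP π hπ u _ _ hgen'
    rw [mul_pow, ht, map_inv₀, map_pow, ← IsScalarTower.algebraMap_apply, map_mul, map_pow,
      inv_pow, ← pow_mul, mul_comm s₁ p]
    field_simp
  · -- totally ramified
    right; right; left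
    have htK : t ^ p = algebraMap K L (algebraMap A K ((u : A) * π ^ s)) := by
      rw [ht, ← IsScalarTower.algebraMap_apply]
    haveI := finiteDimensional_kummer p _ t htK hgen
    have hle := finrank_le_kummer p _ t htK hgen
    have hcop : Nat.Coprime s p := ((Nat.Prime.coprime_iff_not_dvd hp.out).2 hdvd).symm
    obtain ⟨α, -, hα⟩ := Nat.exists_mul_mod_eq_one_of_coprime hcop hp.out.one_lt
    set β := s * α / p with hβ
    have hαβ : s * α = p * β + 1 := by
      have := Nat.div_add_mod (s * α) p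
      rw [hα, ← hβ] at this
      omega
    apply totRam_of_varpi (K := K) p π hπ hle (t ^ α * (algebraMap A L π ^ β)⁻¹)
    intro V hV
    have hu1 : V.valuation (algebraMap A L (u : A)) = 1 := val_unit V hV _ u.isUnit
    have hδ0 : V.valuation (algebraMap A L π) ≠ 0 := by
      rw [Valuation.ne_zero_iff]; exact hπL
    have hvt : V.valuation t ^ p = V.valuation (algebraMap A L π) ^ s := by
      rw [← map_pow, ht, map_mul, map_mul, hu1, one_mul, map_pow, map_pow]
    rw [map_mul, map_pow, map_inv₀, map_pow, mul_pow, ← pow_mul, mul_comm α p, pow_mul, hvt,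
      ← pow_mul, hαβ, inv_pow, ← pow_mul, mul_comm β p, pow_succ]
    field_simp

include K hπ hζ hP in
/-- every Kummer generator -/
theorem kcases (θ : K) (t : L) (ht : t ^ p = algebraMap K L θ)
    (hgen : IntermediateField.adjoin K {t} = ⊤) : Cases p A K L := by
  by_cases hθ : θ = 0
  · have ht0 : t = 0 := by
      rw [hθ, map_zero] at ht
      exact pow_eq_zero_iff hp.out.ne_zero |>.1 ht
    exact Or.inl (finrank_eq_one_of_mem t hgen ⟨0, by rw [ht0, map_zero]⟩)
  · obtain ⟨a, b, hb, hab⟩ := IsFractionRing.div_surjective (A := A) θ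
    have hb0 : b ≠ 0 := nonZeroDivisors.ne_zero hb
    have hbK : algebraMap A K b ≠ 0 := fun h0 =>
      hb0 ((map_eq_zero_iff _ (IsFractionRing.injective A K)).1 h0)
    have ha0 : a ≠ 0 := by
      rintro rfl
      rw [map_zero, zero_div] at hab
      exact hθ hab.symm
    obtain ⟨q, hq⟩ : ∃ q, p = q + 1 := ⟨p - 1, by have := hp.out.one_le; omega⟩
    have hc0 : a * b ^ q ≠ 0 := mul_ne_zero ha0 (pow_ne_zero _ hb0)
    obtain ⟨u, s, hus⟩ := exists_unit_mul_pow π hπ hc0
    have hgen' := adjoin_mul_eq_top t hgen _ hbK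
    rw [← IsScalarTower.algebraMap_apply] at hgen'
    apply kcases_int (K := K) p ζ hζ P hP π hπ u s (algebraMap A L b * t) _ hgen'
    rw [mul_pow, ht, ← hus, ← hab, IsScalarTower.algebraMap_apply A K L,
      IsScalarTower.algebraMap_apply A K L (a * b ^ q), ← map_pow, ← map_mul]
    congr 1
    rw [map_mul, map_pow, hq, pow_succ]
    field_simp

end Red2

end Groth.Agent.Helper7.KmR
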