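import Mathlib
import Groth.Prelude.Def_EtRam
import Groth.Agent.Helper7.KmRG

set_option autoImplicit false

/-!
# Kummer-type extensions of the fraction field of a DVR: assembly
-/

namespace Groth.Agent.Helper7.KmR

open Polynomial IsLocalRing Groth.Agent.Helper7.ASch

universe u

section Main

variable (p : ℕ) [hp : Fact p.Prime] {A K L : Type u} [CommRing A] [IsDomain A]
  [IsDiscreteValuationRing A] [Field K] [Algebra A K] [IsFractionRing A K] [Field L] [Algebra K L]
  [Algebra A L] [IsScalarTower A K L] [CharZero K] [CharP (ResidueField A) p]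
  (ζ : A) (hζ : aeval ζ (cyclotomic p ℤ) = 0)
  (P : A[X]) (hP : C ((1 - ζ) ^ p) * P = (1 + C (1 - ζ) * X) ^ p - 1)
  (π : A) (hπ : maximalIdeal A = Ideal.span {π})
  (ξ : K) (z : L) (hz : aeval z P = algebraMap K L ξ)
  (hgen : IntermediateField.adjoin K {z} = ⊤)

include hζ hP hz hgen in
/-- the Kummer generator `t = 1 + w z` -/
theorem exists_kummer_datum :
    ∃ (θ : K) (t : L), t ^ p = algebraMap K L θ ∧ IntermediateField.adjoin K {t} = ⊤ := by
  haveI := charZero_A (A := A) (K := K)
  have hwK := wK_ne_zero p (K := K) ζ hζ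
  refine ⟨1 + algebraMap A K (1 - ζ) ^ p * ξ,
    algebraMap K L (algebraMap A K (1 - ζ)) * z + algebraMap K L 1, ?_,
    adjoin_affine_eq_top z hgen _ _ hwK⟩
  have h1 := aeval_P p ζ P hP (L := L) z
  rw [hz] at h1
  rw [map_one, ← IsScalarTower.algebraMap_apply, add_comm, map_add, map_one, map_mul, map_pow,
    ← IsScalarTower.algebraMap_apply, h1]
  ring

include hζ hP hz hgen in
theorem isGalois_main : IsGalois K L := by
  obtain ⟨θ, t, ht, hgt⟩ := exists_kummer_datum p ζ hζ P hP ξ z hz hgen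
  exact isGalois_kummer p (algebraMap A K ζ) (isPrimitiveRoot_K p ζ hζ)
    (Nat.cast_ne_zero.2 hp.out.ne_zero) θ t ht hgt

include hζ hP hz hgen in
theorem finrank_main : Module.finrank K L = 1 ∨ Module.finrank K L = p := by
  obtain ⟨θ, t, ht, hgt⟩ := exists_kummer_datum p ζ hζ P hP ξ z hz hgen
  exact finrank_eq_one_or_kummer p (algebraMap A K ζ) (isPrimitiveRoot_K p ζ hζ) θ t ht hgt

include hπ hζ hP hz hgen in
theorem cases_main : Cases p A K L := by
  obtain ⟨θ, t, ht, hgt⟩ := exists_kummer_datum p ζ hζ P hP ξ z hz hgen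
  exact kcases (K := K) p ζ hζ P hP π hπ θ t ht hgt

include hπ hζ hP hz hgen in
theorem critA_main (a : A) (ha : algebraMap A K a = ξ) :
    Module.finrank K L = 1 ∨
      (EtRam.IsUnramifiedExt A (algebraMap A L) ∧ Module.finrank K L = p) := by
  have unr := critA (K := K) p ζ hζ P hP π hπ ξ z hz hgen a ha
  rcases finrank_main p ζ hζ P hP ξ z hz hgen with h | h
  · exact Or.inl h
  · exact Or.inr ⟨unr, h⟩

include hπ hζ hP hz hgen in
theorem critC_main (n : ℕ) (a : A) (hn0 : 0 < n) (hn : p ∣ n)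
    (ha : ∀ r : A, residue A a ≠ residue A r ^ p)
    (hξ : ξ * algebraMap A K π ^ n = algebraMap A K a) : Case4 p A L := by
  obtain ⟨m, rfl⟩ := hn
  have hm : 0 < m := Nat.pos_of_mul_pos_left hn0
  exact critC (K := K) p ζ hζ P hP π hπ ξ z hz hgen m hm a ha hξ

end Main

end Groth.Agent.Helper7.KmR
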