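import Groth.Agent.Helper7.ModPB

namespace Groth.Agent.Helper7.KosPB

open CategoryTheory CategoryTheory.Limits

universe u v

theorem mem_span_smul {A : Type u} [CommRing A] {N : Type v} [AddCommGroup N] [Module A N]
    (x : A) (S : Submodule A N) (n : N) :
    n ∈ Ideal.span {x} • S ↔ ∃ s ∈ S, n = x • s := by
  rw [Submodule.ideal_span_singleton_smul, Submodule.mem_smul_pointwise_iff_exists]
  constructor
  · rintro ⟨s, hs, rfl⟩; exact ⟨s, hs, rfl⟩
  · rintro ⟨s, hs, rfl⟩; exact ⟨s, hs, rfl⟩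

theorem main (A : Type u) [CommRing A] (N : Type v) [AddCommGroup N] [Module A N]
    (Z B : Submodule A N) (hBZ : B ≤ Z) (x : A)
    (hxH : IsSMulRegular (↥Z ⧸ Submodule.comap Z.subtype B) x)
    (h1 : Submodule.comap Z.subtype (Ideal.span {x} • B) ≤
      Submodule.comap Z.subtype (Ideal.span {x} • Z))
    (h2 : Submodule.comap Z.subtype (Ideal.span {x} • B) ≤ Submodule.comap Z.subtype B)
    (h3 : Submodule.comap Z.subtype (Ideal.span {x} • Z) ≤
      Submodule.comap Z.subtype (B ⊔ Ideal.span {x} • Z))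
    (h4 : Submodule.comap Z.subtype B ≤ Submodule.comap Z.subtype (B ⊔ Ideal.span {x} • Z)) :
    IsPullback (ModuleCat.ofHom (Submodule.factor h1)) (ModuleCat.ofHom (Submodule.factor h2))
      (ModuleCat.ofHom (Submodule.factor h3)) (ModuleCat.ofHom (Submodule.factor h4)) := by
  apply ModPB.isPullback_of_concrete
  · ext z
    rfl
  · intro z hz1 hz2
    obtain ⟨z, rfl⟩ := Submodule.Quotient.mk_surjective _ z
    change Submodule.factor h1 (Submodule.mkQ _ z) = 0 at hz1
    change Submodule.factor h2 (Submodule.mkQ _ z) = 0 at hz2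
    rw [Submodule.factor_mk, Submodule.mkQ_apply, Submodule.Quotient.mk_eq_zero,
      Submodule.mem_comap] at hz1 hz2
    rw [Submodule.Quotient.mk_eq_zero, Submodule.mem_comap]
    rw [mem_span_smul] at hz1 ⊢
    obtain ⟨s, hs, hzs⟩ := hz1
    refine ⟨s, ?_, hzs⟩
    -- x • [s] = 0 in Z/B
    have : x • (Submodule.Quotient.mk ⟨s, hs⟩ : ↥Z ⧸ Submodule.comap Z.subtype B) = 0 := by
      rw [← Submodule.Quotient.mk_smul, Submodule.Quotient.mk_eq_zero, Submodule.mem_comap]
      change x • s ∈ B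
      rw [← hzs]; exact hz2
    have h0 : (Submodule.Quotient.mk ⟨s, hs⟩ : ↥Z ⧸ Submodule.comap Z.subtype B) = 0 := by
      apply hxH
      simp only [this, smul_zero]
    rw [Submodule.Quotient.mk_eq_zero, Submodule.mem_comap] at h0
    exact h0
  · intro y w hyw
    obtain ⟨z₁, rfl⟩ := Submodule.Quotient.mk_surjective _ y
    obtain ⟨z₂, rfl⟩ := Submodule.Quotient.mk_surjective _ w
    change Submodule.factor h3 (Submodule.mkQ _ z₁) = Submodule.factor h4 (Submodule.mkQ _ z₂) at hyw
    rw [Submodule.factor_mk, Submodule.factor_mk, Submodule.mkQ_apply, Submodule.mkQ_apply,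
      Submodule.Quotient.eq, Submodule.mem_comap, Submodule.mem_sup] at hyw
    obtain ⟨β, hβ, ξ, hξ, hsum⟩ := hyw
    rw [mem_span_smul] at hξ
    obtain ⟨ζ, hζ, rfl⟩ := hξ
    refine ⟨Submodule.Quotient.mk (z₁ - x • ⟨ζ, hζ⟩), ?_, ?_⟩
    · change Submodule.factor h1 (Submodule.mkQ _ (z₁ - x • ⟨ζ, hζ⟩)) = _
      rw [Submodule.factor_mk, Submodule.mkQ_apply, Submodule.Quotient.eq, Submodule.mem_comap,
        mem_span_smul]
      refine ⟨-ζ, Z.neg_mem hζ, ?_⟩
      simp
    · change Submodule.factor h2 (Submodule.mkQ _ (z₁ - x • ⟨ζ, hζ⟩)) = _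
      rw [Submodule.factor_mk, Submodule.mkQ_apply, Submodule.Quotient.eq, Submodule.mem_comap]
      have : Z.subtype (z₁ - x • ⟨ζ, hζ⟩ - z₂) = β := by
        have e : Z.subtype (z₁ - z₂) = (z₁ : N) - z₂ := rfl
        rw [e] at hsum
        simp only [Submodule.subtype_apply, Submodule.coe_sub, Submodule.coe_smul]
        rw [sub_right_comm, ← hsum]
        abel
      rw [this]; exact hβ

end Groth.Agent.Helper7.KosPB
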