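import Mathlib
import Groth.Prelude.Def_W4c2quivmodsheafKron

set_option autoImplicit false
universe u v w

namespace Groth.Agent.Helper7.Kron

open KronMod

variable {K : Type u} [Field K] {V : Type v} {W : Type w}
  [AddCommGroup V] [Module K V] [FiniteDimensional K V]
  [AddCommGroup W] [Module K W] [FiniteDimensional K W] {n : ℕ}

/-- the sum map `Vⁿ → W` -/
noncomputable def Phi (f : Fin n → (V →ₗ[K] W)) : (Fin n → V) →ₗ[K] W :=
  LinearMap.lsum K (fun _ : Fin n => V) K f

theorem Phi_apply (f : Fin n → (V →ₗ[K] W)) (v : Fin n → V) : Phi f v = ∑ j, f j (v j) := by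
  unfold Phi
  rw [LinearMap.lsum_apply]
  simp only [LinearMap.sum_apply, LinearMap.comp_apply, LinearMap.proj_apply]

theorem Phi_single (f : Fin n → (V →ₗ[K] W)) (j : Fin n) (v : V) :
    Phi f (Pi.single j v) = f j v := by
  classical
  rw [Phi_apply, Finset.sum_eq_single j]
  · simp
  · intro i _ hij
    simp [Pi.single_eq_of_ne hij]
  · intro hj; exact absurd (Finset.mem_univ j) hj

/-- the product map `V → Wⁿ` -/
noncomputable def Psi (f : Fin n → (V →ₗ[K] W)) : V →ₗ[K] (Fin n → W) := LinearMap.pi f

theorem Psi_apply (f : Fin n → (V →ₗ[K] W)) (v : V) (j : Fin n) : Psi f v j = f j v := rfl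

theorem top_ne_bot_of_pos (h : 0 < Module.finrank K V) : (⊤ : Submodule K V) ≠ ⊥ := by
  intro hb
  have : Module.finrank K (⊤ : Submodule K V) = 0 := by rw [hb]; simp
  rw [finrank_top] at this
  omega

theorem ss_iff_Phi_bij (f : Fin n → (V →ₗ[K] W))
    (hV : 0 < Module.finrank K V) (hW : Module.finrank K W = n * Module.finrank K V) :
    IsSemistable f ↔ Function.Bijective (Phi f) := by
  classical
  have hdim : Module.finrank K (Fin n → V) = Module.finrank K W := by
    rw [Module.finrank_pi_fintype, hW]; simp
  constructor
  · rintro ⟨_, hss⟩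
    have hsub : IsSubrep f ⊤ (LinearMap.range (Phi f)) := by
      intro j
      rintro _ ⟨v, _, rfl⟩
      exact ⟨Pi.single j v, Phi_single f j v⟩
    have hsurj : LinearMap.range (Phi f) = ⊤ := by
      by_contra hne
      have h1 := hss ⊤ (LinearMap.range (Phi f)) hsub
        (by rintro ⟨hb, _⟩; exact top_ne_bot_of_pos hV hb)
        (by rintro ⟨_, ht⟩; exact hne ht)
      rw [finrank_top, mul_comm] at h1
      have h2 : Module.finrank K W ≤ Module.finrank K (LinearMap.range (Phi f)) :=
        Nat.le_of_mul_le_mul_left h1 hV
      exact hne (Submodule.eq_top_of_finrank_eq (le_antisymm (Submodule.finrank_le _) h2))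
    have hs : Function.Surjective (Phi f) := LinearMap.range_eq_top.mp hsurj
    exact ⟨(LinearMap.injective_iff_surjective_of_finrank_eq_finrank hdim).mpr hs, hs⟩
  · intro hbij
    refine ⟨by omega, ?_⟩
    intro V' W' hsub _ _
    -- Phi maps (V')ⁿ into W'
    let P : Submodule K (Fin n → V) := Submodule.pi Set.univ (fun _ => V')
    have hP : P.map (Phi f) ≤ W' := by
      rintro _ ⟨v, hv, rfl⟩
      rw [Phi_apply]
      apply Submodule.sum_mem
      intro j _
      exact hsub j ⟨v j, hv j (Set.mem_univ j), rfl⟩
    have hPdim : Module.finrank K P = n * Module.finrank K V' := by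
      have e : P ≃ₗ[K] (Fin n → V') :=
        { toFun := fun x j => ⟨x.1 j, x.2 j (Set.mem_univ j)⟩
          map_add' := fun x y => rfl
          map_smul' := fun c x => rfl
          invFun := fun y => ⟨fun j => (y j).1, fun j _ => (y j).2⟩
          left_inv := fun x => rfl
          right_inv := fun y => rfl }
      rw [LinearEquiv.finrank_eq e, Module.finrank_pi_fintype]; simp
    have h1 : Module.finrank K (P.map (Phi f)) = Module.finrank K P :=
      LinearEquiv.finrank_eq (Submodule.equivMapOfInjective (Phi f) hbij.1 P).symm
    have h2 : n * Module.finrank K V' ≤ Module.finrank K W' := by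
      rw [← hPdim, ← h1]; exact Submodule.finrank_mono hP
    rw [hW]
    calc n * Module.finrank K V * Module.finrank K V'
        = Module.finrank K V * (n * Module.finrank K V') := by ring
      _ ≤ Module.finrank K V * Module.finrank K W' := Nat.mul_le_mul_left _ h2

theorem ss_iff_Psi_bij (f : Fin n → (V →ₗ[K] W))
    (hW : 0 < Module.finrank K W) (hV : Module.finrank K V = n * Module.finrank K W) :
    IsSemistable f ↔ Function.Bijective (Psi f) := by
  classical
  have hdim : Module.finrank K V = Module.finrank K (Fin n → W) := by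
    rw [Module.finrank_pi_fintype, hV]; simp
  constructor
  · rintro ⟨_, hss⟩
    have hsub : IsSubrep f (LinearMap.ker (Psi f)) ⊥ := by
      intro j
      rintro _ ⟨v, hv, rfl⟩
      rw [SetLike.mem_coe, LinearMap.mem_ker] at hv
      have := congrFun hv j
      rw [Psi_apply] at this
      rw [this]
      exact Submodule.zero_mem _
    have hker : LinearMap.ker (Psi f) = ⊥ := by
      by_contra hne
      have h1 := hss (LinearMap.ker (Psi f)) ⊥ hsub
        (by rintro ⟨hb, _⟩; exact hne hb)
        (by rintro ⟨_, ht⟩; exact top_ne_bot_of_pos hW ht.symm)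
      simp only [finrank_bot, mul_zero, Nat.le_zero, mul_eq_zero] at h1
      rcases h1 with h1 | h1
      · omega
      · exact hne (Submodule.finrank_eq_zero.mp h1)
    have hi : Function.Injective (Psi f) := LinearMap.ker_eq_bot.mp hker
    exact ⟨hi, (LinearMap.injective_iff_surjective_of_finrank_eq_finrank hdim).mp hi⟩
  · intro hbij
    refine ⟨by omega, ?_⟩
    intro V' W' hsub _ _
    let P : Submodule K (Fin n → W) := Submodule.pi Set.univ (fun _ => W')
    have hP : V'.map (Psi f) ≤ P := by
      rintro _ ⟨v, hv, rfl⟩
      intro j _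
      exact hsub j ⟨v, hv, rfl⟩
    have hPdim : Module.finrank K P = n * Module.finrank K W' := by
      have e : P ≃ₗ[K] (Fin n → W') :=
        { toFun := fun x j => ⟨x.1 j, x.2 j (Set.mem_univ j)⟩
          map_add' := fun x y => rfl
          map_smul' := fun c x => rfl
          invFun := fun y => ⟨fun j => (y j).1, fun j _ => (y j).2⟩
          left_inv := fun x => rfl
          right_inv := fun y => rfl }
      rw [LinearEquiv.finrank_eq e, Module.finrank_pi_fintype]; simp
    have h1 : Module.finrank K (V'.map (Psi f)) = Module.finrank K V' :=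
      LinearEquiv.finrank_eq (Submodule.equivMapOfInjective (Psi f) hbij.1 V').symm
    have h2 : Module.finrank K V' ≤ n * Module.finrank K W' := by
      rw [← hPdim, ← h1]; exact Submodule.finrank_mono hP
    rw [hV]
    calc Module.finrank K W * Module.finrank K V'
        ≤ Module.finrank K W * (n * Module.finrank K W') := Nat.mul_le_mul_left _ h2
      _ = n * Module.finrank K W * Module.finrank K W' := by ring

end Groth.Agent.Helper7.Kron
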