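import Mathlib
import Groth.Prelude.Def_W4c2quivmodsheafKron

set_option autoImplicit false
universe u v w

namespace Groth.Agent.Helper7.Kron22

open KronMod Module

variable {K : Type u} [Field K] {V : Type v} {W : Type w}
  [AddCommGroup V] [Module K V] [FiniteDimensional K V]
  [AddCommGroup W] [Module K W] [FiniteDimensional K W]

/-- in a 2-dim space, `u ≠ 0` and `x ∉ span u` span everything -/
theorem two_span (hV : finrank K V = 2) {u x : V} (hu : u ≠ 0) (hx : ∀ a : K, a • u ≠ x)
    (y : V) : ∃ a b : K, y = a • u + b • x := by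
  have hli : LinearIndependent K ![u, x] := (LinearIndependent.pair_iff' hu).mpr hx
  have hspan := hli.span_eq_top_of_card_eq_finrank' (by simp [hV])
  have hy : y ∈ Submodule.span K (Set.range ![u, x]) := by rw [hspan]; trivial
  have hr : Set.range ![u, x] = {u, x} := by
    ext z; simp [eq_comm, or_comm]
  rw [hr, Submodule.mem_span_pair] at hy
  obtain ⟨a, b, h⟩ := hy
  exact ⟨a, b, h.symm⟩

/-- Claim 1 -/
theorem claim1 (hV : finrank K V = 2) (A C : V →ₗ[K] W) (v₁ v₂ : V)
    (hA2 : A v₂ = 0) (hA1 : A v₁ ≠ 0) (hC2 : C v₂ ≠ 0)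
    (hC : ∃ u, u ≠ 0 ∧ C u = 0) (hAC : ∃ u, u ≠ 0 ∧ (A + C) u = 0) (x : V) :
    C x ∈ Submodule.span K {A v₁} := by
  obtain ⟨u, hu, hCu⟩ := hC
  obtain ⟨u', hu', hACu'⟩ := hAC
  have hind : ∀ a : K, a • u ≠ v₂ := by
    intro a h
    apply hC2
    rw [← h, map_smul, hCu, smul_zero]
  have sp := two_span hV hu hind
  obtain ⟨a₁, b₁, h1⟩ := sp v₁
  obtain ⟨α', β', h'⟩ := sp u'
  obtain ⟨a, b, hx⟩ := sp x
  have hw : A v₁ = a₁ • A u := by
    rw [h1, map_add, map_smul, map_smul, hA2, smul_zero, add_zero]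
  have ha₁ : a₁ ≠ 0 := by
    intro h; apply hA1; rw [hw, h, zero_smul]
  have hAu : A u = a₁⁻¹ • A v₁ := by
    rw [hw, smul_smul, inv_mul_cancel₀ ha₁, one_smul]
  have hrel : α' • A u + β' • C v₂ = 0 := by
    have := hACu'
    rw [h', LinearMap.add_apply, map_add, map_add, map_smul, map_smul, map_smul, map_smul,
      hA2, hCu, smul_zero, smul_zero, add_zero, zero_add] at this
    exact this
  have hβ : β' ≠ 0 := by
    intro hβ
    rw [hβ, zero_smul, add_zero] at hrel
    have hα : α' ≠ 0 := by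
      intro hα
      apply hu'
      rw [h', hα, hβ, zero_smul, zero_smul, add_zero]
    have : A u = 0 := by
      have := congrArg (fun t => α'⁻¹ • t) hrel
      simpa [smul_smul, inv_mul_cancel₀ hα] using this
    apply hA1
    rw [hw, this, smul_zero]
  have hCv₂ : C v₂ = (-(β'⁻¹ * α' * a₁⁻¹)) • A v₁ := by
    have h3 : β' • C v₂ = -(α' • A u) := eq_neg_of_add_eq_zero_right hrel
    have h4 : C v₂ = β'⁻¹ • (β' • C v₂) := by
      rw [smul_smul, inv_mul_cancel₀ hβ, one_smul]
    rw [h4, h3, hAu, smul_neg, smul_smul, smul_smul, neg_smul]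
  have : C x = (b * (-(β'⁻¹ * α' * a₁⁻¹))) • A v₁ := by
    rw [hx, map_add, map_smul, map_smul, hCu, smul_zero, zero_add, hCv₂, smul_smul]
  rw [this]
  exact Submodule.smul_mem _ _ (Submodule.mem_span_singleton_self _)

theorem main (n : ℕ) (f : Fin n → (V →ₗ[K] W))
    (hV : Module.finrank K V = 2) (hW : Module.finrank K W = 2)
    (hf : KronMod.IsSemistable f) :
    ∃ z : Fin n → K, Function.Bijective ((∑ j, z j • f j : V →ₗ[K] W) : V → W) := by
  classical
  by_contra hcon
  push Not at hcon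
  obtain ⟨_, hss⟩ := hf
  have : Nontrivial V := Module.nontrivial_of_finrank_pos (R := K) (by omega)
  have : Nontrivial W := Module.nontrivial_of_finrank_pos (R := K) (by omega)
  let g : (Fin n → K) →ₗ[K] (V →ₗ[K] W) := Fintype.linearCombination K f
  have hg : ∀ z, g z = ∑ j, z j • f j := fun z => Fintype.linearCombination_apply K f z
  have hgs : ∀ j, g (Pi.single j 1) = f j := fun j => by
    have := Fintype.linearCombination_apply_single K f j (1 : K)
    rw [one_smul] at this; exact this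
  -- every combination has a kernel vector
  have hker : ∀ z, ∃ u, u ≠ 0 ∧ g z u = 0 := by
    intro z
    have h1 : ¬ Function.Injective (g z) := by
      intro hinj
      apply hcon z
      rw [← hg]
      exact ⟨hinj, (LinearMap.injective_iff_surjective_of_finrank_eq_finrank
        (by rw [hV, hW])).mp hinj⟩
    have hk : LinearMap.ker (g z) ≠ ⊥ := fun h => h1 (LinearMap.ker_eq_bot.mp h)
    obtain ⟨u, hu, hu0⟩ := Submodule.exists_mem_ne_zero_of_ne_bot hk
    exact ⟨u, hu0, LinearMap.mem_ker.mp hu⟩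
  -- (a)
  have ha : ∀ v : V, v ≠ 0 → ∃ j, f j v ≠ 0 := by
    intro v hv
    by_contra hall
    push Not at hall
    have hsub : IsSubrep f (Submodule.span K {v}) ⊥ := by
      intro j
      rw [Submodule.map_span, Submodule.span_le]
      rintro _ ⟨x, hx, rfl⟩
      rw [Set.mem_singleton_iff] at hx
      subst hx
      rw [hall j]; exact zero_mem _
    have hdv : Module.finrank K (Submodule.span K {v}) = 1 := finrank_span_singleton hv
    have key := hss _ _ hsub (by
      rintro ⟨hb, _⟩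
      rw [hb] at hdv; simp at hdv) (by
      rintro ⟨_, ht⟩
      exact bot_ne_top ht)
    rw [hdv, finrank_bot] at key
    omega
  -- (b)
  have hb : ∀ w : W, ∃ j v, f j v ∉ Submodule.span K {w} := by
    intro w
    by_contra hall
    push Not at hall
    have hsub : IsSubrep f ⊤ (Submodule.span K {w}) := by
      intro j
      rintro _ ⟨x, _, rfl⟩
      exact hall j x
    have hdw : Module.finrank K (Submodule.span K {w}) ≤ 1 := by
      have := finrank_span_le_card (R := K) ({w} : Set W)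
      simpa using this
    have key := hss _ _ hsub (by
      rintro ⟨hb, _⟩
      exact top_ne_bot hb) (by
      rintro ⟨_, ht⟩
      rw [ht, finrank_top] at hdw; omega)
    rw [finrank_top, hV, hW] at key
    omega
  obtain ⟨v₁, hv₁⟩ := exists_ne (0 : V)
  obtain ⟨jA, hjA⟩ := ha v₁ hv₁
  obtain ⟨v₂, hv₂, hAv₂⟩ := hker (Pi.single jA 1)
  rw [hgs] at hAv₂
  obtain ⟨jB, hjB⟩ := ha v₂ hv₂
  obtain ⟨jD, v, hD⟩ := hb (f jA v₁)
  have hAB : ∃ u, u ≠ 0 ∧ (f jA + f jB) u = 0 := by
    have := hker (Pi.single jA 1 + Pi.single jB 1)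
    rwa [map_add, hgs, hgs] at this
  have hBk : ∃ u, u ≠ 0 ∧ f jB u = 0 := by
    have := hker (Pi.single jB 1)
    rwa [hgs] at this
  have hB := claim1 hV (f jA) (f jB) v₁ v₂ hAv₂ hjA hjB hBk hAB
  have hDk : ∃ u, u ≠ 0 ∧ f jD u = 0 := by
    have := hker (Pi.single jD 1)
    rwa [hgs] at this
  have hAD : ∃ u, u ≠ 0 ∧ (f jA + f jD) u = 0 := by
    have := hker (Pi.single jA 1 + Pi.single jD 1)
    rwa [map_add, hgs, hgs] at this
  have hDv₂ : f jD v₂ = 0 := by
    by_contra hne
    exact hD (claim1 hV (f jA) (f jD) v₁ v₂ hAv₂ hjA hne hDk hAD v)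
  have hBDk : ∃ u, u ≠ 0 ∧ (f jB + f jD) u = 0 := by
    have := hker (Pi.single jB 1 + Pi.single jD 1)
    rwa [map_add, hgs, hgs] at this
  have hABD : ∃ u, u ≠ 0 ∧ (f jA + (f jB + f jD)) u = 0 := by
    have := hker (Pi.single jA 1 + (Pi.single jB 1 + Pi.single jD 1))
    rwa [map_add, map_add, hgs, hgs, hgs] at this
  have hBD2 : (f jB + f jD) v₂ ≠ 0 := by
    rw [LinearMap.add_apply, hDv₂, add_zero]; exact hjB
  have hBD := claim1 hV (f jA) (f jB + f jD) v₁ v₂ hAv₂ hjA hBD2 hBDk hABD v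
  apply hD
  have : f jD v = (f jB + f jD) v - f jB v := by
    rw [LinearMap.add_apply]; abel
  rw [this]
  exact Submodule.sub_mem _ hBD (hB v)

end Groth.Agent.Helper7.Kron22
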