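import Mathlib
import Groth.Prelude.Def_W4c2quivmodsheafKron

set_option autoImplicit false
universe u v w

namespace Groth.Agent.Helper7.KronDual

open KronMod Module

variable {K : Type u} [Field K] {V : Type v} {W : Type w}
  [AddCommGroup V] [Module K V] [FiniteDimensional K V]
  [AddCommGroup W] [Module K W] [FiniteDimensional K W] {n : ℕ}

theorem fwd (f : Fin n → (V →ₗ[K] W)) (P : ℕ → ℕ → Prop)
    (h : ∀ (V' : Submodule K V) (W' : Submodule K W), IsSubrep f V' W' →
      ¬ (V' = ⊥ ∧ W' = ⊥) → ¬ (V' = ⊤ ∧ W' = ⊤) → P (finrank K V') (finrank K W'))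
    (A : Submodule K (Dual K W)) (B : Submodule K (Dual K V))
    (hsub : IsSubrep (fun j => (f j).dualMap) A B)
    (h0 : ¬ (A = ⊥ ∧ B = ⊥)) (h1 : ¬ (A = ⊤ ∧ B = ⊤)) :
    P (finrank K V - finrank K B) (finrank K W - finrank K A) := by
  have hA := Subspace.finrank_add_finrank_dualCoannihilator_eq A
  have hB := Subspace.finrank_add_finrank_dualCoannihilator_eq B
  have key := h B.dualCoannihilator A.dualCoannihilator ?_ ?_ ?_
  · have e1 : finrank K B.dualCoannihilator = finrank K V - finrank K B := by omega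
    have e2 : finrank K A.dualCoannihilator = finrank K W - finrank K A := by omega
    rwa [e1, e2] at key
  · intro j
    rintro _ ⟨v, hv, rfl⟩
    rw [SetLike.mem_coe, Submodule.mem_dualCoannihilator] at hv
    rw [Submodule.mem_dualCoannihilator]
    intro φ hφ
    have : (f j).dualMap φ ∈ B := hsub j ⟨φ, hφ, rfl⟩
    exact hv _ this
  · rintro ⟨hb, ha⟩
    apply h1
    rw [hb] at hB; rw [ha] at hA
    simp only [finrank_bot, add_zero] at hA hB
    rw [← Subspace.dual_finrank_eq] at hA hB
    exact ⟨Submodule.eq_top_of_finrank_eq hA, Submodule.eq_top_of_finrank_eq hB⟩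
  · rintro ⟨hb, ha⟩
    apply h0
    rw [hb] at hB; rw [ha] at hA
    simp only [finrank_top] at hA hB
    exact ⟨Submodule.finrank_eq_zero.mp (by omega), Submodule.finrank_eq_zero.mp (by omega)⟩

theorem bwd (f : Fin n → (V →ₗ[K] W)) (P : ℕ → ℕ → Prop)
    (h : ∀ (A : Submodule K (Dual K W)) (B : Submodule K (Dual K V)),
      IsSubrep (fun j => (f j).dualMap) A B →
      ¬ (A = ⊥ ∧ B = ⊥) → ¬ (A = ⊤ ∧ B = ⊤) → P (finrank K A) (finrank K B))
    (V' : Submodule K V) (W' : Submodule K W)
    (hsub : IsSubrep f V' W')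
    (h0 : ¬ (V' = ⊥ ∧ W' = ⊥)) (h1 : ¬ (V' = ⊤ ∧ W' = ⊤)) :
    P (finrank K W - finrank K W') (finrank K V - finrank K V') := by
  have hA := Subspace.finrank_add_finrank_dualAnnihilator_eq W'
  have hB := Subspace.finrank_add_finrank_dualAnnihilator_eq V'
  have key := h W'.dualAnnihilator V'.dualAnnihilator ?_ ?_ ?_
  · have e1 : finrank K W'.dualAnnihilator = finrank K W - finrank K W' := by omega
    have e2 : finrank K V'.dualAnnihilator = finrank K V - finrank K V' := by omega
    rwa [e1, e2] at key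
  · intro j
    rintro _ ⟨φ, hφ, rfl⟩
    rw [SetLike.mem_coe, Submodule.mem_dualAnnihilator] at hφ
    rw [Submodule.mem_dualAnnihilator]
    intro v hv
    exact hφ _ (hsub j ⟨v, hv, rfl⟩)
  · rintro ⟨ha, hb⟩
    apply h1
    rw [hb] at hB; rw [ha] at hA
    simp only [finrank_bot, add_zero] at hA hB
    exact ⟨Submodule.eq_top_of_finrank_eq hB, Submodule.eq_top_of_finrank_eq hA⟩
  · rintro ⟨ha, hb⟩
    apply h0
    rw [hb] at hB; rw [ha] at hA
    simp only [finrank_top, Subspace.dual_finrank_eq] at hA hB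
    exact ⟨Submodule.finrank_eq_zero.mp (by omega), Submodule.finrank_eq_zero.mp (by omega)⟩

theorem arith_le {dV dW a b : ℕ} (ha : a ≤ dW) (hb : b ≤ dV)
    (h : dW * (dV - b) ≤ dV * (dW - a)) : dV * a ≤ dW * b := by
  obtain ⟨c, rfl⟩ := Nat.exists_eq_add_of_le ha
  obtain ⟨d, rfl⟩ := Nat.exists_eq_add_of_le hb
  simp only [Nat.add_sub_cancel_left] at h
  nlinarith

theorem arith_lt {dV dW a b : ℕ} (ha : a ≤ dW) (hb : b ≤ dV)
    (h : dW * (dV - b) < dV * (dW - a)) : dV * a < dW * b := by
  obtain ⟨c, rfl⟩ := Nat.exists_eq_add_of_le ha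
  obtain ⟨d, rfl⟩ := Nat.exists_eq_add_of_le hb
  simp only [Nat.add_sub_cancel_left] at h
  nlinarith

theorem main (f : Fin n → (V →ₗ[K] W)) :
    (KronMod.IsSemistable f ↔ KronMod.IsSemistable (fun j => (f j).dualMap)) ∧
    (KronMod.IsStable f ↔ KronMod.IsStable (fun j => (f j).dualMap)) := by
  refine ⟨⟨?_, ?_⟩, ⟨?_, ?_⟩⟩
  · rintro ⟨hpos, h⟩
    refine ⟨by rw [Subspace.dual_finrank_eq, Subspace.dual_finrank_eq]; omega, ?_⟩
    intro A B hsub h0 h1
    have := fwd f (fun x y => finrank K W * x ≤ finrank K V * y) h A B hsub h0 h1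
    rw [Subspace.dual_finrank_eq, Subspace.dual_finrank_eq]
    have ha : finrank K A ≤ finrank K W := by
      rw [← Subspace.dual_finrank_eq]; exact Submodule.finrank_le _
    have hb : finrank K B ≤ finrank K V := by
      rw [← Subspace.dual_finrank_eq]; exact Submodule.finrank_le _
    exact arith_le ha hb this
  · rintro ⟨hpos, h⟩
    refine ⟨by rw [Subspace.dual_finrank_eq, Subspace.dual_finrank_eq] at hpos; omega, ?_⟩
    intro V' W' hsub h0 h1
    have := bwd f (fun x y => finrank K (Dual K V) * x ≤ finrank K (Dual K W) * y) h V' W' hsub h0 h1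
    rw [Subspace.dual_finrank_eq, Subspace.dual_finrank_eq] at this
    exact arith_le (Submodule.finrank_le _) (Submodule.finrank_le _) this
  · rintro ⟨hpos, h⟩
    refine ⟨by rw [Subspace.dual_finrank_eq, Subspace.dual_finrank_eq]; omega, ?_⟩
    intro A B hsub h0 h1
    have := fwd f (fun x y => finrank K W * x < finrank K V * y) h A B hsub h0 h1
    rw [Subspace.dual_finrank_eq, Subspace.dual_finrank_eq]
    have ha : finrank K A ≤ finrank K W := by
      rw [← Subspace.dual_finrank_eq]; exact Submodule.finrank_le _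
    have hb : finrank K B ≤ finrank K V := by
      rw [← Subspace.dual_finrank_eq]; exact Submodule.finrank_le _
    exact arith_lt ha hb this
  · rintro ⟨hpos, h⟩
    refine ⟨by rw [Subspace.dual_finrank_eq, Subspace.dual_finrank_eq] at hpos; omega, ?_⟩
    intro V' W' hsub h0 h1
    have := bwd f (fun x y => finrank K (Dual K V) * x < finrank K (Dual K W) * y) h V' W' hsub h0 h1
    rw [Subspace.dual_finrank_eq, Subspace.dual_finrank_eq] at this
    exact arith_lt (Submodule.finrank_le _) (Submodule.finrank_le _) this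

end Groth.Agent.Helper7.KronDual
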