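import Mathlib
import Groth.Agent.Helper7.RedChar

set_option autoImplicit false
universe u v w

namespace Groth.Agent.Helper7.KumMin

open Polynomial Module

section kummer
variable {K : Type u} [Field K] (hK : ∀ n : ℕ, 0 < n → (X ^ n - 1 : K[X]).Splits)
variable {Ω : Type w} [Field Ω] [Algebra K Ω]

include hK in
theorem exists_eq_mul_of_pow_eq {m : ℕ} (hm : 0 < m) {θ θ' : Ω} (hθ : θ ≠ 0)
    (h : θ' ^ m = θ ^ m) : ∃ ζ : K, θ' = algebraMap K Ω ζ * θ := by
  have h1 : (θ' / θ) ^ m = 1 := by rw [div_pow, h, div_self (pow_ne_zero m hθ)]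
  have h0 : (X ^ m - 1 : K[X]) ≠ 0 := by
    have := (monic_X_pow_sub_C (1 : K) hm.ne').ne_zero
    simpa using this
  have h2 : ((X ^ m - 1 : K[X]).map (algebraMap K Ω)).IsRoot (θ' / θ) := by
    rw [IsRoot.def]; simp [h1]
  obtain ⟨ζ, hζ⟩ := (hK m hm).mem_range_of_isRoot h0 h2
  refine ⟨ζ, ?_⟩
  rw [hζ, div_mul_cancel₀ _ hθ]

include hK in
/-- Kummer-type description of the minimal polynomial of an `m`-th root of an element of `K`. -/
theorem minpoly_of_pow_mem {m : ℕ} (hm : 0 < m) (θ : Ω) (hθ : θ ≠ 0)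
    (hθm : θ ^ m ∈ (algebraMap K Ω).range) (r : ℕ) (hr : 0 < r) (a : K)
    (hra : θ ^ r = algebraMap K Ω a)
    (hmin : ∀ j : ℕ, 0 < j → θ ^ j ∈ (algebraMap K Ω).range → r ≤ j) :
    minpoly K θ = X ^ r - C a := by
  classical
  obtain ⟨c, hc⟩ := hθm
  have hint : IsIntegral K θ := by
    refine ⟨X ^ m - C c, monic_X_pow_sub_C c hm.ne', ?_⟩
    simp [hc]
  set q := minpoly K θ with hq
  have hqmonic : q.Monic := minpoly.monic hint
  have hqdvd : q ∣ X ^ r - C a := minpoly.dvd K θ (by simp [hra])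
  have hqm : q ∣ X ^ m - C c := minpoly.dvd K θ (by simp [hc])
  have hle : q.natDegree ≤ r := by
    have := natDegree_le_of_dvd hqdvd (monic_X_pow_sub_C a hr.ne').ne_zero
    rwa [natDegree_X_pow_sub_C] at this
  -- the other inequality
  have hge : r ≤ q.natDegree := by
    refine hmin _ (minpoly.natDegree_pos hint) ?_
    -- over an algebraic closure
    let Ω' := AlgebraicClosure Ω
    have hsplit : (q.map (algebraMap K Ω')).Splits := IsAlgClosed.splits _
    have hroots : ∀ ρ ∈ (q.map (algebraMap K Ω')).roots,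
        ∃ ζ : K, ρ = algebraMap K Ω' ζ * algebraMap Ω Ω' θ := by
      intro ρ hρ
      have h1 : ρ ^ m = (algebraMap Ω Ω' θ) ^ m := by
        have h2 : ((X ^ m - C c : K[X]).map (algebraMap K Ω')).IsRoot ρ :=
          (isRoot_of_mem_roots hρ).dvd (Polynomial.map_dvd _ hqm)
        rw [IsRoot.def] at h2
        simp only [Polynomial.map_sub, Polynomial.map_pow, map_X, map_C, eval_sub, eval_pow,
          eval_X, eval_C, sub_eq_zero] at h2
        rw [h2, ← map_pow, ← hc, ← IsScalarTower.algebraMap_apply]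
      exact exists_eq_mul_of_pow_eq hK hm
        ((map_ne_zero_iff _ (algebraMap Ω Ω').injective).2 hθ) h1
    -- product of the roots
    have hprod : ∃ z : K, z ≠ 0 ∧
        (q.map (algebraMap K Ω')).roots.prod
          = algebraMap K Ω' z * (algebraMap Ω Ω' θ) ^ (q.map (algebraMap K Ω')).roots.card := by
      have hne : ∀ ρ ∈ (q.map (algebraMap K Ω')).roots, ρ ≠ 0 := by
        intro ρ hρ h0
        obtain ⟨ζ, hζ⟩ := hroots ρ hρ
        have h1 : ((X ^ m - C c : K[X]).map (algebraMap K Ω')).IsRoot ρ :=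
          (isRoot_of_mem_roots hρ).dvd (Polynomial.map_dvd _ hqm)
        rw [IsRoot.def, h0] at h1
        simp only [Polynomial.map_sub, Polynomial.map_pow, map_X, map_C, eval_sub, eval_pow,
          eval_X, eval_C, zero_pow hm.ne', zero_sub, neg_eq_zero] at h1
        have hc0 : c = 0 := (map_eq_zero_iff _ (algebraMap K Ω').injective).1 h1
        rw [hc0, map_zero] at hc
        exact hθ (pow_eq_zero_iff hm.ne' |>.1 hc.symm)
      revert hroots hne
      generalize (q.map (algebraMap K Ω')).roots = s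
      induction s using Multiset.induction_on with
      | empty => intro _ _; exact ⟨1, one_ne_zero, by simp⟩
      | cons ρ s ih =>
        intro hroots hne
        obtain ⟨z, hz0, hz⟩ := ih (fun ρ' h' => hroots ρ' (Multiset.mem_cons_of_mem h'))
          (fun ρ' h' => hne ρ' (Multiset.mem_cons_of_mem h'))
        obtain ⟨ζ, hζ⟩ := hroots ρ (Multiset.mem_cons_self ρ s)
        have hζ0 : ζ ≠ 0 := by
          rintro rfl
          rw [map_zero, zero_mul] at hζ
          exact hne ρ (Multiset.mem_cons_self ρ s) hζ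
        refine ⟨ζ * z, mul_ne_zero hζ0 hz0, ?_⟩
        rw [Multiset.prod_cons, Multiset.card_cons, hz, hζ, map_mul, pow_succ]
        ring
    obtain ⟨z, hz0, hz⟩ := hprod
    have hcard : (q.map (algebraMap K Ω')).roots.card = q.natDegree := by
      rw [← hsplit.natDegree_eq_card_roots, natDegree_map]
    rw [hcard] at hz
    have h3 : (q.map (algebraMap K Ω')).coeff 0
        = (-1) ^ q.natDegree * (q.map (algebraMap K Ω')).roots.prod := by
      have := hsplit.eq_prod_roots_of_monic (hqmonic.map _)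
      conv_lhs => rw [this]
      rw [coeff_zero_eq_eval_zero, eval_multiset_prod, Multiset.map_map]
      simp only [Function.comp, eval_sub, eval_X, eval_C, zero_sub]
      rw [Multiset.prod_map_neg, hcard]
    rw [coeff_map, hz] at h3
    -- θ ^ natDegree q is in the range
    have h4 : algebraMap Ω Ω' (θ ^ q.natDegree)
        = algebraMap Ω Ω' (algebraMap K Ω ((-1) ^ q.natDegree * z⁻¹ * q.coeff 0)) := by
      rw [← IsScalarTower.algebraMap_apply, map_mul, map_mul, h3, map_pow, map_pow, map_neg,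
        map_one, map_inv₀]
      have hz' : algebraMap K Ω' z ≠ 0 := (map_ne_zero_iff _ (algebraMap K Ω').injective).2 hz0
      have h5 : ((-1 : Ω') ^ q.natDegree) * ((-1 : Ω') ^ q.natDegree) = 1 := by
        rw [← mul_pow, neg_mul_neg, one_mul, one_pow]
      have h6 : ((algebraMap K Ω') z)⁻¹ * (algebraMap K Ω') z = 1 := inv_mul_cancel₀ hz'
      calc (algebraMap Ω Ω') θ ^ q.natDegree
          = ((-1 : Ω') ^ q.natDegree * (-1) ^ q.natDegree) *
            (((algebraMap K Ω') z)⁻¹ * (algebraMap K Ω') z) *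
              (algebraMap Ω Ω') θ ^ q.natDegree := by rw [h5, h6, one_mul, one_mul]
        _ = _ := by ring
    exact ⟨_, ((algebraMap Ω Ω').injective h4).symm⟩
  exact (eq_of_monic_of_dvd_of_natDegree_le hqmonic (monic_X_pow_sub_C a hr.ne') hqdvd
    (by rw [natDegree_X_pow_sub_C]; exact hge)).symm

include hK in
theorem exists_common_exponent (m : ℕ) (hm : 0 < m) (c : K) (hc : c ≠ 0) :
    ∃ r : ℕ, 0 < r ∧ ∀ q : K[X], q.Monic → Irreducible q → q ∣ X ^ m - C c →
      ∃ a : K, q = X ^ r - C a := by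
  classical
  let Ω₀ := AlgebraicClosure K
  obtain ⟨θ₀, hθ₀⟩ := IsAlgClosed.exists_pow_nat_eq (algebraMap K Ω₀ c) hm
  have hθ₀0 : θ₀ ≠ 0 := by
    rintro rfl
    rw [zero_pow hm.ne'] at hθ₀
    exact hc ((map_eq_zero_iff _ (algebraMap K Ω₀).injective).1 hθ₀.symm)
  have hex : ∃ j : ℕ, 0 < j ∧ θ₀ ^ j ∈ (algebraMap K Ω₀).range := ⟨m, hm, ⟨c, hθ₀.symm⟩⟩
  refine ⟨Nat.find hex, (Nat.find_spec hex).1, fun q hqmonic hqirr hqdvd => ?_⟩
  obtain ⟨θ, hθ⟩ := IsAlgClosed.exists_aeval_eq_zero Ω₀ q
    (degree_pos_of_irreducible hqirr).ne'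
  have hθm : θ ^ m = algebraMap K Ω₀ c := by
    obtain ⟨q', hq'⟩ := hqdvd
    have := congrArg (aeval θ) hq'
    rw [map_mul, hθ, zero_mul] at this
    simpa [sub_eq_zero] using this
  have hθ0 : θ ≠ 0 := by
    rintro rfl
    rw [zero_pow hm.ne'] at hθm
    exact hc ((map_eq_zero_iff _ (algebraMap K Ω₀).injective).1 hθm.symm)
  obtain ⟨ζ, hζ⟩ := exists_eq_mul_of_pow_eq hK hm hθ₀0 (hθm.trans hθ₀.symm)
  have hζ0 : ζ ≠ 0 := by
    rintro rfl
    rw [map_zero, zero_mul] at hζ
    exact hθ0 hζ
  have hiff : ∀ j : ℕ, θ ^ j ∈ (algebraMap K Ω₀).range ↔ θ₀ ^ j ∈ (algebraMap K Ω₀).range := by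
    intro j
    rw [hζ, mul_pow, ← map_pow]
    constructor
    · rintro ⟨y, hy⟩
      refine ⟨(ζ ^ j)⁻¹ * y, ?_⟩
      rw [map_mul, hy, map_inv₀, ← mul_assoc, inv_mul_cancel₀, one_mul]
      exact (map_ne_zero_iff _ (algebraMap K Ω₀).injective).2 (pow_ne_zero j hζ0)
    · rintro ⟨y, hy⟩
      exact ⟨ζ ^ j * y, by rw [map_mul, hy]⟩
  obtain ⟨a, ha⟩ := (hiff _).2 (Nat.find_spec hex).2
  refine ⟨a, ?_⟩
  rw [minpoly.eq_of_irreducible_of_monic hqirr hθ hqmonic]
  exact minpoly_of_pow_mem hK hm θ hθ0 ⟨c, hθm.symm⟩ (Nat.find hex) (Nat.find_spec hex).1 a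
    ha.symm (fun j hj hjr => Nat.find_min' hex ⟨hj, (hiff j).1 hjr⟩)

end kummer

section factor
variable {K : Type u} [Field K]

theorem exists_multiset_of_factors (r : ℕ) (P : K[X]) (hP : P.Monic)
    (h : ∀ q : K[X], q.Monic → Irreducible q → q ∣ P → ∃ a : K, q = X ^ r - C a) :
    ∃ s : Multiset K, P = (s.map fun a : K => X ^ r - C a).prod := by
  classical
  have hP0 : P ≠ 0 := hP.ne_zero
  have h1 : ∀ f ∈ UniqueFactorizationMonoid.normalizedFactors P, ∃ a : K, f = X ^ r - C a := by
    intro f hf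
    have hirr := UniqueFactorizationMonoid.irreducible_of_normalized_factor f hf
    have hmon : f.Monic := by
      rw [← UniqueFactorizationMonoid.normalize_normalized_factor f hf]
      exact Polynomial.monic_normalize hirr.ne_zero
    exact h f hmon hirr (UniqueFactorizationMonoid.dvd_of_mem_normalizedFactors hf)
  have h2 : (UniqueFactorizationMonoid.normalizedFactors P).prod = P := by
    rw [UniqueFactorizationMonoid.prod_normalizedFactors_eq hP0, hP.normalize_eq_self]
  refine ⟨(UniqueFactorizationMonoid.normalizedFactors P).map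
    (fun f => if hf : ∃ a : K, f = X ^ r - C a then hf.choose else 0), ?_⟩
  rw [Multiset.map_map]
  conv_lhs => rw [← h2, ← Multiset.map_id (UniqueFactorizationMonoid.normalizedFactors P)]
  congr 1
  refine Multiset.map_congr rfl (fun f hf => ?_)
  have := h1 f hf
  simp only [Function.comp, dif_pos this, id]
  exact this.choose_spec

theorem natDegree_prod_X_pow_sub_C (r : ℕ) (hr : 0 < r) (s : Multiset K) :
    (s.map fun a : K => X ^ r - C a).prod.natDegree = r * Multiset.card s := by
  rw [natDegree_multiset_prod_of_monic]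
  · rw [Multiset.map_map]
    have : ∀ a ∈ s, (natDegree ∘ fun a : K => (X ^ r - C a : K[X])) a = r := by
      intro a _
      simp [natDegree_X_pow_sub_C]
    rw [Multiset.map_congr rfl this, Multiset.map_const', Multiset.sum_replicate, smul_eq_mul,
      mul_comm]
  · intro f hf
    obtain ⟨a, -, rfl⟩ := Multiset.mem_map.1 hf
    exact monic_X_pow_sub_C a hr.ne'

end factor

section eigen

theorem aeval_mulVec {K : Type u} {Ω : Type w} [Field K] [Field Ω] [Algebra K Ω] {n : ℕ}
    (M : Matrix (Fin n) (Fin n) Ω) (v : Fin n → Ω) (l : Ω) (h : M.mulVec v = l • v) (p : K[X]) :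
    (aeval M p).mulVec v = (aeval l p) • v := by
  have hpow : ∀ j : ℕ, (M ^ j).mulVec v = l ^ j • v := by
    intro j
    induction j with
    | zero => simp
    | succ j ih =>
      rw [pow_succ, ← Matrix.mulVec_mulVec, h, Matrix.mulVec_smul, ih, smul_smul, pow_succ,
        mul_comm]
  induction p using Polynomial.induction_on' with
  | add p q hp hq => rw [map_add, map_add, Matrix.add_mulVec, hp, hq, add_smul]
  | monomial j a =>
    rw [aeval_monomial, aeval_monomial, Algebra.algebraMap_eq_smul_one, smul_mul_assoc, one_mul,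
      Matrix.smul_mulVec, hpow, mul_smul, algebraMap_smul]

end eigen

section main
open Groth.Agent.Helper7.RedChar

variable (K : Type u) [Field K] (A : Type v) [Ring A] [Algebra K A] [Algebra.IsCentral K A]
  [IsSimpleRing A] [FiniteDimensional K A]

/-- every irreducible factor of the reduced characteristic polynomial divides the minimal
polynomial. -/
theorem dvd_minpoly_of_dvd_redCharpoly (x : A) (q : K[X]) (hq : q.Monic) (hirr : Irreducible q)
    (hdvd : q ∣ redCharpoly K A x) : q ∣ minpoly K x := by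
  classical
  let Ω := AlgebraicClosure (K₀ K A)
  let g : A →ₐ[K] Matrix (Fin (deg K A)) (Fin (deg K A)) Ω :=
    ((IsScalarTower.toAlgHom K (K₀ K A) Ω).mapMatrix).comp (f₀ K A)
  have hch := redCharpoly_map K A Ω (deg K A) (finrank_eq_deg K A) g x
  obtain ⟨l, hl⟩ := IsAlgClosed.exists_aeval_eq_zero Ω q (degree_pos_of_irreducible hirr).ne'
  have hroot : (g x).charpoly.eval l = 0 := by
    rw [← hch, eval_map_algebraMap]
    obtain ⟨q', hq'⟩ := hdvd
    rw [hq', map_mul, hl, zero_mul]
  rw [Matrix.eval_charpoly] at hroot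
  obtain ⟨v, hv0, hv⟩ := Matrix.exists_mulVec_eq_zero_iff.2 hroot
  have hMv : (g x).mulVec v = l • v := by
    rw [Matrix.sub_mulVec, sub_eq_zero] at hv
    rw [← hv]
    ext i
    simp [Matrix.mulVec, dotProduct, Matrix.scalar_apply, Matrix.diagonal_apply]
  have h1 := aeval_mulVec (K := K) (g x) v l hMv (minpoly K x)
  rw [Polynomial.aeval_algHom_apply, minpoly.aeval, map_zero, Matrix.zero_mulVec] at h1
  have h2 : aeval l (minpoly K x) = 0 := by
    by_contra hne
    apply hv0
    have := congrArg (fun w => (aeval l (minpoly K x))⁻¹ • w) h1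
    simpa [smul_smul, inv_mul_cancel₀ hne] using this.symm
  rw [minpoly.eq_of_irreducible_of_monic hirr hl hq]
  exact minpoly.dvd K l h2

theorem result15167
    (hK : ∀ n : ℕ, 0 < n → (X ^ n - 1 : K[X]).Splits)
    (n : ℕ) (hn : Module.finrank K A = n ^ 2)
    (x : A) (hx : IsUnit x) (hxm : ∃ m : ℕ, 0 < m ∧ x ^ m ∈ (algebraMap K A).range) :
    ∃ r : ℕ, 0 < r ∧ r ∣ n ∧
      ∃ s : Multiset K, minpoly K x = (s.map fun a : K => X ^ r - C a).prod := by
  classical
  obtain ⟨m, hm, c, hc⟩ := hxm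
  have hc0 : c ≠ 0 := by
    rintro rfl
    rw [map_zero] at hc
    have : IsUnit (x ^ m) := hx.pow m
    rw [← hc] at this
    exact not_isUnit_zero this
  obtain ⟨r, hr, hfac⟩ := exists_common_exponent hK m hm c hc0
  have hint : IsIntegral K x := Algebra.IsIntegral.isIntegral x
  have hμdvd : minpoly K x ∣ X ^ m - C c := minpoly.dvd K x (by simp [hc])
  have hnd : n = deg K A := eq_deg K A n (by rw [hn, pow_two])
  refine ⟨r, hr, ?_, ?_⟩
  · obtain ⟨s', hs'⟩ := exists_multiset_of_factors r (redCharpoly K A x) (redCharpoly_monic K A x)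
      (fun q hq hirr hdvd =>
        hfac q hq hirr ((dvd_minpoly_of_dvd_redCharpoly K A x q hq hirr hdvd).trans hμdvd))
    have h1 := congrArg natDegree hs'
    rw [redCharpoly_natDegree, natDegree_prod_X_pow_sub_C r hr, ← hnd] at h1
    exact ⟨_, h1⟩
  · exact exists_multiset_of_factors r (minpoly K x) (minpoly.monic hint)
      (fun q hq hirr hdvd => hfac q hq hirr (hdvd.trans hμdvd))

end main

end Groth.Agent.Helper7.KumMin
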