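import Mathlib

set_option autoImplicit false
universe u v w

namespace Groth.Agent.Helper7.KummerDed
open Polynomial nonZeroDivisors

section Tors
variable {A : Type u} {K : Type v} [CommRing A] [IsDedekindDomain A]
    [Field K] [Algebra A K] [IsFractionRing A K]

lemma le_one_of_pow_eq_one (J : FractionalIdeal A⁰ K) (n : ℕ) (hn : 0 < n) (h : J ^ n = 1) :
    J ≤ 1 := by
  intro x hx
  have hxn : ∀ k : ℕ, x ^ k ∈ J ^ k := by
    intro k
    induction k with
    | zero => rw [pow_zero, pow_zero]; exact FractionalIdeal.one_mem_one _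
    | succ k ih => rw [pow_succ, pow_succ]; exact FractionalIdeal.mul_mem_mul ih hx
  have h1 := hxn n
  rw [h, FractionalIdeal.mem_one_iff] at h1
  obtain ⟨a, ha⟩ := h1
  have hint : IsIntegral A (x ^ n) := by rw [← ha]; exact isIntegral_algebraMap
  have hint' : IsIntegral A x := IsIntegral.of_pow hn hint
  obtain ⟨y, hy⟩ := IsIntegrallyClosed.isIntegral_iff.mp hint'
  exact (FractionalIdeal.mem_one_iff _).mpr ⟨y, hy⟩

lemma eq_one_of_pow_eq_one (J : FractionalIdeal A⁰ K) (n : ℕ) (hn : 0 < n) (h : J ^ n = 1) :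
    J = 1 := by
  have hJ0 : J ≠ 0 := by
    rintro rfl
    rw [zero_pow hn.ne'] at h
    exact zero_ne_one h
  have h1 := le_one_of_pow_eq_one J n hn h
  have h2 : J⁻¹ ≤ 1 := by
    apply le_one_of_pow_eq_one J⁻¹ n hn
    rw [inv_pow, h, inv_one]
  apply le_antisymm h1
  calc (1 : FractionalIdeal A⁰ K) = J * J⁻¹ := (mul_inv_cancel₀ hJ0).symm
    _ ≤ J * 1 := mul_le_mul_right h2 J
    _ = J := mul_one J

lemma eq_of_pow_eq_pow (J₁ J₂ : FractionalIdeal A⁰ K) (hJ₂ : J₂ ≠ 0) (n : ℕ) (hn : 0 < n)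
    (h : J₁ ^ n = J₂ ^ n) : J₁ = J₂ := by
  have h1 : (J₁ * J₂⁻¹) ^ n = 1 := by
    rw [mul_pow, h, inv_pow, mul_inv_cancel₀ (pow_ne_zero n hJ₂)]
  have h2 := eq_one_of_pow_eq_one _ n hn h1
  calc J₁ = J₁ * J₂⁻¹ * J₂ := by rw [mul_assoc, inv_mul_cancel₀ hJ₂, mul_one]
    _ = J₂ := by rw [h2, one_mul]

end Tors

section Kummer
variable {K : Type v} {L : Type w} [Field K] [Field L] [Algebra K L]

/-- `α^m ∈ K` for `m = deg minpoly α` when `α^n ∈ K` and `K` has a primitive `n`-th root. -/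
lemma exists_pow_natDegree_minpoly (n : ℕ) (hn : 0 < n) (ζ : K) (hζ : IsPrimitiveRoot ζ n)
    (f : K) (hf : f ≠ 0) (α : L) (hα : α ^ n = algebraMap K L f) :
    ∃ g₀ : K, α ^ (minpoly K α).natDegree = algebraMap K L g₀ := by
  haveI : NeZero n := ⟨hn.ne'⟩
  have hα0 : α ≠ 0 := by
    rintro rfl
    rw [zero_pow hn.ne'] at hα
    exact hf ((map_eq_zero _).mp hα.symm)
  have hint : IsIntegral K α := by
    refine ⟨X ^ n - C f, monic_X_pow_sub_C f hn.ne', ?_⟩
    simp [hα]
  set g := minpoly K α with hg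
  have hgmonic : g.Monic := minpoly.monic hint
  have hdvd : g ∣ X ^ n - C f := by
    apply minpoly.dvd
    simp [hα]
  have hζL : IsPrimitiveRoot (algebraMap K L ζ) n := hζ.map_of_injective (algebraMap K L).injective
  have hsplit0 : ((X : L[X]) ^ n - C (algebraMap K L f)).Splits :=
    X_pow_sub_C_splits_of_isPrimitiveRoot hζL hα
  have hne0 : ((X : L[X]) ^ n - C (algebraMap K L f)) ≠ 0 :=
    (monic_X_pow_sub_C _ hn.ne').ne_zero
  have hdvdL : g.map (algebraMap K L) ∣ (X : L[X]) ^ n - C (algebraMap K L f) := by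
    have := Polynomial.map_dvd (algebraMap K L) hdvd
    simpa using this
  have hsplit : (g.map (algebraMap K L)).Splits := hsplit0.of_dvd hne0 hdvdL
  have hmonicL : (g.map (algebraMap K L)).Monic := hgmonic.map _
  have hcoeff := hsplit.coeff_zero_eq_prod_roots_of_monic hmonicL
  have hcard : Multiset.card (g.map (algebraMap K L)).roots = g.natDegree := by
    rw [← hsplit.natDegree_eq_card_roots, hgmonic.natDegree_map]
  -- every root is a K-multiple of α
  have hroot : ∀ r ∈ (g.map (algebraMap K L)).roots, ∃ c : K, c ≠ 0 ∧ r = algebraMap K L c * α := by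
    intro r hr
    have hr1 : (g.map (algebraMap K L)).IsRoot r := (Polynomial.mem_roots'.mp hr).2
    have hr2 : ((X : L[X]) ^ n - C (algebraMap K L f)).IsRoot r := hr1.dvd hdvdL
    have hr3 : r ^ n = algebraMap K L f := by
      have := hr2
      simp only [IsRoot.def, eval_sub, eval_pow, eval_X, eval_C] at this
      exact sub_eq_zero.mp this
    have h1 : (r / α) ^ n = 1 := by
      rw [div_pow, hr3, hα, div_self]
      rw [← hα]; exact pow_ne_zero n hα0
    obtain ⟨j, _, hj⟩ := hζL.eq_pow_of_pow_eq_one h1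
    refine ⟨ζ ^ j, pow_ne_zero j (hζ.ne_zero hn.ne'), ?_⟩
    rw [map_pow, hj, div_mul_cancel₀ r hα0]
  have hprod : ∀ s : Multiset L, (∀ r ∈ s, ∃ c : K, c ≠ 0 ∧ r = algebraMap K L c * α) →
      ∃ c : K, c ≠ 0 ∧ s.prod = algebraMap K L c * α ^ (Multiset.card s) := by
    intro s
    induction s using Multiset.induction_on with
    | empty => intro _; exact ⟨1, one_ne_zero, by simp⟩
    | cons a s ih =>
      intro h
      obtain ⟨c, hc0, hc⟩ := ih (fun r hr => h r (Multiset.mem_cons_of_mem hr))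
      obtain ⟨c', hc'0, hc'⟩ := h a (Multiset.mem_cons_self a s)
      refine ⟨c' * c, mul_ne_zero hc'0 hc0, ?_⟩
      rw [Multiset.prod_cons, hc, hc', Multiset.card_cons, map_mul, pow_succ]
      ring
  obtain ⟨c, hc0, hc⟩ := hprod _ hroot
  rw [hcard] at hc
  rw [hc, coeff_map, hgmonic.natDegree_map] at hcoeff
  refine ⟨(-1) ^ g.natDegree * g.coeff 0 / c, ?_⟩
  rw [map_div₀, map_mul, hcoeff, map_pow, map_neg, map_one]
  have hcL : algebraMap K L c ≠ 0 := (_root_.map_ne_zero _).mpr hc0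
  field_simp
  rw [← pow_mul, mul_comm, pow_mul, neg_one_sq, one_pow]

end Kummer

theorem result
    {A : Type u} {K : Type v} {L : Type w} [CommRing A] [IsDedekindDomain A]
    [Field K] [Algebra A K] [IsFractionRing A K]
    [Field L] [Algebra K L]
    (n : ℕ) (hn : IsUnit (n : A)) (ζ : K) (hζ : IsPrimitiveRoot ζ n) (f : K) (hf : f ≠ 0)
    (I : (FractionalIdeal A⁰ K)ˣ)
    (hI : FractionalIdeal.spanSingleton A⁰ f = (I : FractionalIdeal A⁰ K) ^ n)
    (hord : orderOf (ClassGroup.mk K I) = n)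
    (α : L) (hα : α ^ n = algebraMap K L f) (hgen : IntermediateField.adjoin K {α} = ⊤) :
    IsGalois K L ∧ IsCyclic (L ≃ₐ[K] L) ∧ Module.finrank K L = n := by
  have hn0 : n ≠ 0 := by
    rintro rfl
    rw [Nat.cast_zero] at hn
    exact not_isUnit_zero hn
  have hnpos : 0 < n := Nat.pos_of_ne_zero hn0
  have hint : IsIntegral K α := ⟨X ^ n - C f, monic_X_pow_sub_C f hn0, by simp [hα]⟩
  obtain ⟨g₀, hg₀⟩ := exists_pow_natDegree_minpoly n hnpos ζ hζ f hf α hα
  set m := (minpoly K α).natDegree with hm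
  have hmpos : 0 < m := minpoly.natDegree_pos hint
  have hmle : m ≤ n := by
    have hdvd : minpoly K α ∣ X ^ n - C f := minpoly.dvd _ _ (by simp [hα])
    have := natDegree_le_of_dvd hdvd (monic_X_pow_sub_C f hn0).ne_zero
    rwa [natDegree_X_pow_sub_C] at this
  have hpow : g₀ ^ n = f ^ m := by
    apply (algebraMap K L).injective
    rw [map_pow, map_pow, ← hg₀, ← hα, ← pow_mul, ← pow_mul, mul_comm]
  have hg₀0 : g₀ ≠ 0 := by
    rintro rfl
    rw [zero_pow hn0] at hpow
    exact pow_ne_zero m hf hpow.symm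
  have hid : (FractionalIdeal.spanSingleton A⁰ g₀) ^ n
      = ((I : FractionalIdeal A⁰ K) ^ m) ^ n := by
    rw [FractionalIdeal.spanSingleton_pow, hpow, ← FractionalIdeal.spanSingleton_pow, hI,
      ← pow_mul, ← pow_mul, mul_comm]
  have hIm0 : (I : FractionalIdeal A⁰ K) ^ m ≠ 0 := pow_ne_zero m I.ne_zero
  have heq := eq_of_pow_eq_pow _ _ hIm0 n hnpos hid
  have hprinc : ClassGroup.mk K (I ^ m) = 1 := by
    rw [ClassGroup.mk_eq_one_iff, Units.val_pow_eq_pow_val, ← heq,
      FractionalIdeal.coe_spanSingleton]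
    exact ⟨⟨g₀, rfl⟩⟩
  rw [map_pow] at hprinc
  have hdvd := orderOf_dvd_of_pow_eq_one hprinc
  rw [hord] at hdvd
  have hmn : m = n := le_antisymm hmle (Nat.le_of_dvd hmpos hdvd)
  haveI : FiniteDimensional K L := by
    have h1 : FiniteDimensional K (IntermediateField.adjoin K {α}) :=
      IntermediateField.adjoin.finiteDimensional hint
    rw [hgen] at h1
    exact (IntermediateField.topEquiv (F := K) (E := L)).toLinearEquiv.finiteDimensional
  have hfr : Module.finrank K L = n := by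
    rw [← IntermediateField.finrank_top', ← hgen, IntermediateField.adjoin.finrank hint, ← hm, hmn]
  have hK : (primitiveRoots (Module.finrank K L) K).Nonempty := by
    rw [hfr]; exact ⟨ζ, (mem_primitiveRoots hnpos).mpr hζ⟩
  have htfae := isCyclic_tfae K L hK
  have h3 : ∃ (α : L), α ^ (Module.finrank K L) ∈ Set.range (algebraMap K L) ∧
      IntermediateField.adjoin K {α} = ⊤ :=
    ⟨α, by rw [hfr, hα]; exact ⟨f, rfl⟩, hgen⟩
  have h1 := (htfae.out 2 0).mp h3
  exact ⟨h1.1, h1.2, hfr⟩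

end Groth.Agent.Helper7.KummerDed
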