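import Mathlib
import Groth.Agent.Helper7.KunS7

/-!
# Künneth project, part S8: the beginning of the long exact sequence of a surjection of graded differential
vector spaces, as a dimension count.
-/

set_option autoImplicit false
set_option linter.unusedSectionVars false
set_option linter.style.haveILetI false

namespace Groth.Agent.Helper7.KunLA

open TensorProduct Module

section Abstract

variable {k : Type*} [Field k] {L H₁ H₂ Z₀ : Type*} [AddCommGroup L] [Module k L] [AddCommGroup H₁]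
  [Module k H₁] [AddCommGroup H₂] [Module k H₂] [AddCommGroup Z₀] [Module k Z₀]

/-- the comparison map between two quotients of the same space -/
theorem exists_delta (f₁ : L →ₗ[k] H₁) (f₂ : L →ₗ[k] H₂) (h₁ : Function.Surjective f₁)
    (h₂ : Function.Surjective f₂) (j : Z₀ →ₗ[k] L)
    (hk : LinearMap.ker f₂ = LinearMap.ker f₁ ⊔ LinearMap.range j) :
    ∃ δ : H₁ →ₗ[k] H₂, Function.Surjective δ ∧ LinearMap.ker δ = LinearMap.range (f₁ ∘ₗ j) := by
  have hle : LinearMap.ker f₁ ≤ LinearMap.ker f₂ := hk ▸ le_sup_left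
  let δ : H₁ →ₗ[k] H₂ := ((LinearMap.ker f₁).liftQ f₂ hle) ∘ₗ
    (f₁.quotKerEquivOfSurjective h₁).symm.toLinearMap
  have hδ : ∀ l, δ (f₁ l) = f₂ l := by
    intro l
    have e : (f₁.quotKerEquivOfSurjective h₁).symm (f₁ l) = Submodule.Quotient.mk l := by
      rw [LinearEquiv.symm_apply_eq]
      rfl
    show (LinearMap.ker f₁).liftQ f₂ hle ((f₁.quotKerEquivOfSurjective h₁).symm (f₁ l)) = f₂ l
    rw [e]
    rfl
  have hδs : Function.Surjective δ := by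
    intro y
    obtain ⟨l, rfl⟩ := h₂ y
    exact ⟨f₁ l, hδ l⟩
  refine ⟨δ, hδs, ?_⟩
  ext x
  obtain ⟨l, rfl⟩ := h₁ x
  rw [LinearMap.mem_ker, hδ, ← LinearMap.mem_ker, hk, Submodule.mem_sup]
  constructor
  · rintro ⟨y, hy, z, ⟨z₀, rfl⟩, rfl⟩
    refine ⟨z₀, ?_⟩
    rw [LinearMap.comp_apply, map_add, LinearMap.mem_ker.mp hy, zero_add]
  · rintro ⟨z₀, hz₀⟩
    rw [LinearMap.comp_apply] at hz₀
    refine ⟨l - j z₀, ?_, j z₀, ⟨z₀, rfl⟩, by abel⟩
    rw [LinearMap.mem_ker, map_sub, hz₀, sub_self]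

/-- a dimension count for two quotients of the same space -/
theorem finrank_of_ker_eq_sup (f₁ : L →ₗ[k] H₁) (f₂ : L →ₗ[k] H₂) (h₁ : Function.Surjective f₁)
    (h₂ : Function.Surjective f₂) (j : Z₀ →ₗ[k] L)
    (hk : LinearMap.ker f₂ = LinearMap.ker f₁ ⊔ LinearMap.range j)
    [FiniteDimensional k H₂] [FiniteDimensional k Z₀] :
    FiniteDimensional k H₁ ∧
      finrank k H₁ + finrank k ↥(LinearMap.ker (f₁ ∘ₗ j)) = finrank k H₂ + finrank k Z₀ := by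
  obtain ⟨δ, hδs, hker⟩ := exists_delta f₁ f₂ h₁ h₂ j hk
  haveI : FiniteDimensional k ↥(LinearMap.ker δ) := by
    rw [hker]
    infer_instance
  haveI : FiniteDimensional k (H₁ ⧸ LinearMap.ker δ) :=
    Module.Finite.equiv (δ.quotKerEquivOfSurjective hδs).symm
  haveI hfin : FiniteDimensional k H₁ := Module.Finite.of_submodule_quotient (LinearMap.ker δ)
  refine ⟨hfin, ?_⟩
  have e1 := LinearMap.finrank_range_add_finrank_ker δ
  have e2 := LinearMap.finrank_range_add_finrank_ker (f₁ ∘ₗ j)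
  rw [LinearMap.range_eq_top.mpr hδs, finrank_top] at e1
  rw [hker] at e1
  omega

/-- a dimension count for two quotients of the same space, second form -/
theorem finrank_of_ker_eq_sup' (f₁ : L →ₗ[k] H₁) (f₂ : L →ₗ[k] H₂) (h₁ : Function.Surjective f₁)
    (h₂ : Function.Surjective f₂) (j : Z₀ →ₗ[k] L)
    (hk : LinearMap.ker f₂ = LinearMap.ker f₁ ⊔ LinearMap.range j)
    [FiniteDimensional k H₁] [FiniteDimensional k Z₀] :
    finrank k H₁ + finrank k ↥(LinearMap.ker (f₁ ∘ₗ j)) = finrank k H₂ + finrank k Z₀ := by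
  obtain ⟨δ, hδs, hker⟩ := exists_delta f₁ f₂ h₁ h₂ j hk
  have e1 := LinearMap.finrank_range_add_finrank_ker δ
  have e2 := LinearMap.finrank_range_add_finrank_ker (f₁ ∘ₗ j)
  rw [LinearMap.range_eq_top.mpr hδs, finrank_top] at e1
  rw [hker] at e1
  omega

end Abstract

namespace DG

variable {k : Type*} [Field k]

section Conn0

variable {A : Type*} [AddCommGroup A] [Module k A] (CA : DG k A)
  {Q : Type*} [AddCommGroup Q] [Module k Q] (CQ : DG k Q)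
  (ρ : A →ₗ[k] Q) (hρ : CA.Hom CQ ρ) (hsurj : Function.Surjective ρ)

theorem Zs_top_zero_le_connL : CA.Zs ⊤ 0 ≤ connL CA ρ 0 := by
  intro z hz
  obtain ⟨-, h1, h2⟩ := CA.mem_Zs.mp hz
  refine ⟨CA.mem_range_π.mpr h1, ?_⟩
  show CA.d z ∈ LinearMap.ker ρ
  rw [h2]
  exact Submodule.zero_mem _

theorem mem_ker_connF₁_zero (a : ↥(connL CA ρ 0)) :
    a ∈ LinearMap.ker (connF₁ CA CQ ρ hρ 0) ↔ ρ a.1 = 0 := by
  unfold connF₁
  rw [LinearMap.mem_ker, LinearMap.comp_apply, Submodule.mkQ_apply,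
    Submodule.Quotient.mk_eq_zero, Submodule.mem_comap]
  show ρ a.1 ∈ CQ.Bs ⊤ 0 ↔ _
  constructor
  · intro h
    obtain ⟨y, -, hy, hya⟩ := CQ.mem_Bs.mp h
    have : y = 0 := (Submodule.mem_bot k).mp hy
    rw [this, map_zero] at hya
    exact hya.symm
  · intro h
    rw [h]
    exact Submodule.zero_mem _

theorem mem_ker_connF₂_zero (a : ↥(connL CA ρ 0)) :
    a ∈ LinearMap.ker (connF₂ CA ρ 0) ↔ CA.d a.1 ∈ CA.Bs (LinearMap.ker ρ) 1 := by
  unfold connF₂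
  rw [LinearMap.mem_ker, LinearMap.comp_apply, Submodule.mkQ_apply,
    Submodule.Quotient.mk_eq_zero, Submodule.mem_comap]
  rfl

theorem ker_connF₂_zero :
    LinearMap.ker (connF₂ CA ρ 0) = LinearMap.ker (connF₁ CA CQ ρ hρ 0) ⊔
      LinearMap.range (Submodule.inclusion (Zs_top_zero_le_connL CA ρ)) := by
  apply le_antisymm
  · intro a ha
    rw [mem_ker_connF₂_zero] at ha
    obtain ⟨κ, hκ1, ⟨κ', rfl⟩, hκ3⟩ := CA.mem_Bs.mp ha
    obtain ⟨ha1, ha2⟩ := a.2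
    have ha1' : CA.π 0 a.1 = a.1 := (CA.mem_range_π).mp ha1
    have hκL : CA.π 0 κ' ∈ connL CA ρ 0 := by
      refine ⟨⟨_, rfl⟩, ?_⟩
      show CA.d (CA.π 0 κ') ∈ LinearMap.ker ρ
      rw [hκ3]
      exact ha2
    have hz : a.1 - CA.π 0 κ' ∈ CA.Zs ⊤ 0 := by
      refine CA.mem_Zs.mpr ⟨trivial, ?_, ?_⟩
      · rw [map_sub, ha1', CA.ππ]
      · rw [map_sub, hκ3, sub_self]
    rw [Submodule.mem_sup]
    refine ⟨⟨CA.π 0 κ', hκL⟩, ?_, Submodule.inclusion (Zs_top_zero_le_connL CA ρ) ⟨_, hz⟩,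
      ⟨_, rfl⟩, ?_⟩
    · rw [mem_ker_connF₁_zero]
      exact LinearMap.mem_ker.mp hκ1
    · apply Subtype.ext
      show CA.π 0 κ' + (a.1 - CA.π 0 κ') = a.1
      abel
  · apply sup_le
    · intro a ha
      rw [mem_ker_connF₁_zero] at ha
      rw [mem_ker_connF₂_zero]
      obtain ⟨ha1, ha2⟩ := a.2
      exact CA.mem_Bs.mpr ⟨a.1, LinearMap.mem_ker.mpr ha, ha1, rfl⟩
    · rintro _ ⟨z, rfl⟩
      rw [mem_ker_connF₂_zero]
      have : CA.d (Submodule.inclusion (Zs_top_zero_le_connL CA ρ) z).1 = 0 :=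
        (CA.mem_Zs.mp z.2).2.2
      rw [this]
      exact Submodule.zero_mem _

theorem ker_connF₁_comp_inclusion :
    LinearMap.ker (connF₁ CA CQ ρ hρ 0 ∘ₗ Submodule.inclusion (Zs_top_zero_le_connL CA ρ)) =
      (CA.Zs (LinearMap.ker ρ) 0).comap (CA.Zs ⊤ 0).subtype := by
  ext z
  rw [LinearMap.mem_ker, LinearMap.comp_apply, ← LinearMap.mem_ker, mem_ker_connF₁_zero,
    Submodule.mem_comap]
  show ρ z.1 = 0 ↔ z.1 ∈ CA.Zs (LinearMap.ker ρ) 0
  obtain ⟨-, h1, h2⟩ := CA.mem_Zs.mp z.2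
  rw [CA.mem_Zs, LinearMap.mem_ker]
  exact ⟨fun h => ⟨h, h1, h2⟩, fun h => h.1⟩

theorem Zs_mono {U U' : Submodule k A} (h : U ≤ U') (n : ℕ) : CA.Zs U n ≤ CA.Zs U' n := by
  intro z hz
  obtain ⟨h0, h1, h2⟩ := CA.mem_Zs.mp hz
  exact CA.mem_Zs.mpr ⟨h h0, h1, h2⟩

include hρ hsurj in
/-- the beginning of the long exact sequence, as a dimension count:
`0 → Z^0(ker ρ) → Z^0(A) → H^0(Q) → H^1(ker ρ) → H^1(A) = 0` -/
theorem conn0_finrank (h1 : CA.Zs ⊤ 1 ≤ CA.Bs ⊤ 1)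
    [FiniteDimensional k (CA.Hs (LinearMap.ker ρ) 1)] [FiniteDimensional k ↥(CA.Zs ⊤ 0)] :
    FiniteDimensional k (CQ.Hs ⊤ 0) ∧
      finrank k (CQ.Hs ⊤ 0) + finrank k ↥(CA.Zs (LinearMap.ker ρ) 0) =
        finrank k (CA.Hs (LinearMap.ker ρ) 1) + finrank k ↥(CA.Zs ⊤ 0) := by
  obtain ⟨hfin, h⟩ := finrank_of_ker_eq_sup (connF₁ CA CQ ρ hρ 0) (connF₂ CA ρ 0)
    (connF₁_surjective CA CQ ρ hρ hsurj 0) (connF₂_surjective CA ρ 0 h1)
    (Submodule.inclusion (Zs_top_zero_le_connL CA ρ)) (ker_connF₂_zero CA CQ ρ hρ)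
  refine ⟨hfin, ?_⟩
  rw [ker_connF₁_comp_inclusion] at h
  rw [← h]
  congr 1
  exact (Submodule.comapSubtypeEquivOfLe (CA.Zs_mono le_top 0)).finrank_eq.symm

include hρ hsurj in
/-- the same dimension count, assuming that `H^0(Q)` is finite-dimensional -/
theorem conn0_finrank' (h1 : CA.Zs ⊤ 1 ≤ CA.Bs ⊤ 1)
    [FiniteDimensional k (CQ.Hs ⊤ 0)] [FiniteDimensional k ↥(CA.Zs ⊤ 0)] :
    finrank k (CQ.Hs ⊤ 0) + finrank k ↥(CA.Zs (LinearMap.ker ρ) 0) =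
      finrank k (CA.Hs (LinearMap.ker ρ) 1) + finrank k ↥(CA.Zs ⊤ 0) := by
  have h := finrank_of_ker_eq_sup' (connF₁ CA CQ ρ hρ 0) (connF₂ CA ρ 0)
    (connF₁_surjective CA CQ ρ hρ hsurj 0) (connF₂_surjective CA ρ 0 h1)
    (Submodule.inclusion (Zs_top_zero_le_connL CA ρ)) (ker_connF₂_zero CA CQ ρ hρ)
  rw [ker_connF₁_comp_inclusion] at h
  rw [← h]
  congr 1
  exact (Submodule.comapSubtypeEquivOfLe (CA.Zs_mono le_top 0)).finrank_eq.symm

end Conn0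

end DG

end Groth.Agent.Helper7.KunLA
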