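import Mathlib
import Groth.Agent.Helper7.KunS8

/-!
# Künneth project, part S9: the cohomology of `ker (V ⊗ W → V/V' ⊗ W/W')` for two resolutions `V`, `W`
with subcomplexes `V'`, `W'`, without assumptions on the cohomology of `V'`, `W'` in degree one.
-/

set_option autoImplicit false
set_option linter.unusedSectionVars false
set_option linter.style.haveILetI false

namespace Groth.Agent.Helper7.KunLA

open TensorProduct Module

theorem kun_arith_general (A B α β : ℕ → ℕ) (hA : ∀ i, 1 ≤ i → A i = α (i + 1))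
    (hB : ∀ i, 1 ≤ i → B i = β (i + 1)) (r : ℕ) :
    ∑ i ∈ Finset.range (r + 2), A i * B (r + 1 - i) =
      A 0 * β (r + 2) + α (r + 2) * B 0 +
        ∑ i ∈ Finset.range r, α (i + 2) * β (r + 1 - i) := by
  rw [Finset.sum_range_succ' _ (r + 1), Finset.sum_range_succ _ r]
  rw [Nat.sub_zero, hB (r + 1) (by omega), Nat.sub_self, hA (r + 1) (by omega)]
  have e : ∑ x ∈ Finset.range r, A (x + 1) * B (r + 1 - (x + 1)) =
      ∑ i ∈ Finset.range r, α (i + 2) * β (r + 1 - i) := by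
    apply Finset.sum_congr rfl
    intro x hx
    rw [Finset.mem_range] at hx
    rw [hA (x + 1) (by omega), hB (r + 1 - (x + 1)) (by omega),
      show r + 1 - (x + 1) + 1 = r + 1 - x by omega]
  rw [e]
  ring

theorem kun_arith_depth_one (a b : ℕ) (α β : ℕ → ℕ) (hα0 : α 0 = 0) (hβ0 : β 0 = 0) (r : ℕ) :
    (α 1 + a) * β (r + 2) + α (r + 2) * (β 1 + b) +
        ∑ i ∈ Finset.range r, α (i + 2) * β (r + 1 - i) =
      a * β (r + 2) + α (r + 2) * b + ∑ i ∈ Finset.range (r + 4), α i * β (r + 3 - i) := by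
  rw [show r + 4 = (r + 2) + 1 + 1 by omega, Finset.sum_range_succ' _ (r + 2 + 1),
    Finset.sum_range_succ' _ (r + 2), Finset.sum_range_succ _ (r + 1), Finset.sum_range_succ _ r]
  have e2 : r + 3 - (r + 1 + 1) = 1 := by omega
  have e3 : r + 3 - (r + 1 + 1 + 1) = 0 := by omega
  have e4 : r + 3 - (0 + 1) = r + 2 := by omega
  rw [hα0, zero_mul, add_zero, e2, e3, hβ0, mul_zero, add_zero, e4]
  have e5 : ∑ x ∈ Finset.range r, α (x + 1 + 1) * β (r + 3 - (x + 1 + 1)) =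
      ∑ i ∈ Finset.range r, α (i + 2) * β (r + 1 - i) := by
    apply Finset.sum_congr rfl
    intro x hx
    rw [Finset.mem_range] at hx
    rw [show r + 3 - (x + 1 + 1) = r + 1 - x by omega]
  rw [e5]
  ring

namespace DG

variable {k : Type*} [Field k] {V : Type*} [AddCommGroup V] [Module k V] (C : DG k V)
  {W : Type*} [AddCommGroup W] [Module k W] (C' : DG k W)
  (V' : Submodule k V) (hV' : C.Stable V') (W' : Submodule k W) (hW' : C'.Stable W')

/-- the cohomology of the quotient in degree zero -/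
theorem quot_Hs_zero_finrank (h1 : C.Zs ⊤ 1 ≤ C.Bs ⊤ 1) (hfV0 : FiniteDimensional k ↥(C.Zs ⊤ 0))
    (hfV1 : FiniteDimensional k (C.Hs V' 1)) :
    FiniteDimensional k ((C.quot V' hV').Hs ⊤ 0) ∧
      finrank k ((C.quot V' hV').Hs ⊤ 0) + finrank k ↥(C.Zs V' 0) =
        finrank k (C.Hs V' 1) + finrank k ↥(C.Zs ⊤ 0) := by
  haveI : FiniteDimensional k (C.Hs (LinearMap.ker V'.mkQ) 1) :=
    Module.Finite.equiv (C.HsCongr V'.ker_mkQ 1).symm
  obtain ⟨hfin, h⟩ := conn0_finrank C (C.quot V' hV') V'.mkQ (C.hom_mkQ V' hV')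
    V'.mkQ_surjective h1
  refine ⟨hfin, ?_⟩
  rw [(C.HsCongr V'.ker_mkQ 1).finrank_eq] at h
  have e : finrank k ↥(C.Zs (LinearMap.ker V'.mkQ) 0) = finrank k ↥(C.Zs V' 0) := by
    rw [V'.ker_mkQ]
  rw [e] at h
  exact h

theorem finrank_Zs_tensor_zero (S : C.Split) (S' : C'.Split) [FiniteDimensional k ↥(C.Zs ⊤ 0)]
    [FiniteDimensional k ↥(C'.Zs ⊤ 0)] :
    FiniteDimensional k ↥((C.tensor C').Zs ⊤ 0) ∧
      finrank k ↥((C.tensor C').Zs ⊤ 0) = finrank k ↥(C.Zs ⊤ 0) * finrank k ↥(C'.Zs ⊤ 0) := by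
  rw [tensor_Zs_zero S S']
  have hinj : Function.Injective (TensorProduct.map (C.Zs ⊤ 0).subtype (C'.Zs ⊤ 0).subtype) :=
    TensorProduct.map_injective_of_flat_flat _ _ (Submodule.subtype_injective _)
      (Submodule.subtype_injective _)
  refine ⟨Module.Finite.equiv (LinearEquiv.ofInjective _ hinj), ?_⟩
  rw [← (LinearEquiv.ofInjective _ hinj).finrank_eq, finrank_tensorProduct]

variable (hVa : ∀ n, 1 ≤ n → C.Zs ⊤ n ≤ C.Bs ⊤ n) (hWa : ∀ n, 1 ≤ n → C'.Zs ⊤ n ≤ C'.Bs ⊤ n)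

include hVa in
theorem finite_quot_Hs (hfV0 : FiniteDimensional k ↥(C.Zs ⊤ 0))
    (hfV : ∀ i, FiniteDimensional k (C.Hs V' i)) (i : ℕ) :
    FiniteDimensional k ((C.quot V' hV').Hs ⊤ i) := by
  by_cases hi : i = 0
  · subst hi
    exact (C.quot_Hs_zero_finrank V' hV' (hVa 1 le_rfl) hfV0 (hfV 1)).1
  · obtain ⟨e1⟩ := C.nonempty_quot_Hs_equiv V' hV' i (hVa i (by omega)) (hVa (i + 1) (by omega))
    haveI := hfV (i + 1)
    exact Module.Finite.equiv e1.symm

include hVa in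
theorem finrank_quot_Hs (i : ℕ) (hi : 1 ≤ i) :
    finrank k ((C.quot V' hV').Hs ⊤ i) = finrank k (C.Hs V' (i + 1)) := by
  obtain ⟨e1⟩ := C.nonempty_quot_Hs_equiv V' hV' i (hVa i hi) (hVa (i + 1) (by omega))
  exact e1.finrank_eq

include hV' hW' hVa hWa in
/-- **the general dimension count** in degrees `≥ 2` -/
theorem main_finrank_general (hfV0 : FiniteDimensional k ↥(C.Zs ⊤ 0))
    (hfV : ∀ i, FiniteDimensional k (C.Hs V' i)) (hfW0 : FiniteDimensional k ↥(C'.Zs ⊤ 0))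
    (hfW : ∀ i, FiniteDimensional k (C'.Hs W' i)) (r : ℕ) :
    ∃ A₀ B₀ : ℕ,
      A₀ + finrank k ↥(C.Zs V' 0) = finrank k (C.Hs V' 1) + finrank k ↥(C.Zs ⊤ 0) ∧
      B₀ + finrank k ↥(C'.Zs W' 0) = finrank k (C'.Hs W' 1) + finrank k ↥(C'.Zs ⊤ 0) ∧
      finrank k ((C.tensor C').Hs (LinearMap.ker (rho V' W')) (r + 2)) =
        A₀ * finrank k (C'.Hs W' (r + 2)) + finrank k (C.Hs V' (r + 2)) * B₀ +
          ∑ i ∈ Finset.range r, finrank k (C.Hs V' (i + 2)) * finrank k (C'.Hs W' (r + 1 - i)) := by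
  obtain ⟨S⟩ := C.nonempty_split
  obtain ⟨S'⟩ := C'.nonempty_split
  obtain ⟨Sq⟩ := (C.quot V' hV').nonempty_split
  obtain ⟨Sq'⟩ := (C'.quot W' hW').nonempty_split
  refine ⟨finrank k ((C.quot V' hV').Hs ⊤ 0), finrank k ((C'.quot W' hW').Hs ⊤ 0),
    (C.quot_Hs_zero_finrank V' hV' (hVa 1 le_rfl) hfV0 (hfV 1)).2,
    (C'.quot_Hs_zero_finrank W' hW' (hWa 1 le_rfl) hfW0 (hfW 1)).2, ?_⟩
  obtain ⟨e⟩ := conn (C.tensor C') ((C.quot V' hV').tensor (C'.quot W' hW')) (rho V' W')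
    (C.rho_hom C' V' hV' W' hW') (rho_surjective V' W') (r + 1)
    (tensor_acyclic S S' hVa hWa (r + 1) (by omega))
    (tensor_acyclic S S' hVa hWa (r + 1 + 1) (by omega))
  rw [← e.finrank_eq, finrank_Hs_tensor Sq Sq' (C.finite_quot_Hs V' hV' hVa hfV0 hfV)
    (C'.finite_quot_Hs W' hW' hWa hfW0 hfW) (r + 1)]
  exact kun_arith_general (fun i => finrank k ((C.quot V' hV').Hs ⊤ i))
    (fun i => finrank k ((C'.quot W' hW').Hs ⊤ i)) (fun i => finrank k (C.Hs V' i))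
    (fun i => finrank k (C'.Hs W' i)) (fun i hi => C.finrank_quot_Hs V' hV' hVa i hi)
    (fun i hi => C'.finrank_quot_Hs W' hW' hWa i hi) r

variable (hV0 : C.Zs V' 0 = ⊥) (hW0 : C'.Zs W' 0 = ⊥)

include hV' hW' hVa hWa hV0 hW0 in
/-- **the dimension count** when only the cohomology in degree zero of `V'`, `W'` vanishes -/
theorem main_finrank_depth_one (hfV0 : FiniteDimensional k ↥(C.Zs ⊤ 0))
    (hfV : ∀ i, FiniteDimensional k (C.Hs V' i)) (hfW0 : FiniteDimensional k ↥(C'.Zs ⊤ 0))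
    (hfW : ∀ i, FiniteDimensional k (C'.Hs W' i)) (q : ℕ) :
    finrank k ((C.tensor C').Hs (LinearMap.ker (rho V' W')) q) =
      finrank k ↥(C.Zs ⊤ 0) * finrank k (C'.Hs W' q) +
        finrank k (C.Hs V' q) * finrank k ↥(C'.Zs ⊤ 0) +
        ∑ i ∈ Finset.range (q + 2), finrank k (C.Hs V' i) * finrank k (C'.Hs W' (q + 1 - i)) := by
  have hα0 : finrank k (C.Hs V' 0) = 0 := by
    haveI := C.subsingleton_Hs (U := V') (n := 0) (by rw [hV0]; exact bot_le)
    exact Module.finrank_zero_of_subsingleton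
  have hβ0 : finrank k (C'.Hs W' 0) = 0 := by
    haveI := C'.subsingleton_Hs (U := W') (n := 0) (by rw [hW0]; exact bot_le)
    exact Module.finrank_zero_of_subsingleton
  have hzV : finrank k ↥(C.Zs V' 0) = 0 := by rw [hV0]; exact finrank_bot k V
  have hzW : finrank k ↥(C'.Zs W' 0) = 0 := by rw [hW0]; exact finrank_bot k W
  rcases q with _ | _ | r
  · haveI := (C.tensor C').subsingleton_Hs (U := LinearMap.ker (rho V' W')) (n := 0)
      (by rw [C.Zs_ker_zero C' V' hV' W' hW' hV0 hW0]; exact bot_le)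
    rw [Module.finrank_zero_of_subsingleton, hα0, hβ0, Finset.sum_range_succ, Finset.sum_range_one]
    simp [hα0, hβ0]
  · obtain ⟨S⟩ := C.nonempty_split
    obtain ⟨S'⟩ := C'.nonempty_split
    obtain ⟨Sq⟩ := (C.quot V' hV').nonempty_split
    obtain ⟨Sq'⟩ := (C'.quot W' hW').nonempty_split
    obtain ⟨hfA, hA⟩ := C.quot_Hs_zero_finrank V' hV' (hVa 1 le_rfl) hfV0 (hfV 1)
    obtain ⟨hfB, hB⟩ := C'.quot_Hs_zero_finrank W' hW' (hWa 1 le_rfl) hfW0 (hfW 1)
    rw [hzV, add_zero] at hA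
    rw [hzW, add_zero] at hB
    haveI : FiniteDimensional k ↥((C.quot V' hV').Zs ⊤ 0) :=
      Module.Finite.equiv ((C.quot V' hV').HsZeroEquiv ⊤)
    haveI : FiniteDimensional k ↥((C'.quot W' hW').Zs ⊤ 0) :=
      Module.Finite.equiv ((C'.quot W' hW').HsZeroEquiv ⊤)
    obtain ⟨hfQ, -⟩ := finrank_Zs_tensor_zero (C.quot V' hV') (C'.quot W' hW') Sq Sq'
    haveI : FiniteDimensional k (((C.quot V' hV').tensor (C'.quot W' hW')).Hs ⊤ 0) :=
      Module.Finite.equiv (((C.quot V' hV').tensor (C'.quot W' hW')).HsZeroEquiv ⊤).symm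
    obtain ⟨hfT, hT⟩ := finrank_Zs_tensor_zero C C' S S'
    have h := conn0_finrank' (C.tensor C') ((C.quot V' hV').tensor (C'.quot W' hW')) (rho V' W')
      (C.rho_hom C' V' hV' W' hW') (rho_surjective V' W')
      (tensor_acyclic S S' hVa hWa 1 le_rfl)
    rw [C.Zs_ker_zero C' V' hV' W' hW' hV0 hW0, finrank_bot, add_zero, hT,
      finrank_Hs_tensor Sq Sq' (C.finite_quot_Hs V' hV' hVa hfV0 hfV)
        (C'.finite_quot_Hs W' hW' hWa hfW0 hfW) 0, zero_add, Finset.sum_range_one, Nat.sub_zero,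
      hA, hB] at h
    rw [Finset.sum_range_succ, Finset.sum_range_succ, Finset.sum_range_one, hα0, hβ0]
    simp only [zero_mul, mul_zero, add_zero, zero_add, Nat.reduceAdd, Nat.reduceSub]
    apply Nat.add_right_cancel (m := finrank k ↥(C.Zs ⊤ 0) * finrank k ↥(C'.Zs ⊤ 0))
    rw [← h]
    ring
  · obtain ⟨A₀, B₀, hA, hB, h⟩ := C.main_finrank_general C' V' hV' W' hW' hVa hWa hfV0 hfV hfW0 hfW r
    rw [hzV, add_zero] at hA
    rw [hzW, add_zero] at hB
    rw [h, hA, hB]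
    exact kun_arith_depth_one (finrank k ↥(C.Zs ⊤ 0)) (finrank k ↥(C'.Zs ⊤ 0))
      (fun i => finrank k (C.Hs V' i)) (fun i => finrank k (C'.Hs W' i)) hα0 hβ0 r

end DG

end Groth.Agent.Helper7.KunLA
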