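import Mathlib
import Groth.Prelude.Def_GrLC
import Groth.Prelude.Def_Wider
import Groth.Prelude.Def_GrSeg
import Groth.Agent.Helper7.KunW
import Groth.Agent.Helper7.KunS9

/-!
# Künneth project, part W2: the Künneth dimension formula for Segre products of modules of depth at least one,
and the general formula in degrees `≥ 2`.
-/

set_option autoImplicit false
set_option linter.unusedSectionVars false
set_option linter.style.haveILetI false

namespace Groth.Agent.Helper7.Kun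

open TensorProduct Groth.Agent.Helper9.SegreMod Groth.Agent.Helper9.Segre
  Groth.Agent.Helper7.SegMod Groth.Agent.Helper7.KunLA Groth.Agent.Helper7.GrAcy

universe u

attribute [local instance] gmodModuleK gmodTowerK

section Pre

variable {k : Type u} [Field k] {R : Type u} [CommRing R] [Nontrivial R] [Algebra k R]
  {𝒜 : ℤ → Submodule k R} [GradedAlgebra 𝒜]
  (hposR : ∀ n : ℤ, n < 0 → 𝒜 n = ⊥) (h0R : 𝒜 0 = Submodule.span k {(1 : R)})
  [Algebra.FiniteType k R]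
  {S : Type u} [CommRing S] [Nontrivial S] [Algebra k S]
  {ℬ : ℤ → Submodule k S} [GradedAlgebra ℬ]
  (hposS : ∀ n : ℤ, n < 0 → ℬ n = ⊥) (h0S : ℬ 0 = Submodule.span k {(1 : S)})
  [Algebra.FiniteType k S]
  {T : Type u} [CommRing T] [Algebra k T] (𝒯 : ℤ → Submodule k T) [GradedAlgebra 𝒯]
  (ψ : T →ₐ[k] R ⊗[k] S) (hT : GrSeg.IsSegreRing 𝒜 ℬ 𝒯 ψ)
  (mR : HomogeneousIdeal 𝒜)
  (hmR : mR.toIdeal = Ideal.span (⋃ n ∈ Set.Ioi (0 : ℤ), (𝒜 n : Set R)))
  (mS : HomogeneousIdeal ℬ)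
  (hmS : mS.toIdeal = Ideal.span (⋃ n ∈ Set.Ioi (0 : ℤ), (ℬ n : Set S)))
  (mT : HomogeneousIdeal 𝒯)
  (hmT : mT.toIdeal = Ideal.span (⋃ n ∈ Set.Ioi (0 : ℤ), (𝒯 n : Set T)))
  {M : Type u} [AddCommGroup M] [Module R M] [Module k M] [IsScalarTower k R M]
  {ℳ : ℤ → AddSubgroup M} [DirectSum.Decomposition ℳ] [SetLike.GradedSMul 𝒜 ℳ]
  [Module.Finite R M] (EM : GrLC.StarInjRes 𝒜 ℳ)
  {N : Type u} [AddCommGroup N] [Module S N] [Module k N] [IsScalarTower k S N]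
  {𝒩 : ℤ → AddSubgroup N} [DirectSum.Decomposition 𝒩] [SetLike.GradedSMul ℬ 𝒩]
  [Module.Finite S N] (EN : GrLC.StarInjRes ℬ 𝒩)
  {P : Type u} [AddCommGroup P] [Module T P] [Module k P] [IsScalarTower k T P]
  {𝒬 : ℤ → AddSubgroup P} [DirectSum.Decomposition 𝒬] [SetLike.GradedSMul 𝒯 𝒬]
  (φ : P →ₗ[k] M ⊗[k] N) (hP : GrSeg.IsSegreMod ψ ℳ 𝒩 𝒬 φ)
  (EP : GrLC.StarInjRes 𝒯 𝒬)

variable [IsNoetherianRing R] [IsNoetherianRing S]

include hposR h0R hposS h0S hT hmR hmS hmT hP in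
/-- the graded local cohomology of a Segre product is the cohomology of the kernel of
`E_d ⊗ F_d → (E/ΓE)_d ⊗ (F/ΓF)_d`, as a dimension count -/
theorem finrank_Hcomp_eq_ker_rho (d : ℤ) (q : ℕ) :
    Module.finrank (GrLC.deg0 𝒯) (EP.Hcomp mT q d) =
      Module.finrank k (((resDG EM d).tensor (resDG EN d)).Hs
        (LinearMap.ker (DG.rho (gamSub EM.X d mR.toIdeal) (gamSub EN.X d mS.toIdeal))) q) := by
  haveI : IsNoetherianRing (R ⊗[k] S) := isNoetherianRing_tensor k R S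
  haveI : Nontrivial (R ⊗[k] S) :=
    Algebra.TensorProduct.nontrivial_of_algebraMap_injective_of_flat_left k R S
      (algebraMap k S).injective
  haveI : Nontrivial T := ψ.toRingHom.domain_nontrivial
  haveI : SetLike.GradedSMul (plus 𝒯) 𝒬 := gradedSMul_plus 𝒯 𝒬
  have h0T : 𝒯 0 = Submodule.span k {(1 : T)} :=
    Groth.Agent.Helper7.SegOne.segre_h0 𝒜 ℬ 𝒯 ψ hT.1 hT.2 h0R h0S
  have hE : ∀ i, FgExt (plus 𝒜) (gmodPlus 𝒜 (EM.X i)).carrier := fun i =>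
    fgExt_of_isStarInj (plus 𝒜) (gmodPlus 𝒜 (EM.X i)).gr
      (isStarInj_gmodPlus 𝒜 (EM.X i) (EM.starInj i))
  have hN : ∀ i, FgExt (plus ℬ) (gmodPlus ℬ (EN.X i)).carrier := fun i =>
    fgExt_of_isStarInj (plus ℬ) (gmodPlus ℬ (EN.X i)).gr
      (isStarInj_gmodPlus ℬ (EN.X i) (EN.starInj i))
  obtain ⟨e1⟩ := tot_compare 𝒯 ψ hT EM.X EM.d EM.d_grHom (res_dd EM) EN.X EN.d EN.d_grHom
    (res_dd EN) ℳ 𝒩 𝒬 φ hP EM.ε EM.ε_grHom EM.ε_injective EM.exact_zero EM.exact_succ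
    EN.ε EN.ε_grHom EN.ε_injective EN.exact_zero EN.exact_succ
    (idealPlus 𝒜 mR) hmR (idealPlus ℬ mS) hmS (idealPlus 𝒯 mT) hmT hE hN (resPlus 𝒯 EP) q d
  obtain ⟨e2, he2⟩ := exists_tot_equiv 𝒯 ψ hT EM.X EM.d EM.d_grHom (res_dd EM) EN.X EN.d
    EN.d_grHom (res_dd EN) d (idealPlus 𝒜 mR) hmR (idealPlus ℬ mS) hmS (idealPlus 𝒯 mT) hmT q
  have r1 : Module.finrank (GrLC.deg0 𝒯) (EP.Hcomp mT q d) =
      Module.finrank (GrLC.deg0 (plus 𝒯)) ↥(HHcomp (idealPlus 𝒯 mT)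
        (totMod 𝒯 ψ hT EM.X EM.d (res_dd EM) EN.X EN.d (res_dd EN))
        (totDn 𝒯 ψ hT EM.X EM.d EM.d_grHom (res_dd EM) EN.X EN.d EN.d_grHom (res_dd EN)) q d) :=
    e1.finrank_eq
  have r2 := congrArg Cardinal.toNat
    (rank_eq_of_equiv_equiv (kToDeg0 𝒯) e2 (kToDeg0_bijective 𝒯 h0T) he2)
  rw [r1]
  exact r2.symm

theorem finrank_resZs_gam (d : ℤ) :
    Module.finrank k ↥((resDG EM d).Zs (gamSub EM.X d mR.toIdeal) 0) =
      Module.finrank k ((resDG EM d).Hs (gamSub EM.X d mR.toIdeal) 0) :=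
  ((resDG EM d).HsZeroEquiv (gamSub EM.X d mR.toIdeal)).finrank_eq.symm

end Pre

section Main

variable {k : Type u} [Field k] {R : Type u} [CommRing R] [Nontrivial R] [Algebra k R]
  {𝒜 : ℤ → Submodule k R} [GradedAlgebra 𝒜]
  (hposR : ∀ n : ℤ, n < 0 → 𝒜 n = ⊥) (h0R : 𝒜 0 = Submodule.span k {(1 : R)})
  [Algebra.FiniteType k R]
  {S : Type u} [CommRing S] [Nontrivial S] [Algebra k S]
  {ℬ : ℤ → Submodule k S} [GradedAlgebra ℬ]
  (hposS : ∀ n : ℤ, n < 0 → ℬ n = ⊥) (h0S : ℬ 0 = Submodule.span k {(1 : S)})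
  [Algebra.FiniteType k S]
  {T : Type u} [CommRing T] [Algebra k T] (𝒯 : ℤ → Submodule k T) [GradedAlgebra 𝒯]
  (ψ : T →ₐ[k] R ⊗[k] S) (hT : GrSeg.IsSegreRing 𝒜 ℬ 𝒯 ψ)
  (mR : HomogeneousIdeal 𝒜)
  (hmR : mR.toIdeal = Ideal.span (⋃ n ∈ Set.Ioi (0 : ℤ), (𝒜 n : Set R)))
  (mS : HomogeneousIdeal ℬ)
  (hmS : mS.toIdeal = Ideal.span (⋃ n ∈ Set.Ioi (0 : ℤ), (ℬ n : Set S)))
  (mT : HomogeneousIdeal 𝒯)
  (hmT : mT.toIdeal = Ideal.span (⋃ n ∈ Set.Ioi (0 : ℤ), (𝒯 n : Set T)))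
  {M : Type u} [AddCommGroup M] [Module R M] [Module k M] [IsScalarTower k R M]
  {ℳ : ℤ → AddSubgroup M} [DirectSum.Decomposition ℳ] [SetLike.GradedSMul 𝒜 ℳ]
  [Module.Finite R M] (EM : GrLC.StarInjRes 𝒜 ℳ)
  {N : Type u} [AddCommGroup N] [Module S N] [Module k N] [IsScalarTower k S N]
  {𝒩 : ℤ → AddSubgroup N} [DirectSum.Decomposition 𝒩] [SetLike.GradedSMul ℬ 𝒩]
  [Module.Finite S N] (EN : GrLC.StarInjRes ℬ 𝒩)
  {P : Type u} [AddCommGroup P] [Module T P] [Module k P] [IsScalarTower k T P]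
  {𝒬 : ℤ → AddSubgroup P} [DirectSum.Decomposition 𝒬] [SetLike.GradedSMul 𝒯 𝒬]
  (φ : P →ₗ[k] M ⊗[k] N) (hP : GrSeg.IsSegreMod ψ ℳ 𝒩 𝒬 φ)
  (EP : GrLC.StarInjRes 𝒯 𝒬)

include hposR h0R hposS h0S hT hmR hmS hmT hP in
/-- **Künneth dimension formula** for the graded local cohomology of a Segre product of modules of depth
at least one (in the given degree) -/
theorem kunneth_finrank_depth_one (d : ℤ)
    (hM0 : EM.Hcomp mR 0 d = ⊥) (hN0 : EN.Hcomp mS 0 d = ⊥) (q : ℕ) :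
    Module.finrank (GrLC.deg0 𝒯) (EP.Hcomp mT q d) =
      Module.finrank (GrLC.deg0 𝒜) (GrLC.comp 𝒜 ℳ d) *
          Module.finrank (GrLC.deg0 ℬ) (EN.Hcomp mS q d) +
        Module.finrank (GrLC.deg0 𝒜) (EM.Hcomp mR q d) *
          Module.finrank (GrLC.deg0 ℬ) (GrLC.comp ℬ 𝒩 d) +
        (Finset.range (q + 2)).sum (fun i =>
          Module.finrank (GrLC.deg0 𝒜) (EM.Hcomp mR i d) *
            Module.finrank (GrLC.deg0 ℬ) (EN.Hcomp mS (q + 1 - i) d)) := by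
  haveI : IsNoetherianRing R := Algebra.FiniteType.isNoetherianRing k R
  haveI : IsNoetherianRing S := Algebra.FiniteType.isNoetherianRing k S
  have r3 := DG.main_finrank_depth_one (resDG EM d) (resDG EN d)
    (gamSub EM.X d mR.toIdeal) (gamSub_stable EM.X EM.d EM.d_grHom (res_dd EM) d mR.toIdeal)
    (gamSub EN.X d mS.toIdeal) (gamSub_stable EN.X EN.d EN.d_grHom (res_dd EN) d mS.toIdeal)
    (res_acyclic EM d) (res_acyclic EN d)
    (res_Zs_zero h0R mR EM d hM0) (res_Zs_zero h0S mS EN d hN0)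
    (finite_resZs h0R EM d) (fun i => finite_resHs hposR h0R mR hmR EM d i)
    (finite_resZs h0S EN d) (fun i => finite_resHs hposS h0S mS hmS EN d i) q
  rw [finrank_resZs h0R EM d, finrank_resZs h0S EN d, finrank_resHs h0R mR EM d q,
    finrank_resHs h0S mS EN d q] at r3
  rw [finrank_Hcomp_eq_ker_rho hposR h0R hposS h0S 𝒯 ψ hT mR hmR mS hmS mT hmT EM EN φ hP EP d q]
  refine r3.trans ?_
  congr 1
  apply Finset.sum_congr rfl
  intro i _
  rw [finrank_resHs h0R mR EM d i, finrank_resHs h0S mS EN d (q + 1 - i)]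

include hposR h0R hposS h0S hT hmR hmS hmT hP in
/-- **general Künneth dimension formula** for the graded local cohomology of a Segre product, in degrees
`≥ 2` -/
theorem kunneth_finrank_general (d : ℤ) (r : ℕ) :
    ∃ A₀ B₀ : ℕ,
      A₀ + Module.finrank (GrLC.deg0 𝒜) (EM.Hcomp mR 0 d) =
        Module.finrank (GrLC.deg0 𝒜) (EM.Hcomp mR 1 d) +
          Module.finrank (GrLC.deg0 𝒜) (GrLC.comp 𝒜 ℳ d) ∧
      B₀ + Module.finrank (GrLC.deg0 ℬ) (EN.Hcomp mS 0 d) =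
        Module.finrank (GrLC.deg0 ℬ) (EN.Hcomp mS 1 d) +
          Module.finrank (GrLC.deg0 ℬ) (GrLC.comp ℬ 𝒩 d) ∧
      Module.finrank (GrLC.deg0 𝒯) (EP.Hcomp mT (r + 2) d) =
        A₀ * Module.finrank (GrLC.deg0 ℬ) (EN.Hcomp mS (r + 2) d) +
          Module.finrank (GrLC.deg0 𝒜) (EM.Hcomp mR (r + 2) d) * B₀ +
          (Finset.range r).sum (fun i =>
            Module.finrank (GrLC.deg0 𝒜) (EM.Hcomp mR (i + 2) d) *
              Module.finrank (GrLC.deg0 ℬ) (EN.Hcomp mS (r + 1 - i) d)) := by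
  haveI : IsNoetherianRing R := Algebra.FiniteType.isNoetherianRing k R
  haveI : IsNoetherianRing S := Algebra.FiniteType.isNoetherianRing k S
  obtain ⟨A₀, B₀, hA, hB, h⟩ := DG.main_finrank_general (resDG EM d) (resDG EN d)
    (gamSub EM.X d mR.toIdeal) (gamSub_stable EM.X EM.d EM.d_grHom (res_dd EM) d mR.toIdeal)
    (gamSub EN.X d mS.toIdeal) (gamSub_stable EN.X EN.d EN.d_grHom (res_dd EN) d mS.toIdeal)
    (res_acyclic EM d) (res_acyclic EN d)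
    (finite_resZs h0R EM d) (fun i => finite_resHs hposR h0R mR hmR EM d i)
    (finite_resZs h0S EN d) (fun i => finite_resHs hposS h0S mS hmS EN d i) r
  refine ⟨A₀, B₀, ?_, ?_, ?_⟩
  · rw [finrank_resZs_gam mR EM d, finrank_resHs h0R mR EM d 0, finrank_resHs h0R mR EM d 1,
      finrank_resZs h0R EM d] at hA
    exact hA
  · rw [finrank_resZs_gam mS EN d, finrank_resHs h0S mS EN d 0, finrank_resHs h0S mS EN d 1,
      finrank_resZs h0S EN d] at hB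
    exact hB
  · rw [finrank_Hcomp_eq_ker_rho hposR h0R hposS h0S 𝒯 ψ hT mR hmR mS hmS mT hmT EM EN φ hP EP d
      (r + 2), h, finrank_resHs h0R mR EM d (r + 2), finrank_resHs h0S mS EN d (r + 2)]
    congr 1
    apply Finset.sum_congr rfl
    intro i _
    rw [finrank_resHs h0R mR EM d (i + 2), finrank_resHs h0S mS EN d (r + 1 - i)]

end Main

end Groth.Agent.Helper7.Kun
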