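import Mathlib
import Groth.Prelude.Def_GrLC
import Groth.Prelude.Def_GrSeg
import Groth.Agent.Helper7.KunW2
import Groth.Agent.Helper7.KunX
import Groth.Agent.Helper7.KunY
import Groth.Agent.Helper7.KunZ

/-!
# Künneth project: the top local cohomology of a Segre product of two graded rings of dimensions `≥ 2` (helper7)
-/

set_option autoImplicit false
set_option linter.unusedSectionVars false
set_option linter.style.haveILetI false

namespace Groth.Agent.Helper7.Kun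

open TensorProduct

universe u

section Top

variable {k : Type u} [Field k] {R : Type u} [CommRing R] [Algebra k R]
  {𝒜 : ℤ → Submodule k R} [GradedAlgebra 𝒜]
  (hposR : ∀ n : ℤ, n < 0 → 𝒜 n = ⊥) (h0R : 𝒜 0 = Submodule.span k {(1 : R)})
  [Algebra.FiniteType k R]
  {S : Type u} [CommRing S] [Algebra k S]
  {ℬ : ℤ → Submodule k S} [GradedAlgebra ℬ]
  (hposS : ∀ n : ℤ, n < 0 → ℬ n = ⊥) (h0S : ℬ 0 = Submodule.span k {(1 : S)})
  [Algebra.FiniteType k S]
  {T : Type u} [CommRing T] [Algebra k T] (𝒯 : ℤ → Submodule k T) [GradedAlgebra 𝒯]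
  (ψ : T →ₐ[k] R ⊗[k] S) (hT : GrSeg.IsSegreRing 𝒜 ℬ 𝒯 ψ)
  (mR : HomogeneousIdeal 𝒜)
  (hmR : mR.toIdeal = Ideal.span (⋃ n ∈ Set.Ioi (0 : ℤ), (𝒜 n : Set R)))
  (mS : HomogeneousIdeal ℬ)
  (hmS : mS.toIdeal = Ideal.span (⋃ n ∈ Set.Ioi (0 : ℤ), (ℬ n : Set S)))
  (mT : HomogeneousIdeal 𝒯)
  (hmT : mT.toIdeal = Ideal.span (⋃ n ∈ Set.Ioi (0 : ℤ), (𝒯 n : Set T)))
  (I : GrLC.StarInjRes 𝒜 𝒜) (J : GrLC.StarInjRes ℬ ℬ) (IT : GrLC.StarInjRes 𝒯 𝒯)

include hposR h0R hposS h0S hT hmR hmS hmT in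
/-- **the top local cohomology of the Segre product of two graded rings of dimensions `r, s ≥ 2`**:
`dim H^{r+s-1}(T)_d = dim H^r(R)_d · dim H^s(S)_d` -/
theorem kunneth_top (r s : ℕ) (hr : ringKrullDim R = r) (hs : ringKrullDim S = s)
    (h2r : 2 ≤ r) (h2s : 2 ≤ s) (d : ℤ) :
    Module.finrank (GrLC.deg0 𝒯) (IT.Hcomp mT (r + s - 1) d) =
      Module.finrank (GrLC.deg0 𝒜) (I.Hcomp mR r d) *
        Module.finrank (GrLC.deg0 ℬ) (J.Hcomp mS s d) := by
  haveI : IsNoetherianRing R := Algebra.FiniteType.isNoetherianRing k R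
  haveI : IsNoetherianRing S := Algebra.FiniteType.isNoetherianRing k S
  haveI : Nontrivial R := by
    by_contra hcon
    rw [not_nontrivial_iff_subsingleton] at hcon
    rw [ringKrullDim_eq_bot_of_subsingleton] at hr
    exact WithBot.bot_ne_coe hr
  haveI : Nontrivial S := by
    by_contra hcon
    rw [not_nontrivial_iff_subsingleton] at hcon
    rw [ringKrullDim_eq_bot_of_subsingleton] at hs
    exact WithBot.bot_ne_coe hs
  haveI : Nontrivial T := nontrivial_segre 𝒯 ψ hT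
  haveI : IsNoetherianRing T := noeth_segre 𝒯 ψ hT
  haveI : SetLike.GradedSMul 𝒜 (plus 𝒜) := gradedSMul_self 𝒜
  haveI : SetLike.GradedSMul ℬ (plus ℬ) := gradedSMul_self ℬ
  haveI : SetLike.GradedSMul 𝒯 (plus 𝒯) := gradedSMul_self 𝒯
  have hP := isSegreMod_self 𝒜 ℬ 𝒯 ψ hT
  obtain ⟨A₀, B₀, -, -, h'⟩ := kunneth_finrank_general hposR h0R hposS h0S 𝒯 ψ hT mR hmR mS hmS
    mT hmT (resSelf 𝒜 I) (resSelf ℬ J) ψ.toLinearMap hP (resSelf 𝒯 IT) d (r + s - 3)
  have h : Module.finrank (GrLC.deg0 𝒯) (IT.Hcomp mT (r + s - 3 + 2) d) =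
      A₀ * Module.finrank (GrLC.deg0 ℬ) (J.Hcomp mS (r + s - 3 + 2) d) +
        Module.finrank (GrLC.deg0 𝒜) (I.Hcomp mR (r + s - 3 + 2) d) * B₀ +
        (Finset.range (r + s - 3)).sum (fun i =>
          Module.finrank (GrLC.deg0 𝒜) (I.Hcomp mR (i + 2) d) *
            Module.finrank (GrLC.deg0 ℬ) (J.Hcomp mS (r + s - 3 + 1 - i) d)) := h'
  clear h'
  have hMv : ∀ i : ℕ, r < i → Module.finrank (GrLC.deg0 𝒜) (I.Hcomp mR i d) = 0 := by
    intro i hi
    have : I.Hcomp mR i d = ⊥ := Hcomp_eq_bot_of_dim_lt 𝒜 (plus 𝒜) mR (resSelf 𝒜 I) r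
      ((Module.supportDim_self_eq_ringKrullDim R).trans hr) i hi d
    rw [this]
    exact finrank_bot _ _
  have hNv : ∀ i : ℕ, s < i → Module.finrank (GrLC.deg0 ℬ) (J.Hcomp mS i d) = 0 := by
    intro i hi
    have : J.Hcomp mS i d = ⊥ := Hcomp_eq_bot_of_dim_lt ℬ (plus ℬ) mS (resSelf ℬ J) s
      ((Module.supportDim_self_eq_ringKrullDim S).trans hs) i hi d
    rw [this]
    exact finrank_bot _ _
  have e1 : r + s - 3 + 2 = r + s - 1 := by omega
  rw [e1] at h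
  rw [h, hNv (r + s - 1) (by omega), hMv (r + s - 1) (by omega), mul_zero, zero_mul, zero_add,
    zero_add]
  rw [Finset.sum_eq_single (r - 2)]
  · have e2 : r - 2 + 2 = r := by omega
    have e3 : r + s - 3 + 1 - (r - 2) = s := by omega
    rw [e2, e3]
  · intro i hi hne
    rw [Finset.mem_range] at hi
    rcases lt_or_gt_of_ne hne with h1 | h1
    · rw [hNv (r + s - 3 + 1 - i) (by omega), mul_zero]
    · rw [hMv (i + 2) (by omega), zero_mul]
  · intro hnot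
    exfalso
    apply hnot
    rw [Finset.mem_range]
    omega

end Top

end Groth.Agent.Helper7.Kun
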