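import Mathlib
import Groth.Prelude.Def_GrLC
import Groth.Prelude.Def_Wider
import Groth.Prelude.Def_GrSeg
import Groth.Agent.Helper7.KunTop

/-!
# Künneth project, module form, part 1: one-sided preparations.

For a *injective resolution `E^•` of a graded module and `Γ = Γ_m`: the submodule
`Û = d⁻¹(Γ E^{a+2}) ⊆ E^{a+1}`, the surjection `Û → H^{a+2}_m`, its kernel, homogeneous lifts, and a
`k`-linear extension of the class map to all of `E^{a+2}`.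
-/

set_option autoImplicit false
set_option linter.unusedSectionVars false
set_option linter.style.haveILetI false

namespace Groth.Agent.Helper7.KunMd

open TensorProduct Groth.Agent.Helper7.Kun

universe u

attribute [local instance] gmodModuleK gmodTowerK

section OneSide

variable {k R : Type u} [Field k] [CommRing R] [Algebra k R] {𝒜 : ℤ → Submodule k R}
  [GradedAlgebra 𝒜]
  {M : Type u} [AddCommGroup M] [Module R M] {ℳ : ℤ → AddSubgroup M}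
  [DirectSum.Decomposition ℳ] [SetLike.GradedSMul 𝒜 ℳ]
  (EM : GrLC.StarInjRes 𝒜 ℳ) (mR : HomogeneousIdeal 𝒜) (a : ℕ)

theorem dd (n : ℕ) (x : (EM.X n).carrier) : EM.d (n + 1) (EM.d n x) = 0 := by
  have h : EM.d n x ∈ LinearMap.ker (EM.d (n + 1)) := by
    rw [EM.exact_succ]; exact ⟨x, rfl⟩
  exact h

/-- `Û = d⁻¹(Γ_m E^{a+2}) ⊆ E^{a+1}` -/
def Uhat : Submodule R (EM.X (a + 1)).carrier :=
  (GrLC.gam mR.toIdeal (EM.X (a + 1 + 1)).carrier).comap (EM.d (a + 1))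

theorem mem_Uhat {u : (EM.X (a + 1)).carrier} :
    u ∈ Uhat EM mR a ↔ EM.d (a + 1) u ∈ GrLC.gam mR.toIdeal (EM.X (a + 1 + 1)).carrier := Iff.rfl

theorem d_mem_cocyc (u : ↥(Uhat EM mR a)) : EM.d (a + 1) u.1 ∈ EM.cocyc mR (a + 1 + 1) :=
  ⟨u.2, dd EM (a + 1) u.1⟩

/-- the surjection `Û → H^{a+2}_m`, `u ↦ [d u]` -/
noncomputable def fU : ↥(Uhat EM mR a) →ₗ[R] EM.H mR (a + 1 + 1) :=
  EM.toH mR (a + 1 + 1) ∘ₗ LinearMap.codRestrict (EM.cocyc mR (a + 1 + 1))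
    (EM.d (a + 1) ∘ₗ (Uhat EM mR a).subtype) (d_mem_cocyc EM mR a)

theorem fU_apply (u : ↥(Uhat EM mR a)) :
    fU EM mR a u = EM.toH mR (a + 1 + 1) ⟨EM.d (a + 1) u.1, d_mem_cocyc EM mR a u⟩ := rfl

theorem fU_surjective : Function.Surjective (fU EM mR a) := by
  intro x
  obtain ⟨z, rfl⟩ := Submodule.Quotient.mk_surjective _ x
  have h1 : z.1 ∈ LinearMap.ker (EM.d (a + 1 + 1)) := z.2.2
  rw [EM.exact_succ] at h1
  obtain ⟨u, hu⟩ := h1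
  have hu' : u ∈ Uhat EM mR a := by
    rw [mem_Uhat, hu]; exact z.2.1
  refine ⟨⟨u, hu'⟩, ?_⟩
  rw [fU_apply]
  have h2 : (⟨EM.d (a + 1) u, d_mem_cocyc EM mR a ⟨u, hu'⟩⟩ : ↥(EM.cocyc mR (a + 1 + 1))) = z :=
    Subtype.ext hu
  rw [h2]
  rfl

theorem exists_of_fU_eq_zero (u : ↥(Uhat EM mR a)) (h : fU EM mR a u = 0) :
    ∃ γ ∈ GrLC.gam mR.toIdeal (EM.X (a + 1)).carrier, ∃ ζ : (EM.X a).carrier,
      u.1 = γ + EM.d a ζ := by
  rw [fU_apply] at h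
  have h1 := (Submodule.Quotient.mk_eq_zero _).mp h
  obtain ⟨γ, hγ, hγu⟩ := h1
  have hγu' : EM.d (a + 1) γ = EM.d (a + 1) u.1 := hγu
  have h2 : u.1 - γ ∈ LinearMap.ker (EM.d (a + 1)) := by
    rw [LinearMap.mem_ker, map_sub, hγu', sub_self]
  rw [EM.exact_succ] at h2
  obtain ⟨ζ, hζ⟩ := h2
  exact ⟨γ, hγ, ζ, by rw [hζ]; abel⟩

theorem fU_eq_zero_of_gam (u : ↥(Uhat EM mR a))
    (h : u.1 ∈ GrLC.gam mR.toIdeal (EM.X (a + 1)).carrier) : fU EM mR a u = 0 := by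
  rw [fU_apply]
  apply (Submodule.Quotient.mk_eq_zero _).mpr
  exact ⟨u.1, h, rfl⟩

theorem exists_homog_lift (e : ℤ) (h : EM.H mR (a + 1 + 1)) (hh : h ∈ EM.Hgr mR (a + 1 + 1) e) :
    ∃ u : ↥(Uhat EM mR a), u.1 ∈ (EM.X (a + 1)).gr e ∧ fU EM mR a u = h := by
  obtain ⟨z, hz, rfl⟩ := hh
  have h1 : z.1 ∈ LinearMap.ker (EM.d (a + 1 + 1)) := z.2.2
  rw [EM.exact_succ] at h1
  obtain ⟨u₀, hu₀⟩ := h1
  have hdu : EM.d (a + 1) (DirectSum.decompose (EM.X (a + 1)).gr u₀ e : (EM.X (a + 1)).carrier) =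
      z.1 := by
    rw [← Groth.Agent.Helper6.GrMod.decompose_map (EM.d_grHom (a + 1)) u₀ e, hu₀,
      DirectSum.decompose_of_mem_same _ hz]
  have hu' : (DirectSum.decompose (EM.X (a + 1)).gr u₀ e : (EM.X (a + 1)).carrier) ∈
      Uhat EM mR a := by
    rw [mem_Uhat, hdu]; exact z.2.1
  refine ⟨⟨_, hu'⟩, SetLike.coe_mem _, ?_⟩
  rw [fU_apply]
  have h2 : (⟨EM.d (a + 1) (DirectSum.decompose (EM.X (a + 1)).gr u₀ e : (EM.X (a + 1)).carrier),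
      d_mem_cocyc EM mR a ⟨_, hu'⟩⟩ : ↥(EM.cocyc mR (a + 1 + 1))) = z := Subtype.ext hdu
  rw [h2]

/-- a `k`-linear extension of the class map to all of `E^{a+2}` -/
theorem exists_rho : ∃ ρ : (EM.X (a + 1 + 1)).carrier →ₗ[k] EM.H mR (a + 1 + 1),
    ∀ z : ↥(EM.cocyc mR (a + 1 + 1)), ρ z.1 = EM.toH mR (a + 1 + 1) z := by
  let f₀ : ↥((EM.cocyc mR (a + 1 + 1)).restrictScalars k) →ₗ[k] EM.H mR (a + 1 + 1) :=
    { toFun := fun z => EM.toH mR (a + 1 + 1) ⟨z.1, z.2⟩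
      map_add' := fun z w => by
        rw [← map_add]; rfl
      map_smul' := fun c z => by
        rw [RingHom.id_apply, ← LinearMap.map_smul_of_tower]; rfl }
  obtain ⟨ρ, hρ⟩ := LinearMap.exists_extend f₀
  refine ⟨ρ, fun z => ?_⟩
  have := LinearMap.congr_fun hρ ⟨z.1, z.2⟩
  exact this

theorem rho_d_gam {ρ : (EM.X (a + 1 + 1)).carrier →ₗ[k] EM.H mR (a + 1 + 1)}
    (hρ : ∀ z : ↥(EM.cocyc mR (a + 1 + 1)), ρ z.1 = EM.toH mR (a + 1 + 1) z)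
    (γ : (EM.X (a + 1)).carrier) (hγ : γ ∈ GrLC.gam mR.toIdeal (EM.X (a + 1)).carrier) :
    ρ (EM.d (a + 1) γ) = 0 := by
  have hmem : γ ∈ Uhat EM mR a := by
    rw [mem_Uhat]
    exact gam_map_mem mR.toIdeal (EM.d (a + 1)) hγ
  have h1 := hρ ⟨EM.d (a + 1) γ, d_mem_cocyc EM mR a ⟨γ, hmem⟩⟩
  rw [h1]
  exact fU_eq_zero_of_gam EM mR a ⟨γ, hmem⟩ hγ

theorem rho_d_Uhat {ρ : (EM.X (a + 1 + 1)).carrier →ₗ[k] EM.H mR (a + 1 + 1)}
    (hρ : ∀ z : ↥(EM.cocyc mR (a + 1 + 1)), ρ z.1 = EM.toH mR (a + 1 + 1) z)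
    (u : ↥(Uhat EM mR a)) : ρ (EM.d (a + 1) u.1) = fU EM mR a u :=
  hρ ⟨EM.d (a + 1) u.1, d_mem_cocyc EM mR a u⟩

end OneSide

end Groth.Agent.Helper7.KunMd
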