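import Mathlib
import Groth.Prelude.Def_GrLC
import Groth.Prelude.Def_Wider
import Groth.Prelude.Def_GrSeg
import Groth.Agent.Helper7.KunMd1

/-!
# Künneth project, module form, part 2: the `T`-linear map `Û ⊗ Ŵ → H^{a+b+3}(Γ_{T_+} Tot)`.
-/

set_option autoImplicit false
set_option linter.unusedSectionVars false
set_option linter.style.haveILetI false

namespace Groth.Agent.Helper7.KunMd

open TensorProduct Groth.Agent.Helper9.SegreMod Groth.Agent.Helper9.Segre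
  Groth.Agent.Helper7.SegMod Groth.Agent.Helper7.KunLA Groth.Agent.Helper7.GrAcy
  Groth.Agent.Helper7.Kun

universe u

attribute [local instance] gmodModuleK gmodTowerK

section LinAlg

variable {k : Type u} [Field k] {R S : Type u} [CommRing R] [Algebra k R] [CommRing S] [Algebra k S]
  {𝒜 : ℤ → Submodule k R} [GradedAlgebra 𝒜] {ℬ : ℤ → Submodule k S} [GradedAlgebra ℬ]
  (X : ℕ → GrLC.GMod.{u} 𝒜) (d : ∀ n, (X n).carrier →ₗ[R] (X (n + 1)).carrier)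
  (hdd : ∀ n x, d (n + 1) (d n x) = 0)
  (X' : ℕ → GrLC.GMod.{u} ℬ) (d' : ∀ n, (X' n).carrier →ₗ[S] (X' (n + 1)).carrier)
  (hdd' : ∀ n x, d' (n + 1) (d' n x) = 0)

theorem bigDG_π_inc (i j : ℕ) (x : (X j).carrier) :
    (bigDG X d hdd).π i (inc X j x) = if i = j then inc X j x else 0 := by
  rw [bigDG_π]
  split_ifs with h
  · subst h; rw [cmp_inc_same]
  · rw [cmp_inc_ne X j i (Ne.symm h), map_zero]

/-- pure tensors of components have the expected total degree -/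
theorem totDG_π_inc_tmul (i j : ℕ) (x : (X i).carrier) (y : (X' j).carrier) :
    (totDG X d hdd X' d' hdd').π (i + j) (inc X i x ⊗ₜ[k] inc X' j y) =
      inc X i x ⊗ₜ[k] inc X' j y := by
  rw [DG.tensor_π_tmul, Finset.sum_eq_single i]
  · rw [bigDG_π_inc, if_pos rfl, Nat.add_sub_cancel_left, bigDG_π_inc, if_pos rfl]
  · intro l _ hl
    rw [bigDG_π_inc, if_neg hl, zero_tmul]
  · intro h
    exact absurd (Finset.mem_range.mpr (by omega)) h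

/-- the total differential on pure tensors of components -/
theorem totDG_d_inc_tmul (i j : ℕ) (x : (X i).carrier) (y : (X' j).carrier) :
    (totDG X d hdd X' d' hdd').d (inc X i x ⊗ₜ[k] inc X' j y) =
      inc X (i + 1) (d i x) ⊗ₜ[k] inc X' j y +
        inc X i (((-1 : R) ^ i) • x) ⊗ₜ[k] inc X' (j + 1) (d' j y) := by
  rw [DG.tensor_d_tmul, bigDG_d, bigD_inc, bigDG_σ, bigσ_inc, bigDG_d, bigD_inc, map_smul]

theorem totDG_d_inc_d_tmul (i j : ℕ) (ζ : (X i).carrier) (y : (X' j).carrier) :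
    (totDG X d hdd X' d' hdd').d (inc X (i + 1) (d i ζ) ⊗ₜ[k] inc X' j y) =
      inc X (i + 1) (((-1 : R) ^ (i + 1)) • d i ζ) ⊗ₜ[k] inc X' (j + 1) (d' j y) := by
  rw [totDG_d_inc_tmul, hdd, map_zero, zero_tmul, zero_add]

theorem totDG_d_inc_tmul_d (i j : ℕ) (x : (X i).carrier) (ζ : (X' j).carrier) :
    (totDG X d hdd X' d' hdd').d (inc X i x ⊗ₜ[k] inc X' (j + 1) (d' j ζ)) =
      inc X (i + 1) (d i x) ⊗ₜ[k] inc X' (j + 1) (d' j ζ) := by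
  rw [totDG_d_inc_tmul, hdd', map_zero, tmul_zero, add_zero]

end LinAlg

section Two

variable {k : Type u} [Field k] {R S T : Type u} [CommRing R] [Algebra k R] [CommRing S] [Algebra k S]
  [CommRing T] [Algebra k T]
  {𝒜 : ℤ → Submodule k R} [GradedAlgebra 𝒜] {ℬ : ℤ → Submodule k S} [GradedAlgebra ℬ]
  (𝒯 : ℤ → Submodule k T) [GradedAlgebra 𝒯] (ψ : T →ₐ[k] R ⊗[k] S)
  (hT : GrSeg.IsSegreRing 𝒜 ℬ 𝒯 ψ)
  (mR : HomogeneousIdeal 𝒜)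
  (hmR : mR.toIdeal = Ideal.span (⋃ n ∈ Set.Ioi (0 : ℤ), (𝒜 n : Set R)))
  (mS : HomogeneousIdeal ℬ)
  (hmS : mS.toIdeal = Ideal.span (⋃ n ∈ Set.Ioi (0 : ℤ), (ℬ n : Set S)))
  (mT : HomogeneousIdeal 𝒯)
  (hmT : mT.toIdeal = Ideal.span (⋃ n ∈ Set.Ioi (0 : ℤ), (𝒯 n : Set T)))
  {M : Type u} [AddCommGroup M] [Module R M] {ℳ : ℤ → AddSubgroup M}
  [DirectSum.Decomposition ℳ] [SetLike.GradedSMul 𝒜 ℳ] (EM : GrLC.StarInjRes 𝒜 ℳ)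
  {N : Type u} [AddCommGroup N] [Module S N] {𝒩 : ℤ → AddSubgroup N}
  [DirectSum.Decomposition 𝒩] [SetLike.GradedSMul ℬ 𝒩] (EN : GrLC.StarInjRes ℬ 𝒩)
  [IsNoetherianRing R] [IsNoetherianRing S] [IsNoetherianRing (R ⊗[k] S)]
  (a b : ℕ)

/-- the inclusion `Û ⊗ Ŵ → ⨁ E^i ⊗ ⨁ F^j`, `k`-linearly -/
noncomputable def iotaK : ↥(Uhat EM mR a) ⊗[k] ↥(Uhat EN mS b) →ₗ[k] Big EM.X ⊗[k] Big EN.X :=
  TensorProduct.map ((inc EM.X (a + 1) ∘ₗ (Uhat EM mR a).subtype).restrictScalars k)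
    ((inc EN.X (b + 1) ∘ₗ (Uhat EN mS b).subtype).restrictScalars k)

theorem iotaK_tmul (u : ↥(Uhat EM mR a)) (v : ↥(Uhat EN mS b)) :
    iotaK mR mS EM EN a b (u ⊗ₜ[k] v) = inc EM.X (a + 1) u.1 ⊗ₜ[k] inc EN.X (b + 1) v.1 := rfl

/-- the inclusion `Û ⊗ Ŵ → ⨁ E^i ⊗ ⨁ F^j`, `T`-linearly -/
noncomputable def iotaT : XT ψ ↥(Uhat EM mR a) ↥(Uhat EN mS b) →ₗ[T] XT ψ (Big EM.X) (Big EN.X) :=
  XTmap₂ ψ (inc EM.X (a + 1) ∘ₗ (Uhat EM mR a).subtype) (inc EN.X (b + 1) ∘ₗ (Uhat EN mS b).subtype)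

theorem iotaT_eq (x : XT ψ ↥(Uhat EM mR a) ↥(Uhat EN mS b)) :
    (iotaT ψ mR mS EM EN a b x : Big EM.X ⊗[k] Big EN.X) = iotaK mR mS EM EN a b x := rfl

theorem totπ_iotaK (x : ↥(Uhat EM mR a) ⊗[k] ↥(Uhat EN mS b)) :
    (totDG EM.X EM.d (dd EM) EN.X EN.d (dd EN)).π (a + b + 2) (iotaK mR mS EM EN a b x) =
      iotaK mR mS EM EN a b x := by
  induction x using TensorProduct.induction_on with
  | zero => rw [map_zero, map_zero]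
  | tmul u v =>
    rw [iotaK_tmul, show a + b + 2 = (a + 1) + (b + 1) by omega]
    exact totDG_π_inc_tmul EM.X EM.d (dd EM) EN.X EN.d (dd EN) (a + 1) (b + 1) u.1 v.1
  | add x y hx hy => rw [map_add, map_add, hx, hy]

include hT hmR hmS hmT in
/-- pure tensors with a torsion factor are torsion -/
theorem inc_tmul_mem_gam_left (i j : ℕ) (x : (EM.X i).carrier) (y : (EN.X j).carrier)
    (hx : x ∈ GrLC.gam mR.toIdeal (EM.X i).carrier) :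
    (show XT ψ (Big EM.X) (Big EN.X) from inc EM.X i x ⊗ₜ[k] inc EN.X j y) ∈
      GrLC.gam mT.toIdeal (XT ψ (Big EM.X) (Big EN.X)) :=
  tmul_mem_gam 𝒜 ℬ 𝒯 ψ hT mR.toIdeal hmR mT.toIdeal hmT
    (gam_map_mem mR.toIdeal (inc EM.X i) hx) (inc EN.X j y)

include hT hmR hmS hmT in
theorem inc_tmul_mem_gam_right (i j : ℕ) (x : (EM.X i).carrier) (y : (EN.X j).carrier)
    (hy : y ∈ GrLC.gam mS.toIdeal (EN.X j).carrier) :
    (show XT ψ (Big EM.X) (Big EN.X) from inc EM.X i x ⊗ₜ[k] inc EN.X j y) ∈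
      GrLC.gam mT.toIdeal (XT ψ (Big EM.X) (Big EN.X)) :=
  tmul_mem_gam_right 𝒜 ℬ 𝒯 ψ hT mR.toIdeal hmR mS.toIdeal hmS mT.toIdeal hmT (inc EM.X i x)
    (gam_map_mem mS.toIdeal (inc EN.X j) hy)

include hT hmR hmS hmT in
theorem totD_iotaK_mem_gam (x : ↥(Uhat EM mR a) ⊗[k] ↥(Uhat EN mS b)) :
    (show XT ψ (Big EM.X) (Big EN.X) from
      (totDG EM.X EM.d (dd EM) EN.X EN.d (dd EN)).d (iotaK mR mS EM EN a b x)) ∈
      GrLC.gam mT.toIdeal (XT ψ (Big EM.X) (Big EN.X)) := by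
  induction x using TensorProduct.induction_on with
  | zero => rw [map_zero, map_zero]; exact Submodule.zero_mem _
  | tmul u v =>
    rw [iotaK_tmul, totDG_d_inc_tmul]
    exact Submodule.add_mem _
      (inc_tmul_mem_gam_left 𝒯 ψ hT mR hmR mS hmS mT hmT EM EN _ _ _ _ u.2)
      (inc_tmul_mem_gam_right 𝒯 ψ hT mR hmR mS hmS mT hmT EM EN _ _ _ _ v.2)
  | add x y hx hy => rw [map_add, map_add]; exact Submodule.add_mem _ hx hy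

/-- the diagonal part of an element of total degree `n` lies in `Tot^n` -/
theorem D_mem_totSub (n : ℕ) (y : Big EM.X ⊗[k] Big EN.X)
    (hy : (totDG EM.X EM.d (dd EM) EN.X EN.d (dd EN)).π n y = y) :
    (show XT ψ (Big EM.X) (Big EN.X) from D 𝒜 ℬ (bigGr EM.X) (bigGr EN.X) y) ∈
      totSub 𝒯 ψ hT EM.X EM.d (dd EM) EN.X EN.d (dd EN) n := by
  refine ⟨D_mem_diagM 𝒜 ℬ (bigGr EM.X) (bigGr EN.X) y, ?_⟩
  show (totDG EM.X EM.d (dd EM) EN.X EN.d (dd EN)).π n (D 𝒜 ℬ (bigGr EM.X) (bigGr EN.X) y) = _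
  rw [← D_totDG_π EM.X EM.d (dd EM) EN.X EN.d (dd EN) n y, hy]

include hT in
/-- the diagonal projection preserves torsion -/
theorem D_mem_gam (y : XT ψ (Big EM.X) (Big EN.X))
    (hy : y ∈ GrLC.gam mT.toIdeal (XT ψ (Big EM.X) (Big EN.X))) :
    (show XT ψ (Big EM.X) (Big EN.X) from
      D 𝒜 ℬ (bigGr EM.X) (bigGr EN.X) (show Big EM.X ⊗[k] Big EN.X from y)) ∈
      GrLC.gam mT.toIdeal (XT ψ (Big EM.X) (Big EN.X)) :=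
  gam_map_mem mT.toIdeal ((diagT 𝒜 ℬ 𝒯 ψ hT (bigGr EM.X) (bigGr EN.X)).subtype ∘ₗ
    Dret 𝒜 ℬ 𝒯 ψ hT (bigGr EM.X) (bigGr EN.X)) hy

theorem phiHat1_aux (x : XT ψ ↥(Uhat EM mR a) ↥(Uhat EN mS b)) :
    ((diagT 𝒜 ℬ 𝒯 ψ hT (bigGr EM.X) (bigGr EN.X)).subtype ∘ₗ
      Dret 𝒜 ℬ 𝒯 ψ hT (bigGr EM.X) (bigGr EN.X) ∘ₗ totD ψ EM.X EM.d EN.X EN.d ∘ₗ
      iotaT ψ mR mS EM EN a b) x ∈
      totSub 𝒯 ψ hT EM.X EM.d (dd EM) EN.X EN.d (dd EN) (a + b + 2 + 1) := by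
  have h1 : (totDG EM.X EM.d (dd EM) EN.X EN.d (dd EN)).π (a + b + 2 + 1)
      ((totDG EM.X EM.d (dd EM) EN.X EN.d (dd EN)).d (iotaK mR mS EM EN a b x)) =
      (totDG EM.X EM.d (dd EM) EN.X EN.d (dd EN)).d (iotaK mR mS EM EN a b x) := by
    rw [← (totDG EM.X EM.d (dd EM) EN.X EN.d (dd EN)).dπ, totπ_iotaK]
  exact D_mem_totSub 𝒯 ψ hT EM EN (a + b + 2 + 1) _ h1

/-- `Φ̂₁ : Û ⊗ Ŵ → Tot^{a+b+3}`, `x ↦ D(d_tot(ι x))` -/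
noncomputable def phiHat1 : XT ψ ↥(Uhat EM mR a) ↥(Uhat EN mS b) →ₗ[T]
    (totMod 𝒯 ψ hT EM.X EM.d (dd EM) EN.X EN.d (dd EN) (a + b + 2 + 1)).carrier :=
  LinearMap.codRestrict (totSub 𝒯 ψ hT EM.X EM.d (dd EM) EN.X EN.d (dd EN) (a + b + 2 + 1))
    ((diagT 𝒜 ℬ 𝒯 ψ hT (bigGr EM.X) (bigGr EN.X)).subtype ∘ₗ
      Dret 𝒜 ℬ 𝒯 ψ hT (bigGr EM.X) (bigGr EN.X) ∘ₗ totD ψ EM.X EM.d EN.X EN.d ∘ₗ
      iotaT ψ mR mS EM EN a b)
    (phiHat1_aux 𝒯 ψ hT mR mS EM EN a b)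

theorem phiHat1_coe (x : XT ψ ↥(Uhat EM mR a) ↥(Uhat EN mS b)) :
    Subtype.val (p := fun w => w ∈ totSub 𝒯 ψ hT EM.X EM.d (dd EM) EN.X EN.d (dd EN) (a + b + 2 + 1))
      (phiHat1 𝒯 ψ hT mR mS EM EN a b x) =
      D 𝒜 ℬ (bigGr EM.X) (bigGr EN.X)
        ((totDG EM.X EM.d (dd EM) EN.X EN.d (dd EN)).d (iotaK mR mS EM EN a b x)) := rfl

include hmR hmS hmT in
theorem phiHat1_mem_cocyc (x : XT ψ ↥(Uhat EM mR a) ↥(Uhat EN mS b)) :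
    phiHat1 𝒯 ψ hT mR mS EM EN a b x ∈
      cocyc (idealPlus 𝒯 mT) (totMod 𝒯 ψ hT EM.X EM.d (dd EM) EN.X EN.d (dd EN))
        (totDn 𝒯 ψ hT EM.X EM.d EM.d_grHom (dd EM) EN.X EN.d EN.d_grHom (dd EN))
        (a + b + 2 + 1) := by
  refine Submodule.mem_inf.mpr ⟨?_, ?_⟩
  · apply (mem_gam_totSub_iff 𝒯 ψ hT EM.X EM.d (dd EM) EN.X EN.d (dd EN) (idealPlus 𝒯 mT)
      (a + b + 2 + 1) _).mpr
    rw [phiHat1_coe]
    exact D_mem_gam 𝒯 ψ hT mT EM EN _ (totD_iotaK_mem_gam 𝒯 ψ hT mR hmR mS hmS mT hmT EM EN a b x)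
  · rw [LinearMap.mem_ker]
    apply Subtype.ext
    rw [totDn_coe, phiHat1_coe, ← D_totDG_d EM.X EM.d EM.d_grHom (dd EM) EN.X EN.d EN.d_grHom (dd EN),
      (totDG EM.X EM.d (dd EM) EN.X EN.d (dd EN)).dd, map_zero]
    rfl

/-- `Φ̂ : Û ⊗ Ŵ → H^{a+b+3}(Γ_{T_+} Tot)` -/
noncomputable def phiHat : XT ψ ↥(Uhat EM mR a) ↥(Uhat EN mS b) →ₗ[T]
    HH (idealPlus 𝒯 mT) (totMod 𝒯 ψ hT EM.X EM.d (dd EM) EN.X EN.d (dd EN))
      (totDn 𝒯 ψ hT EM.X EM.d EM.d_grHom (dd EM) EN.X EN.d EN.d_grHom (dd EN)) (a + b + 2 + 1) :=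
  toHH (idealPlus 𝒯 mT) (totMod 𝒯 ψ hT EM.X EM.d (dd EM) EN.X EN.d (dd EN))
      (totDn 𝒯 ψ hT EM.X EM.d EM.d_grHom (dd EM) EN.X EN.d EN.d_grHom (dd EN)) (a + b + 2 + 1) ∘ₗ
    LinearMap.codRestrict _ (phiHat1 𝒯 ψ hT mR mS EM EN a b)
      (phiHat1_mem_cocyc 𝒯 ψ hT mR hmR mS hmS mT hmT EM EN a b)

theorem phiHat_apply (x : XT ψ ↥(Uhat EM mR a) ↥(Uhat EN mS b)) :
    phiHat 𝒯 ψ hT mR hmR mS hmS mT hmT EM EN a b x =
      toHH (idealPlus 𝒯 mT) (totMod 𝒯 ψ hT EM.X EM.d (dd EM) EN.X EN.d (dd EN))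
        (totDn 𝒯 ψ hT EM.X EM.d EM.d_grHom (dd EM) EN.X EN.d EN.d_grHom (dd EN)) (a + b + 2 + 1)
        ⟨phiHat1 𝒯 ψ hT mR mS EM EN a b x,
          phiHat1_mem_cocyc 𝒯 ψ hT mR hmR mS hmS mT hmT EM EN a b x⟩ := rfl

include hmR hmS hmT in
/-- a class represented by `D(d_tot y)` with `y` torsion of total degree `a+b+2` vanishes -/
theorem toHH_eq_zero_of (z : ↥(cocyc (idealPlus 𝒯 mT)
      (totMod 𝒯 ψ hT EM.X EM.d (dd EM) EN.X EN.d (dd EN))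
      (totDn 𝒯 ψ hT EM.X EM.d EM.d_grHom (dd EM) EN.X EN.d EN.d_grHom (dd EN)) (a + b + 2 + 1)))
    (y : Big EM.X ⊗[k] Big EN.X)
    (hy1 : (show XT ψ (Big EM.X) (Big EN.X) from y) ∈
      GrLC.gam mT.toIdeal (XT ψ (Big EM.X) (Big EN.X)))
    (hy2 : (totDG EM.X EM.d (dd EM) EN.X EN.d (dd EN)).π (a + b + 2) y = y)
    (hz : Subtype.val (p := fun w => w ∈ totSub 𝒯 ψ hT EM.X EM.d (dd EM) EN.X EN.d (dd EN)
        (a + b + 2 + 1)) z.1 =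
      D 𝒜 ℬ (bigGr EM.X) (bigGr EN.X) ((totDG EM.X EM.d (dd EM) EN.X EN.d (dd EN)).d y)) :
    toHH (idealPlus 𝒯 mT) (totMod 𝒯 ψ hT EM.X EM.d (dd EM) EN.X EN.d (dd EN))
      (totDn 𝒯 ψ hT EM.X EM.d EM.d_grHom (dd EM) EN.X EN.d EN.d_grHom (dd EN)) (a + b + 2 + 1) z =
      0 := by
  apply (Submodule.Quotient.mk_eq_zero _).mpr
  let κ : ↥(totSub 𝒯 ψ hT EM.X EM.d (dd EM) EN.X EN.d (dd EN) (a + b + 2)) :=
    ⟨D 𝒜 ℬ (bigGr EM.X) (bigGr EN.X) y, D_mem_totSub 𝒯 ψ hT EM EN (a + b + 2) y hy2⟩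
  refine ⟨κ, ?_, ?_⟩
  · apply (mem_gam_totSub_iff 𝒯 ψ hT EM.X EM.d (dd EM) EN.X EN.d (dd EN) (idealPlus 𝒯 mT)
      (a + b + 2) κ).mpr
    exact D_mem_gam 𝒯 ψ hT mT EM EN _ hy1
  · apply Subtype.ext
    rw [totDn_coe]
    show (totDG EM.X EM.d (dd EM) EN.X EN.d (dd EN)).d (D 𝒜 ℬ (bigGr EM.X) (bigGr EN.X) y) = _
    rw [← D_totDG_d EM.X EM.d EM.d_grHom (dd EM) EN.X EN.d EN.d_grHom (dd EN)]
    exact hz.symm

include hmR hmS hmT in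
theorem phiHat_tmul_left (u : ↥(Uhat EM mR a)) (v : ↥(Uhat EN mS b))
    (h : fU EM mR a u = 0) :
    phiHat 𝒯 ψ hT mR hmR mS hmS mT hmT EM EN a b (XT.tmul ψ u v) = 0 := by
  obtain ⟨γ, hγ, ζ, hu⟩ := exists_of_fU_eq_zero EM mR a u h
  rw [phiHat_apply]
  refine toHH_eq_zero_of 𝒯 ψ hT mR hmR mS hmS mT hmT EM EN a b _
    (inc EM.X (a + 1) γ ⊗ₜ[k] inc EN.X (b + 1) v.1 +
      inc EM.X a (((-1 : R) ^ (a + 1)) • ζ) ⊗ₜ[k] inc EN.X (b + 1 + 1) (EN.d (b + 1) v.1)) ?_ ?_ ?_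
  · exact Submodule.add_mem _
      (inc_tmul_mem_gam_left 𝒯 ψ hT mR hmR mS hmS mT hmT EM EN _ _ _ _ hγ)
      (inc_tmul_mem_gam_right 𝒯 ψ hT mR hmR mS hmS mT hmT EM EN _ _ _ _ v.2)
  · rw [map_add]
    congr 1
    · rw [show a + b + 2 = (a + 1) + (b + 1) by omega]
      exact totDG_π_inc_tmul EM.X EM.d (dd EM) EN.X EN.d (dd EN) _ _ _ _
    · rw [show a + b + 2 = a + (b + 1 + 1) by omega]
      exact totDG_π_inc_tmul EM.X EM.d (dd EM) EN.X EN.d (dd EN) _ _ _ _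
  · show D 𝒜 ℬ (bigGr EM.X) (bigGr EN.X) ((totDG EM.X EM.d (dd EM) EN.X EN.d (dd EN)).d
      (iotaK mR mS EM EN a b (u ⊗ₜ[k] v))) = _
    congr 1
    rw [iotaK_tmul, hu, map_add, add_tmul, map_add, map_add]
    congr 1
    rw [totDG_d_inc_d_tmul, totDG_d_inc_tmul_d, LinearMap.map_smul (EM.d a)]

include hmR hmS hmT in
theorem phiHat_tmul_right (u : ↥(Uhat EM mR a)) (v : ↥(Uhat EN mS b))
    (h : fU EN mS b v = 0) :
    phiHat 𝒯 ψ hT mR hmR mS hmS mT hmT EM EN a b (XT.tmul ψ u v) = 0 := by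
  obtain ⟨γ, hγ, ζ, hv⟩ := exists_of_fU_eq_zero EN mS b v h
  rw [phiHat_apply]
  refine toHH_eq_zero_of 𝒯 ψ hT mR hmR mS hmS mT hmT EM EN a b _
    (inc EM.X (a + 1) u.1 ⊗ₜ[k] inc EN.X (b + 1) γ +
      inc EM.X (a + 1 + 1) (EM.d (a + 1) (((-1 : R) ^ (a + 1 + 1)) • u.1)) ⊗ₜ[k] inc EN.X b ζ) ?_ ?_ ?_
  · exact Submodule.add_mem _
      (inc_tmul_mem_gam_right 𝒯 ψ hT mR hmR mS hmS mT hmT EM EN _ _ _ _ hγ)
      (inc_tmul_mem_gam_left 𝒯 ψ hT mR hmR mS hmS mT hmT EM EN _ _ _ _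
        (by rw [map_smul]; exact Submodule.smul_mem _ _ u.2))
  · rw [map_add]
    congr 1
    · rw [show a + b + 2 = (a + 1) + (b + 1) by omega]
      exact totDG_π_inc_tmul EM.X EM.d (dd EM) EN.X EN.d (dd EN) _ _ _ _
    · rw [show a + b + 2 = (a + 1 + 1) + b by omega]
      exact totDG_π_inc_tmul EM.X EM.d (dd EM) EN.X EN.d (dd EN) _ _ _ _
  · show D 𝒜 ℬ (bigGr EM.X) (bigGr EN.X) ((totDG EM.X EM.d (dd EM) EN.X EN.d (dd EN)).d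
      (iotaK mR mS EM EN a b (u ⊗ₜ[k] v))) = _
    congr 1
    have hs : ((-1 : R) ^ (a + 1 + 1)) • EM.d (a + 1) (((-1 : R) ^ (a + 1 + 1)) • u.1) =
        EM.d (a + 1) u.1 := by
      rw [map_smul, ← mul_smul, ← mul_pow, neg_mul_neg, one_mul, one_pow, one_smul]
    rw [iotaK_tmul, hv, map_add, tmul_add, map_add, map_add]
    congr 1
    rw [totDG_d_inc_d_tmul, totDG_d_inc_tmul_d, hs]

end Two

end Groth.Agent.Helper7.KunMd
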