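import Mathlib
import Groth.Prelude.Def_GrLC
import Groth.Prelude.Def_Wider
import Groth.Prelude.Def_GrSeg
import Groth.Agent.Helper7.KunMd2

/-!
# Künneth project, module form, part 3: the `T`-linear map
`Φ : H^{a+2}_m(M) ⊗ H^{b+2}_n(N) → H^{a+b+3}(Γ_{T_+} Tot)`, injective on the diagonal part.
-/

set_option autoImplicit false
set_option linter.unusedSectionVars false
set_option linter.style.haveILetI false

namespace Groth.Agent.Helper7.KunMd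

open TensorProduct Groth.Agent.Helper9.SegreMod Groth.Agent.Helper9.Segre
  Groth.Agent.Helper7.SegMod Groth.Agent.Helper7.KunLA Groth.Agent.Helper7.GrAcy
  Groth.Agent.Helper7.Kun

universe u

attribute [local instance] gmodModuleK gmodTowerK

section Three

variable {k : Type u} [Field k] {R S T : Type u} [CommRing R] [Algebra k R] [CommRing S] [Algebra k S]
  [CommRing T] [Algebra k T]
  {𝒜 : ℤ → Submodule k R} [GradedAlgebra 𝒜] {ℬ : ℤ → Submodule k S} [GradedAlgebra ℬ]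
  (𝒯 : ℤ → Submodule k T) [GradedAlgebra 𝒯] (ψ : T →ₐ[k] R ⊗[k] S)
  (hT : GrSeg.IsSegreRing 𝒜 ℬ 𝒯 ψ)
  (mR : HomogeneousIdeal 𝒜)
  (hmR : mR.toIdeal = Ideal.span (⋃ n ∈ Set.Ioi (0 : ℤ), (𝒜 n : Set R)))
  (mS : HomogeneousIdeal ℬ)
  (hmS : mS.toIdeal = Ideal.span (⋃ n ∈ Set.Ioi (0 : ℤ), (ℬ n : Set S)))
  (mT : HomogeneousIdeal 𝒯)
  (hmT : mT.toIdeal = Ideal.span (⋃ n ∈ Set.Ioi (0 : ℤ), (𝒯 n : Set T)))
  {M : Type u} [AddCommGroup M] [Module R M] {ℳ : ℤ → AddSubgroup M}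
  [DirectSum.Decomposition ℳ] [SetLike.GradedSMul 𝒜 ℳ] (EM : GrLC.StarInjRes 𝒜 ℳ)
  {N : Type u} [AddCommGroup N] [Module S N] {𝒩 : ℤ → AddSubgroup N}
  [DirectSum.Decomposition 𝒩] [SetLike.GradedSMul ℬ 𝒩] (EN : GrLC.StarInjRes ℬ 𝒩)
  [IsNoetherianRing R] [IsNoetherianRing S] [IsNoetherianRing (R ⊗[k] S)]
  (a b : ℕ)

/-- `π : Û ⊗ Ŵ → H^{a+2} ⊗ H^{b+2}` -/
noncomputable def piT : XT ψ ↥(Uhat EM mR a) ↥(Uhat EN mS b) →ₗ[T]
    XT ψ (EM.H mR (a + 1 + 1)) (EN.H mS (b + 1 + 1)) :=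
  XTmap₂ ψ (fU EM mR a) (fU EN mS b)

theorem piT_tmul (u : ↥(Uhat EM mR a)) (v : ↥(Uhat EN mS b)) :
    piT ψ mR mS EM EN a b (XT.tmul ψ u v) = XT.tmul ψ (fU EM mR a u) (fU EN mS b v) := rfl

theorem piT_surjective : Function.Surjective (piT ψ mR mS EM EN a b) :=
  TensorProduct.map_surjective (g := (fU EM mR a).restrictScalars k)
    (g' := (fU EN mS b).restrictScalars k) (fU_surjective EM mR a) (fU_surjective EN mS b)

include hmR hmS hmT in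
theorem phiHat_eq_zero_of_piT (x : XT ψ ↥(Uhat EM mR a) ↥(Uhat EN mS b))
    (hx : piT ψ mR mS EM EN a b x = 0) :
    phiHat 𝒯 ψ hT mR hmR mS hmS mT hmT EM EN a b x = 0 := by
  have hex1 : Function.Exact ((LinearMap.ker (fU EM mR a)).subtype.restrictScalars k)
      ((fU EM mR a).restrictScalars k) := LinearMap.exact_subtype_ker_map (fU EM mR a)
  have hex2 : Function.Exact ((LinearMap.ker (fU EN mS b)).subtype.restrictScalars k)
      ((fU EN mS b).restrictScalars k) := LinearMap.exact_subtype_ker_map (fU EN mS b)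
  have hker := TensorProduct.map_ker hex1 (fU_surjective EM mR a) hex2 (fU_surjective EN mS b)
  have hx' : (show ↥(Uhat EM mR a) ⊗[k] ↥(Uhat EN mS b) from x) ∈ LinearMap.ker
      (TensorProduct.map ((fU EM mR a).restrictScalars k) ((fU EN mS b).restrictScalars k)) := hx
  rw [hker] at hx'
  obtain ⟨z₁, ⟨w₁, hw₁⟩, z₂, ⟨w₂, hw₂⟩, hsum⟩ := Submodule.mem_sup.mp hx'
  have h1 : ∀ w : ↥(Uhat EM mR a) ⊗[k] ↥(LinearMap.ker (fU EN mS b)),
      phiHat 𝒯 ψ hT mR hmR mS hmS mT hmT EM EN a b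
        (show XT ψ ↥(Uhat EM mR a) ↥(Uhat EN mS b) from LinearMap.lTensor ↥(Uhat EM mR a)
          ((LinearMap.ker (fU EN mS b)).subtype.restrictScalars k) w) = 0 := by
    intro w
    induction w using TensorProduct.induction_on with
    | zero => rw [map_zero]; exact map_zero _
    | tmul u v =>
      exact phiHat_tmul_right 𝒯 ψ hT mR hmR mS hmS mT hmT EM EN a b u v.1 (LinearMap.mem_ker.mp v.2)
    | add v w hv hw =>
      rw [map_add]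
      exact (map_add (phiHat 𝒯 ψ hT mR hmR mS hmS mT hmT EM EN a b) _ _).trans
        (by rw [hv, hw, add_zero])
  have h2 : ∀ w : ↥(LinearMap.ker (fU EM mR a)) ⊗[k] ↥(Uhat EN mS b),
      phiHat 𝒯 ψ hT mR hmR mS hmS mT hmT EM EN a b
        (show XT ψ ↥(Uhat EM mR a) ↥(Uhat EN mS b) from LinearMap.rTensor ↥(Uhat EN mS b)
          ((LinearMap.ker (fU EM mR a)).subtype.restrictScalars k) w) = 0 := by
    intro w
    induction w using TensorProduct.induction_on with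
    | zero => rw [map_zero]; exact map_zero _
    | tmul u v =>
      exact phiHat_tmul_left 𝒯 ψ hT mR hmR mS hmS mT hmT EM EN a b u.1 v (LinearMap.mem_ker.mp u.2)
    | add v w hv hw =>
      rw [map_add]
      exact (map_add (phiHat 𝒯 ψ hT mR hmR mS hmS mT hmT EM EN a b) _ _).trans
        (by rw [hv, hw, add_zero])
  have h3 : x = (show XT ψ ↥(Uhat EM mR a) ↥(Uhat EN mS b) from z₁) +
      (show XT ψ ↥(Uhat EM mR a) ↥(Uhat EN mS b) from z₂) := hsum.symm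
  rw [h3, map_add, ← hw₁, ← hw₂, h1 w₁, h2 w₂, add_zero]

/-- `Φ : H^{a+2}_m(M) ⊗ H^{b+2}_n(N) → H^{a+b+3}(Γ_{T_+} Tot)` -/
noncomputable def PhiT : XT ψ (EM.H mR (a + 1 + 1)) (EN.H mS (b + 1 + 1)) →ₗ[T]
    HH (idealPlus 𝒯 mT) (totMod 𝒯 ψ hT EM.X EM.d (dd EM) EN.X EN.d (dd EN))
      (totDn 𝒯 ψ hT EM.X EM.d EM.d_grHom (dd EM) EN.X EN.d EN.d_grHom (dd EN)) (a + b + 2 + 1) :=
  ((LinearMap.ker (piT ψ mR mS EM EN a b)).liftQ
      (phiHat 𝒯 ψ hT mR hmR mS hmS mT hmT EM EN a b)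
      (fun x hx => LinearMap.mem_ker.mpr
        (phiHat_eq_zero_of_piT 𝒯 ψ hT mR hmR mS hmS mT hmT EM EN a b x (LinearMap.mem_ker.mp hx)))) ∘ₗ
    ((piT ψ mR mS EM EN a b).quotKerEquivOfSurjective
      (piT_surjective ψ mR mS EM EN a b)).symm.toLinearMap

theorem PhiT_piT (x : XT ψ ↥(Uhat EM mR a) ↥(Uhat EN mS b)) :
    PhiT 𝒯 ψ hT mR hmR mS hmS mT hmT EM EN a b (piT ψ mR mS EM EN a b x) =
      phiHat 𝒯 ψ hT mR hmR mS hmS mT hmT EM EN a b x := by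
  have h1 : ((piT ψ mR mS EM EN a b).quotKerEquivOfSurjective
      (piT_surjective ψ mR mS EM EN a b)).symm (piT ψ mR mS EM EN a b x) =
      Submodule.Quotient.mk x := by
    rw [LinearEquiv.symm_apply_eq]
    rfl
  unfold PhiT
  rw [LinearMap.comp_apply, LinearEquiv.coe_coe, h1]
  rfl

/-- the detecting map `Λ = (ρ ∘ d ∘ pr_{a+1}) ⊗ (σ ∘ d ∘ pr_{b+1})` -/
noncomputable def lamK (ρ : (EM.X (a + 1 + 1)).carrier →ₗ[k] EM.H mR (a + 1 + 1))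
    (σ : (EN.X (b + 1 + 1)).carrier →ₗ[k] EN.H mS (b + 1 + 1)) :
    Big EM.X ⊗[k] Big EN.X →ₗ[k] EM.H mR (a + 1 + 1) ⊗[k] EN.H mS (b + 1 + 1) :=
  TensorProduct.map (ρ ∘ₗ ((EM.d (a + 1) ∘ₗ cmp EM.X (a + 1)).restrictScalars k))
    (σ ∘ₗ ((EN.d (b + 1) ∘ₗ cmp EN.X (b + 1)).restrictScalars k))

theorem lamK_tmul (ρ : (EM.X (a + 1 + 1)).carrier →ₗ[k] EM.H mR (a + 1 + 1))
    (σ : (EN.X (b + 1 + 1)).carrier →ₗ[k] EN.H mS (b + 1 + 1)) (v : Big EM.X) (w : Big EN.X) :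
    lamK mR mS EM EN a b ρ σ (v ⊗ₜ[k] w) =
      ρ (EM.d (a + 1) (cmp EM.X (a + 1) v)) ⊗ₜ[k] σ (EN.d (b + 1) (cmp EN.X (b + 1) w)) := rfl

variable {ρ : (EM.X (a + 1 + 1)).carrier →ₗ[k] EM.H mR (a + 1 + 1)}
  (hρ : ∀ z : ↥(EM.cocyc mR (a + 1 + 1)), ρ z.1 = EM.toH mR (a + 1 + 1) z)
  {σ : (EN.X (b + 1 + 1)).carrier →ₗ[k] EN.H mS (b + 1 + 1)}
  (hσ : ∀ z : ↥(EN.cocyc mS (b + 1 + 1)), σ z.1 = EN.toH mS (b + 1 + 1) z)

include hρ hσ in
theorem lamK_iotaK (x : ↥(Uhat EM mR a) ⊗[k] ↥(Uhat EN mS b)) :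
    lamK mR mS EM EN a b ρ σ (iotaK mR mS EM EN a b x) =
      (piT ψ mR mS EM EN a b (show XT ψ ↥(Uhat EM mR a) ↥(Uhat EN mS b) from x) :
        EM.H mR (a + 1 + 1) ⊗[k] EN.H mS (b + 1 + 1)) := by
  induction x using TensorProduct.induction_on with
  | zero => rw [map_zero, map_zero]; exact (map_zero (piT ψ mR mS EM EN a b)).symm
  | tmul u v =>
    rw [iotaK_tmul, lamK_tmul, cmp_inc_same, cmp_inc_same, rho_d_Uhat EM mR a hρ u,
      rho_d_Uhat EN mS b hσ v]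
    rfl
  | add x y hx hy =>
    rw [map_add, map_add, hx, hy]
    exact (map_add (piT ψ mR mS EM EN a b) _ _).symm

theorem lamK_totD (ρ : (EM.X (a + 1 + 1)).carrier →ₗ[k] EM.H mR (a + 1 + 1))
    (σ : (EN.X (b + 1 + 1)).carrier →ₗ[k] EN.H mS (b + 1 + 1)) (η : Big EM.X ⊗[k] Big EN.X) :
    lamK mR mS EM EN a b ρ σ ((totDG EM.X EM.d (dd EM) EN.X EN.d (dd EN)).d η) = 0 := by
  induction η using TensorProduct.induction_on with
  | zero => rw [map_zero, map_zero]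
  | tmul v w =>
    rw [DG.tensor_d_tmul, map_add, lamK_tmul, lamK_tmul, bigDG_d, bigDG_d, cmp_succ_bigD,
      cmp_succ_bigD, dd EM, dd EN, map_zero, map_zero, zero_tmul, tmul_zero, add_zero]
  | add x y hx hy => rw [map_add, map_add, hx, hy, add_zero]

include hT hmR hmS hmT hρ hσ in
theorem lamK_gam (κ : XT ψ (Big EM.X) (Big EN.X))
    (hκ : κ ∈ GrLC.gam mT.toIdeal (XT ψ (Big EM.X) (Big EN.X))) :
    lamK mR mS EM EN a b ρ σ (show Big EM.X ⊗[k] Big EN.X from κ) = 0 := by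
  have hz := (mem_gam_XT_iff 𝒜 ℬ 𝒯 ψ hT mR.toIdeal hmR mS.toIdeal hmS mT.toIdeal hmT
    (Big EM.X) (Big EN.X) κ).mp hκ
  have hex1 : Function.Exact ((GrLC.gam mR.toIdeal (Big EM.X)).subtype.restrictScalars k)
      ((GrLC.gam mR.toIdeal (Big EM.X)).mkQ.restrictScalars k) :=
    LinearMap.exact_subtype_mkQ (GrLC.gam mR.toIdeal (Big EM.X))
  have hex2 : Function.Exact ((GrLC.gam mS.toIdeal (Big EN.X)).subtype.restrictScalars k)
      ((GrLC.gam mS.toIdeal (Big EN.X)).mkQ.restrictScalars k) :=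
    LinearMap.exact_subtype_mkQ (GrLC.gam mS.toIdeal (Big EN.X))
  have hker := TensorProduct.map_ker hex1 (Submodule.mkQ_surjective (GrLC.gam mR.toIdeal (Big EM.X)))
    hex2 (Submodule.mkQ_surjective (GrLC.gam mS.toIdeal (Big EN.X)))
  have hz' : (show Big EM.X ⊗[k] Big EN.X from κ) ∈ LinearMap.ker (TensorProduct.map
      ((GrLC.gam mR.toIdeal (Big EM.X)).mkQ.restrictScalars k)
      ((GrLC.gam mS.toIdeal (Big EN.X)).mkQ.restrictScalars k)) := hz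
  rw [hker] at hz'
  obtain ⟨z₁, ⟨w₁, hw₁⟩, z₂, ⟨w₂, hw₂⟩, hsum⟩ := Submodule.mem_sup.mp hz'
  have h1 : ∀ w : Big EM.X ⊗[k] ↥(GrLC.gam mS.toIdeal (Big EN.X)),
      lamK mR mS EM EN a b ρ σ (LinearMap.lTensor (Big EM.X)
        ((GrLC.gam mS.toIdeal (Big EN.X)).subtype.restrictScalars k) w) = 0 := by
    intro w
    induction w using TensorProduct.induction_on with
    | zero => rw [map_zero, map_zero]
    | tmul x y =>
      rw [LinearMap.lTensor_tmul]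
      show lamK mR mS EM EN a b ρ σ (x ⊗ₜ[k] y.1) = 0
      rw [lamK_tmul, rho_d_gam EN mS b hσ _ (gam_map_mem mS.toIdeal (cmp EN.X (b + 1)) y.2),
        tmul_zero]
    | add v w hv hw => rw [map_add, map_add, hv, hw, add_zero]
  have h2 : ∀ w : ↥(GrLC.gam mR.toIdeal (Big EM.X)) ⊗[k] Big EN.X,
      lamK mR mS EM EN a b ρ σ (LinearMap.rTensor (Big EN.X)
        ((GrLC.gam mR.toIdeal (Big EM.X)).subtype.restrictScalars k) w) = 0 := by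
    intro w
    induction w using TensorProduct.induction_on with
    | zero => rw [map_zero, map_zero]
    | tmul x y =>
      rw [LinearMap.rTensor_tmul]
      show lamK mR mS EM EN a b ρ σ (x.1 ⊗ₜ[k] y) = 0
      rw [lamK_tmul, rho_d_gam EM mR a hρ _ (gam_map_mem mR.toIdeal (cmp EM.X (a + 1)) x.2),
        zero_tmul]
    | add v w hv hw => rw [map_add, map_add, hv, hw, add_zero]
  rw [← hsum, map_add, ← hw₁, ← hw₂, h1 w₁, h2 w₂, add_zero]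

/-- homogeneous lifting of Segre pieces -/
theorem exists_lift_segrePiece (e : ℤ) (x : EM.H mR (a + 1 + 1) ⊗[k] EN.H mS (b + 1 + 1))
    (hx : x ∈ GrSeg.segrePiece k (EM.Hgr mR (a + 1 + 1)) (EN.Hgr mS (b + 1 + 1)) e) :
    ∃ ξ : ↥(Uhat EM mR a) ⊗[k] ↥(Uhat EN mS b),
      (piT ψ mR mS EM EN a b (show XT ψ ↥(Uhat EM mR a) ↥(Uhat EN mS b) from ξ) :
        EM.H mR (a + 1 + 1) ⊗[k] EN.H mS (b + 1 + 1)) = x ∧
      iotaK mR mS EM EN a b ξ ∈ GrSeg.segrePiece k (bigGr EM.X) (bigGr EN.X) e := by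
  unfold GrSeg.segrePiece at hx
  induction hx using Submodule.span_induction with
  | mem x hx =>
    obtain ⟨h, hh, h', hh', rfl⟩ := hx
    obtain ⟨u, hu, rfl⟩ := exists_homog_lift EM mR a e h hh
    obtain ⟨v, hv, rfl⟩ := exists_homog_lift EN mS b e h' hh'
    refine ⟨u ⊗ₜ[k] v, rfl, ?_⟩
    rw [iotaK_tmul]
    exact Submodule.subset_span ⟨_, inc_mem_bigGr EM.X hu, _, inc_mem_bigGr EN.X hv, rfl⟩
  | zero =>
    exact ⟨0, map_zero (piT ψ mR mS EM EN a b), by rw [map_zero]; exact Submodule.zero_mem _⟩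
  | add x y _ _ hx hy =>
    obtain ⟨ξ, h1, h2⟩ := hx
    obtain ⟨ξ', h1', h2'⟩ := hy
    refine ⟨ξ + ξ', ?_, by rw [map_add]; exact Submodule.add_mem _ h2 h2'⟩
    rw [← h1, ← h1']
    exact map_add (piT ψ mR mS EM EN a b) _ _
  | smul c x _ hx =>
    obtain ⟨ξ, h1, h2⟩ := hx
    refine ⟨c • ξ, ?_, by rw [map_smul]; exact Submodule.smul_mem _ _ h2⟩
    rw [← h1]
    exact map_smul (TensorProduct.map ((fU EM mR a).restrictScalars k)
      ((fU EN mS b).restrictScalars k)) c ξ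

/-- the diagonal part of `H^{a+2} ⊗ H^{b+2}` -/
noncomputable def diagH : Submodule k (EM.H mR (a + 1 + 1) ⊗[k] EN.H mS (b + 1 + 1)) :=
  ⨆ e : ℤ, GrSeg.segrePiece k (EM.Hgr mR (a + 1 + 1)) (EN.Hgr mS (b + 1 + 1)) e

theorem exists_lift_diagH (x : EM.H mR (a + 1 + 1) ⊗[k] EN.H mS (b + 1 + 1))
    (hx : x ∈ diagH mR mS EM EN a b) :
    ∃ ξ : ↥(Uhat EM mR a) ⊗[k] ↥(Uhat EN mS b),
      (piT ψ mR mS EM EN a b (show XT ψ ↥(Uhat EM mR a) ↥(Uhat EN mS b) from ξ) :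
        EM.H mR (a + 1 + 1) ⊗[k] EN.H mS (b + 1 + 1)) = x ∧
      iotaK mR mS EM EN a b ξ ∈ diagM (bigGr EM.X) (bigGr EN.X) := by
  unfold diagH at hx
  induction hx using Submodule.iSup_induction' with
  | mem e x hx =>
    obtain ⟨ξ, h1, h2⟩ := exists_lift_segrePiece ψ mR mS EM EN a b e x hx
    exact ⟨ξ, h1, segrePiece_le_diagM (bigGr EM.X) (bigGr EN.X) e h2⟩
  | zero =>
    exact ⟨0, map_zero (piT ψ mR mS EM EN a b), by rw [map_zero]; exact Submodule.zero_mem _⟩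
  | add x y _ _ hx hy =>
    obtain ⟨ξ, h1, h2⟩ := hx
    obtain ⟨ξ', h1', h2'⟩ := hy
    refine ⟨ξ + ξ', ?_, by rw [map_add]; exact Submodule.add_mem _ h2 h2'⟩
    rw [← h1, ← h1']
    exact map_add (piT ψ mR mS EM EN a b) _ _

include hmR hmS hmT in
/-- **`Φ` is injective on the diagonal part** -/
theorem PhiT_eq_zero (x : XT ψ (EM.H mR (a + 1 + 1)) (EN.H mS (b + 1 + 1)))
    (hx : (show EM.H mR (a + 1 + 1) ⊗[k] EN.H mS (b + 1 + 1) from x) ∈ diagH mR mS EM EN a b)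
    (h0 : PhiT 𝒯 ψ hT mR hmR mS hmS mT hmT EM EN a b x = 0) : x = 0 := by
  obtain ⟨ρ, hρ⟩ := exists_rho (k := k) EM mR a
  obtain ⟨σ, hσ⟩ := exists_rho (k := k) EN mS b
  obtain ⟨ξ, hξ1, hξ2⟩ := exists_lift_diagH ψ mR mS EM EN a b x hx
  have hξ1' : piT ψ mR mS EM EN a b (show XT ψ ↥(Uhat EM mR a) ↥(Uhat EN mS b) from ξ) = x := hξ1
  rw [← hξ1', PhiT_piT, phiHat_apply] at h0
  have h1 := (Submodule.Quotient.mk_eq_zero _).mp h0
  obtain ⟨(κ : ↥(totSub 𝒯 ψ hT EM.X EM.d (dd EM) EN.X EN.d (dd EN) (a + b + 2))), hκ, hκz⟩ := h1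
  -- `κ ∈ Tot^{a+b+2}` torsion with `d κ = D (d (ι ξ)) = d (ι ξ)`
  have hκ' : (κ : XT ψ (Big EM.X) (Big EN.X)) ∈ GrLC.gam mT.toIdeal (XT ψ (Big EM.X) (Big EN.X)) :=
    (mem_gam_totSub_iff 𝒯 ψ hT EM.X EM.d (dd EM) EN.X EN.d (dd EN) (idealPlus 𝒯 mT)
      (a + b + 2) κ).mp hκ
  have hdκ : (totDG EM.X EM.d (dd EM) EN.X EN.d (dd EN)).d (κ : XT ψ (Big EM.X) (Big EN.X)) =
      (totDG EM.X EM.d (dd EM) EN.X EN.d (dd EN)).d (iotaK mR mS EM EN a b ξ) := by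
    have h2 := congrArg (Subtype.val (p := fun w => w ∈ totSub 𝒯 ψ hT EM.X EM.d (dd EM) EN.X EN.d
      (dd EN) (a + b + 2 + 1))) hκz
    rw [totDn_coe] at h2
    rw [h2]
    show D 𝒜 ℬ (bigGr EM.X) (bigGr EN.X)
      ((totDG EM.X EM.d (dd EM) EN.X EN.d (dd EN)).d (iotaK mR mS EM EN a b ξ)) = _
    rw [D_totDG_d EM.X EM.d EM.d_grHom (dd EM) EN.X EN.d EN.d_grHom (dd EN),
      D_fix 𝒜 ℬ (bigGr EM.X) (bigGr EN.X) _ hξ2]
  -- `ι ξ - κ` is a cocycle of `Tot^{a+b+2}`, hence a coboundary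
  have hmem : (show XT ψ (Big EM.X) (Big EN.X) from iotaK mR mS EM EN a b ξ) ∈
      totSub 𝒯 ψ hT EM.X EM.d (dd EM) EN.X EN.d (dd EN) (a + b + 1 + 1) :=
    ⟨hξ2, totπ_iotaK mR mS EM EN a b ξ⟩
  have hκmem : (κ : XT ψ (Big EM.X) (Big EN.X)) ∈
      totSub 𝒯 ψ hT EM.X EM.d (dd EM) EN.X EN.d (dd EN) (a + b + 1 + 1) := κ.2
  have hw : (show (totMod 𝒯 ψ hT EM.X EM.d (dd EM) EN.X EN.d (dd EN) (a + b + 1 + 1)).carrier from
      (⟨(show XT ψ (Big EM.X) (Big EN.X) from iotaK mR mS EM EN a b ξ) -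
        (κ : XT ψ (Big EM.X) (Big EN.X)), Submodule.sub_mem _ hmem hκmem⟩ :
        ↥(totSub 𝒯 ψ hT EM.X EM.d (dd EM) EN.X EN.d (dd EN) (a + b + 1 + 1)))) ∈ LinearMap.ker
      (totDn 𝒯 ψ hT EM.X EM.d EM.d_grHom (dd EM) EN.X EN.d EN.d_grHom (dd EN) (a + b + 1 + 1)) := by
    apply LinearMap.mem_ker.mpr
    apply Subtype.ext
    rw [totDn_coe]
    show (totDG EM.X EM.d (dd EM) EN.X EN.d (dd EN)).d
      (iotaK mR mS EM EN a b ξ -
        (show Big EM.X ⊗[k] Big EN.X from (κ : XT ψ (Big EM.X) (Big EN.X)))) = 0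
    rw [map_sub]
    exact sub_eq_zero.mpr hdκ.symm
  rw [totDn_exact_succ 𝒯 ψ hT EM.X EM.d EM.d_grHom (dd EM) EN.X EN.d EN.d_grHom (dd EN)
    EM.exact_succ EN.exact_succ (a + b + 1)] at hw
  obtain ⟨η, hη⟩ := hw
  have hη' : (totDG EM.X EM.d (dd EM) EN.X EN.d (dd EN)).d
      (Subtype.val (p := fun w => w ∈ totSub 𝒯 ψ hT EM.X EM.d (dd EM) EN.X EN.d (dd EN)
        (a + b + 1)) η) =
      iotaK mR mS EM EN a b ξ -
        (show Big EM.X ⊗[k] Big EN.X from (κ : XT ψ (Big EM.X) (Big EN.X))) := by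
    have h2 := congrArg (Subtype.val (p := fun w => w ∈ totSub 𝒯 ψ hT EM.X EM.d (dd EM) EN.X EN.d
      (dd EN) (a + b + 1 + 1))) hη
    rw [totDn_coe] at h2
    exact h2
  have h3 : iotaK mR mS EM EN a b ξ =
      (show Big EM.X ⊗[k] Big EN.X from (κ : XT ψ (Big EM.X) (Big EN.X))) +
      (totDG EM.X EM.d (dd EM) EN.X EN.d (dd EN)).d
        (Subtype.val (p := fun w => w ∈ totSub 𝒯 ψ hT EM.X EM.d (dd EM) EN.X EN.d (dd EN)
          (a + b + 1)) η) := by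
    rw [hη']; abel
  have h4 := lamK_iotaK ψ mR mS EM EN a b hρ hσ ξ
  rw [h3, map_add, lamK_totD, add_zero,
    lamK_gam 𝒯 ψ hT mR hmR mS hmS mT hmT EM EN a b hρ hσ _ hκ'] at h4
  rw [← hξ1']
  exact h4.symm

include hmR hmS hmT in
/-- `Φ` is homogeneous on Segre pieces -/
theorem PhiT_mem_HHgr (e : ℤ) (x : XT ψ (EM.H mR (a + 1 + 1)) (EN.H mS (b + 1 + 1)))
    (hx : (show EM.H mR (a + 1 + 1) ⊗[k] EN.H mS (b + 1 + 1) from x) ∈
      GrSeg.segrePiece k (EM.Hgr mR (a + 1 + 1)) (EN.Hgr mS (b + 1 + 1)) e) :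
    PhiT 𝒯 ψ hT mR hmR mS hmS mT hmT EM EN a b x ∈
      HHgr (idealPlus 𝒯 mT) (totMod 𝒯 ψ hT EM.X EM.d (dd EM) EN.X EN.d (dd EN))
        (totDn 𝒯 ψ hT EM.X EM.d EM.d_grHom (dd EM) EN.X EN.d EN.d_grHom (dd EN))
        (a + b + 2 + 1) e := by
  obtain ⟨ξ, hξ1, hξ2⟩ := exists_lift_segrePiece ψ mR mS EM EN a b e x hx
  have hξ1' : piT ψ mR mS EM EN a b (show XT ψ ↥(Uhat EM mR a) ↥(Uhat EN mS b) from ξ) = x := hξ1
  rw [← hξ1', PhiT_piT, phiHat_apply]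
  refine ⟨_, ?_, rfl⟩
  show D 𝒜 ℬ (bigGr EM.X) (bigGr EN.X)
    ((totDG EM.X EM.d (dd EM) EN.X EN.d (dd EN)).d (iotaK mR mS EM EN a b ξ)) ∈
    GrSeg.segrePiece k (bigGr EM.X) (bigGr EN.X) e
  have h1 := totDG_d_segrePiece EM.X EM.d EM.d_grHom (dd EM) EN.X EN.d EN.d_grHom (dd EN) hξ2
  rw [D_fix 𝒜 ℬ (bigGr EM.X) (bigGr EN.X) _ (segrePiece_le_diagM (bigGr EM.X) (bigGr EN.X) e h1)]
  exact h1

end Three

end Groth.Agent.Helper7.KunMd
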