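import Mathlib
import Groth.Prelude.Def_GrLC
import Groth.Prelude.Def_Wider
import Groth.Prelude.Def_GrSeg
import Groth.Agent.Helper7.KunMd3

/-!
# Künneth project, module form, part 4: dimension count and the Segre presentation of
`H^{a+b+3}_{T_+}(M # N)` by `H^{a+2}_m(M) ⊗ H^{b+2}_n(N)`.
-/

set_option autoImplicit false
set_option linter.unusedSectionVars false
set_option linter.style.haveILetI false

namespace Groth.Agent.Helper7.KunMd

open TensorProduct Groth.Agent.Helper9.SegreMod Groth.Agent.Helper9.Segre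
  Groth.Agent.Helper7.SegMod Groth.Agent.Helper7.KunLA Groth.Agent.Helper7.GrAcy
  Groth.Agent.Helper7.Kun

universe u

attribute [local instance] gmodModuleK gmodTowerK

section LA

/-- an injective semilinear map between spaces of the same finite dimension is surjective -/
theorem surjective_of_semilinear {k D A B : Type*} [Field k] [Ring D] [AddCommGroup A]
    [Module k A] [AddCommGroup B] [Module D B] (i : k →+* D) (hi : Function.Bijective i)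
    (j : A →+ B) (hj : Function.Injective j) (hc : ∀ (c : k) (x : A), j (c • x) = i c • j x)
    [Module.Finite D B] (hfin : Module.finrank k A = Module.finrank D B) :
    Function.Surjective j := by
  letI : Module k B := Module.compHom B i
  have hsm : ∀ (c : k) (y : B), c • y = i c • y := fun _ _ => rfl
  let jl : A →ₗ[k] B :=
    { toFun := j
      map_add' := map_add j
      map_smul' := fun c x => by rw [RingHom.id_apply, hsm]; exact hc c x }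
  have hrank : Module.rank k B = Module.rank D B :=
    rank_eq_of_equiv_equiv i (AddEquiv.refl B) hi (fun _ _ => rfl)
  have hfr : Module.finrank k B = Module.finrank D B := congrArg Cardinal.toNat hrank
  haveI : Module.Finite k B := by
    obtain ⟨s, hs⟩ := (Module.finite_def (R := D) (M := B)).mp inferInstance
    refine ⟨⟨s, ?_⟩⟩
    rw [eq_top_iff]
    intro y _
    have hy : y ∈ Submodule.span D (s : Set B) := by rw [hs]; trivial
    induction hy using Submodule.span_induction with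
    | mem y hy => exact Submodule.subset_span hy
    | zero => exact Submodule.zero_mem _
    | add y z _ _ hy hz => exact Submodule.add_mem _ (hy trivial) (hz trivial)
    | smul d y _ hy =>
      obtain ⟨c, rfl⟩ := hi.2 d
      rw [← hsm]
      exact Submodule.smul_mem _ c (hy trivial)
  haveI : FiniteDimensional k A := FiniteDimensional.of_injective jl hj
  exact (LinearMap.injective_iff_surjective_of_finrank_eq_finrank (f := jl)
    (hfin.trans hfr.symm)).mp hj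

/-- the span of the pure tensors of two subspaces has the product dimension -/
theorem finrank_span_tmul {k H H' : Type*} [Field k] [AddCommGroup H] [Module k H]
    [AddCommGroup H'] [Module k H'] (U : Submodule k H) (W : Submodule k H') :
    Module.finrank k ↥(Submodule.span k {x : H ⊗[k] H' | ∃ a ∈ U, ∃ b ∈ W, x = a ⊗ₜ[k] b}) =
      Module.finrank k ↥U * Module.finrank k ↥W := by
  have h1 : Submodule.span k {x : H ⊗[k] H' | ∃ a ∈ U, ∃ b ∈ W, x = a ⊗ₜ[k] b} =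
      LinearMap.range (TensorProduct.mapIncl U W) := by
    rw [TensorProduct.mapIncl, TensorProduct.range_map_eq_span_tmul]
    congr 1
    ext x
    constructor
    · rintro ⟨a, ha, b, hb, rfl⟩
      exact ⟨⟨a, ha⟩, ⟨b, hb⟩, rfl⟩
    · rintro ⟨a, b, rfl⟩
      exact ⟨a.1, a.2, b.1, b.2, rfl⟩
  rw [h1]
  have hinj : Function.Injective (TensorProduct.mapIncl U W) :=
    TensorProduct.map_injective_of_flat_flat _ _ (Submodule.injective_subtype _)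
      (Submodule.injective_subtype _)
  rw [LinearMap.finrank_range_of_inj hinj, Module.finrank_tensorProduct]

end LA

section Pieces

variable {k R : Type u} [Field k] [CommRing R] [Nontrivial R] [Algebra k R] {𝒜 : ℤ → Submodule k R}
  [GradedAlgebra 𝒜] (h0 : 𝒜 0 = Submodule.span k {(1 : R)})
  {M : Type u} [AddCommGroup M] [Module R M] {ℳ : ℤ → AddSubgroup M}
  [DirectSum.Decomposition ℳ] [SetLike.GradedSMul 𝒜 ℳ]
  (EM : GrLC.StarInjRes 𝒜 ℳ) (mR : HomogeneousIdeal 𝒜) (i : ℕ) (e : ℤ)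

/-- the piece `H^i_m(M)_e` as a `k`-subspace -/
def HgrK : Submodule k (EM.H mR i) where
  carrier := {x | x ∈ EM.Hgr mR i e}
  add_mem' := fun {x y} hx hy => (EM.Hgr mR i e).add_mem hx hy
  zero_mem' := (EM.Hgr mR i e).zero_mem
  smul_mem' := fun c x hx => by
    have h1 := (EM.Hcomp mR i e).smul_mem (kToDeg0S 𝒜 c) hx
    have h2 : (kToDeg0S 𝒜 c) • x = c • x := algebraMap_smul R c x
    rw [h2] at h1
    exact h1

theorem mem_HgrK {x : EM.H mR i} : x ∈ HgrK EM mR i e ↔ x ∈ EM.Hgr mR i e := Iff.rfl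

include h0 in
theorem finrank_HgrK :
    Module.finrank k ↥(HgrK EM mR i e) = Module.finrank (GrLC.deg0 𝒜) ↥(EM.Hcomp mR i e) := by
  let j : ↥(HgrK EM mR i e) ≃+ ↥(EM.Hcomp mR i e) :=
    { toFun := fun x => ⟨x.1, x.2⟩
      invFun := fun x => ⟨x.1, x.2⟩
      left_inv := fun _ => rfl
      right_inv := fun _ => rfl
      map_add' := fun _ _ => rfl }
  have hj : ∀ (c : k) (x : ↥(HgrK EM mR i e)), j (c • x) = kToDeg0S 𝒜 c • j x := by
    intro c x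
    apply Subtype.ext
    show c • (x : EM.H mR i) = (kToDeg0S 𝒜 c) • (x : EM.H mR i)
    exact (algebraMap_smul R c (x : EM.H mR i)).symm
  exact congrArg Cardinal.toNat
    (rank_eq_of_equiv_equiv (kToDeg0S 𝒜) j (kToDeg0S_bijective h0) hj)

end Pieces

section SegDim

variable {k : Type u} [Field k] {R S : Type u} [CommRing R] [Nontrivial R] [Algebra k R]
  [CommRing S] [Nontrivial S] [Algebra k S]
  {𝒜 : ℤ → Submodule k R} [GradedAlgebra 𝒜] {ℬ : ℤ → Submodule k S} [GradedAlgebra ℬ]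
  (h0R : 𝒜 0 = Submodule.span k {(1 : R)}) (h0S : ℬ 0 = Submodule.span k {(1 : S)})
  {M : Type u} [AddCommGroup M] [Module R M] {ℳ : ℤ → AddSubgroup M}
  [DirectSum.Decomposition ℳ] [SetLike.GradedSMul 𝒜 ℳ] (EM : GrLC.StarInjRes 𝒜 ℳ)
  {N : Type u} [AddCommGroup N] [Module S N] {𝒩 : ℤ → AddSubgroup N}
  [DirectSum.Decomposition 𝒩] [SetLike.GradedSMul ℬ 𝒩] (EN : GrLC.StarInjRes ℬ 𝒩)
  (mR : HomogeneousIdeal 𝒜) (mS : HomogeneousIdeal ℬ) (i j : ℕ) (e : ℤ)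

include h0R h0S in
theorem finrank_segrePiece_H :
    Module.finrank k ↥(GrSeg.segrePiece k (EM.Hgr mR i) (EN.Hgr mS j) e) =
      Module.finrank (GrLC.deg0 𝒜) ↥(EM.Hcomp mR i e) *
        Module.finrank (GrLC.deg0 ℬ) ↥(EN.Hcomp mS j e) := by
  rw [← finrank_HgrK h0R EM mR i e, ← finrank_HgrK h0S EN mS j e]
  exact finrank_span_tmul (HgrK EM mR i e) (HgrK EN mS j e)

end SegDim

section Compare

variable {k : Type u} [Field k] {R S T : Type u} [CommRing R] [Algebra k R] [CommRing S] [Algebra k S]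
  [CommRing T] [Algebra k T]
  {𝒜 : ℤ → Submodule k R} [GradedAlgebra 𝒜] {ℬ : ℤ → Submodule k S} [GradedAlgebra ℬ]
  (𝒯 : ℤ → Submodule k T) [GradedAlgebra 𝒯] (ψ : T →ₐ[k] R ⊗[k] S)
  (hT : GrSeg.IsSegreRing 𝒜 ℬ 𝒯 ψ)
  (X : ℕ → GrLC.GMod.{u} 𝒜) (d : ∀ n, (X n).carrier →ₗ[R] (X (n + 1)).carrier)
  (hd : ∀ n, GrLC.IsGrHom (X n).gr (X (n + 1)).gr (d n))
  (hdd : ∀ n x, d (n + 1) (d n x) = 0)
  (X' : ℕ → GrLC.GMod.{u} ℬ) (d' : ∀ n, (X' n).carrier →ₗ[S] (X' (n + 1)).carrier)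
  (hd' : ∀ n, GrLC.IsGrHom (X' n).gr (X' (n + 1)).gr (d' n))
  (hdd' : ∀ n x, d' (n + 1) (d' n x) = 0)
  {M : Type u} [AddCommGroup M] [Module R M] [Module k M] [IsScalarTower k R M]
  (ℳ : ℤ → AddSubgroup M) [DirectSum.Decomposition ℳ] [SetLike.GradedSMul 𝒜 ℳ]
  {N : Type u} [AddCommGroup N] [Module S N] [Module k N] [IsScalarTower k S N]
  (𝒩 : ℤ → AddSubgroup N) [DirectSum.Decomposition 𝒩] [SetLike.GradedSMul ℬ 𝒩]
  {P : Type u} [AddCommGroup P] [Module T P] [Module k P] [IsScalarTower k T P]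
  (𝒬 : ℤ → AddSubgroup P) [DirectSum.Decomposition 𝒬] [SetLike.GradedSMul 𝒯 𝒬]
  (φ : P →ₗ[k] M ⊗[k] N) (hP : GrSeg.IsSegreMod ψ ℳ 𝒩 𝒬 φ)
  (εM : M →ₗ[R] (X 0).carrier) (hεM : GrLC.IsGrHom ℳ (X 0).gr εM)
  (hinjM : Function.Injective εM)
  (h0M : LinearMap.ker (d 0) = LinearMap.range εM)
  (hsM : ∀ n, LinearMap.ker (d (n + 1)) = LinearMap.range (d n))
  (εN : N →ₗ[S] (X' 0).carrier) (hεN : GrLC.IsGrHom 𝒩 (X' 0).gr εN)
  (hinjN : Function.Injective εN)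
  (h0N : LinearMap.ker (d' 0) = LinearMap.range εN)
  (hsN : ∀ n, LinearMap.ker (d' (n + 1)) = LinearMap.range (d' n))
  (mR : HomogeneousIdeal (plus 𝒜))
  (hmR : mR.toIdeal = Ideal.span (⋃ n ∈ Set.Ioi (0 : ℤ), (𝒜 n : Set R)))
  (mS : HomogeneousIdeal (plus ℬ))
  (hmS : mS.toIdeal = Ideal.span (⋃ n ∈ Set.Ioi (0 : ℤ), (ℬ n : Set S)))
  (mT : HomogeneousIdeal (plus 𝒯))
  (hmT : mT.toIdeal = Ideal.span (⋃ n ∈ Set.Ioi (0 : ℤ), (𝒯 n : Set T)))
  [IsNoetherianRing R] [IsNoetherianRing S] [IsNoetherianRing (R ⊗[k] S)]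

include hmR hmS hmT hinjM hinjN h0M h0N hsM hsN hP hεM hεN in
/-- graded local cohomology of `M # N` is computed, `T`-linearly, by `Γ_{T_+}(Tot(E^• # F^•))` -/
theorem tot_compare_lin [SetLike.GradedSMul (plus 𝒯) 𝒬]
    (hE : ∀ i, FgExt (plus 𝒜) (X i).carrier)
    (hN : ∀ i, FgExt (plus ℬ) (X' i).carrier)
    (EP : GrLC.StarInjRes (plus 𝒯) 𝒬) (q : ℕ) :
    ∃ Ψ : EP.H mT q ≃ₗ[T] HH mT (totMod 𝒯 ψ hT X d hdd X' d' hdd')
        (totDn 𝒯 ψ hT X d hd hdd X' d' hd' hdd') q,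
      GrLC.IsGrHom (EP.Hgr mT q) (HHgr mT (totMod 𝒯 ψ hT X d hdd X' d' hdd')
        (totDn 𝒯 ψ hT X d hd hdd X' d' hd' hdd') q) Ψ.toLinearMap ∧
      GrLC.IsGrHom (HHgr mT (totMod 𝒯 ψ hT X d hdd X' d' hdd')
        (totDn 𝒯 ψ hT X d hd hdd X' d' hd' hdd') q) (EP.Hgr mT q) Ψ.symm.toLinearMap :=
  main mT q (totMod 𝒯 ψ hT X d hdd X' d' hdd') (totDn 𝒯 ψ hT X d hd hdd X' d' hd' hdd')
    (totDn_grHom 𝒯 ψ hT X d hd hdd X' d' hd' hdd')
    (totε 𝒯 ψ hT X d hdd X' d' hdd' ℳ 𝒩 𝒬 φ hP εM hεM εN hεN)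
    (totε_grHom 𝒯 ψ hT X d hdd X' d' hdd' ℳ 𝒩 𝒬 φ hP εM hεM εN hεN)
    (totε_injective 𝒯 ψ hT X d hdd X' d' hdd' ℳ 𝒩 𝒬 φ hP εM hεM hinjM εN hεN hinjN)
    (totDn_exact_zero 𝒯 ψ hT X d hd hdd X' d' hd' hdd' ℳ 𝒩 𝒬 φ hP εM hεM h0M εN hεN h0N)
    (totDn_exact_succ 𝒯 ψ hT X d hd hdd X' d' hd' hdd' hsM hsN)
    (totMod_gacyc 𝒯 ψ hT X d hdd X' d' hdd' mR hmR mS hmS mT hmT hE hN) EP

end Compare

section ActDiag

variable {k : Type u} [Field k] {R S : Type u} [CommRing R] [Algebra k R] [CommRing S] [Algebra k S]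
  {𝒜 : ℤ → Submodule k R} [GradedAlgebra 𝒜] {ℬ : ℤ → Submodule k S} [GradedAlgebra ℬ]
  {M : Type u} [AddCommGroup M] [Module R M] {ℳ : ℤ → AddSubgroup M}
  [DirectSum.Decomposition ℳ] [SetLike.GradedSMul 𝒜 ℳ] (EM : GrLC.StarInjRes 𝒜 ℳ)
  {N : Type u} [AddCommGroup N] [Module S N] {𝒩 : ℤ → AddSubgroup N}
  [DirectSum.Decomposition 𝒩] [SetLike.GradedSMul ℬ 𝒩] (EN : GrLC.StarInjRes ℬ 𝒩)
  (mR : HomogeneousIdeal 𝒜) (mS : HomogeneousIdeal ℬ)

theorem smul_mem_HgrS {r : R} {t : ℤ} (hr : r ∈ 𝒜 t) (i : ℕ) (j : ℤ) (x : EM.H mR i)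
    (hx : x ∈ EM.Hgr mR i j) : r • x ∈ EM.Hgr mR i (t + j) := by
  obtain ⟨z, hz, rfl⟩ := hx
  refine ⟨r • z, ?_, (map_smul _ _ _)⟩
  have h := SetLike.GradedSMul.smul_mem (A := 𝒜) (B := (EM.X i).gr) hr hz
  rw [vadd_eq_add] at h
  exact h

theorem act_mem_diagH (a b : ℕ) {τ : R ⊗[k] S} (hτ : τ ∈ Submodule.span k (diagSet 𝒜 ℬ))
    {x : EM.H mR (a + 1 + 1) ⊗[k] EN.H mS (b + 1 + 1)} (hx : x ∈ diagH mR mS EM EN a b) :
    GrSeg.act k R S (EM.H mR (a + 1 + 1)) (EN.H mS (b + 1 + 1)) τ x ∈ diagH mR mS EM EN a b := by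
  induction hτ using Submodule.span_induction with
  | mem τ hτ =>
    obtain ⟨j, r, s, hr, hs, rfl⟩ := hτ
    unfold diagH at hx
    induction hx using Submodule.iSup_induction' with
    | mem e x hx =>
      unfold GrSeg.segrePiece at hx
      induction hx using Submodule.span_induction with
      | mem x hx =>
        obtain ⟨h, hh, h', hh', rfl⟩ := hx
        rw [GrSeg.act_tmul]
        exact Submodule.mem_iSup_of_mem (j + e) (Submodule.subset_span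
          ⟨_, smul_mem_HgrS EM mR hr _ _ h hh, _, smul_mem_HgrS EN mS hs _ _ h' hh', rfl⟩)
      | zero => rw [map_zero]; exact Submodule.zero_mem _
      | add v w _ _ hv hw => rw [map_add]; exact Submodule.add_mem _ hv hw
      | smul c v _ hv => rw [map_smul]; exact Submodule.smul_mem _ _ hv
    | zero => rw [map_zero]; exact Submodule.zero_mem _
    | add v w _ _ hv hw => rw [map_add]; exact Submodule.add_mem _ hv hw
  | zero => rw [map_zero, LinearMap.zero_apply]; exact Submodule.zero_mem _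
  | add τ σ _ _ h1 h2 => rw [map_add, LinearMap.add_apply]; exact Submodule.add_mem _ h1 h2
  | smul c τ _ h1 => rw [map_smul, LinearMap.smul_apply]; exact Submodule.smul_mem _ _ h1

end ActDiag

section MainMod

variable {k : Type u} [Field k] {R : Type u} [CommRing R] [Nontrivial R] [Algebra k R]
  {𝒜 : ℤ → Submodule k R} [GradedAlgebra 𝒜]
  (h0R : 𝒜 0 = Submodule.span k {(1 : R)})
  [Algebra.FiniteType k R]
  {S : Type u} [CommRing S] [Nontrivial S] [Algebra k S]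
  {ℬ : ℤ → Submodule k S} [GradedAlgebra ℬ]
  (h0S : ℬ 0 = Submodule.span k {(1 : S)})
  [Algebra.FiniteType k S]
  {T : Type u} [CommRing T] [Algebra k T] (𝒯 : ℤ → Submodule k T) [GradedAlgebra 𝒯]
  (ψ : T →ₐ[k] R ⊗[k] S) (hT : GrSeg.IsSegreRing 𝒜 ℬ 𝒯 ψ)
  (mR : HomogeneousIdeal 𝒜)
  (hmR : mR.toIdeal = Ideal.span (⋃ n ∈ Set.Ioi (0 : ℤ), (𝒜 n : Set R)))
  (mS : HomogeneousIdeal ℬ)
  (hmS : mS.toIdeal = Ideal.span (⋃ n ∈ Set.Ioi (0 : ℤ), (ℬ n : Set S)))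
  (mT : HomogeneousIdeal 𝒯)
  (hmT : mT.toIdeal = Ideal.span (⋃ n ∈ Set.Ioi (0 : ℤ), (𝒯 n : Set T)))
  {M : Type u} [AddCommGroup M] [Module R M] [Module k M] [IsScalarTower k R M]
  {ℳ : ℤ → AddSubgroup M} [DirectSum.Decomposition ℳ] [SetLike.GradedSMul 𝒜 ℳ]
  (EM : GrLC.StarInjRes 𝒜 ℳ)
  {N : Type u} [AddCommGroup N] [Module S N] [Module k N] [IsScalarTower k S N]
  {𝒩 : ℤ → AddSubgroup N} [DirectSum.Decomposition 𝒩] [SetLike.GradedSMul ℬ 𝒩]
  (EN : GrLC.StarInjRes ℬ 𝒩)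
  {P : Type u} [AddCommGroup P] [Module T P] [Module k P] [IsScalarTower k T P]
  {𝒬 : ℤ → AddSubgroup P} [DirectSum.Decomposition 𝒬] [SetLike.GradedSMul 𝒯 𝒬]
  (φ : P →ₗ[k] M ⊗[k] N) (hP : GrSeg.IsSegreMod ψ ℳ 𝒩 𝒬 φ)
  (EP : GrLC.StarInjRes 𝒯 𝒬)

include h0R h0S hT hmR hmS hmT hP in
/-- **Künneth for Segre products, module form (a top-degree summand):** if the piecewise dimensions
of `H^{a+b+3}_{T_+}(M # N)` are the products of those of `H^{a+2}_m(M)` and `H^{b+2}_n(N)`, then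
`H^{a+b+3}_{T_+}(M # N) = H^{a+2}_m(M) # H^{b+2}_n(N)` as graded `T`-modules. -/
theorem kunneth_module (a b : ℕ)
    [DirectSum.Decomposition (EP.Hgr mT (a + b + 2 + 1))]
    (hfin : ∀ e : ℤ, Module.Finite (GrLC.deg0 𝒯) (EP.Hcomp mT (a + b + 2 + 1) e))
    (hdim : ∀ e : ℤ, Module.finrank (GrLC.deg0 𝒯) (EP.Hcomp mT (a + b + 2 + 1) e) =
      Module.finrank (GrLC.deg0 𝒜) (EM.Hcomp mR (a + 1 + 1) e) *
        Module.finrank (GrLC.deg0 ℬ) (EN.Hcomp mS (b + 1 + 1) e)) :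
    ∃ φ' : EP.H mT (a + b + 2 + 1) →ₗ[k] EM.H mR (a + 1 + 1) ⊗[k] EN.H mS (b + 1 + 1),
      GrSeg.IsSegreMod ψ (EM.Hgr mR (a + 1 + 1)) (EN.Hgr mS (b + 1 + 1))
        (EP.Hgr mT (a + b + 2 + 1)) φ' := by
  haveI : IsNoetherianRing R := Algebra.FiniteType.isNoetherianRing k R
  haveI : IsNoetherianRing S := Algebra.FiniteType.isNoetherianRing k S
  haveI : IsNoetherianRing (R ⊗[k] S) := isNoetherianRing_tensor k R S
  haveI : Nontrivial (R ⊗[k] S) :=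
    Algebra.TensorProduct.nontrivial_of_algebraMap_injective_of_flat_left k R S
      (algebraMap k S).injective
  haveI : Nontrivial T := ψ.toRingHom.domain_nontrivial
  haveI : SetLike.GradedSMul (plus 𝒯) 𝒬 := gradedSMul_plus 𝒯 𝒬
  have h0T : 𝒯 0 = Submodule.span k {(1 : T)} :=
    Groth.Agent.Helper7.SegOne.segre_h0 𝒜 ℬ 𝒯 ψ hT.1 hT.2 h0R h0S
  have hE : ∀ i, FgExt (plus 𝒜) (gmodPlus 𝒜 (EM.X i)).carrier := fun i =>
    fgExt_of_isStarInj (plus 𝒜) (gmodPlus 𝒜 (EM.X i)).gr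
      (isStarInj_gmodPlus 𝒜 (EM.X i) (EM.starInj i))
  have hN : ∀ i, FgExt (plus ℬ) (gmodPlus ℬ (EN.X i)).carrier := fun i =>
    fgExt_of_isStarInj (plus ℬ) (gmodPlus ℬ (EN.X i)).gr
      (isStarInj_gmodPlus ℬ (EN.X i) (EN.starInj i))
  obtain ⟨Ψ, hΨ1, hΨ2⟩ := tot_compare_lin 𝒯 ψ hT EM.X EM.d EM.d_grHom (dd EM) EN.X EN.d EN.d_grHom
    (dd EN) ℳ 𝒩 𝒬 φ hP EM.ε EM.ε_grHom EM.ε_injective EM.exact_zero EM.exact_succ
    EN.ε EN.ε_grHom EN.ε_injective EN.exact_zero EN.exact_succ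
    (idealPlus 𝒜 mR) hmR (idealPlus ℬ mS) hmS (idealPlus 𝒯 mT) hmT hE hN (resPlus 𝒯 EP)
    (a + b + 2 + 1)
  -- surjectivity of `Φ` on each piece, by the dimension count
  have hsurj : ∀ (e : ℤ) (y : HH (idealPlus 𝒯 mT)
      (totMod 𝒯 ψ hT EM.X EM.d (dd EM) EN.X EN.d (dd EN))
      (totDn 𝒯 ψ hT EM.X EM.d EM.d_grHom (dd EM) EN.X EN.d EN.d_grHom (dd EN)) (a + b + 2 + 1)),
      y ∈ HHgr (idealPlus 𝒯 mT) (totMod 𝒯 ψ hT EM.X EM.d (dd EM) EN.X EN.d (dd EN))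
        (totDn 𝒯 ψ hT EM.X EM.d EM.d_grHom (dd EM) EN.X EN.d EN.d_grHom (dd EN))
        (a + b + 2 + 1) e →
      ∃ x : XT ψ (EM.H mR (a + 1 + 1)) (EN.H mS (b + 1 + 1)),
        (show EM.H mR (a + 1 + 1) ⊗[k] EN.H mS (b + 1 + 1) from x) ∈
          GrSeg.segrePiece k (EM.Hgr mR (a + 1 + 1)) (EN.Hgr mS (b + 1 + 1)) e ∧
        PhiT 𝒯 ψ hT mR hmR mS hmS mT hmT EM EN a b x = y := by
    intro e y hy
    obtain ⟨e1⟩ := tot_compare 𝒯 ψ hT EM.X EM.d EM.d_grHom (dd EM) EN.X EN.d EN.d_grHom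
      (dd EN) ℳ 𝒩 𝒬 φ hP EM.ε EM.ε_grHom EM.ε_injective EM.exact_zero EM.exact_succ
      EN.ε EN.ε_grHom EN.ε_injective EN.exact_zero EN.exact_succ
      (idealPlus 𝒜 mR) hmR (idealPlus ℬ mS) hmS (idealPlus 𝒯 mT) hmT hE hN (resPlus 𝒯 EP)
      (a + b + 2 + 1) e
    haveI : Module.Finite (GrLC.deg0 (plus 𝒯))
        ↥((resPlus 𝒯 EP).Hcomp (idealPlus 𝒯 mT) (a + b + 2 + 1) e) := hfin e
    haveI : Module.Finite (GrLC.deg0 (plus 𝒯)) ↥(HHcomp (idealPlus 𝒯 mT)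
        (totMod 𝒯 ψ hT EM.X EM.d (dd EM) EN.X EN.d (dd EN))
        (totDn 𝒯 ψ hT EM.X EM.d EM.d_grHom (dd EM) EN.X EN.d EN.d_grHom (dd EN))
        (a + b + 2 + 1) e) := Module.Finite.equiv e1
    have r1 : Module.finrank (GrLC.deg0 𝒯) (EP.Hcomp mT (a + b + 2 + 1) e) =
        Module.finrank (GrLC.deg0 (plus 𝒯)) ↥(HHcomp (idealPlus 𝒯 mT)
          (totMod 𝒯 ψ hT EM.X EM.d (dd EM) EN.X EN.d (dd EN))
          (totDn 𝒯 ψ hT EM.X EM.d EM.d_grHom (dd EM) EN.X EN.d EN.d_grHom (dd EN))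
          (a + b + 2 + 1) e) := e1.finrank_eq
    let j : ↥(GrSeg.segrePiece k (EM.Hgr mR (a + 1 + 1)) (EN.Hgr mS (b + 1 + 1)) e) →+
        ↥(HHcomp (idealPlus 𝒯 mT) (totMod 𝒯 ψ hT EM.X EM.d (dd EM) EN.X EN.d (dd EN))
          (totDn 𝒯 ψ hT EM.X EM.d EM.d_grHom (dd EM) EN.X EN.d EN.d_grHom (dd EN))
          (a + b + 2 + 1) e) :=
      { toFun := fun x => ⟨PhiT 𝒯 ψ hT mR hmR mS hmS mT hmT EM EN a b
            (show XT ψ (EM.H mR (a + 1 + 1)) (EN.H mS (b + 1 + 1)) from x.1),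
          PhiT_mem_HHgr 𝒯 ψ hT mR hmR mS hmS mT hmT EM EN a b e _ x.2⟩
        map_zero' := Subtype.ext (map_zero (PhiT 𝒯 ψ hT mR hmR mS hmS mT hmT EM EN a b))
        map_add' := fun x x' => Subtype.ext
          (map_add (PhiT 𝒯 ψ hT mR hmR mS hmS mT hmT EM EN a b) _ _) }
    have hj : Function.Injective j := by
      rw [injective_iff_map_eq_zero]
      intro x hx
      have h1 : PhiT 𝒯 ψ hT mR hmR mS hmS mT hmT EM EN a b
          (show XT ψ (EM.H mR (a + 1 + 1)) (EN.H mS (b + 1 + 1)) from x.1) = 0 :=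
        congrArg Subtype.val hx
      have h2 := PhiT_eq_zero 𝒯 ψ hT mR hmR mS hmS mT hmT EM EN a b _
        (Submodule.mem_iSup_of_mem e x.2) h1
      exact Subtype.ext h2
    have hc : ∀ (c : k) (x : ↥(GrSeg.segrePiece k (EM.Hgr mR (a + 1 + 1))
        (EN.Hgr mS (b + 1 + 1)) e)), j (c • x) = kToDeg0 𝒯 c • j x := by
      intro c x
      apply Subtype.ext
      show PhiT 𝒯 ψ hT mR hmR mS hmS mT hmT EM EN a b
          (show XT ψ (EM.H mR (a + 1 + 1)) (EN.H mS (b + 1 + 1)) from c • x.1) =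
        algebraMap k T c • PhiT 𝒯 ψ hT mR hmR mS hmS mT hmT EM EN a b
          (show XT ψ (EM.H mR (a + 1 + 1)) (EN.H mS (b + 1 + 1)) from x.1)
      rw [← map_smul]
      congr 1
      exact (algebraMap_smul T c
        (show XT ψ (EM.H mR (a + 1 + 1)) (EN.H mS (b + 1 + 1)) from x.1)).symm
    have hfr : Module.finrank k ↥(GrSeg.segrePiece k (EM.Hgr mR (a + 1 + 1))
        (EN.Hgr mS (b + 1 + 1)) e) =
        Module.finrank (GrLC.deg0 (plus 𝒯)) ↥(HHcomp (idealPlus 𝒯 mT)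
          (totMod 𝒯 ψ hT EM.X EM.d (dd EM) EN.X EN.d (dd EN))
          (totDn 𝒯 ψ hT EM.X EM.d EM.d_grHom (dd EM) EN.X EN.d EN.d_grHom (dd EN))
          (a + b + 2 + 1) e) := by
      rw [finrank_segrePiece_H h0R h0S EM EN mR mS, ← r1, hdim e]
    obtain ⟨x, hx⟩ := surjective_of_semilinear (kToDeg0 𝒯) (kToDeg0_bijective 𝒯 h0T) j hj hc hfr
      ⟨y, hy⟩
    exact ⟨x.1, x.2, congrArg Subtype.val hx⟩
  -- every class is hit by the diagonal part
  have hsurj' : ∀ y : HH (idealPlus 𝒯 mT)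
      (totMod 𝒯 ψ hT EM.X EM.d (dd EM) EN.X EN.d (dd EN))
      (totDn 𝒯 ψ hT EM.X EM.d EM.d_grHom (dd EM) EN.X EN.d EN.d_grHom (dd EN)) (a + b + 2 + 1),
      ∃ x : XT ψ (EM.H mR (a + 1 + 1)) (EN.H mS (b + 1 + 1)),
        (show EM.H mR (a + 1 + 1) ⊗[k] EN.H mS (b + 1 + 1) from x) ∈ diagH mR mS EM EN a b ∧
        PhiT 𝒯 ψ hT mR hmR mS hmS mT hmT EM EN a b x = y := by
    intro y
    have hint := HHgr_isInternal (idealPlus 𝒯 mT)
      (totDn_grHom 𝒯 ψ hT EM.X EM.d EM.d_grHom (dd EM) EN.X EN.d EN.d_grHom (dd EN)) (a + b + 2 + 1)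
    obtain ⟨z, rfl⟩ := hint.2 y
    induction z using DirectSum.induction_on with
    | zero => exact ⟨0, Submodule.zero_mem _, by rw [map_zero, map_zero]⟩
    | of e y' =>
      rw [DirectSum.coeAddMonoidHom_of]
      obtain ⟨x, hx1, hx2⟩ := hsurj e y'.1 y'.2
      exact ⟨x, Submodule.mem_iSup_of_mem e hx1, hx2⟩
    | add z z' hz hz' =>
      obtain ⟨x, hx1, hx2⟩ := hz
      obtain ⟨x', hx1', hx2'⟩ := hz'
      exact ⟨x + x', Submodule.add_mem _ hx1 hx1', by rw [map_add, map_add, hx2, hx2']⟩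
  -- the `k`-linear bijection `diagH → H^{a+b+3}_{T_+}(M # N)`
  let Ξ : XT ψ (EM.H mR (a + 1 + 1)) (EN.H mS (b + 1 + 1)) →ₗ[T] EP.H mT (a + b + 2 + 1) :=
    Ψ.symm.toLinearMap ∘ₗ PhiT 𝒯 ψ hT mR hmR mS hmS mT hmT EM EN a b
  have hΞ : ∀ x, Ξ x = Ψ.symm (PhiT 𝒯 ψ hT mR hmR mS hmS mT hmT EM EN a b x) := fun _ => rfl
  let Ξd : ↥(diagH mR mS EM EN a b) →ₗ[k] EP.H mT (a + b + 2 + 1) :=
    { toFun := fun x => Ξ (show XT ψ (EM.H mR (a + 1 + 1)) (EN.H mS (b + 1 + 1)) from x.1)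
      map_add' := fun x x' => map_add Ξ _ _
      map_smul' := fun c x => by
        rw [RingHom.id_apply]
        have h1 : (show XT ψ (EM.H mR (a + 1 + 1)) (EN.H mS (b + 1 + 1)) from (c • x).1) =
            algebraMap k T c •
              (show XT ψ (EM.H mR (a + 1 + 1)) (EN.H mS (b + 1 + 1)) from x.1) :=
          (algebraMap_smul T c
            (show XT ψ (EM.H mR (a + 1 + 1)) (EN.H mS (b + 1 + 1)) from x.1)).symm
        rw [h1, map_smul]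
        exact algebraMap_smul T c _ }
  have hΞd : ∀ x : ↥(diagH mR mS EM EN a b),
      Ξd x = Ξ (show XT ψ (EM.H mR (a + 1 + 1)) (EN.H mS (b + 1 + 1)) from x.1) := fun _ => rfl
  have hbij : Function.Bijective Ξd := by
    constructor
    · rw [injective_iff_map_eq_zero]
      intro x hx
      rw [hΞd, hΞ] at hx
      have h1 := Ψ.symm.injective (hx.trans (map_zero Ψ.symm).symm)
      exact Subtype.ext (PhiT_eq_zero 𝒯 ψ hT mR hmR mS hmS mT hmT EM EN a b _ x.2 h1)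
    · intro p
      obtain ⟨x, hx1, hx2⟩ := hsurj' (Ψ p)
      refine ⟨⟨x, hx1⟩, ?_⟩
      rw [hΞd, hΞ]
      show Ψ.symm (PhiT 𝒯 ψ hT mR hmR mS hmS mT hmT EM EN a b x) = p
      rw [hx2, LinearEquiv.symm_apply_apply]
  let Ee := LinearEquiv.ofBijective Ξd hbij
  have hEe : ∀ x, Ee x = Ξd x := fun _ => rfl
  refine ⟨(diagH mR mS EM EN a b).subtype ∘ₗ Ee.symm.toLinearMap, ⟨?_, ?_, ?_⟩⟩
  · intro p p' h
    exact Ee.symm.injective (Subtype.ext h)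
  · intro e
    apply Set.eq_of_subset_of_subset
    · rintro _ ⟨p, hp, rfl⟩
      obtain ⟨x, hx1, hx2⟩ := hsurj e (Ψ p) (hΨ1 e p hp)
      have h1 : Ee ⟨x, Submodule.mem_iSup_of_mem e hx1⟩ = p := by
        rw [hEe, hΞd, hΞ]
        show Ψ.symm (PhiT 𝒯 ψ hT mR hmR mS hmS mT hmT EM EN a b x) = p
        rw [hx2, LinearEquiv.symm_apply_apply]
      have h2 : Ee.symm p = ⟨x, Submodule.mem_iSup_of_mem e hx1⟩ := by
        rw [← h1, LinearEquiv.symm_apply_apply]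
      show ((Ee.symm p : ↥(diagH mR mS EM EN a b)) :
        EM.H mR (a + 1 + 1) ⊗[k] EN.H mS (b + 1 + 1)) ∈ _
      rw [h2]
      exact hx1
    · intro x hx
      have hxd : x ∈ diagH mR mS EM EN a b := Submodule.mem_iSup_of_mem e hx
      refine ⟨Ee ⟨x, hxd⟩, ?_, ?_⟩
      · rw [hEe, hΞd, hΞ]
        exact hΨ2 e _ (PhiT_mem_HHgr 𝒯 ψ hT mR hmR mS hmS mT hmT EM EN a b e _ hx)
      · show ((Ee.symm (Ee ⟨x, hxd⟩) : ↥(diagH mR mS EM EN a b)) :
          EM.H mR (a + 1 + 1) ⊗[k] EN.H mS (b + 1 + 1)) = x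
        rw [LinearEquiv.symm_apply_apply]
  · intro t p
    have hmem : GrSeg.act k R S (EM.H mR (a + 1 + 1)) (EN.H mS (b + 1 + 1)) (ψ t)
        ((Ee.symm p : ↥(diagH mR mS EM EN a b)) :
          EM.H mR (a + 1 + 1) ⊗[k] EN.H mS (b + 1 + 1)) ∈ diagH mR mS EM EN a b :=
      act_mem_diagH EM EN mR mS a b (psi_mem_diagSet 𝒜 ℬ 𝒯 ψ hT t) (Ee.symm p).2
    have h1 : Ee ⟨_, hmem⟩ = t • p := by
      rw [hEe, hΞd]
      have h2 : Ξ (t • (show XT ψ (EM.H mR (a + 1 + 1)) (EN.H mS (b + 1 + 1)) from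
            ((Ee.symm p : ↥(diagH mR mS EM EN a b)) :
              EM.H mR (a + 1 + 1) ⊗[k] EN.H mS (b + 1 + 1)))) =
          t • Ξ (show XT ψ (EM.H mR (a + 1 + 1)) (EN.H mS (b + 1 + 1)) from
            ((Ee.symm p : ↥(diagH mR mS EM EN a b)) :
              EM.H mR (a + 1 + 1) ⊗[k] EN.H mS (b + 1 + 1))) := map_smul Ξ t _
      refine h2.trans ?_
      congr 1
      have h3 := hΞd (Ee.symm p)
      rw [← h3, ← hEe, LinearEquiv.apply_symm_apply]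
    show ((Ee.symm (t • p) : ↥(diagH mR mS EM EN a b)) :
      EM.H mR (a + 1 + 1) ⊗[k] EN.H mS (b + 1 + 1)) = _
    rw [← h1, LinearEquiv.symm_apply_apply]
    rfl

end MainMod

end Groth.Agent.Helper7.KunMd
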