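import Mathlib
import Groth.Prelude.Def_GrLC
import Groth.Prelude.Def_Wider
import Groth.Prelude.Def_GrSeg
import Groth.Agent.Helper7.KunMd4

/-!
# Künneth project, module form, part 5: the top local cohomology of the Segre product of two graded
rings of dimensions `≥ 2` is the Segre product of the top local cohomologies, as a graded `T`-module.
-/

set_option autoImplicit false
set_option linter.unusedSectionVars false
set_option linter.style.haveILetI false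

namespace Groth.Agent.Helper7.KunMd

open TensorProduct Groth.Agent.Helper9.SegreMod Groth.Agent.Helper9.Segre
  Groth.Agent.Helper7.SegMod Groth.Agent.Helper7.KunLA Groth.Agent.Helper7.GrAcy
  Groth.Agent.Helper7.Kun

universe u

attribute [local instance] gmodModuleK gmodTowerK

section Top

variable {k : Type u} [Field k] {R : Type u} [CommRing R] [Algebra k R]
  {𝒜 : ℤ → Submodule k R} [GradedAlgebra 𝒜]
  (hposR : ∀ n : ℤ, n < 0 → 𝒜 n = ⊥) (h0R : 𝒜 0 = Submodule.span k {(1 : R)})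
  [Algebra.FiniteType k R]
  {S : Type u} [CommRing S] [Algebra k S]
  {ℬ : ℤ → Submodule k S} [GradedAlgebra ℬ]
  (hposS : ∀ n : ℤ, n < 0 → ℬ n = ⊥) (h0S : ℬ 0 = Submodule.span k {(1 : S)})
  [Algebra.FiniteType k S]
  {T : Type u} [CommRing T] [Algebra k T] (𝒯 : ℤ → Submodule k T) [GradedAlgebra 𝒯]
  (ψ : T →ₐ[k] R ⊗[k] S) (hT : GrSeg.IsSegreRing 𝒜 ℬ 𝒯 ψ)
  (mR : HomogeneousIdeal 𝒜)
  (hmR : mR.toIdeal = Ideal.span (⋃ n ∈ Set.Ioi (0 : ℤ), (𝒜 n : Set R)))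
  (mS : HomogeneousIdeal ℬ)
  (hmS : mS.toIdeal = Ideal.span (⋃ n ∈ Set.Ioi (0 : ℤ), (ℬ n : Set S)))
  (mT : HomogeneousIdeal 𝒯)
  (hmT : mT.toIdeal = Ideal.span (⋃ n ∈ Set.Ioi (0 : ℤ), (𝒯 n : Set T)))
  (I : GrLC.StarInjRes 𝒜 𝒜) (J : GrLC.StarInjRes ℬ ℬ) (IT : GrLC.StarInjRes 𝒯 𝒯)

include hposR h0R hposS h0S hT hmR hmS hmT in
/-- **the top local cohomology of the Segre product of two graded rings of dimensions `a+2, b+2`**:
`H^{a+b+3}_{T_+}(T) = H^{a+2}_m(R) # H^{b+2}_n(S)` as graded `T`-modules -/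
theorem kunneth_top_module (a b : ℕ) (hr : ringKrullDim R = ((a + 2 : ℕ) : WithBot ℕ∞))
    (hs : ringKrullDim S = ((b + 2 : ℕ) : WithBot ℕ∞))
    [DirectSum.Decomposition (IT.Hgr mT (a + b + 2 + 1))] :
    ∃ φ' : IT.H mT (a + b + 2 + 1) →ₗ[k] I.H mR (a + 1 + 1) ⊗[k] J.H mS (b + 1 + 1),
      GrSeg.IsSegreMod ψ (I.Hgr mR (a + 1 + 1)) (J.Hgr mS (b + 1 + 1))
        (IT.Hgr mT (a + b + 2 + 1)) φ' := by
  haveI : IsNoetherianRing R := Algebra.FiniteType.isNoetherianRing k R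
  haveI : IsNoetherianRing S := Algebra.FiniteType.isNoetherianRing k S
  haveI : Nontrivial R := by
    by_contra hcon
    rw [not_nontrivial_iff_subsingleton] at hcon
    rw [ringKrullDim_eq_bot_of_subsingleton] at hr
    exact WithBot.bot_ne_coe hr
  haveI : Nontrivial S := by
    by_contra hcon
    rw [not_nontrivial_iff_subsingleton] at hcon
    rw [ringKrullDim_eq_bot_of_subsingleton] at hs
    exact WithBot.bot_ne_coe hs
  haveI : Nontrivial T := nontrivial_segre 𝒯 ψ hT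
  haveI : IsNoetherianRing T := noeth_segre 𝒯 ψ hT
  haveI : SetLike.GradedSMul 𝒜 (plus 𝒜) := gradedSMul_self 𝒜
  haveI : SetLike.GradedSMul ℬ (plus ℬ) := gradedSMul_self ℬ
  haveI : SetLike.GradedSMul 𝒯 (plus 𝒯) := gradedSMul_self 𝒯
  have hP := isSegreMod_self 𝒜 ℬ 𝒯 ψ hT
  have hposT : ∀ n : ℤ, n < 0 → 𝒯 n = ⊥ :=
    Groth.Agent.Helper7.SegOne.segre_hpos 𝒜 ℬ 𝒯 ψ hT.1 hT.2 hposR
  have hfin : ∀ e : ℤ, Module.Finite (GrLC.deg0 𝒯)
      ((resSelf 𝒯 IT).Hcomp mT (a + b + 2 + 1) e) := fun e =>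
    finite_Hcomp hposT mT hmT (resSelf 𝒯 IT) e (a + b + 2 + 1)
  have hdim : ∀ e : ℤ, Module.finrank (GrLC.deg0 𝒯) ((resSelf 𝒯 IT).Hcomp mT (a + b + 2 + 1) e) =
      Module.finrank (GrLC.deg0 𝒜) ((resSelf 𝒜 I).Hcomp mR (a + 1 + 1) e) *
        Module.finrank (GrLC.deg0 ℬ) ((resSelf ℬ J).Hcomp mS (b + 1 + 1) e) := by
    intro e
    have h := kunneth_top hposR h0R hposS h0S 𝒯 ψ hT mR hmR mS hmS mT hmT I J IT (a + 2) (b + 2)
      hr hs (by omega) (by omega) e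
    have e1 : a + 2 + (b + 2) - 1 = a + b + 2 + 1 := by omega
    rw [e1] at h
    exact h
  exact @kunneth_module k _ R _ _ _ 𝒜 _ h0R _ S _ _ _ ℬ _ h0S _ T _ _ 𝒯 _ ψ hT mR hmR mS hmS mT hmT
    R _ _ _ _ (plus 𝒜) _ _ (resSelf 𝒜 I) S _ _ _ _ (plus ℬ) _ _ (resSelf ℬ J)
    T _ _ _ _ (plus 𝒯) _ _ ψ.toLinearMap hP (resSelf 𝒯 IT) a b
    ‹DirectSum.Decomposition (IT.Hgr mT (a + b + 2 + 1))› hfin hdim

end Top

end Groth.Agent.Helper7.KunMd
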