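import Mathlib
import Groth.Prelude.Def_GrLC
import Groth.Prelude.Def_Wider
import Groth.Prelude.Def_GrSeg
import Groth.Agent.Helper7.KunY
import Groth.Agent.Helper1.LocCohDepth

/-!
# Künneth project, part P3: the simplified Künneth formula for Cohen–Macaulay modules, and depth via graded
local cohomology (helper7)
-/

set_option autoImplicit false
set_option linter.unusedSectionVars false
set_option linter.style.haveILetI false

namespace Groth.Agent.Helper7.Kun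

open TensorProduct Groth.Agent.Helper9.SegreMod Groth.Agent.Helper9.Segre
  Groth.Agent.Helper7.SegMod Groth.Agent.Helper7.KunLA Groth.Agent.Helper7.GrAcy
  Groth.Agent.Helper7.SegDim Groth.Agent.Helper7.GrCM

universe u

section Depth

variable {k R : Type u} [Field k] [CommRing R] [Algebra k R] (𝒜 : ℤ → Submodule k R)
  [GradedAlgebra 𝒜]
  (hpos : ∀ n : ℤ, n < 0 → 𝒜 n = ⊥) (h0 : 𝒜 0 = Submodule.span k {(1 : R)})
  [Algebra.FiniteType k R]
  {M : Type u} [AddCommGroup M] [Module R M] [Module.Finite R M]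
  (ℳ : ℤ → AddSubgroup M) [DirectSum.Decomposition ℳ] [SetLike.GradedSMul 𝒜 ℳ]
  (mR : HomogeneousIdeal 𝒜)
  (hmR : mR.toIdeal = Ideal.span (⋃ n ∈ Set.Ioi (0 : ℤ), (𝒜 n : Set R)))
  (E : GrLC.StarInjRes 𝒜 ℳ)

include hpos h0 hmR in
/-- the depth on the irrelevant ideal is the least degree of non-vanishing graded local cohomology -/
theorem idealDepth_eq_of_Hcomp [Nontrivial M] (n : ℕ)
    (h1 : ∀ i : ℕ, i < n → ∀ d : ℤ, E.Hcomp mR i d = ⊥) (h2 : ∃ d : ℤ, E.Hcomp mR n d ≠ ⊥) :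
    LocCoh.idealDepth mR.toIdeal M = (n : ℕ∞) := by
  haveI hN : IsNoetherianRing R := Algebra.FiniteType.isNoetherianRing k R
  have hm : mR.toIdeal = irr 𝒜 := hmR.trans (irr_eq_span 𝒜).symm
  have hIM : mR.toIdeal • (⊤ : Submodule R M) ≠ ⊤ := by
    rw [hm]
    exact irr_smul_top_ne_top 𝒜 hpos h0 ℳ
  rw [Groth.Agent.Helper1.LocCohDepth.idealDepth_eq_iff mR.toIdeal M hIM n]
  constructor
  · intro i hi
    obtain ⟨e⟩ := nonempty_H_equiv_lc 𝒜 ℳ mR E i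
    have : Subsingleton (E.H mR i) :=
      (Groth.Agent.Helper7.GrCM.subsingleton_H_iff 𝒜 ℳ mR E i).mpr (h1 i hi)
    exact e.toEquiv.subsingleton_congr.mp this
  · obtain ⟨e⟩ := nonempty_H_equiv_lc 𝒜 ℳ mR E n
    by_contra hcon
    rw [not_nontrivial_iff_subsingleton] at hcon
    have : Subsingleton (E.H mR n) := e.toEquiv.subsingleton_congr.mpr hcon
    obtain ⟨d, hd⟩ := h2
    exact hd ((Groth.Agent.Helper7.GrCM.subsingleton_H_iff 𝒜 ℳ mR E n).mp this d)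

end Depth

section Main

variable {k : Type u} [Field k] {R : Type u} [CommRing R] [Algebra k R]
  {𝒜 : ℤ → Submodule k R} [GradedAlgebra 𝒜]
  (hposR : ∀ n : ℤ, n < 0 → 𝒜 n = ⊥) (h0R : 𝒜 0 = Submodule.span k {(1 : R)})
  [Algebra.FiniteType k R]
  {S : Type u} [CommRing S] [Algebra k S]
  {ℬ : ℤ → Submodule k S} [GradedAlgebra ℬ]
  (hposS : ∀ n : ℤ, n < 0 → ℬ n = ⊥) (h0S : ℬ 0 = Submodule.span k {(1 : S)})
  [Algebra.FiniteType k S]
  {T : Type u} [CommRing T] [Algebra k T] (𝒯 : ℤ → Submodule k T) [GradedAlgebra 𝒯]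
  (ψ : T →ₐ[k] R ⊗[k] S) (hT : GrSeg.IsSegreRing 𝒜 ℬ 𝒯 ψ)
  (mR : HomogeneousIdeal 𝒜)
  (hmR : mR.toIdeal = Ideal.span (⋃ n ∈ Set.Ioi (0 : ℤ), (𝒜 n : Set R)))
  (mS : HomogeneousIdeal ℬ)
  (hmS : mS.toIdeal = Ideal.span (⋃ n ∈ Set.Ioi (0 : ℤ), (ℬ n : Set S)))
  (mT : HomogeneousIdeal 𝒯)
  (hmT : mT.toIdeal = Ideal.span (⋃ n ∈ Set.Ioi (0 : ℤ), (𝒯 n : Set T)))
  {M : Type u} [AddCommGroup M] [Module R M] [Module k M] [IsScalarTower k R M]
  {ℳ : ℤ → AddSubgroup M} [DirectSum.Decomposition ℳ] [SetLike.GradedSMul 𝒜 ℳ]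
  [Module.Finite R M] (EM : GrLC.StarInjRes 𝒜 ℳ)
  {N : Type u} [AddCommGroup N] [Module S N] [Module k N] [IsScalarTower k S N]
  {𝒩 : ℤ → AddSubgroup N} [DirectSum.Decomposition 𝒩] [SetLike.GradedSMul ℬ 𝒩]
  [Module.Finite S N] (EN : GrLC.StarInjRes ℬ 𝒩)
  {P : Type u} [AddCommGroup P] [Module T P] [Module k P] [IsScalarTower k T P]
  {𝒬 : ℤ → AddSubgroup P} [DirectSum.Decomposition 𝒬] [SetLike.GradedSMul 𝒯 𝒬]
  (φ : P →ₗ[k] M ⊗[k] N) (hP : GrSeg.IsSegreMod ψ ℳ 𝒩 𝒬 φ)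
  (EP : GrLC.StarInjRes 𝒯 𝒬)

include hposR h0R hposS h0S hT hmR hmS hmT hP in
/-- the Künneth formula below the top degree, for Cohen–Macaulay modules of dimension `≥ 2` -/
theorem cm_kunneth_key [Nontrivial M] [Nontrivial N] (r s : ℕ) (h2r : 2 ≤ r) (h2s : 2 ≤ s)
    (hdM : Module.supportDim R M = r) (hdN : Module.supportDim S N = s)
    (hMcm : ∀ (q : Ideal R) [q.IsPrime], Subsingleton (LocalizedModule q.primeCompl M) ∨
      LocCoh.IsCohenMacaulayModule (Localization.AtPrime q) (LocalizedModule q.primeCompl M))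
    (hNcm : ∀ (q : Ideal S) [q.IsPrime], Subsingleton (LocalizedModule q.primeCompl N) ∨
      LocCoh.IsCohenMacaulayModule (Localization.AtPrime q) (LocalizedModule q.primeCompl N))
    (q : ℕ) (hq : q < r + s - 1) (d : ℤ) :
    Module.finrank (GrLC.deg0 𝒯) (EP.Hcomp mT q d) =
      Module.finrank (GrLC.deg0 𝒜) (GrLC.comp 𝒜 ℳ d) *
          Module.finrank (GrLC.deg0 ℬ) (EN.Hcomp mS q d) +
        Module.finrank (GrLC.deg0 𝒜) (EM.Hcomp mR q d) *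
          Module.finrank (GrLC.deg0 ℬ) (GrLC.comp ℬ 𝒩 d) := by
  haveI : Nontrivial R := Module.nontrivial R M
  haveI : Nontrivial S := Module.nontrivial S N
  have hM : ∀ i : ℕ, i ≠ r → ∀ d : ℤ, EM.Hcomp mR i d = ⊥ := fun i hi d =>
    Hcomp_eq_bot_of_cm 𝒜 hposR h0R ℳ mR hmR EM r hdM hMcm i hi d
  have hN : ∀ i : ℕ, i ≠ s → ∀ d : ℤ, EN.Hcomp mS i d = ⊥ := fun i hi d =>
    Hcomp_eq_bot_of_cm ℬ hposS h0S 𝒩 mS hmS EN s hdN hNcm i hi d
  have hfM : ∀ i : ℕ, i ≠ r → ∀ d : ℤ,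
      Module.finrank (GrLC.deg0 𝒜) (EM.Hcomp mR i d) = 0 := fun i hi d => by
    rw [hM i hi d]; exact finrank_bot _ _
  have hfN : ∀ i : ℕ, i ≠ s → ∀ d : ℤ,
      Module.finrank (GrLC.deg0 ℬ) (EN.Hcomp mS i d) = 0 := fun i hi d => by
    rw [hN i hi d]; exact finrank_bot _ _
  rw [kunneth_finrank hposR h0R hposS h0S 𝒯 ψ hT mR hmR mS hmS mT hmT EM EN φ hP EP d
    (hM 0 (by omega) d) (hM 1 (by omega) d) (hN 0 (by omega) d) (hN 1 (by omega) d) q]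
  rw [Finset.sum_eq_zero, add_zero]
  intro i hi
  rw [Finset.mem_range] at hi
  by_cases hir : i = r
  · rw [hfN (q + 1 - i) (by omega) d, mul_zero]
  · rw [hfM i hir d, zero_mul]

end Main

end Groth.Agent.Helper7.Kun
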