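import Mathlib
import Groth.Prelude.Def_GrLC
import Groth.Prelude.Def_Wider
import Groth.Prelude.Def_GrSeg
import Groth.Agent.Helper7.KunP2
import Groth.Agent.Helper7.KunP3
import Groth.Agent.Helper7.KunZ
import Groth.Agent.Helper7.SegOneD

/-!
# Künneth project, part P4: Segre products of shifted polynomial rings (helper7)
-/

set_option autoImplicit false
set_option linter.unusedSectionVars false
set_option linter.style.haveILetI false

namespace Groth.Agent.Helper7.Kun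

open TensorProduct DirectSum Groth.Agent.Helper7.SegDim Groth.Agent.Helper7.GrCM
  Groth.Agent.Helper6.GrShift

universe u

attribute [local instance] MvPolynomial.weightedGradedAlgebra

section PolyPieces

variable (k : Type u) [Field k] (r : ℕ)

theorem X_pow_mem (hr : 1 ≤ r) (n : ℕ) :
    (MvPolynomial.X ⟨0, hr⟩ : MvPolynomial (Fin r) k) ^ n ∈
      MvPolynomial.weightedHomogeneousSubmodule k (fun _ : Fin r => (1 : ℤ)) (n : ℤ) := by
  have h1 : (MvPolynomial.X ⟨0, hr⟩ : MvPolynomial (Fin r) k) ∈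
      MvPolynomial.weightedHomogeneousSubmodule k (fun _ : Fin r => (1 : ℤ)) 1 :=
    MvPolynomial.isWeightedHomogeneous_X k (fun _ : Fin r => (1 : ℤ)) ⟨0, hr⟩
  exact Groth.Agent.Helper7.SegOne.pow_mem_piece _ h1 n

theorem X_pow_regular (hr : 1 ≤ r) (n : ℕ) :
    IsSMulRegular (MvPolynomial (Fin r) k) ((MvPolynomial.X ⟨0, hr⟩ : MvPolynomial (Fin r) k) ^ n) := by
  intro x y hxy
  exact mul_left_cancel₀ (pow_ne_zero n (MvPolynomial.X_ne_zero _)) hxy

open Groth.Agent.Helper7.SegPol in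
theorem poly_piece_eq_bot_iff (hr : 1 ≤ r) (n : ℤ) :
    MvPolynomial.weightedHomogeneousSubmodule k (fun _ : Fin r => (1 : ℤ)) n = ⊥ ↔ n < 0 := by
  constructor
  · intro h
    by_contra hcon
    have h1 := X_pow_mem k r hr n.toNat
    rw [Int.toNat_of_nonneg (by omega), h, Submodule.mem_bot] at h1
    exact pow_ne_zero _ (MvPolynomial.X_ne_zero _) h1
  · exact hpos k (Fin r) n

end PolyPieces

section General

variable {k : Type u} [Field k] {R : Type u} [CommRing R] [Algebra k R]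
  (𝒜 : ℤ → Submodule k R) [GradedAlgebra 𝒜]
  {M : Type u} [AddCommGroup M] [Module R M] (ℳ : ℤ → AddSubgroup M) [DirectSum.Decomposition ℳ]
  [SetLike.GradedSMul 𝒜 ℳ]

theorem Hgr_eq_bot_iff_Hcomp (E : GrLC.StarInjRes 𝒜 ℳ) (mR : HomogeneousIdeal 𝒜) (i : ℕ) (n : ℤ) :
    E.Hgr mR i n = ⊥ ↔ E.Hcomp mR i n = ⊥ := by
  constructor
  · intro h
    rw [eq_bot_iff]
    intro x hx
    have hx' : x ∈ E.Hgr mR i n := hx
    rw [h] at hx'
    exact (Submodule.mem_bot _).mpr (AddSubgroup.mem_bot.mp hx')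
  · intro h
    rw [eq_bot_iff]
    intro x hx
    have hx' : x ∈ E.Hcomp mR i n := hx
    rw [h] at hx'
    exact AddSubgroup.mem_bot.mpr ((Submodule.mem_bot _).mp hx')

theorem resOfPlus_Hgr [SetLike.GradedSMul (plus 𝒜) ℳ] (E : GrLC.StarInjRes (plus 𝒜) ℳ)
    (mR : HomogeneousIdeal 𝒜) (i : ℕ) (n : ℤ) :
    (resOfPlus 𝒜 ℳ E).Hgr mR i n = E.Hgr (idealPlus 𝒜 mR) i n := rfl

end General

section Abstract

variable {k : Type u} [Field k] {R : Type u} [CommRing R] [Algebra k R]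
  (𝒜 : ℤ → Submodule k R) [GradedAlgebra 𝒜]
  (hposR : ∀ n : ℤ, n < 0 → 𝒜 n = ⊥) (h0R : 𝒜 0 = Submodule.span k {(1 : R)})
  [Algebra.FiniteType k R]
  {S : Type u} [CommRing S] [Algebra k S]
  (ℬ : ℤ → Submodule k S) [GradedAlgebra ℬ]
  (hposS : ∀ n : ℤ, n < 0 → ℬ n = ⊥) (h0S : ℬ 0 = Submodule.span k {(1 : S)})
  [Algebra.FiniteType k S]
  {T : Type u} [CommRing T] [Algebra k T] (𝒯 : ℤ → Submodule k T) [GradedAlgebra 𝒯]
  (ψ : T →ₐ[k] R ⊗[k] S) (hT : GrSeg.IsSegreRing 𝒜 ℬ 𝒯 ψ)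
  (mR : HomogeneousIdeal 𝒜)
  (hmR : mR.toIdeal = Ideal.span (⋃ n ∈ Set.Ioi (0 : ℤ), (𝒜 n : Set R)))
  (mS : HomogeneousIdeal ℬ)
  (hmS : mS.toIdeal = Ideal.span (⋃ n ∈ Set.Ioi (0 : ℤ), (ℬ n : Set S)))
  (mT : HomogeneousIdeal 𝒯)
  (hmT : mT.toIdeal = Ideal.span (⋃ n ∈ Set.Ioi (0 : ℤ), (𝒯 n : Set T)))
  (a b : ℤ)
  {P : Type u} [AddCommGroup P] [Module T P] [Module k P] [IsScalarTower k T P]
  (𝒬 : ℤ → AddSubgroup P) [DirectSum.Decomposition 𝒬]
  (φ : P →ₗ[k] R ⊗[k] S)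
  (hP : GrSeg.IsSegreMod ψ (fun n : ℤ => 𝒜 (n + a)) (fun n : ℤ => ℬ (n + b)) 𝒬 φ)

include hposR h0R hposS h0S hT hmR hmS hmT hP in
/-- Segre products of shifts of two Cohen–Macaulay graded rings whose pieces and top local cohomology behave
like those of polynomial rings -/
theorem segre_shift_general [Nontrivial P] [LocCoh.IsCohenMacaulayRing R]
    [LocCoh.IsCohenMacaulayRing S] (r s : ℕ) (h2r : 2 ≤ r) (h2s : 2 ≤ s)
    (hr : ringKrullDim R = r) (hs : ringKrullDim S = s)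
    (hA : ∀ n : ℤ, 𝒜 n = ⊥ ↔ n < 0) (hB : ∀ n : ℤ, ℬ n = ⊥ ↔ n < 0)
    (hHR : ∀ (IR : GrLC.StarInjRes (plus 𝒜) (plus 𝒜)) (n : ℤ),
      IR.Hgr (idealPlus 𝒜 mR) r n = ⊥ ↔ -(r : ℤ) < n)
    (hHS : ∀ (IS : GrLC.StarInjRes (plus ℬ) (plus ℬ)) (n : ℤ),
      IS.Hgr (idealPlus ℬ mS) s n = ⊥ ↔ -(s : ℤ) < n) :
    ((∀ (q : Ideal T) [q.IsPrime], Subsingleton (LocalizedModule q.primeCompl P) ∨
      LocCoh.IsCohenMacaulayModule (Localization.AtPrime q) (LocalizedModule q.primeCompl P)) ↔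
        (a - b < (s : ℤ) ∧ -(r : ℤ) < a - b)) ∧
    ((s : ℤ) ≤ a - b → LocCoh.idealDepth mT.toIdeal P = (s : ℕ∞)) ∧
    (a - b ≤ -(r : ℤ) → LocCoh.idealDepth mT.toIdeal P = (r : ℕ∞)) := by
  classical
  haveI : IsNoetherianRing R := Algebra.FiniteType.isNoetherianRing k R
  haveI : IsNoetherianRing S := Algebra.FiniteType.isNoetherianRing k S
  haveI : Nontrivial R := by
    by_contra hcon
    rw [not_nontrivial_iff_subsingleton] at hcon
    rw [ringKrullDim_eq_bot_of_subsingleton] at hr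
    exact WithBot.bot_ne_coe hr
  haveI : Nontrivial S := by
    by_contra hcon
    rw [not_nontrivial_iff_subsingleton] at hcon
    rw [ringKrullDim_eq_bot_of_subsingleton] at hs
    exact WithBot.bot_ne_coe hs
  -- the graded modules
  let ℳ : ℤ → AddSubgroup R := shiftFam (plus 𝒜) a
  letI decM : DirectSum.Decomposition ℳ := (isInternal_shiftFam (plus 𝒜) a).chooseDecomposition
  haveI gsM' : SetLike.GradedSMul (plus 𝒜) ℳ := gradedSMul_shiftFam (plus 𝒜) (plus 𝒜) a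
  haveI gsM : SetLike.GradedSMul 𝒜 ℳ := gradedSMul_ofPlus 𝒜 ℳ
  let 𝒩 : ℤ → AddSubgroup S := shiftFam (plus ℬ) b
  letI decN : DirectSum.Decomposition 𝒩 := (isInternal_shiftFam (plus ℬ) b).chooseDecomposition
  haveI gsN' : SetLike.GradedSMul (plus ℬ) 𝒩 := gradedSMul_shiftFam (plus ℬ) (plus ℬ) b
  haveI gsN : SetLike.GradedSMul ℬ 𝒩 := gradedSMul_ofPlus ℬ 𝒩
  have hP' : GrSeg.IsSegreMod ψ ℳ 𝒩 𝒬 φ :=
    { injective := hP.injective
      image_piece := fun n => hP.image_piece n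
      map_smul := hP.map_smul }
  haveI : SetLike.GradedSMul 𝒯 𝒬 := gradedSMul_of_isSegreMod 𝒜 ℬ 𝒯 ψ hT ℳ 𝒩 𝒬 φ hP'
  -- resolutions
  obtain ⟨IR⟩ := Groth.Agent.Helper6.GrExist.nonempty_starInjRes (plus 𝒜) (plus 𝒜)
  obtain ⟨IS⟩ := Groth.Agent.Helper6.GrExist.nonempty_starInjRes (plus ℬ) (plus ℬ)
  obtain ⟨EM'⟩ := Groth.Agent.Helper6.GrExist.nonempty_starInjRes (plus 𝒜) ℳ
  obtain ⟨EN'⟩ := Groth.Agent.Helper6.GrExist.nonempty_starInjRes (plus ℬ) 𝒩
  let EM : GrLC.StarInjRes 𝒜 ℳ := resOfPlus 𝒜 ℳ EM'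
  let EN : GrLC.StarInjRes ℬ 𝒩 := resOfPlus ℬ 𝒩 EN'
  obtain ⟨EP⟩ := nonempty_starInjRes_sub 𝒯 𝒬
  -- the pieces
  have hMd : ∀ d : ℤ, ℳ d = ⊥ ↔ d + a < 0 := by
    intro d
    rw [← hA (d + a)]
    exact plus_eq_bot_iff (𝒜 := 𝒜) (d + a)
  have hNd : ∀ d : ℤ, 𝒩 d = ⊥ ↔ d + b < 0 := by
    intro d
    rw [← hB (d + b)]
    exact plus_eq_bot_iff (𝒜 := ℬ) (d + b)
  have hHM : ∀ d : ℤ, EM.Hcomp mR r d = ⊥ ↔ -(r : ℤ) < d + a := by
    intro d
    refine (Hgr_eq_bot_iff_Hcomp 𝒜 ℳ EM mR r d).symm.trans ?_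
    refine Iff.trans ?_ (hHR IR (d + a))
    exact Hgr_shift_eq_bot_iff (ℳ' := ℳ) a (fun n => rfl) IR EM' (idealPlus 𝒜 mR) r d
  have hHN : ∀ d : ℤ, EN.Hcomp mS s d = ⊥ ↔ -(s : ℤ) < d + b := by
    intro d
    refine (Hgr_eq_bot_iff_Hcomp ℬ 𝒩 EN mS s d).symm.trans ?_
    refine Iff.trans ?_ (hHS IS (d + b))
    exact Hgr_shift_eq_bot_iff (ℳ' := 𝒩) b (fun n => rfl) IS EN' (idealPlus ℬ mS) s d
  -- Cohen–Macaulayness of the factors
  have hdM : Module.supportDim R R = r := (Module.supportDim_self_eq_ringKrullDim R).trans hr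
  have hdN : Module.supportDim S S = s := (Module.supportDim_self_eq_ringKrullDim S).trans hs
  have hMcm := (cmRing_iff_cmModule R).mp inferInstance
  have hNcm := (cmRing_iff_cmModule S).mp inferInstance
  -- the T side
  haveI : Nontrivial T := Module.nontrivial T P
  haveI : IsNoetherianRing (R ⊗[k] S) := isNoetherianRing_tensor k R S
  have hposT : ∀ n : ℤ, n < 0 → 𝒯 n = ⊥ :=
    Groth.Agent.Helper7.SegOne.segre_hpos 𝒜 ℬ 𝒯 ψ hT.1 hT.2 hposR
  have h0T : 𝒯 0 = Submodule.span k {(1 : T)} :=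
    Groth.Agent.Helper7.SegOne.segre_h0 𝒜 ℬ 𝒯 ψ hT.1 hT.2 h0R h0S
  haveI : IsNoetherianRing T := Groth.Agent.Helper9.Segre.noeth 𝒜 ℬ 𝒯 ψ hT.2 hT.1
  haveI : Algebra.FiniteType k T := Groth.Agent.Helper7.SegOne.finiteType_of_noeth 𝒯 hposT h0T
  haveI : Module.Finite T P :=
    Groth.Agent.Helper9.SegreMod.main k R 𝒜 S ℬ T 𝒯 ψ hT R ℳ S 𝒩 P 𝒬 φ hP'
  have key := fun (q : ℕ) (hq : q < r + s - 1) (d : ℤ) =>
    cm_kunneth_key hposR h0R hposS h0S 𝒯 ψ hT mR hmR mS hmS mT hmT EM EN φ hP' EP r s h2r h2s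
      hdM hdN hMcm hNcm q hq d
  have hM : ∀ i : ℕ, i ≠ r → ∀ d : ℤ, EM.Hcomp mR i d = ⊥ := fun i hi d =>
    Hcomp_eq_bot_of_cm 𝒜 hposR h0R ℳ mR hmR EM r hdM hMcm i hi d
  have hN : ∀ i : ℕ, i ≠ s → ∀ d : ℤ, EN.Hcomp mS i d = ⊥ := fun i hi d =>
    Hcomp_eq_bot_of_cm ℬ hposS h0S 𝒩 mS hmS EN s hdN hNcm i hi d
  refine ⟨?_, ?_, ?_⟩
  · rw [cm_segre_iff_of_two_le hposR h0R hposS h0S 𝒯 ψ hT mR hmR mS hmS EM EN φ hP' r s h2r h2s
      hdM hdN hMcm hNcm]
    simp only [hMd, hNd, hHM, hHN]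
    constructor
    · rintro ⟨h1, h2⟩
      have e1 := h1 (-a)
      have e2 := h2 (-b)
      constructor
      · rcases e1 with e | e <;> omega
      · rcases e2 with e | e <;> omega
    · rintro ⟨h1, h2⟩
      constructor
      · intro d
        by_cases hd : d + a < 0
        · exact Or.inl hd
        · right; omega
      · intro d
        by_cases hd : d + b < 0
        · exact Or.inr hd
        · left; omega
  · intro hab
    apply idealDepth_eq_of_Hcomp 𝒯 hposT h0T 𝒬 mT hmT EP s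
    · intro i hi d
      rw [← finrank_Hcomp_eq_zero_iff 𝒯 hposT h0T 𝒬 mT hmT EP i d, key i (by omega) d,
        hN i (by omega) d, finrank_bot, mul_zero, zero_add]
      by_cases hir : i = r
      · subst hir
        have : 𝒩 d = ⊥ ∨ EM.Hcomp mR i d = ⊥ := by
          by_cases hd : d + b < 0
          · exact Or.inl ((hNd d).mpr hd)
          · right
            rw [hHM d]
            omega
        rcases this with h | h
        · rw [(finrank_comp_eq_zero_iff ℬ h0S 𝒩 d).mpr h, mul_zero]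
        · rw [h, finrank_bot, zero_mul]
      · rw [hM i hir d, finrank_bot, zero_mul]
    · refine ⟨-a, ?_⟩
      intro hbot
      have h1 := key s (by omega) (-a)
      rw [hbot, finrank_bot] at h1
      have h2 := (Nat.add_eq_zero_iff.mp h1.symm).1
      rcases Nat.mul_eq_zero.mp h2 with h3 | h3
      · have := (hMd (-a)).mp ((finrank_comp_eq_zero_iff 𝒜 h0R ℳ (-a)).mp h3)
        omega
      · have := (hHN (-a)).mp ((finrank_Hcomp_eq_zero_iff ℬ hposS h0S 𝒩 mS hmS EN s (-a)).mp h3)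
        omega
  · intro hab
    apply idealDepth_eq_of_Hcomp 𝒯 hposT h0T 𝒬 mT hmT EP r
    · intro i hi d
      rw [← finrank_Hcomp_eq_zero_iff 𝒯 hposT h0T 𝒬 mT hmT EP i d, key i (by omega) d,
        hM i (by omega) d, finrank_bot, zero_mul, add_zero]
      by_cases his : i = s
      · subst his
        have : ℳ d = ⊥ ∨ EN.Hcomp mS i d = ⊥ := by
          by_cases hd : d + a < 0
          · exact Or.inl ((hMd d).mpr hd)
          · right
            rw [hHN d]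
            omega
        rcases this with h | h
        · rw [(finrank_comp_eq_zero_iff 𝒜 h0R ℳ d).mpr h, zero_mul]
        · rw [h, finrank_bot, mul_zero]
      · rw [hN i his d, finrank_bot, mul_zero]
    · refine ⟨-b, ?_⟩
      intro hbot
      have h1 := key r (by omega) (-b)
      rw [hbot, finrank_bot] at h1
      have h2 := (Nat.add_eq_zero_iff.mp h1.symm).2
      rcases Nat.mul_eq_zero.mp h2 with h3 | h3
      · have := (hHM (-b)).mp ((finrank_Hcomp_eq_zero_iff 𝒜 hposR h0R ℳ mR hmR EM r (-b)).mp h3)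
        omega
      · have := (hNd (-b)).mp ((finrank_comp_eq_zero_iff ℬ h0S 𝒩 (-b)).mp h3)
        omega

end Abstract

section Main

variable (k : Type u) [Field k] (r s : ℕ) (h2r : 2 ≤ r) (h2s : 2 ≤ s)
  {T : Type u} [CommRing T] [Algebra k T] (𝒯 : ℤ → Submodule k T) [GradedAlgebra 𝒯]
  (ψ : T →ₐ[k] TensorProduct k (MvPolynomial (Fin r) k) (MvPolynomial (Fin s) k))
  (hT : GrSeg.IsSegreRing (MvPolynomial.weightedHomogeneousSubmodule k (fun _ : Fin r => (1 : ℤ)))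
    (MvPolynomial.weightedHomogeneousSubmodule k (fun _ : Fin s => (1 : ℤ))) 𝒯 ψ)
  (mT : HomogeneousIdeal 𝒯)
  (hmT : mT.toIdeal = Ideal.span (⋃ n ∈ Set.Ioi (0 : ℤ), (𝒯 n : Set T))) (a b : ℤ)
  {P : Type u} [AddCommGroup P] [Module T P] [Module k P] [IsScalarTower k T P]
  (𝒬 : ℤ → AddSubgroup P) [DirectSum.Decomposition 𝒬]
  (φ : P →ₗ[k] TensorProduct k (MvPolynomial (Fin r) k) (MvPolynomial (Fin s) k))
  (hP : GrSeg.IsSegreMod ψ
    (fun n : ℤ => (MvPolynomial.weightedHomogeneousSubmodule k (fun _ : Fin r => (1 : ℤ))) (n + a))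
    (fun n : ℤ => (MvPolynomial.weightedHomogeneousSubmodule k (fun _ : Fin s => (1 : ℤ))) (n + b))
    𝒬 φ)

include hP h2r h2s in
theorem nontrivial_poly_shift : Nontrivial P := by
  have hr : 1 ≤ r := by omega
  have hs : 1 ≤ s := by omega
  set n : ℤ := max (-a) (-b) with hn
  have hna : 0 ≤ n + a := by have := le_max_left (-a) (-b); omega
  have hnb : 0 ≤ n + b := by have := le_max_right (-a) (-b); omega
  have hx := X_pow_mem k r hr (n + a).toNat
  have hy := X_pow_mem k s hs (n + b).toNat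
  rw [Int.toNat_of_nonneg hna] at hx
  rw [Int.toNat_of_nonneg hnb] at hy
  have hmem : ((MvPolynomial.X ⟨0, hr⟩ : MvPolynomial (Fin r) k) ^ (n + a).toNat) ⊗ₜ[k]
      ((MvPolynomial.X ⟨0, hs⟩ : MvPolynomial (Fin s) k) ^ (n + b).toNat) ∈
      (φ '' (𝒬 n : Set P)) := by
    rw [hP.image_piece n]
    exact Submodule.subset_span ⟨_, hx, _, hy, rfl⟩
  obtain ⟨p, -, hp⟩ := hmem
  have hreg := Groth.Agent.Helper7.SegOne.isSMulRegular_tmul (k := k)
    (X_pow_regular k r hr (n + a).toNat) (X_pow_regular k s hs (n + b).toNat)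
  refine ⟨⟨p, 0, ?_⟩⟩
  intro hp0
  rw [hp0, map_zero] at hp
  rw [← hp] at hreg
  exact (IsSMulRegular.not_zero
    (M := TensorProduct k (MvPolynomial (Fin r) k) (MvPolynomial (Fin s) k))
    (R := TensorProduct k (MvPolynomial (Fin r) k) (MvPolynomial (Fin s) k))) hreg

open Groth.Agent.Helper7.SegPol in
include hT hmT hP h2r h2s in
/-- **Segre products of shifted polynomial rings**: Cohen–Macaulayness and depth -/
theorem segre_poly_shift :
    ((∀ (q : Ideal T) [q.IsPrime], Subsingleton (LocalizedModule q.primeCompl P) ∨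
      LocCoh.IsCohenMacaulayModule (Localization.AtPrime q) (LocalizedModule q.primeCompl P)) ↔
        (a - b < (s : ℤ) ∧ -(r : ℤ) < a - b)) ∧
    ((s : ℤ) ≤ a - b → LocCoh.idealDepth mT.toIdeal P = (s : ℕ∞)) ∧
    (a - b ≤ -(r : ℤ) → LocCoh.idealDepth mT.toIdeal P = (r : ℕ∞)) := by
  haveI : Nontrivial P := nontrivial_poly_shift k r s h2r h2s ψ a b 𝒬 φ hP
  haveI : LocCoh.IsCohenMacaulayRing (MvPolynomial (Fin r) k) := cm_field_mvPolynomial k r
  haveI : LocCoh.IsCohenMacaulayRing (MvPolynomial (Fin s) k) := cm_field_mvPolynomial k s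
  have hdimR : ringKrullDim (MvPolynomial (Fin r) k) = r := by
    rw [MvPolynomial.ringKrullDim_of_isNoetherianRing, ringKrullDim_eq_zero_of_field]
    simp
  have hdimS : ringKrullDim (MvPolynomial (Fin s) k) = s := by
    rw [MvPolynomial.ringKrullDim_of_isNoetherianRing, ringKrullDim_eq_zero_of_field]
    simp
  let mR : HomogeneousIdeal (MvPolynomial.weightedHomogeneousSubmodule k (fun _ : Fin r => (1 : ℤ))) :=
    ⟨irr _, irr_isHomogeneous _⟩
  let mS : HomogeneousIdeal (MvPolynomial.weightedHomogeneousSubmodule k (fun _ : Fin s => (1 : ℤ))) :=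
    ⟨irr _, irr_isHomogeneous _⟩
  exact segre_shift_general _ (hpos k (Fin r)) (h0 k (Fin r)) _ (hpos k (Fin s)) (h0 k (Fin s))
    𝒯 ψ hT mR (irr_eq_span _) mS (irr_eq_span _) mT hmT a b 𝒬 φ hP r s h2r h2s hdimR hdimS
    (poly_piece_eq_bot_iff k r (by omega)) (poly_piece_eq_bot_iff k s (by omega))
    (fun IR n => poly_Hgr_top_eq_bot_iff k r (by omega) mR (irr_eq_span _) IR n)
    (fun IS n => poly_Hgr_top_eq_bot_iff k s (by omega) mS (irr_eq_span _) IS n)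

end Main

end Groth.Agent.Helper7.Kun
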