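import Mathlib
import Groth.Prelude.Def_GrLC
import Groth.Prelude.Def_Wider
import Groth.Prelude.Def_GrSeg
import Groth.Agent.Helper7.KunY
import Groth.Agent.Helper7.KunW2

/-!
# Künneth project, part Y2: Cohen–Macaulayness of Segre products with a Cohen–Macaulay factor of dimension one
(helper7)
-/

set_option autoImplicit false
set_option linter.unusedSectionVars false
set_option linter.style.haveILetI false

namespace Groth.Agent.Helper7.Kun

open TensorProduct Groth.Agent.Helper9.SegreMod Groth.Agent.Helper9.Segre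
  Groth.Agent.Helper7.SegMod Groth.Agent.Helper7.KunLA Groth.Agent.Helper7.GrAcy
  Groth.Agent.Helper7.SegDim Groth.Agent.Helper7.GrCM

universe u

section Main

variable {k : Type u} [Field k] {R : Type u} [CommRing R] [Algebra k R]
  {𝒜 : ℤ → Submodule k R} [GradedAlgebra 𝒜]
  (hposR : ∀ n : ℤ, n < 0 → 𝒜 n = ⊥) (h0R : 𝒜 0 = Submodule.span k {(1 : R)})
  [Algebra.FiniteType k R]
  {S : Type u} [CommRing S] [Algebra k S]
  {ℬ : ℤ → Submodule k S} [GradedAlgebra ℬ]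
  (hposS : ∀ n : ℤ, n < 0 → ℬ n = ⊥) (h0S : ℬ 0 = Submodule.span k {(1 : S)})
  [Algebra.FiniteType k S]
  {T : Type u} [CommRing T] [Algebra k T] (𝒯 : ℤ → Submodule k T) [GradedAlgebra 𝒯]
  (ψ : T →ₐ[k] R ⊗[k] S) (hT : GrSeg.IsSegreRing 𝒜 ℬ 𝒯 ψ)
  (mR : HomogeneousIdeal 𝒜)
  (hmR : mR.toIdeal = Ideal.span (⋃ n ∈ Set.Ioi (0 : ℤ), (𝒜 n : Set R)))
  {M : Type u} [AddCommGroup M] [Module R M] [Module k M] [IsScalarTower k R M]
  {ℳ : ℤ → AddSubgroup M} [DirectSum.Decomposition ℳ] [SetLike.GradedSMul 𝒜 ℳ]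
  [Module.Finite R M] (EM : GrLC.StarInjRes 𝒜 ℳ)
  {N : Type u} [AddCommGroup N] [Module S N] [Module k N] [IsScalarTower k S N]
  {𝒩 : ℤ → AddSubgroup N} [DirectSum.Decomposition 𝒩] [SetLike.GradedSMul ℬ 𝒩]
  [Module.Finite S N]
  {P : Type u} [AddCommGroup P] [Module T P] [Module k P] [IsScalarTower k T P]
  {𝒬 : ℤ → AddSubgroup P} [DirectSum.Decomposition 𝒬]
  (φ : P →ₗ[k] M ⊗[k] N) (hP : GrSeg.IsSegreMod ψ ℳ 𝒩 𝒬 φ)

include hposR h0R hposS h0S hT hmR hP in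
/-- **Cohen–Macaulayness of the Segre product of a Cohen–Macaulay module of dimension one with a Cohen–Macaulay
module of dimension `s ≥ 1`** -/
theorem cm_segre_dim_one [Nontrivial P] (s : ℕ) (h1s : 1 ≤ s)
    (hdM : Module.supportDim R M = 1) (hdN : Module.supportDim S N = s)
    (hMcm : ∀ (q : Ideal R) [q.IsPrime], Subsingleton (LocalizedModule q.primeCompl M) ∨
      LocCoh.IsCohenMacaulayModule (Localization.AtPrime q) (LocalizedModule q.primeCompl M))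
    (hNcm : ∀ (q : Ideal S) [q.IsPrime], Subsingleton (LocalizedModule q.primeCompl N) ∨
      LocCoh.IsCohenMacaulayModule (Localization.AtPrime q) (LocalizedModule q.primeCompl N)) :
    (2 ≤ s → ((∀ (q : Ideal T) [q.IsPrime], Subsingleton (LocalizedModule q.primeCompl P) ∨
      LocCoh.IsCohenMacaulayModule (Localization.AtPrime q) (LocalizedModule q.primeCompl P)) ↔
        ∀ d : ℤ, EM.Hcomp mR 1 d = ⊥ ∨ 𝒩 d = ⊥)) ∧
    (s = 1 → (∀ (q : Ideal T) [q.IsPrime], Subsingleton (LocalizedModule q.primeCompl P) ∨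
      LocCoh.IsCohenMacaulayModule (Localization.AtPrime q) (LocalizedModule q.primeCompl P))) := by
  haveI : SetLike.GradedSMul 𝒯 𝒬 := gradedSMul_of_isSegreMod 𝒜 ℬ 𝒯 ψ hT ℳ 𝒩 𝒬 φ hP
  haveI : Nontrivial M := nontrivial_left_of_isSegreMod ψ ℳ 𝒩 𝒬 φ hP
  haveI : Nontrivial N := nontrivial_right_of_isSegreMod ψ ℳ 𝒩 𝒬 φ hP
  haveI : Nontrivial R := Module.nontrivial R M
  haveI : Nontrivial S := Module.nontrivial S N
  haveI : Nontrivial T := Module.nontrivial T P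
  haveI : IsNoetherianRing R := Algebra.FiniteType.isNoetherianRing k R
  haveI : IsNoetherianRing S := Algebra.FiniteType.isNoetherianRing k S
  haveI : IsNoetherianRing (R ⊗[k] S) := isNoetherianRing_tensor k R S
  have hposT : ∀ n : ℤ, n < 0 → 𝒯 n = ⊥ :=
    Groth.Agent.Helper7.SegOne.segre_hpos 𝒜 ℬ 𝒯 ψ hT.1 hT.2 hposR
  have h0T : 𝒯 0 = Submodule.span k {(1 : T)} :=
    Groth.Agent.Helper7.SegOne.segre_h0 𝒜 ℬ 𝒯 ψ hT.1 hT.2 h0R h0S
  haveI : IsNoetherianRing T := Groth.Agent.Helper9.Segre.noeth 𝒜 ℬ 𝒯 ψ hT.2 hT.1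
  haveI : Algebra.FiniteType k T := Groth.Agent.Helper7.SegOne.finiteType_of_noeth 𝒯 hposT h0T
  haveI : Module.Finite T P :=
    Groth.Agent.Helper9.SegreMod.main k R 𝒜 S ℬ T 𝒯 ψ hT M ℳ N 𝒩 P 𝒬 φ hP
  let mS : HomogeneousIdeal ℬ := ⟨irr ℬ, irr_isHomogeneous ℬ⟩
  have hmS : mS.toIdeal = Ideal.span (⋃ n ∈ Set.Ioi (0 : ℤ), (ℬ n : Set S)) := irr_eq_span ℬ
  let mT : HomogeneousIdeal 𝒯 := ⟨irr 𝒯, irr_isHomogeneous 𝒯⟩
  have hmT : mT.toIdeal = Ideal.span (⋃ n ∈ Set.Ioi (0 : ℤ), (𝒯 n : Set T)) := irr_eq_span 𝒯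
  obtain ⟨EN⟩ := nonempty_starInjRes_sub ℬ 𝒩
  obtain ⟨EP⟩ := nonempty_starInjRes_sub 𝒯 𝒬
  have hdP : Module.supportDim T P = ((s : ℕ) : WithBot ℕ∞) := by
    rcases main_cm k R 𝒜 hposR h0R S ℬ hposS h0S T 𝒯 ψ hT M ℳ N 𝒩 P 𝒬 φ hP 1 s le_rfl
      h1s hdM hdN hMcm hNcm with h | h
    · rw [h]
      congr 2
      omega
    · exact absurd h (not_subsingleton P)
  have hM : ∀ i : ℕ, i ≠ 1 → ∀ d : ℤ, EM.Hcomp mR i d = ⊥ := fun i hi d =>
    Hcomp_eq_bot_of_cm 𝒜 hposR h0R ℳ mR hmR EM 1 hdM hMcm i hi d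
  have hN : ∀ i : ℕ, i ≠ s → ∀ d : ℤ, EN.Hcomp mS i d = ⊥ := fun i hi d =>
    Hcomp_eq_bot_of_cm ℬ hposS h0S 𝒩 mS hmS EN s hdN hNcm i hi d
  have hfM : ∀ i : ℕ, i ≠ 1 → ∀ d : ℤ,
      Module.finrank (GrLC.deg0 𝒜) (EM.Hcomp mR i d) = 0 := fun i hi d => by
    rw [hM i hi d]; exact finrank_bot _ _
  have hfN : ∀ i : ℕ, i ≠ s → ∀ d : ℤ,
      Module.finrank (GrLC.deg0 ℬ) (EN.Hcomp mS i d) = 0 := fun i hi d => by
    rw [hN i hi d]; exact finrank_bot _ _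
  -- the Künneth formula, simplified
  have key : ∀ q : ℕ, q < s → ∀ d : ℤ,
      Module.finrank (GrLC.deg0 𝒯) (EP.Hcomp mT q d) =
          Module.finrank (GrLC.deg0 𝒜) (EM.Hcomp mR q d) *
            Module.finrank (GrLC.deg0 ℬ) (GrLC.comp ℬ 𝒩 d) := by
    intro q hq d
    rw [kunneth_finrank_depth_one hposR h0R hposS h0S 𝒯 ψ hT mR hmR mS hmS mT hmT EM EN φ hP EP d
      (hM 0 (by omega) d) (hN 0 (by omega) d) q]
    rw [Finset.sum_eq_zero, add_zero, hfN q (by omega) d, mul_zero, zero_add]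
    intro i hi
    rw [Finset.mem_range] at hi
    by_cases hir : i = 1
    · rw [hfN (q + 1 - i) (by omega) d, mul_zero]
    · rw [hfM i hir d, zero_mul]
  have hcrit := cm_iff_Hcomp 𝒯 hposT h0T 𝒬 mT hmT EP s hdP
  constructor
  · intro h2s
    rw [hcrit]
    constructor
    · intro h d
      have h1 := key 1 (by omega) d
      rw [h 1 (by omega) d, finrank_bot] at h1
      rcases Nat.mul_eq_zero.mp h1.symm with h2 | h2
      · exact Or.inl ((finrank_Hcomp_eq_zero_iff 𝒜 hposR h0R ℳ mR hmR EM 1 d).mp h2)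
      · exact Or.inr ((finrank_comp_eq_zero_iff ℬ h0S 𝒩 d).mp h2)
    · intro h2 q hq d
      rw [← finrank_Hcomp_eq_zero_iff 𝒯 hposT h0T 𝒬 mT hmT EP q d, key q hq d]
      by_cases hq1 : q = 1
      · subst hq1
        rcases h2 d with h | h
        · rw [h, finrank_bot, zero_mul]
        · rw [(finrank_comp_eq_zero_iff ℬ h0S 𝒩 d).mpr h, mul_zero]
      · rw [hfM q hq1 d, zero_mul]
  · intro hs1
    rw [hcrit]
    intro q hq d
    rw [← finrank_Hcomp_eq_zero_iff 𝒯 hposT h0T 𝒬 mT hmT EP q d, key q hq d,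
      hfM q (by omega) d, zero_mul]

end Main

end Groth.Agent.Helper7.Kun
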