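import Mathlib
import Groth.Prelude.Def_GrLC
import Groth.Prelude.Def_Wider
import Groth.Prelude.Def_GrSeg
import Groth.Agent.Helper7.KunY2
import Groth.Agent.Helper7.KunZ

/-!
# Künneth project, part Z2: Cohen–Macaulayness of Segre products of Cohen–Macaulay rings, one of dimension one
(helper7)
-/

set_option autoImplicit false
set_option linter.unusedSectionVars false
set_option linter.style.haveILetI false

namespace Groth.Agent.Helper7.Kun

open TensorProduct Groth.Agent.Helper9.SegreMod Groth.Agent.Helper9.Segre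

universe u

section RingCase

variable {k : Type u} [Field k] {R : Type u} [CommRing R] [Algebra k R]
  {𝒜 : ℤ → Submodule k R} [GradedAlgebra 𝒜]
  (hposR : ∀ n : ℤ, n < 0 → 𝒜 n = ⊥) (h0R : 𝒜 0 = Submodule.span k {(1 : R)})
  [Algebra.FiniteType k R]
  {S : Type u} [CommRing S] [Algebra k S]
  {ℬ : ℤ → Submodule k S} [GradedAlgebra ℬ]
  (hposS : ∀ n : ℤ, n < 0 → ℬ n = ⊥) (h0S : ℬ 0 = Submodule.span k {(1 : S)})
  [Algebra.FiniteType k S]
  {T : Type u} [CommRing T] [Algebra k T] (𝒯 : ℤ → Submodule k T) [GradedAlgebra 𝒯]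
  (ψ : T →ₐ[k] R ⊗[k] S) (hT : GrSeg.IsSegreRing 𝒜 ℬ 𝒯 ψ)
  (mR : HomogeneousIdeal 𝒜)
  (hmR : mR.toIdeal = Ideal.span (⋃ n ∈ Set.Ioi (0 : ℤ), (𝒜 n : Set R)))
  (I : GrLC.StarInjRes 𝒜 𝒜)

include hposR h0R hposS h0S hT hmR in
/-- **Cohen–Macaulayness of the Segre product of a Cohen–Macaulay ring of dimension one with a Cohen–Macaulay
ring of dimension `s ≥ 1`** -/
theorem cm_segre_ring_dim_one [LocCoh.IsCohenMacaulayRing R] [LocCoh.IsCohenMacaulayRing S]
    (hr : ringKrullDim R = 1) (s : ℕ) (hs : ringKrullDim S = s) (h1s : 1 ≤ s) :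
    (2 ≤ s → (LocCoh.IsCohenMacaulayRing T ↔ ∀ n : ℤ, I.Hcomp mR 1 n = ⊥ ∨ ℬ n = ⊥)) ∧
      (s = 1 → LocCoh.IsCohenMacaulayRing T) := by
  haveI : IsNoetherianRing R := Algebra.FiniteType.isNoetherianRing k R
  haveI : IsNoetherianRing S := Algebra.FiniteType.isNoetherianRing k S
  haveI : Nontrivial R := by
    by_contra hcon
    rw [not_nontrivial_iff_subsingleton] at hcon
    rw [ringKrullDim_eq_bot_of_subsingleton] at hr
    exact absurd hr (by decide)
  haveI : Nontrivial S := by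
    by_contra hcon
    rw [not_nontrivial_iff_subsingleton] at hcon
    rw [ringKrullDim_eq_bot_of_subsingleton] at hs
    exact WithBot.bot_ne_coe hs
  haveI : Nontrivial T := nontrivial_segre 𝒯 ψ hT
  haveI : IsNoetherianRing T := noeth_segre 𝒯 ψ hT
  haveI : SetLike.GradedSMul 𝒜 (plus 𝒜) := gradedSMul_self 𝒜
  haveI : SetLike.GradedSMul ℬ (plus ℬ) := gradedSMul_self ℬ
  have hP := isSegreMod_self 𝒜 ℬ 𝒯 ψ hT
  have h := cm_segre_dim_one hposR h0R hposS h0S 𝒯 ψ hT mR hmR
    (resSelf 𝒜 I) ψ.toLinearMap hP s h1s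
    ((Module.supportDim_self_eq_ringKrullDim R).trans hr)
    ((Module.supportDim_self_eq_ringKrullDim S).trans hs)
    ((cmRing_iff_cmModule R).mp inferInstance) ((cmRing_iff_cmModule S).mp inferInstance)
  constructor
  · intro h2s
    rw [cmRing_iff_cmModule T, h.1 h2s]
    simp only [plus_eq_bot_iff, resSelf_Hcomp]
    exact Iff.rfl
  · intro hs1
    rw [cmRing_iff_cmModule T]
    exact h.2 hs1

end RingCase

end Groth.Agent.Helper7.Kun
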