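import Mathlib
import Groth.Prelude.Def_GrLC
import Groth.Agent.Helper6.GrCon
import Groth.Agent.Helper7.VerGor4

/-!
# Homogeneous subalgebras of a polynomial ring `F[X]` as ℤ-graded rings (helper7)

A `k`-subalgebra `S` of `F[X]` closed under taking homogeneous components, whose degree-zero part
is `k`: it is a ℤ-graded ring (by additive subgroups), *local with *maximal ideal the elements
without constant term, which is a maximal ideal.
-/

set_option autoImplicit false
set_option linter.unusedSectionVars false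
set_option linter.style.haveILetI false

namespace Groth.Agent.Helper7.PolySub

open Polynomial DirectSum

universe u

variable {k : Type u} [Field k] {F : Type u} [CommRing F] [Nontrivial F] [Algebra k F]

/-- a homogeneous subalgebra of `F[X]` with degree-zero part `k` -/
class IsHomSub (S : Subalgebra k F[X]) : Prop where
  monomial_mem : ∀ p ∈ S, ∀ n : ℕ, monomial n (p.coeff n) ∈ S
  coeff_zero : ∀ p ∈ S, ∃ c : k, p.coeff 0 = algebraMap k F c

variable (S : Subalgebra k F[X])

/-- the grading -/
def gr (n : ℤ) : AddSubgroup ↥S where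
  carrier := {p | ∀ j : ℕ, (j : ℤ) ≠ n → (p : F[X]).coeff j = 0}
  add_mem' := by
    intro a b ha hb j hj
    rw [Subalgebra.coe_add, coeff_add, ha j hj, hb j hj, add_zero]
  zero_mem' := by
    intro j _
    rw [Subalgebra.coe_zero, coeff_zero]
  neg_mem' := by
    intro a ha j hj
    rw [Subalgebra.coe_neg, coeff_neg, ha j hj, neg_zero]

theorem mem_gr {n : ℤ} {p : ↥S} :
    p ∈ gr S n ↔ ∀ j : ℕ, (j : ℤ) ≠ n → (p : F[X]).coeff j = 0 := Iff.rfl

variable [hS : IsHomSub S]

/-- the homogeneous component of degree `n : ℕ` -/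
noncomputable def compN (n : ℕ) (p : ↥S) : ↥S :=
  ⟨monomial n ((p : F[X]).coeff n), hS.monomial_mem p.1 p.2 n⟩

theorem coe_compN (n : ℕ) (p : ↥S) : (compN S n p : F[X]) = monomial n ((p : F[X]).coeff n) := rfl

/-- the homogeneous component of degree `i : ℤ` -/
noncomputable def proj (i : ℤ) (p : ↥S) : ↥S := if 0 ≤ i then compN S i.toNat p else 0

theorem proj_of_nonneg {i : ℤ} (hi : 0 ≤ i) (p : ↥S) : proj S i p = compN S i.toNat p := if_pos hi

theorem proj_of_neg {i : ℤ} (hi : ¬ 0 ≤ i) (p : ↥S) : proj S i p = 0 := if_neg hi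

theorem proj_natCast (n : ℕ) (p : ↥S) : proj S (n : ℤ) p = compN S n p := by
  rw [proj_of_nonneg S (Int.natCast_nonneg n), Int.toNat_natCast]

theorem compN_mem (n : ℕ) (p : ↥S) : compN S n p ∈ gr S (n : ℤ) := by
  intro j hj
  rw [coe_compN, coeff_monomial, if_neg]
  intro h
  exact hj (by rw [h])

theorem proj_mem (i : ℤ) (p : ↥S) : proj S i p ∈ gr S i := by
  by_cases hi : 0 ≤ i
  · rw [proj_of_nonneg S hi]
    have := compN_mem S i.toNat p
    rwa [Int.toNat_of_nonneg hi] at this
  · rw [proj_of_neg S hi]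
    exact zero_mem _

theorem eq_zero_of_mem_gr_neg {i : ℤ} (hi : i < 0) {p : ↥S} (hp : p ∈ gr S i) : p = 0 := by
  apply Subtype.ext
  ext j
  rw [hp j (by omega), Subalgebra.coe_zero, coeff_zero]

theorem proj_same {i : ℤ} {p : ↥S} (hp : p ∈ gr S i) : proj S i p = p := by
  by_cases hi : 0 ≤ i
  · rw [proj_of_nonneg S hi]
    apply Subtype.ext
    ext j
    rw [coe_compN, coeff_monomial]
    split_ifs with h
    · rw [h]
    · rw [hp j]
      intro h'
      apply h
      rw [← h', Int.toNat_natCast]
  · rw [proj_of_neg S hi]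
    exact (eq_zero_of_mem_gr_neg S (by omega) hp).symm

theorem proj_ne {i j : ℤ} {p : ↥S} (hp : p ∈ gr S i) (hij : i ≠ j) : proj S j p = 0 := by
  by_cases hj : 0 ≤ j
  · rw [proj_of_nonneg S hj]
    apply Subtype.ext
    rw [coe_compN, hp j.toNat (by rw [Int.toNat_of_nonneg hj]; exact hij.symm), monomial_zero_right]
    rfl
  · exact proj_of_neg S hj p

theorem proj_add (j : ℤ) (p q : ↥S) : proj S j (p + q) = proj S j p + proj S j q := by
  by_cases hj : 0 ≤ j
  · rw [proj_of_nonneg S hj, proj_of_nonneg S hj, proj_of_nonneg S hj]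
    apply Subtype.ext
    rw [Subalgebra.coe_add, coe_compN, coe_compN, coe_compN, Subalgebra.coe_add, coeff_add,
      map_add]
  · rw [proj_of_neg S hj, proj_of_neg S hj, proj_of_neg S hj, add_zero]

theorem sum_proj (p : ↥S) :
    ∑ i ∈ (p : F[X]).support.image (Nat.cast : ℕ → ℤ), proj S i p = p := by
  rw [Finset.sum_image (fun a _ b _ h => Nat.cast_injective h)]
  apply Subtype.ext
  rw [AddSubmonoidClass.coe_finsetSum]
  simp_rw [proj_natCast, coe_compN]
  conv_rhs => rw [← Polynomial.sum_monomial_eq (p : F[X]), Polynomial.sum_def]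

instance gradedMonoid : SetLike.GradedMonoid (gr S) where
  one_mem := by
    intro j hj
    rw [Subalgebra.coe_one, coeff_one, if_neg]
    intro h
    exact hj (by rw [h]; rfl)
  mul_mem := by
    intro i j a b ha hb l hl
    rw [Subalgebra.coe_mul, coeff_mul]
    apply Finset.sum_eq_zero
    intro x hx
    rw [Finset.HasAntidiagonal.mem_antidiagonal] at hx
    by_cases h1 : (x.1 : ℤ) = i
    · have h2 : (x.2 : ℤ) ≠ j := by
        intro h2
        apply hl
        rw [← hx, Nat.cast_add, h1, h2]
      rw [hb x.2 h2, mul_zero]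
    · rw [ha x.1 h1, zero_mul]

theorem isInternal : DirectSum.IsInternal (gr S) :=
  Groth.Agent.Helper6.GrCon.isInternal_of_proj (gr S) (proj S)
    (fun i x => proj_mem S i x) (fun i x hx => proj_same S hx)
    (fun i j x hx hij => proj_ne S hx hij) (fun j x y => proj_add S j x y)
    (fun x => ⟨_, sum_proj S x⟩)

noncomputable instance decomposition : DirectSum.Decomposition (gr S) :=
  (isInternal S).chooseDecomposition

noncomputable instance gradedRing : GradedRing (gr S) :=
  { gradedMonoid S, decomposition S with }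

theorem decompose_eq (p : ↥S) (j : ℤ) : (decompose (gr S) p j : ↥S) = proj S j p := by
  classical
  have h := Groth.Agent.Helper6.GrCon.decompose_eq_of_sum (gr S) (x := p)
    (s := (p : F[X]).support.image (Nat.cast : ℕ → ℤ)) (y := fun i => proj S i p)
    (fun i => proj_mem S i p) (sum_proj S p).symm j
  rw [h]
  split_ifs with hj
  · rfl
  · by_cases hj0 : 0 ≤ j
    · rw [proj_of_nonneg S hj0]
      apply Subtype.ext
      rw [coe_compN]
      have : (p : F[X]).coeff j.toNat = 0 := by
        by_contra hne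
        apply hj
        rw [Finset.mem_image]
        exact ⟨j.toNat, Polynomial.mem_support_iff.2 hne, Int.toNat_of_nonneg hj0⟩
      rw [this, monomial_zero_right]
      rfl
    · rw [proj_of_neg S hj0]

theorem hpos : ∀ n : ℤ, n < 0 → gr S n = ⊥ := by
  intro n hn
  rw [eq_bot_iff]
  intro p hp
  rw [AddSubgroup.mem_bot]
  exact eq_zero_of_mem_gr_neg S hn hp

/-- elements of degree zero are constants from `k` -/
theorem exists_eq_algebraMap_of_mem_zero {p : ↥S} (hp : p ∈ gr S 0) :
    ∃ c : k, p = algebraMap k ↥S c := by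
  obtain ⟨c, hc⟩ := hS.coeff_zero p.1 p.2
  refine ⟨c, Subtype.ext ?_⟩
  ext j
  rw [Subalgebra.coe_algebraMap, Polynomial.algebraMap_apply, coeff_C]
  split_ifs with h
  · rw [h, hc]
  · exact hp j (by exact_mod_cast h)

theorem algebraMap_mem_zero (c : k) : algebraMap k ↥S c ∈ gr S 0 := by
  intro j hj
  rw [Subalgebra.coe_algebraMap, Polynomial.algebraMap_apply, coeff_C, if_neg]
  intro h
  exact hj (by rw [h]; rfl)

theorem h0 : IsField (GrLC.deg0 (gr S)) := by
  refine ⟨⟨0, 1, fun h => ?_⟩, mul_comm, ?_⟩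
  · have := congrArg Subtype.val h
    exact zero_ne_one this
  · intro a ha
    obtain ⟨c, hc⟩ := exists_eq_algebraMap_of_mem_zero S (p := (a : ↥S)) a.2
    have hc0 : c ≠ 0 := by
      intro h
      apply ha
      apply Subtype.ext
      rw [hc, h, map_zero]
      rfl
    refine ⟨⟨algebraMap k ↥S c⁻¹, algebraMap_mem_zero S c⁻¹⟩, ?_⟩
    apply Subtype.ext
    show (a : ↥S) * algebraMap k ↥S c⁻¹ = 1
    rw [hc, ← map_mul, mul_inv_cancel₀ hc0, map_one]

/-- the *maximal ideal: elements without constant term -/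
theorem mem_irrel_iff (p : ↥S) :
    p ∈ (Groth.Agent.Helper7.VerGor.irrel (gr S)).toIdeal ↔ (p : F[X]).coeff 0 = 0 := by
  constructor
  · intro hp
    have h := Groth.Agent.Helper7.VerGor.decompose_zero_of_mem_irr (gr S) (hpos S) hp
    rw [decompose_eq, proj_of_nonneg S le_rfl] at h
    have h2 := congrArg (fun q : ↥S => (q : F[X]).coeff 0) h
    simp only [coe_compN, Int.toNat_zero, coeff_monomial, if_true, Subalgebra.coe_zero,
      coeff_zero] at h2
    exact h2
  · intro hp
    apply Groth.Agent.Helper7.VerGor.mem_irr_of_decompose_zero (gr S) (hpos S)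
    rw [decompose_eq, proj_of_nonneg S le_rfl]
    apply Subtype.ext
    rw [coe_compN, Int.toNat_zero, hp, monomial_zero_right]
    rfl

theorem isStarLocal : GrLC.IsStarLocal (gr S) (Groth.Agent.Helper7.VerGor.irrel (gr S)) :=
  Groth.Agent.Helper7.VerGor.isStarLocal_irr (gr S) (hpos S) (h0 S)

theorem irrel_isMaximal : (Groth.Agent.Helper7.VerGor.irrel (gr S)).toIdeal.IsMaximal := by
  rw [Ideal.isMaximal_iff]
  constructor
  · rw [mem_irrel_iff, Subalgebra.coe_one, coeff_one_zero]
    exact one_ne_zero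
  · intro J x hIJ hx hxJ
    rw [mem_irrel_iff] at hx
    obtain ⟨c, hc⟩ := hS.coeff_zero x.1 x.2
    have hc0 : c ≠ 0 := by
      intro h
      apply hx
      rw [hc, h, map_zero]
    have h1 : x - algebraMap k ↥S c ∈ (Groth.Agent.Helper7.VerGor.irrel (gr S)).toIdeal := by
      rw [mem_irrel_iff, Subalgebra.coe_sub, coeff_sub, Subalgebra.coe_algebraMap,
        Polynomial.algebraMap_apply, coeff_C_zero, hc, sub_self]
    have h2 : algebraMap k ↥S c ∈ J := by
      have := J.sub_mem hxJ (hIJ h1)
      rwa [sub_sub_cancel] at this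
    have h3 := J.mul_mem_left (algebraMap k ↥S c⁻¹) h2
    rwa [← map_mul, inv_mul_cancel₀ hc0, map_one] at h3

end Groth.Agent.Helper7.PolySub
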