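import Mathlib
import Groth.Agent.Helper7.PolySub1
import Groth.Agent.Helper7.NN3

/-!
# The semigroup ring of a numerical semigroup, as a subalgebra of `k[X]` (helper7)
-/

set_option autoImplicit false
set_option linter.unusedSectionVars false
set_option linter.style.haveILetI false

namespace Groth.Agent.Helper7.Kunz

open Polynomial Groth.Agent.Helper7.PolySub

universe u

variable {k : Type u} [Field k] (Γ : AddSubmonoid ℕ)

/-- the semigroup ring `k[Γ] ⊆ k[X]` -/
def semiSub : Subalgebra k k[X] where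
  carrier := {p | ∀ n : ℕ, p.coeff n ≠ 0 → n ∈ Γ}
  mul_mem' := by
    intro p q hp hq n hn
    rw [coeff_mul] at hn
    obtain ⟨x, hx, hx0⟩ := Finset.exists_ne_zero_of_sum_ne_zero hn
    rw [Finset.HasAntidiagonal.mem_antidiagonal] at hx
    rw [← hx]
    exact Γ.add_mem (hp _ (left_ne_zero_of_mul hx0)) (hq _ (right_ne_zero_of_mul hx0))
  add_mem' := by
    intro p q hp hq n hn
    rw [coeff_add] at hn
    by_cases h : p.coeff n = 0
    · rw [h, zero_add] at hn
      exact hq n hn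
    · exact hp n h
  algebraMap_mem' := by
    intro c n hn
    rw [Polynomial.algebraMap_apply, coeff_C] at hn
    split_ifs at hn with h
    · rw [h]; exact Γ.zero_mem
    · exact absurd rfl hn

theorem mem_semiSub {p : k[X]} : p ∈ semiSub (k := k) Γ ↔ ∀ n : ℕ, p.coeff n ≠ 0 → n ∈ Γ := Iff.rfl

instance isHomSub : IsHomSub (semiSub (k := k) Γ) where
  monomial_mem := by
    intro p hp n j hj
    rw [coeff_monomial] at hj
    split_ifs at hj with h
    · rw [← h]; exact hp n hj
    · exact absurd rfl hj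
  coeff_zero := fun p _ => ⟨p.coeff 0, rfl⟩

/-- the monomial `X^h` for `h ∈ Γ` -/
noncomputable def xm (h : ℕ) (hh : h ∈ Γ) : ↥(semiSub (k := k) Γ) :=
  ⟨X ^ h, by
    intro n hn
    rw [coeff_X_pow] at hn
    split_ifs at hn with h'
    · rw [h']; exact hh
    · exact absurd rfl hn⟩

theorem coe_xm (h : ℕ) (hh : h ∈ Γ) : ((xm (k := k) Γ h hh : ↥(semiSub (k := k) Γ)) : k[X]) = X ^ h := rfl

variable (e : ℕ) (he : e ∈ Γ)

/-- membership in the principal ideal `(X^e)` -/
theorem mem_span_xm (p : ↥(semiSub (k := k) Γ)) :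
    p ∈ Ideal.span {xm (k := k) Γ e he} ↔
      ∀ n : ℕ, (p : k[X]).coeff n ≠ 0 → e ≤ n ∧ n - e ∈ Γ := by
  rw [Ideal.mem_span_singleton']
  constructor
  · rintro ⟨q, rfl⟩ n hn
    rw [Subalgebra.coe_mul, coe_xm, coeff_mul_X_pow'] at hn
    split_ifs at hn with h
    · exact ⟨h, q.2 _ hn⟩
    · exact absurd rfl hn
  · intro hp
    have hdvd : (X : k[X]) ^ e ∣ (p : k[X]) := by
      rw [X_pow_dvd_iff]
      intro d hd
      by_contra hne
      have := (hp d hne).1
      omega
    obtain ⟨q, hq⟩ := hdvd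
    have hqS : q ∈ semiSub (k := k) Γ := by
      intro j hj
      have h1 : (p : k[X]).coeff (j + e) = q.coeff j := by
        rw [hq, coeff_X_pow_mul]
      have h2 := (hp (j + e) (by rw [h1]; exact hj)).2
      rwa [Nat.add_sub_cancel] at h2
    refine ⟨⟨q, hqS⟩, Subtype.ext ?_⟩
    rw [Subalgebra.coe_mul, coe_xm, hq, mul_comm]

/-- the filtration by order of vanishing -/
def fil (j : ℕ) : Ideal ↥(semiSub (k := k) Γ) where
  carrier := {p | ∀ i < j, (p : k[X]).coeff i = 0}
  add_mem' := by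
    intro a b ha hb i hi
    rw [Subalgebra.coe_add, coeff_add, ha i hi, hb i hi, add_zero]
  zero_mem' := by
    intro i _
    rw [Subalgebra.coe_zero, coeff_zero]
  smul_mem' := by
    intro c a ha i hi
    rw [smul_eq_mul, Subalgebra.coe_mul, coeff_mul]
    apply Finset.sum_eq_zero
    intro x hx
    rw [Finset.HasAntidiagonal.mem_antidiagonal] at hx
    rw [ha x.2 (by omega), mul_zero]

theorem mem_fil {j : ℕ} {p : ↥(semiSub (k := k) Γ)} :
    p ∈ fil (k := k) Γ j ↔ ∀ i < j, (p : k[X]).coeff i = 0 := Iff.rfl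

theorem fil_mul_le (a b : ℕ) : fil (k := k) Γ a * fil (k := k) Γ b ≤ fil (k := k) Γ (a + b) := by
  rw [Ideal.mul_le]
  intro r hr s hs i hi
  rw [Subalgebra.coe_mul, coeff_mul]
  apply Finset.sum_eq_zero
  intro x hx
  rw [Finset.HasAntidiagonal.mem_antidiagonal] at hx
  by_cases h1 : x.1 < a
  · rw [hr x.1 h1, zero_mul]
  · rw [hs x.2 (by omega), mul_zero]

variable (k) in
/-- the maximal ideal of `k[Γ]` -/
noncomputable def mI : Ideal ↥(semiSub (k := k) Γ) :=
  (Groth.Agent.Helper7.VerGor.irrel (gr (semiSub (k := k) Γ))).toIdeal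

theorem mem_mI (p : ↥(semiSub (k := k) Γ)) : p ∈ mI k Γ ↔ (p : k[X]).coeff 0 = 0 :=
  mem_irrel_iff _ p

instance mI_isMaximal : (mI k Γ).IsMaximal := irrel_isMaximal _

theorem irrel_eq_fil : mI k Γ = fil (k := k) Γ 1 := by
  ext p
  rw [mem_mI, mem_fil]
  constructor
  · intro h i hi
    have : i = 0 := by omega
    rw [this, h]
  · intro h
    exact h 0 Nat.one_pos

theorem irrel_pow_le (N : ℕ) : mI k Γ ^ N ≤ fil (k := k) Γ N := by
  induction N with
  | zero =>
    intro p _ i hi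
    omega
  | succ N ih =>
    rw [pow_succ]
    refine le_trans (Ideal.mul_mono ih (irrel_eq_fil Γ).le) (fil_mul_le Γ N 1)

/-- a power of the *maximal ideal lies in `(X^e)` -/
theorem irrel_pow_le_span (c : ℕ) (hc : ∀ n : ℕ, c ≤ n → n ∈ Γ) :
    mI k Γ ^ (c + e) ≤ Ideal.span {xm (k := k) Γ e he} := by
  intro p hp
  have h1 := irrel_pow_le Γ (c + e) hp
  rw [mem_span_xm]
  intro n hn
  have h2 : c + e ≤ n := by
    by_contra h
    exact hn (h1 n (by omega))
  exact ⟨by omega, hc _ (by omega)⟩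

theorem xm_mem_irrel {h : ℕ} (hh : h ∈ Γ) (h0 : h ≠ 0) : xm (k := k) Γ h hh ∈ mI k Γ := by
  rw [mem_mI, coe_xm, coeff_X_pow, if_neg (Ne.symm h0)]

theorem xm_ne_zero {h : ℕ} (hh : h ∈ Γ) : xm (k := k) Γ h hh ≠ 0 := by
  intro h0
  have := congrArg (fun q : ↥(semiSub (k := k) Γ) => (q : k[X])) h0
  simp only [coe_xm, Subalgebra.coe_zero] at this
  exact pow_ne_zero h X_ne_zero this

/-- `k[X]` is integral over `k[Γ]` -/
theorem isIntegral_val (c : ℕ) (hc : ∀ n : ℕ, c ≤ n → n ∈ Γ) :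
    Algebra.IsIntegral ↥(semiSub (k := k) Γ) k[X] := by
  refine ⟨fun q => ?_⟩
  induction q using Polynomial.induction_on' with
  | add p q hp hq => exact hp.add hq
  | monomial n a =>
    have hX : IsIntegral ↥(semiSub (k := k) Γ) (X : k[X]) := by
      refine ⟨X ^ (c + 1) - C (xm (k := k) Γ (c + 1) (hc _ (by omega))), ?_, ?_⟩
      · exact monic_X_pow_sub_C _ (by omega)
      · rw [eval₂_sub, eval₂_pow, eval₂_X, eval₂_C]
        show X ^ (c + 1) - ((xm (k := k) Γ (c + 1) (hc _ (by omega)) : ↥(semiSub (k := k) Γ)) : k[X]) = 0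
        rw [coe_xm, sub_self]
    have hC : IsIntegral ↥(semiSub (k := k) Γ) (C a : k[X]) := by
      have : C a = algebraMap ↥(semiSub (k := k) Γ) k[X]
          (algebraMap k ↥(semiSub (k := k) Γ) a) := rfl
      rw [this]
      exact isIntegral_algebraMap
    rw [← C_mul_X_pow_eq_monomial]
    exact hC.mul (hX.pow n)

theorem ringKrullDim_le_one (c : ℕ) (hc : ∀ n : ℕ, c ≤ n → n ∈ Γ) :
    ringKrullDim ↥(semiSub (k := k) Γ) ≤ 1 := by
  haveI : Algebra.IsIntegral ↥(semiSub (k := k) Γ) k[X] := isIntegral_val Γ c hc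
  have hinj : Function.Injective (algebraMap ↥(semiSub (k := k) Γ) k[X]) := Subtype.val_injective
  rw [← Groth.Agent.Helper7.NN.ringKrullDim_eq_of_isIntegral_of_injective hinj,
    Polynomial.ringKrullDim_of_isNoetherianRing, ringKrullDim_eq_zero_of_field]
  simp

end Groth.Agent.Helper7.Kunz
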