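import Mathlib
import Groth.Prelude.Def_CAlg
import Groth.Agent.Helper7.SegGorA
import Groth.Agent.Helper7.SegOneA

/-!
# Socle elements modulo a regular element in a Gorenstein ring (helper7)
-/

set_option autoImplicit false
universe u

namespace Groth.Agent.Helper7.SegGor

open CategoryTheory Abelian IsLocalRing

/-- **The socle of a Gorenstein ring modulo a regular parameter is one-dimensional**: if `T` is
Gorenstein, `m` a maximal ideal, `t ∈ m` regular with `m^N ⊆ (t)`, then any two elements of
`((t) : m)` are dependent modulo `(t)` with coefficients not both in `m`. -/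
theorem socle_dependent {T : Type u} [CommRing T] [hG : LocCoh.IsGorensteinRing T] (m : Ideal T)
    [hm : m.IsMaximal] (t : T) (ht : t ∈ m) (hreg : IsSMulRegular T t)
    (hdimT : ringKrullDim T ≤ 1) (w₁ w₂ : T)
    (h₂ : ∀ u ∈ m, u * w₂ ∈ Ideal.span {t}) :
    ∃ a b : T, (a ∉ m ∨ b ∉ m) ∧ a * w₁ + b * w₂ ∈ Ideal.span {t} := by
  have : m.IsPrime := hm.isPrime
  let A := Localization.AtPrime m
  have hGA : LocCoh.IsGorensteinLocalRing A := hG.isGorensteinLocalRing_localization m
  set f : A := algebraMap T A t with hf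
  have hfm : f ∈ maximalIdeal A := (IsLocalization.AtPrime.to_map_mem_maximal_iff A m t).2 ht
  have hfreg : IsSMulRegular A f := hreg.of_flat
  have hGB : LocCoh.IsGorensteinLocalRing (A ⧸ Ideal.span {f}) :=
    (Groth.Agent.Helper6.Rees.main A f hfm hfreg).1 hGA
  set I : Ideal A := Ideal.span {f} with hI
  have hImap : I = (Ideal.span {t}).map (algebraMap T A) := by
    rw [Ideal.map_span, Set.image_singleton]
  -- the kernel of `T → A ⧸ I`
  have hkernel : ∀ v : T, algebraMap T A v ∈ I → ∃ s : T, s ∉ m ∧ s * v ∈ Ideal.span {t} := by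
    intro v hv
    rw [hImap, IsLocalization.mem_map_algebraMap_iff m.primeCompl A] at hv
    obtain ⟨⟨⟨i, hi⟩, s⟩, hx⟩ := hv
    simp only at hx
    rw [← map_mul, IsLocalization.eq_iff_exists m.primeCompl A] at hx
    obtain ⟨c, hc⟩ := hx
    refine ⟨c * s, ?_, ?_⟩
    · exact (c * s).2
    · have : ((c : T) * (s : T)) * v = c * i := by rw [← hc]; ring
      rw [this]
      exact Ideal.mul_mem_left _ _ hi
  -- the quotient is Artinian
  have hdimA : ringKrullDim A ≤ 1 := by
    rw [IsLocalization.AtPrime.ringKrullDim_eq_height m A]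
    exact le_trans (Ideal.height_le_ringKrullDim_of_ne_top hm.ne_top) hdimT
  have hdim : ringKrullDim (A ⧸ I) = 0 := by
    have h1 := ringKrullDim_quotient_succ_le_of_nonZeroDivisor
      (Groth.Agent.Helper7.SegOne.mem_nonZeroDivisors_of_isSMulRegular f hfreg)
    have h2 : ringKrullDim (A ⧸ I) ≤ 0 := by
      have h3 : ringKrullDim (A ⧸ I) + 1 ≤ 1 := h1.trans hdimA
      generalize ringKrullDim (A ⧸ I) = d at h3 ⊢
      induction d using WithBot.recBotCoe with
      | bot => exact bot_le
      | coe d =>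
        have h4 : d + 1 ≤ 1 := by exact_mod_cast h3
        induction d using ENat.recTopCoe with
        | top => simp at h4
        | coe n =>
          have h5 : n + 1 ≤ 1 := by exact_mod_cast h4
          have h6 : n = 0 := by omega
          subst h6
          simp
    exact le_antisymm h2 ringKrullDim_nonneg_of_nontrivial
  have hinj := injective_self_of_dim_zero (A ⧸ I) hdim
  -- socle elements
  have hsoc : ∀ w : T, (∀ u ∈ m, u * w ∈ Ideal.span {t}) →
      ∀ b ∈ maximalIdeal (A ⧸ I), b * Ideal.Quotient.mk I (algebraMap T A w) = 0 := by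
    intro w hw b hb
    obtain ⟨a, rfl⟩ := Ideal.Quotient.mk_surjective b
    have ha : a ∈ maximalIdeal A := by
      rw [mem_maximalIdeal, mem_nonunits_iff] at hb ⊢
      intro hu
      exact hb (hu.map _)
    obtain ⟨u, s, rfl⟩ := IsLocalization.exists_mk'_eq m.primeCompl a
    rw [IsLocalization.AtPrime.mk'_mem_maximal_iff A m] at ha
    obtain ⟨v, hv⟩ := Ideal.mem_span_singleton'.1 (hw u ha)
    rw [← map_mul, Ideal.Quotient.eq_zero_iff_mem, hI, Ideal.mem_span_singleton']
    refine ⟨IsLocalization.mk' A v s, ?_⟩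
    rw [hf, mul_comm, IsLocalization.mul_mk'_eq_mk'_of_mul,
      mul_comm (IsLocalization.mk' A u s), IsLocalization.mul_mk'_eq_mk'_of_mul]
    congr 1
    rw [mul_comm t v, hv, mul_comm]
  by_cases h0 : Ideal.Quotient.mk I (algebraMap T A w₁) = 0
  · rw [Ideal.Quotient.eq_zero_iff_mem] at h0
    obtain ⟨s, hs, hsv⟩ := hkernel w₁ h0
    exact ⟨s, 0, Or.inl hs, by rw [zero_mul, add_zero]; exact hsv⟩
  · obtain ⟨c, hc⟩ := exists_mul_eq_of_injective (A ⧸ I) hinj _ _ h0 (hsoc w₂ h₂)
    obtain ⟨a, rfl⟩ := Ideal.Quotient.mk_surjective c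
    obtain ⟨u, s, rfl⟩ := IsLocalization.exists_mk'_eq m.primeCompl a
    have h3 : algebraMap T A (s * w₂ - u * w₁) ∈ I := by
      have h4 : algebraMap T A w₂ - IsLocalization.mk' A u s * algebraMap T A w₁ ∈ I := by
        rw [← Ideal.Quotient.eq_zero_iff_mem, map_sub, map_mul, hc, sub_self]
      have h5 := I.mul_mem_left (algebraMap T A s) h4
      have h6 : algebraMap T A (s * w₂ - u * w₁) = algebraMap T A s *
          (algebraMap T A w₂ - IsLocalization.mk' A u s * algebraMap T A w₁) := by
        rw [mul_sub, ← mul_assoc, IsLocalization.mk'_spec', map_sub, map_mul, map_mul]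
      rw [h6]
      exact h5
    obtain ⟨s', hs', hs'v⟩ := hkernel _ h3
    refine ⟨-(s' * u), s' * s, Or.inr ?_, ?_⟩
    · intro hmem
      rcases Ideal.IsPrime.mem_or_mem inferInstance hmem with h | h
      · exact hs' h
      · exact s.2 h
    · have : -(s' * u) * w₁ + s' * s * w₂ = s' * (s * w₂ - u * w₁) := by ring
      rw [this]
      exact hs'v

end Groth.Agent.Helper7.SegGor
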