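import Mathlib
import Groth.Agent.Helper7.KunzA
import Groth.Agent.Helper7.SegGorB

/-!
# Kunz's theorem, forward direction: Gorenstein ⟹ the Apéry set has a greatest element
for the semigroup order (helper7)
-/

set_option autoImplicit false
set_option linter.unusedSectionVars false
set_option linter.style.haveILetI false

namespace Groth.Agent.Helper7.Kunz

open Polynomial Groth.Agent.Helper7.PolySub

universe u

variable {k : Type u} [Field k] (Γ : AddSubmonoid ℕ) (e : ℕ) (he : e ∈ Γ) (he0 : e ≠ 0)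

/-- `n ∈ e + Γ` -/
def Good (n : ℕ) : Prop := e ≤ n ∧ n - e ∈ Γ

include he0 in
theorem isSMulRegular_xm : IsSMulRegular ↥(semiSub (k := k) Γ) (xm (k := k) Γ e he) := by
  intro a b hab
  exact mul_left_cancel₀ (xm_ne_zero Γ he) hab

include he he0 in
/-- **Kunz, forward**: if `k[Γ]` is Gorenstein and `w₀` is the largest element of the Apéry set
of `e`, then `w₀ - w ∈ Γ` for every `w` in the Apéry set. -/
theorem forward (c : ℕ) (hc : ∀ n : ℕ, c ≤ n → n ∈ Γ)
    [hG : LocCoh.IsGorensteinRing ↥(semiSub (k := k) Γ)]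
    (w₀ : ℕ) (hw₀Γ : w₀ ∈ Γ) (hw₀ : ¬ Good Γ e w₀)
    (hmax : ∀ v ∈ Γ, ¬ Good Γ e v → v ≤ w₀) (w : ℕ) (hwΓ : w ∈ Γ) (hw : ¬ Good Γ e w) :
    w₀ - w ∈ Γ := by
  classical
  -- the largest Apéry element above `w` in the semigroup order
  let P : ℕ → Prop := fun v => v ∈ Γ ∧ ¬ Good Γ e v ∧ w ≤ v ∧ v - w ∈ Γ
  have hPw : P w := ⟨hwΓ, hw, le_rfl, by rw [Nat.sub_self]; exact Γ.zero_mem⟩
  have hwle : w ≤ w₀ := hmax w hwΓ hw
  set w' := Nat.findGreatest P w₀ with hw'def
  have hPw' : P w' := Nat.findGreatest_spec hwle hPw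
  have hw'max : ∀ v, P v → v ≤ w' := fun v hv => Nat.le_findGreatest (hmax v hv.1 hv.2.1) hv
  obtain ⟨hw'Γ, hw'G, hww', hw'w⟩ := hPw'
  -- anything strictly above `w'` in the semigroup order is good
  have habove : ∀ h ∈ Γ, h ≠ 0 → Good Γ e (w' + h) := by
    intro h hh h0
    by_contra hng
    have : P (w' + h) := by
      refine ⟨Γ.add_mem hw'Γ hh, hng, by omega, ?_⟩
      have : w' + h - w = (w' - w) + h := by omega
      rw [this]
      exact Γ.add_mem hw'w hh
    have := hw'max _ this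
    omega
  -- `X^{w'}` is a socle element modulo `X^e`
  have hsoc : ∀ u ∈ mI k Γ, u * xm (k := k) Γ w' hw'Γ ∈ Ideal.span {xm (k := k) Γ e he} := by
    intro u hu
    rw [mem_span_xm]
    intro n hn
    rw [Subalgebra.coe_mul, coe_xm, coeff_mul_X_pow'] at hn
    split_ifs at hn with hle
    · have hΓ : n - w' ∈ Γ := u.2 _ hn
      have h0 : n - w' ≠ 0 := by
        intro h0
        rw [h0, (mem_mI Γ u).1 hu] at hn
        exact hn rfl
      have := habove _ hΓ h0
      rwa [Nat.add_sub_cancel' hle] at this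
    · exact absurd rfl hn
  by_cases heq : w' = w₀
  · rw [← heq]; exact hw'w
  exfalso
  have hlt : w' < w₀ := lt_of_le_of_ne (hmax w' hw'Γ hw'G) heq
  obtain ⟨a, b, hab, hmem⟩ := Groth.Agent.Helper7.SegGor.socle_dependent (mI k Γ)
    (xm (k := k) Γ e he) (xm_mem_irrel Γ he he0) (isSMulRegular_xm Γ e he he0)
    (ringKrullDim_le_one Γ c hc) (xm (k := k) Γ w₀ hw₀Γ) (xm (k := k) Γ w' hw'Γ) hsoc
  rw [mem_span_xm] at hmem
  have hcoeff : ∀ n : ℕ, ((a * xm (k := k) Γ w₀ hw₀Γ + b * xm (k := k) Γ w' hw'Γ :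
      ↥(semiSub (k := k) Γ)) : k[X]).coeff n =
      (if w₀ ≤ n then (a : k[X]).coeff (n - w₀) else 0) +
        (if w' ≤ n then (b : k[X]).coeff (n - w') else 0) := by
    intro n
    rw [Subalgebra.coe_add, Subalgebra.coe_mul, Subalgebra.coe_mul, coe_xm, coe_xm, coeff_add,
      coeff_mul_X_pow', coeff_mul_X_pow']
  -- the coefficient at `w'`
  have hb0 : (b : k[X]).coeff 0 = 0 := by
    by_contra hne
    apply hw'G
    apply hmem w'
    rw [hcoeff, if_neg (by omega), if_pos le_rfl, Nat.sub_self, zero_add]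
    exact hne
  -- the coefficient of `b` at `w₀ - w'`
  have hb1 : (b : k[X]).coeff (w₀ - w') = 0 := by
    by_contra hne
    have hΓ : w₀ - w' ∈ Γ := b.2 _ hne
    have := habove _ hΓ (by omega)
    rw [Nat.add_sub_cancel' hlt.le] at this
    exact hw₀ this
  have ha0 : (a : k[X]).coeff 0 = 0 := by
    by_contra hne
    apply hw₀
    apply hmem w₀
    rw [hcoeff, if_pos le_rfl, if_pos hlt.le, Nat.sub_self, hb1, add_zero]
    exact hne
  rcases hab with h | h
  · exact h ((mem_mI Γ a).2 ha0)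
  · exact h ((mem_mI Γ b).2 hb0)

end Groth.Agent.Helper7.Kunz
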