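import Mathlib
import Groth.Agent.Helper7.KunzB
import Groth.Agent.Helper7.ArtGor
import Groth.Agent.Helper7.GorQuot2

/-!
# Kunz's theorem, backward direction: if the Apéry set has a greatest element for the semigroup
order then `k[Γ]` is Gorenstein (helper7)
-/

set_option autoImplicit false
set_option linter.unusedSectionVars false
set_option linter.style.haveILetI false

namespace Groth.Agent.Helper7.Kunz

open Polynomial Groth.Agent.Helper7.PolySub IsLocalRing

universe u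

variable {k : Type u} [Field k] (Γ : AddSubmonoid ℕ) (e : ℕ) (he : e ∈ Γ) (he0 : e ≠ 0)

include he0 in
/-- the Artinian quotient `k[Γ]/(X^e)` (as an abstract quotient `A`) is a Gorenstein local ring -/
theorem backward_local {A : Type u} [CommRing A] (mk : ↥(semiSub (k := k) Γ) →+* A)
    (hsurj : Function.Surjective mk)
    (hmk0 : ∀ p : ↥(semiSub (k := k) Γ), mk p = 0 ↔ p ∈ Ideal.span {xm (k := k) Γ e he})
    (c : ℕ) (hc : ∀ n : ℕ, c ≤ n → n ∈ Γ) [IsNoetherianRing ↥(semiSub (k := k) Γ)]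
    (w₀ : ℕ) (hw₀Γ : w₀ ∈ Γ) (hw₀ : ¬ Good Γ e w₀)
    (hB4 : ∀ w ∈ Γ, ¬ Good Γ e w → w ≤ w₀ ∧ w₀ - w ∈ Γ)
    (hB2 : ∀ h ∈ Γ, h ≠ 0 → Good Γ e (w₀ + h)) :
    ∃ _ : IsLocalRing A, LocCoh.IsGorensteinLocalRing A := by
  set t := xm (k := k) Γ e he with ht
  have htm : t ∈ mI k Γ := xm_mem_irrel Γ he he0
  have hkereq : RingHom.ker mk = Ideal.span {t} := by
    ext p
    rw [RingHom.mem_ker, hmk0]
  have hker : RingHom.ker mk ≤ mI k Γ := by
    rw [hkereq, Ideal.span_singleton_le_iff_mem]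
    exact htm
  haveI : IsNoetherianRing A := isNoetherianRing_of_surjective _ A mk hsurj
  set M : Ideal A := (mI k Γ).map mk with hM
  have hMmax : M.IsMaximal := Ideal.IsMaximal.map_of_surjective_of_ker_le hsurj hker
  have hMnil : M ^ (c + e) = ⊥ := by
    rw [hM, ← Ideal.map_pow, eq_bot_iff]
    rw [Ideal.map_le_iff_le_comap]
    intro p hp
    rw [Ideal.mem_comap, Ideal.mem_bot, hmk0]
    exact irrel_pow_le_span Γ e he c hc hp
  haveI hloc : IsLocalRing A := by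
    apply IsLocalRing.of_unique_max_ideal
    refine ⟨M, hMmax, fun I hI => ?_⟩
    have hI' : I.IsMaximal := hI
    have h1 : M ≤ I := by
      apply hI'.isPrime.le_of_pow_le (n := c + e)
      rw [hMnil]
      exact bot_le
    exact (hMmax.eq_of_le hI'.ne_top h1).symm
  refine ⟨hloc, ?_⟩
  have hMeq : M = maximalIdeal A := eq_maximalIdeal hMmax
  have hnil : IsNilpotent (maximalIdeal A) := ⟨c + e, by rw [← hMeq]; exact hMnil⟩
  have hmemM : ∀ b ∈ maximalIdeal A, ∃ u ∈ mI k Γ, mk u = b := by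
    intro b hb
    rw [← hMeq, hM] at hb
    exact (Ideal.mem_map_iff_of_surjective mk hsurj).1 hb
  set σ : A := mk (xm (k := k) Γ w₀ hw₀Γ) with hσdef
  have hσ0 : σ ≠ 0 := by
    intro h
    rw [hσdef, hmk0, mem_span_xm] at h
    apply hw₀
    apply h w₀
    rw [coe_xm, coeff_X_pow, if_pos rfl]
    exact one_ne_zero
  have hσ : ∀ b ∈ maximalIdeal A, b * σ = 0 := by
    intro b hb
    obtain ⟨u, hu, rfl⟩ := hmemM b hb
    rw [hσdef, ← map_mul, hmk0, mem_span_xm]
    intro n hn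
    rw [Subalgebra.coe_mul, coe_xm, coeff_mul_X_pow'] at hn
    split_ifs at hn with hle
    · have hΓ : n - w₀ ∈ Γ := u.2 _ hn
      have h0 : n - w₀ ≠ 0 := by
        intro h0
        rw [h0, (mem_mI Γ u).1 hu] at hn
        exact hn rfl
      have := hB2 _ hΓ h0
      rwa [Nat.add_sub_cancel' hle] at this
    · exact absurd rfl hn
  have hsoc : ∀ x : A, (∀ b ∈ maximalIdeal A, b * x = 0) → ∃ c' : A, x = c' * σ := by
    intro x hx
    obtain ⟨p, rfl⟩ := hsurj x
    have hp : ∀ u ∈ mI k Γ, u * p ∈ Ideal.span {t} := by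
      intro u hu
      have h1 := hx (mk u) (by rw [← hMeq, hM]; exact Ideal.mem_map_of_mem mk hu)
      rw [← (hmk0 (u * p)), map_mul]
      exact h1
    refine ⟨mk (algebraMap k _ ((p : k[X]).coeff w₀)), ?_⟩
    rw [hσdef, ← map_mul, ← sub_eq_zero, ← map_sub, hmk0, mem_span_xm]
    intro n hn
    rw [Subalgebra.coe_sub, Subalgebra.coe_mul, coe_xm, Subalgebra.coe_algebraMap,
      Polynomial.algebraMap_apply, coeff_sub, coeff_C_mul, coeff_X_pow] at hn
    by_cases hnw : n = w₀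
    · exfalso
      apply hn
      rw [if_pos hnw, mul_one, hnw, Algebra.algebraMap_self, RingHom.id_apply, sub_self]
    · rw [if_neg hnw, mul_zero, sub_zero] at hn
      by_contra hng
      have hnΓ : n ∈ Γ := p.2 n hn
      obtain ⟨hle, hdiff⟩ := hB4 n hnΓ hng
      have hh0 : w₀ - n ≠ 0 := by omega
      have h1 := hp (xm (k := k) Γ (w₀ - n) hdiff) (xm_mem_irrel Γ hdiff hh0)
      rw [ht, mem_span_xm] at h1
      apply hw₀
      apply h1 w₀
      rw [Subalgebra.coe_mul, coe_xm, coeff_X_pow_mul', if_pos (Nat.sub_le _ _),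
        Nat.sub_sub_self hle]
      exact hn
  exact Groth.Agent.Helper7.ArtGor.gorLocal_of_simple_socle A hnil σ hσ0 hσ hsoc

include he he0 in
/-- **Kunz, backward** -/
theorem backward (c : ℕ) (hc : ∀ n : ℕ, c ≤ n → n ∈ Γ) [IsNoetherianRing ↥(semiSub (k := k) Γ)]
    (w₀ : ℕ) (hw₀Γ : w₀ ∈ Γ) (hw₀ : ¬ Good Γ e w₀)
    (hB4 : ∀ w ∈ Γ, ¬ Good Γ e w → w ≤ w₀ ∧ w₀ - w ∈ Γ)
    (hB2 : ∀ h ∈ Γ, h ≠ 0 → Good Γ e (w₀ + h)) :
    LocCoh.IsGorensteinRing ↥(semiSub (k := k) Γ) := by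
  obtain ⟨hloc, hG⟩ := backward_local Γ e he he0
    (A := ↥(semiSub (k := k) Γ) ⧸ Ideal.span {xm (k := k) Γ e he})
    (Ideal.Quotient.mk (Ideal.span {xm (k := k) Γ e he})) Ideal.Quotient.mk_surjective
    (fun p => Ideal.Quotient.eq_zero_iff_mem) c hc w₀ hw₀Γ hw₀ hB4 hB2
  haveI := hloc
  haveI : (Groth.Agent.Helper7.VerGor.irrel (gr (semiSub (k := k) Γ))).toIdeal.IsMaximal :=
    irrel_isMaximal _
  exact Groth.Agent.Helper7.GorQuot.gorenstein_of_quotient_graded_local (gr (semiSub (k := k) Γ))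
    (Groth.Agent.Helper7.VerGor.irrel (gr (semiSub (k := k) Γ))) (isStarLocal _)
    (xm (k := k) Γ e he) (isSMulRegular_xm Γ e he he0) (xm_mem_irrel Γ he he0) hG

end Groth.Agent.Helper7.Kunz
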