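import Mathlib
import Groth.Prelude.Def_W4c6gradedringsgwSect
import Groth.Agent.Helper7.KunzC

/-!
# Kunz's theorem: `k[Γ]` is Gorenstein iff the numerical semigroup `Γ` is symmetric (helper7)
-/

set_option autoImplicit false
set_option linter.unusedSectionVars false
set_option linter.style.haveILetI false

namespace Groth.Agent.Helper7.Kunz

open Polynomial Groth.Agent.Helper7.PolySub

universe u

section Comb

variable (Γ : AddSubmonoid ℕ) (e : ℕ) (he : e ∈ Γ) (he0 : e ≠ 0)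
  (c : ℕ) (hc : ∀ n : ℕ, c ≤ n → n ∈ Γ)

include he0 hc in
theorem exists_max_apery :
    ∃ w₀ ∈ Γ, ¬ Good Γ e w₀ ∧ ∀ v ∈ Γ, ¬ Good Γ e v → v ≤ w₀ := by
  classical
  let P : ℕ → Prop := fun v => v ∈ Γ ∧ ¬ Good Γ e v
  have hP0 : P 0 := ⟨Γ.zero_mem, fun h => he0 (by have := h.1; omega)⟩
  have hbound : ∀ v, P v → v ≤ c + e := by
    intro v hv
    by_contra hlt
    exact hv.2 ⟨by omega, hc _ (by omega)⟩
  have hspec : P (Nat.findGreatest P (c + e)) := Nat.findGreatest_spec (Nat.zero_le _) hP0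
  exact ⟨_, hspec.1, hspec.2, fun v hv hvG => Nat.le_findGreatest (hbound v ⟨hv, hvG⟩) ⟨hv, hvG⟩⟩

include he0 hc in
/-- the least element of `Γ` in the class of `N` modulo `e` above `N ∉ Γ` lies in the Apéry set -/
theorem exists_apery_above {N : ℕ} (hN : N ∉ Γ) :
    ∃ j : ℕ, N + (e * j + e) ∈ Γ ∧ ¬ Good Γ e (N + (e * j + e)) := by
  classical
  have hepos : 0 < e := Nat.pos_of_ne_zero he0
  have hex : ∃ j : ℕ, N + e * j ∈ Γ := by
    refine ⟨c, hc _ ?_⟩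
    have : c ≤ e * c := Nat.le_mul_of_pos_left c hepos
    omega
  have hj0 : Nat.find hex ≠ 0 := by
    intro h0
    have := Nat.find_spec hex
    rw [h0, mul_zero, add_zero] at this
    exact hN this
  obtain ⟨j', hj'⟩ := Nat.exists_eq_succ_of_ne_zero hj0
  have hmin := Nat.find_min hex (m := j') (by omega)
  have hv := Nat.find_spec hex
  rw [hj', Nat.mul_succ] at hv
  refine ⟨j', hv, ?_⟩
  rintro ⟨-, h2⟩
  apply hmin
  have : N + (e * j' + e) - e = N + e * j' := by omega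
  rwa [this] at h2

include he he0 hc in
theorem symmetric_of_forward (w₀ : ℕ) (hw₀Γ : w₀ ∈ Γ) (hw₀ : ¬ Good Γ e w₀)
    (hmax : ∀ v ∈ Γ, ¬ Good Γ e v → v ≤ w₀)
    (hF : ∀ w ∈ Γ, ¬ Good Γ e w → w₀ - w ∈ Γ) :
    W4c6gradedringsgw.IsSymmetric (Γ : Set ℕ) := by
  have hG : ∀ N : ℕ, w₀ < N + e → N ∈ Γ := by
    intro N hN
    by_contra hNΓ
    obtain ⟨j, hj1, hj2⟩ := exists_apery_above Γ e he0 c hc hNΓ
    have := hmax _ hj1 hj2
    omega
  have hH : e ≤ w₀ + 1 := by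
    by_contra hlt
    have h1 : e - 1 ∈ Γ := hG (e - 1) (by omega)
    have h2 : ¬ Good Γ e (e - 1) := by
      rintro ⟨h, -⟩
      omega
    have := hmax _ h1 h2
    omega
  refine ⟨(w₀ : ℤ) - e, fun n => ⟨?_, ?_⟩⟩
  · rintro ⟨h, hh, rfl⟩ ⟨h', hh', heq⟩
    apply hw₀
    refine ⟨by omega, ?_⟩
    have : w₀ - e = h + h' := by omega
    rw [this]
    exact Γ.add_mem hh hh'
  · intro hneg
    by_contra hcon
    apply hneg
    rcases lt_or_ge n 0 with hn | hn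
    · refine ⟨((w₀ : ℤ) - e - n).toNat, hG _ (by omega), by omega⟩
    · lift n to ℕ using hn
      have hnΓ : n ∉ Γ := fun h => hcon ⟨n, h, rfl⟩
      obtain ⟨j, hj1, hj2⟩ := exists_apery_above Γ e he0 c hc hnΓ
      have h1 := hF _ hj1 hj2
      have h2 := hmax _ hj1 hj2
      refine ⟨(w₀ - (n + (e * j + e))) + e * j, Γ.add_mem h1 ?_, ?_⟩
      · rw [mul_comm, ← smul_eq_mul]
        exact Γ.nsmul_mem he j
      · push_cast
        omega

include he0 in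
theorem backward_data_of_symmetric (hsym : W4c6gradedringsgw.IsSymmetric (Γ : Set ℕ)) :
    ∃ w₀ ∈ Γ, ¬ Good Γ e w₀ ∧ (∀ w ∈ Γ, ¬ Good Γ e w → w ≤ w₀ ∧ w₀ - w ∈ Γ) ∧
      (∀ h ∈ Γ, h ≠ 0 → Good Γ e (w₀ + h)) := by
  obtain ⟨d, hsym⟩ := hsym
  have hepos : 0 < e := Nat.pos_of_ne_zero he0
  have hB1 : ¬ ∃ h ∈ (Γ : Set ℕ), (h : ℤ) = d := by
    have := (hsym 0).1 ⟨0, Γ.zero_mem, rfl⟩
    rwa [sub_zero] at this
  have hB2' : ∀ n : ℤ, d < n → ∃ h ∈ (Γ : Set ℕ), (h : ℤ) = n := by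
    intro n hn
    apply (hsym n).2
    rintro ⟨h, _, hh⟩
    omega
  obtain ⟨w₀, hw₀Γ, hw₀eq⟩ := hB2' (d + e) (by omega)
  refine ⟨w₀, hw₀Γ, ?_, ?_, ?_⟩
  · rintro ⟨h1, h2⟩
    apply hB1
    exact ⟨w₀ - e, h2, by omega⟩
  · intro w hwΓ hw
    have h1 : ¬ ∃ h ∈ (Γ : Set ℕ), (h : ℤ) = (w : ℤ) - e := by
      rintro ⟨h, hh, heq⟩
      apply hw
      refine ⟨by omega, ?_⟩
      have : w - e = h := by omega
      rw [this]
      exact hh
    have h2 : ∃ h ∈ (Γ : Set ℕ), (h : ℤ) = d - ((w : ℤ) - e) := by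
      by_contra hcon
      exact h1 ((hsym _).2 hcon)
    obtain ⟨h, hh, heq⟩ := h2
    refine ⟨by omega, ?_⟩
    have : w₀ - w = h := by omega
    rw [this]
    exact hh
  · intro h hh h0
    obtain ⟨h'', hh'', heq⟩ := hB2' (d + h) (by omega)
    refine ⟨by omega, ?_⟩
    have : w₀ + h - e = h'' := by omega
    rw [this]
    exact hh''

end Comb

variable {k : Type u} [Field k]

/-- **Kunz's theorem** -/
theorem kunz (Γ : AddSubmonoid ℕ) (c : ℕ) (hc : ∀ n : ℕ, c ≤ n → n ∈ Γ)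
    [IsNoetherianRing ↥(semiSub (k := k) Γ)] :
    LocCoh.IsGorensteinRing ↥(semiSub (k := k) Γ) ↔ W4c6gradedringsgw.IsSymmetric (Γ : Set ℕ) := by
  have he : c + 1 ∈ Γ := hc _ (by omega)
  have he0 : c + 1 ≠ 0 := by omega
  constructor
  · intro hG
    obtain ⟨w₀, hw₀Γ, hw₀, hmax⟩ := exists_max_apery Γ (c + 1) he0 c hc
    exact symmetric_of_forward Γ (c + 1) he he0 c hc w₀ hw₀Γ hw₀ hmax
      (fun w hwΓ hw => forward (k := k) Γ (c + 1) he he0 c hc w₀ hw₀Γ hw₀ hmax w hwΓ hw)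
  · intro hsym
    obtain ⟨w₀, hw₀Γ, hw₀, hB4, hB2⟩ := backward_data_of_symmetric Γ (c + 1) he0 hsym
    exact backward Γ (c + 1) he he0 c hc w₀ hw₀Γ hw₀ hB4 hB2

end Groth.Agent.Helper7.Kunz
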