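import Mathlib
import Groth.Agent.Helper7.LD3
import Groth.Prelude.Def_LieHopf

/-!
# In characteristic zero a primitive element killed by the Lie algebra vanishes
-/

namespace Groth.Agent.Helper7.LieDense

open TensorProduct WithConv Polynomial

universe u

variable {k : Type u} [Field k] {A : Type u} [CommRing A] [HopfAlgebra k A]

/-- an ε-derivation from a functional vanishing on `1` and on `M²` -/
noncomputable def derOf (l : A →ₗ[k] k) (h1 : l 1 = 0)
    (h2 : ∀ a ∈ aug k A ^ 2, l a = 0) : LieHopf.Lie k A :=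
  Derivation.mk' (l : A →ₗ[k] LieHopf.K k A) (by
    intro a b
    rw [LieHopf.smul_def, LieHopf.smul_def]
    have h3 : (a - algebraMap k A (Bialgebra.counitAlgHom k A a)) *
        (b - algebraMap k A (Bialgebra.counitAlgHom k A b)) ∈ aug k A ^ 2 := by
      rw [pow_two]
      refine Ideal.mul_mem_mul ?_ ?_
      · rw [RingHom.mem_ker, map_sub, AlgHom.commutes, Algebra.algebraMap_self_apply, sub_self]
      · rw [RingHom.mem_ker, map_sub, AlgHom.commutes, Algebra.algebraMap_self_apply, sub_self]
    have h4 := h2 _ h3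
    have e : (a - algebraMap k A (Bialgebra.counitAlgHom k A a)) *
        (b - algebraMap k A (Bialgebra.counitAlgHom k A b)) =
        a * b - (Bialgebra.counitAlgHom k A a) • b - (Bialgebra.counitAlgHom k A b) • a +
          ((Bialgebra.counitAlgHom k A a) * (Bialgebra.counitAlgHom k A b)) • (1 : A) := by
      simp only [Algebra.smul_def, map_mul]
      ring
    rw [e, map_add, map_sub, map_sub, map_smul, map_smul, map_smul, h1, smul_zero, add_zero] at h4
    change l (a * b) = (Bialgebra.counitAlgHom k A a) • l b + (Bialgebra.counitAlgHom k A b) • l a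
    linear_combination h4)

lemma derOf_apply (l : A →ₗ[k] k) (h1 : l 1 = 0)
    (h2 : ∀ a ∈ aug k A ^ 2, l a = 0) (a : A) : LieHopf.dlin (derOf l h1 h2) a = l a := rfl

/-- an element of the augmentation ideal killed by all ε-derivations lies in `M²` -/
theorem mem_aug_sq_of_lie {x : A} (hx : x ∈ aug k A)
    (hL : ∀ ξ : LieHopf.Lie k A, LieHopf.dlin ξ x = 0) : x ∈ aug k A ^ 2 := by
  by_contra hx2
  let W : Submodule k A := ((aug k A ^ 2).restrictScalars k) ⊔ Submodule.span k {(1 : A)}
  have hxW : x ∉ W := by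
    intro h
    obtain ⟨m, hm, c1, hc1, rfl⟩ := Submodule.mem_sup.1 h
    obtain ⟨c, rfl⟩ := Submodule.mem_span_singleton.1 hc1
    have hm' : m ∈ aug k A ^ 2 := hm
    have hm1 : m ∈ aug k A := Ideal.pow_le_self (by norm_num) hm'
    rw [RingHom.mem_ker] at hx hm1
    rw [map_add, hm1, zero_add, map_smul, map_one, smul_eq_mul, mul_one] at hx
    rw [hx, zero_smul, add_zero] at hx2
    exact hx2 hm'
  obtain ⟨l, hlx, hlW⟩ := Submodule.exists_le_ker_of_notMem hxW
  have h1 : l 1 = 0 := by
    have : (1 : A) ∈ W := Submodule.mem_sup_right (Submodule.mem_span_singleton_self _)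
    exact hlW this
  have h2 : ∀ a ∈ aug k A ^ 2, l a = 0 := by
    intro a ha
    have : a ∈ W := Submodule.mem_sup_left ha
    exact hlW this
  have := hL (derOf l h1 h2)
  rw [derOf_apply] at this
  exact hlx this

/-- **Key fact** (a shadow of Cartier's theorem): in characteristic zero, a primitive element of a
finitely generated commutative Hopf algebra which is killed by all ε-derivations vanishes. -/
theorem prim_eq_zero_of_lie [CharZero k] [Algebra.FiniteType k A] {x : A}
    (hx : Coalgebra.comul (R := k) x = x ⊗ₜ[k] (1 : A) + (1 : A) ⊗ₜ[k] x)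
    (hL : ∀ ξ : LieHopf.Lie k A, LieHopf.dlin ξ x = 0) : x = 0 := by
  by_contra hx0
  haveI : IsNoetherianRing A := Algebra.FiniteType.isNoetherianRing k A
  have hxa : x ∈ aug k A := counit_prim hx
  have hx2 := mem_aug_sq_of_lie hxa hL
  have hall : ∀ n, x ∈ aug k A ^ n := by
    intro n
    rcases Nat.lt_or_ge n 2 with h | h
    · exact Ideal.pow_le_pow_right (by omega : n ≤ 2) hx2
    · obtain ⟨m, rfl⟩ := Nat.exists_eq_add_of_le' h
      exact prim_mem_pow hx hx2 m
  have hinf : x ∈ (⨅ i : ℕ, aug k A ^ i • ⊤ : Submodule A A) := by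
    rw [Submodule.mem_iInf]
    intro i
    rw [smul_eq_mul, ← Ideal.one_eq_top, mul_one]
    exact hall i
  obtain ⟨r, hr⟩ := (Ideal.mem_iInf_smul_pow_eq_bot_iff (aug k A) x).1 hinf
  have h1 : x * ((r : A) - 1) = 0 := by
    rw [smul_eq_mul] at hr
    rw [mul_sub, mul_one, mul_comm, hr, sub_self]
  have h2 := prim_regular hx hx0 _ h1
  have h3 : (r : A) ∈ aug k A := r.2
  rw [RingHom.mem_ker, sub_eq_zero.1 h2, map_one] at h3
  exact one_ne_zero h3

end Groth.Agent.Helper7.LieDense
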