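import Mathlib
import Groth.Agent.Helper7.LD4
import Groth.Agent.Helper7.UF5

/-!
# Density of the enveloping algebra of the Lie algebra in the dual of a unipotent Hopf algebra
(characteristic zero)
-/

namespace Groth.Agent.Helper7.LieDense

open TensorProduct Groth.Agent.Helper7.Comodule Groth.Agent.Helper2.ComodGen
  Groth.Agent.Helper2.SocleFilt Groth.Agent.Helper7.UnipFilt

universe u

variable {k : Type u} [Field k] {A : Type u} [CommRing A] [HopfAlgebra k A]

/-- left translation operator `(φ ⊗ id) ∘ Δ` -/
noncomputable def Lop (φ : A →ₗ[k] k) : A →ₗ[k] A :=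
  sliceL φ ∘ₗ (CoalgebraStruct.comul (R := k) (A := A))

lemma apply_sliceL (φ f : A →ₗ[k] k) (t : A ⊗[k] A) :
    f (sliceL φ t) = LinearMap.mul' k k (TensorProduct.map φ f t) := by
  induction t using TensorProduct.induction_on with
  | zero => simp
  | tmul x y => simp [sliceL]
  | add x y hx hy => simp only [map_add, hx, hy]

lemma apply_Lop (φ f : A →ₗ[k] k) (a : A) : f (Lop φ a) = cv φ f a := apply_sliceL φ f _

lemma cv_counit_right (g : A →ₗ[k] k) : cv g (CoalgebraStruct.counit (R := k) (A := A)) = g := by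
  have h : Dual.of (CoalgebraStruct.counit (R := k) (A := A)) = (1 : Dual k A) := by
    rw [← Dual.of_fn (1 : Dual k A), Dual.fn_one]
  rw [cv_eq, h, mul_one, Dual.fn_of]

lemma counit_Lop (φ : A →ₗ[k] k) (a : A) :
    CoalgebraStruct.counit (R := k) (Lop φ a) = φ a := by
  rw [apply_Lop, cv_counit_right]

lemma RopV_Lop (g φ : A →ₗ[k] k) (a : A) :
    RopV (V := A) g (Lop φ a) = Lop φ (RopV (V := A) g a) := by
  rw [← sub_eq_zero, ← Module.forall_dual_apply_eq_zero_iff k]
  intro f
  rw [map_sub, sub_eq_zero]
  change f (RopV (V := A) g (Lop φ a)) = f (Lop φ (RopV (V := A) g a))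
  rw [← cv_apply_eq_RopV, apply_Lop, apply_Lop, ← cv_apply_eq_RopV, cv_assoc]

lemma RopV_one (g : A →ₗ[k] k) : RopV (V := A) g (1 : A) = g 1 • (1 : A) := by
  change (TensorProduct.rid k A) (g.lTensor A (CoalgebraStruct.comul (R := k) (1 : A))) = _
  rw [Bialgebra.comul_one, Algebra.TensorProduct.one_def]
  simp

lemma RopV_prim (g : A →ₗ[k] k) {x : A}
    (hx : Coalgebra.comul (R := k) x = x ⊗ₜ[k] (1 : A) + (1 : A) ⊗ₜ[k] x) :
    RopV (V := A) g x = g 1 • x + g x • (1 : A) := by
  change (TensorProduct.rid k A) (g.lTensor A (CoalgebraStruct.comul (R := k) x)) = _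
  rw [hx]
  simp

variable (k A) in
/-- the elements killed by all left-invariant vector fields -/
def Inv : Submodule k A where
  carrier := {x | ∀ ξ : LieHopf.Lie k A, RopV (V := A) (LieHopf.dlin ξ) x = 0}
  add_mem' := by
    intro a b ha hb ξ
    rw [map_add, ha ξ, hb ξ, add_zero]
  zero_mem' := by intro ξ; rw [map_zero]
  smul_mem' := by
    intro c a ha ξ
    rw [map_smul, ha ξ, smul_zero]

lemma mem_Inv {x : A} : x ∈ Inv k A ↔ ∀ ξ : LieHopf.Lie k A, RopV (V := A) (LieHopf.dlin ξ) x = 0 :=
  Iff.rfl

lemma one_mem_Inv : (1 : A) ∈ Inv k A := by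
  intro ξ
  rw [RopV_one, LieHopf.dlin_one, zero_smul]

lemma Lop_mem_Inv (φ : A →ₗ[k] k) {x : A} (hx : x ∈ Inv k A) : Lop φ x ∈ Inv k A := by
  intro ξ
  rw [RopV_Lop, hx ξ, map_zero]

lemma JP_le_J (n : ℕ) : JP k A (n + 1) ≤ J k A := by
  refine (JP_antitone (Nat.le_add_left 1 n)).trans ?_
  refine Submodule.span_le.2 ?_
  rintro _ ⟨f, _, g, hg, rfl⟩
  change cv f g 1 = 0
  rw [cv_apply_one, mem_J.1 hg, mul_zero]

lemma mem_JP_one {φ : A →ₗ[k] k} (h : φ ∈ J k A) : φ ∈ JP k A 1 := by
  refine Submodule.subset_span ⟨CoalgebraStruct.counit (R := k) (A := A), trivial, φ, h, ?_⟩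
  rw [cv_counit_left]

/-- elements of the filtration killed by all left-invariant vector fields are constant -/
theorem inv_P [CharZero k] [Algebra.FiniteType k A] :
    ∀ (n : ℕ) (x : A), x ∈ P k A n → x ∈ Inv k A →
      x = algebraMap k A (CoalgebraStruct.counit (R := k) x) := by
  intro n
  induction n with
  | zero =>
    intro x hx _
    rw [P_zero, Submodule.mem_bot] at hx
    rw [hx, map_zero, map_zero]
  | succ n ih =>
    intro x hx hxI
    rcases n with _ | n
    · rw [P_one] at hx
      obtain ⟨c, rfl⟩ := Submodule.mem_span_singleton.1 hx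
      rw [map_smul, Bialgebra.counit_one, smul_eq_mul, mul_one, Algebra.algebraMap_eq_smul_one]
    -- reduce to counit zero
    set x' : A := x - algebraMap k A (CoalgebraStruct.counit (R := k) x) with hx'
    have h1P : (1 : A) ∈ P k A (n + 1 + 1) := P_mono (by omega : 1 ≤ n + 1 + 1) one_mem_P_one
    have hx'P : x' ∈ P k A (n + 1 + 1) := by
      rw [hx', Algebra.algebraMap_eq_smul_one]
      exact sub_mem hx (Submodule.smul_mem _ _ h1P)
    have hx'I : x' ∈ Inv k A := by
      rw [hx', Algebra.algebraMap_eq_smul_one]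
      exact sub_mem hxI (Submodule.smul_mem _ _ one_mem_Inv)
    have hx'0 : CoalgebraStruct.counit (R := k) x' = 0 := by
      rw [hx', map_sub, Bialgebra.counit_algebraMap, sub_self]
    -- the slices of `Δx' - x'⊗1 - 1⊗x'` vanish
    have hz : ∀ φ : A →ₗ[k] k, Lop φ x' - φ x' • (1 : A) - φ 1 • x' = 0 := by
      intro φ
      set z := Lop φ x' - φ x' • (1 : A) - φ 1 • x' with hzdef
      have hzI : z ∈ Inv k A :=
        sub_mem (sub_mem (Lop_mem_Inv φ hx'I) (Submodule.smul_mem _ _ one_mem_Inv))
          (Submodule.smul_mem _ _ hx'I)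
      have hzP : z ∈ P k A (n + 1) := by
        change z ∈ perp (JP k A (n + 1))
        rw [mem_perp]
        intro f hf
        have hf1 : f 1 = 0 := mem_J.1 (JP_le_J n hf)
        rw [hzdef, map_sub, map_sub, map_smul, map_smul, hf1, smul_zero, sub_zero, apply_Lop]
        have hφ' : φ - φ 1 • CoalgebraStruct.counit (R := k) (A := A) ∈ J k A := by
          rw [mem_J, LinearMap.sub_apply, LinearMap.smul_apply, Bialgebra.counit_one, smul_eq_mul,
            mul_one, sub_self]
        have h2 := JP_cv 1 (n + 1) (mem_JP_one hφ') hf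
        have h3 : cv (φ - φ 1 • CoalgebraStruct.counit (R := k) (A := A)) f = cv φ f - φ 1 • f := by
          have e : φ - φ 1 • CoalgebraStruct.counit (R := k) (A := A) =
              φ + (-(φ 1)) • CoalgebraStruct.counit (R := k) (A := A) := by
            module
          rw [e, cv_add_left, cv_smul_left, cv_counit_left]
          module
        have h4 := mem_perp.1 hx'P _ (by rwa [add_comm] at h2)
        rw [h3, LinearMap.sub_apply, LinearMap.smul_apply] at h4
        exact h4
      have h5 := ih z hzP hzI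
      have hz0 : CoalgebraStruct.counit (R := k) z = 0 := by
        rw [hzdef, map_sub, map_sub, map_smul, map_smul, counit_Lop, Bialgebra.counit_one, hx'0,
          smul_eq_mul, mul_one, sub_self, smul_zero, sub_zero]
      rw [h5, hz0, map_zero]
    -- so `x'` is primitive
    have hprim : Coalgebra.comul (R := k) x' = x' ⊗ₜ[k] (1 : A) + (1 : A) ⊗ₜ[k] x' := by
      rw [← sub_eq_zero]
      apply eq_zero_of_sliceL
      intro φ
      have := hz φ
      simp only [map_sub, map_add, sliceL, LinearMap.comp_apply, LinearMap.rTensor_tmul,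
        LinearEquiv.coe_coe, TensorProduct.lid_tmul] at this ⊢
      rw [← this]
      simp only [Lop, sliceL, LinearMap.comp_apply, LinearEquiv.coe_coe]
      abel
    -- and killed by the Lie algebra
    have hL : ∀ ξ : LieHopf.Lie k A, LieHopf.dlin ξ x' = 0 := by
      intro ξ
      have h6 := hx'I ξ
      rw [RopV_prim _ hprim, LieHopf.dlin_one, zero_smul, zero_add] at h6
      have h7 := congrArg (CoalgebraStruct.counit (R := k) (A := A)) h6
      rw [map_smul, Bialgebra.counit_one, smul_eq_mul, mul_one, map_zero] at h7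
      exact h7
    have h8 := prim_eq_zero_of_lie hprim hL
    exact sub_eq_zero.1 h8

/-- iterated convolution products of ε-derivations -/
inductive InU : (A →ₗ[k] k) → Prop
  | counit : InU (CoalgebraStruct.counit (R := k) (A := A))
  | step (f : A →ₗ[k] k) (ξ : LieHopf.Lie k A) : InU f → InU (cv f (LieHopf.dlin ξ))

theorem dense_P [CharZero k] [Algebra.FiniteType k A] :
    ∀ (n : ℕ) (x : A), x ∈ P k A n → (∀ f : A →ₗ[k] k, InU f → f x = 0) → x = 0 := by
  intro n
  induction n with
  | zero =>
    intro x hx _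
    rwa [P_zero, Submodule.mem_bot] at hx
  | succ n ih =>
    intro x hx hK
    have hI : x ∈ Inv k A := by
      intro ξ
      apply ih
      · change _ ∈ perp (JP k A n)
        rw [mem_perp]
        intro f hf
        rw [← cv_apply_eq_RopV]
        exact mem_perp.1 hx _ (Submodule.subset_span ⟨f, hf, LieHopf.dlin ξ, LieHopf.dlin_one ξ, rfl⟩)
      · intro f hf
        rw [← cv_apply_eq_RopV]
        exact hK _ (InU.step f ξ hf)
    rw [inv_P (n + 1) x hx hI, hK _ InU.counit, map_zero]

/-- **Density**: over a field of characteristic zero, an element of a finitely generated unipotent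
Hopf algebra killed by all iterated products of ε-derivations (and by the counit) vanishes. -/
theorem dense [CharZero k] [Algebra.FiniteType k A] (hU : HopfRep.IsUnipotent k A) (x : A)
    (hK : ∀ f : A →ₗ[k] k, InU f → f x = 0) : x = 0 := by
  obtain ⟨r, hr⟩ := exists_mem_Z_of_isUnipotent hU x
  exact dense_P r x (Z_le_P r hr) hK

/-- over a field of characteristic zero, a function on a finitely generated unipotent group killed
by all left-invariant vector fields is constant -/
theorem inv_const [CharZero k] [Algebra.FiniteType k A] (hU : HopfRep.IsUnipotent k A) (x : A)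
    (hI : x ∈ Inv k A) : x = algebraMap k A (CoalgebraStruct.counit (R := k) x) := by
  obtain ⟨r, hr⟩ := exists_mem_Z_of_isUnipotent hU x
  exact inv_P r x (Z_le_P r hr) hI

end Groth.Agent.Helper7.LieDense
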