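import Mathlib
import Groth.Agent.Helper7.LD5
import Groth.Prelude.Def_GLin

/-!
# Actions of unipotent groups in characteristic zero are determined by the infinitesimal action
-/

namespace Groth.Agent.Helper7.LieDense

open TensorProduct Groth.Agent.Helper7.Comodule Groth.Agent.Helper2.ComodGen
  Groth.Agent.Helper2.SocleFilt Groth.Agent.Helper7.UnipFilt

universe u v

variable {k : Type u} [Field k] {A : Type u} [CommRing A] [HopfAlgebra k A]
variable {V : Type v} [AddCommGroup V] [Module k V] [HopfRep.Comod k A V]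

/-- matrix coefficients: `h ((φ ⊗ id) t) = φ ((id ⊗ h) t)` -/
lemma apply_sliceL_eq (φ : V →ₗ[k] k) (h : A →ₗ[k] k) (t : V ⊗[k] A) :
    h (sliceL φ t) = φ (sliceR h t) := by
  induction t using TensorProduct.induction_on with
  | zero => simp
  | tmul x y => simp [sliceL, sliceR, mul_comm]
  | add x y hx hy => simp only [map_add, hx, hy]

lemma RopV_eq_sliceR (g : A →ₗ[k] k) (v : V) :
    RopV (V := V) g v = sliceR g (HopfRep.Comod.coact (k := k) (A := A) v) := rfl

/-- the infinitesimal action of `ξ` -/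
lemma lTensor_dlin_eq_zero_iff (ξ : LieHopf.Lie k A) (v : V) :
    LinearMap.lTensor V (ξ.toLinearMap.restrictScalars k) (HopfRep.Comod.coact (k := k) (A := A) v) = 0 ↔
      RopV (V := V) (LieHopf.dlin ξ) v = 0 := by
  change LinearMap.lTensor V (LieHopf.dlin ξ) (HopfRep.Comod.coact (k := k) (A := A) v) = 0 ↔
    (TensorProduct.rid k V) (LinearMap.lTensor V (LieHopf.dlin ξ)
      (HopfRep.Comod.coact (k := k) (A := A) v)) = 0
  rw [LinearEquiv.map_eq_zero_iff]

/-- the matrix coefficients of a vector killed by the Lie algebra are killed by the left-invariant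
vector fields -/
lemma sliceL_mem_Inv (φ : V →ₗ[k] k) (v : V)
    (hv : ∀ ξ : LieHopf.Lie k A, RopV (V := V) (LieHopf.dlin ξ) v = 0) :
    sliceL φ (HopfRep.Comod.coact (k := k) (A := A) v) ∈ Inv k A := by
  intro ξ
  rw [← Module.forall_dual_apply_eq_zero_iff k]
  intro f
  change f (RopV (V := A) (LieHopf.dlin ξ) _) = 0
  rw [← cv_apply_eq_RopV, apply_sliceL_eq, ← RopV_eq_sliceR, ← RopV_RopV, hv ξ, map_zero, map_zero]

theorem fixed_of_lie [CharZero k] [Algebra.FiniteType k A] (hU : HopfRep.IsUnipotent k A) (v : V)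
    (hv : ∀ ξ : LieHopf.Lie k A, RopV (V := V) (LieHopf.dlin ξ) v = 0) :
    HopfRep.Comod.coact (k := k) (A := A) v = v ⊗ₜ[k] (1 : A) := by
  rw [← sub_eq_zero]
  apply eq_zero_of_sliceL
  intro φ
  have h1 := inv_const hU _ (sliceL_mem_Inv φ v hv)
  have h2 : CoalgebraStruct.counit (R := k) (sliceL φ (HopfRep.Comod.coact (k := k) (A := A) v)) =
      φ v := by
    rw [apply_sliceL_eq, ← RopV_eq_sliceR, RopV_counit]
  rw [map_sub, h1, h2]
  simp [sliceL, Algebra.algebraMap_eq_smul_one]

/-- the operators `RopV u`, `u` a product of ε-derivations, preserve a Lie-stable subspace -/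
lemma RopV_mem_of_lie_stable (W : Submodule k V)
    (hW : ∀ (ξ : LieHopf.Lie k A), ∀ v ∈ W, RopV (V := V) (LieHopf.dlin ξ) v ∈ W)
    (u : A →ₗ[k] k) (hu : InU u) : ∀ v ∈ W, RopV (V := V) u v ∈ W := by
  induction hu with
  | counit =>
    intro v hv
    rw [RopV_counit]
    exact hv
  | step f ξ _ ih =>
    intro v hv
    rw [← RopV_RopV]
    exact ih _ (hW ξ v hv)

theorem isSubcomod_of_lie_stable [CharZero k] [Algebra.FiniteType k A]
    (hU : HopfRep.IsUnipotent k A) (W : Submodule k V)
    (hW : ∀ (ξ : LieHopf.Lie k A), ∀ v ∈ W, RopV (V := V) (LieHopf.dlin ξ) v ∈ W) :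
    HopfRep.IsSubcomod (k := k) (A := A) W := by
  intro v hv
  apply mem_range_rTensor_of_sliceR
  intro g
  by_contra hnot
  obtain ⟨φ, hφ, hφW⟩ := Submodule.exists_le_ker_of_notMem hnot
  apply hφ
  rw [← apply_sliceL_eq]
  have hc : sliceL φ (HopfRep.Comod.coact (k := k) (A := A) v) = 0 := by
    apply dense hU
    intro u hu
    rw [apply_sliceL_eq, ← RopV_eq_sliceR]
    exact hφW (RopV_mem_of_lie_stable W hW u hu v hv)
  rw [hc, map_zero]

variable {V' : Type v} [AddCommGroup V'] [Module k V'] [HopfRep.Comod k A V']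

lemma RopV_intertwine (e : V →ₗ[k] V')
    (he : ∀ (ξ : LieHopf.Lie k A) (v : V),
      RopV (V := V') (LieHopf.dlin ξ) (e v) = e (RopV (V := V) (LieHopf.dlin ξ) v))
    (u : A →ₗ[k] k) (hu : InU u) : ∀ v : V, RopV (V := V') u (e v) = e (RopV (V := V) u v) := by
  induction hu with
  | counit =>
    intro v
    rw [RopV_counit, RopV_counit]
  | step f ξ _ ih =>
    intro v
    rw [← RopV_RopV, ← RopV_RopV, he, ih]

theorem coact_intertwine_of_lie [CharZero k] [Algebra.FiniteType k A]
    (hU : HopfRep.IsUnipotent k A) (e : V →ₗ[k] V')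
    (he : ∀ (ξ : LieHopf.Lie k A) (v : V),
      RopV (V := V') (LieHopf.dlin ξ) (e v) = e (RopV (V := V) (LieHopf.dlin ξ) v)) (v : V) :
    HopfRep.Comod.coact (k := k) (A := A) (e v) =
      LinearMap.rTensor A e (HopfRep.Comod.coact (k := k) (A := A) v) := by
  rw [← sub_eq_zero]
  apply eq_zero_of_sliceL
  intro φ
  apply dense hU
  intro u hu
  rw [apply_sliceL_eq, map_sub, sliceR_rTensor, ← RopV_eq_sliceR, ← RopV_eq_sliceR,
    RopV_intertwine e he u hu, sub_self, map_zero]

lemma rid_rTensor (e : V →ₗ[k] V') (s : V ⊗[k] k) :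
    (TensorProduct.rid k V') (LinearMap.rTensor k e s) = e ((TensorProduct.rid k V) s) := by
  induction s using TensorProduct.induction_on with
  | zero => simp
  | tmul x y => simp
  | add x y hx hy => simp only [map_add, hx, hy]

/-- frozen form of S18987 -/
theorem s18987 [CharZero k] [Algebra.FiniteType k A] (hU : HopfRep.IsUnipotent k A) (f : V) :
    HopfRep.Comod.coact (k := k) (A := A) f = f ⊗ₜ[k] (1 : A) ↔
      ∀ ξ : LieHopf.Lie k A,
        LinearMap.lTensor V (ξ.toLinearMap.restrictScalars k)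
          (HopfRep.Comod.coact (k := k) (A := A) f) = 0 := by
  constructor
  · intro h ξ
    rw [h, LinearMap.lTensor_tmul]
    have : (ξ.toLinearMap.restrictScalars k) (1 : A) = 0 := ξ.map_one_eq_zero
    rw [this, TensorProduct.tmul_zero]
  · intro h
    exact fixed_of_lie hU f (fun ξ => (lTensor_dlin_eq_zero_iff ξ f).1 (h ξ))

/-- frozen form of S18988 -/
theorem s18988 [CharZero k] [Algebra.FiniteType k A] (hU : HopfRep.IsUnipotent k A)
    (W : Submodule k V) :
    HopfRep.IsSubcomod (k := k) (A := A) W ↔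
      ∀ (ξ : LieHopf.Lie k A) (v : V), v ∈ W →
        LinearMap.lTensor V (ξ.toLinearMap.restrictScalars k)
          (HopfRep.Comod.coact (k := k) (A := A) v) ∈
          LinearMap.range (LinearMap.rTensor (LieHopf.K k A) W.subtype) := by
  constructor
  · intro hW ξ v hv
    obtain ⟨t, ht⟩ := hW v hv
    rw [← ht]
    refine ⟨LinearMap.lTensor W (ξ.toLinearMap.restrictScalars k) t, ?_⟩
    rw [← LinearMap.comp_apply, ← LinearMap.comp_apply, LinearMap.rTensor_comp_lTensor,
      LinearMap.lTensor_comp_rTensor]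
  · intro h
    apply isSubcomod_of_lie_stable hU W
    intro ξ v hv
    obtain ⟨s, hs⟩ := h ξ v hv
    have hs' : LinearMap.rTensor k W.subtype s =
        LinearMap.lTensor V (LieHopf.dlin ξ) (HopfRep.Comod.coact (k := k) (A := A) v) := hs
    change (TensorProduct.rid k V) (LinearMap.lTensor V (LieHopf.dlin ξ)
      (HopfRep.Comod.coact (k := k) (A := A) v)) ∈ W
    rw [← hs', rid_rTensor]
    exact Submodule.coe_mem _

/-- frozen form of S18989 -/
theorem s18989 [CharZero k] [Algebra.FiniteType k A] (hU : HopfRep.IsUnipotent k A)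
    (e : V →ₗ[k] V')
    (h : ∀ (ξ : LieHopf.Lie k A) (f : V),
      LinearMap.lTensor V' (ξ.toLinearMap.restrictScalars k)
          (HopfRep.Comod.coact (k := k) (A := A) (e f)) =
        LinearMap.rTensor (LieHopf.K k A) e
          (LinearMap.lTensor V (ξ.toLinearMap.restrictScalars k)
            (HopfRep.Comod.coact (k := k) (A := A) f))) (f : V) :
    HopfRep.Comod.coact (k := k) (A := A) (e f) =
      LinearMap.rTensor A e (HopfRep.Comod.coact (k := k) (A := A) f) := by
  apply coact_intertwine_of_lie hU e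
  intro ξ v
  have h1 : LinearMap.lTensor V' (LieHopf.dlin ξ) (HopfRep.Comod.coact (k := k) (A := A) (e v)) =
      LinearMap.rTensor k e (LinearMap.lTensor V (LieHopf.dlin ξ)
        (HopfRep.Comod.coact (k := k) (A := A) v)) := h ξ v
  change (TensorProduct.rid k V') (LinearMap.lTensor V' (LieHopf.dlin ξ)
      (HopfRep.Comod.coact (k := k) (A := A) (e v))) =
    e ((TensorProduct.rid k V) (LinearMap.lTensor V (LieHopf.dlin ξ)
      (HopfRep.Comod.coact (k := k) (A := A) v)))
  rw [h1, rid_rTensor]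

end Groth.Agent.Helper7.LieDense
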