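import Mathlib

set_option autoImplicit false
universe u v

namespace Groth.Agent.Helper7.LFa

open TensorProduct

variable {A : Type u} [CommRing A] (p : Ideal A) [p.IsPrime]

/-- natural isomorphism `κ ⊗_{A_p} (A_p ⊗_A X) ≃ κ ⊗_A X` -/
noncomputable abbrev cb (X : Type v) [AddCommGroup X] [Module A X] :
    p.ResidueField ⊗[Localization.AtPrime p] (Localization.AtPrime p ⊗[A] X) ≃ₗ[Localization.AtPrime p]
      p.ResidueField ⊗[A] X :=
  AlgebraTensorModule.cancelBaseChange A (Localization.AtPrime p) (Localization.AtPrime p)
    p.ResidueField X

theorem cb_nat {X Y : Type v} [AddCommGroup X] [Module A X] [AddCommGroup Y] [Module A Y]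
    (f : X →ₗ[A] Y)
    (z : p.ResidueField ⊗[Localization.AtPrime p] (Localization.AtPrime p ⊗[A] X)) :
    cb p Y (LinearMap.lTensor p.ResidueField (f.baseChange (Localization.AtPrime p)) z) =
      LinearMap.lTensor p.ResidueField f (cb p X z) := by
  induction z using TensorProduct.induction_on with
  | zero => simp
  | add x y hx hy => simp only [map_add, hx, hy]
  | tmul c w =>
    induction w using TensorProduct.induction_on with
    | zero => simp
    | add x y hx hy => simp only [tmul_add, map_add, hx, hy]
    | tmul r x =>
      simp

theorem injective_iff {X Y : Type v} [AddCommGroup X] [Module A X] [AddCommGroup Y] [Module A Y]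
    (f : X →ₗ[A] Y) :
    Function.Injective (LinearMap.lTensor p.ResidueField (f.baseChange (Localization.AtPrime p))) ↔
      Function.Injective (LinearMap.lTensor p.ResidueField f) := by
  constructor
  · intro h a b hab
    apply (cb p X).symm.injective
    apply h
    apply (cb p Y).injective
    rw [cb_nat, cb_nat, LinearEquiv.apply_symm_apply, LinearEquiv.apply_symm_apply, hab]
  · intro h a b hab
    apply (cb p X).injective
    apply h
    rw [← cb_nat, ← cb_nat, hab]

end Groth.Agent.Helper7.LFa
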