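import Mathlib
import Groth.Agent.Helper7.LFa

set_option autoImplicit false
universe u v

namespace Groth.Agent.Helper7.LFb

open TensorProduct Groth.Agent.Helper7

variable {A : Type u} [CommRing A] (p : Ideal A) [p.IsPrime]

section general

variable {X Y Z : Type v} [AddCommGroup X] [Module A X] [AddCommGroup Y] [Module A Y]
  [AddCommGroup Z] [Module A Z]

/-- base change of a short exact sequence to the localization -/
theorem bc_exact (f : X →ₗ[A] Y) (g : Y →ₗ[A] Z) (h : Function.Exact f g) :
    Function.Exact (f.baseChange (Localization.AtPrime p)) (g.baseChange (Localization.AtPrime p)) := by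
  have := Module.Flat.lTensor_exact (Localization.AtPrime p) h
  intro y
  have h2 := this y
  simpa only [LinearMap.baseChange_eq_ltensor] using h2

theorem bc_injective (f : X →ₗ[A] Y) (h : Function.Injective f) :
    Function.Injective (f.baseChange (Localization.AtPrime p)) := by
  have := Module.Flat.lTensor_preserves_injective_linearMap (M := Localization.AtPrime p) f h
  rw [LinearMap.baseChange_eq_ltensor]
  exact this

theorem bc_surjective (f : X →ₗ[A] Y) (h : Function.Surjective f) :
    Function.Surjective (f.baseChange (Localization.AtPrime p)) := by
  rw [LinearMap.baseChange_eq_ltensor]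
  exact LinearMap.lTensor_surjective _ h

/-- a split injection stays injective after tensoring with the residue field -/
theorem injective_of_retraction (f : X →ₗ[A] Y)
    (r : (Localization.AtPrime p ⊗[A] Y) →ₗ[Localization.AtPrime p] (Localization.AtPrime p ⊗[A] X))
    (hr : r ∘ₗ f.baseChange (Localization.AtPrime p) = LinearMap.id) :
    Function.Injective (LinearMap.lTensor p.ResidueField f) := by
  rw [← LFa.injective_iff]
  have h1 : (LinearMap.lTensor p.ResidueField r) ∘ₗ
      (LinearMap.lTensor p.ResidueField (f.baseChange (Localization.AtPrime p))) = LinearMap.id := by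
    rw [← LinearMap.lTensor_comp, hr, LinearMap.lTensor_id]
  exact Function.HasLeftInverse.injective ⟨_, LinearMap.congr_fun h1⟩

/-- if the cokernel of a short exact sequence is projective after localization then there is a
retraction -/
theorem exists_retraction (f : X →ₗ[A] Y) (g : Y →ₗ[A] Z) (h : Function.Exact f g)
    (hf : Function.Injective f) (hg : Function.Surjective g)
    [Module.Projective (Localization.AtPrime p) (Localization.AtPrime p ⊗[A] Z)] :
    ∃ r : (Localization.AtPrime p ⊗[A] Y) →ₗ[Localization.AtPrime p] (Localization.AtPrime p ⊗[A] X),
      r ∘ₗ f.baseChange (Localization.AtPrime p) = LinearMap.id := by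
  have h1 := bc_exact p f g h
  have h2 := bc_injective p f hf
  have h3 := bc_surjective p g hg
  obtain ⟨l, hl⟩ := Module.projective_lifting_property (g.baseChange (Localization.AtPrime p))
    LinearMap.id h3
  have h4 : (∃ l, g.baseChange (Localization.AtPrime p) ∘ₗ l = LinearMap.id) ↔
      ∃ l, l ∘ₗ f.baseChange (Localization.AtPrime p) = LinearMap.id :=
    (Function.Exact.split_tfae h1 h2 h3).out 0 1
  exact h4.mp ⟨l, hl⟩

end general

variable {F : Type v} [AddCommGroup F] [Module A F] [Module.Finite A F] [Module.Free A F]

/-- T1 -/
theorem free_of_injective (I : Submodule A F) [Module.Finite A I]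
    (h : Function.Injective (LinearMap.lTensor p.ResidueField I.subtype)) :
    Module.Free (Localization.AtPrime p) (Localization.AtPrime p ⊗[A] (F ⧸ I)) := by
  rw [← LFa.injective_iff] at h
  exact Module.free_of_lTensor_residueField_injective
    (I.subtype.baseChange (Localization.AtPrime p)) (I.mkQ.baseChange (Localization.AtPrime p))
    (bc_surjective p _ (Submodule.mkQ_surjective I))
    (bc_exact p _ _ (LinearMap.exact_subtype_mkQ I)) h

omit [Module.Finite A F] in
/-- T2/T3 -/
theorem of_free (I : Submodule A F) [Module.Finite A I]
    [Module.Free (Localization.AtPrime p) (Localization.AtPrime p ⊗[A] (F ⧸ I))] :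
    Function.Injective (LinearMap.lTensor p.ResidueField I.subtype) ∧
      Module.Free (Localization.AtPrime p) (Localization.AtPrime p ⊗[A] I) := by
  obtain ⟨r, hr⟩ := exists_retraction p I.subtype I.mkQ (LinearMap.exact_subtype_mkQ I)
    Subtype.val_injective (Submodule.mkQ_surjective I)
  refine ⟨injective_of_retraction p _ r hr, ?_⟩
  have : Module.Projective (Localization.AtPrime p) (Localization.AtPrime p ⊗[A] I) :=
    Module.Projective.of_split _ r hr
  exact Module.free_of_flat_of_isLocalRing

/-- the localized module is free iff the base change is -/
theorem free_localizedModule_iff (X : Type v) [AddCommGroup X] [Module A X] :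
    Module.Free (Localization.AtPrime p) (LocalizedModule p.primeCompl X) ↔
      Module.Free (Localization.AtPrime p) (Localization.AtPrime p ⊗[A] X) := by
  have e : (Localization.AtPrime p ⊗[A] X) ≃ₗ[Localization.AtPrime p] LocalizedModule p.primeCompl X :=
    (LocalizedModule.isBaseChange p.primeCompl X).equiv
  constructor
  · intro h
    exact Module.Free.of_equiv e.symm
  · intro h
    exact Module.Free.of_equiv e

end Groth.Agent.Helper7.LFb
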