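import Mathlib
import Groth.Agent.Helper7.LFb

set_option autoImplicit false
universe u v

namespace Groth.Agent.Helper7.LFc

open TensorProduct Groth.Agent.Helper7

variable {A : Type u} [CommRing A] (p : Ideal A) [p.IsPrime]
variable {M : Type v} {F : Type v} [AddCommGroup M] [Module A M]
    [AddCommGroup F] [Module A F] (δ : M →ₗ[A] F)

theorem exact_ker_rangeRestrict :
    Function.Exact (LinearMap.ker δ).subtype δ.rangeRestrict := by
  intro x
  constructor
  · intro hx
    have : δ x = 0 := by
      have := congrArg Subtype.val hx
      simpa using this
    exact ⟨⟨x, this⟩, rfl⟩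
  · rintro ⟨y, rfl⟩
    apply Subtype.ext
    simp

theorem lTensor_eq_comp :
    LinearMap.lTensor p.ResidueField δ =
      LinearMap.lTensor p.ResidueField (LinearMap.range δ).subtype ∘ₗ
        LinearMap.lTensor p.ResidueField δ.rangeRestrict := by
  rw [← LinearMap.lTensor_comp]
  congr 1

theorem exact_iff_injective :
    Function.Exact (LinearMap.lTensor p.ResidueField (LinearMap.ker δ).subtype)
        (LinearMap.lTensor p.ResidueField δ) ↔
      Function.Injective (LinearMap.lTensor p.ResidueField (LinearMap.range δ).subtype) := by
  have h1 : Function.Exact (LinearMap.lTensor p.ResidueField (LinearMap.ker δ).subtype)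
      (LinearMap.lTensor p.ResidueField δ.rangeRestrict) :=
    lTensor_exact _ (exact_ker_rangeRestrict δ) δ.surjective_rangeRestrict
  have h2 : Function.Surjective (LinearMap.lTensor p.ResidueField δ.rangeRestrict) :=
    LinearMap.lTensor_surjective _ δ.surjective_rangeRestrict
  constructor
  · intro h
    rw [injective_iff_map_eq_zero]
    intro z hz
    obtain ⟨y, rfl⟩ := h2 z
    have h3 : LinearMap.lTensor p.ResidueField δ y = 0 := by
      rw [lTensor_eq_comp, LinearMap.comp_apply, hz]
    exact (h1 y).mpr ((h y).mp h3)
  · intro h y
    rw [← h1 y, lTensor_eq_comp, LinearMap.comp_apply]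
    constructor
    · intro h3
      exact h (by rw [h3, map_zero])
    · intro h3
      rw [h3, map_zero]

variable [Module.Finite A M] [Module.Finite A F] [Module.Free A F]

omit [Module.Finite A F] in
theorem injective_ker_of_free
    [Module.Free (Localization.AtPrime p) (Localization.AtPrime p ⊗[A] (F ⧸ LinearMap.range δ))] :
    Function.Injective (LinearMap.lTensor p.ResidueField (LinearMap.ker δ).subtype) := by
  have h1 := (LFb.of_free p (LinearMap.range δ)).2
  obtain ⟨r, hr⟩ := LFb.exists_retraction p (LinearMap.ker δ).subtype δ.rangeRestrict
    (exact_ker_rangeRestrict δ) Subtype.val_injective δ.surjective_rangeRestrict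
  exact LFb.injective_of_retraction p _ r hr

theorem main :
    [ Function.Exact (LinearMap.lTensor p.ResidueField (LinearMap.ker δ).subtype)
        (LinearMap.lTensor p.ResidueField δ),
      Function.Exact (LinearMap.lTensor p.ResidueField (LinearMap.ker δ).subtype)
        (LinearMap.lTensor p.ResidueField δ) ∧
        Function.Injective (LinearMap.lTensor p.ResidueField (LinearMap.ker δ).subtype),
      Module.Free (Localization.AtPrime p)
        (LocalizedModule p.primeCompl (F ⧸ LinearMap.range δ)) ].TFAE ∧
    (Function.Exact (LinearMap.lTensor p.ResidueField (LinearMap.ker δ).subtype)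
        (LinearMap.lTensor p.ResidueField δ) →
      Module.Free (Localization.AtPrime p)
        (LocalizedModule p.primeCompl (LinearMap.range δ))) := by
  have h13 : Function.Exact (LinearMap.lTensor p.ResidueField (LinearMap.ker δ).subtype)
        (LinearMap.lTensor p.ResidueField δ) →
      Module.Free (Localization.AtPrime p)
        (Localization.AtPrime p ⊗[A] (F ⧸ LinearMap.range δ)) := by
    intro h
    exact LFb.free_of_injective p _ ((exact_iff_injective p δ).mp h)
  constructor
  · tfae_have 1 → 3 := by
      intro h
      rw [LFb.free_localizedModule_iff]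
      exact h13 h
    tfae_have 3 → 2 := by
      intro h
      rw [LFb.free_localizedModule_iff] at h
      exact ⟨(exact_iff_injective p δ).mpr (LFb.of_free p (LinearMap.range δ)).1,
        injective_ker_of_free p δ⟩
    tfae_have 2 → 1 := fun h => h.1
    tfae_finish
  · intro h
    have := h13 h
    rw [LFb.free_localizedModule_iff]
    exact (LFb.of_free p (LinearMap.range δ)).2

end Groth.Agent.Helper7.LFc
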