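import Mathlib
import Groth.Agent.Helper7.LFb

set_option autoImplicit false
universe u v

namespace Groth.Agent.Helper7.LFd

open TensorProduct Groth.Agent.Helper7

variable {A : Type u} [CommRing A]

section prime

variable (p : Ideal A) [p.IsPrime]
variable {X₀ X₁ X₂ : Type v} [AddCommGroup X₀] [Module A X₀] [AddCommGroup X₁] [Module A X₁]
  [AddCommGroup X₂] [Module A X₂]

theorem exact_rangeRestrict (e : X₀ →ₗ[A] X₁) (f : X₁ →ₗ[A] X₂) (hef : Function.Exact e f) :
    Function.Exact e f.rangeRestrict := by
  intro x
  rw [← hef x]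
  constructor
  · intro hx
    have := congrArg Subtype.val hx
    simpa using this
  · intro hx
    apply Subtype.ext
    simpa using hx

theorem injective_of_exact (e : X₀ →ₗ[A] X₁) (f : X₁ →ₗ[A] X₂) (hef : Function.Exact e f)
    (h : Function.Exact (LinearMap.lTensor p.ResidueField e) (LinearMap.lTensor p.ResidueField f)) :
    Function.Injective (LinearMap.lTensor p.ResidueField (LinearMap.range f).subtype) := by
  have h1 : Function.Exact (LinearMap.lTensor p.ResidueField e)
      (LinearMap.lTensor p.ResidueField f.rangeRestrict) :=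
    lTensor_exact _ (exact_rangeRestrict e f hef) f.surjective_rangeRestrict
  have h2 : Function.Surjective (LinearMap.lTensor p.ResidueField f.rangeRestrict) :=
    LinearMap.lTensor_surjective _ f.surjective_rangeRestrict
  have h0 : LinearMap.lTensor p.ResidueField f =
      LinearMap.lTensor p.ResidueField (LinearMap.range f).subtype ∘ₗ
        LinearMap.lTensor p.ResidueField f.rangeRestrict := by
    rw [← LinearMap.lTensor_comp]
    congr 1
  rw [injective_iff_map_eq_zero]
  intro z hz
  obtain ⟨y, rfl⟩ := h2 z
  have h3 : LinearMap.lTensor p.ResidueField f y = 0 := by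
    rw [h0, LinearMap.comp_apply, hz]
  exact (h1 y).mpr ((h y).mp h3)

/-- T1 for projective `F` -/
theorem free_of_injective {F : Type v} [AddCommGroup F] [Module A F] [Module.Finite A F]
    [Module.Projective A F] (I : Submodule A F) [Module.Finite A I]
    (h : Function.Injective (LinearMap.lTensor p.ResidueField I.subtype)) :
    Module.Free (Localization.AtPrime p) (Localization.AtPrime p ⊗[A] (F ⧸ I)) := by
  rw [← LFa.injective_iff] at h
  have : Module.Free (Localization.AtPrime p) (Localization.AtPrime p ⊗[A] F) :=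
    Module.free_of_flat_of_isLocalRing
  exact Module.free_of_lTensor_residueField_injective
    (I.subtype.baseChange (Localization.AtPrime p)) (I.mkQ.baseChange (Localization.AtPrime p))
    (LFb.bc_surjective p _ (Submodule.mkQ_surjective I))
    (LFb.bc_exact p _ _ (LinearMap.exact_subtype_mkQ I)) h

end prime

section maximal

variable (m : Ideal A) [m.IsMaximal]

/-- `A ⧸ m ≃ κ(m)` -/
noncomputable def q : (A ⧸ m) ≃ₗ[A] m.ResidueField :=
  LinearEquiv.ofBijective ((Algebra.linearMap (A ⧸ m) m.ResidueField).restrictScalars A)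
    m.bijective_algebraMap_quotient_residueField

noncomputable def E (X : Type v) [AddCommGroup X] [Module A X] :
    X ⊗[A] (A ⧸ m) ≃ₗ[A] m.ResidueField ⊗[A] X :=
  (TensorProduct.comm A X (A ⧸ m)) ≪≫ₗ (TensorProduct.congr (q m) (LinearEquiv.refl A X))

theorem E_nat {X Y : Type v} [AddCommGroup X] [Module A X] [AddCommGroup Y] [Module A Y]
    (g : X →ₗ[A] Y) :
    (LinearMap.lTensor m.ResidueField g) ∘ₗ (E m X).toLinearMap =
      (E m Y).toLinearMap ∘ₗ (LinearMap.rTensor (A ⧸ m) g) := by
  apply TensorProduct.ext'
  intro x c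
  simp [E]

theorem exact_residueField {X₀ X₁ X₂ : Type v} [AddCommGroup X₀] [Module A X₀] [AddCommGroup X₁]
    [Module A X₁] [AddCommGroup X₂] [Module A X₂] (e : X₀ →ₗ[A] X₁) (f : X₁ →ₗ[A] X₂)
    (h : Function.Exact (e.rTensor (A ⧸ m)) (f.rTensor (A ⧸ m))) :
    Function.Exact (LinearMap.lTensor m.ResidueField e) (LinearMap.lTensor m.ResidueField f) :=
  Function.Exact.of_ladder_linearEquiv_of_exact (e₁ := E m X₀) (e₂ := E m X₁) (e₃ := E m X₂)
    (E_nat m e) (E_nat m f) h

end maximal

theorem projective_quotient [IsNoetherianRing A]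
    {X₀ X₁ X₂ : Type v} [AddCommGroup X₀] [Module A X₀] [AddCommGroup X₁] [Module A X₁]
    [AddCommGroup X₂] [Module A X₂] [Module.Finite A X₁] [Module.Finite A X₂]
    [Module.Projective A X₂]
    (e : X₀ →ₗ[A] X₁) (f : X₁ →ₗ[A] X₂) (hef : Function.Exact e f)
    (h : ∀ (m : Ideal A) [m.IsMaximal], Function.Exact (e.rTensor (A ⧸ m)) (f.rTensor (A ⧸ m))) :
    Module.Projective A (X₂ ⧸ LinearMap.range f) := by
  have : Module.FinitePresentation A (X₂ ⧸ LinearMap.range f) :=
    Module.finitePresentation_of_finite A _
  apply Module.projective_of_localization_maximal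
  intro m hm
  have h1 := exact_residueField m e f (h m)
  have h2 := injective_of_exact m e f hef h1
  have h3 := free_of_injective m (LinearMap.range f) h2
  rw [← LFb.free_localizedModule_iff] at h3
  exact Module.Projective.of_free

end Groth.Agent.Helper7.LFd
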