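import Mathlib
import Groth.Prelude.Def_ega3
import Groth.Agent.Helper7.LFd

set_option autoImplicit false
universe u

namespace Groth.Agent.Helper7.LFe

open CategoryTheory CategoryTheory.Limits Groth.Agent.Helper7

theorem exact_of_isZero {A : Type u} [CommRing A] (K : CochainComplex (ModuleCat.{u} A) ℤ) (d : ℤ)
    (h : IsZero (K.homology (d - 1))) :
    Function.Exact (K.d (d - 1 - 1) (d - 1)).hom (K.d (d - 1) d).hom := by
  rw [← HomologicalComplex.exactAt_iff_isZero_homology,
    HomologicalComplex.exactAt_iff' K (d - 1 - 1) (d - 1) d (by simp) (by simp),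
    ShortComplex.ShortExact.moduleCat_exact_iff_function_exact] at h
  exact h

theorem main (A : Type u) [CommRing A] [IsNoetherianRing A]
    (Q : CochainComplex (ModuleCat.{u} A) ℤ)
    (hQ : ∀ i, Module.Finite A (Q.X i) ∧ Module.Projective A (Q.X i)) (d : ℤ)
    (h1 : ∀ p < d, IsZero (Q.homology p))
    (h2 : ∀ (m : Ideal A) [m.IsMaximal], ∀ p < d,
      IsZero ((CohIII.tensorObj Q (ModuleCat.of A (A ⧸ m))).homology p)) :
    Module.Projective A (Q.opcycles d) := by
  have hc := Q.opcyclesIsCokernel (d - 1) d (by simp)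
  let iso := IsColimit.coconePointUniqueUpToIso hc (ModuleCat.cokernelIsColimit (Q.d (d - 1) d))
  have hfin1 := (hQ (d - 1)).1
  have hfin2 := (hQ d).1
  have hproj2 := (hQ d).2
  have hp : Module.Projective A (Q.X d ⧸ LinearMap.range (Q.d (d - 1) d).hom) := by
    apply LFd.projective_quotient (Q.d (d - 1 - 1) (d - 1)).hom (Q.d (d - 1) d).hom
    · exact exact_of_isZero Q d (h1 (d - 1) (by omega))
    · intro m hm
      exact exact_of_isZero (CohIII.tensorObj Q (ModuleCat.of A (A ⧸ m))) d (h2 m (d - 1) (by omega))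
  let e : (Q.X d ⧸ LinearMap.range (Q.d (d - 1) d).hom) ≃ₗ[A] Q.opcycles d :=
    iso.toLinearEquiv.symm
  exact Module.Projective.of_equiv e

end Groth.Agent.Helper7.LFe
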