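import Mathlib

namespace Groth.Agent.Helper7.LInv

open TensorProduct

universe u

variable {A : Type*} [CommRing A] {M N N' : Type*} [AddCommGroup M] [Module A M]
  [AddCommGroup N] [Module A N] [AddCommGroup N'] [Module A N']

/-- `u` becomes left invertible after localizing at `S`. -/
def LI (S : Submonoid A) (u : M →ₗ[A] N) : Prop :=
  ∃ w : LocalizedModule S N →ₗ[A] LocalizedModule S M,
    w ∘ₗ (LocalizedModule.map S u).restrictScalars A = LinearMap.id

theorem map_comp_mk (S : Submonoid A) (u : M →ₗ[A] N) :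
    (LocalizedModule.map S u).restrictScalars A ∘ₗ LocalizedModule.mkLinearMap S M
      = LocalizedModule.mkLinearMap S N ∘ₗ u := by
  ext m
  simp [LocalizedModule.mkLinearMap_apply]

theorem map_map (S : Submonoid A) (u : M →ₗ[A] N) (v : N →ₗ[A] N') :
    (LocalizedModule.map S (v ∘ₗ u)).restrictScalars A
      = (LocalizedModule.map S v).restrictScalars A ∘ₗ (LocalizedModule.map S u).restrictScalars A := by
  apply IsLocalizedModule.ext S (LocalizedModule.mkLinearMap S M)
    (IsLocalizedModule.map_units (LocalizedModule.mkLinearMap S N'))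
  ext m
  simp [LocalizedModule.mkLinearMap_apply]

/-- If `v ∘ u` is left invertible at `S` then so is `u`. -/
theorem LI.of_comp {S : Submonoid A} {u : M →ₗ[A] N} (v : N →ₗ[A] N') (h : LI S (v ∘ₗ u)) :
    LI S u := by
  obtain ⟨w, hw⟩ := h
  refine ⟨w ∘ₗ (LocalizedModule.map S v).restrictScalars A, ?_⟩
  rw [LinearMap.comp_assoc, ← map_map, hw]

/-- Left invertibility passes to bigger submonoids. -/
theorem LI.mono {S S' : Submonoid A} (hSS' : S ≤ S') {u : M →ₗ[A] N} (h : LI S u) : LI S' u := by
  obtain ⟨w, hw⟩ := h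
  have hunit : ∀ s : S, IsUnit (algebraMap A (Module.End A (LocalizedModule S' M)) s) :=
    fun s => IsLocalizedModule.map_units (LocalizedModule.mkLinearMap S' M) ⟨s.1, hSS' s.2⟩
  let ι : LocalizedModule S M →ₗ[A] LocalizedModule S' M :=
    LocalizedModule.lift S (LocalizedModule.mkLinearMap S' M) hunit
  have hι : ι ∘ₗ LocalizedModule.mkLinearMap S M = LocalizedModule.mkLinearMap S' M :=
    LocalizedModule.lift_comp S _ hunit
  have hunit' := IsLocalizedModule.map_units (S := S') (LocalizedModule.mkLinearMap S' M)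
  let w' : LocalizedModule S' N →ₗ[A] LocalizedModule S' M :=
    LocalizedModule.lift S' (ι ∘ₗ w ∘ₗ LocalizedModule.mkLinearMap S N) hunit'
  have hw' : w' ∘ₗ LocalizedModule.mkLinearMap S' N = ι ∘ₗ w ∘ₗ LocalizedModule.mkLinearMap S N :=
    LocalizedModule.lift_comp S' _ hunit'
  refine ⟨w', ?_⟩
  apply IsLocalizedModule.ext S' (LocalizedModule.mkLinearMap S' M) hunit'
  rw [LinearMap.comp_assoc, map_comp_mk, ← LinearMap.comp_assoc, hw', LinearMap.id_comp]
  rw [LinearMap.comp_assoc, LinearMap.comp_assoc, ← map_comp_mk]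
  have h1 : w ∘ₗ ((LocalizedModule.map S u).restrictScalars A ∘ₗ LocalizedModule.mkLinearMap S M)
      = LocalizedModule.mkLinearMap S M := by
    rw [← LinearMap.comp_assoc, hw, LinearMap.id_comp]
  rw [h1, hι]

theorem lTensor_mk_injective (p : Ideal A) [p.IsPrime] (M : Type*) [AddCommGroup M] [Module A M] :
    Function.Injective ((LocalizedModule.mkLinearMap p.primeCompl M).lTensor p.ResidueField) := by
  have hunit : ∀ s : p.primeCompl,
      IsUnit (algebraMap A (Module.End A (p.ResidueField ⊗[A] M)) s) := by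
    intro s
    have hc : algebraMap A p.ResidueField s ≠ 0 := by
      rw [Ne, Ideal.algebraMap_residueField_eq_zero]
      exact s.2
    rw [Module.End.isUnit_iff]
    constructor
    · intro x y hxy
      simp only [Module.algebraMap_end_apply] at hxy
      rw [← algebraMap_smul p.ResidueField (s : A) x, ← algebraMap_smul p.ResidueField (s : A) y] at hxy
      exact smul_right_injective _ hc hxy
    · intro y
      refine ⟨(algebraMap A p.ResidueField s)⁻¹ • y, ?_⟩
      simp only [Module.algebraMap_end_apply]
      rw [← algebraMap_smul p.ResidueField (s : A), smul_smul, mul_inv_cancel₀ hc, one_smul]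
  let g : LocalizedModule p.primeCompl M →ₗ[A] p.ResidueField ⊗[A] M :=
    LocalizedModule.lift p.primeCompl (TensorProduct.mk A p.ResidueField M 1) hunit
  let μ : p.ResidueField ⊗[A] (p.ResidueField ⊗[A] M) →ₗ[A] p.ResidueField ⊗[A] M :=
    TensorProduct.lift (LinearMap.mk₂ A (fun (a : p.ResidueField) (x : p.ResidueField ⊗[A] M) => a • x)
      (fun a b x => add_smul a b x) (fun c a x => smul_assoc c a x) (fun a x y => smul_add a x y)
      (fun c a x => smul_comm a c x))
  have hρ : (μ ∘ₗ g.lTensor p.ResidueField) ∘ₗ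
      (LocalizedModule.mkLinearMap p.primeCompl M).lTensor p.ResidueField = LinearMap.id := by
    apply TensorProduct.ext'
    intro a m
    simp only [LinearMap.comp_apply, LinearMap.lTensor_tmul, LocalizedModule.mkLinearMap_apply,
      LinearMap.id_apply, g, LocalizedModule.lift_mk_one, TensorProduct.mk_apply, μ,
      TensorProduct.lift.tmul, LinearMap.mk₂_apply]
    rw [TensorProduct.smul_tmul', smul_eq_mul, mul_one]
  exact Function.HasLeftInverse.injective
    ⟨(μ ∘ₗ g.lTensor p.ResidueField), fun x => LinearMap.congr_fun hρ x⟩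

/-- (a) ⇒ (b). -/
theorem injective_lTensor_of_LI (p : Ideal A) [p.IsPrime] {u : M →ₗ[A] N} (h : LI p.primeCompl u) :
    Function.Injective (u.lTensor p.ResidueField) := by
  obtain ⟨w, hw⟩ := h
  have h1 : (w ∘ₗ LocalizedModule.mkLinearMap p.primeCompl N) ∘ₗ u
      = LocalizedModule.mkLinearMap p.primeCompl M := by
    rw [LinearMap.comp_assoc, ← map_comp_mk, ← LinearMap.comp_assoc, hw, LinearMap.id_comp]
  have h2 := lTensor_mk_injective p M
  rw [← h1, LinearMap.lTensor_comp] at h2
  exact Function.Injective.of_comp h2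

end Groth.Agent.Helper7.LInv
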