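import Mathlib
import Groth.Agent.Helper7.LInv1

namespace Groth.Agent.Helper7.LInv

open TensorProduct

variable {A : Type*} [CommRing A] {M : Type*} [AddCommGroup M] [Module A M]

/-- (B3): building the left inverse from local data. -/
theorem LI_of_data {J : Type*} [Fintype J] (u : M →ₗ[A] (J → A)) (s t : A) (m : J → M)
    (h : ∀ x : M, t • ∑ j, (u x j) • m j = t • s • x) :
    LI (Submonoid.powers (s * t)) u := by
  let S := Submonoid.powers (s * t)
  let f₀ : S := ⟨s * t, Submonoid.mem_powers _⟩
  let g : (J → A) →ₗ[A] M := ∑ j, (LinearMap.proj j : (J → A) →ₗ[A] A).smulRight (m j)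
  have hg : ∀ n, g n = ∑ j, n j • m j := by
    intro n
    simp [g, LinearMap.sum_apply]
  refine ⟨LocalizedModule.divBy f₀ ∘ₗ (LocalizedModule.map S (t • g)).restrictScalars A, ?_⟩
  apply IsLocalizedModule.ext S (LocalizedModule.mkLinearMap S M)
    (IsLocalizedModule.map_units (LocalizedModule.mkLinearMap S M))
  ext x
  simp only [LinearMap.comp_apply, LinearMap.restrictScalars_apply, LocalizedModule.mkLinearMap_apply,
    LocalizedModule.map_mk, LinearMap.smul_apply, LinearMap.id_apply, hg, h]
  have : LocalizedModule.mk (t • s • x) (1 : S)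
      = algebraMap A (Module.End A (LocalizedModule S M)) f₀ (LocalizedModule.mk x 1) := by
    rw [Module.algebraMap_end_apply, LocalizedModule.smul'_mk, smul_smul, mul_comm t s]
  rw [this, LocalizedModule.divBy_mul_by]

set_option maxSynthPendingDepth 3 in
/-- (B1)+(B2): local data for a left inverse from injectivity on the fibre. -/
theorem exists_data (p : Ideal A) [p.IsPrime] [Module.Finite A M] {J : Type*} [Fintype J]
    [DecidableEq J]
    (u : M →ₗ[A] (J → A)) (h : Function.Injective (u.lTensor p.ResidueField)) :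
    ∃ (s t : A) (m : J → M), s ∉ p ∧ t ∉ p ∧ ∀ x : M, t • ∑ j, (u x j) • m j = t • s • x := by
  let Ap := Localization.AtPrime p
  let l : Ap ⊗[A] M →ₗ[Ap] Ap ⊗[A] (J → A) := u.baseChange Ap
  -- injectivity over the residue field of `Ap`
  have hl : Function.Injective (l.lTensor (IsLocalRing.ResidueField Ap)) := by
    have nat := TensorProduct.AlgebraTensorModule.lTensor_comp_cancelBaseChange (R := A) (A := Ap)
      (B := p.ResidueField) (M := p.ResidueField) u
    intro z z' hz
    have h1 := LinearMap.congr_fun nat z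
    have h2 := LinearMap.congr_fun nat z'
    simp only [LinearMap.comp_apply] at h1 h2
    have h3 : (u.lTensor p.ResidueField)
        (TensorProduct.AlgebraTensorModule.cancelBaseChange A Ap p.ResidueField p.ResidueField M z)
        = (u.lTensor p.ResidueField)
        (TensorProduct.AlgebraTensorModule.cancelBaseChange A Ap p.ResidueField p.ResidueField M z') := by
      refine h1.trans (Eq.trans ?_ h2.symm)
      exact congrArg _ hz
    exact (TensorProduct.AlgebraTensorModule.cancelBaseChange A Ap p.ResidueField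
      p.ResidueField M).injective (h h3)
  obtain ⟨l', hl'⟩ := (IsLocalRing.split_injective_iff_lTensor_residueField_injective l).2 hl
  let f : M →ₗ[A] Ap ⊗[A] M := TensorProduct.mk A Ap M 1
  have hsurj : ∀ j : J, ∃ x : M × p.primeCompl,
      x.2 • l' ((1 : Ap) ⊗ₜ[A] (Pi.single j (1 : A) : J → A)) = f x.1 :=
    fun j => IsLocalizedModule.surj p.primeCompl f _
  choose mx hmx using hsurj
  let sS : p.primeCompl := ∏ j, (mx j).2
  let m : J → M := fun j => (∏ i ∈ Finset.univ.erase j, ((mx i).2 : A)) • (mx j).1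
  have hm : ∀ j, (sS : A) • l' ((1 : Ap) ⊗ₜ[A] (Pi.single j (1 : A) : J → A)) = f (m j) := by
    intro j
    have h1 : (sS : A) = (∏ i ∈ Finset.univ.erase j, ((mx i).2 : A)) * ((mx j).2 : A) := by
      rw [Finset.prod_erase_mul _ _ (Finset.mem_univ j)]
      simp [sS]
    have h2 := hmx j
    rw [Submonoid.smul_def] at h2
    rw [h1, mul_smul, h2, map_smul]
  let g : (J → A) →ₗ[A] M := ∑ j, (LinearMap.proj j : (J → A) →ₗ[A] A).smulRight (m j)
  have hg : ∀ n, g n = ∑ j, n j • m j := by
    intro n
    simp [g, LinearMap.sum_apply]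
  have key : f ∘ₗ (g ∘ₗ u) = f ∘ₗ ((sS : A) • LinearMap.id) := by
    ext x
    simp only [LinearMap.comp_apply, LinearMap.smul_apply, LinearMap.id_apply, hg, map_sum,
      map_smul]
    have h3 : l' (l ((1 : Ap) ⊗ₜ[A] x)) = (1 : Ap) ⊗ₜ[A] x := LinearMap.congr_fun hl' _
    have h4 : l ((1 : Ap) ⊗ₜ[A] x) = ∑ j, (u x j) • ((1 : Ap) ⊗ₜ[A] (Pi.single j (1 : A) : J → A)) := by
      simp only [l, LinearMap.baseChange_tmul]
      conv_lhs => rw [← Finset.univ_sum_single (u x), TensorProduct.tmul_sum]
      apply Finset.sum_congr rfl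
      intro j _
      rw [← TensorProduct.tmul_smul]
      congr 1
      ext i
      simp [Pi.single_apply]
    rw [h4, map_sum] at h3
    calc ∑ j, (u x j) • f (m j)
        = ∑ j, (u x j) • ((sS : A) • l' ((1 : Ap) ⊗ₜ[A] (Pi.single j (1 : A) : J → A))) := by
          simp only [hm]
      _ = (sS : A) • ∑ j, l' ((u x j) • ((1 : Ap) ⊗ₜ[A] (Pi.single j (1 : A) : J → A))) := by
          rw [Finset.smul_sum]
          apply Finset.sum_congr rfl
          intro j _
          rw [LinearMap.map_smul_of_tower, smul_comm]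
      _ = (sS : A) • f x := by rw [h3]; rfl
  obtain ⟨t, ht⟩ :=
    Module.Finite.exists_smul_of_comp_eq_of_isLocalizedModule p.primeCompl f _ _ key
  refine ⟨sS, t, m, sS.2, t.2, fun x => ?_⟩
  have h5 := LinearMap.congr_fun ht x
  simp only [LinearMap.smul_apply, LinearMap.comp_apply, LinearMap.id_apply, hg,
    Submonoid.smul_def] at h5
  exact h5

/-- (b) ⇒ (d) for a finite free target. -/
theorem exists_LI_finfree (p : Ideal A) [p.IsPrime] [Module.Finite A M] {J : Type*} [Fintype J]
    [DecidableEq J]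
    (u : M →ₗ[A] (J → A)) (h : Function.Injective (u.lTensor p.ResidueField)) :
    ∃ f : A, f ∉ p ∧ LI (Submonoid.powers f) u := by
  obtain ⟨s, t, m, hs, ht, hx⟩ := exists_data p u h
  refine ⟨s * t, ?_, LI_of_data u s t m hx⟩
  intro hmem
  rcases (Ideal.IsPrime.mem_or_mem ‹_› hmem) with h1 | h1
  · exact hs h1
  · exact ht h1

/-- (b) ⇒ (d) for a projective target. -/
theorem exists_LI_of_injective (p : Ideal A) [p.IsPrime] [Module.Finite A M] {N : Type*}
    [AddCommGroup N] [Module A N] [Module.Projective A N]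
    (u : M →ₗ[A] N) (h : Function.Injective (u.lTensor p.ResidueField)) :
    ∃ f : A, f ∉ p ∧ LI (Submonoid.powers f) u := by
  classical
  obtain ⟨i, hi⟩ := (Module.projective_def'.1 ‹_› :
    ∃ s : N →ₗ[A] N →₀ A, Finsupp.linearCombination A id ∘ₗ s = LinearMap.id)
  let u₁ : M →ₗ[A] (N →₀ A) := i ∘ₗ u
  obtain ⟨G, hG⟩ := (Module.Finite.fg_top : (⊤ : Submodule A M).FG)
  let J : Finset N := G.biUnion (fun g => (u₁ g).support)
  have hsup : ∀ x, u₁ x ∈ Finsupp.supported A A (J : Set N) := by
    have h1 : (⊤ : Submodule A M) ≤ (Finsupp.supported A A (J : Set N)).comap u₁ := by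
      rw [← hG, Submodule.span_le]
      intro g hg
      rw [SetLike.mem_coe, Submodule.mem_comap, Finsupp.mem_supported]
      intro n hn
      exact Finset.mem_biUnion.2 ⟨g, hg, hn⟩
    exact fun x => h1 Submodule.mem_top
  let q : (N →₀ A) →ₗ[A] (J → A) := LinearMap.pi (fun j => Finsupp.lapply j.1)
  let jj : (J → A) →ₗ[A] (N →₀ A) := Fintype.linearCombination A (fun j : J => Finsupp.single j.1 (1 : A))
  have hjq : jj ∘ₗ q ∘ₗ u₁ = u₁ := by
    ext x n
    simp only [LinearMap.comp_apply, jj, q, Fintype.linearCombination_apply, LinearMap.pi_apply,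
      Finsupp.lapply_apply, Finsupp.coe_finsetSum, Finsupp.coe_smul, Finset.sum_apply,
      Pi.smul_apply, smul_eq_mul]
    by_cases hn : n ∈ J
    · rw [Finset.sum_eq_single (⟨n, hn⟩ : J)]
      · simp
      · intro b _ hb
        rw [Finsupp.single_apply, if_neg (fun h => hb (Subtype.ext h)), mul_zero]
      · intro h; exact absurd (Finset.mem_univ _) h
    · have h0 : u₁ x n = 0 := by
        by_contra hne
        exact hn ((Finsupp.mem_supported A _).1 (hsup x) (Finsupp.mem_support_iff.2 hne))
      rw [h0]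
      apply Finset.sum_eq_zero
      intro b _
      rw [Finsupp.single_apply, if_neg (fun h : (b : N) = n => hn (h ▸ b.2)), mul_zero]
  let u₂ : M →ₗ[A] (J → A) := q ∘ₗ u₁
  have hiinj : Function.Injective (i.lTensor p.ResidueField) := by
    have : (Finsupp.linearCombination A id).lTensor p.ResidueField ∘ₗ i.lTensor p.ResidueField
        = LinearMap.id := by
      rw [← LinearMap.lTensor_comp, hi, LinearMap.lTensor_id]
    exact Function.HasLeftInverse.injective ⟨_, fun x => LinearMap.congr_fun this x⟩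
  have hu₂ : Function.Injective (u₂.lTensor p.ResidueField) := by
    have h1 : Function.Injective ((jj ∘ₗ u₂).lTensor p.ResidueField) := by
      have : jj ∘ₗ u₂ = i ∘ₗ u := hjq
      rw [this, LinearMap.lTensor_comp]
      exact hiinj.comp h
    rw [LinearMap.lTensor_comp] at h1
    exact Function.Injective.of_comp h1
  obtain ⟨f, hf, hLI⟩ := exists_LI_finfree p u₂ hu₂
  refine ⟨f, hf, LI.of_comp (q ∘ₗ i) ?_⟩
  exact hLI

universe u

theorem result4530 {A : Type u} [CommRing A] {M N : Type u} [AddCommGroup M] [Module A M]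
    [Module.Finite A M] [AddCommGroup N] [Module A N] [Module.Projective A N] (u : M →ₗ[A] N) :
    (∀ p : PrimeSpectrum A,
      [LI p.asIdeal.primeCompl u,
       Function.Injective (u.lTensor p.asIdeal.ResidueField),
       ∃ f : A, f ∉ p.asIdeal ∧ LI (Submonoid.powers f) u].TFAE) ∧
    IsOpen {p : PrimeSpectrum A | LI p.asIdeal.primeCompl u} := by
  have h31 : ∀ p : PrimeSpectrum A, (∃ f : A, f ∉ p.asIdeal ∧ LI (Submonoid.powers f) u) →
      LI p.asIdeal.primeCompl u := by
    rintro p ⟨f, hf, h⟩
    exact h.mono (Submonoid.powers_le.2 hf)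
  have h12 : ∀ p : PrimeSpectrum A, LI p.asIdeal.primeCompl u →
      Function.Injective (u.lTensor p.asIdeal.ResidueField) :=
    fun p h => injective_lTensor_of_LI p.asIdeal h
  have h23 : ∀ p : PrimeSpectrum A, Function.Injective (u.lTensor p.asIdeal.ResidueField) →
      ∃ f : A, f ∉ p.asIdeal ∧ LI (Submonoid.powers f) u :=
    fun p h => exists_LI_of_injective p.asIdeal u h
  refine ⟨fun p => ?_, ?_⟩
  · tfae_have 1 → 2 := h12 p
    tfae_have 2 → 3 := h23 p
    tfae_have 3 → 1 := h31 p
    tfae_finish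
  · rw [isOpen_iff_forall_mem_open]
    intro p hp
    obtain ⟨f, hf, hLI⟩ := h23 p (h12 p hp)
    refine ⟨PrimeSpectrum.basicOpen f, ?_, (PrimeSpectrum.basicOpen f).isOpen, hf⟩
    intro q hq
    exact h31 q ⟨f, hq, hLI⟩

end Groth.Agent.Helper7.LInv
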