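import Mathlib
import Groth.Agent.Helper9.Integral
import Groth.Agent.Helper9.IntegralBC
import Groth.Agent.Helper9.Comod

/-!
# Integrals on commutative Hopf algebras: adjunction identity and non-degeneracy (helper7)

`α : A → k` a normalised left-invariant integral (`Σ α(a₁) a₂ = α(a) 1`).
* `star`: `Σ α(a₁ b) a₂ = Σ α(a b₁) S(b₂)`;
* `eq_zero_of_mem_rad`: the pairing `(x, y) ↦ α(xy)` is non-degenerate.
-/

set_option autoImplicit false
set_option linter.unusedSectionVars false
universe u v

namespace Groth.Agent.Helper7.LRExt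

open TensorProduct Groth.Agent.Helper9.Integral

section

variable {k : Type u} [Field k] {A : Type v} [CommRing A] [HopfAlgebra k A]

local notation "Δ" => (Coalgebra.comul (R := k) (A := A))
local notation "ε" => (Coalgebra.counit (R := k) (A := A))
local notation "𝑺" => (HopfAlgebra.antipode k (A := A))

/-- left-invariant integral: `Σ α(a₁) a₂ = α(a) 1` -/
def IntL (α : A →ₗ[k] k) : Prop :=
  ∀ a : A, TensorProduct.lid k A (α.rTensor A (Δ a)) = α a • (1 : A)

/-- `x ⊗ y ↦ α(x) y` -/
noncomputable def Lα (α : A →ₗ[k] k) : A ⊗[k] A →ₗ[k] A :=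
  (TensorProduct.lid k A).toLinearMap ∘ₗ α.rTensor A

@[simp] lemma Lα_tmul (α : A →ₗ[k] k) (x y : A) : Lα α (x ⊗ₜ[k] y) = α x • y := by
  simp [Lα]

/-- `x ⊗ y ↦ α(a x) y` -/
noncomputable def Mα (α : A →ₗ[k] k) (a : A) : A ⊗[k] A →ₗ[k] A :=
  Lα (α ∘ₗ LinearMap.mulLeft k a)

@[simp] lemma Mα_tmul (α : A →ₗ[k] k) (a x y : A) : Mα α a (x ⊗ₜ[k] y) = α (a * x) • y := by
  simp [Mα]

lemma Lα_mul_right (α : A →ₗ[k] k) (t : A ⊗[k] A) (y : A) :
    Lα α (t * ((1 : A) ⊗ₜ[k] y)) = Lα α t * y := by
  induction t using TensorProduct.induction_on with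
  | zero => simp
  | add p q hp hq => simp only [add_mul, map_add, hp, hq]
  | tmul p q => simp [Algebra.TensorProduct.tmul_mul_tmul]

lemma Lα_mul_left (α : A →ₗ[k] k) (a : A) (t : A ⊗[k] A) :
    Lα α ((a ⊗ₜ[k] (1 : A)) * t) = Mα α a t := by
  induction t using TensorProduct.induction_on with
  | zero => simp
  | add p q hp hq => simp only [mul_add, map_add, hp, hq]
  | tmul p q => simp [Algebra.TensorProduct.tmul_mul_tmul]

lemma theta_eq (t : A ⊗[k] A) (y : A) :
    (LinearMap.mulRight k y).lTensor A t = t * ((1 : A) ⊗ₜ[k] y) := by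
  induction t using TensorProduct.induction_on with
  | zero => simp
  | add p q hp hq => simp only [add_mul, map_add, hp, hq]
  | tmul p q => simp [Algebra.TensorProduct.tmul_mul_tmul]

lemma theta_tmul' (x y : A) : theta k A A (x ⊗ₜ[k] y) = Δ x * ((1 : A) ⊗ₜ[k] y) := by
  rw [theta_tmul, theta_eq]
  rfl

lemma comul_mul_theta (a : A) (t : A ⊗[k] A) :
    Δ a * theta k A A t = theta k A A ((a ⊗ₜ[k] (1 : A)) * t) := by
  induction t using TensorProduct.induction_on with
  | zero => simp
  | add p q hp hq => simp only [mul_add, map_add, hp, hq]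
  | tmul p q =>
    rw [Algebra.TensorProduct.tmul_mul_tmul, one_mul, theta_tmul', theta_tmul', Bialgebra.comul_mul,
      mul_assoc]

lemma Lα_theta {α : A →ₗ[k] k} (hα : IntL α) (t : A ⊗[k] A) :
    Lα α (theta k A A t) = Lα α t := by
  induction t using TensorProduct.induction_on with
  | zero => simp
  | add p q hp hq => simp only [map_add, hp, hq]
  | tmul p q =>
    rw [theta_tmul', Lα_mul_right, Lα_tmul]
    have := hα p
    change Lα α (Δ p) = _ at this
    rw [this, Algebra.smul_mul_assoc, one_mul]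

/-- **adjunction identity** `Σ α(a₁ b) a₂ = Σ α(a b₁) S(b₂)` -/
theorem star {α : A →ₗ[k] k} (hα : IntL α) (a b : A) :
    Lα α (Δ a * (b ⊗ₜ[k] (1 : A))) = Mα α a (theta' k A A (b ⊗ₜ[k] (1 : A))) := by
  conv_lhs => rw [← theta_theta' (k := k) (A := A) (V := A) (b ⊗ₜ[k] (1 : A))]
  rw [comul_mul_theta, Lα_theta hα, Lα_mul_left]

/-- the left hand side of `star` as a slice of `Δ a` -/
lemma Lα_mul_tmul_one (α : A →ₗ[k] k) (t : A ⊗[k] A) (b : A) :
    Lα α (t * (b ⊗ₜ[k] (1 : A))) =
      TensorProduct.lid k A ((α ∘ₗ LinearMap.mulRight k b).rTensor A t) := by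
  induction t using TensorProduct.induction_on with
  | zero => simp
  | add p q hp hq => simp only [add_mul, map_add, hp, hq]
  | tmul p q => simp [Algebra.TensorProduct.tmul_mul_tmul]

/-! ### non-degeneracy -/

/-- the radical of the pairing `(x, y) ↦ α(xy)` -/
def rad (α : A →ₗ[k] k) : Submodule k A where
  carrier := {y | ∀ b : A, α (y * b) = 0}
  add_mem' := by
    intro x y hx hy b
    rw [add_mul, map_add, hx b, hy b, add_zero]
  zero_mem' := by
    intro b
    rw [zero_mul, map_zero]
  smul_mem' := by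
    intro c x hx b
    rw [Algebra.smul_mul_assoc, map_smul, hx b, smul_zero]

lemma mem_rad {α : A →ₗ[k] k} {y : A} : y ∈ rad α ↔ ∀ b : A, α (y * b) = 0 := Iff.rfl

lemma Mα_eq_zero {α : A →ₗ[k] k} {y : A} (hy : y ∈ rad α) (t : A ⊗[k] A) : Mα α y t = 0 := by
  induction t using TensorProduct.induction_on with
  | zero => simp
  | add p q hp hq => simp only [map_add, hp, hq, add_zero]
  | tmul p q => rw [Mα_tmul, hy p, zero_smul]

lemma apply_slice_mul (α θ : A →ₗ[k] k) (t : A ⊗[k] A) (b : A) :
    α (TensorProduct.rid k A (θ.lTensor A t) * b) = θ (Lα α (t * (b ⊗ₜ[k] (1 : A)))) := by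
  induction t using TensorProduct.induction_on with
  | zero => simp
  | add p q hp hq => simp only [add_mul, map_add, hp, hq]
  | tmul p q =>
    simp [Algebra.TensorProduct.tmul_mul_tmul, mul_comm]

lemma slice_mem_rad {α : A →ₗ[k] k} (hα : IntL α) {y : A} (hy : y ∈ rad α) (θ : A →ₗ[k] k) :
    TensorProduct.rid k A (θ.lTensor A (Δ y)) ∈ rad α := by
  intro b
  rw [apply_slice_mul, star hα, Mα_eq_zero hy, map_zero]

lemma counit_eq_zero_of_mem_rad {α : A →ₗ[k] k} (hα : IntL α) (h1 : α 1 = 1) {z : A}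
    (hz : z ∈ rad α) : ε z = 0 := by
  have hmem : Δ z ∈ LinearMap.range ((rad α).subtype.rTensor A) :=
    Groth.Agent.Helper9.mem_range_rTensor_subtype_of_forall_functional _ _
      (fun θ => slice_mem_rad hα hz θ)
  obtain ⟨s, hs⟩ := hmem
  have h2 : ∀ s : (rad α) ⊗[k] A,
      α (LinearMap.mul' k A ((𝑺).lTensor A ((rad α).subtype.rTensor A s))) = 0 := by
    intro s
    induction s using TensorProduct.induction_on with
    | zero => simp
    | add p q hp hq => simp only [map_add, hp, hq, add_zero]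
    | tmul p q =>
      simp only [LinearMap.rTensor_tmul, Submodule.subtype_apply, LinearMap.lTensor_tmul,
        LinearMap.mul'_apply]
      exact p.2 _
  have h3 := h2 s
  rw [hs, HopfAlgebra.mul_antipode_lTensor_comul_apply, Algebra.algebraMap_eq_smul_one, map_smul,
    h1, smul_eq_mul, mul_one] at h3
  exact h3

lemma counit_slice (θ : A →ₗ[k] k) (t : A ⊗[k] A) :
    ε (TensorProduct.rid k A (θ.lTensor A t)) = θ (TensorProduct.lid k A ((ε).rTensor A t)) := by
  induction t using TensorProduct.induction_on with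
  | zero => simp
  | add p q hp hq => simp only [map_add, hp, hq]
  | tmul p q => simp [mul_comm]

/-- **non-degeneracy of the integral pairing** -/
theorem eq_zero_of_mem_rad {α : A →ₗ[k] k} (hα : IntL α) (h1 : α 1 = 1) {y : A}
    (hy : y ∈ rad α) : y = 0 := by
  rw [← Module.forall_dual_apply_eq_zero_iff k y]
  intro θ
  have h2 := counit_eq_zero_of_mem_rad hα h1 (slice_mem_rad hα hy θ)
  rw [counit_slice, Coalgebra.rTensor_counit_comul] at h2
  simpa using h2

end

end Groth.Agent.Helper7.LRExt
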