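import Mathlib
import Groth.Agent.Helper7.LRExtA
import Groth.Agent.Helper7.TakF
import Groth.Agent.Helper2.HopfFG
import Groth.Agent.Helper9.ComodAlg

/-!
# A Hopf subalgebra of a cosemisimple commutative Hopf algebra is a module direct summand (helper7)

`φ : AQ → A` an injective map of commutative Hopf algebras, `α` a normalised left integral on `A`.
Then there is a `φ(AQ)`-linear projection `A → φ(AQ)` (`exists_proj`): the orthogonal projection for
the integral pairing.
-/

set_option autoImplicit false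
set_option linter.unusedSectionVars false
universe u

namespace Groth.Agent.Helper7.LRExt

open TensorProduct Groth.Agent.Helper9.Integral

section

variable {k : Type u} [Field k] {AQ : Type u} [CommRing AQ] [HopfAlgebra k AQ]
  {A : Type u} [CommRing A] [HopfAlgebra k A]

lemma comul_map {X Y : Type u} [CommRing X] [HopfAlgebra k X] [CommRing Y] [HopfAlgebra k Y]
    (f : X →ₐc[k] Y) (a : X) :
    Coalgebra.comul (R := k) (f a) =
      TensorProduct.map (f : X →ₗ[k] Y) (f : X →ₗ[k] Y) (Coalgebra.comul (R := k) a) :=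
  (LinearMap.congr_fun (CoalgHomClass.map_comp_comul f) a).symm

variable (φ : AQ →ₐc[k] A)

lemma map_lid_rTensor (α : A →ₗ[k] k) (s : AQ ⊗[k] AQ) :
    φ (TensorProduct.lid k AQ ((α ∘ₗ (φ : AQ →ₗ[k] A)).rTensor AQ s)) =
      TensorProduct.lid k A (α.rTensor A
        (TensorProduct.map (φ : AQ →ₗ[k] A) (φ : AQ →ₗ[k] A) s)) := by
  induction s using TensorProduct.induction_on with
  | zero => simp
  | add p q hp hq => simp only [map_add, hp, hq]
  | tmul p q => simp

/-- the restriction of a left integral to a Hopf subalgebra is a left integral -/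
theorem intL_comp (hφ : Function.Injective φ) {α : A →ₗ[k] k} (hα : IntL α) :
    IntL (α ∘ₗ (φ : AQ →ₗ[k] A)) := by
  intro q
  apply hφ
  rw [map_lid_rTensor, ← comul_map, hα (φ q), map_smul, map_one]
  rfl

/-- non-degeneracy of the integral pairing on the Hopf subalgebra -/
theorem eq_zero_of_pairing (hφ : Function.Injective φ) {α : A →ₗ[k] k} (hα : IntL α)
    (h1 : α 1 = 1) (q : AQ) (h : ∀ q' : AQ, α (φ q * φ q') = 0) : q = 0 := by
  apply eq_zero_of_mem_rad (intL_comp φ hφ hα) (by simp [h1])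
  intro b
  simp [h b]

/-- the image of `φ` as a subspace -/
def Bs : Submodule k A := LinearMap.range (φ : AQ →ₗ[k] A)

lemma mem_Bs {x : A} : x ∈ Bs φ ↔ ∃ q : AQ, φ q = x := Iff.rfl

lemma mul_mem_Bs {x y : A} (hx : x ∈ Bs φ) (hy : y ∈ Bs φ) : x * y ∈ Bs φ := by
  obtain ⟨p, rfl⟩ := hx
  obtain ⟨q, rfl⟩ := hy
  exact ⟨p * q, map_mul φ p q⟩

lemma slice_map (θ : A →ₗ[k] k) (s : AQ ⊗[k] AQ) :
    TensorProduct.rid k A (θ.lTensor A
      (TensorProduct.map (φ : AQ →ₗ[k] A) (φ : AQ →ₗ[k] A) s)) ∈ Bs φ := by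
  induction s using TensorProduct.induction_on with
  | zero => simp
  | add p q hp hq =>
    simp only [map_add]
    exact Submodule.add_mem _ hp hq
  | tmul p q =>
    simp only [TensorProduct.map_tmul, LinearMap.lTensor_tmul, TensorProduct.rid_tmul]
    exact Submodule.smul_mem _ _ ⟨p, rfl⟩

lemma isSubcomod_Bs : HopfRep.IsSubcomod (k := k) (A := A) (V := A) (Bs φ) := by
  rw [Groth.Agent.Helper9.isSubcomod_iff_act]
  rintro θ _ ⟨q, rfl⟩
  rw [Groth.Agent.Helper9.act_apply]
  change TensorProduct.rid k A (θ.lTensor A (Coalgebra.comul (R := k) (φ q))) ∈ _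
  rw [comul_map]
  exact slice_map φ θ _

end

/-! ### the antipode transport of a complement -/

section

variable {k : Type u} [Field k] {AQ : Type u} [CommRing AQ] [HopfAlgebra k AQ]
  {A : Type u} [CommRing A] [HopfAlgebra k A] (φ : AQ →ₐc[k] A)

/-- the antipode as a linear equivalence -/
noncomputable def eS : A ≃ₗ[k] A :=
  LinearEquiv.ofInvolutive (HopfAlgebra.antipode k (A := A))
    (fun a => Groth.Agent.Helper2.HopfFG.antipode_antipode a)

@[simp] lemma eS_apply (a : A) : eS (k := k) a = HopfAlgebra.antipode k a := rfl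

lemma antipode_mem_Bs {x : A} (hx : x ∈ Bs φ) : HopfAlgebra.antipode k x ∈ Bs φ := by
  obtain ⟨q, rfl⟩ := hx
  exact ⟨HopfAlgebra.antipode k q, Groth.Agent.Helper7.Takeuchi.map_antipode φ q⟩

lemma map_eS_Bs : (Bs φ).map (eS (k := k) (A := A) : A →ₗ[k] A) = Bs φ := by
  apply le_antisymm
  · rintro _ ⟨x, hx, rfl⟩
    exact antipode_mem_Bs φ hx
  · intro x hx
    refine ⟨HopfAlgebra.antipode k x, antipode_mem_Bs φ hx, ?_⟩
    exact Groth.Agent.Helper2.HopfFG.antipode_antipode x

lemma lid_rTensor_lift (θ : A →ₗ[k] k) (t : A ⊗[k] A) :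
    TensorProduct.lid k A (θ.rTensor A
      (Algebra.TensorProduct.lift
        ((Algebra.TensorProduct.includeRight (R := k) (A := A) (B := A)).comp
          (HopfAlgebra.antipodeAlgHom k A))
        ((Algebra.TensorProduct.includeLeft (R := k) (S := k) (A := A) (B := A)).comp
          (HopfAlgebra.antipodeAlgHom k A))
        (fun _ _ => .all ..) t)) =
      HopfAlgebra.antipode k (TensorProduct.rid k A
        ((θ ∘ₗ HopfAlgebra.antipode k (A := A)).lTensor A t)) := by
  induction t using TensorProduct.induction_on with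
  | zero => simp
  | add p q hp hq => simp only [map_add, hp, hq]
  | tmul p q =>
    simp [Algebra.TensorProduct.tmul_mul_tmul]

/-- the antipode turns a right coideal into a left coideal -/
lemma left_slice_mem (C₀ : Submodule k A)
    (hC₀ : HopfRep.IsSubcomod (k := k) (A := A) (V := A) C₀) (θ : A →ₗ[k] k) {c : A}
    (hc : c ∈ C₀.map (eS (k := k) (A := A) : A →ₗ[k] A)) :
    TensorProduct.lid k A (θ.rTensor A (Coalgebra.comul (R := k) c)) ∈
      C₀.map (eS (k := k) (A := A) : A →ₗ[k] A) := by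
  obtain ⟨c₀, hc₀, rfl⟩ := hc
  change TensorProduct.lid k A (θ.rTensor A
    (Coalgebra.comul (R := k) (HopfAlgebra.antipode k c₀))) ∈ _
  rw [Groth.Agent.Helper2.HopfFG.comul_antipode, lid_rTensor_lift]
  rw [Groth.Agent.Helper9.isSubcomod_iff_act] at hC₀
  exact ⟨_, hC₀ (θ ∘ₗ HopfAlgebra.antipode k (A := A)) c₀ hc₀, rfl⟩

end

/-! ### orthogonality of the complement and the projection -/

section

variable {k : Type u} [Field k] {AQ : Type u} [CommRing AQ] [HopfAlgebra k AQ]
  {A : Type u} [CommRing A] [HopfAlgebra k A] (φ : AQ →ₐc[k] A)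

lemma Mα_theta'_mem (α : A →ₗ[k] k) (c : A) (s : AQ ⊗[k] AQ) :
    Mα α c ((LinearMap.mulRight k (1 : A) ∘ₗ HopfAlgebra.antipode k (A := A)).lTensor A
      (TensorProduct.map (φ : AQ →ₗ[k] A) (φ : AQ →ₗ[k] A) s)) ∈ Bs φ := by
  induction s using TensorProduct.induction_on with
  | zero => simp
  | add p q hp hq =>
    simp only [map_add]
    exact Submodule.add_mem _ hp hq
  | tmul p q =>
    simp only [TensorProduct.map_tmul, LinearMap.lTensor_tmul, Mα_tmul, LinearMap.comp_apply,
      LinearMap.mulRight_apply, mul_one]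
    exact Submodule.smul_mem _ _ (antipode_mem_Bs φ ⟨q, rfl⟩)

lemma counit_Mα_theta' (α : A →ₗ[k] k) (c : A) (s : AQ ⊗[k] AQ) :
    Coalgebra.counit (R := k) (Mα α c
      ((LinearMap.mulRight k (1 : A) ∘ₗ HopfAlgebra.antipode k (A := A)).lTensor A
        (TensorProduct.map (φ : AQ →ₗ[k] A) (φ : AQ →ₗ[k] A) s))) =
      α (c * φ (TensorProduct.rid k AQ ((Coalgebra.counit (R := k) (A := AQ)).lTensor AQ s))) := by
  induction s using TensorProduct.induction_on with
  | zero => simp
  | add p q hp hq => simp only [map_add, mul_add, hp, hq]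
  | tmul p q =>
    simp only [TensorProduct.map_tmul, LinearMap.lTensor_tmul, Mα_tmul, LinearMap.comp_apply,
      LinearMap.mulRight_apply, mul_one, map_smul, TensorProduct.rid_tmul, smul_eq_mul,
      HopfAlgebra.counit_antipode]
    have h1 : Coalgebra.counit (R := k) ((φ : AQ →ₗ[k] A) q) = Coalgebra.counit (R := k) q :=
      CoalgHomClass.counit_comp_apply φ q
    rw [h1, Algebra.mul_smul_comm, map_smul, smul_eq_mul, mul_comm]
    rfl

/-- the left-coideal complement is orthogonal to the Hopf subalgebra -/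
theorem apply_mul_eq_zero {α : A →ₗ[k] k} (hα : IntL α) (C₀ : Submodule k A)
    (hC₀ : HopfRep.IsSubcomod (k := k) (A := A) (V := A) C₀)
    (hdisj : Disjoint (Bs φ) (C₀.map (eS (k := k) (A := A) : A →ₗ[k] A))) {c : A}
    (hc : c ∈ C₀.map (eS (k := k) (A := A) : A →ₗ[k] A)) (q : AQ) : α (c * φ q) = 0 := by
  set V : A := Lα α (Coalgebra.comul (R := k) c * (φ q ⊗ₜ[k] (1 : A))) with hV
  have hVC : V ∈ C₀.map (eS (k := k) (A := A) : A →ₗ[k] A) := by
    rw [hV, Lα_mul_tmul_one]
    exact left_slice_mem C₀ hC₀ _ hc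
  have hstar : V = Mα α c
      ((LinearMap.mulRight k (1 : A) ∘ₗ HopfAlgebra.antipode k (A := A)).lTensor A
        (TensorProduct.map (φ : AQ →ₗ[k] A) (φ : AQ →ₗ[k] A)
          (Coalgebra.comul (R := k) q))) := by
    rw [hV, star hα, theta'_tmul, ← comul_map]
    rfl
  have hVB : V ∈ Bs φ := by
    rw [hstar]
    exact Mα_theta'_mem φ α c _
  have hV0 : V = 0 := by
    have := Submodule.disjoint_def.mp hdisj V hVB hVC
    exact this
  have h2 := counit_Mα_theta' φ α c (Coalgebra.comul (R := k) q)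
  rw [← hstar, hV0, map_zero, Coalgebra.lTensor_counit_comul, TensorProduct.rid_tmul,
    one_smul] at h2
  exact h2.symm

/-- **a Hopf subalgebra of a cosemisimple commutative Hopf algebra is a direct summand as a module
over itself** -/
theorem exists_proj (hφ : Function.Injective φ) {α : A →ₗ[k] k} (hα : IntL α) (h1 : α 1 = 1)
    (hss : HopfRep.IsSemisimpleComod k A A) :
    ∃ p : A →ₗ[k] A, (∀ x, p x ∈ Bs φ) ∧ (∀ x ∈ Bs φ, p x = x) ∧
      ∀ (q : AQ) (x : A), p (φ q * x) = φ q * p x := by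
  obtain ⟨C₀, hC₀, hcompl⟩ := hss (Bs φ) (isSubcomod_Bs φ)
  set C : Submodule k A := C₀.map (eS (k := k) (A := A) : A →ₗ[k] A) with hC
  have hcompl' : IsCompl (Bs φ) C := by
    have h := (Submodule.orderIsoMapComap (eS (k := k) (A := A))).isCompl hcompl
    change IsCompl ((Bs φ).map (eS (k := k) (A := A) : A →ₗ[k] A))
      (C₀.map (eS (k := k) (A := A) : A →ₗ[k] A)) at h
    rwa [map_eS_Bs] at h
  have horth : ∀ c ∈ C, ∀ q : AQ, α (c * φ q) = 0 := fun c hc q =>
    apply_mul_eq_zero φ hα C₀ hC₀ hcompl'.disjoint hc q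
  let p₀ : A →ₗ[k] Bs φ := Submodule.projectionOnto (Bs φ) C hcompl'
  let p : A →ₗ[k] A := (Bs φ).subtype ∘ₗ p₀
  have hpB : ∀ x ∈ Bs φ, p x = x := by
    intro x hx
    have := Submodule.projectionOnto_apply_left hcompl' ⟨x, hx⟩
    change ((p₀ x : Bs φ) : A) = x
    rw [show p₀ x = ⟨x, hx⟩ from this]
  have hpC : ∀ c ∈ C, p c = 0 := by
    intro c hc
    have := (Submodule.projectionOnto_apply_eq_zero_iff hcompl').mpr hc
    change ((p₀ c : Bs φ) : A) = 0
    rw [show p₀ c = 0 from this]
    rfl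
  have hsub : ∀ x, x - p x ∈ C := by
    intro x
    have h := Submodule.projectionOnto_apply_eq_zero_iff hcompl' (x := x - p x)
    rw [← h, map_sub]
    change p₀ x - p₀ (p x) = 0
    have : p₀ (p x) = p₀ x := by
      have := Submodule.projectionOnto_apply_left hcompl' (p₀ x)
      exact this
    rw [this, sub_self]
  have hkey : ∀ (q : AQ) (c : A), c ∈ C → p (φ q * c) = 0 := by
    intro q c hc
    obtain ⟨q', hq'⟩ : ∃ q' : AQ, φ q' = p (φ q * c) := (p₀ (φ q * c)).2
    have hq0 : q' = 0 := by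
      apply eq_zero_of_pairing φ hφ hα h1
      intro q''
      have h3 : α ((φ q * c - p (φ q * c)) * φ q'') = 0 := horth _ (hsub _) q''
      have h4 : α (φ q * c * φ q'') = 0 := by
        have h5 : φ q * c * φ q'' = c * φ (q * q'') := by
          rw [map_mul]
          ring
        rw [h5]
        exact horth c hc (q * q'')
      rw [sub_mul, map_sub, h4, zero_sub, neg_eq_zero] at h3
      rw [hq', h3]
    rw [← hq', hq0, map_zero]
  refine ⟨p, fun x => (p₀ x).2, hpB, fun q x => ?_⟩
  have hx : x = p x + (x - p x) := by ring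
  conv_lhs => rw [hx, mul_add, map_add, hkey q _ (hsub x), add_zero]
  exact hpB _ (mul_mem_Bs φ ⟨q, rfl⟩ (p₀ x).2)

end

end Groth.Agent.Helper7.LRExt
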