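import Mathlib
import Groth.Agent.Helper7.LRExtB
import Groth.Agent.Helper7.TakNA

/-!
# Integral on the kernel of a quotient map of a cosemisimple Hopf algebra (helper7)
-/

set_option autoImplicit false
set_option linter.unusedSectionVars false
universe u

namespace Groth.Agent.Helper7.LRExt

open TensorProduct WithConv Groth.Agent.Helper7.TakN

section

variable {k : Type u} [Field k] {AQ : Type u} [CommRing AQ] [HopfAlgebra k AQ]
  {A : Type u} [CommRing A] [HopfAlgebra k A] {H : Type u} [CommRing H] [HopfAlgebra k H]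
  (φ : AQ →ₐc[k] A) (ψ : A →ₐc[k] H)

lemma psi_phi
    (hker : RingHom.ker (ψ : A →ₐ[k] H) =
      Ideal.map (φ : AQ →ₐ[k] A) (RingHom.ker (Bialgebra.counitAlgHom k AQ)))
    (q : AQ) : ψ (φ q) = algebraMap k H (Coalgebra.counit (R := k) q) := by
  have hmem : q - algebraMap k AQ (Coalgebra.counit (R := k) q) ∈
      RingHom.ker (Bialgebra.counitAlgHom k AQ) := by
    rw [RingHom.mem_ker, map_sub]
    simp
  have h2 : (φ : AQ →ₐ[k] A) (q - algebraMap k AQ (Coalgebra.counit (R := k) q)) ∈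
      RingHom.ker (ψ : A →ₐ[k] H) := by
    rw [hker]
    exact Ideal.mem_map_of_mem _ hmem
  rw [RingHom.mem_ker, map_sub, map_sub, sub_eq_zero] at h2
  have h3 : (ψ : A →ₐ[k] H) ((φ : AQ →ₐ[k] A) (algebraMap k AQ (Coalgebra.counit (R := k) q))) =
      algebraMap k H (Coalgebra.counit (R := k) q) := by
    rw [AlgHom.commutes, AlgHom.commutes]
  rw [h3] at h2
  exact h2

lemma lTensor_psi_map
    (hker : RingHom.ker (ψ : A →ₐ[k] H) =
      Ideal.map (φ : AQ →ₐ[k] A) (RingHom.ker (Bialgebra.counitAlgHom k AQ)))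
    (s : AQ ⊗[k] AQ) :
    (ψ : A →ₗ[k] H).lTensor A (TensorProduct.map (φ : AQ →ₗ[k] A) (φ : AQ →ₗ[k] A) s) =
      φ (TensorProduct.rid k AQ ((Coalgebra.counit (R := k) (A := AQ)).lTensor AQ s)) ⊗ₜ[k]
        (1 : H) := by
  induction s using TensorProduct.induction_on with
  | zero => simp
  | add p q hp hq => simp only [map_add, hp, hq, TensorProduct.add_tmul]
  | tmul p q =>
    simp only [TensorProduct.map_tmul, LinearMap.lTensor_tmul, TensorProduct.rid_tmul, map_smul]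
    have h1 : (ψ : A →ₗ[k] H) ((φ : AQ →ₗ[k] A) q) =
        algebraMap k H (Coalgebra.counit (R := k) q) := psi_phi φ ψ hker q
    rw [h1, Algebra.algebraMap_eq_smul_one, TensorProduct.tmul_smul, TensorProduct.smul_tmul']
    rfl

/-- elements of the Hopf subalgebra are right coinvariants -/
lemma rco_of_mem_Bs
    (hker : RingHom.ker (ψ : A →ₐ[k] H) =
      Ideal.map (φ : AQ →ₐ[k] A) (RingHom.ker (Bialgebra.counitAlgHom k AQ)))
    {x : A} (hx : x ∈ Bs φ) : rco ψ x = x ⊗ₜ[k] (1 : H) := by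
  obtain ⟨q, rfl⟩ := hx
  change rco ψ (φ q) = φ q ⊗ₜ[k] (1 : H)
  rw [rco_apply, comul_map, lTensor_psi_map φ ψ hker, Coalgebra.lTensor_counit_comul,
    TensorProduct.rid_tmul, one_smul]

/-- `a ↦ Σ p(S a₁) a₂` -/
noncomputable def Ft (p : A →ₗ[k] A) : A →ₗ[k] A :=
  (toConv (p ∘ₗ HopfAlgebra.antipode k (A := A)) * toConv (LinearMap.id : A →ₗ[k] A)).ofConv

lemma Ft_apply (p : A →ₗ[k] A) (a : A) :
    Ft p a = LinearMap.mul' k A (TensorProduct.map (p ∘ₗ HopfAlgebra.antipode k (A := A))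
      LinearMap.id (Coalgebra.comul (R := k) a)) := rfl

lemma Ft_gen (p : A →ₗ[k] A) (hp : ∀ (q : AQ) (x : A), p (φ q * x) = φ q * p x)
    (s : AQ ⊗[k] AQ) (t : A ⊗[k] A) :
    LinearMap.mul' k A (TensorProduct.map (p ∘ₗ HopfAlgebra.antipode k (A := A)) LinearMap.id
      (TensorProduct.map (φ : AQ →ₗ[k] A) (φ : AQ →ₗ[k] A) s * t)) =
    φ (LinearMap.mul' k AQ ((HopfAlgebra.antipode k (A := AQ)).rTensor AQ s)) *
      LinearMap.mul' k A (TensorProduct.map (p ∘ₗ HopfAlgebra.antipode k (A := A))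
        LinearMap.id t) := by
  induction s using TensorProduct.induction_on with
  | zero => simp
  | add x y hx hy => simp only [map_add, add_mul, hx, hy]
  | tmul x y =>
    induction t using TensorProduct.induction_on with
    | zero => simp
    | add u v hu hv => simp only [map_add, mul_add, hu, hv]
    | tmul u v =>
      simp only [TensorProduct.map_tmul, Algebra.TensorProduct.tmul_mul_tmul, LinearMap.comp_apply,
        LinearMap.id_apply, LinearMap.mul'_apply, LinearMap.rTensor_tmul, map_mul]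
      have h1 : HopfAlgebra.antipode k ((φ : AQ →ₗ[k] A) x * u) =
          φ (HopfAlgebra.antipode k x) * HopfAlgebra.antipode k u := by
        rw [HopfAlgebra.antipode_mul_distrib]
        congr 1
        exact (Groth.Agent.Helper7.Takeuchi.map_antipode φ x).symm
      rw [h1, hp]
      change φ (HopfAlgebra.antipode k x) * p (HopfAlgebra.antipode k u) * (φ y * v) = _
      ring

lemma Ft_mul (p : A →ₗ[k] A) (hp : ∀ (q : AQ) (x : A), p (φ q * x) = φ q * p x)
    (q : AQ) (a : A) : Ft p (φ q * a) = Coalgebra.counit (R := k) q • Ft p a := by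
  rw [Ft_apply, Bialgebra.comul_mul, comul_map, Ft_gen φ p hp,
    HopfAlgebra.mul_antipode_rTensor_comul_apply, AlgHomClass.commutes, ← Ft_apply,
    Algebra.smul_def]

lemma Ft_ker (p : A →ₗ[k] A) (hp : ∀ (q : AQ) (x : A), p (φ q * x) = φ q * p x)
    (hker : RingHom.ker (ψ : A →ₐ[k] H) =
      Ideal.map (φ : AQ →ₐ[k] A) (RingHom.ker (Bialgebra.counitAlgHom k AQ)))
    {x : A} (hx : ψ x = 0) : Ft p x = 0 := by
  have hx' : x ∈ Ideal.map (φ : AQ →ₐ[k] A) (RingHom.ker (Bialgebra.counitAlgHom k AQ)) := by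
    rw [← hker]
    exact hx
  have key : ∀ y ∈ Ideal.map (φ : AQ →ₐ[k] A) (RingHom.ker (Bialgebra.counitAlgHom k AQ)),
      ∀ a : A, Ft p (a * y) = 0 := by
    intro y hy
    refine Submodule.span_induction ?_ ?_ ?_ ?_ hy
    · rintro _ ⟨q, hq, rfl⟩ a
      have hq0 : Coalgebra.counit (R := k) q = 0 := hq
      change Ft p (a * φ q) = 0
      rw [mul_comm, Ft_mul φ p hp, hq0, zero_smul]
    · intro a
      rw [mul_zero, map_zero]
    · intro y z _ _ hy hz a
      rw [mul_add, map_add, hy a, hz a, add_zero]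
    · intro r y _ hy a
      rw [smul_eq_mul, ← mul_assoc]
      exact hy (a * r)
  have := key x hx' 1
  rwa [one_mul] at this

/-- `A → A ⊗ H`, `a ↦ a ⊗ 1` -/
noncomputable abbrev i₁ (k A H : Type u) [Field k] [CommRing A] [Algebra k A] [CommRing H]
    [Algebra k H] : A →ₗ[k] A ⊗[k] H :=
  (Algebra.TensorProduct.includeLeft : A →ₐ[k] A ⊗[k] H).toLinearMap

/-- `H → A ⊗ H`, `h ↦ 1 ⊗ h` -/
noncomputable abbrev i₂ (k A H : Type u) [Field k] [CommRing A] [Algebra k A] [CommRing H]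
    [Algebra k H] : H →ₗ[k] A ⊗[k] H :=
  (Algebra.TensorProduct.includeRight : H →ₐ[k] A ⊗[k] H).toLinearMap

lemma mul'_map_i₁_i₂ (f : A →ₗ[k] A) (t : A ⊗[k] A) :
    LinearMap.mul' k (A ⊗[k] H) (TensorProduct.map (i₁ k A H ∘ₗ f)
      (i₂ k A H ∘ₗ (ψ : A →ₗ[k] H)) t) =
      TensorProduct.map f (ψ : A →ₗ[k] H) t := by
  induction t using TensorProduct.induction_on with
  | zero => simp
  | add x y hx hy => simp only [map_add, hx, hy]
  | tmul x y => simp [Algebra.TensorProduct.tmul_mul_tmul]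

/-- `rco` in convolution form -/
lemma rco_eq_conv :
    (rco ψ).toLinearMap =
      (toConv (i₁ k A H) * toConv (i₂ k A H ∘ₗ (ψ : A →ₗ[k] H))).ofConv := by
  apply LinearMap.ext
  intro a
  have h := mul'_map_i₁_i₂ (H := H) ψ (LinearMap.id : A →ₗ[k] A) (Coalgebra.comul (R := k) a)
  rw [LinearMap.comp_id] at h
  change rco ψ a = LinearMap.mul' k (A ⊗[k] H) (TensorProduct.map (i₁ k A H)
      (i₂ k A H ∘ₗ (ψ : A →ₗ[k] H)) (Coalgebra.comul (R := k) a))
  rw [h, rco_apply]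
  rfl

/-- **colinearity of `Ft`** : `rco (Ft a) = Σ Ft a₁ ⊗ ψ a₂` -/
theorem rco_Ft (p : A →ₗ[k] A) (hpB : ∀ x, p x ∈ Bs φ)
    (hker : RingHom.ker (ψ : A →ₐ[k] H) =
      Ideal.map (φ : AQ →ₐ[k] A) (RingHom.ker (Bialgebra.counitAlgHom k AQ)))
    (a : A) :
    rco ψ (Ft p a) = TensorProduct.map (Ft p) (ψ : A →ₗ[k] H) (Coalgebra.comul (R := k) a) := by
  have h1 : (rco ψ).toLinearMap ∘ₗ (p ∘ₗ HopfAlgebra.antipode k (A := A)) =
      i₁ k A H ∘ₗ (p ∘ₗ HopfAlgebra.antipode k (A := A)) := by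
    apply LinearMap.ext
    intro x
    exact rco_of_mem_Bs φ ψ hker (hpB _)
  have h2 : (rco ψ).toLinearMap ∘ₗ Ft p =
      (toConv (i₁ k A H ∘ₗ Ft p) * toConv (i₂ k A H ∘ₗ (ψ : A →ₗ[k] H))).ofConv := by
    have e1 := LinearMap.algHom_comp_convMul_distrib (rco ψ)
      (toConv (p ∘ₗ HopfAlgebra.antipode k (A := A))) (toConv (LinearMap.id : A →ₗ[k] A))
    have e2 := LinearMap.algHom_comp_convMul_distrib
      (Algebra.TensorProduct.includeLeft : A →ₐ[k] A ⊗[k] H)
      (toConv (p ∘ₗ HopfAlgebra.antipode k (A := A))) (toConv (LinearMap.id : A →ₗ[k] A))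
    simp only [LinearMap.comp_id] at e1 e2
    change (rco ψ).toLinearMap ∘ₗ Ft p = _ at e1
    change i₁ k A H ∘ₗ Ft p = _ at e2
    rw [e1, e2, h1, rco_eq_conv, toConv_ofConv, toConv_ofConv, mul_assoc]
  have h3 := LinearMap.congr_fun h2 a
  rw [LinearMap.comp_apply] at h3
  change rco ψ (Ft p a) = _ at h3
  rw [h3]
  exact mul'_map_i₁_i₂ ψ (Ft p) _

lemma lid_rTensor_lTensor (α : A →ₗ[k] k) (t : A ⊗[k] A) :
    TensorProduct.lid k H (α.rTensor H ((ψ : A →ₗ[k] H).lTensor A t)) =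
      ψ (TensorProduct.lid k A (α.rTensor A t)) := by
  induction t using TensorProduct.induction_on with
  | zero => simp
  | add x y hx hy => simp only [map_add, hx, hy]
  | tmul x y => simp

lemma rTensor_map_map (β : H →ₗ[k] k) (t : A ⊗[k] A) :
    β.rTensor H (TensorProduct.map (ψ : A →ₗ[k] H) (ψ : A →ₗ[k] H) t) =
      TensorProduct.map (β ∘ₗ (ψ : A →ₗ[k] H)) (ψ : A →ₗ[k] H) t := by
  induction t using TensorProduct.induction_on with
  | zero => simp
  | add x y hx hy => simp only [map_add, hx, hy]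
  | tmul x y => simp

lemma rTensor_map (α : A →ₗ[k] k) (f : A →ₗ[k] A) (t : A ⊗[k] A) :
    α.rTensor H (TensorProduct.map f (ψ : A →ₗ[k] H) t) =
      TensorProduct.map (α ∘ₗ f) (ψ : A →ₗ[k] H) t := by
  induction t using TensorProduct.induction_on with
  | zero => simp
  | add x y hx hy => simp only [map_add, hx, hy]
  | tmul x y => simp

/-- **the kernel of a quotient map of a cosemisimple commutative Hopf algebra has an integral** -/
theorem exists_integral_quot (hφ : Function.Injective φ) (hψ : Function.Surjective ψ)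
    (hker : RingHom.ker (ψ : A →ₐ[k] H) =
      Ideal.map (φ : AQ →ₐ[k] A) (RingHom.ker (Bialgebra.counitAlgHom k AQ)))
    {α : A →ₗ[k] k} (hα : IntL α) (h1 : α 1 = 1) (hss : HopfRep.IsSemisimpleComod k A A) :
    ∃ β : H →ₗ[k] k, IntL β ∧ β 1 = 1 := by
  obtain ⟨p, hpB, hpid, hplin⟩ := exists_proj φ hφ hα h1 hss
  have hsurj : LinearMap.range (ψ : A →ₗ[k] H) = ⊤ := LinearMap.range_eq_top.mpr hψ
  obtain ⟨σ, hσ⟩ := (ψ : A →ₗ[k] H).exists_rightInverse_of_surjective hsurj
  let β : H →ₗ[k] k := α ∘ₗ Ft p ∘ₗ σ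
  have hβψ : ∀ a : A, β (ψ a) = α (Ft p a) := by
    intro a
    have h2 : ψ (σ (ψ a) - a) = 0 := by
      rw [map_sub, sub_eq_zero]
      exact LinearMap.congr_fun hσ (ψ a)
    have h3 := Ft_ker φ ψ p hplin hker h2
    rw [map_sub, sub_eq_zero] at h3
    change α (Ft p (σ (ψ a))) = _
    rw [h3]
  have hβψ' : β ∘ₗ (ψ : A →ₗ[k] H) = α ∘ₗ Ft p := LinearMap.ext hβψ
  refine ⟨β, ?_, ?_⟩
  · intro h
    obtain ⟨a, rfl⟩ := hψ h
    rw [comul_map, rTensor_map_map, hβψ', ← rTensor_map, ← rco_Ft φ ψ p hpB hker, rco_apply,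
      lid_rTensor_lTensor, hα (Ft p a), map_smul, map_one, hβψ]
  · have h2 : β 1 = α (Ft p 1) := by
      have h3 := hβψ 1
      rwa [map_one] at h3
    rw [h2, Ft_apply, Bialgebra.comul_one, Algebra.TensorProduct.one_def, TensorProduct.map_tmul,
      LinearMap.mul'_apply, LinearMap.comp_apply, HopfAlgebra.antipode_one, LinearMap.id_apply,
      mul_one, hpid 1 ⟨1, map_one φ⟩, h1]

end

end Groth.Agent.Helper7.LRExt
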