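import Mathlib
import Groth.Agent.Helper7.LRExtC
import Groth.Agent.Helper2.TakEq

/-!
# Integral on an extension of cosemisimple commutative Hopf algebras (helper7)
-/

set_option autoImplicit false
set_option linter.unusedSectionVars false
universe u

namespace Groth.Agent.Helper7.LRExt

open TensorProduct Groth.Agent.Helper7.TakN

section

variable {k : Type u} [Field k] {AQ : Type u} [CommRing AQ] [HopfAlgebra k AQ]
  {A : Type u} [CommRing A] [HopfAlgebra k A] {H : Type u} [CommRing H] [HopfAlgebra k H]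
  (φ : AQ →ₐc[k] A) (ψ : A →ₐc[k] H)

/-- `h ⊗ v ↦ S v ⊗ S h` -/
noncomputable def tauSw : H ⊗[k] A →ₗ[k] A ⊗[k] H :=
  TensorProduct.map (HopfAlgebra.antipode k (A := A)) (HopfAlgebra.antipode k (A := H)) ∘ₗ
    (TensorProduct.comm k H A).toLinearMap

lemma lTensor_lift (t : A ⊗[k] A) :
    (ψ : A →ₗ[k] H).lTensor A
      (Algebra.TensorProduct.lift
        ((Algebra.TensorProduct.includeRight (R := k) (A := A) (B := A)).comp
          (HopfAlgebra.antipodeAlgHom k A))
        ((Algebra.TensorProduct.includeLeft (R := k) (S := k) (A := A) (B := A)).comp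
          (HopfAlgebra.antipodeAlgHom k A))
        (fun _ _ => .all ..) t) =
      tauSw (k := k) (A := A) (H := H) ((ψ : A →ₗ[k] H).rTensor A t) := by
  induction t using TensorProduct.induction_on with
  | zero => simp
  | add p q hp hq => simp only [map_add, hp, hq]
  | tmul p q =>
    simp only [Algebra.TensorProduct.lift_tmul, AlgHom.coe_comp, Function.comp_apply,
      Algebra.TensorProduct.includeRight_apply, Algebra.TensorProduct.includeLeft_apply,
      Algebra.TensorProduct.tmul_mul_tmul, one_mul, mul_one, LinearMap.lTensor_tmul,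
      LinearMap.rTensor_tmul, tauSw, LinearMap.comp_apply, LinearEquiv.coe_coe,
      TensorProduct.comm_tmul, TensorProduct.map_tmul]
    congr 1
    exact Groth.Agent.Helper7.Takeuchi.map_antipode ψ p

/-- the antipode turns left coinvariants into right coinvariants -/
lemma rco_antipode {x : A} (hx : lco ψ x = (1 : H) ⊗ₜ[k] x) :
    rco ψ (HopfAlgebra.antipode k x) = HopfAlgebra.antipode k x ⊗ₜ[k] (1 : H) := by
  rw [rco_apply, Groth.Agent.Helper2.HopfFG.comul_antipode, lTensor_lift, ← lco_apply, hx]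
  simp [tauSw, HopfAlgebra.antipode_one]

/-- left coinvariants lie in the Hopf subalgebra -/
theorem mem_Bs_of_lco
    (hker : RingHom.ker (ψ : A →ₐ[k] H) =
      Ideal.map (φ : AQ →ₐ[k] A) (RingHom.ker (Bialgebra.counitAlgHom k AQ)))
    {x : A} (hx : lco ψ x = (1 : H) ⊗ₜ[k] x) : x ∈ Bs φ := by
  set J : Ideal A := RingHom.ker (ψ : A →ₐ[k] H) with hJ
  set y : A := HopfAlgebra.antipode k x with hy
  have hry : rco ψ y = y ⊗ₜ[k] (1 : H) := rco_antipode ψ hx
  let ψb : A ⧸ J →ₐ[k] H := Ideal.Quotient.liftₐ J (ψ : A →ₐ[k] H) (fun a ha => ha)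
  have hψb : ∀ a : A, ψb (Ideal.Quotient.mkₐ k J a) = ψ a := fun a => rfl
  have hinj : Function.Injective ψb := by
    rw [injective_iff_map_eq_zero]
    intro z hz
    obtain ⟨a, rfl⟩ := Ideal.Quotient.mkₐ_surjective k J z
    rw [hψb] at hz
    exact Ideal.Quotient.eq_zero_iff_mem.mpr hz
  have hinj' : Function.Injective (ψb.toLinearMap.lTensor A) :=
    Module.Flat.lTensor_preserves_injective_linearMap _ hinj
  have hcomp : ∀ t : A ⊗[k] A, ψb.toLinearMap.lTensor A
      ((Ideal.Quotient.mkₐ k J).toLinearMap.lTensor A t) = (ψ : A →ₗ[k] H).lTensor A t := by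
    intro t
    rw [← LinearMap.lTensor_comp_apply]
    rfl
  have ha : LinearMap.lTensor A (Ideal.Quotient.mkₐ k J).toLinearMap (Coalgebra.comul (R := k) y) =
      y ⊗ₜ[k] (1 : A ⧸ J) := by
    apply hinj'
    rw [hcomp, ← rco_apply, hry, LinearMap.lTensor_tmul]
    congr 1
    exact (map_one ψb).symm
  obtain ⟨q, hq⟩ := Groth.Agent.Helper2.TakEq.mem_range_of_coinv φ J hker y ha
  have h2 : x = HopfAlgebra.antipode k y := (Groth.Agent.Helper2.HopfFG.antipode_antipode x).symm
  rw [h2]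
  exact antipode_mem_Bs φ ⟨q, hq⟩

end

/-! ### the integral on the extension -/

section

variable {k : Type u} [Field k] {AQ : Type u} [CommRing AQ] [HopfAlgebra k AQ]
  {A : Type u} [CommRing A] [HopfAlgebra k A] {H : Type u} [CommRing H] [HopfAlgebra k H]
  (φ : AQ →ₐc[k] A) (ψ : A →ₐc[k] H)

/-- `a ↦ Σ θ(a₁) a₂` -/
noncomputable def Eθ (θ : A →ₗ[k] k) : A →ₗ[k] A := Lα θ ∘ₗ Coalgebra.comul (R := k) (A := A)

lemma comul_Lα (θ : A →ₗ[k] k) (t : A ⊗[k] A) :
    Coalgebra.comul (R := k) (Lα θ t) =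
      TensorProduct.lid k (A ⊗[k] A) (θ.rTensor (A ⊗[k] A)
        ((Coalgebra.comul (R := k) (A := A)).lTensor A t)) := by
  induction t using TensorProduct.induction_on with
  | zero => simp
  | add p q hp hq => simp only [map_add, hp, hq]
  | tmul p q => simp

lemma rTensor_Lα_assoc (θ : A →ₗ[k] k) (u : A ⊗[k] (A ⊗[k] A)) :
    (Lα θ).rTensor A ((TensorProduct.assoc k A A A).symm u) =
      TensorProduct.lid k (A ⊗[k] A) (θ.rTensor (A ⊗[k] A) u) := by
  induction u using TensorProduct.induction_on with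
  | zero => simp
  | add p q hp hq => simp only [map_add, hp, hq]
  | tmul x z =>
    induction z using TensorProduct.induction_on with
    | zero => simp
    | add p q hp hq => simp only [TensorProduct.tmul_add, map_add, hp, hq]
    | tmul y w => simp [TensorProduct.smul_tmul']

/-- `Σ E(a₁) ⊗ a₂ = Δ(E a)` -/
lemma rTensor_Eθ_comul (θ : A →ₗ[k] k) (a : A) :
    (Eθ θ).rTensor A (Coalgebra.comul (R := k) a) = Coalgebra.comul (R := k) (Eθ θ a) := by
  have h1 : (Eθ θ).rTensor A (Coalgebra.comul (R := k) a) =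
      (Lα θ).rTensor A ((Coalgebra.comul (R := k) (A := A)).rTensor A
        (Coalgebra.comul (R := k) a)) := by
    rw [← LinearMap.rTensor_comp_apply]
    rfl
  rw [h1, ← Coalgebra.coassoc_symm_apply, rTensor_Lα_assoc]
  change _ = Coalgebra.comul (R := k) (Lα θ (Coalgebra.comul (R := k) a))
  rw [comul_Lα]

lemma psi_Lα (β : H →ₗ[k] k) (t : A ⊗[k] A) :
    ψ (Lα (β ∘ₗ (ψ : A →ₗ[k] H)) t) =
      Lα β (TensorProduct.map (ψ : A →ₗ[k] H) (ψ : A →ₗ[k] H) t) := by
  induction t using TensorProduct.induction_on with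
  | zero => simp
  | add p q hp hq => simp only [map_add, hp, hq]
  | tmul p q => simp

lemma rTensor_smul_one (θ : A →ₗ[k] k) (ν : A →ₗ[k] H) (hν : ∀ x, ν x = θ x • (1 : H))
    (t : A ⊗[k] A) : ν.rTensor A t = (1 : H) ⊗ₜ[k] Lα θ t := by
  induction t using TensorProduct.induction_on with
  | zero => simp
  | add p q hp hq => simp only [map_add, hp, hq, TensorProduct.tmul_add]
  | tmul p q => simp [hν, TensorProduct.smul_tmul']

/-- `E a` is a left coinvariant -/
lemma lco_Eθ {β : H →ₗ[k] k} (hβ : IntL β) (a : A) :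
    lco ψ (Eθ (β ∘ₗ (ψ : A →ₗ[k] H)) a) = (1 : H) ⊗ₜ[k] Eθ (β ∘ₗ (ψ : A →ₗ[k] H)) a := by
  set θ : A →ₗ[k] k := β ∘ₗ (ψ : A →ₗ[k] H) with hθ
  have hν : ∀ x : A, ((ψ : A →ₗ[k] H) ∘ₗ Eθ θ) x = θ x • (1 : H) := by
    intro x
    change ψ (Lα θ (Coalgebra.comul (R := k) x)) = _
    rw [hθ, psi_Lα, ← comul_map]
    exact hβ (ψ x)
  rw [lco_apply, ← rTensor_Eθ_comul, ← LinearMap.rTensor_comp_apply,
    rTensor_smul_one θ _ hν]
  rfl

end

section

variable {k : Type u} [Field k] {AQ : Type u} [CommRing AQ] [HopfAlgebra k AQ]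
  {A : Type u} [CommRing A] [HopfAlgebra k A] {H : Type u} [CommRing H] [HopfAlgebra k H]
  (φ : AQ →ₐc[k] A) (ψ : A →ₐc[k] H)

lemma lid_rTensor_lTensor' (γ : AQ →ₗ[k] k) (s : AQ ⊗[k] AQ) :
    TensorProduct.lid k A (γ.rTensor A ((φ : AQ →ₗ[k] A).lTensor AQ s)) =
      φ (TensorProduct.lid k AQ (γ.rTensor AQ s)) := by
  induction s using TensorProduct.induction_on with
  | zero => simp
  | add p q hp hq => simp only [map_add, hp, hq]
  | tmul p q => simp

/-- **an extension of cosemisimple commutative Hopf algebras has an integral** -/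
theorem exists_integral_ext (hφ : Function.Injective φ)
    (hker : RingHom.ker (ψ : A →ₐ[k] H) =
      Ideal.map (φ : AQ →ₐ[k] A) (RingHom.ker (Bialgebra.counitAlgHom k AQ)))
    {β : H →ₗ[k] k} (hβ : IntL β) (hβ1 : β 1 = 1)
    {γ : AQ →ₗ[k] k} (hγ : IntL γ) (hγ1 : γ 1 = 1) :
    ∃ α : A →ₗ[k] k, IntL α ∧ α 1 = 1 := by
  set θ : A →ₗ[k] k := β ∘ₗ (ψ : A →ₗ[k] H) with hθ
  have hE : ∀ a, Eθ θ a ∈ LinearMap.range (φ : AQ →ₗ[k] A) := fun a =>
    mem_Bs_of_lco φ ψ hker (lco_Eθ ψ hβ a)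
  have hφ' : Function.Injective (φ : AQ →ₗ[k] A) := hφ
  let eφ : AQ ≃ₗ[k] LinearMap.range (φ : AQ →ₗ[k] A) := LinearEquiv.ofInjective _ hφ'
  let E' : A →ₗ[k] LinearMap.range (φ : AQ →ₗ[k] A) := (Eθ θ).codRestrict _ hE
  let Q : A →ₗ[k] AQ := eφ.symm.toLinearMap ∘ₗ E'
  have hQ : ∀ a, φ (Q a) = Eθ θ a := by
    intro a
    have h1 : (eφ (eφ.symm (E' a)) : A) = φ (eφ.symm (E' a)) := rfl
    rw [LinearEquiv.apply_symm_apply] at h1
    exact h1.symm
  have hQ' : (φ : AQ →ₗ[k] A) ∘ₗ Q = Eθ θ := LinearMap.ext hQ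
  have hinj : Function.Injective ((φ : AQ →ₗ[k] A).rTensor A) :=
    Module.Flat.rTensor_preserves_injective_linearMap _ hφ'
  have key : ∀ a : A, Q.rTensor A (Coalgebra.comul (R := k) a) =
      (φ : AQ →ₗ[k] A).lTensor AQ (Coalgebra.comul (R := k) (Q a)) := by
    intro a
    apply hinj
    rw [← LinearMap.rTensor_comp_apply, hQ', rTensor_Eθ_comul, ← hQ a, comul_map]
    generalize Coalgebra.comul (R := k) (Q a) = s
    induction s using TensorProduct.induction_on with
    | zero => simp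
    | add p q hp hq => simp only [map_add, hp, hq]
    | tmul p q => simp
  refine ⟨γ ∘ₗ Q, ?_, ?_⟩
  · intro a
    rw [LinearMap.rTensor_comp_apply, key, lid_rTensor_lTensor', hγ (Q a), map_smul, map_one]
    rfl
  · have h1 : Eθ θ 1 = 1 := by
      change Lα θ (Coalgebra.comul (R := k) (1 : A)) = 1
      rw [Bialgebra.comul_one, Algebra.TensorProduct.one_def, Lα_tmul, hθ, LinearMap.comp_apply]
      have : (ψ : A →ₗ[k] H) 1 = 1 := map_one ψ
      rw [this, hβ1, one_smul]
    have h2 : Q 1 = 1 := by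
      apply hφ
      rw [hQ, h1, map_one]
    rw [LinearMap.comp_apply, h2, hγ1]

end

end Groth.Agent.Helper7.LRExt
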