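import Mathlib
import Groth.Agent.Helper7.LRExtD
import Groth.Agent.Helper9.LRint

/-!
# Linear reductivity in exact sequences of affine group schemes over a field (helper7)
-/

set_option autoImplicit false
set_option linter.unusedSectionVars false
universe u

namespace Groth.Agent.Helper7.LRExt

open TensorProduct

section

variable {k : Type u} [Field k] {A : Type u} [CommRing A] [HopfAlgebra k A]

/-- linear reductivity gives a normalised left integral -/
theorem exists_intL (h : HopfRep.IsLinearlyReductive k A) :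
    ∃ α : A →ₗ[k] k, IntL α ∧ α 1 = 1 := by
  obtain ⟨α, hα⟩ := Groth.Agent.Helper9.exists_integral h
  exact ⟨α, fun a => Groth.Agent.Helper9.Integral.alpha_inv α hα.1 a, hα.2⟩

/-- a normalised left integral gives linear reductivity -/
theorem isLinearlyReductive_of_intL {α : A →ₗ[k] k} (hα : IntL α) (h1 : α 1 = 1) :
    HopfRep.IsLinearlyReductive k A := by
  have hT : Groth.Agent.Helper9.IntegralBC.IsTotalIntegral k A α := by
    rw [Groth.Agent.Helper9.IntegralBC.isTotalIntegral_iff]
    refine ⟨fun a => ?_, h1⟩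
    apply (TensorProduct.lid k A).injective
    rw [hα a, TensorProduct.lid_tmul]
  intro V _ _ _ _
  exact Groth.Agent.Helper9.Integral.semisimple α hT.1 hT.2

theorem isSemisimpleComod_self (h : HopfRep.IsLinearlyReductive k A) :
    HopfRep.IsSemisimpleComod k A A :=
  Groth.Agent.Helper9.semisimple_of_finite (fun V' _ _ _ hf => h V' hf)

end

section

variable {k : Type u} [Field k] {AQ : Type u} [CommRing AQ] [HopfAlgebra k AQ]
  {A : Type u} [CommRing A] [HopfAlgebra k A] {H : Type u} [CommRing H] [HopfAlgebra k H]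
  (φ : AQ →ₐc[k] A) (ψ : A →ₐc[k] H)

/-- **linear reductivity in an exact sequence `1 → K → G → Q → 1`** -/
theorem main (hφ : Function.Injective φ) (hψ : Function.Surjective ψ)
    (hker : RingHom.ker (ψ : A →ₐ[k] H) =
      Ideal.map (φ : AQ →ₐ[k] A) (RingHom.ker (Bialgebra.counitAlgHom k AQ))) :
    HopfRep.IsLinearlyReductive k A ↔
      HopfRep.IsLinearlyReductive k H ∧ HopfRep.IsLinearlyReductive k AQ := by
  constructor
  · intro hG
    obtain ⟨α, hα, h1⟩ := exists_intL hG
    constructor
    · obtain ⟨β, hβ, hβ1⟩ := exists_integral_quot φ ψ hφ hψ hker hα h1 (isSemisimpleComod_self hG)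
      exact isLinearlyReductive_of_intL hβ hβ1
    · refine isLinearlyReductive_of_intL (intL_comp φ hφ hα) ?_
      rw [LinearMap.comp_apply]
      have : (φ : AQ →ₗ[k] A) 1 = 1 := map_one φ
      rw [this, h1]
  · rintro ⟨hK, hQ⟩
    obtain ⟨β, hβ, hβ1⟩ := exists_intL hK
    obtain ⟨γ, hγ, hγ1⟩ := exists_intL hQ
    obtain ⟨α, hα, h1⟩ := exists_integral_ext φ ψ hφ hker hβ hβ1 hγ hγ1
    exact isLinearlyReductive_of_intL hα h1

end

end Groth.Agent.Helper7.LRExt
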