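import Mathlib
set_option autoImplicit false
open LaurentPolynomial

namespace Groth.Agent.Helper7.PPLa

variable {L : Type*} [Field L]

/-- ring homs out of Laurent polynomials are determined by `C` and `T 1` -/
theorem ringHom_ext {S : Type*} [Semiring S] (φ ψ : L[T;T⁻¹] →+* S)
    (hC : ∀ a, φ (C a) = ψ (C a)) (hT : φ (T 1) = ψ (T 1)) (hT' : φ (T (-1)) = ψ (T (-1))) :
    φ = ψ := by
  have hTn : ∀ n : ℕ, φ (T n) = ψ (T n) := by
    intro n
    have : (T (n : ℤ) : L[T;T⁻¹]) = T 1 ^ n := by rw [T_pow, mul_one]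
    rw [this, map_pow, map_pow, hT]
  have hTn' : ∀ n : ℕ, φ (T (-(n : ℤ))) = ψ (T (-(n : ℤ))) := by
    intro n
    have : (T (-(n : ℤ)) : L[T;T⁻¹]) = T (-1) ^ n := by rw [T_pow, mul_neg, mul_one]
    rw [this, map_pow, map_pow, hT']
  have hTz : ∀ n : ℤ, φ (T n) = ψ (T n) := by
    intro n
    rcases Int.le_total 0 n with h | h
    · lift n to ℕ using h
      exact hTn n
    · obtain ⟨m, rfl⟩ := Int.exists_eq_neg_ofNat h
      exact hTn' m
  refine RingHom.ext fun f => ?_
  induction f using LaurentPolynomial.induction_on' with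
  | add p q hp hq => rw [map_add, map_add, hp, hq]
  | C_mul_T n a => rw [map_mul, map_mul, hC, hTz]

/-- units of the Laurent polynomial ring over a field are monomials -/
theorem exists_of_isUnit {f : L[T;T⁻¹]} (hf : IsUnit f) :
    ∃ (c : L) (n : ℤ), c ≠ 0 ∧ f = C c * T n := by
  obtain ⟨g, hfg⟩ := hf.exists_right_inv
  obtain ⟨m, p, hp⟩ := exists_T_pow f
  obtain ⟨m', p', hp'⟩ := exists_T_pow g
  have h1 : p * p' = Polynomial.X ^ (m + m') := by
    apply Polynomial.toLaurent_injective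
    rw [map_mul, hp, hp', Polynomial.toLaurent_X_pow]
    calc f * T m * (g * T m') = (f * g) * (T m * T m') := by ring
      _ = T ((m + m' : ℕ) : ℤ) := by rw [hfg, one_mul, ← T_add, Nat.cast_add]
  have h2 : p ∣ Polynomial.X ^ (m + m') := ⟨p', h1.symm⟩
  obtain ⟨j, hj, hassoc⟩ := (dvd_prime_pow Polynomial.prime_X _).mp h2
  obtain ⟨u, hu⟩ := hassoc.symm
  obtain ⟨c, hc, hcu⟩ := Polynomial.isUnit_iff.mp u.isUnit
  refine ⟨c, (j : ℤ) - m, hc.ne_zero, ?_⟩
  have h3 : f * T m = C c * T j := by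
    rw [← hp, ← hu, ← hcu, map_mul, Polynomial.toLaurent_X_pow, Polynomial.toLaurent_C, mul_comm]
  calc f = f * T m * T (-(m : ℤ)) := by rw [mul_T_assoc, add_neg_cancel, T_zero, mul_one]
    _ = C c * T j * T (-(m : ℤ)) := by rw [h3]
    _ = C c * T ((j : ℤ) - m) := by rw [mul_T_assoc, sub_eq_add_neg]

theorem C_mul_T_injective {c c' : L} {n n' : ℤ} (hc : c ≠ 0)
    (h : (C c * T n : L[T;T⁻¹]) = C c' * T n') : c = c' ∧ n = n' := by
  have hc' : c' ≠ 0 := by
    rintro rfl
    rw [map_zero, zero_mul] at h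
    have := degree_C_mul_T n c hc
    rw [h, degree_zero] at this
    exact WithBot.bot_ne_coe this
  have h1 := degree_C_mul_T n c hc
  have h2 := degree_C_mul_T n' c' hc'
  rw [h, h2] at h1
  have hn : n = n' := (WithBot.coe_injective h1).symm
  subst hn
  refine ⟨?_, rfl⟩
  have h3 : (C c : L[T;T⁻¹]) = C c' := by
    have := congrArg (· * T (-n)) h
    simpa [mul_T_assoc] using this
  have := congrArg (fun f : L[T;T⁻¹] => f.coeff 0) h3
  simpa using this

end Groth.Agent.Helper7.PPLa
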