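import Mathlib
import Groth.Agent.Helper7.PPLa
set_option autoImplicit false

namespace Groth.Agent.Helper7.LUa

open AddMonoidAlgebra

section CI
variable {A : Type*} [CommRing A] {G H : Type*}

/-- elements of `A[G]` all of whose coefficients lie in `I` -/
noncomputable def cI [AddCommMonoid G] (I : Ideal A) : Ideal (AddMonoidAlgebra A G) :=
  RingHom.ker (AddMonoidAlgebra.mapRingHom G (Ideal.Quotient.mk I))

theorem mem_cI [AddCommMonoid G] {I : Ideal A} {x : AddMonoidAlgebra A G} :
    x ∈ cI I ↔ ∀ m, x.coeff m ∈ I := by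
  rw [cI, RingHom.mem_ker]
  constructor
  · intro h m
    have := congrArg (fun y => y.coeff m) h
    simpa [Ideal.Quotient.eq_zero_iff_mem] using this
  · intro h
    ext m
    simpa [Ideal.Quotient.eq_zero_iff_mem] using h m

theorem cI_mono [AddCommMonoid G] {I J : Ideal A} (h : I ≤ J) :
    (cI I : Ideal (AddMonoidAlgebra A G)) ≤ cI J := by
  intro x hx
  rw [mem_cI] at hx ⊢
  exact fun m => h (hx m)

theorem eq_zero_of_mem_cI_bot [AddCommMonoid G] {x : AddMonoidAlgebra A G}
    (hx : x ∈ cI (⊥ : Ideal A)) : x = 0 := by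
  rw [mem_cI] at hx
  ext m
  simpa using hx m

theorem mul_mem_cI [AddCommGroup G] {I J : Ideal A} {x y : AddMonoidAlgebra A G}
    (hx : x ∈ cI I) (hy : y ∈ cI J) : x * y ∈ cI (I * J) := by
  rw [mem_cI] at hx hy
  rw [← sum_coeff_single x, Finsupp.sum, Finset.sum_mul]
  refine Ideal.sum_mem _ fun a _ => ?_
  rw [mem_cI]
  intro m
  rw [coeff_single_mul_apply]
  exact Ideal.mul_mem_mul (hx a) (hy _)

theorem pow_mem_cI [AddCommGroup G] {I : Ideal A} {x : AddMonoidAlgebra A G}
    (hx : x ∈ cI I) (n : ℕ) : x ^ n ∈ cI (I ^ n) := by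
  induction n with
  | zero => simp [mem_cI]
  | succ n ih =>
    rw [pow_succ, pow_succ]
    exact mul_mem_cI ih hx

theorem mapDomain_mem_cI [AddCommMonoid G] [AddCommMonoid H] {I : Ideal A} (f : G →+ H)
    {x : AddMonoidAlgebra A G} (hx : x ∈ cI I) :
    AddMonoidAlgebra.mapDomainRingHom A f x ∈ cI I := by
  rw [cI, RingHom.mem_ker] at hx ⊢
  have := congrArg (fun φ => φ x) (mapRingHom_comp_mapDomainRingHom (Ideal.Quotient.mk I) f)
  simp only [RingHom.comp_apply] at this
  rw [this, hx, map_zero]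

theorem comapDomain_mem_cI [AddCommMonoid G] [AddCommMonoid H] {I : Ideal A} (f : G → H)
    (hf : Function.Injective f)
    {x : AddMonoidAlgebra A H} (hx : x ∈ cI I) :
    AddMonoidAlgebra.comapDomain f hf x ∈ cI I := by
  rw [mem_cI] at hx ⊢
  intro m
  rw [coeff_comapDomain, Finsupp.comapDomain_apply]
  exact hx _

end CI

section Units
variable {K : Type*} [Field K]

/-- units of `K[ℤ²]` are monomials -/
theorem exists_single_of_isUnit (u : AddMonoidAlgebra K (Fin 2 → ℤ)) (hu : IsUnit u) :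
    ∃ (m : Fin 2 → ℤ) (c : K), c ≠ 0 ∧ u = single m c := by
  classical
  set S := u.coeff.support with hS
  set B : ℤ := ∑ a ∈ S, |a 0| with hB
  have hBle : ∀ a ∈ S, |a 0| ≤ B := fun a ha =>
    Finset.single_le_sum (f := fun a : Fin 2 → ℤ => |a 0|) (fun _ _ => abs_nonneg _) ha
  let lam : (Fin 2 → ℤ) →+ ℤ :=
    { toFun := fun v => v 0 + (1 + 2 * B) * v 1
      map_zero' := by simp
      map_add' := by intro v w; simp only [Pi.add_apply]; ring }
  have hinj : Set.InjOn lam (S : Set (Fin 2 → ℤ)) := by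
    intro a ha a' ha' h
    have h' : a 0 + (1 + 2 * B) * a 1 = a' 0 + (1 + 2 * B) * a' 1 := h
    have h1 := hBle a ha
    have h2 := hBle a' ha'
    have hB0 : 0 ≤ B := le_trans (abs_nonneg _) h1
    have e1 : a 1 = a' 1 := by
      by_contra hne
      have h3 : (1 + 2 * B) * (a 1 - a' 1) = a' 0 - a 0 := by linarith
      have h4 : 1 ≤ |a 1 - a' 1| := Int.one_le_abs (sub_ne_zero.mpr hne)
      have h5 : |(1 + 2 * B) * (a 1 - a' 1)| = (1 + 2 * B) * |a 1 - a' 1| := by
        rw [abs_mul, abs_of_nonneg (by linarith)]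
      have h6 : |a' 0 - a 0| ≤ |a' 0| + |a 0| := abs_sub _ _
      rw [h3] at h5
      nlinarith
    have e0 : a 0 = a' 0 := by
      rw [e1] at h'
      linarith
    funext i
    fin_cases i
    · exact e0
    · exact e1
  have hw : IsUnit (AddMonoidAlgebra.mapDomainRingHom K lam u) := hu.map _
  obtain ⟨c, n, hc, hcn⟩ := Groth.Agent.Helper7.PPLa.exists_of_isUnit (L := K) hw
  rw [← LaurentPolynomial.single_eq_C_mul_T] at hcn
  have hsupp : (AddMonoidAlgebra.mapDomainRingHom K lam u).coeff.support = S.image lam := by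
    rw [mapDomainRingHom_apply, coeff_mapDomain]
    exact Finsupp.mapDomain_support_of_injOn _ hinj
  have hcard : S.card = 1 := by
    rw [← Finset.card_image_of_injOn hinj, ← hsupp, hcn, coeff_single,
      Finsupp.support_single _ hc, Finset.card_singleton]
  obtain ⟨m, b, hb, hmb⟩ := Finsupp.card_support_eq_one'.mp hcard
  refine ⟨m, b, hb, ?_⟩
  ext x
  rw [hmb, coeff_single]

end Units

end Groth.Agent.Helper7.LUa
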