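import Mathlib
import Groth.Agent.Helper7.LUa
set_option autoImplicit false

namespace Groth.Agent.Helper7.LUb

open AddMonoidAlgebra

/-! the seven coface maps on exponent lattices -/
noncomputable abbrev e0 : (Fin 1 → ℤ) →+ (Fin 2 → ℤ) :=
  (Matrix.mulVecLin (!![0; 1] : Matrix (Fin 2) (Fin 1) ℤ)).toAddMonoidHom
noncomputable abbrev e1 : (Fin 1 → ℤ) →+ (Fin 2 → ℤ) :=
  (Matrix.mulVecLin (!![1; 1] : Matrix (Fin 2) (Fin 1) ℤ)).toAddMonoidHom
noncomputable abbrev e2 : (Fin 1 → ℤ) →+ (Fin 2 → ℤ) :=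
  (Matrix.mulVecLin (!![1; 0] : Matrix (Fin 2) (Fin 1) ℤ)).toAddMonoidHom
noncomputable abbrev d0 : (Fin 2 → ℤ) →+ (Fin 3 → ℤ) :=
  (Matrix.mulVecLin (!![0, 0; 1, 0; 0, 1] : Matrix (Fin 3) (Fin 2) ℤ)).toAddMonoidHom
noncomputable abbrev d1 : (Fin 2 → ℤ) →+ (Fin 3 → ℤ) :=
  (Matrix.mulVecLin (!![1, 0; 1, 0; 0, 1] : Matrix (Fin 3) (Fin 2) ℤ)).toAddMonoidHom
noncomputable abbrev d2 : (Fin 2 → ℤ) →+ (Fin 3 → ℤ) :=
  (Matrix.mulVecLin (!![1, 0; 0, 1; 0, 1] : Matrix (Fin 3) (Fin 2) ℤ)).toAddMonoidHom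
noncomputable abbrev d3 : (Fin 2 → ℤ) →+ (Fin 3 → ℤ) :=
  (Matrix.mulVecLin (!![1, 0; 0, 1; 0, 0] : Matrix (Fin 3) (Fin 2) ℤ)).toAddMonoidHom

theorem e0_apply (v : Fin 1 → ℤ) : e0 v = ![0, v 0] := by
  ext i; fin_cases i <;> simp [e0, Matrix.mulVec, dotProduct]
theorem e1_apply (v : Fin 1 → ℤ) : e1 v = ![v 0, v 0] := by
  ext i; fin_cases i <;> simp [e1, Matrix.mulVec, dotProduct]
theorem e2_apply (v : Fin 1 → ℤ) : e2 v = ![v 0, 0] := by
  ext i; fin_cases i <;> simp [e2, Matrix.mulVec, dotProduct]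
theorem d0_apply (v : Fin 2 → ℤ) : d0 v = ![0, v 0, v 1] := by
  ext i; fin_cases i <;> simp [d0, Matrix.mulVec, dotProduct, Fin.sum_univ_succ]
theorem d1_apply (v : Fin 2 → ℤ) : d1 v = ![v 0, v 0, v 1] := by
  ext i; fin_cases i <;> simp [d1, Matrix.mulVec, dotProduct, Fin.sum_univ_succ]
theorem d2_apply (v : Fin 2 → ℤ) : d2 v = ![v 0, v 1, v 1] := by
  ext i; fin_cases i <;> simp [d2, Matrix.mulVec, dotProduct, Fin.sum_univ_succ]
theorem d3_apply (v : Fin 2 → ℤ) : d3 v = ![v 0, v 1, 0] := by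
  ext i; fin_cases i <;> simp [d3, Matrix.mulVec, dotProduct, Fin.sum_univ_succ]

theorem eta1 (p : Fin 1 → ℤ) : ![p 0] = p := by
  ext i; fin_cases i; rfl
theorem eta2 (p : Fin 2 → ℤ) : ![p 0, p 1] = p := by
  ext i; fin_cases i <;> rfl
theorem eta3 (p : Fin 3 → ℤ) : ![p 0, p 1, p 2] = p := by
  ext i; fin_cases i <;> rfl

section coeff
variable {A : Type*} [CommRing A] {G H : Type*}

theorem coeff_mapDomain_eq (f : G → H) (r : H → G) (hr : ∀ g, r (f g) = g)
    (x : AddMonoidAlgebra A G) (p : H) (hp : f (r p) = p) :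
    (mapDomain f x).coeff p = x.coeff (r p) := by
  have hinj : Function.Injective f := Function.LeftInverse.injective hr
  rw [coeff_mapDomain]
  conv_lhs => rw [← hp]
  exact Finsupp.mapDomain_apply hinj _ _

theorem coeff_mapDomain_eq_zero (f : G → H)
    (x : AddMonoidAlgebra A G) (p : H) (hp : ∀ g, f g ≠ p) :
    (mapDomain f x).coeff p = 0 := by
  rw [coeff_mapDomain]
  apply Finsupp.mapDomain_of_notMem_range
  rintro ⟨g, hg⟩
  exact hp g hg

theorem coeff_mapDomain_ite (f : G → H) (r : H → G) (hr : ∀ g, r (f g) = g)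
    (x : AddMonoidAlgebra A G) (p : H) [Decidable (f (r p) = p)] :
    (mapDomain f x).coeff p = if f (r p) = p then x.coeff (r p) else 0 := by
  split_ifs with h
  · exact coeff_mapDomain_eq f r hr x p h
  · apply coeff_mapDomain_eq_zero
    intro g hg
    apply h
    rw [← hg, hr]

end coeff

theorem vec2_eq_iff (a b : ℤ) (p : Fin 2 → ℤ) : ![a, b] = p ↔ a = p 0 ∧ b = p 1 := by
  constructor
  · rintro rfl; exact ⟨rfl, rfl⟩
  · rintro ⟨rfl, rfl⟩; exact eta2 p

theorem vec3_eq_iff (a b c : ℤ) (p : Fin 3 → ℤ) :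
    ![a, b, c] = p ↔ a = p 0 ∧ b = p 1 ∧ c = p 2 := by
  constructor
  · rintro rfl; exact ⟨rfl, rfl, rfl⟩
  · rintro ⟨rfl, rfl, rfl⟩; exact eta3 p

section maps
variable (A : Type*) [CommRing A]

noncomputable abbrev E0 := AddMonoidAlgebra.mapDomainRingHom A e0
noncomputable abbrev E1 := AddMonoidAlgebra.mapDomainRingHom A e1
noncomputable abbrev E2 := AddMonoidAlgebra.mapDomainRingHom A e2
noncomputable abbrev D0 := AddMonoidAlgebra.mapDomainRingHom A d0
noncomputable abbrev D1 := AddMonoidAlgebra.mapDomainRingHom A d1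
noncomputable abbrev D2 := AddMonoidAlgebra.mapDomainRingHom A d2
noncomputable abbrev D3 := AddMonoidAlgebra.mapDomainRingHom A d3

variable {A}

theorem coeff_E0 (g : AddMonoidAlgebra A (Fin 1 → ℤ)) (p : Fin 2 → ℤ) :
    (E0 A g).coeff p = if p 0 = 0 then g.coeff ![p 1] else 0 := by
  classical
  rw [mapDomainRingHom_apply,
    coeff_mapDomain_ite e0 (fun p => ![p 1]) (fun g => by rw [e0_apply]; exact eta1 g) g p]
  have : e0 ![p 1] = p ↔ p 0 = 0 := by
    rw [e0_apply, vec2_eq_iff]; simp [eq_comm]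
  simp only [this]

theorem coeff_E1 (g : AddMonoidAlgebra A (Fin 1 → ℤ)) (p : Fin 2 → ℤ) :
    (E1 A g).coeff p = if p 0 = p 1 then g.coeff ![p 0] else 0 := by
  classical
  rw [mapDomainRingHom_apply,
    coeff_mapDomain_ite e1 (fun p => ![p 0]) (fun g => by rw [e1_apply]; exact eta1 g) g p]
  have : e1 ![p 0] = p ↔ p 0 = p 1 := by
    rw [e1_apply, vec2_eq_iff]; simp
  simp only [this]

theorem coeff_E2 (g : AddMonoidAlgebra A (Fin 1 → ℤ)) (p : Fin 2 → ℤ) :
    (E2 A g).coeff p = if p 1 = 0 then g.coeff ![p 0] else 0 := by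
  classical
  rw [mapDomainRingHom_apply,
    coeff_mapDomain_ite e2 (fun p => ![p 0]) (fun g => by rw [e2_apply]; exact eta1 g) g p]
  have : e2 ![p 0] = p ↔ p 1 = 0 := by
    rw [e2_apply, vec2_eq_iff]; simp [eq_comm]
  simp only [this]

theorem coeff_D0 (x : AddMonoidAlgebra A (Fin 2 → ℤ)) (p : Fin 3 → ℤ) :
    (D0 A x).coeff p = if p 0 = 0 then x.coeff ![p 1, p 2] else 0 := by
  classical
  rw [mapDomainRingHom_apply,
    coeff_mapDomain_ite d0 (fun p => ![p 1, p 2]) (fun g => by rw [d0_apply]; exact eta2 g) x p]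
  have : d0 ![p 1, p 2] = p ↔ p 0 = 0 := by
    rw [d0_apply, vec3_eq_iff]; simp [eq_comm]
  simp only [this]

theorem coeff_D1 (x : AddMonoidAlgebra A (Fin 2 → ℤ)) (p : Fin 3 → ℤ) :
    (D1 A x).coeff p = if p 0 = p 1 then x.coeff ![p 0, p 2] else 0 := by
  classical
  rw [mapDomainRingHom_apply,
    coeff_mapDomain_ite d1 (fun p => ![p 0, p 2]) (fun g => by rw [d1_apply]; exact eta2 g) x p]
  have : d1 ![p 0, p 2] = p ↔ p 0 = p 1 := by
    rw [d1_apply, vec3_eq_iff]; simp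
  simp only [this]

theorem coeff_D2 (x : AddMonoidAlgebra A (Fin 2 → ℤ)) (p : Fin 3 → ℤ) :
    (D2 A x).coeff p = if p 1 = p 2 then x.coeff ![p 0, p 1] else 0 := by
  classical
  rw [mapDomainRingHom_apply,
    coeff_mapDomain_ite d2 (fun p => ![p 0, p 1]) (fun g => by rw [d2_apply]; exact eta2 g) x p]
  have : d2 ![p 0, p 1] = p ↔ p 1 = p 2 := by
    rw [d2_apply, vec3_eq_iff]; simp
  simp only [this]

theorem coeff_D3 (x : AddMonoidAlgebra A (Fin 2 → ℤ)) (p : Fin 3 → ℤ) :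
    (D3 A x).coeff p = if p 2 = 0 then x.coeff ![p 0, p 1] else 0 := by
  classical
  rw [mapDomainRingHom_apply,
    coeff_mapDomain_ite d3 (fun p => ![p 0, p 1]) (fun g => by rw [d3_apply]; exact eta2 g) x p]
  have : d3 ![p 0, p 1] = p ↔ p 2 = 0 := by
    rw [d3_apply, vec3_eq_iff]; simp [eq_comm]
  simp only [this]

theorem e2_injective : Function.Injective e2 := by
  intro v w h
  rw [e2_apply, e2_apply] at h
  have := congrFun h 0
  ext i; fin_cases i; simpa using this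

theorem d3_injective : Function.Injective d3 := by
  intro v w h
  rw [d3_apply, d3_apply] at h
  have h0 := congrFun h 0
  have h1 := congrFun h 1
  ext i; fin_cases i
  · simpa using h0
  · simpa using h1

/-- the contraction `R₂ → R₁` -/
noncomputable def s1 (x : AddMonoidAlgebra A (Fin 2 → ℤ)) : AddMonoidAlgebra A (Fin 1 → ℤ) :=
  comapDomain e2 e2_injective x

/-- the contraction `R₃ → R₂` -/
noncomputable def s2 (x : AddMonoidAlgebra A (Fin 3 → ℤ)) : AddMonoidAlgebra A (Fin 2 → ℤ) :=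
  comapDomain d3 d3_injective x

theorem coeff_s1 (x : AddMonoidAlgebra A (Fin 2 → ℤ)) (p : Fin 1 → ℤ) :
    (s1 x).coeff p = x.coeff ![p 0, 0] := by
  rw [s1, coeff_comapDomain, Finsupp.comapDomain_apply, e2_apply]

theorem coeff_s2 (x : AddMonoidAlgebra A (Fin 3 → ℤ)) (p : Fin 2 → ℤ) :
    (s2 x).coeff p = x.coeff ![p 0, p 1, 0] := by
  rw [s2, coeff_comapDomain, Finsupp.comapDomain_apply, d3_apply]

/-- the homotopy identity -/
theorem homotopy (x : AddMonoidAlgebra A (Fin 2 → ℤ)) :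
    x - (E0 A (s1 x) - E1 A (s1 x) + E2 A (s1 x)) =
      - s2 (D0 A x - D1 A x + D2 A x - D3 A x) := by
  ext p
  obtain ⟨a, b, rfl⟩ : ∃ a b, p = ![a, b] := ⟨p 0, p 1, (eta2 p).symm⟩
  simp only [coeff_sub, coeff_add, coeff_neg, Finsupp.coe_sub, Finsupp.coe_add, Finsupp.coe_neg,
    Pi.sub_apply, Pi.add_apply, Pi.neg_apply, coeff_s2, coeff_E0, coeff_E1, coeff_E2, coeff_s1,
    coeff_D0, coeff_D1, coeff_D2, coeff_D3]
  simp only [Matrix.cons_val_zero, Matrix.cons_val_one, Matrix.cons_val_two, Matrix.head_cons,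
    Matrix.tail_cons]
  by_cases h0 : a = 0
  · subst h0
    by_cases h1 : b = 0
    · subst h1; simp
    · simp [h1, Ne.symm h1]
  · by_cases h1 : b = 0
    · subst h1; simp [h0]
    · by_cases h01 : a = b
      · subst h01; simp [h0]
      · simp [h0, h1, h01]

variable (A)

theorem D0E0 : (D0 A).comp (E0 A) = (D1 A).comp (E0 A) := by
  rw [← mapDomainRingHom_comp, ← mapDomainRingHom_comp]
  congr 1
  refine AddMonoidHom.ext fun v => ?_
  simp only [AddMonoidHom.comp_apply, d0_apply, d1_apply, e0_apply]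
  simp

theorem D0E1 : (D0 A).comp (E1 A) = (D2 A).comp (E0 A) := by
  rw [← mapDomainRingHom_comp, ← mapDomainRingHom_comp]
  congr 1
  refine AddMonoidHom.ext fun v => ?_
  simp only [AddMonoidHom.comp_apply, d0_apply, d2_apply, e0_apply, e1_apply]
  simp

theorem D0E2 : (D0 A).comp (E2 A) = (D3 A).comp (E0 A) := by
  rw [← mapDomainRingHom_comp, ← mapDomainRingHom_comp]
  congr 1
  refine AddMonoidHom.ext fun v => ?_
  simp only [AddMonoidHom.comp_apply, d0_apply, d3_apply, e0_apply, e2_apply]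
  simp

theorem D1E1 : (D1 A).comp (E1 A) = (D2 A).comp (E1 A) := by
  rw [← mapDomainRingHom_comp, ← mapDomainRingHom_comp]
  congr 1
  refine AddMonoidHom.ext fun v => ?_
  simp only [AddMonoidHom.comp_apply, d1_apply, d2_apply, e1_apply]
  simp

theorem D1E2 : (D1 A).comp (E2 A) = (D3 A).comp (E1 A) := by
  rw [← mapDomainRingHom_comp, ← mapDomainRingHom_comp]
  congr 1
  refine AddMonoidHom.ext fun v => ?_
  simp only [AddMonoidHom.comp_apply, d1_apply, d3_apply, e1_apply, e2_apply]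
  simp

theorem D2E2 : (D2 A).comp (E2 A) = (D3 A).comp (E2 A) := by
  rw [← mapDomainRingHom_comp, ← mapDomainRingHom_comp]
  congr 1
  refine AddMonoidHom.ext fun v => ?_
  simp only [AddMonoidHom.comp_apply, d2_apply, d3_apply, e2_apply]
  simp

end maps

end Groth.Agent.Helper7.LUb
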