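import Mathlib
import Groth.Agent.Helper7.LUa
import Groth.Agent.Helper7.LUb
set_option autoImplicit false

namespace Groth.Agent.Helper7.LUc

open AddMonoidAlgebra Groth.Agent.Helper7.LUa Groth.Agent.Helper7.LUb

theorem cancel6_add {G : Type*} [AddCommGroup G] (a b c d e f : G) :
    (a + -b + c) + -(a + -d + e) + (b + -d + f) + -(c + -e + f) = 0 := by abel

theorem cancel6 {G : Type*} [CommGroup G] (a b c d e f : G) :
    (a * b⁻¹ * c) * (a * d⁻¹ * e)⁻¹ * (b * d⁻¹ * f) * (c * e⁻¹ * f)⁻¹ = 1 :=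
  cancel6_add (G := Additive G) a b c d e f

theorem rearr_add {G : Type*} [AddCommGroup G] (x a b c : G) :
    x + -(a + -b + c) = x + b + (-a + -c) := by abel

theorem rearr {G : Type*} [CommGroup G] (x a b c : G) :
    x * (a * b⁻¹ * c)⁻¹ = x * b * (a⁻¹ * c⁻¹) :=
  rearr_add (G := Additive G) x a b c

theorem coc_iff {G : Type*} [CommGroup G] (a b c d : G) :
    a * b⁻¹ * c * d⁻¹ = 1 ↔ a * c = b * d := by
  rw [mul_inv_eq_one, mul_right_comm, mul_inv_eq_iff_eq_mul, mul_comm d b]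

/-- Laurent polynomial ring in `n` variables, as a group algebra -/
abbrev R (A : Type*) [CommRing A] (n : ℕ) := AddMonoidAlgebra A (Fin n → ℤ)

variable (A : Type*) [CommRing A]

/-- first coboundary on units -/
noncomputable def del1 : (R A 1)ˣ →* (R A 2)ˣ :=
  Units.map (E0 A).toMonoidHom * (Units.map (E1 A).toMonoidHom)⁻¹ * Units.map (E2 A).toMonoidHom

/-- second coboundary on units -/
noncomputable def del2 : (R A 2)ˣ →* (R A 3)ˣ :=
  Units.map (D0 A).toMonoidHom * (Units.map (D1 A).toMonoidHom)⁻¹ * Units.map (D2 A).toMonoidHom *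
    (Units.map (D3 A).toMonoidHom)⁻¹

theorem del1_apply (η : (R A 1)ˣ) : del1 A η =
    Units.map (E0 A).toMonoidHom η * (Units.map (E1 A).toMonoidHom η)⁻¹ *
      Units.map (E2 A).toMonoidHom η := rfl

theorem del2_apply (ξ : (R A 2)ˣ) : del2 A ξ =
    Units.map (D0 A).toMonoidHom ξ * (Units.map (D1 A).toMonoidHom ξ)⁻¹ *
      Units.map (D2 A).toMonoidHom ξ * (Units.map (D3 A).toMonoidHom ξ)⁻¹ := rfl

theorem units_comp_eq {S T U : Type*} [CommRing S] [CommRing T] [CommRing U]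
    {f f' : T →+* U} {g g' : S →+* T} (h : f.comp g = f'.comp g') (η : Sˣ) :
    Units.map f.toMonoidHom (Units.map g.toMonoidHom η) =
      Units.map f'.toMonoidHom (Units.map g'.toMonoidHom η) := by
  apply Units.ext
  exact RingHom.congr_fun h ↑η

theorem del2_del1 (η : (R A 1)ˣ) : del2 A (del1 A η) = 1 := by
  rw [del1_apply, del2_apply]
  simp only [map_mul, map_inv]
  rw [← units_comp_eq (D0E0 A) η, ← units_comp_eq (D0E1 A) η, ← units_comp_eq (D0E2 A) η,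
    ← units_comp_eq (D1E1 A) η, ← units_comp_eq (D1E2 A) η, ← units_comp_eq (D2E2 A) η]
  exact cancel6 _ _ _ _ _ _

theorem coc_elem (ξ : (R A 2)ˣ) (hξ : del2 A ξ = 1) :
    D0 A (ξ : R A 2) * D2 A ξ = D1 A ξ * D3 A ξ := by
  rw [del2_apply, coc_iff] at hξ
  exact congrArg Units.val hξ

variable {A}

theorem s1_mem_cI {I : Ideal A} {x : R A 2} (hx : x ∈ cI I) : s1 x ∈ cI I :=
  comapDomain_mem_cI _ _ hx

theorem s2_mem_cI {I : Ideal A} {x : R A 3} (hx : x ∈ cI I) : s2 x ∈ cI I :=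
  comapDomain_mem_cI _ _ hx

theorem isNilpotent_of_mem_cI {n : ℕ} {I : Ideal A} (hI : IsNilpotent I) {x : R A n}
    (hx : x ∈ cI I) : IsNilpotent x := by
  obtain ⟨k, hk⟩ := hI
  refine ⟨k, ?_⟩
  have := pow_mem_cI hx k
  rw [hk, Ideal.zero_eq_bot] at this
  exact eq_zero_of_mem_cI_bot this

/-- the key estimate -/
theorem key_mem (I : Ideal A) (ν : R A 2)
    (hcoc : D0 A (1 + ν) * D2 A (1 + ν) = D1 A (1 + ν) * D3 A (1 + ν)) (hν : ν ∈ cI I) :
    (1 + ν) * E1 A (1 + s1 ν) - E0 A (1 + s1 ν) * E2 A (1 + s1 ν) ∈ cI (I * I) := by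
  have hg : s1 ν ∈ cI I := s1_mem_cI hν
  have hω : D0 A ν - D1 A ν + D2 A ν - D3 A ν = D1 A ν * D3 A ν - D0 A ν * D2 A ν := by
    simp only [map_add, map_one] at hcoc
    linear_combination hcoc
  have h1 : s2 (D0 A ν - D1 A ν + D2 A ν - D3 A ν) ∈ cI (I * I) := by
    apply s2_mem_cI
    rw [hω]
    exact sub_mem (mul_mem_cI (mapDomain_mem_cI _ hν) (mapDomain_mem_cI _ hν))
      (mul_mem_cI (mapDomain_mem_cI _ hν) (mapDomain_mem_cI _ hν))
  have h2 : ν * E1 A (s1 ν) ∈ cI (I * I) := mul_mem_cI hν (mapDomain_mem_cI _ hg)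
  have h3 : E0 A (s1 ν) * E2 A (s1 ν) ∈ cI (I * I) :=
    mul_mem_cI (mapDomain_mem_cI _ hg) (mapDomain_mem_cI _ hg)
  have e : (1 + ν) * E1 A (1 + s1 ν) - E0 A (1 + s1 ν) * E2 A (1 + s1 ν) =
      (ν - (E0 A (s1 ν) - E1 A (s1 ν) + E2 A (s1 ν))) + ν * E1 A (s1 ν)
        - E0 A (s1 ν) * E2 A (s1 ν) := by
    simp only [map_add, map_one]
    ring
  rw [e, homotopy]
  exact sub_mem (add_mem (neg_mem h1) h2) h3

theorem step (I : Ideal A) (hI : IsNilpotent I) (ξ : (R A 2)ˣ) (hξ : del2 A ξ = 1)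
    (h1 : (ξ : R A 2) - 1 ∈ cI I) :
    ∃ η₀ : (R A 1)ˣ, ((ξ * (del1 A η₀)⁻¹ : (R A 2)ˣ) : R A 2) - 1 ∈ cI (I * I) := by
  set ν : R A 2 := (ξ : R A 2) - 1 with hν
  have hξν : (ξ : R A 2) = 1 + ν := by rw [hν]; ring
  have hgnil : IsNilpotent (s1 ν) := isNilpotent_of_mem_cI hI (s1_mem_cI h1)
  set η₀ : (R A 1)ˣ := (IsNilpotent.isUnit_one_add hgnil).unit with hη₀
  have hη₀v : (η₀ : R A 1) = 1 + s1 ν := rfl
  refine ⟨η₀, ?_⟩
  have hcoc := coc_elem A ξ hξ
  rw [hξν] at hcoc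
  have hkey := key_mem I ν hcoc h1
  set u0 := Units.map (E0 A).toMonoidHom η₀ with hu0
  set u1 := Units.map (E1 A).toMonoidHom η₀ with hu1
  set u2 := Units.map (E2 A).toMonoidHom η₀ with hu2
  have hu0v : (u0 : R A 2) = E0 A (1 + s1 ν) := rfl
  have hu1v : (u1 : R A 2) = E1 A (1 + s1 ν) := rfl
  have hu2v : (u2 : R A 2) = E2 A (1 + s1 ν) := rfl
  have e1 : ξ * (del1 A η₀)⁻¹ = ξ * u1 * (u0⁻¹ * u2⁻¹) := by
    rw [del1_apply]
    exact rearr _ _ _ _
  have e2 : (u0 : R A 2) * u2 * ((u0⁻¹ * u2⁻¹ : (R A 2)ˣ) : R A 2) = 1 := by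
    rw [← Units.val_mul, ← Units.val_mul, mul_mul_mul_comm, mul_inv_cancel, mul_inv_cancel,
      one_mul, Units.val_one]
  have e3 : ((ξ * (del1 A η₀)⁻¹ : (R A 2)ˣ) : R A 2) - 1 =
      ((1 + ν) * E1 A (1 + s1 ν) - E0 A (1 + s1 ν) * E2 A (1 + s1 ν)) *
        ((u0⁻¹ * u2⁻¹ : (R A 2)ˣ) : R A 2) := by
    rw [e1, Units.val_mul, Units.val_mul, sub_mul, ← hu0v, ← hu2v, e2, hu1v, hξν]
  rw [e3]
  exact Ideal.mul_mem_right _ _ hkey

/-- nilpotent induction -/
theorem ind (n : ℕ) : ∀ (I : Ideal A), I ^ (2 ^ n) = ⊥ → ∀ ξ : (R A 2)ˣ, del2 A ξ = 1 →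
    (ξ : R A 2) - 1 ∈ cI I → ∃ η : (R A 1)ˣ, ξ = del1 A η := by
  induction n with
  | zero =>
    intro I hI ξ _ h1
    rw [pow_zero, pow_one] at hI
    rw [hI] at h1
    refine ⟨1, ?_⟩
    rw [map_one]
    apply Units.ext
    rw [Units.val_one]
    exact sub_eq_zero.mp (eq_zero_of_mem_cI_bot h1)
  | succ n ih =>
    intro I hI ξ hξ h1
    have hInil : IsNilpotent I := ⟨2 ^ (n + 1), by rw [hI, Ideal.zero_eq_bot]⟩
    obtain ⟨η₀, h0⟩ := step I hInil ξ hξ h1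
    have hII : (I * I) ^ (2 ^ n) = ⊥ := by
      rw [← pow_two, ← pow_mul, ← pow_succ', hI]
    have hcoc' : del2 A (ξ * (del1 A η₀)⁻¹) = 1 := by
      rw [map_mul, map_inv, hξ, del2_del1, inv_one, one_mul]
    obtain ⟨η₁, h1'⟩ := ih (I * I) hII _ hcoc' h0
    refine ⟨η₁ * η₀, ?_⟩
    rw [map_mul, ← h1', inv_mul_cancel_right]

section field
variable {K : Type*} [Field K]

theorem mapRing_D (φ : A →+* K) (f : (Fin 2 → ℤ) →+ (Fin 3 → ℤ)) (x : R A 2) :
    mapRingHom (Fin 3 → ℤ) φ (mapDomainRingHom A f x) =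
      mapDomainRingHom K f (mapRingHom (Fin 2 → ℤ) φ x) :=
  RingHom.congr_fun (mapRingHom_comp_mapDomainRingHom φ f) x

theorem field_spec (φ : A →+* K) (ξ : (R A 2)ˣ) (hξ : del2 A ξ = 1) :
    (∀ m : Fin 2 → ℤ, m ≠ 0 → φ ((ξ : R A 2).coeff m) = 0) ∧ φ ((ξ : R A 2).coeff 0) ≠ 0 := by
  classical
  have hu : IsUnit (mapRingHom (Fin 2 → ℤ) φ (ξ : R A 2)) := ξ.isUnit.map _
  obtain ⟨m, c, hc, hm⟩ := exists_single_of_isUnit _ hu
  have hcoc := congrArg (mapRingHom (Fin 3 → ℤ) φ) (coc_elem A ξ hξ)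
  rw [map_mul, map_mul, mapRing_D, mapRing_D, mapRing_D, mapRing_D, hm] at hcoc
  simp only [mapDomainRingHom_apply, mapDomain_single, single_mul_single] at hcoc
  rw [single_left_inj (mul_ne_zero hc hc), d0_apply, d1_apply, d2_apply, d3_apply] at hcoc
  have h0 := congrFun hcoc 0
  have h2 := congrFun hcoc 2
  simp at h0 h2
  have hm0 : m = 0 := by
    funext i
    fin_cases i
    · simpa using h0
    · simpa using h2
  subst hm0
  have hco : ∀ m' : Fin 2 → ℤ, φ ((ξ : R A 2).coeff m') = (single (0 : Fin 2 → ℤ) c).coeff m' := by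
    intro m'
    rw [← hm, coeff_mapRingHom]
  constructor
  · intro m' hm'
    rw [hco, coeff_single, Finsupp.single_eq_of_ne hm']
  · rw [hco, coeff_single, Finsupp.single_eq_same]
    exact hc

end field

/-- constants as units -/
noncomputable def kU (n : ℕ) : Aˣ →* (R A n)ˣ :=
  Units.map (singleZeroRingHom (R := A) (M := Fin n → ℤ)).toMonoidHom

theorem kU_val (n : ℕ) (c : Aˣ) : ((kU n c : (R A n)ˣ) : R A n) = single 0 (c : A) := rfl

theorem map_kU {n k : ℕ} (f : (Fin n → ℤ) →+ (Fin k → ℤ)) (c : Aˣ) :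
    Units.map (mapDomainRingHom A f).toMonoidHom (kU n c) = kU k c := by
  apply Units.ext
  change mapDomainRingHom A f (single 0 (c : A)) = single 0 (c : A)
  rw [mapDomainRingHom_apply, mapDomain_single, map_zero]

theorem del1_kU (c : Aˣ) : del1 A (kU 1 c) = kU 2 c := by
  rw [del1_apply, map_kU, map_kU, map_kU, mul_inv_cancel, one_mul]

theorem main (ξ : (R A 2)ˣ) (hξ : del2 A ξ = 1) : ∃ η : (R A 1)ˣ, ξ = del1 A η := by
  classical
  have hnil : ∀ m : Fin 2 → ℤ, m ≠ 0 → IsNilpotent ((ξ : R A 2).coeff m) := by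
    intro m hm
    rw [nilpotent_iff_mem_prime]
    intro J hJ
    rw [← Ideal.algebraMap_residueField_eq_zero]
    exact (field_spec (algebraMap A J.ResidueField) ξ hξ).1 m hm
  have hunit : IsUnit ((ξ : R A 2).coeff 0) := by
    by_contra h
    obtain ⟨M, hM, hmem⟩ := exists_max_ideal_of_mem_nonunits h
    have := hM.isPrime
    apply (field_spec (algebraMap A M.ResidueField) ξ hξ).2
    rw [Ideal.algebraMap_residueField_eq_zero]
    exact hmem
  set cu : Aˣ := hunit.unit with hcu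
  have hcuv : (cu : A) = (ξ : R A 2).coeff 0 := rfl
  set x : R A 2 := (ξ : R A 2) - single 0 (cu : A) with hx
  have hxnil : ∀ m, IsNilpotent (x.coeff m) := by
    intro m
    by_cases hm : m = 0
    · subst hm
      rw [hx, coeff_sub, Finsupp.sub_apply, coeff_single, Finsupp.single_eq_same, hcuv, sub_self]
      exact IsNilpotent.zero
    · rw [hx, coeff_sub, Finsupp.sub_apply, coeff_single,
        Finsupp.single_eq_of_ne hm, sub_zero]
      exact hnil m hm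
  set I : Ideal A := Ideal.span (↑(x.coeff.support.image x.coeff) : Set A) with hI
  have hIfg : I.FG := ⟨_, rfl⟩
  have hInil : IsNilpotent I := by
    rw [Ideal.FG.isNilpotent_iff_le_nilradical hIfg, hI, Ideal.span_le]
    intro a ha
    rw [Finset.mem_coe, Finset.mem_image] at ha
    obtain ⟨m, _, rfl⟩ := ha
    exact hxnil m
  have hxI : x ∈ cI I := by
    rw [mem_cI]
    intro m
    by_cases hm : m ∈ x.coeff.support
    · exact Ideal.subset_span (Finset.mem_coe.mpr (Finset.mem_image_of_mem _ hm))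
    · rw [Finsupp.notMem_support_iff.mp hm]
      exact zero_mem _
  obtain ⟨n, hn⟩ := hInil
  have hn2 : I ^ (2 ^ n) = ⊥ := by
    have : I ^ (2 ^ n) ≤ I ^ n := Ideal.pow_le_pow_right (Nat.lt_two_pow_self).le
    rw [hn, Ideal.zero_eq_bot] at this
    exact le_bot_iff.mp this
  have hcoc' : del2 A (ξ * (del1 A (kU 1 cu))⁻¹) = 1 := by
    rw [map_mul, map_inv, hξ, del2_del1, inv_one, one_mul]
  have h1 : ((ξ * (del1 A (kU 1 cu))⁻¹ : (R A 2)ˣ) : R A 2) - 1 ∈ cI I := by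
    have e : ((ξ * (del1 A (kU 1 cu))⁻¹ : (R A 2)ˣ) : R A 2) - 1 =
        x * (((kU 2 cu)⁻¹ : (R A 2)ˣ) : R A 2) := by
      rw [del1_kU, Units.val_mul, hx, sub_mul, ← kU_val 2 cu, Units.mul_inv]
    rw [e]
    exact Ideal.mul_mem_right _ _ hxI
  obtain ⟨η₁, h1'⟩ := ind n I hn2 _ hcoc' h1
  refine ⟨η₁ * kU 1 cu, ?_⟩
  rw [map_mul, ← h1', inv_mul_cancel_right]

end Groth.Agent.Helper7.LUc
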