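import Groth.Prelude.Def_W4c2conddiscmodels

set_option autoImplicit false
set_option linter.unusedSectionVars false
universe u
open Finset

namespace Groth.Agent.Helper7.LabCtr

variable {V E : Type u} [Fintype V] [Fintype E] [DecidableEq V] [DecidableEq E]

/-- neighbour sum: `Σ_{w ≠ v} g w * #edges(v,w)` -/
def N (ends : E → V × V) (v : V) (g : V → ℤ) : ℤ :=
  ∑ w ∈ univ.erase v, g w * (LabGraph.edgeMult ends v w : ℤ)

omit [Fintype V] in
theorem edgeMult_comm (ends : E → V × V) (v w : V) :
    LabGraph.edgeMult ends v w = LabGraph.edgeMult ends w v := by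
  unfold LabGraph.edgeMult
  congr 1
  ext e
  simp only [mem_filter, mem_univ, true_and]
  exact Or.comm

theorem mfMatrix_diag (ends : E → V × V) (β : V → ℤ) (v : V) :
    LabGraph.mfMatrix ends β v v = -(N ends v β) / β v := by
  simp [LabGraph.mfMatrix, N]

theorem mfMatrix_off (ends : E → V × V) (β : V → ℤ) {v w : V} (h : v ≠ w) :
    LabGraph.mfMatrix ends β v w = (LabGraph.edgeMult ends v w : ℤ) := by
  simp [LabGraph.mfMatrix, h]

theorem isMultFn_iff (ends : E → V × V) (β : V → ℤ) :
    LabGraph.IsMultFn ends β ↔ ∀ v, 0 < β v ∧ β v ∣ N ends v β := Iff.rfl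

theorem mulVec_eq (ends : E → V × V) (β : V → ℤ) (y : V → ℤ) (v : V) :
    (LabGraph.mfMatrix ends β).mulVec y v = LabGraph.mfMatrix ends β v v * y v + N ends v y := by
  unfold Matrix.mulVec dotProduct
  rw [← Finset.add_sum_erase _ _ (mem_univ v)]
  congr 1
  unfold N
  refine Finset.sum_congr rfl fun w hw => ?_
  show LabGraph.mfMatrix ends β v w * y w = _
  rw [mfMatrix_off ends β (Finset.ne_of_mem_erase hw).symm, mul_comm]

theorem diag_mul (ends : E → V × V) (β : V → ℤ) (hβ : LabGraph.IsMultFn ends β) (v : V) :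
    LabGraph.mfMatrix ends β v v * β v = -(N ends v β) := by
  rw [mfMatrix_diag]
  exact Int.ediv_mul_cancel ((dvd_neg).mpr (hβ v).2)

theorem mulVec_beta (ends : E → V × V) (β : V → ℤ) (hβ : LabGraph.IsMultFn ends β) (v : V) :
    (LabGraph.mfMatrix ends β).mulVec β v = 0 := by
  rw [mulVec_eq, diag_mul ends β hβ]
  ring

theorem N_add (ends : E → V × V) (v : V) (g g' : V → ℤ) :
    N ends v (g + g') = N ends v g + N ends v g' := by
  unfold N
  rw [← Finset.sum_add_distrib]
  refine Finset.sum_congr rfl fun w _ => ?_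
  simp [add_mul]

theorem N_smul (ends : E → V × V) (v : V) (c : ℤ) (g : V → ℤ) :
    N ends v (c • g) = c * N ends v g := by
  unfold N
  rw [Finset.mul_sum]
  refine Finset.sum_congr rfl fun w _ => ?_
  simp [mul_assoc]

theorem N_sub (ends : E → V × V) (v : V) (g g' : V → ℤ) :
    N ends v (g - g') = N ends v g - N ends v g' := by
  unfold N
  rw [← Finset.sum_sub_distrib]
  refine Finset.sum_congr rfl fun w _ => ?_
  simp [sub_mul]

/-- edge-sum form of the neighbour sum -/
theorem N_edge_sum (ends : E → V × V) (v : V) (g : V → ℤ) :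
    N ends v g = ∑ e : E,
      ((if (ends e).1 = v ∧ (ends e).2 ≠ v then g (ends e).2 else 0) +
       (if (ends e).2 = v ∧ (ends e).1 ≠ v then g (ends e).1 else 0)) := by
  unfold N LabGraph.edgeMult
  have h1 : ∀ w ∈ univ.erase v, g w * ((univ.filter fun e : E => ends e = (v, w) ∨ ends e = (w, v)).card : ℤ)
      = ∑ e : E, ((if (ends e).1 = v ∧ (ends e).2 = w then g w else 0) +
          (if (ends e).2 = v ∧ (ends e).1 = w then g w else 0)) := by
    intro w hw
    have hwv : w ≠ v := Finset.ne_of_mem_erase hw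
    rw [Finset.card_filter, Nat.cast_sum, Finset.mul_sum]
    refine Finset.sum_congr rfl fun e _ => ?_
    by_cases h1 : ends e = (v, w)
    · have h2 : ¬ ((ends e).2 = v ∧ (ends e).1 = w) := by
        rw [h1]; simp only [not_and]; intro h; exact absurd h hwv
      simp only [h1, true_or, if_true, Nat.cast_one, mul_one, true_and]
      rw [if_neg (fun h : w = v ∧ v = w => hwv h.1)]; simp
    · by_cases h2 : ends e = (w, v)
      · have h3 : ¬ (w = v ∧ v = w) := fun h => hwv h.1
        simp [h2, hwv]
      · have h3 : ¬ ((ends e).1 = v ∧ (ends e).2 = w) := fun h => h1 (Prod.ext h.1 h.2)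
        have h4 : ¬ ((ends e).2 = v ∧ (ends e).1 = w) := fun h => h2 (Prod.ext h.2 h.1)
        simp [h1, h2, h3, h4]
  rw [Finset.sum_congr rfl h1, Finset.sum_comm]
  refine Finset.sum_congr rfl fun e _ => ?_
  rw [Finset.sum_add_distrib]
  congr 1
  · by_cases h : (ends e).1 = v ∧ (ends e).2 ≠ v
    · rw [if_pos h]
      rw [Finset.sum_eq_single (ends e).2]
      · simp [h.1]
      · intro w _ hw
        rw [if_neg]
        intro h'; exact hw h'.2.symm
      · intro h'
        exact absurd (Finset.mem_erase.mpr ⟨h.2, mem_univ _⟩) h'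
    · rw [if_neg h]
      refine Finset.sum_eq_zero fun w hw => ?_
      rw [if_neg]
      intro h'
      exact h ⟨h'.1, by rw [h'.2]; exact Finset.ne_of_mem_erase hw⟩
  · by_cases h : (ends e).2 = v ∧ (ends e).1 ≠ v
    · rw [if_pos h]
      rw [Finset.sum_eq_single (ends e).1]
      · simp [h.1]
      · intro w _ hw
        rw [if_neg]
        intro h'; exact hw h'.2.symm
      · intro h'
        exact absurd (Finset.mem_erase.mpr ⟨h.2, mem_univ _⟩) h'
    · rw [if_neg h]
      refine Finset.sum_eq_zero fun w hw => ?_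
      rw [if_neg]
      intro h'
      exact h ⟨h'.1, by rw [h'.2]; exact Finset.ne_of_mem_erase hw⟩

end Groth.Agent.Helper7.LabCtr
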