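import Groth.Agent.Helper7.LabCtr1

set_option autoImplicit false
set_option linter.unusedSectionVars false
universe u
open Finset

namespace Groth.Agent.Helper7.LabCtr

variable {V E : Type u} [Fintype V] [Fintype E] [DecidableEq V] [DecidableEq E]

/-- hypotheses: the contraction along `D` has the single nontrivial class `C`. -/
structure OneClass (ends : E → V × V) (D : Finset E) (C : Finset V) : Prop where
  cls : ∀ v w, DualGr.ctrMk ends D v = DualGr.ctrMk ends D w ↔ v = w ∨ (v ∈ C ∧ w ∈ C)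
  hD : ∀ e' ∈ D, (ends e').1 ∈ C ∧ (ends e').2 ∈ C

variable {ends : E → V × V} {D : Finset E} {C : Finset V}

theorem OneClass.mk_eq_of_mem (h : OneClass ends D C) {v w : V} (hv : v ∈ C) (hw : w ∈ C) :
    DualGr.ctrMk ends D v = DualGr.ctrMk ends D w := (h.cls v w).mpr (Or.inr ⟨hv, hw⟩)

theorem OneClass.mk_eq_iff_of_not_mem (h : OneClass ends D C) {v w : V} (hv : v ∉ C) :
    DualGr.ctrMk ends D w = DualGr.ctrMk ends D v ↔ w = v := by
  rw [h.cls]
  constructor
  · rintro (h1 | h1)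
    · exact h1
    · exact absurd h1.2 hv
  · intro h1; exact Or.inl h1

theorem OneClass.mk_eq_iff_of_mem (h : OneClass ends D C) {v w : V} (hv : v ∈ C) :
    DualGr.ctrMk ends D w = DualGr.ctrMk ends D v ↔ w ∈ C := by
  rw [h.cls]
  constructor
  · rintro (h1 | h1)
    · rw [h1]; exact hv
    · exact h1.1
  · intro h1; exact Or.inr ⟨h1, hv⟩

theorem OneClass.ctrFn_mk (h : OneClass ends D C) (β : V → ℤ) (hβ : ∀ v ∈ C, ∀ w ∈ C, β v = β w)
    (v : V) : LabGraph.ctrFn ends D β (DualGr.ctrMk ends D v) = β v := by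
  unfold LabGraph.ctrFn
  have h1 : DualGr.ctrMk ends D (Quotient.out (s := DualGr.ctrSetoid ends D) (DualGr.ctrMk ends D v))
      = DualGr.ctrMk ends D v := Quotient.out_eq (s := DualGr.ctrSetoid ends D) _
  rcases (h.cls _ _).mp h1 with h2 | h2
  · rw [h2]
  · exact hβ _ h2.1 _ h2.2

/-- sum over the contracted vertices -/
theorem OneClass.sum_ctr (h : OneClass ends D C) {v₀ : V} (hv₀ : v₀ ∈ C)
    (g : DualGr.CtrVert ends D → ℤ) :
    ∑ c, g c = ∑ v : V, if v ∈ C ∧ v ≠ v₀ then 0 else g (DualGr.ctrMk ends D v) := by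
  have h1 : (∑ v : V, if v ∈ C ∧ v ≠ v₀ then 0 else g (DualGr.ctrMk ends D v)) =
      ∑ v ∈ univ.filter (fun v => ¬ (v ∈ C ∧ v ≠ v₀)), g (DualGr.ctrMk ends D v) := by
    rw [Finset.sum_filter]
    refine Finset.sum_congr rfl fun v _ => ?_
    by_cases hv : v ∈ C ∧ v ≠ v₀
    · rw [if_pos hv, if_neg (not_not.mpr hv)]
    · rw [if_neg hv, if_pos hv]
  rw [h1]
  symm
  refine Finset.sum_bij (fun v _ => DualGr.ctrMk ends D v) (fun _ _ => mem_univ _) ?_ ?_ (fun _ _ => rfl)
  · intro v hv w hw hvw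
    rcases (h.cls v w).mp hvw with h2 | h2
    · exact h2
    · have hv' := (mem_filter.mp hv).2
      have hw' := (mem_filter.mp hw).2
      have e1 : v = v₀ := by by_contra hne; exact hv' ⟨h2.1, hne⟩
      have e2 : w = v₀ := by by_contra hne; exact hw' ⟨h2.2, hne⟩
      rw [e1, e2]
  · intro c _
    obtain ⟨v, rfl⟩ := DualGr.ctrMk_surjective ends D c
    by_cases hv : v ∈ C
    · exact ⟨v₀, mem_filter.mpr ⟨mem_univ _, fun h2 => h2.2 rfl⟩, h.mk_eq_of_mem hv₀ hv⟩
    · exact ⟨v, mem_filter.mpr ⟨mem_univ _, fun h2 => hv h2.1⟩, rfl⟩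

theorem OneClass.liftAt_apply (h : OneClass ends D C) {v₀ : V} (hv₀ : v₀ ∈ C)
    (x : DualGr.CtrVert ends D → ℤ) (v : V) :
    LabGraph.liftAt ends D v₀ x v = if v ∈ C ∧ v ≠ v₀ then 0 else x (DualGr.ctrMk ends D v) := by
  unfold LabGraph.liftAt
  have h1 := h.mk_eq_iff_of_mem hv₀ (w := v)
  by_cases hv : v ∈ C ∧ v ≠ v₀
  · rw [if_pos hv, if_pos ⟨h1.mpr hv.1, hv.2⟩]
  · rw [if_neg hv, if_neg (fun h2 => hv ⟨h1.mp h2.1, h2.2⟩)]

theorem OneClass.betaHom_liftAt (h : OneClass ends D C) {v₀ : V} (hv₀ : v₀ ∈ C)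
    (β : V → ℤ) (hβ : ∀ v ∈ C, ∀ w ∈ C, β v = β w) (x : DualGr.CtrVert ends D → ℤ) :
    LabGraph.betaHom β (LabGraph.liftAt ends D v₀ x) =
      LabGraph.betaHom (LabGraph.ctrFn ends D β) x := by
  unfold LabGraph.betaHom
  rw [Fintype.linearCombination_apply, Fintype.linearCombination_apply, h.sum_ctr hv₀]
  refine Finset.sum_congr rfl fun v _ => ?_
  rw [h.liftAt_apply hv₀, h.ctrFn_mk β hβ]
  by_cases hv : v ∈ C ∧ v ≠ v₀
  · rw [if_pos hv, if_pos hv]; simp
  · rw [if_neg hv, if_neg hv]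

/-- sum over the edges of the contraction -/
theorem sum_ctrEdge (F : E → ℤ) :
    ∑ e' : DualGr.CtrEdge D, F e'.1 = ∑ e : E, if e ∉ D then F e else 0 := by
  rw [← Finset.sum_filter,
    Finset.sum_subtype (Finset.univ.filter (fun e : E => e ∉ D)) (p := fun e => e ∉ D) (by intro e; simp)]

/-- the function on `V` which is `y' ∘ mk` off `C` and `0` on `C`. -/
noncomputable def tilde (ends : E → V × V) (D : Finset E) (C : Finset V)
    (y' : DualGr.CtrVert ends D → ℤ) : V → ℤ :=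
  fun w => if w ∈ C then 0 else y' (DualGr.ctrMk ends D w)

theorem OneClass.N_ctr_of_not_mem (h : OneClass ends D C) {v : V} (hv : v ∉ C)
    (y' : DualGr.CtrVert ends D → ℤ) :
    N (DualGr.ctrEnds ends D) (DualGr.ctrMk ends D v) y' =
      N ends v (fun w => y' (DualGr.ctrMk ends D w)) := by
  rw [N_edge_sum, N_edge_sum]
  simp only [DualGr.ctrEnds]
  rw [sum_ctrEdge (D := D) (F := fun e =>
    ((if DualGr.ctrMk ends D (ends e).1 = DualGr.ctrMk ends D v ∧
        DualGr.ctrMk ends D (ends e).2 ≠ DualGr.ctrMk ends D v then y' (DualGr.ctrMk ends D (ends e).2) else 0) +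
      (if DualGr.ctrMk ends D (ends e).2 = DualGr.ctrMk ends D v ∧
        DualGr.ctrMk ends D (ends e).1 ≠ DualGr.ctrMk ends D v then y' (DualGr.ctrMk ends D (ends e).1) else 0)))]
  refine Finset.sum_congr rfl fun e _ => ?_
  simp only [ne_eq, h.mk_eq_iff_of_not_mem hv]
  by_cases he : e ∈ D
  · have h1 := h.hD e he
    have h2 : (ends e).1 ≠ v := fun h3 => hv (h3 ▸ h1.1)
    have h3 : (ends e).2 ≠ v := fun h3 => hv (h3 ▸ h1.2)
    simp [he, h2, h3]
  · simp [he]

theorem OneClass.N_ctr_of_mem (h : OneClass ends D C) {v₀ : V} (hv₀ : v₀ ∈ C)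
    (y' : DualGr.CtrVert ends D → ℤ) :
    N (DualGr.ctrEnds ends D) (DualGr.ctrMk ends D v₀) y' =
      ∑ u ∈ C, N ends u (tilde ends D C y') := by
  rw [N_edge_sum]
  simp only [DualGr.ctrEnds]
  rw [sum_ctrEdge (D := D) (F := fun e =>
    ((if DualGr.ctrMk ends D (ends e).1 = DualGr.ctrMk ends D v₀ ∧
        DualGr.ctrMk ends D (ends e).2 ≠ DualGr.ctrMk ends D v₀ then y' (DualGr.ctrMk ends D (ends e).2) else 0) +
      (if DualGr.ctrMk ends D (ends e).2 = DualGr.ctrMk ends D v₀ ∧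
        DualGr.ctrMk ends D (ends e).1 ≠ DualGr.ctrMk ends D v₀ then y' (DualGr.ctrMk ends D (ends e).1) else 0)))]
  simp only [N_edge_sum]
  rw [Finset.sum_comm]
  refine Finset.sum_congr rfl fun e _ => ?_
  simp only [ne_eq, h.mk_eq_iff_of_mem hv₀]
  rw [Finset.sum_add_distrib]
  have key : ∀ a b : V, (∑ u ∈ C, if a = u ∧ ¬ b = u then tilde ends D C y' b else 0) =
      if a ∈ C ∧ b ∉ C then y' (DualGr.ctrMk ends D b) else 0 := by
    intro a b
    by_cases ha : a ∈ C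
    · rw [Finset.sum_eq_single a]
      · by_cases hb : b ∈ C
        · simp [tilde, hb]
        · have hba : ¬ b = a := fun h3 => hb (h3 ▸ ha)
          simp [tilde, hb, hba, ha]
      · intro u _ hu
        rw [if_neg]
        intro h3; exact hu h3.1.symm
      · intro h3; exact absurd ha h3
    · rw [Finset.sum_eq_zero]
      · simp [ha]
      · intro u hu
        rw [if_neg]
        intro h3; exact ha (h3.1 ▸ hu)
  rw [key, key]
  by_cases he : e ∈ D
  · have h1 := h.hD e he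
    simp [he, h1.1, h1.2]
  · simp [he]

theorem OneClass.ctrFn_comp (h : OneClass ends D C) (β : V → ℤ)
    (hβ : ∀ v ∈ C, ∀ w ∈ C, β v = β w) :
    (fun w => LabGraph.ctrFn ends D β (DualGr.ctrMk ends D w)) = β :=
  funext (h.ctrFn_mk β hβ)

theorem OneClass.tilde_ctrFn (h : OneClass ends D C) (β : V → ℤ)
    (hβ : ∀ v ∈ C, ∀ w ∈ C, β v = β w) :
    tilde ends D C (LabGraph.ctrFn ends D β) = fun w => if w ∈ C then 0 else β w := by
  funext w
  unfold tilde
  rw [h.ctrFn_mk β hβ]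

/-- indicator of `C` -/
def ind (C : Finset V) : V → ℤ := fun w => if w ∈ C then 1 else 0

theorem OneClass.beta_decomp (h : OneClass ends D C) (β : V → ℤ)
    (hβ : ∀ v ∈ C, ∀ w ∈ C, β v = β w) {u : V} (hu : u ∈ C) :
    β = tilde ends D C (LabGraph.ctrFn ends D β) + β u • ind C := by
  rw [h.tilde_ctrFn β hβ]
  funext w
  by_cases hw : w ∈ C
  · simp [ind, hw, hβ w hw u hu]
  · simp [ind, hw]

theorem OneClass.dvd_N_tilde (h : OneClass ends D C) (β : V → ℤ)
    (hβ : ∀ v ∈ C, ∀ w ∈ C, β v = β w) (hm : LabGraph.IsMultFn ends β) {u : V} (hu : u ∈ C) :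
    β u ∣ N ends u (tilde ends D C (LabGraph.ctrFn ends D β)) := by
  have h1 : N ends u β = N ends u (tilde ends D C (LabGraph.ctrFn ends D β)) + β u * N ends u (ind C) := by
    conv_lhs => rw [h.beta_decomp β hβ hu]
    rw [N_add, N_smul]
  have h2 : β u ∣ N ends u β := (hm u).2
  rw [h1] at h2
  exact (dvd_add_left (dvd_mul_right _ _)).mp h2

theorem OneClass.isMultFn_ctr (h : OneClass ends D C) (β : V → ℤ)
    (hβ : ∀ v ∈ C, ∀ w ∈ C, β v = β w) (hm : LabGraph.IsMultFn ends β) :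
    LabGraph.IsMultFn (DualGr.ctrEnds ends D) (LabGraph.ctrFn ends D β) := by
  rw [isMultFn_iff]
  intro c
  obtain ⟨v, rfl⟩ := DualGr.ctrMk_surjective ends D c
  rw [h.ctrFn_mk β hβ]
  refine ⟨(hm v).1, ?_⟩
  by_cases hv : v ∈ C
  · rw [h.N_ctr_of_mem hv]
    refine Finset.dvd_sum fun u hu => ?_
    rw [hβ v hv u hu]
    exact h.dvd_N_tilde β hβ hm hu
  · rw [h.N_ctr_of_not_mem hv, h.ctrFn_comp β hβ]
    exact (hm v).2

theorem OneClass.mulVec_ctr_of_not_mem (h : OneClass ends D C) (β : V → ℤ)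
    (hβ : ∀ v ∈ C, ∀ w ∈ C, β v = β w) {v : V} (hv : v ∉ C) (y' : DualGr.CtrVert ends D → ℤ) :
    (LabGraph.mfMatrix (DualGr.ctrEnds ends D) (LabGraph.ctrFn ends D β)).mulVec y' (DualGr.ctrMk ends D v) =
      (LabGraph.mfMatrix ends β).mulVec (fun w => y' (DualGr.ctrMk ends D w)) v := by
  rw [mulVec_eq, mulVec_eq, mfMatrix_diag, mfMatrix_diag, h.N_ctr_of_not_mem hv, h.N_ctr_of_not_mem hv,
    h.ctrFn_comp β hβ, h.ctrFn_mk β hβ]

theorem OneClass.mulVec_ctr_of_mem (h : OneClass ends D C) (β : V → ℤ)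
    (hβ : ∀ v ∈ C, ∀ w ∈ C, β v = β w) {v₀ : V} (hv₀ : v₀ ∈ C) (y' : DualGr.CtrVert ends D → ℤ) :
    (LabGraph.mfMatrix (DualGr.ctrEnds ends D) (LabGraph.ctrFn ends D β)).mulVec y' (DualGr.ctrMk ends D v₀) =
      -(∑ u ∈ C, N ends u (tilde ends D C (LabGraph.ctrFn ends D β))) / β v₀ * y' (DualGr.ctrMk ends D v₀)
        + ∑ u ∈ C, N ends u (tilde ends D C y') := by
  rw [mulVec_eq, mfMatrix_diag, h.N_ctr_of_mem hv₀, h.N_ctr_of_mem hv₀, h.ctrFn_mk β hβ]

/-! ### chains give `OneClass` -/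

theorem oneClass_of_isChain {k : ℕ} (f : Fin (k + 1) → V) (e : Fin k → E)
    (hC : LabGraph.IsChain ends f e) :
    OneClass ends (univ.image e) (univ.image f) := by
  have hmk : ∀ i : Fin (k + 1), DualGr.ctrMk ends (univ.image e) (f i) =
      DualGr.ctrMk ends (univ.image e) (f 0) := by
    intro i
    induction i using Fin.induction with
    | zero => rfl
    | succ i ih =>
      rw [← ih]
      have hmem : e i ∈ univ.image e := mem_image_of_mem e (mem_univ i)
      have h1 := DualGr.ctrMk_fst_eq_ctrMk_snd ends (univ.image e) hmem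
      rcases hC.2.2 i with h2 | h2
      · rw [h2] at h1; exact h1.symm
      · rw [h2] at h1; exact h1
  have hD : ∀ e' ∈ univ.image e, (ends e').1 ∈ univ.image f ∧ (ends e').2 ∈ univ.image f := by
    intro e' he'
    obtain ⟨i, _, rfl⟩ := mem_image.mp he'
    rcases hC.2.2 i with h2 | h2
    · rw [h2]; exact ⟨mem_image_of_mem f (mem_univ _), mem_image_of_mem f (mem_univ _)⟩
    · rw [h2]; exact ⟨mem_image_of_mem f (mem_univ _), mem_image_of_mem f (mem_univ _)⟩
  refine ⟨fun v w => ⟨fun h1 => ?_, fun h1 => ?_⟩, hD⟩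
  · have h2 : Relation.EqvGen (DualGr.CtrRel ends (univ.image e)) v w :=
      Quotient.exact (s := DualGr.ctrSetoid ends (univ.image e)) h1
    induction h2 with
    | rel x y hxy =>
      obtain ⟨e', he', hxy⟩ := hxy
      have h3 := hD e' he'
      rw [hxy] at h3
      exact Or.inr h3
    | refl x => exact Or.inl rfl
    | symm x y _ ih =>
      rcases ih (((Quotient.eq (r := DualGr.ctrSetoid ends (univ.image e))).mpr (by assumption))) with h3 | h3
      · exact Or.inl h3.symm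
      · exact Or.inr ⟨h3.2, h3.1⟩
    | trans x y z _ _ ih1 ih2 =>
      rcases ih1 (((Quotient.eq (r := DualGr.ctrSetoid ends (univ.image e))).mpr (by assumption))) with h3 | h3
      · rcases ih2 (((Quotient.eq (r := DualGr.ctrSetoid ends (univ.image e))).mpr (by assumption))) with h4 | h4
        · exact Or.inl (h3.trans h4)
        · exact Or.inr ⟨h3 ▸ h4.1, h4.2⟩
      · rcases ih2 (((Quotient.eq (r := DualGr.ctrSetoid ends (univ.image e))).mpr (by assumption))) with h4 | h4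
        · exact Or.inr ⟨h3.1, h4 ▸ h3.2⟩
        · exact Or.inr ⟨h3.1, h4.2⟩
  · rcases h1 with h1 | h1
    · rw [h1]
    · obtain ⟨i, _, rfl⟩ := mem_image.mp h1.1
      obtain ⟨j, _, rfl⟩ := mem_image.mp h1.2
      rw [hmk i, hmk j]

end Groth.Agent.Helper7.LabCtr
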