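import Groth.Agent.Helper7.LabCtr2

set_option autoImplicit false
set_option linter.unusedSectionVars false
universe u
open Finset

namespace Groth.Agent.Helper7.LabCtr

variable {V E : Type u} [Fintype V] [Fintype E] [DecidableEq V] [DecidableEq E]

/-- the hypotheses of the chain contraction statements -/
structure Ctx (ends : E → V × V) (β : V → ℤ) (m : ℕ) (f : Fin (m + 1) → V) (e : Fin m → E) : Prop where
  hβ : LabGraph.IsMultFn ends β
  hC : LabGraph.IsChain ends f e
  hconn : ∀ i, LabGraph.IsConnecting ends (e i)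
  hβm : ∀ i, β (f i) = m
  hα : ∀ i, LabGraph.mfMatrix ends β (f i) (f i) = -2

variable {ends : E → V × V} {β : V → ℤ} {m : ℕ} {f : Fin (m + 1) → V} {e : Fin m → E}

/-- the chain as a function on `ℕ` -/
def gg (f : Fin (m + 1) → V) (n : ℕ) : V := f ⟨min n m, by omega⟩

theorem gg_val (f : Fin (m + 1) → V) (i : Fin (m + 1)) : gg f i.val = f i := by
  unfold gg
  congr 1
  apply Fin.ext
  simp only
  omega

theorem gg_of_le (f : Fin (m + 1) → V) {n : ℕ} (hn : n ≤ m) : gg f n = f ⟨n, by omega⟩ := by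
  unfold gg
  congr 1
  apply Fin.ext
  simp only
  omega

theorem Ctx.m_pos (c : Ctx ends β m f e) : 0 < m := by
  have h1 := (c.hβ (f 0)).1
  rw [c.hβm 0] at h1
  exact_mod_cast h1

theorem Ctx.gg_inj (c : Ctx ends β m f e) {i j : ℕ} (hi : i ≤ m) (hj : j ≤ m)
    (h : gg f i = gg f j) : i = j := by
  rw [gg_of_le f hi, gg_of_le f hj] at h
  have := c.hC.1 h
  exact Fin.mk.inj_iff.mp this

theorem Ctx.beta_gg (c : Ctx ends β m f e) (i : ℕ) : β (gg f i) = m := c.hβm _

theorem Ctx.alpha_gg (c : Ctx ends β m f e) (i : ℕ) :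
    LabGraph.mfMatrix ends β (gg f i) (gg f i) = -2 := c.hα _

theorem Ctx.edge (c : Ctx ends β m f e) {i : ℕ} (hi : i < m) :
    ends (e ⟨i, hi⟩) = (gg f i, gg f (i + 1)) ∨ ends (e ⟨i, hi⟩) = (gg f (i + 1), gg f i) := by
  have h1 := c.hC.2.2 ⟨i, hi⟩
  have h2 : f (Fin.castSucc ⟨i, hi⟩) = gg f i := (gg_of_le f (le_of_lt hi)).symm
  have h3 : f (Fin.succ ⟨i, hi⟩) = gg f (i + 1) := (gg_of_le f hi).symm
  rw [h2, h3] at h1
  exact h1

/-- the chain set -/
def CC (f : Fin (m + 1) → V) : Finset V := univ.image f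

theorem mem_CC {v : V} : v ∈ CC f ↔ ∃ i, i ≤ m ∧ v = gg f i := by
  unfold CC
  constructor
  · intro h
    obtain ⟨i, _, rfl⟩ := mem_image.mp h
    exact ⟨i.val, by omega, (gg_val f i).symm⟩
  · rintro ⟨i, hi, rfl⟩
    rw [gg_of_le f hi]
    exact mem_image_of_mem f (mem_univ _)

theorem gg_mem_CC (f : Fin (m + 1) → V) (i : ℕ) : gg f i ∈ CC f :=
  mem_image_of_mem f (mem_univ _)

theorem CC_eq_image_range (f : Fin (m + 1) → V) : CC f = (range (m + 1)).image (gg f) := by
  ext v
  rw [mem_CC, mem_image]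
  constructor
  · rintro ⟨i, hi, rfl⟩
    exact ⟨i, mem_range.mpr (by omega), rfl⟩
  · rintro ⟨i, hi, rfl⟩
    exact ⟨i, by have := mem_range.mp hi; omega, rfl⟩

theorem Ctx.sum_CC (c : Ctx ends β m f e) (F : V → ℤ) :
    ∑ u ∈ CC f, F u = ∑ k ∈ range (m + 1), F (gg f k) := by
  rw [CC_eq_image_range, Finset.sum_image]
  intro i hi j hj h
  exact c.gg_inj (by have := mem_range.mp hi; omega) (by have := mem_range.mp hj; omega) h

/-- sides of a bridge: all later chain vertices are on the side of `g (i+1)` -/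
theorem Ctx.side_up (c : Ctx ends β m f e) {i : ℕ} (hi : i < m) (S : Finset V)
    (hS : ∀ e' : E, ((ends e').1 ∈ S ↔ (ends e').2 ∉ S) ↔ e' = e ⟨i, hi⟩) :
    ∀ l, i + 1 ≤ l → l ≤ m → (gg f l ∈ S ↔ gg f (i + 1) ∈ S) := by
  intro l hl
  induction l, hl using Nat.le_induction with
  | base => intro _; exact Iff.rfl
  | succ l hl ih =>
    intro hlm
    have hl' : l < m := by omega
    rw [← ih (by omega)]
    have h1 : e ⟨l, hl'⟩ ≠ e ⟨i, hi⟩ := by
      intro h2
      have := c.hC.2.1 h2
      have := Fin.mk.inj_iff.mp this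
      omega
    have h2 := (not_congr (hS (e ⟨l, hl'⟩))).mpr h1
    rcases c.edge hl' with h3 | h3
    · rw [h3] at h2
      simp only at h2
      tauto
    · rw [h3] at h2
      simp only at h2
      tauto

/-- sides of a bridge: all earlier chain vertices are on the side of `g i` -/
theorem Ctx.side_down (c : Ctx ends β m f e) {i : ℕ} (hi : i < m) (S : Finset V)
    (hS : ∀ e' : E, ((ends e').1 ∈ S ↔ (ends e').2 ∉ S) ↔ e' = e ⟨i, hi⟩) :
    ∀ l, l ≤ i → (gg f l ∈ S ↔ gg f i ∈ S) := by
  have key : ∀ d, d ≤ i → (gg f (i - d) ∈ S ↔ gg f i ∈ S) := by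
    intro d
    induction d with
    | zero => intro _; exact Iff.rfl
    | succ d ih =>
      intro hd
      rw [← ih (by omega)]
      have hl' : i - (d + 1) < m := by omega
      have hl2 : i - (d + 1) + 1 = i - d := by omega
      have h1 : e ⟨i - (d + 1), hl'⟩ ≠ e ⟨i, hi⟩ := by
        intro h2
        have := c.hC.2.1 h2
        have := Fin.mk.inj_iff.mp this
        omega
      have h2 := (not_congr (hS (e ⟨i - (d + 1), hl'⟩))).mpr h1
      rcases c.edge hl' with h3 | h3
      · rw [h3, hl2] at h2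
        simp only at h2
        tauto
      · rw [h3, hl2] at h2
        simp only at h2
        tauto
  intro l hl
  have := key (i - l) (by omega)
  rwa [show i - (i - l) = l by omega] at this

theorem Ctx.side_cross (c : Ctx ends β m f e) {i : ℕ} (hi : i < m) (S : Finset V)
    (hS : ∀ e' : E, ((ends e').1 ∈ S ↔ (ends e').2 ∉ S) ↔ e' = e ⟨i, hi⟩) :
    (gg f i ∈ S ↔ gg f (i + 1) ∉ S) := by
  have h2 := (hS (e ⟨i, hi⟩)).mpr rfl
  rcases c.edge hi with h3 | h3
  · rw [h3] at h2
    exact h2
  · rw [h3] at h2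
    simp only at h2
    tauto

/-- any edge joining `g i` and `g j` (`i < j`) is `e i` and `j = i + 1` -/
theorem Ctx.edge_unique (c : Ctx ends β m f e) {i j : ℕ} (hij : i < j) (hj : j ≤ m) (e' : E)
    (he' : ends e' = (gg f i, gg f j) ∨ ends e' = (gg f j, gg f i)) :
    e' = e ⟨i, by omega⟩ ∧ j = i + 1 := by
  have hi : i < m := by omega
  obtain ⟨S, hS⟩ := c.hconn ⟨i, hi⟩
  have h1 := c.side_up hi S hS j (by omega) hj
  have h2 := c.side_cross hi S hS
  have h3 : e' = e ⟨i, hi⟩ := by
    refine (hS e').mp ?_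
    rcases he' with h4 | h4
    · rw [h4]; simp only; tauto
    · rw [h4]; simp only; tauto
  refine ⟨h3, ?_⟩
  rw [h3] at he'
  have hne : gg f i ≠ gg f j := fun h => by have := c.gg_inj (by omega) hj h; omega
  rcases c.edge hi with h4 | h4
  · rw [h4] at he'
    rcases he' with h5 | h5
    · have := (Prod.mk.inj h5).2
      exact (c.gg_inj (by omega) hj this).symm
    · exact absurd (Prod.mk.inj h5).1 hne
  · rw [h4] at he'
    rcases he' with h5 | h5
    · exact absurd (Prod.mk.inj h5).2 hne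
    · have := (Prod.mk.inj h5).1
      exact (c.gg_inj (by omega) hj this).symm

theorem Ctx.edgeMult_succ (c : Ctx ends β m f e) {i : ℕ} (hi : i < m) :
    LabGraph.edgeMult ends (gg f i) (gg f (i + 1)) = 1 := by
  unfold LabGraph.edgeMult
  rw [Finset.card_eq_one]
  refine ⟨e ⟨i, hi⟩, ?_⟩
  ext e'
  simp only [mem_filter, mem_univ, true_and, mem_singleton]
  constructor
  · intro h
    exact (c.edge_unique (Nat.lt_succ_self i) hi e' h).1
  · rintro rfl
    exact c.edge hi

theorem Ctx.edgeMult_far (c : Ctx ends β m f e) {i j : ℕ} (hij : i + 1 < j) (hj : j ≤ m) :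
    LabGraph.edgeMult ends (gg f i) (gg f j) = 0 := by
  unfold LabGraph.edgeMult
  rw [Finset.card_eq_zero, Finset.filter_eq_empty_iff]
  intro e' _ h
  have := (c.edge_unique (by omega) hj e' h).2
  omega

/-- the multiplicities along the chain -/
theorem Ctx.edgeMult_gg (c : Ctx ends β m f e) {i j : ℕ} (hi : i ≤ m) (hj : j ≤ m) (hij : i ≠ j) :
    (LabGraph.edgeMult ends (gg f i) (gg f j) : ℤ) = if j = i + 1 ∨ i = j + 1 then 1 else 0 := by
  rcases Nat.lt_or_gt_of_ne hij with h | h
  · by_cases h1 : j = i + 1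
    · subst h1
      rw [c.edgeMult_succ (by omega), if_pos (Or.inl rfl)]; rfl
    · rw [c.edgeMult_far (by omega) hj, if_neg (by omega)]; rfl
  · rw [edgeMult_comm]
    by_cases h1 : i = j + 1
    · subst h1
      rw [c.edgeMult_succ (by omega), if_pos (Or.inr rfl)]; rfl
    · rw [c.edgeMult_far (by omega) hi, if_neg (by omega)]; rfl

/-- `y` off `C` -/
def off (C : Finset V) (y : V → ℤ) : V → ℤ := fun w => if w ∈ C then 0 else y w

/-- `y` on `C` -/
def on (C : Finset V) (y : V → ℤ) : V → ℤ := fun w => if w ∈ C then y w else 0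

theorem off_add_on (C : Finset V) (y : V → ℤ) : off C y + on C y = y := by
  funext w
  by_cases hw : w ∈ C <;> simp [off, on, hw]

theorem N_eq_sum_ite (ends : E → V × V) (v : V) (y : V → ℤ) :
    N ends v y = ∑ w, if w = v then 0 else y w * (LabGraph.edgeMult ends v w : ℤ) := by
  unfold N
  rw [← Finset.sum_erase_add _ _ (mem_univ v), if_pos rfl, add_zero]
  refine Finset.sum_congr rfl fun w hw => ?_
  rw [if_neg (Finset.ne_of_mem_erase hw)]

theorem N_on (ends : E → V × V) (C : Finset V) (v : V) (y : V → ℤ) :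
    N ends v (on C y) = ∑ w ∈ C, if w = v then 0 else y w * (LabGraph.edgeMult ends v w : ℤ) := by
  rw [N_eq_sum_ite]
  have h1 : (∑ w ∈ C, if w = v then 0 else y w * (LabGraph.edgeMult ends v w : ℤ)) =
      ∑ w ∈ univ.filter (fun w => w ∈ C), if w = v then 0 else y w * (LabGraph.edgeMult ends v w : ℤ) := by
    congr 1
    ext w
    simp
  rw [h1, Finset.sum_filter]
  refine Finset.sum_congr rfl fun w _ => ?_
  by_cases hw : w ∈ C
  · simp [on, hw]
  · simp [on, hw]

theorem Ctx.N_on_gg (c : Ctx ends β m f e) {i : ℕ} (hi : i ≤ m) (y : V → ℤ) :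
    N ends (gg f i) (on (CC f) y) =
      (if 1 ≤ i then y (gg f (i - 1)) else 0) + (if i < m then y (gg f (i + 1)) else 0) := by
  rw [N_on, c.sum_CC]
  have h1 : ∀ k ∈ range (m + 1),
      (if gg f k = gg f i then 0 else y (gg f k) * (LabGraph.edgeMult ends (gg f i) (gg f k) : ℤ)) =
      (if i = k + 1 then y (gg f k) else 0) + (if k = i + 1 then y (gg f k) else 0) := by
    intro k hk
    have hk' : k ≤ m := by have := mem_range.mp hk; omega
    by_cases hki : k = i
    · subst hki
      simp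
    · rw [if_neg (fun h => hki (c.gg_inj hk' hi h))]
      rw [c.edgeMult_gg hi hk' (Ne.symm hki)]
      by_cases h2 : i = k + 1
      · rw [if_pos (Or.inr h2), if_pos h2, if_neg (by omega)]; ring
      · by_cases h3 : k = i + 1
        · rw [if_pos (Or.inl h3), if_neg h2, if_pos h3]; ring
        · rw [if_neg (by omega), if_neg h2, if_neg h3]; ring
  rw [Finset.sum_congr rfl h1, Finset.sum_add_distrib]
  congr 1
  · by_cases h2 : 1 ≤ i
    · rw [if_pos h2, Finset.sum_eq_single (i - 1)]
      · rw [if_pos (by omega)]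
      · intro k _ hk
        rw [if_neg (by omega)]
      · intro h3
        exact absurd (mem_range.mpr (by omega)) h3
    · rw [if_neg h2]
      refine Finset.sum_eq_zero fun k _ => ?_
      rw [if_neg (by omega)]
  · by_cases h2 : i < m
    · rw [if_pos h2, Finset.sum_eq_single (i + 1)]
      · rw [if_pos rfl]
      · intro k _ hk
        rw [if_neg hk]
      · intro h3
        exact absurd (mem_range.mpr (by omega)) h3
    · rw [if_neg h2]
      refine Finset.sum_eq_zero fun k hk => ?_
      rw [if_neg (by have := mem_range.mp hk; omega)]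

/-- decomposition of the neighbour sum at a chain vertex -/
theorem Ctx.N_gg (c : Ctx ends β m f e) {i : ℕ} (hi : i ≤ m) (y : V → ℤ) :
    N ends (gg f i) y =
      (if 1 ≤ i then y (gg f (i - 1)) else 0) + (if i < m then y (gg f (i + 1)) else 0)
        + N ends (gg f i) (off (CC f) y) := by
  conv_lhs => rw [← off_add_on (CC f) y]
  rw [N_add, c.N_on_gg hi]
  ring

theorem Ctx.N_beta_gg (c : Ctx ends β m f e) (i : ℕ) : N ends (gg f i) β = 2 * m := by
  have h1 := diag_mul ends β c.hβ (gg f i)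
  rw [c.alpha_gg, c.beta_gg] at h1
  linarith

theorem Ctx.N_off_beta_interior (c : Ctx ends β m f e) {i : ℕ} (h0 : 0 < i) (hi : i < m) :
    N ends (gg f i) (off (CC f) β) = 0 := by
  have h1 := c.N_gg (le_of_lt hi) β
  rw [c.N_beta_gg, if_pos (show 1 ≤ i from h0), if_pos hi, c.beta_gg, c.beta_gg] at h1
  linarith

theorem Ctx.N_off_beta_zero (c : Ctx ends β m f e) :
    N ends (gg f 0) (off (CC f) β) = m := by
  have h1 := c.N_gg (Nat.zero_le m) β
  rw [c.N_beta_gg, if_neg (by omega), if_pos c.m_pos, c.beta_gg] at h1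
  linarith

theorem Ctx.N_off_beta_last (c : Ctx ends β m f e) :
    N ends (gg f m) (off (CC f) β) = m := by
  have h1 := c.N_gg (le_refl m) β
  rw [c.N_beta_gg, if_pos (show 1 ≤ m from c.m_pos), if_neg (lt_irrefl m), c.beta_gg] at h1
  linarith

/-- interior chain vertices have no neighbours off the chain -/
theorem Ctx.edgeMult_interior (c : Ctx ends β m f e) {i : ℕ} (h0 : 0 < i) (hi : i < m) {w : V}
    (hw : w ∉ CC f) : LabGraph.edgeMult ends (gg f i) w = 0 := by
  have h1 := c.N_off_beta_interior h0 hi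
  unfold N at h1
  rw [Finset.sum_eq_zero_iff_of_nonneg] at h1
  · have hwv : w ≠ gg f i := fun h => hw (h ▸ gg_mem_CC f i)
    have h2 := h1 w (Finset.mem_erase.mpr ⟨hwv, mem_univ _⟩)
    unfold off at h2
    rw [if_neg hw] at h2
    have h3 := (c.hβ w).1
    rcases mul_eq_zero.mp h2 with h4 | h4
    · omega
    · exact_mod_cast h4
  · intro w' _
    unfold off
    by_cases hw' : w' ∈ CC f
    · rw [if_pos hw']; simp
    · rw [if_neg hw']
      exact mul_nonneg (le_of_lt (c.hβ w').1) (Nat.cast_nonneg _)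

theorem N_congr (ends : E → V × V) (v : V) (y y' : V → ℤ)
    (h : ∀ w, w ≠ v → LabGraph.edgeMult ends v w ≠ 0 → y w = y' w) : N ends v y = N ends v y' := by
  unfold N
  refine Finset.sum_congr rfl fun w hw => ?_
  by_cases h1 : LabGraph.edgeMult ends v w = 0
  · rw [h1]; simp
  · rw [h w (Finset.ne_of_mem_erase hw) h1]

theorem Ctx.N_off_interior (c : Ctx ends β m f e) {i : ℕ} (h0 : 0 < i) (hi : i < m) (y : V → ℤ) :
    N ends (gg f i) (off (CC f) y) = 0 := by
  have h1 : N ends (gg f i) (off (CC f) y) = N ends (gg f i) (fun _ => 0) := by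
    refine N_congr ends _ _ _ fun w _ hw => ?_
    unfold off
    by_cases hw' : w ∈ CC f
    · rw [if_pos hw']
    · exact absurd (c.edgeMult_interior h0 hi hw') hw
  rw [h1]
  unfold N
  simp

/-- row formula at chain vertices -/
theorem Ctx.mulVec_gg (c : Ctx ends β m f e) {i : ℕ} (hi : i ≤ m) (y : V → ℤ) :
    (LabGraph.mfMatrix ends β).mulVec y (gg f i) =
      -2 * y (gg f i) + (if 1 ≤ i then y (gg f (i - 1)) else 0)
        + (if i < m then y (gg f (i + 1)) else 0) + N ends (gg f i) (off (CC f) y) := by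
  rw [mulVec_eq, c.alpha_gg, c.N_gg hi]
  ring

end Groth.Agent.Helper7.LabCtr
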