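import Groth.Agent.Helper7.LabCtr3

set_option autoImplicit false
set_option linter.unusedSectionVars false
universe u
open Finset

namespace Groth.Agent.Helper7.LabCtr

variable {V E : Type u} [Fintype V] [Fintype E] [DecidableEq V] [DecidableEq E]
variable {ends : E → V × V} {β : V → ℤ} {m : ℕ} {f : Fin (m + 1) → V} {e : Fin m → E}

/-- the two sides of the last bridge -/
structure Part (ends : E → V × V) (m : ℕ) (f : Fin (m + 1) → V) (T : Finset V) : Prop where
  last : gg f m ∈ T
  before : ∀ i, i < m → gg f i ∉ T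
  adj : ∀ v w, v ≠ w → LabGraph.edgeMult ends v w ≠ 0 → ¬ (v ∈ CC f ∧ w ∈ CC f) → (v ∈ T ↔ w ∈ T)

theorem Ctx.exists_part (c : Ctx ends β m f e) : ∃ T : Finset V, Part ends m f T := by
  have hm := c.m_pos
  have hi : m - 1 < m := by omega
  obtain ⟨S, hS⟩ := c.hconn ⟨m - 1, hi⟩
  have hm1 : m - 1 + 1 = m := by omega
  have hcross := c.side_cross hi S hS
  rw [hm1] at hcross
  refine ⟨univ.filter (fun v => v ∈ S ↔ gg f m ∈ S), ⟨?_, ?_, ?_⟩⟩
  · simp
  · intro i him
    have h1 := c.side_down hi S hS i (by omega)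
    simp only [mem_filter, mem_univ, true_and]
    tauto
  · intro v w hvw hmult hC
    simp only [mem_filter, mem_univ, true_and]
    have h1 : (univ.filter fun e' : E => ends e' = (v, w) ∨ ends e' = (w, v)).Nonempty := by
      rw [← Finset.card_pos]
      exact Nat.pos_of_ne_zero hmult
    obtain ⟨e', he'⟩ := h1
    have he'' := (mem_filter.mp he').2
    have hne : e' ≠ e ⟨m - 1, hi⟩ := by
      intro h2
      apply hC
      have h3 := c.edge hi
      rw [← h2, hm1] at h3
      rcases he'' with h4 | h4 <;> rcases h3 with h5 | h5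
      · rw [h4] at h5
        rw [(Prod.mk.inj h5).1, (Prod.mk.inj h5).2]
        exact ⟨gg_mem_CC f _, gg_mem_CC f _⟩
      · rw [h4] at h5
        rw [(Prod.mk.inj h5).1, (Prod.mk.inj h5).2]
        exact ⟨gg_mem_CC f _, gg_mem_CC f _⟩
      · rw [h4] at h5
        rw [(Prod.mk.inj h5).1, (Prod.mk.inj h5).2]
        exact ⟨gg_mem_CC f _, gg_mem_CC f _⟩
      · rw [h4] at h5
        rw [(Prod.mk.inj h5).1, (Prod.mk.inj h5).2]
        exact ⟨gg_mem_CC f _, gg_mem_CC f _⟩
    have h2 := (not_congr (hS e')).mpr hne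
    rcases he'' with h4 | h4
    · rw [h4] at h2
      simp only at h2
      tauto
    · rw [h4] at h2
      simp only at h2
      tauto

/-- index along the chain -/
def idx (f : Fin (m + 1) → V) (v : V) : ℤ := ∑ k ∈ range (m + 1), if gg f k = v then (k : ℤ) else 0

theorem Ctx.idx_gg (c : Ctx ends β m f e) {i : ℕ} (hi : i ≤ m) : idx f (gg f i) = i := by
  unfold idx
  rw [Finset.sum_eq_single i]
  · rw [if_pos rfl]
  · intro k hk hki
    rw [if_neg]
    intro h
    exact hki (c.gg_inj (by have := mem_range.mp hk; omega) hi h)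
  · intro h
    exact absurd (mem_range.mpr (by omega)) h

theorem idx_of_not_mem {v : V} (hv : v ∉ CC f) : idx f v = 0 := by
  unfold idx
  refine Finset.sum_eq_zero fun k _ => ?_
  rw [if_neg]
  intro h
  exact hv (h ▸ gg_mem_CC f k)

/-- the correction vector -/
def tau (β : V → ℤ) (f : Fin (m + 1) → V) (T : Finset V) (v : V) : ℤ :=
  if v ∈ T then β v else idx f v

theorem tau_of_mem {T : Finset V} {v : V} (hv : v ∈ T) : tau β f T v = β v := by
  unfold tau; rw [if_pos hv]

theorem tau_of_not_mem {T : Finset V} {v : V} (hv : v ∉ T) (hv' : v ∉ CC f) : tau β f T v = 0 := by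
  unfold tau; rw [if_neg hv, idx_of_not_mem hv']

theorem Ctx.tau_gg (c : Ctx ends β m f e) {T : Finset V} (hT : Part ends m f T) {i : ℕ} (hi : i ≤ m) :
    tau β f T (gg f i) = i := by
  rcases Nat.lt_or_ge i m with h | h
  · unfold tau
    rw [if_neg (hT.before i h), c.idx_gg hi]
  · have : i = m := by omega
    subst this
    rw [tau_of_mem hT.last, c.beta_gg]

theorem Ctx.mulVec_tau_off (c : Ctx ends β m f e) {T : Finset V} (hT : Part ends m f T) {v : V}
    (hv : v ∉ CC f) : (LabGraph.mfMatrix ends β).mulVec (tau β f T) v = 0 := by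
  rw [mulVec_eq]
  by_cases hvT : v ∈ T
  · have h1 : N ends v (tau β f T) = N ends v β := by
      refine N_congr ends _ _ _ fun w hw hmult => ?_
      have h2 := hT.adj v w hw.symm hmult (fun h => hv h.1)
      exact tau_of_mem (h2.mp hvT)
    rw [h1, tau_of_mem hvT, ← mulVec_eq, mulVec_beta ends β c.hβ]
  · have h1 : N ends v (tau β f T) = N ends v (fun _ => 0) := by
      refine N_congr ends _ _ _ fun w hw hmult => ?_
      have h2 := hT.adj v w hw.symm hmult (fun h => hv h.1)
      have hwT : w ∉ T := fun h => hvT (h2.mpr h)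
      by_cases hwC : w ∈ CC f
      · obtain ⟨k, hk, rfl⟩ := mem_CC.mp hwC
        rw [c.tau_gg hT hk]
        rcases Nat.eq_zero_or_pos k with h0 | h0
        · subst h0; rfl
        · rcases Nat.lt_or_ge k m with hkm | hkm
          · exfalso
            apply hmult
            rw [edgeMult_comm]
            exact c.edgeMult_interior h0 hkm hv
          · have : k = m := by omega
            subst this
            exact absurd hT.last hwT
      · exact tau_of_not_mem hwT hwC
    rw [h1, tau_of_not_mem hvT hv]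
    unfold N
    simp

theorem Ctx.mulVec_tau_interior (c : Ctx ends β m f e) {T : Finset V} (hT : Part ends m f T) {i : ℕ}
    (h0 : 0 < i) (hi : i < m) : (LabGraph.mfMatrix ends β).mulVec (tau β f T) (gg f i) = 0 := by
  rw [c.mulVec_gg (le_of_lt hi), if_pos (show 1 ≤ i from h0), if_pos hi, c.N_off_interior h0 hi,
    c.tau_gg hT (le_of_lt hi), c.tau_gg hT (by omega), c.tau_gg hT (by omega)]
  omega

theorem Ctx.N_off_tau_before (c : Ctx ends β m f e) {T : Finset V} (hT : Part ends m f T) {i : ℕ}
    (hi : i < m) : N ends (gg f i) (off (CC f) (tau β f T)) = 0 := by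
  have h1 : N ends (gg f i) (off (CC f) (tau β f T)) = N ends (gg f i) (fun _ => 0) := by
    refine N_congr ends _ _ _ fun w hw hmult => ?_
    unfold off
    by_cases hwC : w ∈ CC f
    · rw [if_pos hwC]
    · rw [if_neg hwC]
      have h2 := hT.adj (gg f i) w hw.symm hmult (fun h => hwC h.2)
      have hwT : w ∉ T := fun h => hT.before i hi (h2.mpr h)
      exact tau_of_not_mem hwT hwC
  rw [h1]
  unfold N
  simp

theorem Ctx.mulVec_tau_zero (c : Ctx ends β m f e) {T : Finset V} (hT : Part ends m f T) :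
    (LabGraph.mfMatrix ends β).mulVec (tau β f T) (gg f 0) = 1 := by
  have hm := c.m_pos
  rw [c.mulVec_gg (Nat.zero_le m), if_neg (by omega), if_pos hm, c.N_off_tau_before hT hm,
    c.tau_gg hT (Nat.zero_le m), c.tau_gg hT (show 0 + 1 ≤ m by omega)]
  omega

theorem Ctx.mulVec_tau_last (c : Ctx ends β m f e) {T : Finset V} (hT : Part ends m f T) :
    (LabGraph.mfMatrix ends β).mulVec (tau β f T) (gg f m) = -1 := by
  have hm := c.m_pos
  have h1 : N ends (gg f m) (off (CC f) (tau β f T)) = N ends (gg f m) (off (CC f) β) := by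
    refine N_congr ends _ _ _ fun w hw hmult => ?_
    unfold off
    by_cases hwC : w ∈ CC f
    · rw [if_pos hwC, if_pos hwC]
    · rw [if_neg hwC, if_neg hwC]
      have h2 := hT.adj (gg f m) w hw.symm hmult (fun h => hwC h.2)
      exact tau_of_mem (h2.mp hT.last)
  rw [c.mulVec_gg (le_refl m), if_pos (show 1 ≤ m from hm), if_neg (lt_irrefl m), h1, c.N_off_beta_last,
    c.tau_gg hT (le_refl m), c.tau_gg hT (show m - 1 ≤ m by omega)]
  omega

end Groth.Agent.Helper7.LabCtr
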