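import Groth.Agent.Helper7.LabCtr4

set_option autoImplicit false
set_option linter.unusedSectionVars false
universe u
open Finset

namespace Groth.Agent.Helper7.LabCtr

variable {V E : Type u} [Fintype V] [Fintype E] [DecidableEq V] [DecidableEq E]
variable {ends : E → V × V} {β : V → ℤ} {m : ℕ} {f : Fin (m + 1) → V} {e : Fin m → E}

theorem Ctx.oneClass (c : Ctx ends β m f e) : OneClass ends (univ.image e) (CC f) :=
  oneClass_of_isChain f e c.hC

theorem Ctx.beta_const (c : Ctx ends β m f e) : ∀ v ∈ CC f, ∀ w ∈ CC f, β v = β w := by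
  intro v hv w hw
  obtain ⟨i, _, rfl⟩ := mem_CC.mp hv
  obtain ⟨j, _, rfl⟩ := mem_CC.mp hw
  rw [c.beta_gg, c.beta_gg]

/-- pull-back of a vector on the contraction -/
def pull (ends : E → V × V) (D : Finset E) (y' : DualGr.CtrVert ends D → ℤ) : V → ℤ :=
  fun w => y' (DualGr.ctrMk ends D w)

theorem Ctx.pull_gg (c : Ctx ends β m f e) (y' : DualGr.CtrVert ends (univ.image e) → ℤ) (k : ℕ) :
    pull ends (univ.image e) y' (gg f k) = y' (DualGr.ctrMk ends (univ.image e) (gg f 0)) := by
  unfold pull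
  rw [c.oneClass.mk_eq_of_mem (gg_mem_CC f k) (gg_mem_CC f 0)]

theorem off_pull (C : Finset V) (D : Finset E) (y' : DualGr.CtrVert ends D → ℤ) :
    off C (pull ends D y') = tilde ends D C y' := rfl

theorem Ctx.mulVec_pull_interior (c : Ctx ends β m f e) (y' : DualGr.CtrVert ends (univ.image e) → ℤ)
    {i : ℕ} (h0 : 0 < i) (hi : i < m) :
    (LabGraph.mfMatrix ends β).mulVec (pull ends (univ.image e) y') (gg f i) = 0 := by
  rw [c.mulVec_gg (le_of_lt hi), if_pos (show 1 ≤ i from h0), if_pos hi, c.N_off_interior h0 hi,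
    c.pull_gg, c.pull_gg, c.pull_gg]
  ring

theorem Ctx.mulVec_pull_zero (c : Ctx ends β m f e) (y' : DualGr.CtrVert ends (univ.image e) → ℤ) :
    (LabGraph.mfMatrix ends β).mulVec (pull ends (univ.image e) y') (gg f 0) =
      - y' (DualGr.ctrMk ends (univ.image e) (gg f 0)) +
        N ends (gg f 0) (tilde ends (univ.image e) (CC f) y') := by
  rw [c.mulVec_gg (Nat.zero_le m), if_neg (by omega), if_pos c.m_pos, c.pull_gg, c.pull_gg, off_pull]
  ring

theorem Ctx.mulVec_pull_last (c : Ctx ends β m f e) (y' : DualGr.CtrVert ends (univ.image e) → ℤ) :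
    (LabGraph.mfMatrix ends β).mulVec (pull ends (univ.image e) y') (gg f m) =
      - y' (DualGr.ctrMk ends (univ.image e) (gg f 0)) +
        N ends (gg f m) (tilde ends (univ.image e) (CC f) y') := by
  rw [c.mulVec_gg (le_refl m), if_pos (show 1 ≤ m from c.m_pos), if_neg (lt_irrefl m), c.pull_gg, c.pull_gg,
    off_pull]
  ring

theorem sum_range_ends {m : ℕ} (hm : 0 < m) (F : ℕ → ℤ) (hF : ∀ k, 0 < k → k < m → F k = 0) :
    ∑ k ∈ range (m + 1), F k = F 0 + F m := by
  obtain ⟨m', rfl⟩ : ∃ m', m = m' + 1 := ⟨m - 1, by omega⟩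
  rw [Finset.sum_range_succ, Finset.sum_range_succ']
  rw [Finset.sum_eq_zero]
  · ring
  · intro k hk
    exact hF (k + 1) (by omega) (by have := mem_range.mp hk; omega)

theorem Ctx.sum_N_tilde (c : Ctx ends β m f e) (y' : DualGr.CtrVert ends (univ.image e) → ℤ) :
    ∑ u ∈ CC f, N ends u (tilde ends (univ.image e) (CC f) y') =
      N ends (gg f 0) (tilde ends (univ.image e) (CC f) y') +
        N ends (gg f m) (tilde ends (univ.image e) (CC f) y') := by
  rw [c.sum_CC]
  refine sum_range_ends c.m_pos _ fun k h0 hk => ?_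
  rw [← off_pull]
  exact c.N_off_interior h0 hk _

theorem Ctx.mulVec_ctr_zero (c : Ctx ends β m f e) (y' : DualGr.CtrVert ends (univ.image e) → ℤ) :
    (LabGraph.mfMatrix (DualGr.ctrEnds ends (univ.image e)) (LabGraph.ctrFn ends (univ.image e) β)).mulVec y'
        (DualGr.ctrMk ends (univ.image e) (gg f 0)) =
      -2 * y' (DualGr.ctrMk ends (univ.image e) (gg f 0)) +
        N ends (gg f 0) (tilde ends (univ.image e) (CC f) y') +
        N ends (gg f m) (tilde ends (univ.image e) (CC f) y') := by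
  rw [c.oneClass.mulVec_ctr_of_mem β c.beta_const (gg_mem_CC f 0), c.sum_N_tilde, c.sum_N_tilde,
    c.oneClass.tilde_ctrFn β c.beta_const]
  have h1 : (fun w => if w ∈ CC f then 0 else β w) = off (CC f) β := rfl
  rw [h1, c.N_off_beta_zero, c.N_off_beta_last, c.beta_gg]
  have hm : (m : ℤ) ≠ 0 := by have := c.m_pos; omega
  have h2 : -((m : ℤ) + m) / m = -2 := by
    apply Int.ediv_eq_of_eq_mul_left hm
    ring
  rw [h2]
  ring

/-- the map `h` with `liftAt ∘ α' = α ∘ h` -/
noncomputable def hmap (ends : E → V × V) (β : V → ℤ) (f : Fin (m + 1) → V) (e : Fin m → E) (T : Finset V)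
    (y' : DualGr.CtrVert ends (univ.image e) → ℤ) : V → ℤ :=
  pull ends (univ.image e) y' +
    ((LabGraph.mfMatrix ends β).mulVec (pull ends (univ.image e) y') (gg f m)) • tau β f T

theorem Ctx.mulVec_hmap (c : Ctx ends β m f e) {T : Finset V} (hT : Part ends m f T)
    (y' : DualGr.CtrVert ends (univ.image e) → ℤ) :
    (LabGraph.mfMatrix ends β).mulVec (hmap ends β f e T y') =
      LabGraph.liftAt ends (univ.image e) (gg f 0)
        ((LabGraph.mfMatrix (DualGr.ctrEnds ends (univ.image e))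
          (LabGraph.ctrFn ends (univ.image e) β)).mulVec y') := by
  funext v
  unfold hmap
  rw [Matrix.mulVec_add, Matrix.mulVec_smul, c.oneClass.liftAt_apply (gg_mem_CC f 0)]
  simp only [Pi.add_apply, Pi.smul_apply, smul_eq_mul]
  by_cases hv : v ∈ CC f
  · obtain ⟨i, hi, rfl⟩ := mem_CC.mp hv
    rcases Nat.eq_zero_or_pos i with h0 | h0
    · subst h0
      rw [if_neg (fun h => h.2 rfl), c.mulVec_tau_zero hT, c.mulVec_ctr_zero, c.mulVec_pull_zero,
        c.mulVec_pull_last]
      ring
    · have hne : gg f i ≠ gg f 0 := fun h => by have := c.gg_inj hi (Nat.zero_le m) h; omega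
      rw [if_pos ⟨hv, hne⟩]
      rcases Nat.lt_or_ge i m with hlt | hge
      · rw [c.mulVec_pull_interior y' h0 hlt, c.mulVec_tau_interior hT h0 hlt]
        ring
      · have : i = m := by omega
        subst this
        rw [c.mulVec_tau_last hT]
        ring
  · rw [if_neg (fun h => hv h.1), c.mulVec_tau_off hT hv,
      c.oneClass.mulVec_ctr_of_not_mem β c.beta_const hv]
    unfold pull
    ring

end Groth.Agent.Helper7.LabCtr
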