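import Groth.Agent.Helper7.LabCtr5

set_option autoImplicit false
set_option linter.unusedSectionVars false
universe u
open Finset

namespace Groth.Agent.Helper7.LabCtr

variable {V E : Type u} [Fintype V] [Fintype E] [DecidableEq V] [DecidableEq E]
variable {ends : E → V × V} {β : V → ℤ} {m : ℕ} {f : Fin (m + 1) → V} {e : Fin m → E}

theorem gg_zero (f : Fin (m + 1) → V) : gg f 0 = f 0 := gg_of_le f (Nat.zero_le m)

theorem Ctx.gg_ne_zero (c : Ctx ends β m f e) {i : ℕ} (h0 : 0 < i) (hi : i ≤ m) : gg f i ≠ gg f 0 :=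
  fun h => by have := c.gg_inj hi (Nat.zero_le m) h; omega

/-- a vector whose image under `α` vanishes at the interior chain vertices is affine along the chain -/
theorem Ctx.affine_of_interior (c : Ctx ends β m f e) (y : V → ℤ)
    (hy : ∀ i, 0 < i → i < m → (LabGraph.mfMatrix ends β).mulVec y (gg f i) = 0) :
    ∀ i, i ≤ m → y (gg f i) = y (gg f 0) + i * (y (gg f 1) - y (gg f 0)) := by
  have key : ∀ i, i + 1 ≤ m → (y (gg f i) = y (gg f 0) + i * (y (gg f 1) - y (gg f 0)) ∧
      y (gg f (i + 1)) = y (gg f 0) + (i + 1 : ℕ) * (y (gg f 1) - y (gg f 0))) := by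
    intro i
    induction i with
    | zero => intro _; constructor <;> simp
    | succ i ih =>
      intro hi
      obtain ⟨h1, h2⟩ := ih (by omega)
      refine ⟨h2, ?_⟩
      have h3 := hy (i + 1) (by omega) (by omega)
      rw [c.mulVec_gg (by omega), if_pos (by omega), if_pos (by omega),
        c.N_off_interior (by omega) (by omega)] at h3
      simp only [Nat.add_sub_cancel] at h3
      have h4 : y (gg f (i + 1 + 1)) = 2 * y (gg f (i + 1)) - y (gg f i) := by linarith
      rw [h4, h2, h1]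
      push_cast
      ring
  intro i hi
  rcases Nat.eq_zero_or_pos i with h0 | h0
  · subst h0; simp
  · have := (key (i - 1) (by omega)).2
    rwa [show i - 1 + 1 = i by omega] at this

theorem Ctx.injective_core (c : Ctx ends β m f e) (x : DualGr.CtrVert ends (univ.image e) → ℤ)
    (hfx : LabGraph.liftAt ends (univ.image e) (f 0) x ∈
      LinearMap.range (Matrix.mulVecLin (LabGraph.mfMatrix ends β))) :
    x ∈ LinearMap.range (Matrix.mulVecLin
      (LabGraph.mfMatrix (DualGr.ctrEnds ends (univ.image e)) (LabGraph.ctrFn ends (univ.image e) β))) := by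
  obtain ⟨y, hy⟩ := hfx
  rw [Matrix.mulVecLin_apply, ← gg_zero f] at hy
  obtain ⟨T, hT⟩ := c.exists_part
  have hm := c.m_pos
  have hO := c.oneClass
  have hlift : ∀ v, (LabGraph.mfMatrix ends β).mulVec y v =
      if v ∈ CC f ∧ v ≠ gg f 0 then 0 else x (DualGr.ctrMk ends (univ.image e) v) := by
    intro v
    rw [hy, hO.liftAt_apply (gg_mem_CC f 0)]
  have hint : ∀ i, 0 < i → i ≤ m → (LabGraph.mfMatrix ends β).mulVec y (gg f i) = 0 := by
    intro i h0 hi
    rw [hlift, if_pos ⟨gg_mem_CC f i, c.gg_ne_zero h0 hi⟩]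
  set δ := y (gg f 1) - y (gg f 0) with hδ
  have haff := c.affine_of_interior y (fun i h0 hi => hint i h0 (le_of_lt hi))
  set y₂ : V → ℤ := y - δ • tau β f T with hy₂
  have hconst : ∀ v ∈ CC f, ∀ w ∈ CC f, y₂ v = y₂ w := by
    intro v hv w hw
    obtain ⟨i, hi, rfl⟩ := mem_CC.mp hv
    obtain ⟨j, hj, rfl⟩ := mem_CC.mp hw
    simp only [hy₂, Pi.sub_apply, Pi.smul_apply, smul_eq_mul]
    rw [c.tau_gg hT hi, c.tau_gg hT hj, haff i hi, haff j hj]
    ring
  have hpull : pull ends (univ.image e) (LabGraph.ctrFn ends (univ.image e) y₂) = y₂ :=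
    hO.ctrFn_comp y₂ hconst
  have hmul₂ : ∀ v, (LabGraph.mfMatrix ends β).mulVec y₂ v =
      (LabGraph.mfMatrix ends β).mulVec y v - δ * (LabGraph.mfMatrix ends β).mulVec (tau β f T) v := by
    intro v
    rw [hy₂, Matrix.mulVec_sub, Matrix.mulVec_smul]
    simp
  refine ⟨LabGraph.ctrFn ends (univ.image e) y₂, ?_⟩
  rw [Matrix.mulVecLin_apply]
  funext cv
  obtain ⟨v, rfl⟩ := DualGr.ctrMk_surjective ends (univ.image e) cv
  by_cases hv : v ∈ CC f
  · rw [hO.mk_eq_of_mem hv (gg_mem_CC f 0)]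
    have h1 := congrFun (c.mulVec_hmap hT (LabGraph.ctrFn ends (univ.image e) y₂)) (gg f 0)
    rw [hO.liftAt_apply (gg_mem_CC f 0), if_neg (fun h => h.2 rfl)] at h1
    rw [← h1]
    have h2 : hmap ends β f e T (LabGraph.ctrFn ends (univ.image e) y₂) = y := by
      unfold hmap
      rw [hpull, hmul₂, hint m hm (le_refl m), c.mulVec_tau_last hT, hy₂]
      funext w
      simp
    rw [h2, hlift, if_neg (fun h => h.2 rfl)]
  · rw [hO.mulVec_ctr_of_not_mem β c.beta_const hv]
    have h3 : (fun w => LabGraph.ctrFn ends (univ.image e) y₂ (DualGr.ctrMk ends (univ.image e) w)) = y₂ :=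
      hpull
    rw [h3, hmul₂, c.mulVec_tau_off hT hv, hlift, if_neg (fun h => hv h.1)]
    ring

end Groth.Agent.Helper7.LabCtr
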