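import Groth.Agent.Helper7.LabCtr6

set_option autoImplicit false
set_option linter.unusedSectionVars false
universe u
open Finset

namespace Groth.Agent.Helper7.LabCtr

variable {V E : Type u} [Fintype V] [Fintype E] [DecidableEq V] [DecidableEq E]
variable {ends : E → V × V} {β : V → ℤ} {m : ℕ} {f : Fin (m + 1) → V} {e : Fin m → E}

theorem mfMatrix_symm (ends : E → V × V) (β : V → ℤ) (v w : V) :
    LabGraph.mfMatrix ends β v w = LabGraph.mfMatrix ends β w v := by
  by_cases h : v = w
  · rw [h]
  · rw [mfMatrix_off ends β h, mfMatrix_off ends β (Ne.symm h), edgeMult_comm]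

theorem betaHom_mulVec (ends : E → V × V) (β : V → ℤ) (hβ : LabGraph.IsMultFn ends β) (z : V → ℤ) :
    LabGraph.betaHom β ((LabGraph.mfMatrix ends β).mulVec z) = 0 := by
  unfold LabGraph.betaHom
  rw [Fintype.linearCombination_apply]
  unfold Matrix.mulVec dotProduct
  simp only [smul_eq_mul, Finset.sum_mul]
  rw [Finset.sum_comm]
  refine Finset.sum_eq_zero fun w _ => ?_
  have h1 := mulVec_beta ends β hβ w
  unfold Matrix.mulVec dotProduct at h1
  have h2 : ∀ v ∈ (univ : Finset V), LabGraph.mfMatrix ends β v w * z w * β v =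
      z w * (LabGraph.mfMatrix ends β w v * β v) := by
    intro v _
    rw [mfMatrix_symm ends β v w]
    ring
  rw [Finset.sum_congr rfl h2, ← Finset.mul_sum, h1, mul_zero]

/-- elimination along the chain -/
theorem Ctx.exists_elim (c : Ctx ends β m f e) (y : V → ℤ) :
    ∃ z : V → ℤ, ∀ i, 0 < i → i ≤ m → (y - (LabGraph.mfMatrix ends β).mulVec z) (gg f i) = 0 := by
  have key : ∀ n, n ≤ m → ∃ z : V → ℤ, ∀ i, m - n < i → i ≤ m →
      (y - (LabGraph.mfMatrix ends β).mulVec z) (gg f i) = 0 := by
    intro n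
    induction n with
    | zero =>
      intro _
      exact ⟨0, fun i h1 h2 => by omega⟩
    | succ n ih =>
      intro hn
      obtain ⟨z, hz⟩ := ih (by omega)
      set j := m - n with hj
      have hj1 : 1 ≤ j := by omega
      set c0 := (y - (LabGraph.mfMatrix ends β).mulVec z) (gg f j) with hc0
      refine ⟨z + c0 • Pi.single (gg f (j - 1)) 1, fun i h1 h2 => ?_⟩
      have hij : j ≤ i := by omega
      rw [Matrix.mulVec_add, Matrix.mulVec_smul, Matrix.mulVec_single_one]
      simp only [Pi.sub_apply, Pi.add_apply, Pi.smul_apply, smul_eq_mul, Matrix.col_apply]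
      have hne : gg f i ≠ gg f (j - 1) := fun h => by
        have := c.gg_inj h2 (by omega) h; omega
      rw [mfMatrix_off ends β hne, c.edgeMult_gg h2 (by omega) (by omega)]
      rcases Nat.eq_or_lt_of_le hij with h3 | h3
      · rw [if_pos (Or.inr (by omega)), ← h3]
        simp only [hc0, Pi.sub_apply]
        ring
      · rw [if_neg (by omega)]
        have := hz i (by omega) h2
        simp only [Pi.sub_apply] at this
        linarith
  obtain ⟨z, hz⟩ := key m (le_refl m)
  exact ⟨z, fun i h0 hi => hz i (by omega) hi⟩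

/-- `liftAt` as a linear map -/
noncomputable def liftLin (ends : E → V × V) (D : Finset E) (v₀ : V) :
    (DualGr.CtrVert ends D → ℤ) →ₗ[ℤ] (V → ℤ) where
  toFun := LabGraph.liftAt ends D v₀
  map_add' x y := by
    funext v
    unfold LabGraph.liftAt
    by_cases h : DualGr.ctrMk ends D v = DualGr.ctrMk ends D v₀ ∧ v ≠ v₀
    · simp [h]
    · simp [h]
  map_smul' a x := by
    funext v
    unfold LabGraph.liftAt
    by_cases h : DualGr.ctrMk ends D v = DualGr.ctrMk ends D v₀ ∧ v ≠ v₀
    · simp [h]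
    · simp [h]

theorem Ctx.liftAt_mem_ker (c : Ctx ends β m f e) (x : DualGr.CtrVert ends (univ.image e) → ℤ)
    (hx : x ∈ LinearMap.ker (LabGraph.betaHom (LabGraph.ctrFn ends (univ.image e) β))) :
    liftLin ends (univ.image e) (f 0) x ∈ LinearMap.ker (LabGraph.betaHom β) := by
  rw [LinearMap.mem_ker] at hx ⊢
  show LabGraph.betaHom β (LabGraph.liftAt ends (univ.image e) (f 0) x) = 0
  rw [← gg_zero f, c.oneClass.betaHom_liftAt (gg_mem_CC f 0) β c.beta_const, hx]

/-- the induced linear map `ker β' → ker β` -/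
noncomputable def Ctx.kerMap (c : Ctx ends β m f e) :
    LinearMap.ker (LabGraph.betaHom (LabGraph.ctrFn ends (univ.image e) β)) →ₗ[ℤ]
      LinearMap.ker (LabGraph.betaHom β) :=
  (liftLin ends (univ.image e) (f 0)).restrict c.liftAt_mem_ker

theorem Ctx.kerMap_coe (c : Ctx ends β m f e)
    (x : LinearMap.ker (LabGraph.betaHom (LabGraph.ctrFn ends (univ.image e) β))) :
    ((c.kerMap x : LinearMap.ker (LabGraph.betaHom β)) : V → ℤ) =
      LabGraph.liftAt ends (univ.image e) (f 0) (x : DualGr.CtrVert ends (univ.image e) → ℤ) := rfl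

theorem Ctx.kerMap_le (c : Ctx ends β m f e) :
    (LinearMap.range (Matrix.mulVecLin (LabGraph.mfMatrix (DualGr.ctrEnds ends (univ.image e))
        (LabGraph.ctrFn ends (univ.image e) β)))).comap
      (LinearMap.ker (LabGraph.betaHom (LabGraph.ctrFn ends (univ.image e) β))).subtype ≤
    ((LinearMap.range (Matrix.mulVecLin (LabGraph.mfMatrix ends β))).comap
      (LinearMap.ker (LabGraph.betaHom β)).subtype).comap c.kerMap := by
  intro x hx
  rw [Submodule.mem_comap, Submodule.mem_comap]
  rw [Submodule.mem_comap] at hx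
  obtain ⟨y', hy'⟩ := hx
  rw [Matrix.mulVecLin_apply] at hy'
  obtain ⟨T, hT⟩ := c.exists_part
  refine ⟨hmap ends β f e T y', ?_⟩
  rw [Matrix.mulVecLin_apply, c.mulVec_hmap hT, hy', gg_zero]
  rfl

theorem Ctx.surj_core (c : Ctx ends β m f e) (y : LinearMap.ker (LabGraph.betaHom β)) :
    ∃ x : LinearMap.ker (LabGraph.betaHom (LabGraph.ctrFn ends (univ.image e) β)),
      ((c.kerMap x : LinearMap.ker (LabGraph.betaHom β)) : V → ℤ) - (y : V → ℤ) ∈
        LinearMap.range (Matrix.mulVecLin (LabGraph.mfMatrix ends β)) := by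
  obtain ⟨z, hz⟩ := c.exists_elim (y : V → ℤ)
  have hO := c.oneClass
  set y₃ : V → ℤ := (y : V → ℤ) - (LabGraph.mfMatrix ends β).mulVec z with hy₃
  set ybar : V → ℤ := fun v => if v ∈ CC f then y₃ (gg f 0) else y₃ v with hybar
  have hconst : ∀ v ∈ CC f, ∀ w ∈ CC f, ybar v = ybar w := by
    intro v hv w hw
    simp only [hybar, if_pos hv, if_pos hw]
  set x : DualGr.CtrVert ends (univ.image e) → ℤ := LabGraph.ctrFn ends (univ.image e) ybar with hx
  have hlift : LabGraph.liftAt ends (univ.image e) (f 0) x = y₃ := by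
    funext v
    rw [← gg_zero f, hO.liftAt_apply (gg_mem_CC f 0), hx, hO.ctrFn_mk ybar hconst]
    by_cases hv : v ∈ CC f
    · by_cases hv0 : v = gg f 0
      · rw [if_neg (fun h => h.2 hv0), hybar]
        simp only [hv0, ite_self]
      · rw [if_pos ⟨hv, hv0⟩]
        obtain ⟨i, hi, rfl⟩ := mem_CC.mp hv
        have h0 : 0 < i := by
          rcases Nat.eq_zero_or_pos i with h | h
          · exact absurd (by rw [h]) hv0
          · exact h
        exact (hz i h0 hi).symm
    · rw [if_neg (fun h => hv h.1), hybar]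
      simp only [if_neg hv]
  have hker : x ∈ LinearMap.ker (LabGraph.betaHom (LabGraph.ctrFn ends (univ.image e) β)) := by
    rw [LinearMap.mem_ker, ← hO.betaHom_liftAt (gg_mem_CC f 0) β c.beta_const, gg_zero, hlift, hy₃,
      map_sub, betaHom_mulVec ends β c.hβ, sub_zero]
    exact LinearMap.mem_ker.mp y.2
  refine ⟨⟨x, hker⟩, ?_⟩
  rw [c.kerMap_coe]
  show LabGraph.liftAt ends (univ.image e) (f 0) x - (y : V → ℤ) ∈ _
  rw [hlift, hy₃]
  refine ⟨-z, ?_⟩
  rw [Matrix.mulVecLin_apply, Matrix.mulVec_neg]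
  abel

/-- the homomorphism of component groups -/
noncomputable def Ctx.phi (c : Ctx ends β m f e) :
    LabGraph.CompGrp (DualGr.ctrEnds ends (univ.image e)) (LabGraph.ctrFn ends (univ.image e) β) →ₗ[ℤ]
      LabGraph.CompGrp ends β :=
  Submodule.mapQ _ _ c.kerMap c.kerMap_le

theorem Ctx.phi_mk (c : Ctx ends β m f e)
    (x : LinearMap.ker (LabGraph.betaHom (LabGraph.ctrFn ends (univ.image e) β))) :
    c.phi (Submodule.Quotient.mk x) = Submodule.Quotient.mk (c.kerMap x) := rfl

theorem Ctx.phi_surjective (c : Ctx ends β m f e) : Function.Surjective c.phi := by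
  intro q
  obtain ⟨y, rfl⟩ := Submodule.Quotient.mk_surjective _ q
  obtain ⟨x, hx⟩ := c.surj_core y
  refine ⟨Submodule.Quotient.mk x, ?_⟩
  rw [c.phi_mk, Submodule.Quotient.eq, Submodule.mem_comap]
  exact hx

end Groth.Agent.Helper7.LabCtr
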