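import Mathlib

namespace Groth.Agent.Helper7.Laplace

open Matrix Equiv Finset

variable {k : Type*} [CommRing k]

/-- block permutation on `Fin (p + r)` -/
def blk {p r : ℕ} (σ : Perm (Fin p)) (τ : Perm (Fin r)) : Perm (Fin (p + r)) :=
  finSumFinEquiv.permCongr (Perm.sumCongr σ τ)

theorem blk_castAdd {p r : ℕ} (σ : Perm (Fin p)) (τ : Perm (Fin r)) (i : Fin p) :
    blk σ τ (Fin.castAdd r i) = Fin.castAdd r (σ i) := by
  simp [blk, Equiv.permCongr_apply]

theorem blk_natAdd {p r : ℕ} (σ : Perm (Fin p)) (τ : Perm (Fin r)) (j : Fin r) :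
    blk σ τ (Fin.natAdd p j) = Fin.natAdd p (τ j) := by
  simp [blk, Equiv.permCongr_apply]

theorem sign_blk {p r : ℕ} (σ : Perm (Fin p)) (τ : Perm (Fin r)) :
    Perm.sign (blk σ τ) = Perm.sign σ * Perm.sign τ := by
  simp [blk, Perm.sign_permCongr, Perm.sign_sumCongr]

theorem core (p r : ℕ) (N : Matrix (Fin (p + r)) (Fin (p + r)) k) :
    ∑ π : Perm (Fin (p + r)), (((Perm.sign π : ℤˣ) : ℤ) : k) *
      (N.submatrix (Fin.castAdd r) (π ∘ Fin.castAdd r)).det *
      (N.submatrix (Fin.natAdd p) (π ∘ Fin.natAdd p)).det =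
    ((p.factorial * r.factorial : ℕ) : k) * N.det := by
  have h1 : ∀ π : Perm (Fin (p + r)), (((Perm.sign π : ℤˣ) : ℤ) : k) *
      (N.submatrix (Fin.castAdd r) (π ∘ Fin.castAdd r)).det *
      (N.submatrix (Fin.natAdd p) (π ∘ Fin.natAdd p)).det =
      ∑ σ : Perm (Fin p), ∑ τ : Perm (Fin r),
        (((Perm.sign (blk σ τ * π⁻¹) : ℤˣ) : ℤ) : k) * ∏ y, N ((blk σ τ * π⁻¹) y) y := by
    intro π
    rw [det_apply', det_apply', mul_assoc, Finset.sum_mul_sum, Finset.mul_sum]
    refine Finset.sum_congr rfl fun σ _ => ?_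
    rw [Finset.mul_sum]
    refine Finset.sum_congr rfl fun τ _ => ?_
    have hprod : ∏ y, N ((blk σ τ * π⁻¹) y) y =
        (∏ i, N (Fin.castAdd r (σ i)) (π (Fin.castAdd r i))) *
          ∏ j, N (Fin.natAdd p (τ j)) (π (Fin.natAdd p j)) := by
      rw [← Equiv.prod_comp π (fun y => N ((blk σ τ * π⁻¹) y) y), Fin.prod_univ_add]
      simp [blk_castAdd, blk_natAdd]
    rw [hprod]
    simp only [submatrix_apply, Function.comp_apply, Perm.sign_mul, Perm.sign_inv, sign_blk,
      Units.val_mul, Int.cast_mul]
    ring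
  rw [Finset.sum_congr rfl fun π _ => h1 π, Finset.sum_comm]
  have h2 : ∀ σ : Perm (Fin p), ∀ τ : Perm (Fin r),
      ∑ π : Perm (Fin (p + r)),
        (((Perm.sign (blk σ τ * π⁻¹) : ℤˣ) : ℤ) : k) * ∏ y, N ((blk σ τ * π⁻¹) y) y = N.det := by
    intro σ τ
    rw [det_apply']
    exact Fintype.sum_equiv ((Equiv.inv _).trans (Equiv.mulLeft (blk σ τ))) _ _ (fun π => rfl)
  rw [Finset.sum_congr rfl fun σ _ => Finset.sum_comm]
  rw [Finset.sum_congr rfl fun σ _ => Finset.sum_congr rfl fun τ _ => h2 σ τ]
  simp [Finset.sum_const, Finset.card_univ, Fintype.card_perm, mul_assoc]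

end Groth.Agent.Helper7.Laplace

namespace Groth.Agent.Helper7.Laplace

open Matrix Equiv Finset

variable {k : Type*} [CommRing k]

/-- sign of a permutation of `Fin (p+r)` which is increasing on both blocks -/
theorem sign_shuffle (p r : ℕ) (e : Perm (Fin (p + r)))
    (h1 : StrictMono (e ∘ Fin.castAdd r)) (h2 : StrictMono (e ∘ Fin.natAdd p)) :
    ((Perm.sign e : ℤˣ) : ℤ) = (-1) ^ ((Finset.univ : Finset (Fin p × Fin r)).filter
      (fun x => e (Fin.natAdd p x.2) < e (Fin.castAdd r x.1))).card := by
  rw [Perm.sign_eq_prod_prod_Ioi]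
  have hIoi : ∀ i : Fin (p + r), ∀ f : Fin (p + r) → ℤˣ,
      ∏ j ∈ Finset.Ioi i, f j = ∏ j, if i < j then f j else 1 := by
    intro i f
    rw [← Finset.prod_filter]
    congr 1
    ext j
    simp
  simp_rw [hIoi]
  rw [Fin.prod_univ_add]
  simp_rw [Fin.prod_univ_add]
  have hA : ∀ i : Fin p, (∏ j : Fin p, if Fin.castAdd r i < Fin.castAdd r j then
      (if e (Fin.castAdd r i) < e (Fin.castAdd r j) then (1 : ℤˣ) else -1) else 1) = 1 := by
    intro i
    apply Finset.prod_eq_one
    intro j _
    split_ifs with h h'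
    · rfl
    · exact absurd (h1 (show i < j from h)) h'
    · rfl
  have hD : ∀ i : Fin r, (∏ j : Fin r, if Fin.natAdd p i < Fin.natAdd p j then
      (if e (Fin.natAdd p i) < e (Fin.natAdd p j) then (1 : ℤˣ) else -1) else 1) = 1 := by
    intro i
    apply Finset.prod_eq_one
    intro j _
    split_ifs with h h'
    · rfl
    · exact absurd (h2 (show i < j by rw [Fin.lt_def] at h ⊢; simpa using h)) h'
    · rfl
  have hC : ∀ i : Fin r, (∏ j : Fin p, if Fin.natAdd p i < Fin.castAdd r j then
      (if e (Fin.natAdd p i) < e (Fin.castAdd r j) then (1 : ℤˣ) else -1) else 1) = 1 := by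
    intro i
    apply Finset.prod_eq_one
    intro j _
    rw [if_neg]
    rw [Fin.lt_def]
    simp only [Fin.val_natAdd, Fin.val_castAdd]
    omega
  have hB : ∀ i : Fin p, ∀ j : Fin r, (if Fin.castAdd r i < Fin.natAdd p j then
      (if e (Fin.castAdd r i) < e (Fin.natAdd p j) then (1 : ℤˣ) else -1) else 1) =
      if e (Fin.natAdd p j) < e (Fin.castAdd r i) then -1 else 1 := by
    intro i j
    have hlt : Fin.castAdd r i < Fin.natAdd p j := by
      rw [Fin.lt_def]
      simp only [Fin.val_natAdd, Fin.val_castAdd]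
      omega
    rw [if_pos hlt]
    have hne : e (Fin.castAdd r i) ≠ e (Fin.natAdd p j) := fun h => hlt.ne (e.injective h)
    by_cases h : e (Fin.castAdd r i) < e (Fin.natAdd p j)
    · rw [if_pos h, if_neg (not_lt.mpr h.le)]
    · rw [if_neg h, if_pos (lt_of_le_of_ne (not_lt.mp h) hne.symm)]
  simp_rw [hA, hD, hC, hB]
  simp only [one_mul, mul_one, Finset.prod_const_one]
  rw [← Finset.prod_product' (s := Finset.univ) (t := Finset.univ)
    (f := fun i j => if e (Fin.natAdd p j) < e (Fin.castAdd r i) then (-1 : ℤˣ) else 1)]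
  rw [Finset.univ_product_univ, Finset.prod_ite]
  simp

end Groth.Agent.Helper7.Laplace

namespace Groth.Agent.Helper7.Laplace

open Matrix Equiv Finset

variable {k : Type*} [CommRing k]

theorem result (p r : ℕ) (M : Matrix (Fin (p + r)) (Fin (p + r)) k)
    (A : Finset (Fin (p + r))) (hA : A.card = p) (B : Finset (Fin (p + r))) (hB : B.card = r) :
    ∑ π : Perm (Fin (p + r)), (((Perm.sign π : ℤˣ) : ℤ) : k) *
      ((M * π.permMatrix k).submatrix (A.orderEmbOfFin hA) (Fin.castAdd r)).det *
      ((M * π.permMatrix k).submatrix (B.orderEmbOfFin hB) (Fin.natAdd p)).det =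
    if B = Aᶜ then ((p.factorial * r.factorial : ℕ) : k) *
      (-1 : k) ^ ((A ×ˢ Aᶜ).filter (fun ab => ab.2 < ab.1)).card * M.det else 0 := by
  classical
  set a := A.orderEmbOfFin hA with ha
  set b := B.orderEmbOfFin hB with hb
  set ρ0 : Fin (p + r) → Fin (p + r) := Fin.append a b with hρ0
  set N := M.submatrix ρ0 id with hN
  have hstep : ∀ π : Perm (Fin (p + r)), (((Perm.sign π : ℤˣ) : ℤ) : k) *
      ((M * π.permMatrix k).submatrix a (Fin.castAdd r)).det *
      ((M * π.permMatrix k).submatrix b (Fin.natAdd p)).det =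
      (((Perm.sign π⁻¹ : ℤˣ) : ℤ) : k) *
      (N.submatrix (Fin.castAdd r) (⇑π⁻¹ ∘ Fin.castAdd r)).det *
      (N.submatrix (Fin.natAdd p) (⇑π⁻¹ ∘ Fin.natAdd p)).det := by
    intro π
    have hmul : M * π.permMatrix k = M.submatrix id π.symm := by
      rw [Perm.permMatrix, PEquiv.mul_toMatrix_toPEquiv]
    have e1 : (M.submatrix id ⇑(Equiv.symm π)).submatrix (⇑a) (Fin.castAdd r) =
        N.submatrix (Fin.castAdd r) (⇑π⁻¹ ∘ Fin.castAdd r) := by
      ext i j
      simp [hN, hρ0, Fin.append_left]
    have e2 : (M.submatrix id ⇑(Equiv.symm π)).submatrix (⇑b) (Fin.natAdd p) =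
        N.submatrix (Fin.natAdd p) (⇑π⁻¹ ∘ Fin.natAdd p) := by
      ext i j
      simp [hN, hρ0, Fin.append_right]
    rw [hmul, Perm.sign_inv, e1, e2]
  rw [Finset.sum_congr rfl fun π _ => hstep π]
  have hre := Equiv.sum_comp (Equiv.inv (Perm (Fin (p + r))))
    (fun π => (((Perm.sign π : ℤˣ) : ℤ) : k) *
      (N.submatrix (Fin.castAdd r) (⇑π ∘ Fin.castAdd r)).det *
      (N.submatrix (Fin.natAdd p) (⇑π ∘ Fin.natAdd p)).det)
  simp only [Equiv.inv_apply] at hre
  rw [hre]
  rw [core]
  have haA : ∀ i, a i ∈ A := fun i => Finset.orderEmbOfFin_mem A hA i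
  have hbB : ∀ j, b j ∈ B := fun j => Finset.orderEmbOfFin_mem B hB j
  by_cases hBA : B = Aᶜ
  · rw [if_pos hBA]
    have hinj : Function.Injective ρ0 := by
      intro x y hxy
      induction x using Fin.addCases with
      | left i =>
        induction y using Fin.addCases with
        | left i' =>
          simp only [hρ0, Fin.append_left] at hxy
          rw [a.injective hxy]
        | right j' =>
          simp only [hρ0, Fin.append_left, Fin.append_right] at hxy
          have h1 := haA i
          have h2 := hbB j'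
          rw [hBA, Finset.mem_compl, ← hxy] at h2
          exact absurd h1 h2
      | right j =>
        induction y using Fin.addCases with
        | left i' =>
          simp only [hρ0, Fin.append_left, Fin.append_right] at hxy
          have h1 := haA i'
          have h2 := hbB j
          rw [hBA, Finset.mem_compl, hxy] at h2
          exact absurd h1 h2
        | right j' =>
          simp only [hρ0, Fin.append_right] at hxy
          rw [b.injective hxy]
    have hbij : Function.Bijective ρ0 := Finite.injective_iff_bijective.mp hinj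
    set e : Perm (Fin (p + r)) := Equiv.ofBijective ρ0 hbij with he
    have hNe : N = M.submatrix e id := rfl
    rw [hNe, det_permute]
    have h1 : StrictMono (e ∘ Fin.castAdd r) := by
      intro i j hij
      simp only [Function.comp_apply, he, Equiv.ofBijective_apply, hρ0, Fin.append_left]
      exact a.strictMono hij
    have h2 : StrictMono (e ∘ Fin.natAdd p) := by
      intro i j hij
      simp only [Function.comp_apply, he, Equiv.ofBijective_apply, hρ0, Fin.append_right]
      exact b.strictMono hij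
    rw [sign_shuffle p r e h1 h2]
    have hcard : ((Finset.univ : Finset (Fin p × Fin r)).filter
        (fun x => e (Fin.natAdd p x.2) < e (Fin.castAdd r x.1))).card =
        ((A ×ˢ Aᶜ).filter (fun ab => ab.2 < ab.1)).card := by
      apply Finset.card_bij (fun x _ => (a x.1, b x.2))
      · intro x hx
        simp only [Finset.mem_filter, Finset.mem_univ, true_and, he, Equiv.ofBijective_apply, hρ0,
          Fin.append_left, Fin.append_right] at hx
        simp only [Finset.mem_filter, Finset.mem_product]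
        refine ⟨⟨haA _, ?_⟩, hx⟩
        rw [← hBA]
        exact hbB _
      · intro x _ y _ hxy
        simp only [Prod.mk.injEq] at hxy
        exact Prod.ext (a.injective hxy.1) (b.injective hxy.2)
      · rintro ⟨x, y⟩ hxy
        simp only [Finset.mem_filter, Finset.mem_product] at hxy
        obtain ⟨⟨hx, hy⟩, hlt⟩ := hxy
        rw [← hBA] at hy
        have hx' : x ∈ Set.range a := by rw [ha, Finset.range_orderEmbOfFin]; exact hx
        have hy' : y ∈ Set.range b := by rw [hb, Finset.range_orderEmbOfFin]; exact hy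
        obtain ⟨i, rfl⟩ := hx'
        obtain ⟨j, rfl⟩ := hy'
        refine ⟨(i, j), ?_, rfl⟩
        simp only [Finset.mem_filter, Finset.mem_univ, true_and, he, Equiv.ofBijective_apply, hρ0,
          Fin.append_left, Fin.append_right]
        exact hlt
    rw [hcard]
    push_cast
    ring
  · rw [if_neg hBA]
    have hex : ∃ x, x ∈ A ∧ x ∈ B := by
      by_contra hno
      push_neg at hno
      apply hBA
      apply Finset.eq_of_subset_of_card_le
      · intro x hx
        rw [Finset.mem_compl]
        exact fun hxA => hno x hxA hx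
      · rw [Finset.card_compl, hA, hB, Fintype.card_fin]
        omega
    obtain ⟨x, hxA, hxB⟩ := hex
    have hx' : x ∈ Set.range a := by rw [ha, Finset.range_orderEmbOfFin]; exact hxA
    have hy' : x ∈ Set.range b := by rw [hb, Finset.range_orderEmbOfFin]; exact hxB
    obtain ⟨i, hi⟩ := hx'
    obtain ⟨j, hj⟩ := hy'
    have hne : Fin.castAdd r i ≠ Fin.natAdd p j := by
      intro h
      have := congrArg Fin.val h
      simp only [Fin.val_natAdd, Fin.val_castAdd] at this
      omega
    rw [det_zero_of_row_eq hne, mul_zero]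
    ext c
    simp only [hN, submatrix_apply, hρ0, Fin.append_left, Fin.append_right, hi, hj]

end Groth.Agent.Helper7.Laplace
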