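import Mathlib
import Groth.Agent.Helper7.GorDuB

set_option autoImplicit false

/-!
# Lattices: rank, duals of products, and lattices between the conductor and `O^n`
-/

namespace Groth.Agent.Helper7.TFDu

open CategoryTheory Abelian Function IsLocalRing TensorProduct
open scoped Pointwise
open Groth.Agent.Helper7.CanDu Groth.Agent.Helper7.ExtDu

universe u

variable {O : Type u} [CommRing O] [IsDomain O] {K : Type u} [Field K] [Algebra O K]
  [IsFractionRing O K] {n : ℕ}

/-- the dual of a product lattice -/
theorem dualL_pi (ω I : Submodule O K) (hI1 : (1 : K) ∈ I) :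
    dualL ω (Submodule.pi Set.univ (fun _ : Fin n => I)) =
      Submodule.pi Set.univ (fun _ : Fin n => ω / I) := by
  classical
  ext x
  rw [mem_dualL, Submodule.mem_pi]
  constructor
  · intro h i _
    rw [Submodule.mem_div_iff_forall_mul_mem]
    intro z hz
    have h1 : (Pi.single i z : Fin n → K) ∈ Submodule.pi Set.univ (fun _ : Fin n => I) := by
      rw [Submodule.mem_pi]
      intro j _
      by_cases hj : j = i
      · subst hj
        rw [Pi.single_eq_same]
        exact hz
      · rw [Pi.single_eq_of_ne hj]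
        exact Submodule.zero_mem _
    have := h _ h1
    rwa [dotProduct_single] at this
  · intro h l hl
    rw [Submodule.mem_pi] at hl
    unfold dotProduct
    apply Submodule.sum_mem
    intro i _
    exact Submodule.mem_div_iff_forall_mul_mem.1 (h i trivial) _ (hl i trivial)

/-- the inclusion of a lattice is a localization at the nonzero elements -/
theorem isLocalizedModule_lat {L : Submodule O (Fin n → K)} (hL : IsLat L) :
    IsLocalizedModule (nonZeroDivisors O) L.subtype := by
  obtain ⟨⟨x, hx, hxL⟩, -⟩ := hL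
  refine ⟨?_, ?_, ?_⟩
  · intro s
    have hs : algebraMap O K s ≠ 0 := algebraMap_ne_zero' (nonZeroDivisors.ne_zero s.2)
    rw [Module.End.isUnit_iff]
    constructor
    · intro a b hab
      have h : (s : O) • a = (s : O) • b := hab
      exact smulLin_injective (nonZeroDivisors.ne_zero s.2) h
    · intro v
      refine ⟨(algebraMap O K s)⁻¹ • v, ?_⟩
      show (s : O) • ((algebraMap O K s)⁻¹ • v) = v
      rw [← algebraMap_smul K (s : O), smul_smul, mul_inv_cancel₀ hs, one_smul]
  · intro v
    -- a common denominator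
    have hden : ∀ i : Fin n, ∃ b : O, b ≠ 0 ∧ b • v i ∈ (1 : Submodule O K) := by
      intro i
      obtain ⟨p, q, hq, hpq⟩ := IsFractionRing.div_surjective (A := O) (v i)
      refine ⟨q, nonZeroDivisors.ne_zero hq, Submodule.mem_one.2 ⟨p, ?_⟩⟩
      rw [Algebra.smul_def, ← hpq, mul_div_cancel₀ _
        (algebraMap_ne_zero' (nonZeroDivisors.ne_zero hq))]
    choose b hb0 hb using hden
    have hB0 : (∏ i, b i) ≠ 0 := Finset.prod_ne_zero_iff.2 (fun i _ => hb0 i)
    have hmem : (x * ∏ i, b i) • v ∈ L := by
      apply hxL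
      rw [mul_smul]
      apply Submodule.smul_mem_pointwise_smul
      rw [mem_stdL]
      intro i
      have : (∏ j, b j) = (∏ j ∈ Finset.univ.erase i, b j) * b i := by
        rw [Finset.prod_erase_mul _ _ (Finset.mem_univ i)]
      rw [Pi.smul_apply, this, mul_smul]
      exact Submodule.smul_mem _ _ (hb i)
    exact ⟨(⟨_, hmem⟩, ⟨x * ∏ i, b i, mem_nonZeroDivisors_of_ne_zero (mul_ne_zero hx hB0)⟩), rfl⟩
  · intro l₁ l₂ h
    exact ⟨1, by rw [one_smul, one_smul]; exact Subtype.ext h⟩

/-- a lattice in `K^n` has rank `n` -/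
theorem finrank_tensor_lat {L : Submodule O (Fin n → K)} (hL : IsLat L) :
    Module.finrank K (K ⊗[O] ↥L) = n := by
  haveI := isLocalizedModule_lat hL
  let e : (K ⊗[O] ↥L) ≃ₗ[O] (Fin n → K) :=
    IsLocalizedModule.linearEquiv (nonZeroDivisors O) (TensorProduct.mk O K ↥L 1) L.subtype
  let e' : (K ⊗[O] ↥L) ≃ₗ[K] (Fin n → K) :=
    e.extendScalarsOfIsLocalization (nonZeroDivisors O) K
  rw [e'.finrank_eq, Module.finrank_fin_fun]


/-- the conductor `(O : B) • O` inside `K` is `(1 : B)` -/
theorem colon_smul_one_eq (B : Subalgebra O K) :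
    ((1 : Submodule O K).colon (Subalgebra.toSubmodule B)) • (1 : Submodule O K) =
      1 / Subalgebra.toSubmodule B := by
  apply le_antisymm
  · rw [Submodule.smul_le]
    intro r hr x hx
    obtain ⟨s, rfl⟩ := Submodule.mem_one.1 hx
    rw [Submodule.mem_div_iff_forall_mul_mem]
    intro w hw
    have h1 : s • w ∈ Subalgebra.toSubmodule B := Submodule.smul_mem _ _ hw
    have h2 := Submodule.mem_colon.1 hr _ h1
    have : r • algebraMap O K s * w = r • s • w := by
      rw [Algebra.smul_def, Algebra.smul_def, Algebra.smul_def]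
      ring
    rw [this]
    exact h2
  · intro x hx
    have hx' := Submodule.mem_div_iff_forall_mul_mem.1 hx
    have h1 := hx' 1 B.one_mem
    rw [mul_one] at h1
    obtain ⟨r, rfl⟩ := Submodule.mem_one.1 h1
    have hr : r ∈ (1 : Submodule O K).colon (Subalgebra.toSubmodule B) := by
      rw [Submodule.mem_colon]
      intro w hw
      rw [Algebra.smul_def]
      exact hx' w hw
    have : algebraMap O K r = r • (1 : K) := by rw [Algebra.smul_def, mul_one]
    rw [this]
    exact Submodule.smul_mem_smul hr (Submodule.one_le.1 le_rfl)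

/-- S15035 -/
theorem s15035 (O : Type u) [CommRing O] [IsDomain O] [LocCoh.IsGorensteinLocalRing O]
    (hdim : ringKrullDim O = 1) [IsAlgClosed (IsLocalRing.ResidueField O)] (K : Type u) [Field K]
    [Algebra O K] [IsFractionRing O K] (hfin : Module.Finite O ↥(integralClosure O K))
    (M : Type u) [AddCommGroup M] [Module O M] [Module.Finite O M] [NoZeroSMulDivisors O M]
    (n : ℕ) (hn : Module.finrank K (TensorProduct O K M) = n) :
    ∃ M'' : Submodule O (Fin n → K),
      Submodule.pi Set.univ (fun _ : Fin n =>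
        (((1 : Submodule O K).colon (Subalgebra.toSubmodule (integralClosure O K))) •
          (1 : Submodule O K))) ≤ M'' ∧
      M'' ≤ Submodule.pi Set.univ (fun _ : Fin n => (1 : Submodule O K)) ∧
      Nonempty (M ≃ₗ[O] ↥M'') := by
  have hω := injdim_one O K hdim
  obtain ⟨M', h1, h2, ⟨e⟩⟩ := Groth.Agent.S15009.result O hdim K hfin M n hn
  have hM' : IsLat M' := isLat_of_between O K hfin M' h1 h2
  have hL : IsLat (dualL (1 : Submodule O K) M') := hM'.dual 1 one_fg one_ne_bot
  haveI : Module.Finite O ↥(dualL (1 : Submodule O K) M') := Module.Finite.iff_fg.2 hL.fg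
  haveI : NoZeroSMulDivisors O ↥(dualL (1 : Submodule O K) M') := ⟨fun {c x} h => by
    by_cases hc : c = 0
    · left; exact hc
    · right
      apply Subtype.ext
      have h' : c • (x : Fin n → K) = c • (0 : Fin n → K) := by
        rw [smul_zero]
        exact congrArg Subtype.val h
      exact smulLin_injective hc h'⟩
  obtain ⟨L', g1, g2, ⟨f⟩⟩ := Groth.Agent.S15009.result O hdim K hfin
    ↥(dualL (1 : Submodule O K) M') n (finrank_tensor_lat hL)
  have hL' : IsLat L' := isLat_of_between O K hfin L' g1 g2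
  refine ⟨dualL 1 L', ?_, ?_, ?_⟩
  · rw [colon_smul_one_eq, ← dualL_pi 1 _ (Subalgebra.one_mem _)]
    exact dualL_antitone 1 g2
  · have := dualL_antitone (1 : Submodule O K) g1
    rwa [show Submodule.pi Set.univ (fun _ : Fin n => (1 : Submodule O K)) = stdL O K n from rfl,
      dualL_stdL] at this
  · -- the chain of isomorphisms
    let t1 : ↥(dualL (1 : Submodule O K) L') ≃ₗ[O] (↥L' →ₗ[O] ↥(1 : Submodule O K)) :=
      LinearEquiv.ofBijective (theta 1 L') ⟨theta_injective 1 hL', theta_surjective 1 hL'⟩
    let t2 : (↥L' →ₗ[O] ↥(1 : Submodule O K)) ≃ₗ[O]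
        (↥(dualL (1 : Submodule O K) M') →ₗ[O] ↥(1 : Submodule O K)) :=
      LinearEquiv.congrLeft _ O f.symm
    let t3 : ↥(dualL (1 : Submodule O K) (dualL (1 : Submodule O K) M')) ≃ₗ[O]
        (↥(dualL (1 : Submodule O K) M') →ₗ[O] ↥(1 : Submodule O K)) :=
      LinearEquiv.ofBijective (theta 1 (dualL (1 : Submodule O K) M'))
        ⟨theta_injective 1 hL, theta_surjective 1 hL⟩
    have hdd : dualL (1 : Submodule O K) (dualL (1 : Submodule O K) M') = M' :=
      dualL_dualL_eq hdim 1 one_fg one_ne_bot hω hM'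
    let t4 : ↥(dualL (1 : Submodule O K) (dualL (1 : Submodule O K) M')) ≃ₗ[O] ↥M' :=
      LinearEquiv.ofEq _ _ hdd
    exact ⟨e.trans (t4.symm.trans (t3.trans (t2.symm.trans t1.symm)))⟩

end Groth.Agent.Helper7.TFDu
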