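import Mathlib

namespace Groth.Agent.Helper7.LatMat

universe u

variable {O : Type u} [CommRing O] [IsDomain O] {K : Type u} [Field K] [Algebra O K]
  [IsFractionRing O K] {n : ℕ}

local notation "S" => integralClosure O K

/-- standard basis vectors lie in `O^n` -/
theorem single_mem (j : Fin n) :
    (Pi.single j (1 : K) : Fin n → K) ∈
      Submodule.pi Set.univ (fun _ : Fin n => (1 : Submodule O K)) := by
  intro i _
  by_cases h : i = j
  · subst h
    rw [Pi.single_eq_same]
    exact Submodule.one_le.mp le_rfl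
  · rw [Pi.single_eq_of_ne h]
    exact zero_mem _

theorem key (M N : Submodule O (Fin n → K))
    (hM1 : Submodule.pi Set.univ (fun _ : Fin n => (1 : Submodule O K)) ≤ M)
    (hN2 : N ≤ Submodule.pi Set.univ (fun _ : Fin n => (Subalgebra.toSubmodule S)))
    (φ : ↥M →ₗ[O] ↥N) :
    ∃ A : Matrix (Fin n) (Fin n) ↥S,
      (∀ i j, (A i j : K) = ((φ ⟨Pi.single j 1, hM1 (single_mem j)⟩ : ↥N) : Fin n → K) i) ∧
      ∀ x : ↥M, ((φ x : ↥N) : Fin n → K) = (A.map (algebraMap ↥S K)).mulVec (x : Fin n → K) := by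
  classical
  let eM : Fin n → ↥M := fun j => ⟨Pi.single j 1, hM1 (single_mem j)⟩
  let A : Matrix (Fin n) (Fin n) ↥S := fun i j =>
    ⟨((φ (eM j) : ↥N) : Fin n → K) i, hN2 (φ (eM j)).2 i (Set.mem_univ i)⟩
  refine ⟨A, fun i j => rfl, ?_⟩
  intro x
  obtain ⟨d, hd⟩ := IsLocalization.exist_integer_multiples (nonZeroDivisors O) Finset.univ
    (fun i => (x : Fin n → K) i)
  choose c hc using fun i => hd i (Finset.mem_univ i)
  have hd0 : algebraMap O K (d : O) ≠ 0 := by
    intro h0
    have := (IsFractionRing.injective O K) (h0.trans (map_zero _).symm)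
    exact nonZeroDivisors.ne_zero d.2 this
  -- d • x = Σ c_i • e_i
  have hx : (d : O) • x = ∑ i, c i • eM i := by
    apply Subtype.ext
    funext k
    rw [Submodule.coe_smul, Submodule.coe_sum, Finset.sum_apply, Pi.smul_apply]
    simp only [Submodule.coe_smul, Pi.smul_apply, eM]
    rw [Finset.sum_eq_single k]
    · rw [Pi.single_eq_same, Algebra.smul_def (c k), mul_one, hc k]
    · intro b _ hb
      rw [Pi.single_eq_of_ne (Ne.symm hb), smul_zero]
    · intro h; exact absurd (Finset.mem_univ k) h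
  have hφ : (d : O) • φ x = ∑ i, c i • φ (eM i) := by
    rw [← map_smul, hx, map_sum]
    simp only [map_smul]
  funext k
  have h1 : (d : O) • ((φ x : ↥N) : Fin n → K) k = ∑ i, c i • ((φ (eM i) : ↥N) : Fin n → K) k := by
    have := congrArg (fun y : ↥N => (y : Fin n → K) k) hφ
    simpa [Submodule.coe_sum, Finset.sum_apply] using this
  have h2 : (d : O) • ((A.map (algebraMap ↥S K)).mulVec (x : Fin n → K)) k =
      ∑ i, c i • ((φ (eM i) : ↥N) : Fin n → K) k := by
    rw [Matrix.mulVec, dotProduct, Finset.smul_sum]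
    apply Finset.sum_congr rfl
    intro i _
    rw [Matrix.map_apply]
    have e1 : algebraMap ↥S K (A k i) = ((φ (eM i) : ↥N) : Fin n → K) k := rfl
    rw [e1, Algebra.smul_def, mul_left_comm, ← Algebra.smul_def (d : O), ← hc i,
      Algebra.smul_def (c i), mul_comm]
  have h3 := h1.trans h2.symm
  rw [Algebra.smul_def, Algebra.smul_def] at h3
  exact mul_left_cancel₀ hd0 h3

theorem main (M N : Submodule O (Fin n → K))
    (hM1 : Submodule.pi Set.univ (fun _ : Fin n => (1 : Submodule O K)) ≤ M)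
    (hM2 : M ≤ Submodule.pi Set.univ (fun _ : Fin n => (Subalgebra.toSubmodule S)))
    (hN1 : Submodule.pi Set.univ (fun _ : Fin n => (1 : Submodule O K)) ≤ N)
    (hN2 : N ≤ Submodule.pi Set.univ (fun _ : Fin n => (Subalgebra.toSubmodule S)))
    (φ : ↥M ≃ₗ[O] ↥N) :
    ∃ A : Matrix (Fin n) (Fin n) ↥S, IsUnit A ∧
      ∀ x : ↥M, ((φ x : ↥N) : Fin n → K) =
        (A.map (algebraMap ↥S K)).mulVec (x : Fin n → K) := by
  classical
  obtain ⟨A, hA1, hA⟩ := key M N hM1 hN2 φ.toLinearMap
  obtain ⟨B, hB1, hB⟩ := key N M hN1 hM2 φ.symm.toLinearMap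
  refine ⟨A, ?_, hA⟩
  have hAB : A * B = 1 := by
    have hinj : Function.Injective (algebraMap ↥S K) := Subtype.val_injective
    apply Matrix.map_injective hinj
    change (A * B).map (algebraMap ↥S K) = (1 : Matrix (Fin n) (Fin n) ↥S).map (algebraMap ↥S K)
    rw [Matrix.map_mul, Matrix.map_one _ (map_zero _) (map_one _)]
    ext i j
    rw [Matrix.mul_apply]
    -- column j of B.map is φ.symm e_j
    have h1 : ∀ l, (B.map (algebraMap ↥S K)) l j =
        ((φ.symm ⟨Pi.single j 1, hN1 (single_mem j)⟩ : ↥M) : Fin n → K) l := fun l => hB1 l j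
    have h2 := congrFun (hA (φ.symm ⟨Pi.single j 1, hN1 (single_mem j)⟩)) i
    rw [LinearEquiv.coe_coe, LinearEquiv.apply_symm_apply] at h2
    rw [Matrix.mulVec, dotProduct] at h2
    simp only [h1]
    rw [← h2]
    simp [Matrix.one_apply, Pi.single_apply, eq_comm]
  exact (Matrix.isUnit_iff_isUnit_det A).mpr (Matrix.isUnit_det_of_right_inverse hAB)

end Groth.Agent.Helper7.LatMat
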