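import Mathlib

set_option autoImplicit false
universe u

namespace Groth.Agent.Helper7.LaurUnit
open PowerSeries

variable {R : Type u} [CommRing R]

lemma exists_shift (e : LaurentSeries R) : ∃ (N : ℕ) (p : PowerSeries R),
    HahnSeries.single (N : ℤ) (1 : R) * e = HahnSeries.ofPowerSeries ℤ R p := by
  have key := LaurentSeries.single_order_mul_powerSeriesPart e
  set o := e.order with ho
  set pp := e.powerSeriesPart with hpp0
  refine ⟨(-o).toNat, X ^ (o + (-o).toNat).toNat * pp, ?_⟩
  have hm : (((o + (-o).toNat).toNat : ℕ) : ℤ) = ((-o).toNat : ℤ) + o := by omega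
  calc HahnSeries.single (((-o).toNat : ℕ) : ℤ) (1 : R) * e
      = HahnSeries.single (((-o).toNat : ℕ) : ℤ) (1 : R) *
          (HahnSeries.single o 1 * HahnSeries.ofPowerSeries ℤ R pp) := by rw [key]
    _ = HahnSeries.single ((((-o).toNat : ℕ) : ℤ) + o) (1 : R) *
          HahnSeries.ofPowerSeries ℤ R pp := by
        rw [← mul_assoc, HahnSeries.single_mul_single, one_mul]
    _ = _ := by rw [map_mul, HahnSeries.ofPowerSeries_X_pow, hm]

lemma single_mul_single_neg (a : ℤ) :
    (HahnSeries.single (-a) (1 : R) : LaurentSeries R) * HahnSeries.single a (1 : R) = 1 := by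
  rw [HahnSeries.single_mul_single, neg_add_cancel, one_mul]; rfl

/-- key algebraic lemma: if `F * G = X^K` over a reduced connected ring then `F = X^i * unit`. -/
lemma exists_eq_X_pow_mul [IsReduced R] [Nontrivial R]
    (hconn : ∀ e : R, IsIdempotentElem e → e = 0 ∨ e = 1)
    (F G : PowerSeries R) (K : ℕ) (hFG : F * G = X ^ K) :
    ∃ (i : ℕ) (F' : PowerSeries R), IsUnit F' ∧ F = X ^ i * F' := by
  have hcoeff : ∀ m, ∑ x ∈ Finset.HasAntidiagonal.antidiagonal m, coeff x.1 F * coeff x.2 G
      = if m = K then 1 else 0 := by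
    intro m
    rw [← coeff_mul, hFG, coeff_X_pow]
  -- vanishing below K
  have hlow : ∀ m, m < K → ∀ i j, i + j = m → coeff i F * coeff j G = 0 := by
    intro m
    induction m using Nat.strong_induction_on with
    | _ m ih =>
      intro hm i j hij
      have hsum := hcoeff m
      rw [if_neg (by omega)] at hsum
      have h2 := congrArg (fun z => (coeff i F * coeff j G) * z) hsum
      simp only [mul_zero, Finset.mul_sum] at h2
      have hmem : (i, j) ∈ Finset.HasAntidiagonal.antidiagonal m := by
        rw [Finset.HasAntidiagonal.mem_antidiagonal]; exact hij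
      rw [Finset.sum_eq_single_of_mem (i, j) hmem] at h2
      · exact IsReduced.eq_zero _ ⟨2, by rw [pow_two]; exact h2⟩
      · rintro ⟨i', j'⟩ hmem' hne
        rw [Finset.HasAntidiagonal.mem_antidiagonal] at hmem'
        simp only at hmem'
        rcases lt_trichotomy i i' with h | h | h
        · have h0 : coeff i F * coeff j' G = 0 := ih (i + j') (by omega) (by omega) i j' rfl
          calc coeff i F * coeff j G * (coeff i' F * coeff j' G)
              = (coeff i F * coeff j' G) * (coeff i' F * coeff j G) := by ring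
            _ = 0 := by rw [h0, zero_mul]
        · exfalso; apply hne
          have : j = j' := by omega
          rw [h, this]
        · have h0 : coeff i' F * coeff j G = 0 := ih (i' + j) (by omega) (by omega) i' j rfl
          calc coeff i F * coeff j G * (coeff i' F * coeff j' G)
              = (coeff i' F * coeff j G) * (coeff i F * coeff j' G) := by ring
            _ = 0 := by rw [h0, zero_mul]
  -- orthogonality on the antidiagonal K
  have horth : ∀ i j i' j', i + j = K → i' + j' = K → (i, j) ≠ (i', j') →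
      coeff i F * coeff j G * (coeff i' F * coeff j' G) = 0 := by
    intro i j i' j' hij hij' hne
    rcases lt_trichotomy i i' with h | h | h
    · have h0 : coeff i F * coeff j' G = 0 := hlow (i + j') (by omega) i j' rfl
      calc coeff i F * coeff j G * (coeff i' F * coeff j' G)
          = (coeff i F * coeff j' G) * (coeff i' F * coeff j G) := by ring
        _ = 0 := by rw [h0, zero_mul]
    · exfalso; apply hne
      have : j = j' := by omega
      rw [h, this]
    · have h0 : coeff i' F * coeff j G = 0 := hlow (i' + j) (by omega) i' j rfl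
      calc coeff i F * coeff j G * (coeff i' F * coeff j' G)
          = (coeff i' F * coeff j G) * (coeff i F * coeff j' G) := by ring
        _ = 0 := by rw [h0, zero_mul]
  have hsumK := hcoeff K
  rw [if_pos rfl] at hsumK
  have hidem : ∀ i j, i + j = K → IsIdempotentElem (coeff i F * coeff j G) := by
    intro i j hij
    have h2 := congrArg (fun z => (coeff i F * coeff j G) * z) hsumK
    simp only [mul_one, Finset.mul_sum] at h2
    have hmem : (i, j) ∈ Finset.HasAntidiagonal.antidiagonal K := by
      rw [Finset.HasAntidiagonal.mem_antidiagonal]; exact hij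
    rw [Finset.sum_eq_single_of_mem (i, j) hmem] at h2
    · exact h2
    · rintro ⟨i', j'⟩ hmem' hne
      rw [Finset.HasAntidiagonal.mem_antidiagonal] at hmem'
      exact horth i j i' j' hij hmem' (Ne.symm hne)
  -- some term equals 1
  obtain ⟨i₀, j₀, hij₀, h1⟩ : ∃ i j, i + j = K ∧ coeff i F * coeff j G = 1 := by
    by_contra hcon
    push_neg at hcon
    have : ∑ x ∈ Finset.HasAntidiagonal.antidiagonal K, coeff x.1 F * coeff x.2 G = 0 := by
      apply Finset.sum_eq_zero
      rintro ⟨i, j⟩ hmem
      rw [Finset.HasAntidiagonal.mem_antidiagonal] at hmem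
      rcases hconn _ (hidem i j hmem) with h | h
      · exact h
      · exact absurd h (hcon i j hmem)
    rw [this] at hsumK
    exact zero_ne_one hsumK
  have hzero : ∀ j, j < i₀ → coeff j F = 0 := by
    intro j hj
    have h0 : coeff j F * coeff j₀ G = 0 := hlow (j + j₀) (by omega) j j₀ rfl
    calc coeff j F = coeff j F * (coeff i₀ F * coeff j₀ G) := by rw [h1, mul_one]
      _ = (coeff j F * coeff j₀ G) * coeff i₀ F := by ring
      _ = 0 := by rw [h0, zero_mul]
  refine ⟨i₀, PowerSeries.mk fun k => coeff (k + i₀) F, ?_, ?_⟩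
  · rw [PowerSeries.isUnit_iff_constantCoeff]
    have : constantCoeff (PowerSeries.mk fun k => coeff (k + i₀) F) = coeff i₀ F := by
      rw [← coeff_zero_eq_constantCoeff_apply, coeff_mk, zero_add]
    rw [this]
    exact IsUnit.of_mul_eq_one _ h1
  · ext k
    rw [coeff_X_pow_mul']
    by_cases hk : i₀ ≤ k
    · rw [if_pos hk, coeff_mk]
      have : k - i₀ + i₀ = k := by omega
      rw [this]
    · rw [if_neg hk]
      exact hzero k (by omega)

theorem result [IsReduced R] [Nontrivial R]
    (hconn : ∀ e : R, IsIdempotentElem e → e = 0 ∨ e = 1)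
    (f : (LaurentSeries R)ˣ) :
    ∃! p : ℤ × (PowerSeries R)ˣ,
      (f : LaurentSeries R) = HahnSeries.single p.1 (1 : R) *
        HahnSeries.ofPowerSeries ℤ R (p.2 : PowerSeries R) := by
  obtain ⟨a, F, hF⟩ := exists_shift (f : LaurentSeries R)
  obtain ⟨b, G, hG⟩ := exists_shift ((f⁻¹ : (LaurentSeries R)ˣ) : LaurentSeries R)
  have hFG : F * G = X ^ (a + b) := by
    apply HahnSeries.ofPowerSeries_injective (Γ := ℤ)
    rw [map_mul, ← hF, ← hG, HahnSeries.ofPowerSeries_X_pow]
    calc HahnSeries.single (a : ℤ) (1 : R) * (f : LaurentSeries R) *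
          (HahnSeries.single (b : ℤ) (1 : R) * ((f⁻¹ : (LaurentSeries R)ˣ) : LaurentSeries R))
        = (HahnSeries.single (a : ℤ) (1 : R) * HahnSeries.single (b : ℤ) (1 : R)) *
          ((f : LaurentSeries R) * ((f⁻¹ : (LaurentSeries R)ˣ) : LaurentSeries R)) := by ring
      _ = _ := by
        rw [Units.mul_inv, mul_one, HahnSeries.single_mul_single, one_mul]
        push_cast; rfl
  obtain ⟨i, F', hF'u, hF'⟩ := exists_eq_X_pow_mul hconn F G (a + b) hFG
  have hf_eq : (f : LaurentSeries R) = HahnSeries.single ((i : ℤ) - a) (1 : R) *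
      HahnSeries.ofPowerSeries ℤ R F' := by
    have h1 : (f : LaurentSeries R) = HahnSeries.single (-(a : ℤ)) (1 : R) *
        (HahnSeries.single (a : ℤ) (1 : R) * f) := by
      rw [← mul_assoc, single_mul_single_neg, one_mul]
    have h2 : -(a : ℤ) + (i : ℤ) = (i : ℤ) - a := by ring
    rw [h1, hF, hF', map_mul, HahnSeries.ofPowerSeries_X_pow, ← mul_assoc,
      HahnSeries.single_mul_single, one_mul, h2]
  refine ⟨(((i : ℤ) - a), hF'u.unit), hf_eq, ?_⟩
  rintro ⟨n', u'⟩ hn'
  simp only at hn'
  -- uniqueness
  have huniq : ∀ (n n' : ℤ) (u u' : (PowerSeries R)ˣ), n ≤ n' →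
      HahnSeries.single n (1 : R) * HahnSeries.ofPowerSeries ℤ R (u : PowerSeries R)
        = HahnSeries.single n' (1 : R) * HahnSeries.ofPowerSeries ℤ R (u' : PowerSeries R) →
      n = n' ∧ u = u' := by
    intro n n' u u' hle heq
    obtain ⟨d, hd⟩ : ∃ d : ℕ, n' = n + d := ⟨(n' - n).toNat, by omega⟩
    have h1 : HahnSeries.ofPowerSeries ℤ R (u : PowerSeries R)
        = HahnSeries.ofPowerSeries ℤ R (X ^ d * (u' : PowerSeries R)) := by
      rw [map_mul, HahnSeries.ofPowerSeries_X_pow]
      have h2 : HahnSeries.single n' (1 : R) = (HahnSeries.single n (1 : R) : LaurentSeries R) *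
          HahnSeries.single (d : ℤ) (1 : R) := by
        rw [HahnSeries.single_mul_single, one_mul, hd]
      rw [h2, mul_assoc] at heq
      have h3 := congrArg (fun z => HahnSeries.single (-n) (1 : R) * z) heq
      beta_reduce at h3
      rwa [← mul_assoc, ← mul_assoc, single_mul_single_neg, one_mul, one_mul] at h3
    have h4 : (u : PowerSeries R) = X ^ d * (u' : PowerSeries R) :=
      HahnSeries.ofPowerSeries_injective h1
    have hd0 : d = 0 := by
      by_contra hd0
      have h5 : constantCoeff (u : PowerSeries R) = 0 := by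
        rw [h4, map_mul, map_pow, constantCoeff_X, zero_pow hd0, zero_mul]
      have h6 : IsUnit (constantCoeff (u : PowerSeries R)) :=
        PowerSeries.isUnit_iff_constantCoeff.mp u.isUnit
      rw [h5] at h6
      exact not_isUnit_zero h6
    subst hd0
    refine ⟨by simpa using hd.symm, ?_⟩
    apply Units.ext
    rw [h4, pow_zero, one_mul]
  have heq2 : HahnSeries.single ((i : ℤ) - a) (1 : R) * HahnSeries.ofPowerSeries ℤ R F'
      = HahnSeries.single n' (1 : R) * HahnSeries.ofPowerSeries ℤ R (u' : PowerSeries R) := by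
    rw [← hf_eq, hn']
  rcases le_total ((i : ℤ) - a) n' with hle | hle
  · obtain ⟨h1, h2⟩ := huniq _ _ hF'u.unit u' hle heq2
    rw [Prod.mk.injEq]
    exact ⟨h1.symm, h2.symm⟩
  · obtain ⟨h1, h2⟩ := huniq _ _ u' hF'u.unit hle heq2.symm
    rw [Prod.mk.injEq]
    exact ⟨h1, h2⟩

end Groth.Agent.Helper7.LaurUnit
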