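import Mathlib

universe u

namespace Groth.Agent.Helper7.LenAdd

theorem main (A : Type u) [CommRing A] (a b : A) (I : Ideal A)
    (ha : IsSMulRegular (A ⧸ Ideal.span ({b} : Set A)) a) :
    Module.length A (A ⧸ (Ideal.span {a} * I ⊔ Ideal.span {b})) =
      Module.length A (A ⧸ Ideal.span ({a, b} : Set A)) +
        Module.length A (A ⧸ (I ⊔ Ideal.span {b})) := by
  set J : Ideal A := Ideal.span {a} * I ⊔ Ideal.span {b} with hJ
  set K : Ideal A := I ⊔ Ideal.span {b} with hK
  set L : Ideal A := Ideal.span ({a, b} : Set A) with hL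
  have hJ1 : ∀ x ∈ K, a * x ∈ J := by
    intro x hx
    obtain ⟨i, hi, c, hc, rfl⟩ := Submodule.mem_sup.1 hx
    rw [mul_add]
    exact J.add_mem (Ideal.mem_sup_left (Ideal.mul_mem_mul (Ideal.mem_span_singleton_self a) hi))
      (Ideal.mem_sup_right (Ideal.mul_mem_left _ a hc))
  have haL : a ∈ L := Ideal.subset_span (by simp)
  have hbL : b ∈ L := Ideal.subset_span (by simp)
  have hJ2 : J ≤ L := by
    rw [hJ, sup_le_iff]
    constructor
    · rw [Ideal.mul_le]
      intro r hr s _
      obtain ⟨c, rfl⟩ := Ideal.mem_span_singleton'.1 hr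
      exact L.mul_mem_right _ (L.mul_mem_left c haL)
    · rw [Ideal.span_singleton_le_iff_mem]
      exact hbL
  let f : (A ⧸ K) →ₗ[A] (A ⧸ J) :=
    Submodule.mapQ K J (a • (LinearMap.id : A →ₗ[A] A)) (fun x hx => hJ1 x hx)
  let g : (A ⧸ J) →ₗ[A] (A ⧸ L) := Submodule.mapQ J L LinearMap.id (fun x hx => hJ2 hx)
  have hf : ∀ x : A, f (Submodule.Quotient.mk x) = Submodule.Quotient.mk (a * x) := fun x => rfl
  have hg : ∀ x : A, g (Submodule.Quotient.mk x) = Submodule.Quotient.mk x := fun x => rfl
  have hfinj : Function.Injective f := by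
    rw [injective_iff_map_eq_zero]
    intro z hz
    obtain ⟨x, rfl⟩ := Submodule.mkQ_surjective K z
    rw [Submodule.mkQ_apply] at hz ⊢
    rw [hf, Submodule.Quotient.mk_eq_zero] at hz
    obtain ⟨u, hu, v, hv, huv⟩ := Submodule.mem_sup.1 hz
    obtain ⟨i, hi, rfl⟩ := Ideal.mem_span_singleton_mul.1 hu
    rw [Submodule.Quotient.mk_eq_zero]
    have h3 : a * (x - i) ∈ Ideal.span ({b} : Set A) := by
      have : a * (x - i) = v := by rw [mul_sub, ← huv]; ring
      rw [this]; exact hv
    have h4 : (Ideal.Quotient.mk (Ideal.span ({b} : Set A)) (x - i)) = 0 := by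
      apply ha
      show a • (Ideal.Quotient.mk (Ideal.span ({b} : Set A)) (x - i)) = a • 0
      rw [smul_zero, ← Ideal.Quotient.mk_eq_mk, ← Submodule.Quotient.mk_smul, smul_eq_mul,
        Submodule.Quotient.mk_eq_zero]
      exact h3
    rw [Ideal.Quotient.eq_zero_iff_mem] at h4
    have : x = i + (x - i) := by ring
    rw [this]
    exact K.add_mem (Ideal.mem_sup_left hi) (Ideal.mem_sup_right h4)
  have hgsurj : Function.Surjective g := by
    intro z
    obtain ⟨x, rfl⟩ := Submodule.mkQ_surjective L z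
    exact ⟨Submodule.Quotient.mk x, rfl⟩
  have hex : Function.Exact f g := by
    intro z
    obtain ⟨y, rfl⟩ := Submodule.mkQ_surjective J z
    rw [Submodule.mkQ_apply, hg, Submodule.Quotient.mk_eq_zero]
    constructor
    · intro hy
      obtain ⟨c, e, rfl⟩ := Ideal.mem_span_pair.1 hy
      refine ⟨Submodule.Quotient.mk c, ?_⟩
      rw [hf, eq_comm, ← sub_eq_zero, ← Submodule.Quotient.mk_sub, Submodule.Quotient.mk_eq_zero]
      have : c * a + e * b - a * c = e * b := by ring
      rw [this]
      exact Ideal.mem_sup_right (Ideal.mul_mem_left _ e (Ideal.mem_span_singleton_self b))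
    · rintro ⟨w, hw⟩
      obtain ⟨c, rfl⟩ := Submodule.mkQ_surjective K w
      rw [Submodule.mkQ_apply, hf] at hw
      have h5 : y - a * c ∈ J := by
        rw [← Submodule.Quotient.mk_eq_zero, Submodule.Quotient.mk_sub, hw, sub_self]
      have : y = (y - a * c) + a * c := by ring
      rw [this]
      exact L.add_mem (hJ2 h5) (L.mul_mem_right c haL)
  rw [Module.length_eq_add_of_exact f g hfinj hgsurj hex, add_comm]

end Groth.Agent.Helper7.LenAdd
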