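import Mathlib

/-!
# Liaison: height of a basic double link (general Noetherian ring version)
-/

set_option autoImplicit false

namespace Groth.Agent.Helper7.Liais1

universe u

variable {R : Type u} [CommRing R] [IsNoetherianRing R]

/-- a non-zero-divisor modulo `J` lies in no minimal prime of `J` -/
theorem notMem_of_mem_minimalPrimes (J : Ideal R) (f : R) (hJf : J.colon {f} = J)
    (Q : Ideal R) (hQ : Q ∈ J.minimalPrimes) : f ∉ Q := by
  intro hfQ
  have hass : Q ∈ associatedPrimes R (R ⧸ J) := by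
    apply Module.associatedPrimes.minimalPrimes_annihilator_subset_associatedPrimes R (R ⧸ J)
    rwa [Ideal.annihilator_quotient]
  rw [AssociatedPrimes.mem_iff, isAssociatedPrime_iff] at hass
  obtain ⟨hQp, y, hy⟩ := hass
  obtain ⟨a, rfl⟩ := Ideal.Quotient.mk_surjective y
  have h1 : f ∈ Submodule.colon (⊥ : Submodule R (R ⧸ J)) {Ideal.Quotient.mk J a} := hy ▸ hfQ
  rw [Submodule.mem_colon_singleton, Submodule.mem_bot] at h1
  have h2 : f • (Ideal.Quotient.mk J) a = Ideal.Quotient.mk J (f * a) := by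
    rw [map_mul]; rfl
  rw [h2, Ideal.Quotient.eq_zero_iff_mem] at h1
  have h3 : a ∈ J.colon {f} := by
    rw [Submodule.mem_colon_singleton, smul_eq_mul, mul_comm]
    exact h1
  rw [hJf] at h3
  -- then `mk a = 0`, so `Q = ⊤`
  have h4 : (1 : R) ∈ Q := by
    rw [hy, Submodule.mem_colon_singleton, Submodule.mem_bot, one_smul,
      Ideal.Quotient.eq_zero_iff_mem]
    exact h3
  exact hQp.ne_top ((Ideal.eq_top_iff_one _).2 h4)

theorem height_basicDoubleLink (J I : Ideal R) (h : ℕ) (hJI : J ≤ I) (hJh : J.height = h)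
    (hIh : I.height = h + 1) (f : R) (hJf : J.colon {f} = J) :
    (J ⊔ Ideal.span {f} * I).height = h + 1 := by
  apply le_antisymm
  · rw [← hIh]
    apply Ideal.height_mono
    exact sup_le hJI Ideal.mul_le_right
  · rw [Ideal.height_eq_inf_minimalPrimes]
    refine le_iInf₂ fun P hP => ?_
    have hPp : P.IsPrime := hP.1.1
    have hT : J ⊔ Ideal.span {f} * I ≤ P := hP.1.2
    have hJP : J ≤ P := le_sup_left.trans hT
    have hfI : Ideal.span {f} * I ≤ P := le_sup_right.trans hT
    rcases (Ideal.IsPrime.mul_le hPp).1 hfI with hf | hI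
    · obtain ⟨Q, hQ, hQP⟩ := Ideal.exists_minimalPrimes_le hJP
      have hQp : Q.IsPrime := hQ.1.1
      have hfQ : f ∉ Q := notMem_of_mem_minimalPrimes J f hJf Q hQ
      have hfP : f ∈ P := hf (Ideal.mem_span_singleton_self f)
      have hlt : Q < P := lt_of_le_of_ne hQP (fun heq => hfQ (heq ▸ hfP))
      have h1 := Ideal.height_add_one_le_of_lt_of_isPrime hlt
      have h2 : J.height ≤ Q.height := Ideal.height_mono hQ.1.2
      rw [hJh] at h2
      calc ((h : ℕ∞) + 1) ≤ Q.height + 1 := by gcongr
        _ ≤ P.height := h1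
    · rw [← hIh]
      exact Ideal.height_mono hI

end Groth.Agent.Helper7.Liais1
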