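import Mathlib
import Groth.Agent.Helper8.CMGlue

/-!
# Quotient of a Cohen–Macaulay quotient by a regular element is Cohen–Macaulay
-/

set_option autoImplicit false
set_option linter.unusedSectionVars false

namespace Groth.Agent.Helper7.Liais6

open IsLocalRing Groth.Agent.Helper8.CMGlue

universe u

section loc

variable {B : Type u} [CommRing B] [IsLocalRing B] [IsNoetherianRing B]

/-- the converse of `CMGlue.cmq_of_regular` -/
theorem cmq_sup_span (𝔟 : Ideal B) (x : B) (hx : x ∈ maximalIdeal B)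
    (hreg : ∀ y : B, x * y ∈ 𝔟 → y ∈ 𝔟) (e : ℕ) (h : CMq 𝔟 e) :
    ∃ e' : ℕ, e = e' + 1 ∧ CMq (𝔟 ⊔ Ideal.span {x}) e' := by
  have hne : 𝔟 ≠ ⊤ := h.ne_top
  have : Nontrivial (B ⧸ 𝔟) := nontrivial_quot hne
  have hsreg : IsSMulRegular (B ⧸ 𝔟) x := by
    intro a b hab
    obtain ⟨a, rfl⟩ := Ideal.Quotient.mk_surjective a
    obtain ⟨b, rfl⟩ := Ideal.Quotient.mk_surjective b
    have h1 : Ideal.Quotient.mk 𝔟 (x * a) = Ideal.Quotient.mk 𝔟 (x * b) := hab
    rw [Ideal.Quotient.eq, ← mul_sub] at h1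
    rw [Ideal.Quotient.eq]
    exact hreg _ h1
  have hdim := Module.supportDim_quotSMulTop_succ_eq_supportDim hsreg hx
  rw [Module.supportDim_eq_of_equiv (quotEquiv 𝔟 x), h.1] at hdim
  have hIM := Groth.Agent.Helper2.Depth.smul_top_ne_top B (B ⧸ 𝔟)
  have hdep := Groth.Agent.Helper2.DepthCM.idealDepth_quotSMulTop (maximalIdeal B) (B ⧸ 𝔟) hIM x hx
    hsreg
  rw [Groth.Agent.Helper2.DepthCM.idealDepth_congr (maximalIdeal B) (quotEquiv 𝔟 x)] at hdep
  have hdep' : LocCoh.idealDepth (maximalIdeal B) (B ⧸ 𝔟) = (e : ℕ∞) := h.2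
  rw [hdep'] at hdep
  -- extract `e'`
  generalize hD : Module.supportDim B (B ⧸ (𝔟 ⊔ Ideal.span {x})) = D at hdim
  induction D using WithBot.recBotCoe with
  | bot => simp at hdim
  | coe D =>
    induction D using ENat.recTopCoe with
    | top =>
      exfalso
      have : ((⊤ : ℕ∞) : WithBot ℕ∞) + 1 = ((⊤ : ℕ∞) : WithBot ℕ∞) := rfl
      rw [this] at hdim
      have h2 : ((⊤ : ℕ∞) : WithBot ℕ∞) = ((e : ℕ∞) : WithBot ℕ∞) := hdim
      rw [WithBot.coe_inj] at h2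
      exact ENat.top_ne_natCast _ h2
    | coe e' =>
      have h2 : (((e' + 1 : ℕ) : ℕ∞) : WithBot ℕ∞) = ((e : ℕ∞) : WithBot ℕ∞) := by
        exact_mod_cast hdim
      rw [WithBot.coe_inj, ENat.natCast_inj] at h2
      refine ⟨e', h2.symm, ?_, ?_⟩
      · rw [hD]; rfl
      · show LocCoh.idealDepth (maximalIdeal B) (B ⧸ (𝔟 ⊔ Ideal.span {x})) = (e' : ℕ∞)
        rw [← h2] at hdep
        push_cast at hdep
        exact (ENat.add_left_injective_of_ne_top ENat.one_ne_top) hdep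

/-- converse of `CMGlue.cmLocal_quot` -/
theorem cmq_of_cmLocal (𝔟 : Ideal B) (h : LocCoh.IsCohenMacaulayLocalRing (B ⧸ 𝔟)) :
    ∃ e : ℕ, CMq 𝔟 e := by
  have : IsLocalRing (B ⧸ 𝔟) := h.toIsLocalRing
  have : IsLocalHom (algebraMap B (B ⧸ 𝔟)) :=
    IsLocalHom.of_surjective _ Ideal.Quotient.mk_surjective
  have h1 := h.supportDim_eq_depth
  rw [Module.supportDim_self_eq_ringKrullDim, ← Module.supportDim_quotient_eq_ringKrullDim,
    ← Groth.Agent.Helper2.RegCM.depth_eq_of_isLocalHom B (B ⧸ 𝔟) (B ⧸ 𝔟)] at h1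
  have hfin : ringKrullDim (B ⧸ 𝔟) ≠ ⊤ := ringKrullDim_ne_top
  rw [← Module.supportDim_quotient_eq_ringKrullDim, h1] at hfin
  generalize hD : LocCoh.depth B (B ⧸ 𝔟) = D at h1 hfin
  induction D using ENat.recTopCoe with
  | top => exact absurd rfl hfin
  | coe e => exact ⟨e, h1, hD⟩

end loc

section bridge

variable {S : Type u} [CommRing S] [IsNoetherianRing S] (M₀ : Ideal S) [M₀.IsPrime]

/-- converse of `CMGlue.cmLocal_of_cmq` -/
theorem cmq_of_cmLocal_loc (𝔞 : Ideal S) (h𝔞 : 𝔞 ≤ M₀) [hm : (M₀.map (Ideal.Quotient.mk 𝔞)).IsPrime]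
    (h : LocCoh.IsCohenMacaulayLocalRing (Localization.AtPrime (M₀.map (Ideal.Quotient.mk 𝔞)))) :
    ∃ e : ℕ, CMq (𝔞.map (algebraMap S (Localization.AtPrime M₀))) e := by
  apply cmq_of_cmLocal
  have hloc : IsLocalization (Algebra.algebraMapSubmonoid (S ⧸ 𝔞) M₀.primeCompl)
      (Localization.AtPrime M₀ ⧸ 𝔞.map (algebraMap S (Localization.AtPrime M₀))) := inferInstance
  rw [primeCompl_eq M₀ 𝔞 h𝔞] at hloc
  exact Groth.Agent.Helper8.GrLG.cmLocal_of_ringEquiv
    (IsLocalization.algEquiv (M₀.map (Ideal.Quotient.mk 𝔞)).primeCompl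
      (Localization.AtPrime (M₀.map (Ideal.Quotient.mk 𝔞)))
      (Localization.AtPrime M₀ ⧸ 𝔞.map (algebraMap S (Localization.AtPrime M₀)))).toRingEquiv h

end bridge

section main

variable {S : Type u} [CommRing S] [IsNoetherianRing S]

theorem cm_quot_sup_span' (𝔞 𝔠 : Ideal S) (x : S) (h𝔠 : 𝔠 = 𝔞 ⊔ Ideal.span {x})
    (hreg : ∀ y : S, x * y ∈ 𝔞 → y ∈ 𝔞)
    [hCM : LocCoh.IsCohenMacaulayRing (S ⧸ 𝔞)] :
    LocCoh.IsCohenMacaulayRing (S ⧸ 𝔠) := by
  refine { isCohenMacaulayLocalRing_localization := fun q hq => ?_ }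
  -- `q` comes from a prime `M₀` of `S`
  obtain ⟨M₀, hM₀, hle, rfl⟩ : ∃ M₀ : Ideal S, M₀.IsPrime ∧ 𝔠 ≤ M₀ ∧
      q = M₀.map (Ideal.Quotient.mk 𝔠) := by
    refine ⟨q.comap (Ideal.Quotient.mk 𝔠), Ideal.comap_isPrime _ _, ?_, ?_⟩
    · intro y hy
      rw [Ideal.mem_comap, Ideal.Quotient.eq_zero_iff_mem.2 hy]
      exact q.zero_mem
    · rw [Ideal.map_comap_of_surjective _ Ideal.Quotient.mk_surjective]
  have h𝔞le : 𝔞 ≤ M₀ := (h𝔠 ▸ le_sup_left : 𝔞 ≤ 𝔠).trans hle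
  have hxM : x ∈ M₀ := hle (h𝔠 ▸ Ideal.mem_sup_right (Ideal.mem_span_singleton_self x))
  have hm : (M₀.map (Ideal.Quotient.mk 𝔞)).IsPrime :=
    Ideal.map_isPrime_of_surjective Ideal.Quotient.mk_surjective (by rwa [Ideal.mk_ker])
  obtain ⟨e, he⟩ := cmq_of_cmLocal_loc M₀ 𝔞 h𝔞le
    (hCM.isCohenMacaulayLocalRing_localization (M₀.map (Ideal.Quotient.mk 𝔞)))
  -- regularity in the localization
  have hreg' : ∀ y : Localization.AtPrime M₀, algebraMap S (Localization.AtPrime M₀) x * y ∈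
      𝔞.map (algebraMap S (Localization.AtPrime M₀)) →
      y ∈ 𝔞.map (algebraMap S (Localization.AtPrime M₀)) := by
    intro y hy
    obtain ⟨a, s, rfl⟩ := IsLocalization.exists_mk'_eq M₀.primeCompl y
    rw [IsLocalization.mem_map_algebraMap_iff M₀.primeCompl] at hy ⊢
    obtain ⟨⟨⟨b, hb⟩, t⟩, hbt⟩ := hy
    simp only at hbt
    -- `x * a / s * t = b`
    have h1 : algebraMap S (Localization.AtPrime M₀) (x * a * t) =
        algebraMap S (Localization.AtPrime M₀) (b * s) := by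
      rw [map_mul, map_mul, map_mul, ← hbt]
      have := IsLocalization.mk'_spec (Localization.AtPrime M₀) a s
      calc algebraMap S (Localization.AtPrime M₀) x * algebraMap S (Localization.AtPrime M₀) a *
            algebraMap S (Localization.AtPrime M₀) t
          = algebraMap S (Localization.AtPrime M₀) x *
            (IsLocalization.mk' (Localization.AtPrime M₀) a s *
              algebraMap S (Localization.AtPrime M₀) s) *
            algebraMap S (Localization.AtPrime M₀) t := by rw [this]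
        _ = _ := by ring
    obtain ⟨c, hc⟩ := (IsLocalization.eq_iff_exists M₀.primeCompl _).1 h1
    have h2 : x * (c * t * a) ∈ 𝔞 := by
      have : x * (c * t * a) = c * (b * s) := by rw [← hc]; ring
      rw [this]
      exact 𝔞.mul_mem_left _ (𝔞.mul_mem_right _ hb)
    have h3 := hreg _ h2
    refine ⟨⟨⟨c * t * a, h3⟩, s * (c * t)⟩, ?_⟩
    simp only
    rw [Submonoid.coe_mul, Submonoid.coe_mul, map_mul, ← mul_assoc, IsLocalization.mk'_spec,
      ← map_mul]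
    congr 1
    ring
  have hxmax : algebraMap S (Localization.AtPrime M₀) x ∈ maximalIdeal (Localization.AtPrime M₀) :=
    (IsLocalization.AtPrime.to_map_mem_maximal_iff _ M₀ x).2 hxM
  obtain ⟨e', -, he'⟩ := cmq_sup_span _ _ hxmax hreg' e he
  have hmap : 𝔠.map (algebraMap S (Localization.AtPrime M₀)) =
      𝔞.map (algebraMap S (Localization.AtPrime M₀)) ⊔
        Ideal.span {algebraMap S (Localization.AtPrime M₀) x} := by
    rw [h𝔠, Ideal.map_sup, Ideal.map_span, Set.image_singleton]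
  rw [← hmap] at he'
  exact @cmLocal_of_cmq S _ _ M₀ hM₀ 𝔠 hle hq e' he'

theorem cm_quot_sup_span (𝔞 : Ideal S) (x : S) (hreg : ∀ y : S, x * y ∈ 𝔞 → y ∈ 𝔞)
    [hCM : LocCoh.IsCohenMacaulayRing (S ⧸ 𝔞)] :
    LocCoh.IsCohenMacaulayRing (S ⧸ (𝔞 ⊔ Ideal.span {x})) :=
  cm_quot_sup_span' 𝔞 _ x rfl hreg

end main

end Groth.Agent.Helper7.Liais6
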