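import Mathlib
import Groth.Agent.Helper7.Liais4
import Groth.Agent.Helper7.Liais1
import Groth.Agent.Helper7.Liais6
import Groth.Agent.Helper2.Link

/-!
# Associated primes of `R/(J + (f))` for `R/J` Cohen–Macaulay and `f` regular modulo `J`
-/

set_option autoImplicit false
set_option linter.unusedSectionVars false

namespace Groth.Agent.Helper7.Liais7

open MvPolynomial Groth.Agent.Helper7.Liais3 Groth.Agent.Helper7.Liais4

universe u

section General

variable {R : Type u} [CommRing R] [IsNoetherianRing R]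

/-- if `R/𝔠` is Cohen–Macaulay, the associated primes of `R/𝔠` are minimal over `𝔠`. -/
theorem mem_minimalPrimes_of_mem_associatedPrimes (𝔠 : Ideal R)
    [hCM : LocCoh.IsCohenMacaulayRing (R ⧸ 𝔠)]
    (P : Ideal R) (hPass : P ∈ associatedPrimes R (R ⧸ 𝔠)) :
    P ∈ 𝔠.minimalPrimes := by
  have hP : P.IsPrime := hPass.isPrime
  rw [AssociatedPrimes.mem_iff, isAssociatedPrime_iff] at hPass
  obtain ⟨-, y, hy⟩ := hPass
  obtain ⟨x, rfl⟩ := Ideal.Quotient.mk_surjective y
  have hx : ∀ r : R, r * x ∈ 𝔠 ↔ r ∈ P := by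
    intro r
    rw [hy, Submodule.mem_colon_singleton, Submodule.mem_bot]
    have e : r • (Ideal.Quotient.mk 𝔠) x = Ideal.Quotient.mk 𝔠 (r * x) := by
      rw [map_mul]; rfl
    rw [e, Ideal.Quotient.eq_zero_iff_mem]
  have hcP : 𝔠 ≤ P := fun r hr => (hx r).1 (𝔠.mul_mem_right x hr)
  have hker : RingHom.ker (Ideal.Quotient.mk 𝔠) ≤ P := by rwa [Ideal.mk_ker]
  have hp' : (P.map (Ideal.Quotient.mk 𝔠)).IsPrime :=
    Ideal.map_isPrime_of_surjective Ideal.Quotient.mk_surjective hker
  have hcomap : (P.map (Ideal.Quotient.mk 𝔠)).comap (Ideal.Quotient.mk 𝔠) = P := by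
    rw [Ideal.comap_map_of_surjective _ Ideal.Quotient.mk_surjective, ← RingHom.ker_eq_comap_bot,
      sup_eq_left]
    exact hker
  have hmin : P.map (Ideal.Quotient.mk 𝔠) ∈ minimalPrimes (R ⧸ 𝔠) := by
    apply Groth.Agent.Helper2.Link.mem_minimalPrimes_of_ann (S := R ⧸ 𝔠) ?_ _
      (Ideal.Quotient.mk 𝔠 x)
    · intro s
      obtain ⟨r, rfl⟩ := Ideal.Quotient.mk_surjective s
      rw [← map_mul, Ideal.Quotient.eq_zero_iff_mem, hx]
      constructor
      · intro h; exact Ideal.mem_map_of_mem _ h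
      · intro h
        have : r ∈ (P.map (Ideal.Quotient.mk 𝔠)).comap (Ideal.Quotient.mk 𝔠) := h
        rwa [hcomap] at this
    · intro p _
      exact hCM.isCohenMacaulayLocalRing_localization p
  have h2 := Ideal.comap_minimalPrimes_eq_of_surjective
    (f := Ideal.Quotient.mk 𝔠) Ideal.Quotient.mk_surjective (⊥ : Ideal (R ⧸ 𝔠))
  rw [← RingHom.ker_eq_comap_bot, Ideal.mk_ker] at h2
  rw [h2]
  exact ⟨_, hmin, hcomap⟩

/-- arithmetic in `WithBot ℕ∞` -/
theorem arith (a c t : ℕ∞) (b d : WithBot ℕ∞) (N : ℕ)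
    (h1 : (a : WithBot ℕ∞) + b = (N : ℕ∞)) (h2 : (c : WithBot ℕ∞) + d = (N : ℕ∞))
    (h3 : (t : WithBot ℕ∞) + b = d) : a = c + t := by
  subst h3
  induction b using WithBot.recBotCoe with
  | bot => simp at h1
  | coe b =>
    rw [← WithBot.coe_add, WithBot.coe_inj] at h1
    rw [← WithBot.coe_add, ← WithBot.coe_add, WithBot.coe_inj] at h2
    have hb : b ≠ ⊤ := by
      intro hb
      rw [hb, add_top] at h1
      exact ENat.top_ne_natCast _ h1
    apply ENat.add_left_injective_of_ne_top hb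
    show a + b = c + t + b
    rw [h1, ← h2, add_assoc]

end General

variable {K : Type u} [Field K] {σ : Type} [Fintype σ] [DecidableEq σ]

/-- additivity of heights in a polynomial ring over a field -/
theorem height_eq_add (Q p : Ideal (MvPolynomial σ K)) [hQ : Q.IsPrime] [hp : p.IsPrime]
    (hQp : Q ≤ p) :
    p.height = Q.height + (p.map (Ideal.Quotient.mk Q)).height := by
  have hR : ringKrullDim (MvPolynomial σ K) = ((Fintype.card σ : ℕ) : ℕ∞) := by
    rw [MvPolynomial.ringKrullDim_of_isNoetherianRing, ringKrullDim_eq_zero_of_field,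
      Nat.card_eq_fintype_card, zero_add]
    rfl
  have h1 := Groth.Agent.Helper5.FtDim.height_add_dim_quotient K (MvPolynomial σ K) p
  have h2 := Groth.Agent.Helper5.FtDim.height_add_dim_quotient K (MvPolynomial σ K) Q
  rw [hR] at h1 h2
  have hp' : (p.map (Ideal.Quotient.mk Q)).IsPrime :=
    Ideal.map_isPrime_of_surjective Ideal.Quotient.mk_surjective (by rwa [Ideal.mk_ker])
  have h3 := Groth.Agent.Helper5.FtDim.height_add_dim_quotient K (MvPolynomial σ K ⧸ Q)
    (p.map (Ideal.Quotient.mk Q))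
  have h4 : ringKrullDim ((MvPolynomial σ K ⧸ Q) ⧸ p.map (Ideal.Quotient.mk Q)) =
      ringKrullDim (MvPolynomial σ K ⧸ p) :=
    ringKrullDim_eq_of_ringEquiv (DoubleQuot.quotQuotEquivQuotOfLE hQp)
  rw [h4] at h3
  exact arith _ _ _ _ _ _ h1 h2 h3

theorem height_of_mem_minimalPrimes_sup_span (J : Ideal (MvPolynomial σ K))
    (hJ : J.IsHomogeneous (GrSyz.stdGr K σ))
    [LocCoh.IsCohenMacaulayRing (MvPolynomial σ K ⧸ J)] (h : ℕ) (hJh : J.height = h)
    (f : MvPolynomial σ K) (hJf : J.colon {f} = J)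
    (p : Ideal (MvPolynomial σ K)) (hp : p ∈ (J ⊔ Ideal.span {f}).minimalPrimes) :
    p.height = h + 1 := by
  have hpp : p.IsPrime := hp.1.1
  have hJp : J ≤ p := le_sup_left.trans hp.1.2
  have hfp : f ∈ p := hp.1.2 (Ideal.mem_sup_right (Ideal.mem_span_singleton_self f))
  obtain ⟨Q, hQ, hQp⟩ := Ideal.exists_minimalPrimes_le hJp
  have hQp' : Q.IsPrime := hQ.1.1
  have hQh : Q.height = h := by
    rw [height_of_mem_minimalPrimes J hJ Q hQ, hJh]
  have hadd := height_eq_add Q p hQp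
  have hfQ : f ∉ Q := Groth.Agent.Helper7.Liais1.notMem_of_mem_minimalPrimes J f hJf Q hQ
  have hmin : p ∈ (Q ⊔ Ideal.span {f}).minimalPrimes := by
    refine ⟨⟨hpp, sup_le hQp ((Ideal.span_singleton_le_iff_mem _).2 hfp)⟩, ?_⟩
    intro q ⟨hqp, hq⟩ hqle
    exact hp.2 ⟨hqp, (sup_le_sup_right hQ.1.2 _).trans hq⟩ hqle
  have hle1 : (p.map (Ideal.Quotient.mk Q)).height ≤ 1 :=
    Ideal.map_height_le_one_of_mem_minimalPrimes hmin
  have hge1 : 1 ≤ (p.map (Ideal.Quotient.mk Q)).height := by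
    have hp' : (p.map (Ideal.Quotient.mk Q)).IsPrime :=
      Ideal.map_isPrime_of_surjective Ideal.Quotient.mk_surjective (by rwa [Ideal.mk_ker])
    by_contra hlt
    have h0 : (p.map (Ideal.Quotient.mk Q)).height = 0 := by
      rw [not_le, Order.lt_one_iff] at hlt
      exact hlt
    rw [Ideal.height_eq_zero_iff] at h0
    -- the quotient is a domain, so its only minimal prime is `⊥`
    have hbot : p.map (Ideal.Quotient.mk Q) = ⊥ := by
      have : (minimalPrimes (MvPolynomial σ K ⧸ Q)) = {⊥} := IsDomain.minimalPrimes_eq_singleton_bot _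
      rw [this] at h0
      exact h0
    have : Ideal.Quotient.mk Q f ∈ p.map (Ideal.Quotient.mk Q) := Ideal.mem_map_of_mem _ hfp
    rw [hbot, Ideal.mem_bot, Ideal.Quotient.eq_zero_iff_mem] at this
    exact hfQ this
  rw [hadd, hQh, le_antisymm hle1 hge1]

end Groth.Agent.Helper7.Liais7
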