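import Mathlib
import Groth.Agent.Helper7.Liais7

/-!
# Basic double links: the exact sequence `0 → R/I → R/(J + fI) → R/(J + (f)) → 0`
and unmixedness
-/

set_option autoImplicit false
set_option linter.unusedSectionVars false

namespace Groth.Agent.Helper7.Liais8

universe u

section General

variable {R : Type u} [CommRing R]

variable (J I : Ideal R) (f : R)

/-- multiplication by `f`, `R/I → R/(J + fI)` -/
noncomputable def mulF : (R ⧸ I) →ₗ[R] (R ⧸ (J ⊔ Ideal.span {f} * I)) :=
  Submodule.mapQ I (J ⊔ Ideal.span {f} * I) (LinearMap.mulLeft R f) (by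
    intro i hi
    rw [Submodule.mem_comap, LinearMap.mulLeft_apply]
    exact Ideal.mem_sup_right (Ideal.mul_mem_mul (Ideal.mem_span_singleton_self f) hi))

/-- the projection `R/(J + fI) → R/(J + (f))` -/
noncomputable def proj : (R ⧸ (J ⊔ Ideal.span {f} * I)) →ₗ[R] (R ⧸ (J ⊔ Ideal.span {f})) :=
  Submodule.mapQ (J ⊔ Ideal.span {f} * I) (J ⊔ Ideal.span {f}) LinearMap.id (by
    intro i hi
    rw [Submodule.mem_comap, LinearMap.id_apply]
    exact (sup_le_sup_left Ideal.mul_le_left J) hi)

lemma mulF_mk (a : R) : mulF J I f (Submodule.Quotient.mk a) = Submodule.Quotient.mk (f * a) := rfl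

lemma proj_mk (a : R) : proj J I f (Submodule.Quotient.mk a) = Submodule.Quotient.mk a := rfl

theorem mulF_injective (hJI : J ≤ I) (hJf : J.colon {f} = J) :
    Function.Injective (mulF J I f) := by
  rw [← LinearMap.ker_eq_bot, LinearMap.ker_eq_bot']
  intro y hy
  obtain ⟨a, rfl⟩ := Submodule.Quotient.mk_surjective _ y
  rw [mulF_mk, Submodule.Quotient.mk_eq_zero] at hy
  rw [Submodule.Quotient.mk_eq_zero]
  obtain ⟨j, hj, z, hz, hjz⟩ := Submodule.mem_sup.1 hy
  obtain ⟨i, hi, rfl⟩ := Ideal.mem_span_singleton_mul.1 hz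
  have h1 : a - i ∈ J.colon {f} := by
    rw [Submodule.mem_colon_singleton, smul_eq_mul]
    have : (a - i) * f = j := by rw [← eq_sub_iff_add_eq] at hjz; rw [hjz]; ring
    rw [this]; exact hj
  rw [hJf] at h1
  have := I.add_mem (hJI h1) hi
  rwa [sub_add_cancel] at this

theorem exact_mulF_proj : Function.Exact (mulF J I f) (proj J I f) := by
  intro y
  obtain ⟨b, rfl⟩ := Submodule.Quotient.mk_surjective _ y
  rw [proj_mk, Submodule.Quotient.mk_eq_zero]
  constructor
  · intro hb
    obtain ⟨j, hj, z, hz, hjz⟩ := Submodule.mem_sup.1 hb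
    obtain ⟨c, rfl⟩ := Ideal.mem_span_singleton'.1 hz
    refine ⟨Submodule.Quotient.mk c, ?_⟩
    rw [mulF_mk, Submodule.Quotient.eq]
    have : f * c - b = -j := by rw [← hjz]; ring
    rw [this]
    exact Ideal.mem_sup_left (J.neg_mem hj)
  · rintro ⟨x, hx⟩
    obtain ⟨c, rfl⟩ := Submodule.Quotient.mk_surjective _ x
    rw [mulF_mk, Submodule.Quotient.eq] at hx
    have h1 : f * c - b ∈ J ⊔ Ideal.span {f} := (sup_le_sup_left Ideal.mul_le_left J) hx
    have h2 : f * c ∈ J ⊔ Ideal.span {f} :=
      Ideal.mem_sup_right (Ideal.mul_mem_right _ _ (Ideal.mem_span_singleton_self f))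
    have := (J ⊔ Ideal.span {f}).sub_mem h2 h1
    rwa [sub_sub_cancel] at this

end General

variable {K : Type u} [Field K] {σ : Type} [Fintype σ] [DecidableEq σ]

open MvPolynomial

theorem main (h : ℕ) (J I : Ideal (MvPolynomial σ K))
    (hJ : J.IsHomogeneous (GrSyz.stdGr K σ)) (hJI : J ≤ I) (hJh : J.height = h)
    [LocCoh.IsCohenMacaulayRing (MvPolynomial σ K ⧸ J)]
    (f : MvPolynomial σ K) (hJf : J.colon {f} = J) :
    (∀ p ∈ associatedPrimes (MvPolynomial σ K) (MvPolynomial σ K ⧸ I), p.height = h + 1) ↔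
      ∀ p ∈ associatedPrimes (MvPolynomial σ K)
        (MvPolynomial σ K ⧸ (J ⊔ Ideal.span {f} * I)), p.height = h + 1 := by
  have hinj := mulF_injective J I f hJI hJf
  have hex := exact_mulF_proj J I f
  constructor
  · intro hI p hp
    rcases associatedPrimes.subset_union_of_exact hinj hex hp with h1 | h2
    · exact hI p h1
    · have hreg : ∀ y : MvPolynomial σ K, f * y ∈ J → y ∈ J := by
        intro y hy
        have : y ∈ J.colon {f} := by
          rw [Submodule.mem_colon_singleton, smul_eq_mul, mul_comm]; exact hy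
        rwa [hJf] at this
      have := Groth.Agent.Helper7.Liais6.cm_quot_sup_span J f hreg
      have hmin := Groth.Agent.Helper7.Liais7.mem_minimalPrimes_of_mem_associatedPrimes
        (J ⊔ Ideal.span {f}) p h2
      exact Groth.Agent.Helper7.Liais7.height_of_mem_minimalPrimes_sup_span J hJ h hJh f hJf p hmin
  · intro hI p hp
    exact hI p (associatedPrimes.subset_of_injective hinj hp)

end Groth.Agent.Helper7.Liais8
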