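import Mathlib
import Groth.Agent.Helper1.ExtCechLC
import Groth.Agent.Helper1.LocCohZero

/-!
# Local cohomology: `H^i(X₁) ≅ H^i(X₂)` for a short exact sequence whose third term has vanishing
local cohomology in degrees `i - 1` and `i`
-/

set_option autoImplicit false
set_option linter.unusedSectionVars false

namespace Groth.Agent.Helper7.Liais9

open CategoryTheory Limits
open Groth.Agent.Helper1 Groth.Agent.Helper1.DeltaFun Groth.Agent.Helper1.LocCohDelta
  Groth.Agent.Helper1.ExtCech

universe u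

variable {R : Type u} [CommRing R] [IsNoetherianRing R]

section nat

variable {C D : Type*} [Category C] [Category D] [HasZeroMorphisms D] {F G : C ⥤ D}

lemma map_eq (e : F ≅ G) {X Y : C} (f : X ⟶ Y) :
    F.map f = e.hom.app X ≫ G.map f ≫ e.inv.app Y := by
  rw [← Category.assoc, ← e.hom.naturality, Category.assoc, Iso.hom_inv_id_app, Category.comp_id]

lemma exact_of_natIso (e : F ≅ G) {X Y Z : C} (f : X ⟶ Y) (g : Y ⟶ Z)
    (w' : G.map f ≫ G.map g = 0)
    (h : (ShortComplex.mk _ _ w').Exact) :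
    ∃ w : F.map f ≫ F.map g = 0, (ShortComplex.mk _ _ w).Exact := by
  have w : F.map f ≫ F.map g = 0 := by
    rw [map_eq e f, map_eq e g]
    simp only [Category.assoc, Iso.inv_hom_id_app_assoc]
    rw [reassoc_of% w']
    simp
  refine ⟨w, ?_⟩
  refine ShortComplex.exact_of_iso (ShortComplex.isoMk (e.app X) (e.app Y) (e.app Z) ?_ ?_).symm h
  · exact (e.hom.naturality f).symm
  · exact (e.hom.naturality g).symm

end nat

variable (fs : List R) (S : ShortComplex (ModuleCat.{u} R)) (hS : S.ShortExact)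

include hS in
/-- exactness in the middle of the local cohomology sequence -/
theorem exact₂ (i : ℕ) :
    ∃ w : (localCohomology (Ideal.span {a | a ∈ fs}) i).map S.f ≫
        (localCohomology (Ideal.span {a | a ∈ fs}) i).map S.g = 0,
      (ShortComplex.mk _ _ w).Exact := by
  obtain ⟨e⟩ := nonempty_lc_iso_extCech fs i
  have h := (cS_shortExact S hS fs).homology_exact₂ (i : ℤ)
  exact exact_of_natIso e S.f S.g _ h

include hS in
theorem epi_map (i : ℕ)
    (h3 : IsZero ((localCohomology (Ideal.span {a | a ∈ fs}) i).obj S.X₃)) :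
    Epi ((localCohomology (Ideal.span {a | a ∈ fs}) i).map S.f) := by
  obtain ⟨w, h⟩ := exact₂ fs S hS i
  exact h.epi_f (h3.eq_of_tgt _ _)

include hS in
theorem mono_map_zero (J : Ideal R) : Mono ((localCohomology J 0).map S.f) := by
  have hf := hS.mono_f
  rw [map_eq (lcZeroIso J) S.f]
  have hι : ∀ M : ModuleCat.{u} R, Mono ((DRing.gammaIι J).app M) := by
    intro M
    rw [ModuleCat.mono_iff_injective]
    exact Subtype.val_injective
  have h1 : Mono ((DRing.gammaI J).map S.f) := by
    have h2 : (DRing.gammaI J).map S.f ≫ (DRing.gammaIι J).app S.X₂ =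
        (DRing.gammaIι J).app S.X₁ ≫ S.f := (DRing.gammaIι J).naturality S.f
    have h3 : Mono ((DRing.gammaIι J).app S.X₁ ≫ S.f) := by
      have := hι S.X₁
      exact mono_comp _ _
    rw [← h2] at h3
    exact mono_of_mono _ ((DRing.gammaIι J).app S.X₂)
  have hinv : Mono ((lcZeroIso J).inv.app S.X₂) := by
    have : IsIso ((lcZeroIso J).inv.app S.X₂) :=
      ⟨⟨(lcZeroIso J).hom.app S.X₂, Iso.inv_hom_id_app _ _, Iso.hom_inv_id_app _ _⟩⟩
    exact @IsIso.mono_of_iso _ _ _ _ _ this
  have hhom : Mono ((lcZeroIso J).hom.app S.X₁) := by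
    have : IsIso ((lcZeroIso J).hom.app S.X₁) :=
      ⟨⟨(lcZeroIso J).inv.app S.X₁, Iso.hom_inv_id_app _ _, Iso.inv_hom_id_app _ _⟩⟩
    exact @IsIso.mono_of_iso _ _ _ _ _ this
  have h4 : Mono ((DRing.gammaI J).map S.f ≫ (lcZeroIso J).inv.app S.X₂) :=
    @mono_comp _ _ _ _ _ _ h1 _ hinv
  exact @mono_comp _ _ _ _ _ _ hhom _ h4

include hS in
theorem mono_map_succ (J : Ideal R) (j : ℕ) (h3 : IsZero ((localCohomology J j).obj S.X₃)) :
    Mono ((localCohomology J (j + 1)).map S.f) := by
  have h := (lcDelta J).exact₁ S hS j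
  exact h.mono_g (h3.eq_of_src _ _)

include hS in
theorem isIso_map (i : ℕ)
    (h3 : IsZero ((localCohomology (Ideal.span {a | a ∈ fs}) i).obj S.X₃))
    (h3' : ∀ j, j + 1 = i → IsZero ((localCohomology (Ideal.span {a | a ∈ fs}) j).obj S.X₃)) :
    IsIso ((localCohomology (Ideal.span {a | a ∈ fs}) i).map S.f) := by
  have hepi := epi_map fs S hS i h3
  have hmono : Mono ((localCohomology (Ideal.span {a | a ∈ fs}) i).map S.f) := by
    cases i with
    | zero => exact mono_map_zero S hS _
    | succ j => exact mono_map_succ S hS _ j (h3' j rfl)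
  exact isIso_of_mono_of_epi _

end Groth.Agent.Helper7.Liais9
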