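import Mathlib
import Groth.Agent.Helper7.Liais8
import Groth.Agent.Helper7.Liais9
import Groth.Agent.Helper7.IrrelMax
import Groth.Agent.Helper7.CMRing
import Groth.Agent.Helper7.DepthFin
import Groth.Agent.Helper1.LocCohDepth

/-!
# Local cohomology of a basic double link
-/

set_option autoImplicit false
set_option linter.unusedSectionVars false

namespace Groth.Agent.Helper7.Liais10

open MvPolynomial CategoryTheory CategoryTheory.Limits Groth.Agent.Helper7.Liais3 Groth.Agent.Helper7.Liais4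

universe u

section irr

variable (K : Type u) [Field K] (n : ℕ)

theorem irrel_eq_irr :
    (GrSyz.irrel (GrSyz.stdGr K (Fin (n + 1)))).toIdeal = irr K (Fin (n + 1)) := by
  have hmax := Groth.Agent.Helper7.IrrelMax.irrel_isMaximal K n
  have hle : (GrSyz.irrel (GrSyz.stdGr K (Fin (n + 1)))).toIdeal ≤ irr K (Fin (n + 1)) :=
    le_irr_of_isHomogeneous _ (GrSyz.irrel (GrSyz.stdGr K (Fin (n + 1)))).isHomogeneous
      hmax.ne_top
  exact hmax.eq_of_le (Ideal.IsMaximal.ne_top inferInstance) hle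

end irr

section depth

variable {K : Type u} [Field K] {σ : Type} [Fintype σ] [DecidableEq σ]

theorem smul_top_ne_top {R : Type*} [CommRing R] (m 𝔠 : Ideal R) (h𝔠 : 𝔠 ≤ m) (hm : m ≠ ⊤) :
    m • (⊤ : Submodule R (R ⧸ 𝔠)) ≠ ⊤ := by
  intro h
  have h1 : (Ideal.Quotient.mk 𝔠 1 : R ⧸ 𝔠) ∈ m • (⊤ : Submodule R (R ⧸ 𝔠)) := by
    rw [h]; trivial
  have h2 : m • (⊤ : Submodule R (R ⧸ 𝔠)) = Submodule.map (Submodule.mkQ 𝔠) m := by
    have : (⊤ : Submodule R (R ⧸ 𝔠)) = Submodule.map (Submodule.mkQ 𝔠) ⊤ := by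
      rw [Submodule.map_top, Submodule.range_mkQ]
    rw [this, ← Submodule.map_smul'', smul_eq_mul, Ideal.mul_top]
  rw [h2] at h1
  obtain ⟨x, hx, hx1⟩ := h1
  have h3 : x - 1 ∈ 𝔠 := by
    rw [← Ideal.Quotient.eq]
    exact hx1
  apply hm
  rw [Ideal.eq_top_iff_one]
  have := m.sub_mem hx (h𝔠 h3)
  rwa [sub_sub_cancel] at this

/-- the depth of `R/𝔠` with respect to the irrelevant ideal, for `𝔠` homogeneous with `R/𝔠`
Cohen–Macaulay -/
theorem depth_quot (𝔠 : Ideal (MvPolynomial σ K))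
    (h𝔠 : 𝔠.IsHomogeneous (GrSyz.stdGr K σ)) (hne : 𝔠 ≠ ⊤)
    [hCM : LocCoh.IsCohenMacaulayRing (MvPolynomial σ K ⧸ 𝔠)]
    (P : Ideal (MvPolynomial σ K)) (hP : P ∈ 𝔠.minimalPrimes) (c : ℕ) (hPc : P.height = c) :
    LocCoh.idealDepth (irr K σ) (MvPolynomial σ K ⧸ 𝔠) + c = (Fintype.card σ : ℕ) := by
  have hle : 𝔠 ≤ irr K σ := le_irr_of_isHomogeneous 𝔠 h𝔠 hne
  have hker : RingHom.ker (Ideal.Quotient.mk 𝔠) ≤ irr K σ := by rw [Ideal.mk_ker]; exact hle
  have hm' : ((irr K σ).map (Ideal.Quotient.mk 𝔠)).IsMaximal :=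
    Ideal.IsMaximal.map_of_surjective_of_ker_le Ideal.Quotient.mk_surjective hker
  have hPhom := isHomogeneous_of_mem_minimalPrimes 𝔠 P h𝔠 hP
  have hPp : P.IsPrime := hP.1.1
  have hPm : P ≤ irr K σ := le_irr_of_isHomogeneous P hPhom hPp.ne_top
  have hP'min : P.map (Ideal.Quotient.mk 𝔠) ∈ minimalPrimes (MvPolynomial σ K ⧸ 𝔠) := by
    have h1 := Ideal.minimalPrimes_map_of_surjective
      (f := Ideal.Quotient.mk 𝔠) Ideal.Quotient.mk_surjective 𝔠
    rw [Ideal.map_quotient_self, Ideal.mk_ker, sup_idem] at h1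
    change P.map (Ideal.Quotient.mk 𝔠) ∈ (⊥ : Ideal (MvPolynomial σ K ⧸ 𝔠)).minimalPrimes
    rw [h1]
    exact ⟨P, hP, rfl⟩
  have hP'm' : P.map (Ideal.Quotient.mk 𝔠) ≤ (irr K σ).map (Ideal.Quotient.mk 𝔠) :=
    Ideal.map_mono hPm
  have h1 := Groth.Agent.Helper7.Liais2.ringKrullDim_quotient_minimalPrime K
    (MvPolynomial σ K ⧸ 𝔠) ((irr K σ).map (Ideal.Quotient.mk 𝔠))
    (P.map (Ideal.Quotient.mk 𝔠)) hP'min hP'm'
  have h2 : ringKrullDim ((MvPolynomial σ K ⧸ 𝔠) ⧸ P.map (Ideal.Quotient.mk 𝔠)) =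
      ringKrullDim (MvPolynomial σ K ⧸ P) :=
    ringKrullDim_eq_of_ringEquiv (DoubleQuot.quotQuotEquivQuotOfLE hP.1.2)
  have h3 := IsLocalization.AtPrime.ringKrullDim_eq_height
    ((irr K σ).map (Ideal.Quotient.mk 𝔠))
    (Localization.AtPrime ((irr K σ).map (Ideal.Quotient.mk 𝔠)))
  have h4 := Groth.Agent.Helper5.FtDim.height_add_dim_quotient K (MvPolynomial σ K) P
  have hR : ringKrullDim (MvPolynomial σ K) = ((Fintype.card σ : ℕ) : ℕ∞) := by
    rw [MvPolynomial.ringKrullDim_of_isNoetherianRing, ringKrullDim_eq_zero_of_field,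
      Nat.card_eq_fintype_card, zero_add]
    rfl
  rw [hR, ← h2, h1, h3, hPc] at h4
  -- depth
  have h5 := Groth.Agent.Helper7.DepthFin.idealDepth_map_eq (A := MvPolynomial σ K)
    (B := MvPolynomial σ K ⧸ 𝔠) (irr K σ) (MvPolynomial σ K ⧸ 𝔠)
  have h6 := (Groth.Agent.Helper7.CMRing.cm_iff (MvPolynomial σ K ⧸ 𝔠)).1 hCM
    ((irr K σ).map (Ideal.Quotient.mk 𝔠)) hm'.ne_top
  have h7 : LocCoh.idealDepth (irr K σ) (MvPolynomial σ K ⧸ 𝔠) =
      ((irr K σ).map (Ideal.Quotient.mk 𝔠)).height := by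
    rw [h5]; exact h6
  rw [h7]
  have h8 : (((c : ℕ∞) + ((irr K σ).map (Ideal.Quotient.mk 𝔠)).height : ℕ∞) : WithBot ℕ∞) =
      (((Fintype.card σ : ℕ) : ℕ∞) : WithBot ℕ∞) := by
    rw [WithBot.coe_add]; exact h4
  rw [WithBot.coe_inj] at h8
  rw [add_comm]; exact h8

end depth

section gen

variable {R : Type u} [CommRing R] [IsNoetherianRing R]

theorem isIso_map' (m : Ideal R) (S : ShortComplex (ModuleCat.{u} R)) (hS : S.ShortExact) (i : ℕ)
    (h3 : IsZero ((localCohomology m i).obj S.X₃))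
    (h3' : ∀ j, j + 1 = i → IsZero ((localCohomology m j).obj S.X₃)) :
    IsIso ((localCohomology m i).map S.f) := by
  classical
  obtain ⟨s, hs⟩ := (isNoetherianRing_iff_ideal_fg R).1 inferInstance m
  have hfs : m = Ideal.span {a | a ∈ s.toList} := by
    rw [← hs]
    congr 1
    ext a
    simp
  subst hfs
  exact Groth.Agent.Helper7.Liais9.isIso_map s.toList S hS i h3 h3'

end gen

section main

variable {K : Type u} [Field K] (n : ℕ)

open Groth.Agent.Helper7.Liais8

/-- the short complex `R/I → R/(J + fI) → R/(J + (f))` -/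
noncomputable def sc (J I : Ideal (MvPolynomial (Fin (n + 1)) K)) (f : MvPolynomial (Fin (n + 1)) K) :
    ShortComplex (ModuleCat.{u} (MvPolynomial (Fin (n + 1)) K)) :=
  ShortComplex.mk (ModuleCat.ofHom (mulF J I f)) (ModuleCat.ofHom (proj J I f)) (by
    rw [← ModuleCat.ofHom_comp]
    have : (proj J I f).comp (mulF J I f) = 0 :=
      LinearMap.ext fun x => (exact_mulF_proj J I f).apply_apply_eq_zero x
    rw [this]; rfl)

theorem sc_shortExact (J I : Ideal (MvPolynomial (Fin (n + 1)) K))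
    (f : MvPolynomial (Fin (n + 1)) K) (hJI : J ≤ I) (hJf : J.colon {f} = J) :
    (sc n J I f).ShortExact := by
  refine ShortComplex.ShortExact.mk' ?_ ?_ ?_
  · rw [ShortComplex.ShortExact.moduleCat_exact_iff_function_exact]
    exact exact_mulF_proj J I f
  · exact (ModuleCat.mono_iff_injective _).2 (mulF_injective J I f hJI hJf)
  · refine (ModuleCat.epi_iff_surjective _).2 ?_
    intro y
    obtain ⟨b, rfl⟩ := Submodule.Quotient.mk_surjective _ y
    exact ⟨Submodule.Quotient.mk b, rfl⟩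

theorem main (h : ℕ) (J I : Ideal (MvPolynomial (Fin (n + 1)) K))
    (hJ : J.IsHomogeneous (GrSyz.stdGr K (Fin (n + 1)))) (hJI : J ≤ I) (hJh : J.height = h)
    [LocCoh.IsCohenMacaulayRing (MvPolynomial (Fin (n + 1)) K ⧸ J)]
    (f : MvPolynomial (Fin (n + 1)) K) (d : ℕ) (hf : f ∈ GrSyz.stdGr K (Fin (n + 1)) (d : ℤ))
    (hJf : J.colon {f} = J) (i : ℕ) (hi : i + h < n) :
    Nonempty (LocCoh.H (GrSyz.irrel (GrSyz.stdGr K (Fin (n + 1)))).toIdeal i
        (MvPolynomial (Fin (n + 1)) K ⧸ (J ⊔ Ideal.span {f} * I)) ≃ₗ[MvPolynomial (Fin (n + 1)) K]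
      LocCoh.H (GrSyz.irrel (GrSyz.stdGr K (Fin (n + 1)))).toIdeal i
        (MvPolynomial (Fin (n + 1)) K ⧸ I)) := by
  classical
  rw [irrel_eq_irr]
  have hS := sc_shortExact n J I f hJI hJf
  suffices hiso : IsIso ((localCohomology (irr K (Fin (n + 1))) i).map (sc n J I f).f) from
    ⟨(asIso ((localCohomology (irr K (Fin (n + 1))) i).map (sc n J I f).f)).symm.toLinearEquiv⟩
  by_cases htop : J ⊔ Ideal.span {f} = ⊤
  · -- then `mulF` is bijective
    have hsub : Subsingleton (MvPolynomial (Fin (n + 1)) K ⧸ (J ⊔ Ideal.span {f})) := by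
      rw [htop]
      exact Submodule.Quotient.subsingleton_iff.mpr rfl
    have hsurj : Function.Surjective (mulF J I f) := by
      intro y
      exact (exact_mulF_proj J I f y).1 (Subsingleton.elim _ _)
    have hbij : Function.Bijective (mulF J I f) := ⟨mulF_injective J I f hJI hJf, hsurj⟩
    have hisof : IsIso (sc n J I f).f :=
      (ConcreteCategory.isIso_iff_bijective _).2 hbij
    infer_instance
  · -- the depth of `R/(J + (f))`
    have hreg : ∀ y : MvPolynomial (Fin (n + 1)) K, f * y ∈ J → y ∈ J := by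
      intro y hy
      have : y ∈ J.colon {f} := by
        rw [Submodule.mem_colon_singleton, smul_eq_mul, mul_comm]; exact hy
      rwa [hJf] at this
    have hCM := Groth.Agent.Helper7.Liais6.cm_quot_sup_span J f hreg
    have hhom : (J ⊔ Ideal.span {f}).IsHomogeneous (GrSyz.stdGr K (Fin (n + 1))) := by
      apply Ideal.IsHomogeneous.sup hJ
      apply Ideal.homogeneous_span
      intro x hx
      rw [Set.mem_singleton_iff] at hx
      subst hx
      exact ⟨(d : ℤ), hf⟩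
    obtain ⟨⟨P, hP⟩⟩ := Ideal.nonempty_minimalPrimes htop
    have hPh := Groth.Agent.Helper7.Liais7.height_of_mem_minimalPrimes_sup_span J hJ h hJh f hJf
      P hP
    have hdep := depth_quot (J ⊔ Ideal.span {f}) hhom htop P hP (h + 1) (by rw [hPh]; rfl)
    rw [Fintype.card_fin] at hdep
    have hmle : J ⊔ Ideal.span {f} ≤ irr K (Fin (n + 1)) :=
      le_irr_of_isHomogeneous _ hhom htop
    have hIM := smul_top_ne_top (irr K (Fin (n + 1))) (J ⊔ Ideal.span {f}) hmle
      (Ideal.IsMaximal.ne_top inferInstance)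
    have hge : ((n - h : ℕ) : ℕ∞) ≤ LocCoh.idealDepth (irr K (Fin (n + 1)))
        (MvPolynomial (Fin (n + 1)) K ⧸ (J ⊔ Ideal.span {f})) := by
      generalize LocCoh.idealDepth (irr K (Fin (n + 1)))
        (MvPolynomial (Fin (n + 1)) K ⧸ (J ⊔ Ideal.span {f})) = D at hdep
      induction D using ENat.recTopCoe with
      | top => exact le_top
      | coe D =>
        have : D + (h + 1) = n + 1 := by exact_mod_cast hdep
        have : n - h ≤ D := by omega
        exact_mod_cast this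
    have hvan := (Groth.Agent.Helper1.LocCohDepth.le_idealDepth_iff_lc (irr K (Fin (n + 1)))
      (MvPolynomial (Fin (n + 1)) K ⧸ (J ⊔ Ideal.span {f})) hIM (n - h)).1 hge
    apply isIso_map' (irr K (Fin (n + 1))) (sc n J I f) hS i
    · exact ModuleCat.isZero_iff_subsingleton.2 (hvan i (by omega))
    · intro j hj
      exact ModuleCat.isZero_iff_subsingleton.2 (hvan j (by omega))

end main

end Groth.Agent.Helper7.Liais10
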