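import Mathlib
import Groth.Prelude.Def_W4c1bouilletffgsL3
import Groth.Agent.Helper7.JacPt4

/-!
# A smooth rational point on the variety `J` of three-dimensional Lie algebras
-/

set_option autoImplicit false

namespace Groth.Agent.Helper7.Lie3Pt
open MvPolynomial Lie3Mod Groth.Agent.Helper7.JacPt2

universe u

variable (k : Type u) [Field k] (t : k)

/-- the point `[x,y] = y, [x,z] = t z, [y,z] = 0` -/
def a : Fin 9 → k := ![0, 1, 0, 0, 0, t, 0, 0, 0]

/-- local generators of `J` at the point -/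
noncomputable def g : Fin 3 → D k := ![Q1 k + detM k, Q2 k, Q3 k]

/-- the unit -/
noncomputable def uu : D k := vb + vf + ve * vc - vb * vf

theorem key1 : uu k * Q1 k = (vb + vf) * (Q1 k + detM k) - (vh * vc + vi * vf) * Q2 k
    - (-(vh * vb) - vi * ve) * Q3 k := by
  simp only [uu, Q1, Q2, Q3, detM]
  ring

theorem key2 : uu k * detM k = (ve * vc - vb * vf) * (Q1 k + detM k) + (vh * vc + vi * vf) * Q2 k
    + (-(vh * vb) - vi * ve) * Q3 k := by
  simp only [uu, Q1, Q2, Q3, detM]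
  ring

theorem g0_mem : Q1 k + detM k ∈ Ideal.span (Set.range (g k)) :=
  Ideal.subset_span ⟨0, rfl⟩
theorem g1_mem : Q2 k ∈ Ideal.span (Set.range (g k)) :=
  Ideal.subset_span ⟨1, rfl⟩
theorem g2_mem : Q3 k ∈ Ideal.span (Set.range (g k)) :=
  Ideal.subset_span ⟨2, rfl⟩

theorem eval_uu : eval (a k t) (uu k) = 1 := by
  simp [uu, a]

theorem hS : ∀ f ∈ ({Q1 k, Q2 k, Q3 k, detM k} : Set (D k)),
    ∃ u, eval (a k t) u ≠ 0 ∧ u * f ∈ Ideal.span (Set.range (g k)) := by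
  intro f hf
  simp only [Set.mem_insert_iff, Set.mem_singleton_iff] at hf
  rcases hf with rfl | rfl | rfl | rfl
  · refine ⟨uu k, by rw [eval_uu]; exact one_ne_zero, ?_⟩
    rw [key1]
    exact Ideal.sub_mem _ (Ideal.sub_mem _ (Ideal.mul_mem_left _ _ (g0_mem k))
      (Ideal.mul_mem_left _ _ (g1_mem k))) (Ideal.mul_mem_left _ _ (g2_mem k))
  · exact ⟨1, by simp, by rw [one_mul]; exact g1_mem k⟩
  · exact ⟨1, by simp, by rw [one_mul]; exact g2_mem k⟩
  · refine ⟨uu k, by rw [eval_uu]; exact one_ne_zero, ?_⟩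
    rw [key2]
    exact Ideal.add_mem _ (Ideal.add_mem _ (Ideal.mul_mem_left _ _ (g0_mem k))
      (Ideal.mul_mem_left _ _ (g1_mem k))) (Ideal.mul_mem_left _ _ (g2_mem k))

theorem hga : ∀ j, eval (a k t) (g k j) = 0 := by
  intro j
  fin_cases j
  · simp [g, a, Q1, detM]
  · simp [g, a, Q2]
  · simp [g, a, Q3]

theorem hgS : ∀ j, g k j ∈ Ideal.span ({Q1 k, Q2 k, Q3 k, detM k} : Set (D k)) := by
  intro j
  fin_cases j
  · exact Ideal.add_mem _ (Ideal.subset_span (by simp)) (Ideal.subset_span (by simp))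
  · exact Ideal.subset_span (show Q2 k ∈ _ by simp)
  · exact Ideal.subset_span (show Q3 k ∈ _ by simp)

/-- the three coordinates `g, d, i` -/
def s : Fin 3 → Fin 9 := ![6, 3, 8]

theorem hdet : Matrix.det (Matrix.of fun i j => eval (a k t) (pderiv (s i) (g k j))) ≠ 0 := by
  rw [Matrix.det_fin_three]
  simp [g, s, a, Q1, Q2, Q3, detM, pderiv_X]

theorem J_le_pt : idJ k ≤ pt (a k t) := by
  rw [idJ, Ideal.span_le]
  intro f hf
  simp only [Set.mem_insert_iff, Set.mem_singleton_iff] at hf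
  rw [SetLike.mem_coe, mem_pt]
  rcases hf with rfl | rfl | rfl | rfl
  · simp [a, Q1]
  · simp [a, Q2]
  · simp [a, Q3]
  · simp [a, detM]

theorem span_eq_pt : Ideal.span ({X 0, X 1 - 1, X 2, X 3, X 4, X 5 - C t, X 6, X 7, X 8} :
    Set (D k)) = pt (a k t) := by
  apply le_antisymm
  · rw [Ideal.span_le]
    intro f hf
    simp only [Set.mem_insert_iff, Set.mem_singleton_iff] at hf
    rw [SetLike.mem_coe, mem_pt]
    rcases hf with rfl | rfl | rfl | rfl | rfl | rfl | rfl | rfl | rfl <;> simp [a]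
  · rw [Groth.Agent.Helper7.JacPt4.pt_eq_span, Ideal.span_le]
    rintro _ ⟨i, rfl⟩
    apply Ideal.subset_span
    fin_cases i <;> simp [a]

theorem dim_aux (x : WithBot ℕ∞) (h2 : x + ((3 : ℕ) : WithBot ℕ∞) = ((9 : ℕ) : WithBot ℕ∞)) :
    x = 6 := by
  induction x using WithBot.recBotCoe with
  | bot => simp at h2
  | coe y =>
    induction y using ENat.recTopCoe with
    | top =>
      exfalso
      have : ((⊤ : ℕ∞) : WithBot ℕ∞) + ((3 : ℕ) : WithBot ℕ∞) =
          (((⊤ : ℕ∞) + (3 : ℕ) : ℕ∞) : WithBot ℕ∞) := by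
        norm_cast
      rw [this, top_add] at h2
      have h4 : ((9 : ℕ) : WithBot ℕ∞) = (((9 : ℕ) : ℕ∞) : WithBot ℕ∞) := by norm_cast
      rw [h4, WithBot.coe_inj] at h2
      exact ENat.top_ne_natCast 9 h2
    | coe n =>
      have h5 : (((n + 3 : ℕ) : ℕ∞) : WithBot ℕ∞) = (((9 : ℕ) : ℕ∞) : WithBot ℕ∞) := by
        have e1 : ((9 : ℕ) : WithBot ℕ∞) = (((9 : ℕ) : ℕ∞) : WithBot ℕ∞) := by norm_cast
        have e2 : ((3 : ℕ) : WithBot ℕ∞) = (((3 : ℕ) : ℕ∞) : WithBot ℕ∞) := by norm_cast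
        rw [← e1, ← h2, e2, ← WithBot.coe_add, Nat.cast_add]
      rw [WithBot.coe_inj, ENat.natCast_inj] at h5
      have h7 : n = 6 := by omega
      subst h7
      rfl

theorem main' (P : Ideal (D k ⧸ Ideal.span ({Q1 k, Q2 k, Q3 k, detM k} : Set (D k)))) [P.IsPrime]
    (hP' : P.comap (Ideal.Quotient.mk _) = pt (a k t)) :
    IsRegularLocalRing (Localization.AtPrime P) ∧ ringKrullDim (Localization.AtPrime P) = 6 := by
  obtain ⟨h1, h2⟩ := Groth.Agent.Helper7.JacPt3.main (a k t) 3 (g k)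
    ({Q1 k, Q2 k, Q3 k, detM k} : Set (D k)) (hga k t) (hgS k) (hS k t) s (hdet k t) P hP'
  refine ⟨h1, ?_⟩
  rw [Fintype.card_fin] at h2
  exact dim_aux _ h2

theorem main (P : Ideal (D k ⧸ idJ k)) [hPp : P.IsPrime]
    (hP : P = Ideal.map (Ideal.Quotient.mk (idJ k))
      (Ideal.span ({X 0, X 1 - 1, X 2, X 3, X 4, X 5 - C t, X 6, X 7, X 8} : Set (D k)))) :
    IsRegularLocalRing (Localization.AtPrime P) ∧ ringKrullDim (Localization.AtPrime P) = 6 := by
  have hP' : P.comap (Ideal.Quotient.mk (idJ k)) = pt (a k t) := by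
    rw [hP, span_eq_pt]
    exact Groth.Agent.Helper7.JacPt4.comap_map_pt (a k t) (idJ k) (J_le_pt k t)
  exact @main' k _ t P hPp hP'

end Groth.Agent.Helper7.Lie3Pt
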