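import Mathlib
import Groth.Prelude.Def_LieHopf
import Groth.Prelude.Def_Dyn

/-!
# Commutator of two dual-number points of an affine group = Lie bracket
-/

namespace Groth.Agent.Helper7.LieComm

open TensorProduct WithConv

universe u

variable {k : Type u} [CommRing k] {A : Type u} [CommRing A] [HopfAlgebra k A]

/-- Leibniz rule on `A ⊗ A`. -/
theorem dlin_mul' (D : LieHopf.Lie k A) (z : A ⊗[k] A) :
    LieHopf.dlin D (LinearMap.mul' k A z) =
      LinearMap.mul' k k (TensorProduct.map (Coalgebra.counit (R := k) (A := A)) (LieHopf.dlin D) z) +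
      LinearMap.mul' k k (TensorProduct.map (LieHopf.dlin D) (Coalgebra.counit (R := k) (A := A)) z) := by
  induction z using TensorProduct.induction_on with
  | zero => simp
  | tmul x y =>
    simp only [LinearMap.mul'_apply, TensorProduct.map_tmul]
    rw [LieHopf.dlin_mul]
    change _ = Coalgebra.counit (R := k) x * _ + _ * Coalgebra.counit (R := k) y
    change Coalgebra.counit (R := k) x * _ + Coalgebra.counit (R := k) y * _ = _
    ring
  | add x y hx hy => simp only [map_add, hx, hy]; ring

theorem dlin_antipode (D : LieHopf.Lie k A) (a : A) :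
    LieHopf.dlin D (HopfAlgebra.antipode k a) = - LieHopf.dlin D a := by
  have h1 := HopfAlgebra.mul_antipode_rTensor_comul_apply (R := k) a
  have h2 := congrArg (LieHopf.dlin D) h1
  rw [LieHopf.dlin_algebraMap, dlin_mul'] at h2
  have key1 : ∀ z : A ⊗[k] A,
      LinearMap.mul' k k (TensorProduct.map (Coalgebra.counit (R := k) (A := A)) (LieHopf.dlin D)
        ((HopfAlgebra.antipode k).rTensor A z)) =
      LinearMap.mul' k k (TensorProduct.map (Coalgebra.counit (R := k) (A := A)) (LieHopf.dlin D) z) := by
    intro z
    induction z using TensorProduct.induction_on with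
    | zero => simp
    | tmul x y => simp
    | add x y hx hy => simp only [map_add, hx, hy]
  have key2 : ∀ z : A ⊗[k] A,
      LinearMap.mul' k k (TensorProduct.map (LieHopf.dlin D) (Coalgebra.counit (R := k) (A := A))
        ((HopfAlgebra.antipode k).rTensor A z)) =
      LinearMap.mul' k k (TensorProduct.map (LieHopf.dlin D ∘ₗ HopfAlgebra.antipode k)
        (Coalgebra.counit (R := k) (A := A)) z) := by
    intro z
    induction z using TensorProduct.induction_on with
    | zero => simp
    | tmul x y => simp
    | add x y hx hy => simp only [map_add, hx, hy]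
  rw [key1, key2] at h2
  have e1 : LinearMap.mul' k k (TensorProduct.map (Coalgebra.counit (R := k) (A := A)) (LieHopf.dlin D)
      (Coalgebra.comul (R := k) a)) = LieHopf.dlin D a := by
    have := congrArg (fun f : WithConv (A →ₗ[k] k) => f.ofConv a) (one_mul (toConv (LieHopf.dlin D)))
    simpa [LinearMap.convOne_def, LinearMap.convMul_def] using this
  have e2 : LinearMap.mul' k k (TensorProduct.map (LieHopf.dlin D ∘ₗ HopfAlgebra.antipode k)
      (Coalgebra.counit (R := k) (A := A)) (Coalgebra.comul (R := k) a)) =
      LieHopf.dlin D (HopfAlgebra.antipode k a) := by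
    have := congrArg (fun f : WithConv (A →ₗ[k] k) => f.ofConv a)
      (mul_one (toConv (LieHopf.dlin D ∘ₗ HopfAlgebra.antipode k)))
    simpa [LinearMap.convOne_def, LinearMap.convMul_def] using this
  rw [e1, e2] at h2
  linear_combination h2

end Groth.Agent.Helper7.LieComm
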