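import Mathlib
import Groth.Agent.Helper7.LieComm1

/-!
# Commutator of two dual-number points of an affine group = Lie bracket (main computation)
-/

namespace Groth.Agent.Helper7.LieComm

open TensorProduct WithConv

universe u

variable {k : Type u} [CommRing k] {A : Type u} [CommRing A] [HopfAlgebra k A]
variable {R : Type u} [CommRing R] [Algebra k R]

theorem lmul'_map (f g : A →ₐ[k] R) (w : A ⊗[k] A) :
    Algebra.TensorProduct.lmul' (S := R) k (Algebra.TensorProduct.map f g w) =
      LinearMap.mul' k R (TensorProduct.map f.toLinearMap g.toLinearMap w) := by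
  induction w using TensorProduct.induction_on with
  | zero => simp
  | tmul x y => simp
  | add x y hx hy => simp only [map_add, hx, hy]

theorem conv3_apply (f g h : A →ₐ[k] R) (a : A) :
    Dyn.conv3 k A f g h a =
      ((toConv f.toLinearMap * toConv g.toLinearMap) * toConv h.toLinearMap).ofConv a := by
  have key : ∀ z : A ⊗[k] A,
      Algebra.TensorProduct.lmul' (S := R) k
        (Algebra.TensorProduct.map ((Algebra.TensorProduct.lmul' (S := R) k).comp
          (Algebra.TensorProduct.map f g)) h
          (Algebra.TensorProduct.map (Bialgebra.comulAlgHom k A) (AlgHom.id k A) z)) =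
      LinearMap.mul' k R (TensorProduct.map
        (LinearMap.mul' k R ∘ₗ TensorProduct.map f.toLinearMap g.toLinearMap ∘ₗ
          Coalgebra.comul (R := k)) h.toLinearMap z) := by
    intro z
    induction z using TensorProduct.induction_on with
    | zero => simp
    | tmul x y => simp [lmul'_map]
    | add x y hx hy => simp only [map_add, hx, hy]
  exact key _

variable (R) in
/-- the tangent vector as an element of the convolution ring -/
noncomputable def dconv (D : LieHopf.Lie k A) : WithConv (A →ₗ[k] R) :=
  toConv (Algebra.linearMap k R ∘ₗ LieHopf.dlin D)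

theorem ptOfLie_toLinearMap (D : LieHopf.Lie k A) (t : R) (ht : t * t = 0) :
    toConv (LieHopf.ptOfLie D R t ht).toLinearMap = 1 + t • dconv R D := by
  apply WithConv.ofConv_injective
  ext a
  change algebraMap k R (Bialgebra.counitAlgHom k A a) + algebraMap k R (LieHopf.dlin D a) * t =
    algebraMap k R (Coalgebra.counit (R := k) a) + t * algebraMap k R (LieHopf.dlin D a)
  rw [mul_comm]
  rfl

theorem ptOfLie_comp_antipode_toLinearMap (D : LieHopf.Lie k A) (t : R) (ht : t * t = 0) :
    toConv ((LieHopf.ptOfLie D R t ht).comp (HopfAlgebra.antipodeAlgHom k A)).toLinearMap =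
      1 - t • dconv R D := by
  apply WithConv.ofConv_injective
  ext a
  change algebraMap k R (Bialgebra.counitAlgHom k A (HopfAlgebra.antipode k a)) +
      algebraMap k R (LieHopf.dlin D (HopfAlgebra.antipode k a)) * t =
    algebraMap k R (Coalgebra.counit (R := k) a) - t * algebraMap k R (LieHopf.dlin D a)
  rw [dlin_antipode, map_neg]
  have : Bialgebra.counitAlgHom k A (HopfAlgebra.antipode k a) = Coalgebra.counit (R := k) a :=
    HopfAlgebra.counit_antipode a
  rw [this]
  ring

theorem unit_toLinearMap :
    toConv ((Algebra.ofId k R).comp (Bialgebra.counitAlgHom k A)).toLinearMap =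
      (1 : WithConv (A →ₗ[k] R)) := by
  apply WithConv.ofConv_injective
  ext a
  rfl

theorem dconv_mul_apply (D E : LieHopf.Lie k A) (a : A) :
    (dconv R D * dconv R E).ofConv a =
      algebraMap k R (LieHopf.conv (LieHopf.dlin D) (LieHopf.dlin E) a) := by
  have key : ∀ z : A ⊗[k] A,
      LinearMap.mul' k R (TensorProduct.map (Algebra.linearMap k R ∘ₗ LieHopf.dlin D)
        (Algebra.linearMap k R ∘ₗ LieHopf.dlin E) z) =
      algebraMap k R (LinearMap.mul' k k (TensorProduct.map (LieHopf.dlin D) (LieHopf.dlin E) z)) := by
    intro z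
    induction z using TensorProduct.induction_on with
    | zero => simp
    | tmul x y => simp
    | add x y hx hy => simp only [map_add, hx, hy]
  exact key _

/-- the ring identity behind the commutator formula -/
theorem comm_identity {W : Type*} [Ring W] [Algebra R W] (d e : W) (t t' : R)
    (ht : t * t = 0) (ht' : t' * t' = 0) :
    (((1 + t • d) * (1 + t' • e)) * (1 - t • d)) * (1 - t' • e) * 1 =
      1 + (t * t') • (d * e - e * d) := by
  have haa : (t • d) * (t • d) = 0 := by
    rw [smul_mul_smul_comm, ht, zero_smul]
  have hbb : (t' • e) * (t' • e) = 0 := by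
    rw [smul_mul_smul_comm, ht', zero_smul]
  have haba : (t • d) * (t' • e) * (t • d) = 0 := by
    rw [smul_mul_smul_comm, smul_mul_smul_comm, mul_right_comm, ht, zero_mul, zero_smul]
  have hbab : (t' • e) * (t • d) * (t' • e) = 0 := by
    rw [smul_mul_smul_comm, smul_mul_smul_comm, mul_right_comm, ht', zero_mul, zero_smul]
  have hab : (t * t') • (d * e - e * d) = (t • d) * (t' • e) - (t' • e) * (t • d) := by
    rw [smul_mul_smul_comm, smul_mul_smul_comm, smul_sub, mul_comm t' t]
  rw [hab]
  generalize t • d = a at *
  generalize t' • e = b at *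
  have e1 : (1 + a) * (1 + b) * (1 - a) * (1 - b) * 1 =
      1 + a * b - b * a - a * a - a * b * a - (b * b) - a * (b * b) + a * a * b + a * b * a * b
        + b * a * b + a * a * b  - a * a * b := by
    noncomm_ring
  rw [e1, haba, haa, hbb, hbab]
  simp only [zero_mul, mul_zero, sub_zero, add_zero]
  abel

/-- the commutator formula -/
theorem commutator_apply (D E : LieHopf.Lie k A) (t t' : R) (ht : t * t = 0) (ht' : t' * t' = 0)
    (a : A) :
    Dyn.conv3 k A
        (Dyn.conv3 k A (LieHopf.ptOfLie D R t ht) (LieHopf.ptOfLie E R t' ht')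
          ((LieHopf.ptOfLie D R t ht).comp (HopfAlgebra.antipodeAlgHom k A)))
        ((LieHopf.ptOfLie E R t' ht').comp (HopfAlgebra.antipodeAlgHom k A))
        ((Algebra.ofId k R).comp (Bialgebra.counitAlgHom k A)) a =
      algebraMap k R (Bialgebra.counitAlgHom k A a) +
        algebraMap k R (LieHopf.bracketLin D E a) * (t * t') := by
  rw [conv3_apply]
  have h1 : toConv (Dyn.conv3 k A (LieHopf.ptOfLie D R t ht) (LieHopf.ptOfLie E R t' ht')
      ((LieHopf.ptOfLie D R t ht).comp (HopfAlgebra.antipodeAlgHom k A))).toLinearMap =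
      ((1 + t • dconv R D) * (1 + t' • dconv R E)) * (1 - t • dconv R D) := by
    apply WithConv.ofConv_injective
    ext b
    change Dyn.conv3 k A _ _ _ b = _
    rw [conv3_apply, ptOfLie_toLinearMap, ptOfLie_toLinearMap, ptOfLie_comp_antipode_toLinearMap]
  rw [h1, ptOfLie_comp_antipode_toLinearMap, unit_toLinearMap, comm_identity _ _ _ _ ht ht']
  change algebraMap k R (Coalgebra.counit (R := k) a) +
      (t * t') * ((dconv R D * dconv R E).ofConv a - (dconv R E * dconv R D).ofConv a) = _
  rw [dconv_mul_apply, dconv_mul_apply, ← map_sub, mul_comm]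
  rfl

end Groth.Agent.Helper7.LieComm
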