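import Mathlib

/-!
# Submodule-level lower central series calculus

Helper library for S2964.
-/

namespace Groth.Agent.Helper7.LieFib

variable {A : Type*} [CommRing A] {L : Type*} [LieRing L] [LieAlgebra A L]

variable (A L) in
/-- The bracket as a bilinear map. -/
noncomputable def br : L →ₗ[A] L →ₗ[A] L :=
  (LieModule.toEnd A L L : L →ₗ[A] Module.End A L)

@[simp] theorem br_apply (x y : L) : br A L x y = ⁅x, y⁆ := rfl

/-- One bracket step: `N ↦ [L, N]` on submodules. -/
noncomputable def step (N : Submodule A L) : Submodule A L :=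
  Submodule.map₂ (br A L) ⊤ N

theorem step_mono {N N' : Submodule A L} (h : N ≤ N') : step N ≤ step N' :=
  Submodule.map₂_le_map₂_right h

theorem lie_mem_step {N : Submodule A L} (x : L) {m : L} (hm : m ∈ N) : ⁅x, m⁆ ∈ step N :=
  Submodule.apply_mem_map₂ (br A L) (Submodule.mem_top (x := x)) hm

theorem step_le {N N' : Submodule A L} (h : ∀ (x : L), ∀ m ∈ N, ⁅x, m⁆ ∈ N') : step N ≤ N' :=
  Submodule.map₂_le.mpr fun x _ m hm => h x m hm

theorem step_smul_le (𝔟 : Ideal A) (N : Submodule A L) : step (𝔟 • N) ≤ 𝔟 • step N := by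
  refine step_le fun x m hm => ?_
  refine Submodule.smul_induction_on hm ?_ ?_
  · intro b hb n hn
    rw [lie_smul]
    exact Submodule.smul_mem_smul hb (lie_mem_step x hn)
  · intro m1 m2 h1 h2
    rw [lie_add]
    exact Submodule.add_mem _ h1 h2

theorem step_fg [Module.Finite A L] {N : Submodule A L} (hN : N.FG) : (step N).FG :=
  Submodule.FG.map₂ _ Module.Finite.fg_top hN

/-- Iterated bracket steps. -/
noncomputable def D (k : ℕ) (N : Submodule A L) : Submodule A L := step^[k] N

@[simp] theorem D_zero (N : Submodule A L) : D 0 N = N := rfl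

theorem D_succ (k : ℕ) (N : Submodule A L) : D (k + 1) N = step (D k N) :=
  Function.iterate_succ_apply' step k N

theorem D_mono (k : ℕ) {N N' : Submodule A L} (h : N ≤ N') : D k N ≤ D k N' := by
  induction k with
  | zero => exact h
  | succ k ih => rw [D_succ, D_succ]; exact step_mono ih

theorem D_add (k n : ℕ) (N : Submodule A L) : D (k + n) N = D k (D n N) :=
  Function.iterate_add_apply step k n N

theorem D_smul_le (k : ℕ) (𝔟 : Ideal A) (N : Submodule A L) : D k (𝔟 • N) ≤ 𝔟 • D k N := by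
  induction k with
  | zero => exact le_rfl
  | succ k ih =>
    rw [D_succ, D_succ]
    exact (step_mono ih).trans (step_smul_le 𝔟 _)

theorem D_fg [Module.Finite A L] (k : ℕ) {N : Submodule A L} (hN : N.FG) : (D k N).FG := by
  induction k with
  | zero => exact hN
  | succ k ih => rw [D_succ]; exact step_fg ih

variable (A L) in
/-- The lower central series as plain submodules. -/
noncomputable def C (n : ℕ) : Submodule A L := D n ⊤

theorem C_zero : C A L 0 = ⊤ := rfl

theorem C_succ (n : ℕ) : C A L (n + 1) = step (C A L n) := D_succ n ⊤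

theorem C_add (k n : ℕ) : C A L (k + n) = D k (C A L n) := D_add k n ⊤

theorem C_fg [Module.Finite A L] (n : ℕ) : (C A L n).FG := D_fg n Module.Finite.fg_top

theorem C_antitone : Antitone (C A L) := by
  refine antitone_nat_of_succ_le fun n => ?_
  induction n with
  | zero => exact le_top
  | succ n ih =>
    rw [C_succ (n + 1)]
    conv_rhs => rw [C_succ n]
    exact step_mono ih

theorem lowerCentralSeries_toSubmodule (n : ℕ) :
    (LieModule.lowerCentralSeries A L L n).toSubmodule = C A L n := by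
  induction n with
  | zero => rfl
  | succ n ih =>
    rw [LieModule.lowerCentralSeries_succ, LieSubmodule.lieIdeal_oper_eq_linear_span', C_succ, step,
      Submodule.map₂_eq_span_image2]
    congr 1
    ext m
    constructor
    · rintro ⟨x, -, y, hy, rfl⟩
      refine ⟨x, Submodule.mem_top, y, ?_, rfl⟩
      rw [← ih]
      exact hy
    · rintro ⟨x, -, y, hy, rfl⟩
      refine ⟨x, LieSubmodule.mem_top x, y, ?_, rfl⟩
      rw [← ih] at hy
      exact hy

theorem isNilpotent_iff_C : LieRing.IsNilpotent L ↔ ∃ n, C A L n = ⊥ := by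
  rw [LieRing.IsNilpotent, LieModule.isNilpotent_iff A]
  refine exists_congr fun n => ?_
  rw [← lowerCentralSeries_toSubmodule, LieSubmodule.toSubmodule_eq_bot]

/-- `L / 𝔞 L` is nilpotent. -/
def Nil (𝔞 : Ideal A) : Prop := ∃ n, C A L n ≤ 𝔞 • (⊤ : Submodule A L)

theorem Nil.mono {𝔞 𝔟 : Ideal A} (h : 𝔞 ≤ 𝔟) (hn : Nil (L := L) 𝔞) : Nil (L := L) 𝔟 := by
  obtain ⟨n, hn⟩ := hn
  exact ⟨n, hn.trans (Submodule.smul_mono_left h)⟩

theorem Nil.mul {𝔞 𝔟 : Ideal A} (ha : Nil (L := L) 𝔞) (hb : Nil (L := L) 𝔟) :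
    Nil (L := L) (𝔟 * 𝔞) := by
  obtain ⟨n, hn⟩ := ha
  obtain ⟨m, hm⟩ := hb
  refine ⟨n + m, ?_⟩
  rw [C_add]
  calc D n (C A L m) ≤ D n (𝔟 • ⊤) := D_mono n hm
    _ ≤ 𝔟 • D n ⊤ := D_smul_le n 𝔟 ⊤
    _ ≤ 𝔟 • (𝔞 • ⊤) := Submodule.smul_mono le_rfl hn
    _ = (𝔟 * 𝔞) • ⊤ := (mul_smul _ _ _).symm

theorem nil_top : Nil (L := L) (⊤ : Ideal A) := ⟨0, by rw [Submodule.top_smul]; exact le_top⟩

theorem isNilpotent_of_nil_bot (h : Nil (L := L) (⊥ : Ideal A)) : LieRing.IsNilpotent L := by
  obtain ⟨n, hn⟩ := h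
  rw [isNilpotent_iff_C (A := A)]
  refine ⟨n, ?_⟩
  rw [Submodule.bot_smul] at hn
  exact le_bot_iff.mp hn

end Groth.Agent.Helper7.LieFib
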