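import Groth.Agent.Helper7.LieFibA
import Groth.Agent.Helper2.FibreKer

/-!
# Fibrewise nilpotent Lie algebras are nilpotent

Helper library for S2964.
-/

universe u

namespace Groth.Agent.Helper7.LieFib

open TensorProduct

section chain

variable {A : Type*} [CommRing A] {M : Type*} [AddCommGroup M] [Module A M]

theorem exists_mem_of_mem_sSup_smul {c : Set (Ideal A)} (hc : IsChain (· ≤ ·) c) (hne : c.Nonempty)
    {x : M} (hx : x ∈ (sSup c) • (⊤ : Submodule A M)) :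
    ∃ 𝔞 ∈ c, x ∈ 𝔞 • (⊤ : Submodule A M) := by
  refine Submodule.smul_induction_on hx ?_ ?_
  · intro b hb m _
    obtain ⟨𝔞, h𝔞, hb'⟩ := (Submodule.mem_sSup_of_directed hne hc.directedOn).mp hb
    exact ⟨𝔞, h𝔞, Submodule.smul_mem_smul hb' Submodule.mem_top⟩
  · rintro x y ⟨𝔞₁, h1, hx⟩ ⟨𝔞₂, h2, hy⟩
    rcases hc.total h1 h2 with h | h
    · exact ⟨𝔞₂, h2, Submodule.add_mem _ (Submodule.smul_mono_left h hx) hy⟩
    · exact ⟨𝔞₁, h1, Submodule.add_mem _ hx (Submodule.smul_mono_left h hy)⟩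

theorem exists_le_of_fg_le_sSup_smul {c : Set (Ideal A)} (hc : IsChain (· ≤ ·) c) (hne : c.Nonempty)
    (N : Submodule A M) (hN : N.FG) (hle : N ≤ (sSup c) • (⊤ : Submodule A M)) :
    ∃ 𝔞 ∈ c, N ≤ 𝔞 • (⊤ : Submodule A M) := by
  induction N, hN using Submodule.fg_induction with
  | singleton x =>
    obtain ⟨𝔞, h𝔞, hx⟩ := exists_mem_of_mem_sSup_smul hc hne (hle (Submodule.mem_span_singleton_self x))
    exact ⟨𝔞, h𝔞, (Submodule.span_singleton_le_iff_mem _ _).mpr hx⟩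
  | sup N₁ N₂ _ _ ih1 ih2 =>
    obtain ⟨𝔞₁, h1, hx⟩ := ih1 (le_sup_left.trans hle)
    obtain ⟨𝔞₂, h2, hy⟩ := ih2 (le_sup_right.trans hle)
    rcases hc.total h1 h2 with h | h
    · exact ⟨𝔞₂, h2, sup_le (hx.trans (Submodule.smul_mono_left h)) hy⟩
    · exact ⟨𝔞₁, h1, sup_le hx (hy.trans (Submodule.smul_mono_left h))⟩

end chain

variable {A : Type u} [CommRing A] {L : Type u} [LieRing L] [LieAlgebra A L]

theorem one_tmul_mem_lowerCentralSeries (K : Type u) [Field K] [Algebra A K] (k : ℕ) :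
    ∀ x ∈ C A L k, (1 : K) ⊗ₜ[A] x ∈ LieModule.lowerCentralSeries K (K ⊗[A] L) (K ⊗[A] L) k := by
  induction k with
  | zero => intro x _; exact LieSubmodule.mem_top _
  | succ k ih =>
    intro x hx
    rw [C_succ] at hx
    let T : Submodule A L := Submodule.comap (TensorProduct.mk A K L 1)
      ((LieModule.lowerCentralSeries K (K ⊗[A] L) (K ⊗[A] L) (k + 1)).toSubmodule.restrictScalars A)
    have hT : step (C A L k) ≤ T := by
      refine step_le fun y m hm => ?_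
      change (1 : K) ⊗ₜ[A] ⁅y, m⁆ ∈ LieModule.lowerCentralSeries K (K ⊗[A] L) (K ⊗[A] L) (k + 1)
      rw [LieModule.lowerCentralSeries_succ]
      have h1 : (1 : K) ⊗ₜ[A] ⁅y, m⁆ = ⁅(1 : K) ⊗ₜ[A] y, (1 : K) ⊗ₜ[A] m⁆ := by
        rw [LieAlgebra.ExtendScalars.bracket_tmul, mul_one]
      rw [h1]
      exact LieSubmodule.lie_mem_lie (LieSubmodule.mem_top _) (ih m hm)
    exact hT hx

theorem exists_smul_C_le [Module.Finite A L] (p : Ideal A) [p.IsPrime]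
    (h : LieRing.IsNilpotent (p.ResidueField ⊗[A] L)) :
    ∃ (n : ℕ) (s : A), s ∉ p ∧ ∀ x ∈ C A L n, s • x ∈ p • (⊤ : Submodule A L) := by
  rw [LieRing.IsNilpotent, LieModule.isNilpotent_iff p.ResidueField] at h
  obtain ⟨n, hn⟩ := h
  refine ⟨n, ?_⟩
  have hzero : ∀ x ∈ C A L n, (1 : p.ResidueField) ⊗ₜ[A] x = 0 := by
    intro x hx
    have := one_tmul_mem_lowerCentralSeries p.ResidueField n x hx
    rw [hn] at this
    exact (LieSubmodule.mem_bot _).mp this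
  have key : ∀ (N : Submodule A L) (hN : N.FG), N ≤ C A L n →
      ∃ s : A, s ∉ p ∧ ∀ x ∈ N, s • x ∈ p • (⊤ : Submodule A L) := by
    intro N hN
    induction N, hN using Submodule.fg_induction with
    | singleton x =>
      intro hle
      obtain ⟨s, hs, hsx⟩ := Groth.Agent.Helper2.FibreKer.exists_smul_mem_of_tmul_eq_zero p L x
        (hzero x (hle (Submodule.mem_span_singleton_self x)))
      refine ⟨s, hs, fun y hy => ?_⟩
      obtain ⟨a, rfl⟩ := Submodule.mem_span_singleton.mp hy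
      rw [smul_comm]
      exact Submodule.smul_mem _ _ hsx
    | sup N₁ N₂ _ _ ih1 ih2 =>
      intro hle
      obtain ⟨s₁, hs₁, h1⟩ := ih1 (le_sup_left.trans hle)
      obtain ⟨s₂, hs₂, h2⟩ := ih2 (le_sup_right.trans hle)
      refine ⟨s₁ * s₂, fun hmem => ?_, fun y hy => ?_⟩
      · rcases Ideal.IsPrime.mem_or_mem ‹_› hmem with h | h
        · exact hs₁ h
        · exact hs₂ h
      · obtain ⟨y₁, hy₁, y₂, hy₂, rfl⟩ := Submodule.mem_sup.mp hy
        rw [smul_add]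
        refine Submodule.add_mem _ ?_ ?_
        · rw [mul_comm, mul_smul]
          exact Submodule.smul_mem _ _ (h1 y₁ hy₁)
        · rw [mul_smul]
          exact Submodule.smul_mem _ _ (h2 y₂ hy₂)
  exact key (C A L n) (C_fg n) le_rfl

theorem sup_span_mul_le {𝔞 : Ideal A} {x y : A} (hxy : x * y ∈ 𝔞) :
    (𝔞 ⊔ Ideal.span {x}) * (𝔞 ⊔ Ideal.span {y}) ≤ 𝔞 := by
  rw [Ideal.mul_le]
  intro r hr s hs
  obtain ⟨a, ha, b, hb, rfl⟩ := Submodule.mem_sup.mp hr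
  obtain ⟨a', ha', b', hb', rfl⟩ := Submodule.mem_sup.mp hs
  obtain ⟨c, rfl⟩ := Ideal.mem_span_singleton'.mp hb
  obtain ⟨c', rfl⟩ := Ideal.mem_span_singleton'.mp hb'
  have : (a + c * x) * (a' + c' * y) = a * (a' + c' * y) + (c * x) * a' + (c * c') * (x * y) := by
    ring
  rw [this]
  exact 𝔞.add_mem (𝔞.add_mem (𝔞.mul_mem_right _ ha) (𝔞.mul_mem_left _ ha'))
    (𝔞.mul_mem_left _ hxy)

theorem lt_sup_span {𝔞 : Ideal A} {x : A} (hx : x ∉ 𝔞) : 𝔞 < 𝔞 ⊔ Ideal.span {x} := by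
  refine lt_of_le_of_ne le_sup_left fun h => hx ?_
  rw [h]
  exact Ideal.mem_sup_right (Ideal.mem_span_singleton_self x)

/-- Part (1): fibrewise nilpotent implies nilpotent. -/
theorem nil_bot_of_fibres [Module.Finite A L]
    (h : ∀ p : PrimeSpectrum A, LieRing.IsNilpotent (p.asIdeal.ResidueField ⊗[A] L)) :
    Nil (L := L) (⊥ : Ideal A) := by
  by_contra hbot
  obtain ⟨𝔞, -, hmax⟩ := zorn_le_nonempty₀ {𝔞 : Ideal A | ¬ Nil (L := L) 𝔞} (by
    intro c hcs hc y hy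
    refine ⟨sSup c, ?_, fun z hz => le_sSup hz⟩
    rintro ⟨n, hn⟩
    obtain ⟨𝔟, h𝔟, hle⟩ := exists_le_of_fg_le_sSup_smul hc ⟨y, hy⟩ _ (C_fg n) hn
    exact hcs h𝔟 ⟨n, hle⟩) ⊥ hbot
  have h𝔞 : ¬ Nil (L := L) 𝔞 := hmax.prop
  have hgt : ∀ 𝔟 : Ideal A, 𝔞 < 𝔟 → Nil (L := L) 𝔟 := by
    intro 𝔟 hlt
    by_contra hb
    exact hlt.not_ge (hmax.le_of_ge hb hlt.le)
  have hne : 𝔞 ≠ ⊤ := fun h => h𝔞 (h ▸ nil_top)
  have hprime : 𝔞.IsPrime := by
    refine ⟨hne, fun {x y} hxy => ?_⟩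
    by_contra hcon
    push Not at hcon
    have hx := hgt _ (lt_sup_span hcon.1)
    have hy := hgt _ (lt_sup_span hcon.2)
    exact h𝔞 ((hy.mul hx).mono (sup_span_mul_le hxy))
  obtain ⟨k, s, hs, hk⟩ := exists_smul_C_le 𝔞 (h ⟨𝔞, hprime⟩)
  obtain ⟨m, hm⟩ := hgt _ (lt_sup_span hs)
  apply h𝔞
  refine ⟨k + m, ?_⟩
  rw [C_add]
  calc D k (C A L m) ≤ D k ((𝔞 ⊔ Ideal.span {s}) • ⊤) := D_mono k hm
    _ ≤ (𝔞 ⊔ Ideal.span {s}) • D k ⊤ := D_smul_le k _ ⊤
    _ ≤ 𝔞 • ⊤ := by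
      rw [Submodule.smul_le]
      intro r hr n hn
      obtain ⟨a, ha, b, hb, rfl⟩ := Submodule.mem_sup.mp hr
      obtain ⟨c, rfl⟩ := Ideal.mem_span_singleton'.mp hb
      rw [add_smul, mul_smul]
      exact Submodule.add_mem _ (Submodule.smul_mem_smul ha Submodule.mem_top)
        (Submodule.smul_mem _ _ (hk n hn))

theorem isNilpotent_of_fibres [Module.Finite A L]
    (h : ∀ p : PrimeSpectrum A, LieRing.IsNilpotent (p.asIdeal.ResidueField ⊗[A] L)) :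
    LieRing.IsNilpotent L :=
  isNilpotent_of_nil_bot (A := A) (nil_bot_of_fibres h)

end Groth.Agent.Helper7.LieFib
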