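import Groth.Agent.Helper7.LieFibB

/-!
# Part (2) of S2964: Engel-type criterion
-/

universe u

namespace Groth.Agent.Helper7.LieFib

open TensorProduct

variable {A : Type u} [CommRing A] {L : Type u} [LieRing L] [LieAlgebra A L]

theorem exists_div (p : Ideal A) [p.IsPrime] (c : p.ResidueField) :
    ∃ (a s : A), s ∉ p ∧ c * algebraMap A p.ResidueField s = algebraMap A p.ResidueField a := by
  obtain ⟨⟨x, y⟩, hxy⟩ := IsLocalization.surj (nonZeroDivisors (A ⧸ p)) c
  obtain ⟨a, ha⟩ := Ideal.Quotient.mk_surjective x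
  obtain ⟨s, hs⟩ := Ideal.Quotient.mk_surjective (y : A ⧸ p)
  refine ⟨a, s, fun hsp => ?_, ?_⟩
  · have : (y : A ⧸ p) = 0 := by rw [← hs]; exact Ideal.Quotient.eq_zero_iff_mem.mpr hsp
    exact nonZeroDivisors.coe_ne_zero y this
  · simp only at hxy
    rw [IsScalarTower.algebraMap_apply A (A ⧸ p) p.ResidueField s,
      IsScalarTower.algebraMap_apply A (A ⧸ p) p.ResidueField a, Ideal.Quotient.algebraMap_eq,
      hs, ha]
    exact hxy

theorem exists_tmul (p : Ideal A) [p.IsPrime] (z : p.ResidueField ⊗[A] L) :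
    ∃ (c : p.ResidueField) (x : L), z = c ⊗ₜ[A] x := by
  induction z using TensorProduct.induction_on with
  | zero => exact ⟨0, 0, (TensorProduct.zero_tmul _ _).symm⟩
  | tmul c x => exact ⟨c, x, rfl⟩
  | add z₁ z₂ h₁ h₂ =>
    obtain ⟨c₁, x₁, rfl⟩ := h₁
    obtain ⟨c₂, x₂, rfl⟩ := h₂
    obtain ⟨a₁, s₁, hs₁, e₁⟩ := exists_div p c₁
    obtain ⟨a₂, s₂, hs₂, e₂⟩ := exists_div p c₂
    have hne : ∀ s : A, s ∉ p → algebraMap A p.ResidueField s ≠ 0 := by
      intro s hs h0
      apply hs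
      rw [← Ideal.ker_algebraMap_residueField p]
      exact h0
    have h1 := hne s₁ hs₁
    have h2 := hne s₂ hs₂
    refine ⟨(algebraMap A p.ResidueField s₁ * algebraMap A p.ResidueField s₂)⁻¹,
      (s₂ * a₁) • x₁ + (s₁ * a₂) • x₂, ?_⟩
    rw [TensorProduct.tmul_add, ← TensorProduct.smul_tmul, ← TensorProduct.smul_tmul,
      Algebra.smul_def, Algebra.smul_def, map_mul, map_mul, ← e₁, ← e₂]
    congr 2
    · field_simp
    · field_simp

theorem ad_tmul (K : Type u) [Field K] [Algebra A K] (c : K) (x : L) :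
    LieAlgebra.ad K (K ⊗[A] L) (c ⊗ₜ[A] x) = c • (LieAlgebra.ad A L x).baseChange K := by
  apply TensorProduct.AlgebraTensorModule.ext
  intro t y
  rw [LieAlgebra.ad_apply, LieAlgebra.ExtendScalars.bracket_tmul, LinearMap.smul_apply,
    LinearMap.baseChange_tmul, LieAlgebra.ad_apply, TensorProduct.smul_tmul', smul_eq_mul]

theorem isNilpotent_ad_tmul (K : Type u) [Field K] [Algebra A K] (c : K) (x : L)
    (hx : IsNilpotent (LieAlgebra.ad A L x)) :
    IsNilpotent (LieAlgebra.ad K (K ⊗[A] L) (c ⊗ₜ[A] x)) := by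
  rw [ad_tmul]
  obtain ⟨n, hn⟩ := hx
  have h1 : IsNilpotent ((LieAlgebra.ad A L x).baseChange K) := by
    refine ⟨n, ?_⟩
    rw [← LinearMap.baseChange_pow, hn, LinearMap.baseChange_zero]
  exact h1.smul c

/-- Part (2): if every `ad x` is nilpotent, `L` is nilpotent. -/
theorem isNilpotent_of_ad [Module.Finite A L] (h : ∀ x : L, IsNilpotent (LieAlgebra.ad A L x)) :
    LieRing.IsNilpotent L := by
  apply isNilpotent_of_fibres (A := A)
  intro p
  rw [LieAlgebra.isNilpotent_iff_forall (R := p.asIdeal.ResidueField)]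
  intro z
  obtain ⟨c, x, rfl⟩ := exists_tmul p.asIdeal z
  exact isNilpotent_ad_tmul _ c x (h x)

end Groth.Agent.Helper7.LieFib
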