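import Mathlib
import Groth.Agent.Helper7.MilnorGlue

/-! Lifting a section of a base-changed surjection onto a projective module. -/

universe u v w

open TensorProduct

namespace Groth.Agent.Helper7.LiftSec

open Groth.Agent.Helper7.MilnorGlue

theorem lift_section (S R : Type u) [CommRing S] [CommRing R] [Algebra S R]
    (hSR : Function.Surjective (algebraMap S R))
    (P₁ : Type v) [AddCommGroup P₁] [Module S P₁]
    (P₂ : Type w) [AddCommGroup P₂] [Module S P₂] [Module.Projective S P₂]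
    (π : P₁ →ₗ[S] P₂) (hπ : Function.Surjective π)
    (σ' : R ⊗[S] P₂ →ₗ[R] R ⊗[S] P₁) (hσ' : (π.baseChange R).comp σ' = LinearMap.id) :
    ∃ σ : P₂ →ₗ[S] P₁, π.comp σ = LinearMap.id ∧ σ.baseChange R = σ' := by
  set I := RingHom.ker (algebraMap S R) with hI
  let ι₁ : P₁ →ₗ[S] R ⊗[S] P₁ := TensorProduct.mk S R P₁ 1
  let ι₂ : P₂ →ₗ[S] R ⊗[S] P₂ := TensorProduct.mk S R P₂ 1
  have hι₁ : Function.Surjective ι₁ := fun z => by
    obtain ⟨m, rfl⟩ := exists_one_tmul hSR z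
    exact ⟨m, rfl⟩
  obtain ⟨σ₀, hσ₀⟩ := Module.projective_lifting_property ι₁ ((σ'.restrictScalars S) ∘ₗ ι₂) hι₁
  have hσ₀' : ∀ x, (1 : R) ⊗ₜ[S] σ₀ x = σ' ((1 : R) ⊗ₜ[S] x) :=
    fun x => congrArg (fun ψ => ψ x) hσ₀
  have hσ'' : ∀ z, (π.baseChange R) (σ' z) = z := fun z => congrArg (fun ψ => ψ z) hσ'
  let δ₀ : P₂ →ₗ[S] P₂ := LinearMap.id - π ∘ₗ σ₀
  have hδ : ∀ x, δ₀ x ∈ I • (⊤ : Submodule S P₂) := by
    intro x
    show (LinearMap.id - π ∘ₗ σ₀ : P₂ →ₗ[S] P₂) x ∈ I • (⊤ : Submodule S P₂)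
    apply mem_ker_smul_top_of_one_tmul_eq_zero hSR
    rw [LinearMap.sub_apply, LinearMap.id_apply, LinearMap.comp_apply, TensorProduct.tmul_sub,
      ← LinearMap.baseChange_tmul, hσ₀', hσ'', sub_self]
  let K₁ : Submodule S P₁ := I • ⊤
  let K₂ : Submodule S P₂ := I • ⊤
  have hmap : Submodule.map π K₁ = K₂ := by
    show Submodule.map π (I • ⊤) = I • ⊤
    rw [Submodule.map_smul'', Submodule.map_top, LinearMap.range_eq_top.2 hπ]
  have hπK : ∀ x ∈ K₁, π x ∈ K₂ := fun x hx => hmap ▸ ⟨x, hx, rfl⟩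
  let πK : K₁ →ₗ[S] K₂ := π.restrict hπK
  have hπKsurj : Function.Surjective πK := by
    rintro ⟨y, hy⟩
    rw [← hmap] at hy
    obtain ⟨x, hx, rfl⟩ := hy
    exact ⟨⟨x, hx⟩, rfl⟩
  let δ : P₂ →ₗ[S] K₂ := LinearMap.codRestrict K₂ δ₀ hδ
  obtain ⟨τ, hτ⟩ := Module.projective_lifting_property πK δ hπKsurj
  have hτ' : ∀ x, π (τ x).1 = x - π (σ₀ x) := by
    intro x
    have := congrArg (fun ψ => (ψ x).1) hτ
    exact this
  refine ⟨σ₀ + K₁.subtype ∘ₗ τ, ?_, ?_⟩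
  · refine LinearMap.ext fun x => ?_
    rw [LinearMap.comp_apply, LinearMap.add_apply, map_add, LinearMap.comp_apply,
      Submodule.subtype_apply, hτ', LinearMap.id_apply]
    abel
  · refine LinearMap.ext fun z => ?_
    obtain ⟨x, rfl⟩ := exists_one_tmul hSR z
    rw [LinearMap.baseChange_tmul, LinearMap.add_apply, TensorProduct.tmul_add, hσ₀',
      LinearMap.comp_apply, Submodule.subtype_apply,
      one_tmul_eq_zero_of_mem_ker_smul_top _ (τ x).2, add_zero]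

end Groth.Agent.Helper7.LiftSec
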