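import Mathlib

namespace Groth.Agent.Helper7.LinMiss

open MvPolynomial

set_option maxSynthPendingDepth 3

section general

variable {ι A σ : Type*} [CommRing A] [AddCommMonoid ι] [LinearOrder ι]
  [IsOrderedCancelAddMonoid ι] [SetLike σ A]
  [AddSubmonoidClass σ A] (𝒜 : ι → σ) [GradedRing 𝒜]

theorem isHomogeneous_of_mem_minimalPrimes {J p : Ideal A} (hJ : J.IsHomogeneous 𝒜)
    (hp : p ∈ J.minimalPrimes) : p.IsHomogeneous 𝒜 := by
  have hprime : p.IsPrime := hp.1.1
  have hq : (p.homogeneousCore 𝒜).toIdeal.IsPrime := hprime.homogeneousCore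
  have hle : (p.homogeneousCore 𝒜).toIdeal ≤ p := Ideal.toIdeal_homogeneousCore_le 𝒜 p
  have hJq : J ≤ (p.homogeneousCore 𝒜).toIdeal := by
    have h1 := Ideal.homogeneousCore_mono 𝒜 hp.1.2
    have h2 : (J.homogeneousCore 𝒜).toIdeal = J := hJ.toIdeal_homogeneousCore_eq_self
    rw [← h2]
    exact h1
  have := hp.2 ⟨hq, hJq⟩ hle
  have heq : (p.homogeneousCore 𝒜).toIdeal = p := le_antisymm hle this
  rw [← heq]
  exact (p.homogeneousCore 𝒜).isHomogeneous

end general

section poly

attribute [local instance] MvPolynomial.gradedAlgebra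

variable (k : Type*) [Field k] (n : ℕ)

/-- The irrelevant ideal. -/
noncomputable def irr : Ideal (MvPolynomial (Fin (n + 1)) k) :=
  Ideal.span (Set.range (X : Fin (n + 1) → MvPolynomial (Fin (n + 1)) k))

variable {k n}

theorem mem_irr_iff (f : MvPolynomial (Fin (n + 1)) k) : f ∈ irr k n ↔ constantCoeff f = 0 := by
  unfold irr
  rw [← Set.image_univ, mem_ideal_span_X_image]
  constructor
  · intro h
    by_contra hne
    have h0 : (0 : Fin (n + 1) →₀ ℕ) ∈ f.support := by
      rw [mem_support_iff]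
      exact hne
    obtain ⟨i, -, hi⟩ := h 0 h0
    exact hi rfl
  · intro h m hm
    by_contra hcon
    push Not at hcon
    have hm0 : m = 0 := by
      ext i
      exact hcon i (Set.mem_univ i)
    rw [mem_support_iff, hm0] at hm
    exact hm h

theorem irr_fg : (irr k n).FG := by
  unfold irr
  exact ⟨(Set.finite_range _).toFinset, by rw [Set.Finite.coe_toFinset]⟩

theorem irr_ne_top : irr k n ≠ ⊤ := by
  intro h
  have : (1 : MvPolynomial (Fin (n + 1)) k) ∈ irr k n := by rw [h]; trivial
  rw [mem_irr_iff] at this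
  simp at this

theorem le_irr_of_isHomogeneous {p : Ideal (MvPolynomial (Fin (n + 1)) k)}
    (hp : p.IsHomogeneous (homogeneousSubmodule (Fin (n + 1)) k)) (hne : p ≠ ⊤) :
    p ≤ irr k n := by
  intro f hf
  rw [mem_irr_iff]
  by_contra hc
  replace hc : coeff 0 f ≠ 0 := hc
  apply hne
  have h0 := hp 0 hf
  have h1 : (DirectSum.decompose (homogeneousSubmodule (Fin (n + 1)) k) f 0 :
      MvPolynomial (Fin (n + 1)) k) = homogeneousComponent 0 f :=
    decomposition.decompose'_apply f 0
  rw [h1, homogeneousComponent_zero] at h0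
  rw [Ideal.eq_top_iff_one]
  have : (1 : MvPolynomial (Fin (n + 1)) k) = C (coeff 0 f)⁻¹ * C (coeff 0 f) := by
    rw [← C_mul, inv_mul_cancel₀ hc, C_1]
  rw [this]
  exact Ideal.mul_mem_left _ _ h0

theorem X_isHomogeneous_mem (i : Fin (n + 1)) :
    (X i : MvPolynomial (Fin (n + 1)) k) ∈ homogeneousSubmodule (Fin (n + 1)) k 1 :=
  isHomogeneous_X k i

end poly

end Groth.Agent.Helper7.LinMiss
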