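import Mathlib
import Groth.Agent.Helper7.LinMiss1

namespace Groth.Agent.Helper7.LinMiss

set_option maxSynthPendingDepth 3

theorem dim_drop {R : Type*} [CommRing R] (J : Ideal R) (h : R)
    (hh : ∀ p ∈ J.minimalPrimes, h ∉ p) :
    ringKrullDim (R ⧸ (J ⊔ Ideal.span {h})) + 1 ≤ ringKrullDim (R ⧸ J) := by
  by_cases hr' : J ⊔ Ideal.span {h} = ⊤
  · rw [hr', ringKrullDim_eq_bot_of_subsingleton]
    simp
  have hJ : J ≠ ⊤ := by
    rintro rfl
    exact hr' (by simp)
  have ne1 : Nonempty (PrimeSpectrum.zeroLocus (R := R) (J ⊔ Ideal.span {h} : Ideal R)) := by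
    rwa [Set.nonempty_coe_sort, Set.nonempty_iff_ne_empty, ne_eq,
      PrimeSpectrum.zeroLocus_empty_iff_eq_top]
  have ne2 : Nonempty (PrimeSpectrum.zeroLocus (R := R) (J : Set R)) := by
    rwa [Set.nonempty_coe_sort, Set.nonempty_iff_ne_empty, ne_eq,
      PrimeSpectrum.zeroLocus_empty_iff_eq_top]
  rw [ringKrullDim_quotient, ringKrullDim_quotient, Order.krullDim_eq_iSup_length,
    Order.krullDim_eq_iSup_length, ← WithBot.coe_one, ← WithBot.coe_add,
    ENat.iSup_add, WithBot.coe_le_coe, iSup_le_iff]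
  intro l
  have hsub : PrimeSpectrum.zeroLocus (R := R) (J ⊔ Ideal.span {h} : Ideal R) ⊆
      PrimeSpectrum.zeroLocus (R := R) (J : Set R) :=
    PrimeSpectrum.zeroLocus_anti_mono (by exact_mod_cast (le_sup_left : J ≤ J ⊔ Ideal.span {h}))
  have hJle : J ≤ l.head.1.asIdeal := fun x hx => l.head.2 (Ideal.mem_sup_left hx)
  obtain ⟨p, hp, hp'⟩ := Ideal.exists_minimalPrimes_le hJle
  let p' : PrimeSpectrum.zeroLocus (R := R) (J : Set R) := ⟨⟨p, hp.1.1⟩, hp.1.2⟩
  let l' : LTSeries (PrimeSpectrum.zeroLocus (R := R) (J : Set R)) :=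
    l.map (Set.inclusion hsub) (fun _ _ hab => hab)
  have hlt : p' < l'.head := by
    refine lt_of_le_of_ne hp' ?_
    intro heq
    have hmem : h ∈ l.head.1.asIdeal :=
      l.head.2 (Ideal.mem_sup_right (Ideal.subset_span rfl))
    apply hh p hp
    have : p = l.head.1.asIdeal := by
      have := congrArg (fun q : PrimeSpectrum.zeroLocus (R := R) (J : Set R) => q.1.asIdeal) heq
      exact this
    rw [this]
    exact hmem
  refine le_trans ?_ (le_iSup _ (l'.cons p' hlt))
  simp [l']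

end Groth.Agent.Helper7.LinMiss
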