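import Mathlib
import Groth.Agent.Helper7.LinMiss2

namespace Groth.Agent.Helper7.LinMiss

open MvPolynomial

set_option maxSynthPendingDepth 3

attribute [local instance] MvPolynomial.gradedAlgebra

variable {k : Type*} [Field k] {n : ℕ}

theorem minimalPrime_le_irr {J p : Ideal (MvPolynomial (Fin (n + 1)) k)}
    (hJ : J.IsHomogeneous (homogeneousSubmodule (Fin (n + 1)) k)) (hp : p ∈ J.minimalPrimes) :
    p ≤ irr k n :=
  le_irr_of_isHomogeneous (isHomogeneous_of_mem_minimalPrimes _ hJ hp) hp.1.1.ne_top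

theorem irr_le_radical_of_dim_le_zero {J : Ideal (MvPolynomial (Fin (n + 1)) k)}
    (hJ : J.IsHomogeneous (homogeneousSubmodule (Fin (n + 1)) k))
    (hdim : ringKrullDim (MvPolynomial (Fin (n + 1)) k ⧸ J) ≤ 0) :
    irr k n ≤ J.radical := by
  rw [← Ideal.sInf_minimalPrimes]
  refine le_sInf fun p hp => ?_
  have h0 : Ring.KrullDimLE 0 (MvPolynomial (Fin (n + 1)) k ⧸ J) := by
    rw [Ring.krullDimLE_iff]
    exact_mod_cast hdim
  have hmax : p.IsMaximal :=
    Ideal.krullDimLE_zero_quotient_iff_forall_minimalPrimes_isMaximal.1 h0 p hp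
  have hle := minimalPrime_le_irr hJ hp
  rw [hmax.eq_of_le irr_ne_top hle]

theorem exists_pow_irr_le {J : Ideal (MvPolynomial (Fin (n + 1)) k)}
    (h : irr k n ≤ J.radical) : ∃ N : ℕ, irr k n ^ N ≤ J :=
  Ideal.exists_pow_le_of_le_radical_of_fg h irr_fg

theorem exists_linear_avoiding [Infinite k] {J : Ideal (MvPolynomial (Fin (n + 1)) k)}
    (hJ : J.IsHomogeneous (homogeneousSubmodule (Fin (n + 1)) k))
    (hrad : ¬ irr k n ≤ J.radical) :
    ∃ h : MvPolynomial (Fin (n + 1)) k, h.IsHomogeneous 1 ∧ ∀ p ∈ J.minimalPrimes, h ∉ p := by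
  classical
  have hlt : ∀ p ∈ J.minimalPrimes, p ≠ irr k n := by
    rintro p hp rfl
    apply hrad
    rw [← Ideal.sInf_minimalPrimes]
    refine le_sInf fun p' hp' => ?_
    exact hp.2 ⟨hp'.1.1, hp'.1.2⟩ (minimalPrime_le_irr hJ hp')
  have hfin : (J.minimalPrimes).Finite := Ideal.finite_minimalPrimes_of_isNoetherianRing _ J
  let V : Ideal (MvPolynomial (Fin (n + 1)) k) →
      Submodule k (homogeneousSubmodule (Fin (n + 1)) k 1) :=
    fun p => Submodule.comap (homogeneousSubmodule (Fin (n + 1)) k 1).subtype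
      (p.restrictScalars k)
  let S : Finset (Submodule k (homogeneousSubmodule (Fin (n + 1)) k 1)) := hfin.toFinset.image V
  have htop : ⊤ ∉ S := by
    intro h
    obtain ⟨p, hp, hVp⟩ := Finset.mem_image.1 h
    rw [Set.Finite.mem_toFinset] at hp
    apply hlt p hp
    refine le_antisymm (minimalPrime_le_irr hJ hp) ?_
    unfold irr
    rw [Ideal.span_le]
    rintro _ ⟨i, rfl⟩
    have : (⟨X i, X_isHomogeneous_mem i⟩ : homogeneousSubmodule (Fin (n + 1)) k 1) ∈ V p := by
      rw [hVp]; trivial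
    exact this
  have hne := Subspace.biUnion_ne_univ_of_top_notMem htop
  obtain ⟨x, hx⟩ := (Set.ne_univ_iff_exists_notMem _).1 hne
  refine ⟨x.1, x.2, fun p hp hmem => hx ?_⟩
  simp only [Set.mem_iUnion]
  exact ⟨V p, Finset.mem_image.2 ⟨p, (Set.Finite.mem_toFinset hfin).2 hp, rfl⟩, hmem⟩

theorem main_aux [Infinite k] : ∀ (s : ℕ) (J : Ideal (MvPolynomial (Fin (n + 1)) k)),
    J.IsHomogeneous (homogeneousSubmodule (Fin (n + 1)) k) →
    ringKrullDim (MvPolynomial (Fin (n + 1)) k ⧸ J) ≤ s →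
    ∃ h : Fin s → MvPolynomial (Fin (n + 1)) k, (∀ i, (h i).IsHomogeneous 1) ∧
      ∃ N : ℕ, irr k n ^ N ≤ J ⊔ Ideal.span (Set.range h) := by
  intro s
  induction s with
  | zero =>
    intro J hJ hdim
    obtain ⟨N, hN⟩ := exists_pow_irr_le (irr_le_radical_of_dim_le_zero hJ (by exact_mod_cast hdim))
    exact ⟨fun i => i.elim0, fun i => i.elim0, N, hN.trans le_sup_left⟩
  | succ s ih =>
    intro J hJ hdim
    by_cases hrad : irr k n ≤ J.radical
    · obtain ⟨N, hN⟩ := exists_pow_irr_le hrad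
      exact ⟨fun _ => 0, fun _ => isHomogeneous_zero _ _ _, N, hN.trans le_sup_left⟩
    · obtain ⟨h₁, hh₁, havoid⟩ := exists_linear_avoiding hJ hrad
      have hJ' : (J ⊔ Ideal.span {h₁}).IsHomogeneous (homogeneousSubmodule (Fin (n + 1)) k) := by
        refine hJ.sup (Ideal.homogeneous_span _ _ ?_)
        rintro x rfl
        exact ⟨1, hh₁⟩
      have hdrop := dim_drop J h₁ havoid
      have hdim' : ringKrullDim (MvPolynomial (Fin (n + 1)) k ⧸ (J ⊔ Ideal.span {h₁})) ≤ s := by
        have h2 := hdrop.trans hdim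
        generalize ringKrullDim (MvPolynomial (Fin (n + 1)) k ⧸ (J ⊔ Ideal.span {h₁})) = a at h2 ⊢
        induction a using WithBot.recBotCoe with
        | bot => exact bot_le
        | coe a =>
          have h3 : ((a + 1 : ℕ∞) : WithBot ℕ∞) ≤ ((s + 1 : ℕ∞) : WithBot ℕ∞) := by
            simpa using h2
          rw [WithBot.coe_le_coe] at h3
          have h4 : a ≤ (s : ℕ∞) := by
            exact (ENat.add_le_add_iff_right (by simp)).1 h3
          exact_mod_cast h4
      obtain ⟨h', hh', N, hN⟩ := ih _ hJ' hdim'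
      refine ⟨Fin.cons h₁ h', ?_, N, ?_⟩
      · intro i
        refine Fin.cases ?_ (fun j => ?_) i
        · simpa using hh₁
        · simpa using hh' j
      · rw [Fin.range_cons, Ideal.span_insert, ← sup_assoc]
        exact hN

end Groth.Agent.Helper7.LinMiss
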