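import Mathlib
import Groth.Agent.Helper9.Null

/-!
# Countably many non-zero functions on a variety over an uncountable field have a common non-zero (helper7)

`exists_point_ne_zero`: `D` a domain of finite type over an uncountable algebraically closed field,
`S` a countable set of non-zero elements; some rational point of `D` is a zero of no element of `S`.
-/

set_option autoImplicit false
set_option linter.unusedSectionVars false
set_option linter.style.haveILetI false
universe u

namespace Groth.Agent.Helper7.LinTriv

open Cardinal

theorem rank_le_aleph0_of_finiteType (k : Type u) [Field k] (D : Type u) [CommRing D] [Algebra k D]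
    [Algebra.FiniteType k D] : Module.rank k D ≤ ℵ₀ := by
  obtain ⟨n, f, hf⟩ := Algebra.FiniteType.iff_quotient_mvPolynomial''.mp
    (inferInstance : Algebra.FiniteType k D)
  have h1 := LinearMap.rank_le_of_surjective f.toLinearMap hf
  rw [MvPolynomial.rank_eq_lift] at h1
  refine h1.trans ?_
  rw [Cardinal.lift_le_aleph0]
  exact Cardinal.mk_le_aleph0

theorem countable_closure {D : Type u} [Monoid D] (S : Set D) (hS : S.Countable) :
    ((Submonoid.closure S : Submonoid D) : Set D).Countable := by
  rw [Submonoid.closure_eq_mrange]
  haveI : Countable S := hS.to_subtype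
  haveI : Countable (FreeMonoid S) := inferInstanceAs (Countable (List S))
  exact Set.countable_range _

theorem rank_localization_le (k : Type u) [Field k] (D : Type u) [CommRing D] [Algebra k D]
    (M : Submonoid D) (hM : (M : Set D).Countable) (hD : Module.rank k D ≤ ℵ₀) :
    Module.rank k (Localization M) ≤ ℵ₀ := by
  let Φ : (M →₀ D) →ₗ[k] Localization M := Finsupp.lsum k (fun m : M =>
    ((LinearMap.toSpanSingleton D (Localization M)
      (IsLocalization.mk' (Localization M) (1 : D) m)).restrictScalars k))
  have hsurj : Function.Surjective Φ := by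
    intro z
    obtain ⟨⟨d, m⟩, rfl⟩ := IsLocalization.mk'_surjective M z
    refine ⟨Finsupp.single m d, ?_⟩
    simp only [Φ, Finsupp.lsum_single, LinearMap.coe_restrictScalars,
      LinearMap.toSpanSingleton_apply]
    rw [Algebra.smul_def, ← IsLocalization.mk'_eq_mul_mk'_one]
  have h1 := LinearMap.rank_le_of_surjective Φ hsurj
  rw [rank_finsupp'] at h1
  haveI : Countable M := hM.to_subtype
  calc Module.rank k (Localization M) ≤ #M * Module.rank k D := h1
    _ ≤ ℵ₀ * ℵ₀ := mul_le_mul' Cardinal.mk_le_aleph0 hD
    _ = ℵ₀ := Cardinal.aleph0_mul_aleph0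

/-- a field extension of countable dimension of an uncountable field is algebraic -/
theorem isAlgebraic_of_rank_le (k : Type u) [Field k] [Uncountable k] (L : Type u) [Field L]
    [Algebra k L] (h : Module.rank k L ≤ ℵ₀) : Algebra.IsAlgebraic k L := by
  refine ⟨fun x => ?_⟩
  by_contra hx
  have hx' : Transcendental k x := hx
  have h1 := hx'.linearIndependent_sub_inv.cardinal_le_rank
  have h2 : ℵ₀ < #k := Cardinal.aleph0_lt_mk
  exact absurd (h1.trans h) (not_le.mpr h2)

/-- **the uncountability trick** -/
theorem exists_point_ne_zero (k : Type u) [Field k] [IsAlgClosed k] [Uncountable k] (D : Type u)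
    [CommRing D] [IsDomain D] [Algebra k D] [Algebra.FiniteType k D] (S : Set D) (hS : S.Countable)
    (h0 : ∀ s ∈ S, s ≠ 0) : ∃ y : D →ₐ[k] k, ∀ s ∈ S, y s ≠ 0 := by
  classical
  set M : Submonoid D := Submonoid.closure S with hM
  have hMle : M ≤ nonZeroDivisors D := by
    rw [hM, Submonoid.closure_le]
    intro s hs
    exact mem_nonZeroDivisors_of_ne_zero (h0 s hs)
  haveI : Nontrivial (Localization M) :=
    (IsLocalization.injective (Localization M) hMle).nontrivial
  obtain ⟨m, hm⟩ := Ideal.exists_maximal (Localization M)
  haveI := hm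
  letI : Field (Localization M ⧸ m) := Ideal.Quotient.field m
  have hrank : Module.rank k (Localization M ⧸ m) ≤ ℵ₀ := by
    have h1 := LinearMap.rank_le_of_surjective (Ideal.Quotient.mkₐ k m).toLinearMap
      (Ideal.Quotient.mkₐ_surjective k m)
    exact h1.trans (rank_localization_le k D M (countable_closure S hS)
      (rank_le_aleph0_of_finiteType k D))
  haveI : Algebra.IsAlgebraic k (Localization M ⧸ m) := isAlgebraic_of_rank_le k _ hrank
  haveI : Algebra.IsIntegral k (Localization M ⧸ m) := Algebra.IsAlgebraic.isIntegral
  have hbij := IsAlgClosed.algebraMap_bijective_of_isIntegral (k := k) (K := Localization M ⧸ m)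
  let e : k ≃ₐ[k] (Localization M ⧸ m) :=
    AlgEquiv.ofBijective (Algebra.ofId k (Localization M ⧸ m)) hbij
  let φ : Localization M →ₐ[k] k := (e.symm : (Localization M ⧸ m) →ₐ[k] k).comp
    (Ideal.Quotient.mkₐ k m)
  refine ⟨φ.comp (IsScalarTower.toAlgHom k D (Localization M)), fun s hs => ?_⟩
  have hu : IsUnit (algebraMap D (Localization M) s) :=
    IsLocalization.map_units (Localization M) (⟨s, Submonoid.subset_closure hs⟩ : M)
  exact (hu.map φ).ne_zero

end Groth.Agent.Helper7.LinTriv
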