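import Mathlib
import Groth.Agent.Helper7.LinTrivA
import Groth.Agent.Helper7.LinTrivB

/-!
# Linearisations of the trivial line bundle: the character case (helper7)
-/

set_option autoImplicit false
set_option linter.unusedSectionVars false
set_option linter.style.haveILetI false
universe u

namespace Groth.Agent.Helper7.LinTriv

open TensorProduct Groth.Agent.Helper9 Groth.Agent.Helper7.OrbFin Cardinal

section

variable {k : Type u} [Field k] [IsAlgClosed k] {A : Type u} [CommRing A] [HopfAlgebra k A]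
  [Algebra.FiniteType k A]
variable {R : Type u} [CommRing R] [Algebra k R] [Algebra.FiniteType k R] [HopfRep.Comod k A R]
  [GLin.IsCoactAlg k A R]

/-- the group-like elements of a Hopf algebra of finite type are countably many -/
theorem countable_groupLike : {a : A | IsGroupLikeElem k a}.Countable := by
  have h1 := (linearIndepOn_isGroupLikeElem (R := k) (A := A)).cardinal_le_rank
  have h2 := h1.trans (rank_le_aleph0_of_finiteType k A)
  rw [Cardinal.mk_le_aleph0_iff] at h2
  exact Set.countable_coe_iff.mp h2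

/-- the ideal of the locus where `θ` restricts to `χ` -/
noncomputable def I (θ : R ⊗[k] A) (χ : A) : Ideal R :=
  Ideal.span (Set.range fun g : A →ₐ[k] k => slAlg g (θ - (1 : R) ⊗ₜ[k] χ))

theorem slB_sub (θ : R ⊗[k] A) (χ : A) (x : R →ₐ[k] k) :
    slB x (θ - (1 : R) ⊗ₜ[k] χ) = slB x θ - χ := by
  rw [map_sub, slB_tmul, map_one, one_smul]

theorem I_le_ker_iff [IsReduced A] (θ : R ⊗[k] A) (χ : A) (x : R →ₐ[k] k) :
    I θ χ ≤ RingHom.ker x ↔ slB x θ = χ := by
  constructor
  · intro h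
    rw [← sub_eq_zero, ← slB_sub]
    apply Groth.Agent.Helper2.PtsDense.eq_zero_of_forall_algHom' (k := k)
    intro g
    rw [slB_swap]
    exact h (Ideal.subset_span ⟨g, rfl⟩)
  · intro h
    rw [I, Ideal.span_le]
    rintro _ ⟨g, rfl⟩
    change x _ = 0
    rw [← slB_swap, slB_sub, h, sub_self, map_zero]

variable (θ : R ⊗[k] A)
  (hassoc : (TensorProduct.assoc k R A A).toLinearMap ∘ₗ
        ((LinearMap.mulRight k θ) ∘ₗ HopfRep.Comod.coact (k := k) (A := A) (V := R)).rTensor A ∘ₗ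
          ((LinearMap.mulRight k θ) ∘ₗ HopfRep.Comod.coact (k := k) (A := A) (V := R)) =
      (CoalgebraStruct.comul (R := k) (A := A)).lTensor R ∘ₗ
        ((LinearMap.mulRight k θ) ∘ₗ HopfRep.Comod.coact (k := k) (A := A) (V := R)))
  (hcounit : (CoalgebraStruct.counit (R := k) (A := A)).lTensor R ∘ₗ
        ((LinearMap.mulRight k θ) ∘ₗ HopfRep.Comod.coact (k := k) (A := A) (V := R)) =
      (TensorProduct.mk k R k).flip 1)

include hassoc hcounit in
theorem isGroupLikeElem_slB
    (hA : ∀ u : Aˣ, ∃ (c : k) (χ : A), IsGroupLikeElem k χ ∧ (u : A) = c • χ)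
    (x : R →ₐ[k] k) : IsGroupLikeElem k (slB x θ) := by
  have hu : IsUnit (slB x θ) := by
    apply isUnit_of_forall_ne_zero (k := k)
    intro g
    rw [slB_swap]
    exact T_ne_zero θ hassoc hcounit x g
  obtain ⟨c, χ, hχ, hc⟩ := hA hu.unit
  have h1 : (Bialgebra.counitAlgHom k A) (slB x θ) = 1 := by
    rw [slB_swap]
    exact T_one θ hcounit x
  have h2 : slB x θ = c • χ := hc
  rw [h2, map_smul] at h1
  have h3 : (Bialgebra.counitAlgHom k A) χ = 1 := hχ.counit_eq_one
  rw [h3, smul_eq_mul, mul_one] at h1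
  rw [h2, h1, one_smul]
  exact hχ

include hassoc hcounit in
/-- every irreducible component lies in one of the loci -/
theorem exists_I_le [Uncountable k] [IsReduced A]
    (hA : ∀ u : Aˣ, ∃ (c : k) (χ : A), IsGroupLikeElem k χ ∧ (u : A) = c • χ)
    (p : Ideal R) [p.IsPrime] : ∃ χ : A, IsGroupLikeElem k χ ∧ I θ χ ≤ p := by
  classical
  by_contra hcon
  push Not at hcon
  have hex : ∀ χ : {a : A | IsGroupLikeElem k a}, ∃ f ∈ I θ χ.1, f ∉ p := by
    intro χ
    have := hcon χ.1 χ.2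
    exact Set.not_subset.mp this
  choose f hfI hfp using hex
  let S : Set (R ⧸ p) := Set.range fun χ => Ideal.Quotient.mk p (f χ)
  have hS : S.Countable := by
    haveI : Countable {a : A | IsGroupLikeElem k a} := countable_groupLike.to_subtype
    exact Set.countable_range _
  have h0 : ∀ s ∈ S, s ≠ 0 := by
    rintro _ ⟨χ, rfl⟩ h
    exact hfp χ (Ideal.Quotient.eq_zero_iff_mem.mp h)
  haveI : Algebra.FiniteType k (R ⧸ p) :=
    Algebra.FiniteType.of_surjective (Ideal.Quotient.mkₐ k p) (Ideal.Quotient.mkₐ_surjective k p)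
  obtain ⟨y, hy⟩ := exists_point_ne_zero k (R ⧸ p) S hS h0
  let x : R →ₐ[k] k := y.comp (Ideal.Quotient.mkₐ k p)
  have hχ := isGroupLikeElem_slB θ hassoc hcounit hA x
  have h1 : I θ (slB x θ) ≤ RingHom.ker x := (I_le_ker_iff θ _ x).mpr rfl
  have h2 := h1 (hfI ⟨slB x θ, hχ⟩)
  exact hy _ ⟨⟨slB x θ, hχ⟩, rfl⟩ h2

include hassoc hcounit in
/-- **the character case**: if all units of `A` are scalar multiples of characters -/
theorem main_char [Uncountable k] [IsReduced A] [IsReduced R]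
    [ConnectedSpace (PrimeSpectrum R)]
    (hA : ∀ u : Aˣ, ∃ (c : k) (χ : A), IsGroupLikeElem k χ ∧ (u : A) = c • χ) :
    ∃ χ : A, IsGroupLikeElem k χ ∧ θ = (1 : R) ⊗ₜ[k] χ := by
  classical
  haveI : IsNoetherianRing R := Algebra.FiniteType.isNoetherianRing k R
  have hfin : (minimalPrimes R).Finite := minimalPrimes.finite_of_isNoetherianRing R
  have hχ : ∀ p : minimalPrimes R, ∃ χ : A, IsGroupLikeElem k χ ∧ I θ χ ≤ p.1 := by
    intro p
    haveI : p.1.IsPrime := p.2.1.1
    exact exists_I_le θ hassoc hcounit hA p.1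
  choose χ hχg hχI using hχ
  haveI : Finite (minimalPrimes R) := hfin.to_subtype
  let Φ : Set A := Set.range χ
  have hΦfin : Φ.Finite := Set.finite_range χ
  let Z : A → Set (PrimeSpectrum R) := fun a => PrimeSpectrum.zeroLocus (I θ a : Set R)
  have hcover : ∀ q : PrimeSpectrum R, ∃ a ∈ Φ, q ∈ Z a := by
    intro q
    obtain ⟨p, hp, hpq⟩ := Ideal.exists_minimalPrimes_le (bot_le : (⊥ : Ideal R) ≤ q.asIdeal)
    refine ⟨χ ⟨p, hp⟩, ⟨⟨p, hp⟩, rfl⟩, ?_⟩
    exact (hχI ⟨p, hp⟩).trans hpq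
  have hdisj : ∀ a b : A, a ≠ b → Disjoint (Z a) (Z b) := by
    intro a b hab
    rw [Set.disjoint_left]
    intro q hqa hqb
    obtain ⟨x, hx⟩ := exists_point_of_ne_top (k := k) q.asIdeal q.2.ne_top
    have h1 : I θ a ≤ RingHom.ker x := le_trans hqa hx
    have h2 : I θ b ≤ RingHom.ker x := le_trans hqb hx
    exact hab (((I_le_ker_iff θ a x).mp h1).symm.trans ((I_le_ker_iff θ b x).mp h2))
  obtain ⟨q0⟩ := (inferInstance : Nonempty (PrimeSpectrum R))
  obtain ⟨a0, ha0, hq0⟩ := hcover q0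
  let W : Set (PrimeSpectrum R) := ⋃ b ∈ Φ \ {a0}, Z b
  have hWclosed : IsClosed W :=
    (hΦfin.subset Set.sdiff_subset).isClosed_biUnion fun b _ => PrimeSpectrum.isClosed_zeroLocus _
  have hcompl : Z a0 = Wᶜ := by
    ext q
    constructor
    · intro hq hqW
      simp only [W, Set.mem_iUnion] at hqW
      obtain ⟨b, hb, hqb⟩ := hqW
      exact Set.disjoint_left.mp (hdisj a0 b (fun h => hb.2 h.symm)) hq hqb
    · intro hq
      obtain ⟨b, hb, hqb⟩ := hcover q
      by_cases hba : b = a0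
      · rwa [hba] at hqb
      · exfalso
        apply hq
        simp only [W, Set.mem_iUnion]
        exact ⟨b, ⟨hb, hba⟩, hqb⟩
  have hclopen : IsClopen (Z a0) :=
    ⟨PrimeSpectrum.isClosed_zeroLocus _, by rw [hcompl]; exact hWclosed.isOpen_compl⟩
  have huniv : Z a0 = Set.univ := hclopen.eq_univ ⟨q0, hq0⟩
  have hnil : (I θ a0 : Set R) ⊆ nilradical R := (PrimeSpectrum.zeroLocus_eq_univ_iff _).mp huniv
  obtain ⟨p0, rfl⟩ := ha0
  refine ⟨χ p0, hχg p0, ?_⟩
  rw [← sub_eq_zero]
  apply Groth.Agent.Helper2.PtsDense.eq_zero_of_points' (k := k)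
  intro g
  rw [← slAlg_apply]
  have h1 : slAlg g (θ - (1 : R) ⊗ₜ[k] χ p0) ∈ nilradical R :=
    hnil (Ideal.subset_span ⟨g, rfl⟩)
  rw [nilradical_eq_zero] at h1
  exact h1

end

end Groth.Agent.Helper7.LinTriv
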