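import Mathlib

namespace Groth.Agent.Helper7.LocNak

universe u

open Polynomial

/-- "Local Nakayama": a f.g. ideal `N` such that at every maximal ideal `q` each element of `N` is
carried into `q N` by some element outside `q` is zero. -/
theorem eq_bot_of_local_smul (B : Type u) [CommRing B] (N : Ideal B) (hfg : N.FG)
    (h : ∀ q : Ideal B, q.IsMaximal → ∀ x ∈ N, ∃ t, t ∉ q ∧ t * x ∈ q * N) : N = ⊥ := by
  classical
  by_contra hne
  have hann : Submodule.annihilator N ≠ ⊤ := by
    intro htop
    apply hne
    rw [eq_bot_iff]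
    intro y hy
    have h1 : (1 : B) ∈ Submodule.annihilator N := by rw [htop]; trivial
    have := (Submodule.mem_annihilator.mp h1) y hy
    rwa [one_smul] at this
  obtain ⟨q, hq, hle⟩ := Ideal.exists_le_maximal _ hann
  have hqp : q.IsPrime := hq.isPrime
  obtain ⟨s, hs⟩ := hfg
  have hsN : ∀ x ∈ s, x ∈ N := fun x hx => hs ▸ Submodule.subset_span hx
  choose! τ hτq hτ using fun x (hx : x ∈ s) => h q hq x (hsN x hx)
  set t := ∏ x ∈ s, τ x with ht
  have htq : t ∉ q := by
    rw [ht, hqp.prod_mem_iff]
    push_neg
    exact hτq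
  have htN : ∀ y ∈ N, t * y ∈ q * N := by
    intro y hy
    rw [← hs] at hy
    induction hy using Submodule.span_induction with
    | mem x hx =>
      have e : t * x = (∏ z ∈ s.erase x, τ z) * (τ x * x) := by
        rw [ht, ← Finset.mul_prod_erase s τ hx]; ring
      rw [e]
      exact Ideal.mul_mem_left _ _ (hτ x hx)
    | zero => rw [mul_zero]; exact zero_mem _
    | add a b _ _ ha hb => rw [mul_add]; exact add_mem ha hb
    | smul c a _ ha =>
      rw [smul_eq_mul, mul_left_comm]
      exact Ideal.mul_mem_left _ _ ha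
  haveI : Module.Finite B ↥N := Module.Finite.iff_fg.mpr ⟨s, hs⟩
  let f : Module.End B ↥N := algebraMap B (Module.End B ↥N) t
  have hrange : LinearMap.range f ≤ q • (⊤ : Submodule B ↥N) := by
    rintro _ ⟨y, rfl⟩
    rw [Submodule.mem_smul_top_iff]
    change t • (y : B) ∈ q • N
    exact htN y y.2
  obtain ⟨p, hmonic, -, hcoeff, hzero⟩ :=
    LinearMap.exists_monic_and_natDegree_eq_and_coeff_mem_pow_and_aeval_eq_zero B f q hrange
  rw [Polynomial.aeval_algebraMap_apply_eq_algebraMap_eval] at hzero
  have hmem : p.eval t ∈ q := by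
    apply hle
    rw [Submodule.mem_annihilator]
    intro y hy
    have := LinearMap.congr_fun hzero ⟨y, hy⟩
    rw [Module.algebraMap_end_apply, LinearMap.zero_apply] at this
    exact congrArg Subtype.val this
  rw [Polynomial.eval_eq_sum_range, Finset.sum_range_succ, hmonic.coeff_natDegree, one_mul] at hmem
  have hlow : ∑ k ∈ Finset.range p.natDegree, p.coeff k * t ^ k ∈ q := by
    apply Ideal.sum_mem
    intro k hk
    apply Ideal.mul_mem_right
    have hk' : k < p.natDegree := Finset.mem_range.mp hk
    have h1 := hcoeff k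
    exact Ideal.pow_le_self (by omega) h1
  have := (Ideal.add_mem_iff_right q hlow).mp hmem
  exact htq (hqp.mem_of_pow_mem _ this)

end Groth.Agent.Helper7.LocNak
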