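import Mathlib

/-!
# A residue argument for logarithmic differentials
-/

namespace Groth.Agent.Helper7.LogDl

open KaehlerDifferential TensorProduct

universe u

section Res

variable {k O : Type u} [Field k] [CharZero k] [CommRing O] [IsDomain O] [Algebra k O]
  [Algebra.FormallySmooth k O]

/-- **residue lemma**: if `n dπ ∈ π Ω_O` where `(π)` is a proper ideal with `O/(π)` formally
smooth over the characteristic zero field `k`, then `n = 0`. -/
theorem int_eq_zero_of_smul_D_eq (ϖ : O) (hϖ0 : ϖ ≠ 0) (hϖ : ¬ IsUnit ϖ)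
    (hκ : Algebra.FormallySmooth k (O ⧸ Ideal.span {ϖ})) (n : ℤ) (ω : Ω[O⁄k])
    (h : n • D k O ϖ = ϖ • ω) : n = 0 := by
  by_contra hn
  have hsurj : Function.Surjective (algebraMap O (O ⧸ Ideal.span {ϖ})) :=
    Ideal.Quotient.mk_surjective
  obtain ⟨l, hl⟩ := (Algebra.FormallySmooth.iff_split_injection (R := k) hsurj).mp hκ
  have hinj : Function.Injective (kerCotangentToTensor k O (O ⧸ Ideal.span {ϖ})) := by
    intro x y hxy
    have := congrArg l hxy
    rwa [← LinearMap.comp_apply, ← LinearMap.comp_apply, hl] at this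
  have hker : RingHom.ker (algebraMap O (O ⧸ Ideal.span {ϖ})) = Ideal.span {ϖ} := by
    rw [Ideal.Quotient.algebraMap_eq, Ideal.mk_ker]
  have hmem : ϖ ∈ RingHom.ker (algebraMap O (O ⧸ Ideal.span {ϖ})) := by
    rw [hker]; exact Ideal.mem_span_singleton_self ϖ
  have h1 : kerCotangentToTensor k O (O ⧸ Ideal.span {ϖ})
      (n • Ideal.toCotangent _ ⟨ϖ, hmem⟩) = 0 := by
    rw [map_zsmul, kerCotangentToTensor_toCotangent, ← tmul_smul, h, tmul_smul,
      ← algebraMap_smul (O ⧸ Ideal.span {ϖ}) ϖ ((1 : O ⧸ Ideal.span {ϖ}) ⊗ₜ[O] ω)]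
    have : algebraMap O (O ⧸ Ideal.span {ϖ}) ϖ = 0 := hmem
    rw [this, zero_smul]
  have h2 : n • Ideal.toCotangent _ ⟨ϖ, hmem⟩ = 0 := hinj (by rw [h1, map_zero])
  rw [← map_zsmul, Ideal.toCotangent_eq_zero] at h2
  have h3 : (n : O) * ϖ ∈ Ideal.span {ϖ} ^ 2 := by
    have : ((n • (⟨ϖ, hmem⟩ : RingHom.ker (algebraMap O (O ⧸ Ideal.span {ϖ}))) :
        RingHom.ker (algebraMap O (O ⧸ Ideal.span {ϖ}))) : O) = (n : O) * ϖ := by
      simp
    rw [this, hker] at h2
    exact h2
  rw [Ideal.span_singleton_pow, Ideal.mem_span_singleton] at h3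
  obtain ⟨y, hy⟩ := h3
  have h4 : (n : O) = ϖ * y := by
    have : ϖ * (n : O) = ϖ * (ϖ * y) := by rw [mul_comm, hy]; ring
    exact mul_left_cancel₀ hϖ0 this
  have hunit : IsUnit ((n : O)) := by
    have : (n : O) = algebraMap k O (n : k) := by simp
    rw [this]
    exact (IsUnit.mk0 (n : k) (by exact_mod_cast hn)).map _
  rw [h4] at hunit
  exact hϖ (isUnit_of_mul_isUnit_left hunit)

end Res

section Crux

variable {k O K : Type u} [Field k] [CharZero k] [CommRing O] [IsDomain O] [Algebra k O]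
  [Algebra.FormallySmooth k O] [Field K] [Algebra O K] [IsFractionRing O K] [Algebra k K]
  [IsScalarTower k O K]

theorem map_injective : Function.Injective (KaehlerDifferential.map k k O K) := by
  haveI : Module.Projective O Ω[O⁄k] := (Algebra.formallySmooth_iff k O).mp inferInstance |>.1
  haveI : Module.IsTorsionFree O Ω[O⁄k] := inferInstance
  haveI : IsLocalizedModule (nonZeroDivisors O) (KaehlerDifferential.map k k O K) :=
    KaehlerDifferential.isLocalizedModule_map k O K (nonZeroDivisors O)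
  rw [injective_iff_map_eq_zero]
  intro x hx
  obtain ⟨c, hc⟩ := (IsLocalizedModule.eq_zero_iff (nonZeroDivisors O) _).mp hx
  rcases (Module.isTorsionFree_iff_smul_eq_zero.mp inferInstance) (c : O) x hc with h | h
  · exact absurd h (nonZeroDivisors.coe_ne_zero c)
  · exact h

theorem int_eq_zero_of_dlog_mem (ϖ : O) (hϖ0 : ϖ ≠ 0) (hϖ : ¬ IsUnit ϖ)
    (hκ : Algebra.FormallySmooth k (O ⧸ Ideal.span {ϖ})) (n : ℤ) (ω : Ω[O⁄k])
    (h : (n : K) • (algebraMap O K ϖ)⁻¹ • D k K (algebraMap O K ϖ) =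
      KaehlerDifferential.map k k O K ω) : n = 0 := by
  have hne : algebraMap O K ϖ ≠ 0 := by
    rwa [Ne, map_eq_zero_iff _ (IsFractionRing.injective O K)]
  apply int_eq_zero_of_smul_D_eq (k := k) ϖ hϖ0 hϖ hκ n ω
  apply map_injective (k := k) (O := O) (K := K)
  rw [map_zsmul, map_smul, KaehlerDifferential.map_D, ← h, ← algebraMap_smul K ϖ, smul_smul,
    smul_smul]
  have : algebraMap O K ϖ * (n : K) * (algebraMap O K ϖ)⁻¹ = (n : K) := by
    field_simp
  rw [this, Int.cast_smul_eq_zsmul]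

end Crux

end Groth.Agent.Helper7.LogDl
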