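import Mathlib
import Groth.Agent.Helper7.LogDlA

/-!
# Logarithmic differentials: `dlog` and regularity at a prime
-/

namespace Groth.Agent.Helper7.LogDl

open KaehlerDifferential TensorProduct

universe u

section Dlog

variable (k : Type u) {K : Type u} [Field k] [Field K] [Algebra k K]

/-- the logarithmic differential of a nonzero element -/
noncomputable def dlog (x : Kˣ) : Ω[K⁄k] := ((x : K)⁻¹) • D k K (x : K)

theorem dlog_mul (x y : Kˣ) : dlog k (x * y) = dlog k x + dlog k y := by
  simp only [dlog, Units.val_mul, Derivation.leibniz, smul_add, smul_smul]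
  have hx : (x : K) ≠ 0 := x.ne_zero
  have hy : (y : K) ≠ 0 := y.ne_zero
  have h1 : ((x : K) * (y : K))⁻¹ * (x : K) = (y : K)⁻¹ := by field_simp
  have h2 : ((x : K) * (y : K))⁻¹ * (y : K) = (x : K)⁻¹ := by field_simp
  rw [h1, h2, add_comm]

/-- `dlog` as a monoid homomorphism -/
noncomputable def dlogHom : Kˣ →* Multiplicative Ω[K⁄k] where
  toFun x := Multiplicative.ofAdd (dlog k x)
  map_one' := by
    simp [dlog]
  map_mul' x y := by
    rw [dlog_mul]; rfl

theorem dlogHom_apply (x : Kˣ) : Multiplicative.toAdd (dlogHom k x) = dlog k x := rfl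

theorem dlog_inv (x : Kˣ) : dlog k x⁻¹ = -dlog k x := by
  have := map_inv (dlogHom k) x
  exact congrArg Multiplicative.toAdd this

theorem dlog_zpow (x : Kˣ) (n : ℤ) : dlog k (x ^ n) = n • dlog k x := by
  have := map_zpow (dlogHom k) x n
  exact congrArg Multiplicative.toAdd this

theorem dlog_pow (x : Kˣ) (n : ℕ) : dlog k (x ^ n) = n • dlog k x := by
  have := map_pow (dlogHom k) x n
  exact congrArg Multiplicative.toAdd this

theorem dlog_prod {ι : Type*} (s : Finset ι) (x : ι → Kˣ) :
    dlog k (∏ i ∈ s, x i) = ∑ i ∈ s, dlog k (x i) := by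
  have := map_prod (dlogHom k) x s
  have h2 := congrArg Multiplicative.toAdd this
  rw [toAdd_prod] at h2
  exact h2

end Dlog

section Reg

variable {k R O K : Type u} [Field k] [CommRing R] [Algebra k R] [CommRing O] [Algebra k O]
  [Algebra R O] [IsScalarTower k R O] [Field K] [Algebra k K] [Algebra R K] [Algebra O K]
  [IsScalarTower k R K] [IsScalarTower k O K] [IsScalarTower R O K]

/-- the forms on `K` which are regular on `O` -/
noncomputable def regForms (k O K : Type u) [Field k] [CommRing O] [Algebra k O] [Field K]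
    [Algebra k K] [Algebra O K] [IsScalarTower k O K] : Submodule O Ω[K⁄k] :=
  LinearMap.range (KaehlerDifferential.map k k O K)

omit [Algebra k R] [IsScalarTower k R O] [Algebra R K] [IsScalarTower k R K]
  [IsScalarTower R O K] [Algebra R O] in
theorem smul_D_mem (y x : O) : algebraMap O K y • D k K (algebraMap O K x) ∈ regForms k O K := by
  refine ⟨y • D k O x, ?_⟩
  rw [map_smul, KaehlerDifferential.map_D, algebraMap_smul]

omit [Algebra k R] [IsScalarTower k R O] [Algebra R K] [IsScalarTower k R K]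
  [IsScalarTower R O K] [Algebra R O] in
theorem dlog_unit_mem (x : O) (hx : IsUnit x) (hx0 : algebraMap O K x ≠ 0) :
    dlog k (Units.mk0 (algebraMap O K x) hx0) ∈ regForms k O K := by
  obtain ⟨u, rfl⟩ := hx
  have h1 : (algebraMap O K (u : O))⁻¹ = algebraMap O K ((u⁻¹ : Oˣ) : O) := by
    apply inv_eq_of_mul_eq_one_right
    rw [← map_mul]
    simp
  rw [dlog, Units.val_mk0, h1]
  exact smul_D_mem _ _

theorem map_mem (η : Ω[R⁄k]) : KaehlerDifferential.map k k R K η ∈ regForms k O K := by
  have hη : η ∈ Submodule.span R (Set.range (D k R)) := by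
    rw [KaehlerDifferential.span_range_derivation]; trivial
  induction hη using Submodule.span_induction with
  | mem x hx =>
    obtain ⟨y, rfl⟩ := hx
    rw [KaehlerDifferential.map_D, IsScalarTower.algebraMap_apply R O K]
    have := smul_D_mem (k := k) (K := K) (1 : O) (algebraMap R O y)
    rwa [map_one, one_smul] at this
  | zero => rw [map_zero]; exact zero_mem _
  | add x y _ _ hx hy => rw [map_add]; exact add_mem hx hy
  | smul r x _ hx =>
    rw [map_smul, ← algebraMap_smul O r]
    exact Submodule.smul_mem _ _ hx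

end Reg

section Num

variable {k R O K : Type u} [Field k] [CharZero k] [CommRing R] [IsDomain R] [Algebra k R]
  [CommRing O] [IsDomain O] [Algebra k O] [Algebra R O] [IsScalarTower k R O] [Field K]
  [Algebra k K] [Algebra R K] [IsFractionRing R K] [Algebra O K] [IsFractionRing O K]
  [IsScalarTower k R K] [IsScalarTower k O K] [IsScalarTower R O K] [Algebra.FormallySmooth k O]

omit [CharZero k] [IsDomain R] [IsDomain O] [IsFractionRing O K] [Algebra.FormallySmooth k O] in
theorem dlog_mk0_mem (x : R) (hx : IsUnit (algebraMap R O x)) (hx0 : algebraMap R K x ≠ 0) :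
    dlog k (Units.mk0 (algebraMap R K x) hx0) ∈ regForms k O K := by
  have h0 : algebraMap O K (algebraMap R O x) ≠ 0 := by
    rwa [← IsScalarTower.algebraMap_apply R O K]
  have := dlog_unit_mem (k := k) (K := K) (algebraMap R O x) hx h0
  have h1 : Units.mk0 (algebraMap R K x) hx0 = Units.mk0 (algebraMap O K (algebraMap R O x)) h0 := by
    apply Units.ext
    simp only [Units.val_mk0]
    exact IsScalarTower.algebraMap_apply R O K x
  rwa [h1]

theorem mult_eq_zero {r : ℕ} (f : Fin r → R) (ϖ : R) (hϖ0 : ϖ ≠ 0)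
    (hϖ : ¬ IsUnit (algebraMap R O ϖ))
    (hunit : ∀ x : R, ¬ ϖ ∣ x → IsUnit (algebraMap R O x))
    (hκ : Algebra.FormallySmooth k (O ⧸ Ideal.span {algebraMap R O ϖ}))
    (hf : ∀ i, ¬ ϖ ∣ f i) (m : ℕ) (a b : R) (ha : ¬ ϖ ∣ a) (hb : ¬ ϖ ∣ b)
    (g : Kˣ) (hg : (g : K) = algebraMap R K ϖ ^ m * algebraMap R K a / algebraMap R K b)
    (η : Ω[R⁄k]) (c : Fin r → R)
    (h : dlog k g = KaehlerDifferential.map k k R K η +
      ∑ i, (algebraMap R K (c i) * (algebraMap R K (f i))⁻¹) • D k K (algebraMap R K (f i))) :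
    m = 0 := by
  have hinjK := IsFractionRing.injective R K
  have ne0 : ∀ x : R, ¬ ϖ ∣ x → algebraMap R K x ≠ 0 := by
    intro x hx h0
    rw [map_eq_zero_iff _ hinjK] at h0
    exact hx (h0 ▸ dvd_zero ϖ)
  have hϖK : algebraMap R K ϖ ≠ 0 := by rwa [Ne, map_eq_zero_iff _ hinjK]
  -- `g` as a product of units
  have hgU : g = Units.mk0 _ hϖK ^ m * Units.mk0 _ (ne0 a ha) * (Units.mk0 _ (ne0 b hb))⁻¹ := by
    apply Units.ext
    rw [hg]
    simp [div_eq_mul_inv]
  have h1 : dlog k g = m • dlog k (Units.mk0 _ hϖK) + dlog k (Units.mk0 _ (ne0 a ha)) -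
      dlog k (Units.mk0 _ (ne0 b hb)) := by
    rw [hgU, dlog_mul, dlog_mul, dlog_pow, dlog_inv, sub_eq_add_neg]
  -- the right-hand side is regular
  have h2 : KaehlerDifferential.map k k R K η +
      ∑ i, (algebraMap R K (c i) * (algebraMap R K (f i))⁻¹) • D k K (algebraMap R K (f i)) ∈
        regForms k O K := by
    refine add_mem (map_mem η) (Submodule.sum_mem _ (fun i _ => ?_))
    have h3 := dlog_mk0_mem (k := k) (O := O) (f i) (hunit _ (hf i)) (ne0 _ (hf i))
    have h4 : (algebraMap R K (c i) * (algebraMap R K (f i))⁻¹) • D k K (algebraMap R K (f i)) =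
        (algebraMap R O (c i)) • dlog k (Units.mk0 _ (ne0 _ (hf i))) := by
      rw [dlog, Units.val_mk0, ← algebraMap_smul K (algebraMap R O (c i)), smul_smul,
        ← IsScalarTower.algebraMap_apply R O K]
    rw [h4]
    exact Submodule.smul_mem _ _ h3
  have h5 : m • dlog k (Units.mk0 _ hϖK) ∈ regForms k O K := by
    have h6 : m • dlog k (Units.mk0 _ hϖK) = dlog k g - dlog k (Units.mk0 _ (ne0 a ha)) +
        dlog k (Units.mk0 _ (ne0 b hb)) := by
      rw [h1]; abel
    rw [h6, h]
    exact add_mem (sub_mem h2 (dlog_mk0_mem a (hunit a ha) _)) (dlog_mk0_mem b (hunit b hb) _)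
  obtain ⟨ω, hω⟩ := h5
  have hϖO0 : algebraMap R O ϖ ≠ 0 := by
    intro h0
    apply hϖK
    rw [IsScalarTower.algebraMap_apply R O K, h0, map_zero]
  have key := int_eq_zero_of_dlog_mem (k := k) (K := K) (algebraMap R O ϖ) hϖO0 hϖ hκ (m : ℤ) ω (by
    rw [hω, dlog, Units.val_mk0, ← IsScalarTower.algebraMap_apply R O K, Int.cast_natCast,
      Nat.cast_smul_eq_nsmul])
  exact_mod_cast key

end Num

end Groth.Agent.Helper7.LogDl
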