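import Mathlib
import Groth.Agent.Helper7.LogDlB
import Groth.Agent.Lead.RegUFDA
import Groth.Agent.Helper2.RegSmooth2

/-!
# Logarithmic differentials on a regular local ring: the degree one case
-/

namespace Groth.Agent.Helper7.LogDl

open KaehlerDifferential TensorProduct

universe u

section UFD

variable {R : Type u} [CommRing R] [IsDomain R] [UniqueFactorizationMonoid R] {r : ℕ}
  (f : Fin r → R)

theorem exists_unit_mul_prod_pow (a : R) (ha : a ≠ 0)
    (h : ∀ p : R, Prime p → p ∣ a → ∃ i, Associated p (f i)) :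
    ∃ (w : Rˣ) (m : Fin r → ℕ), a = w * ∏ i, f i ^ m i := by
  induction a using UniqueFactorizationMonoid.induction_on_prime with
  | h₁ => exact absurd rfl ha
  | h₂ x hx => exact ⟨hx.unit, 0, by simp⟩
  | h₃ a p ha0 hp ih =>
    obtain ⟨j, hj⟩ := h p hp (dvd_mul_right p a)
    obtain ⟨w, m, hw⟩ := ih ha0 (fun q hq hqa => h q hq (dvd_mul_of_dvd_right hqa p))
    obtain ⟨u, hu⟩ := hj
    refine ⟨u⁻¹ * w, m + Pi.single j 1, ?_⟩
    have h1 : ∏ i, f i ^ ((m + Pi.single j 1 : Fin r → ℕ) i) = (∏ i, f i ^ m i) * f j := by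
      simp only [Pi.add_apply, pow_add, Finset.prod_mul_distrib]
      congr 1
      rw [Finset.prod_eq_single j]
      · simp
      · intro i _ hij
        simp [Pi.single_eq_of_ne hij]
      · intro hj
        exact absurd (Finset.mem_univ j) hj
    have h2 : p = f j * ((u⁻¹ : Rˣ) : R) := by
      rw [← hu, mul_assoc, Units.mul_inv, mul_one]
    rw [h1, h2, hw]
    push_cast
    ring

end UFD

section Main

variable {k B R K : Type u} [Field k] [CharZero k] [CommRing B] [Algebra k B] [Algebra.Smooth k B]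
  (p : Ideal B) [p.IsPrime] [CommRing R] [Algebra B R] [IsLocalization.AtPrime R p]
  [Algebra k R] [IsScalarTower k B R]
  [Field K] [Algebra R K] [IsFractionRing R K] [Algebra k K] [IsScalarTower k R K]

include p in
theorem mult_eq_zero_main {r : ℕ} (f : Fin r → R) (ϖ : R) (hϖ : Prime ϖ) (hf : ∀ i, ¬ ϖ ∣ f i)
    (m : ℕ) (a b : R) (ha : ¬ ϖ ∣ a) (hb : ¬ ϖ ∣ b)
    (g : Kˣ) (hg : (g : K) = algebraMap R K ϖ ^ m * algebraMap R K a / algebraMap R K b)
    (η : Ω[R⁄k]) (c : Fin r → R)
    (h : dlog k g = KaehlerDifferential.map k k R K η +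
      ∑ i, (algebraMap R K (c i) * (algebraMap R K (f i))⁻¹) • D k K (algebraMap R K (f i))) :
    m = 0 := by
  haveI : IsDomain R := (IsFractionRing.injective R K).isDomain (algebraMap R K)
  haveI hP : (Ideal.span {ϖ}).IsPrime := (Ideal.span_singleton_prime hϖ.ne_zero).mpr hϖ
  have hS : (Ideal.span {ϖ}).primeCompl ≤ nonZeroDivisors R :=
    Ideal.primeCompl_le_nonZeroDivisors _
  let O := Localization.subalgebra.ofField K (Ideal.span {ϖ}).primeCompl hS
  haveI hloc : IsLocalization.AtPrime O (Ideal.span {ϖ}) :=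
    Localization.subalgebra.isLocalization_ofField K (Ideal.span {ϖ}).primeCompl hS
  haveI : Algebra.FormallySmooth k B := inferInstance
  haveI : Algebra.FormallySmooth B R := Algebra.FormallySmooth.of_isLocalization p.primeCompl
  haveI : Algebra.FormallySmooth k R := Algebra.FormallySmooth.comp k B R
  haveI : Algebra.FormallySmooth R O :=
    Algebra.FormallySmooth.of_isLocalization (Ideal.span {ϖ}).primeCompl
  haveI : Algebra.FormallySmooth k O := Algebra.FormallySmooth.comp k R O
  have hnu : ¬ IsUnit (algebraMap R O ϖ) := by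
    rw [IsLocalization.AtPrime.isUnit_to_map_iff O (Ideal.span {ϖ})]
    intro hmem
    exact hmem (Ideal.mem_span_singleton_self ϖ)
  have hunit : ∀ x : R, ¬ ϖ ∣ x → IsUnit (algebraMap R O x) := by
    intro x hx
    rw [IsLocalization.AtPrime.isUnit_to_map_iff O (Ideal.span {ϖ})]
    intro hmem
    exact hx (Ideal.mem_span_singleton.mp hmem)
  haveI : IsLocalRing O := IsLocalization.AtPrime.isLocalRing O (Ideal.span {ϖ})
  have hmax : Ideal.span {algebraMap R O ϖ} = IsLocalRing.maximalIdeal O := by
    rw [← IsLocalization.AtPrime.map_eq_maximalIdeal (Ideal.span {ϖ}) O, Ideal.map_span,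
      Set.image_singleton]
  haveI : (Ideal.span {algebraMap R O ϖ}).IsMaximal :=
    hmax ▸ IsLocalRing.maximalIdeal.isMaximal O
  letI : Field (O ⧸ Ideal.span {algebraMap R O ϖ}) := Ideal.Quotient.field _
  haveI : Algebra.FinitePresentation k B := inferInstance
  haveI : Algebra.EssFiniteType k B := inferInstance
  haveI : Algebra.EssFiniteType B R := Algebra.EssFiniteType.of_isLocalization R p.primeCompl
  haveI : Algebra.EssFiniteType k R := Algebra.EssFiniteType.comp k B R
  haveI : Algebra.EssFiniteType R O :=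
    Algebra.EssFiniteType.of_isLocalization O (Ideal.span {ϖ}).primeCompl
  haveI : Algebra.EssFiniteType k O := Algebra.EssFiniteType.comp k R O
  haveI : Algebra.EssFiniteType k (O ⧸ Ideal.span {algebraMap R O ϖ}) := inferInstance
  have hκ : Algebra.FormallySmooth k (O ⧸ Ideal.span {algebraMap R O ϖ}) := inferInstance
  exact mult_eq_zero (k := k) (O := O) f ϖ hϖ.ne_zero hnu hunit hκ hf m a b ha hb g hg η c h

omit [CharZero k] [IsLocalization.AtPrime R p] [Algebra k R] [IsScalarTower k B R] [Algebra R K]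
  [IsFractionRing R K] [Algebra k K] [IsScalarTower k R K] [Field K] [CommRing R] [Algebra B R] in
theorem isRegularLocalRing_R (k : Type u) {B : Type u} [Field k] [CommRing B] [Algebra k B]
    [Algebra.Smooth k B] (p : Ideal B) [p.IsPrime] (R : Type u) [CommRing R] [Algebra B R]
    [IsLocalization.AtPrime R p] : IsRegularLocalRing R := by
  haveI : Algebra.FormallySmooth (B) (Localization.AtPrime p) :=
    Algebra.FormallySmooth.of_isLocalization p.primeCompl
  have hsm : Algebra.IsSmoothAt k p := Algebra.FormallySmooth.comp k B (Localization.AtPrime p)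
  haveI : Algebra.FinitePresentation k B := inferInstance
  haveI := Groth.Agent.Helper2.RegSmooth2.isRegularLocalRing_of_isSmoothAt k B p hsm
  exact IsRegularLocalRing.of_ringEquiv
    (IsLocalization.algEquiv p.primeCompl (Localization.AtPrime p) R).toRingEquiv

include p in
/-- primes dividing the numerator of `g` are associated to one of the `f i` -/
theorem prime_dvd_num {r : ℕ} (f : Fin r → R) (hf : ∀ i, Prime (f i))
    (g : Kˣ) (a b : R) (ha0 : a ≠ 0) (hb0 : b ≠ 0) (hrel : IsRelPrime a b)
    (hg : (g : K) = algebraMap R K a / algebraMap R K b)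
    (η : Ω[R⁄k]) (c : Fin r → R)
    (h : dlog k g = KaehlerDifferential.map k k R K η +
      ∑ i, (algebraMap R K (c i) * (algebraMap R K (f i))⁻¹) • D k K (algebraMap R K (f i)))
    (q : R) (hq : Prime q) (hqa : q ∣ a) : ∃ i, Associated q (f i) := by
  haveI : IsDomain R := (IsFractionRing.injective R K).isDomain (algebraMap R K)
  haveI := isRegularLocalRing_R k p R
  haveI : UniqueFactorizationMonoid R := Groth.Agent.Lead.RegUFD.ufd_of_isRegularLocalRing R
  by_contra hne
  push Not at hne
  have hfq : ∀ i, ¬ q ∣ f i := fun i hdvd =>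
    hne i (hq.irreducible.associated_of_dvd (hf i).irreducible hdvd)
  obtain ⟨n, a', ha', haeq⟩ := WfDvdMonoid.max_power_factor ha0 hq.irreducible
  have hn : n ≠ 0 := by
    rintro rfl
    rw [pow_zero, one_mul] at haeq
    exact ha' (haeq ▸ hqa)
  have hqb : ¬ q ∣ b := fun hdvd => hq.not_isUnit (hrel hqa hdvd)
  apply hn
  refine mult_eq_zero_main (k := k) p f q hq hfq n a' b ha' hqb g ?_ η c h
  rw [hg, haeq, map_mul, map_pow]

include p in
theorem main {r : ℕ} (f : Fin r → R) (hf : ∀ i, Prime (f i))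
    (g : Kˣ) (η : Ω[R⁄k]) (c : Fin r → R)
    (h : (g : K)⁻¹ • D k K (g : K) = KaehlerDifferential.map k k R K η +
      ∑ i, (algebraMap R K (c i) * (algebraMap R K (f i))⁻¹) • D k K (algebraMap R K (f i))) :
    ∃ (v : Rˣ) (b : Fin r → ℤ),
      (g : K)⁻¹ • D k K (g : K) =
        (algebraMap R K (v : R))⁻¹ • D k K (algebraMap R K (v : R)) +
          ∑ i, ((b i : K) * (algebraMap R K (f i))⁻¹) • D k K (algebraMap R K (f i)) := by
  haveI : IsDomain R := (IsFractionRing.injective R K).isDomain (algebraMap R K)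
  haveI := isRegularLocalRing_R k p R
  haveI : UniqueFactorizationMonoid R := Groth.Agent.Lead.RegUFD.ufd_of_isRegularLocalRing R
  have hinjK := IsFractionRing.injective R K
  obtain ⟨a, b, hrel, hab⟩ := IsFractionRing.exists_reduced_fraction (A := R) (g : K)
  have hb0 : (b : R) ≠ 0 := nonZeroDivisors.coe_ne_zero b
  have hbK : algebraMap R K (b : R) ≠ 0 := by rwa [Ne, map_eq_zero_iff _ hinjK]
  have hg : (g : K) = algebraMap R K a / algebraMap R K (b : R) := by
    rw [← hab, IsFractionRing.mk'_eq_div]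
  have ha0 : a ≠ 0 := by
    rintro rfl
    rw [map_zero, zero_div] at hg
    exact g.ne_zero hg
  have haK : algebraMap R K a ≠ 0 := by rwa [Ne, map_eq_zero_iff _ hinjK]
  -- numerator
  have hA := prime_dvd_num (k := k) p f hf g a b ha0 hb0 hrel hg η c h
  -- denominator
  have hB := prime_dvd_num (k := k) p f hf g⁻¹ b a hb0 ha0 hrel.symm (by
    rw [Units.val_inv_eq_inv_val, hg, inv_div]) (-η) (fun i => -c i) (by
    rw [dlog_inv]
    change -((g : K)⁻¹ • D k K (g : K)) = _
    rw [h, neg_add, map_neg, ← Finset.sum_neg_distrib]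
    congr 1
    refine Finset.sum_congr rfl (fun i _ => ?_)
    rw [map_neg, neg_mul, neg_smul])
  obtain ⟨wa, ma, hwa⟩ := exists_unit_mul_prod_pow f a ha0 hA
  obtain ⟨wb, mb, hwb⟩ := exists_unit_mul_prod_pow f (b : R) hb0 hB
  have hfK : ∀ i, algebraMap R K (f i) ≠ 0 := fun i => by
    rw [Ne, map_eq_zero_iff _ hinjK]; exact (hf i).ne_zero
  -- the identity of units
  have hU : g * Units.map (algebraMap R K).toMonoidHom wb * ∏ i, Units.mk0 _ (hfK i) ^ mb i =
      Units.map (algebraMap R K).toMonoidHom wa * ∏ i, Units.mk0 _ (hfK i) ^ ma i := by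
    apply Units.ext
    simp only [Units.val_mul, Units.coe_map, Units.coe_prod, Units.val_pow_eq_pow_val,
      Units.val_mk0, RingHom.toMonoidHom_eq_coe, MonoidHom.coe_coe]
    have h1 : algebraMap R K a = algebraMap R K (wa : R) * ∏ i, algebraMap R K (f i) ^ ma i := by
      conv_lhs => rw [hwa]
      simp [map_mul, map_prod, map_pow]
    have h2 : algebraMap R K (b : R) =
        algebraMap R K (wb : R) * ∏ i, algebraMap R K (f i) ^ mb i := by
      conv_lhs => rw [hwb]
      simp [map_mul, map_prod, map_pow]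
    rw [mul_assoc, ← h2, ← h1, hg, div_mul_cancel₀ _ hbK]
  have hD := congrArg (dlog k) hU
  simp only [dlog_mul, dlog_prod, dlog_pow] at hD
  refine ⟨wa * wb⁻¹, fun i => (ma i : ℤ) - (mb i : ℤ), ?_⟩
  have hv : (algebraMap R K ((wa * wb⁻¹ : Rˣ) : R))⁻¹ • D k K (algebraMap R K ((wa * wb⁻¹ : Rˣ) : R)) =
      dlog k (Units.map (algebraMap R K).toMonoidHom wa) -
        dlog k (Units.map (algebraMap R K).toMonoidHom wb) := by
    have : dlog k (Units.map (algebraMap R K).toMonoidHom (wa * wb⁻¹)) =
        dlog k (Units.map (algebraMap R K).toMonoidHom wa) -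
        dlog k (Units.map (algebraMap R K).toMonoidHom wb) := by
      rw [map_mul, map_inv, dlog_mul, dlog_inv, sub_eq_add_neg]
    rw [← this]
    rfl
  have hsum : ∑ i, ((((ma i : ℤ) - (mb i : ℤ) : ℤ) : K) * (algebraMap R K (f i))⁻¹) •
      D k K (algebraMap R K (f i)) =
      ∑ i, ma i • dlog k (Units.mk0 _ (hfK i)) - ∑ i, mb i • dlog k (Units.mk0 _ (hfK i)) := by
    rw [← Finset.sum_sub_distrib]
    refine Finset.sum_congr rfl (fun i _ => ?_)
    rw [dlog, Units.val_mk0, ← smul_smul, Int.cast_smul_eq_zsmul, sub_smul, natCast_zsmul,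
      natCast_zsmul]
  rw [hv, hsum]
  change dlog k g = _
  have : dlog k g = dlog k (Units.map (algebraMap R K).toMonoidHom wa) +
      ∑ i, ma i • dlog k (Units.mk0 _ (hfK i)) -
      dlog k (Units.map (algebraMap R K).toMonoidHom wb) -
      ∑ i, mb i • dlog k (Units.mk0 _ (hfK i)) := by
    rw [← hD]; abel
  rw [this]; abel

end Main

end Groth.Agent.Helper7.LogDl
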