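import Mathlib
import Groth.Prelude.Def_W4c2conddiscmodels

set_option autoImplicit false
set_option linter.unusedSectionVars false
universe u
open Finset Matrix

namespace Groth.Agent.Helper7.LorB

variable {V : Type u} [Fintype V] [DecidableEq V]

theorem betaHom_apply (β x : V → ℤ) : LabGraph.betaHom β x = ∑ v, x v * β v := by
  unfold LabGraph.betaHom
  rw [Fintype.linearCombination_apply]
  simp [smul_eq_mul]

theorem betaHom_eq (β β' : V → ℤ) (m : ℤ) (hβ : ∀ v, β v = m * β' v) (x : V → ℤ) :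
    LabGraph.betaHom β x = m * (β' ⬝ᵥ x) := by
  rw [betaHom_apply, dotProduct, Finset.mul_sum]
  refine Finset.sum_congr rfl fun v _ => ?_
  rw [hβ v]; ring

/-- the rank one modification `-α + u uᵀ` -/
def Cm (α : Matrix V V ℤ) (u : V → ℤ) : Matrix V V ℤ := -α + vecMulVec u u

theorem Cm_mulVec (α : Matrix V V ℤ) (u x : V → ℤ) :
    Cm α u *ᵥ x = -(α *ᵥ x) + (u ⬝ᵥ x) • u := by
  unfold Cm
  rw [add_mulVec, neg_mulVec, vecMulVec_mulVec]
  congr 1
  funext v
  simp [mul_comm]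

theorem card_quot_range (C : Matrix V V ℤ) (hC : C.det ≠ 0) :
    Nat.card ((V → ℤ) ⧸ LinearMap.range (Matrix.mulVecLin C)) = C.det.natAbs := by
  have hinj : Function.Injective (Matrix.mulVecLin C) := by
    rw [← LinearMap.ker_eq_bot, LinearMap.ker_eq_bot']
    intro x hx
    exact Matrix.eq_zero_of_mulVec_eq_zero hC hx
  let e : (V → ℤ) ≃ₗ[ℤ] LinearMap.range (Matrix.mulVecLin C) := LinearEquiv.ofInjective _ hinj
  have := Submodule.natAbs_det_equiv (LinearMap.range (Matrix.mulVecLin C)) e.toAddEquiv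
  rw [← this]
  congr 1
  rw [← LinearMap.det_toLin' C]
  congr 1

theorem card_compGrp (α : Matrix V V ℤ) (β β' u : V → ℤ) (m : ℤ) (hm : m ≠ 0)
    (hβ : ∀ v, β v = m * β' v) (h1 : α *ᵥ β' = 0) (h2 : β' ᵥ* α = 0) (hu : β' ⬝ᵥ u = 1)
    (hdet : (Cm α u).det ≠ 0) :
    Nat.card ((LinearMap.ker (LabGraph.betaHom β)) ⧸
      (LinearMap.range (Matrix.mulVecLin α)).comap (LinearMap.ker (LabGraph.betaHom β)).subtype)
      = (Cm α u).det.natAbs := by
  set K := LinearMap.ker (LabGraph.betaHom β) with hK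
  set N := LinearMap.range (Matrix.mulVecLin (Cm α u)) with hN
  have hKmem : ∀ x : V → ℤ, x ∈ K ↔ β' ⬝ᵥ x = 0 := by
    intro x
    rw [hK, LinearMap.mem_ker, betaHom_eq β β' m hβ]
    constructor
    · intro h; exact (mul_eq_zero.mp h).resolve_left hm
    · intro h; rw [h, mul_zero]
  have hβα : ∀ z, β' ⬝ᵥ (α *ᵥ z) = 0 := by
    intro z
    rw [dotProduct_mulVec, h2, zero_dotProduct]
  have hu' : u ⬝ᵥ β' = 1 := by rw [dotProduct_comm]; exact hu
  have huN : u ∈ N := by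
    refine ⟨β', ?_⟩
    rw [Matrix.mulVecLin_apply, Cm_mulVec, h1, hu']
    simp
  let g : K →ₗ[ℤ] ((V → ℤ) ⧸ N) := N.mkQ.comp K.subtype
  have hsurj : Function.Surjective g := by
    intro q
    obtain ⟨x, rfl⟩ := N.mkQ_surjective q
    have hx : x - (β' ⬝ᵥ x) • u ∈ K := by
      rw [hKmem, dotProduct_sub, dotProduct_smul, hu]
      simp
    refine ⟨⟨_, hx⟩, ?_⟩
    show N.mkQ (x - (β' ⬝ᵥ x) • u) = N.mkQ x
    rw [map_sub, sub_eq_self]
    rw [Submodule.mkQ_apply, Submodule.Quotient.mk_eq_zero]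
    exact N.smul_mem _ huN
  have hker : LinearMap.ker g
      = (LinearMap.range (Matrix.mulVecLin α)).comap K.subtype := by
    ext ⟨k, hk⟩
    rw [LinearMap.mem_ker, Submodule.mem_comap]
    show N.mkQ k = 0 ↔ k ∈ LinearMap.range (Matrix.mulVecLin α)
    rw [Submodule.mkQ_apply, Submodule.Quotient.mk_eq_zero]
    constructor
    · rintro ⟨z, hz⟩
      rw [Matrix.mulVecLin_apply, Cm_mulVec] at hz
      have hk0 := (hKmem k).mp hk
      rw [← hz, dotProduct_add, dotProduct_neg, hβα, dotProduct_smul, hu] at hk0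
      have huz : u ⬝ᵥ z = 0 := by simpa using hk0
      refine ⟨-z, ?_⟩
      rw [Matrix.mulVecLin_apply, mulVec_neg, ← hz, huz]
      simp
    · rintro ⟨z, hz⟩
      rw [Matrix.mulVecLin_apply] at hz
      refine ⟨-(z - (u ⬝ᵥ z) • β'), ?_⟩
      rw [Matrix.mulVecLin_apply, Cm_mulVec, mulVec_neg, neg_neg, mulVec_sub, mulVec_smul, h1,
        smul_zero, sub_zero, hz, dotProduct_neg, dotProduct_sub, dotProduct_smul, hu']
      simp
  have e1 : (K ⧸ (LinearMap.range (Matrix.mulVecLin α)).comap K.subtype) ≃ₗ[ℤ]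
      ((V → ℤ) ⧸ N) :=
    (Submodule.quotEquivOfEq _ _ hker.symm).trans (g.quotKerEquivOfSurjective hsurj)
  rw [Nat.card_congr e1.toEquiv]
  exact card_quot_range _ hdet

end Groth.Agent.Helper7.LorB
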