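import Mathlib
import Groth.Prelude.Def_W4c2conddiscmodels

set_option autoImplicit false
set_option linter.unusedSectionVars false
universe u
open Finset Matrix

namespace Groth.Agent.Helper7.LorC

variable {V E : Type u} [Fintype V] [Fintype E] [DecidableEq V] [DecidableEq E]

/-- incidence vector of an edge over a ring `R`: head minus tail (zero for a loop) -/
def inc (R : Type*) [Ring R] (ends : E → V × V) (e : E) : V → R :=
  Pi.single (ends e).2 1 - Pi.single (ends e).1 1

theorem inc_apply (R : Type*) [Ring R] (ends : E → V × V) (e : E) (v : V) :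
    inc R ends e v = (if (ends e).2 = v then 1 else 0) - (if (ends e).1 = v then 1 else 0) := by
  unfold inc
  simp only [Pi.sub_apply, Pi.single_apply]
  congr 1 <;> · congr 1; exact propext eq_comm

theorem sum_inc (R : Type*) [Ring R] (ends : E → V × V) (e : E) :
    ∑ v, inc R ends e v = 0 := by
  unfold inc
  simp [Finset.sum_sub_distrib]

theorem single_sub_mem_of_adj (R : Type*) [Ring R] (ends : E → V × V) {v w : V}
    (h : LabGraph.Adj ends v w) :
    (Pi.single w 1 - Pi.single v 1 : V → R) ∈ Submodule.span R (Set.range (inc R ends)) := by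
  obtain ⟨e, he | he⟩ := h
  · have : inc R ends e = Pi.single w 1 - Pi.single v 1 := by unfold inc; rw [he]
    rw [← this]
    exact Submodule.subset_span ⟨e, rfl⟩
  · have : inc R ends e = -(Pi.single w 1 - Pi.single v 1) := by unfold inc; rw [he]; simp
    have h2 : (Pi.single w 1 - Pi.single v 1 : V → R) = -(inc R ends e) := by rw [this, neg_neg]
    rw [h2]
    exact Submodule.neg_mem _ (Submodule.subset_span ⟨e, rfl⟩)

theorem single_sub_mem_of_rtg (R : Type*) [Ring R] (ends : E → V × V) {v w : V}
    (h : Relation.ReflTransGen (LabGraph.Adj ends) v w) :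
    (Pi.single w 1 - Pi.single v 1 : V → R) ∈ Submodule.span R (Set.range (inc R ends)) := by
  induction h with
  | refl => simp
  | tail _ hbc ih =>
    rename_i b c
    have := Submodule.add_mem _ ih (single_sub_mem_of_adj R ends hbc)
    convert this using 1
    abel

/-- in a connected graph the incidence vectors span the vectors of total sum zero -/
theorem mem_span_inc (R : Type*) [Ring R] (ends : E → V × V) (hG : LabGraph.Connected ends)
    (x : V → R) (hx : ∑ v, x v = 0) :
    x ∈ Submodule.span R (Set.range (inc R ends)) := by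
  obtain ⟨⟨v₀⟩, hc⟩ := hG
  have h1 : x = ∑ v, x v • (Pi.single v 1 - Pi.single v₀ 1 : V → R) := by
    funext w
    simp only [Finset.sum_apply, Pi.smul_apply, Pi.sub_apply, smul_eq_mul, mul_sub,
      Finset.sum_sub_distrib, Pi.single_apply, mul_ite, mul_one, mul_zero]
    rw [Finset.sum_ite_eq univ w x]
    simp only [mem_univ, if_true]
    by_cases hw : w = v₀
    · simp [hw, hx]
    · simp [hw]
  rw [h1]
  exact Submodule.sum_mem _ fun v _ => Submodule.smul_mem _ _ (single_sub_mem_of_rtg R ends (hc v₀ v))

theorem exists_coeff (R : Type*) [Ring R] (ends : E → V × V) (hG : LabGraph.Connected ends)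
    (x : V → R) (hx : ∑ v, x v = 0) :
    ∃ c : E → R, ∑ e, c e • inc R ends e = x :=
  (Submodule.mem_span_range_iff_exists_fun R).mp (mem_span_inc R ends hG x hx)

end Groth.Agent.Helper7.LorC
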