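import Groth.Agent.Helper7.LorC

set_option autoImplicit false
set_option linter.unusedSectionVars false
universe u
open Finset Matrix

namespace Groth.Agent.Helper7.LorC

variable {V E : Type u} [Fintype V] [Fintype E] [DecidableEq V] [DecidableEq E]

theorem sum_inc_zmod2 (ends : E → V × V) (C : Finset E) (v : V) :
    (∑ e ∈ C, inc (ZMod 2) ends e) v = (LabGraph.endCount ends C v : ZMod 2) := by
  unfold LabGraph.endCount
  rw [Finset.sum_apply, Nat.cast_sum]
  refine Finset.sum_congr rfl fun e _ => ?_
  rw [inc_apply, CharTwo.sub_eq_add]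
  push_cast
  rw [add_comm]

/-- a nonempty even edge set contains a circuit -/
theorem exists_circuit_subset (ends : E → V × V) (C : Finset E) (hne : C.Nonempty)
    (hev : ∀ v, Even (LabGraph.endCount ends C v)) :
    ∃ C' ⊆ C, LabGraph.IsCircuit ends C' := by
  induction C using Finset.strongInduction with
  | H C ih =>
    by_cases hC : LabGraph.IsCircuit ends C
    · exact ⟨C, subset_rfl, hC⟩
    · unfold LabGraph.IsCircuit at hC
      push Not at hC
      obtain ⟨C', hC', hne', hev'⟩ := hC hne hev
      obtain ⟨C'', hsub, hcirc⟩ := ih C' hC' hne' hev'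
      exact ⟨C'', hsub.trans hC'.subset, hcirc⟩

theorem zmod2_cases : ∀ a : ZMod 2, a = 0 ∨ a = 1 := by decide

theorem sum_smul_inc_eq (ends : E → V × V) (γ : E → ZMod 2) :
    ∑ e, γ e • inc (ZMod 2) ends e = ∑ e ∈ univ.filter (fun e => γ e ≠ 0), inc (ZMod 2) ends e := by
  rw [Finset.sum_filter]
  refine Finset.sum_congr rfl fun e _ => ?_
  rcases zmod2_cases (γ e) with h | h <;> simp [h]

/-- in a forest the incidence vectors are independent modulo 2 -/
theorem forest_indep (ends : E → V × V) (hF : DualGr.IsForest ends) (γ : E → ZMod 2)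
    (hγ : ∑ e, γ e • inc (ZMod 2) ends e = 0) : γ = 0 := by
  by_contra hne
  have hCne : (univ.filter (fun e => γ e ≠ 0)).Nonempty := by
    by_contra h
    rw [Finset.not_nonempty_iff_eq_empty, Finset.filter_eq_empty_iff] at h
    apply hne
    funext e
    have := h (mem_univ e)
    simpa using this
  rw [sum_smul_inc_eq] at hγ
  have hev : ∀ v, Even (LabGraph.endCount ends (univ.filter (fun e => γ e ≠ 0)) v) := by
    intro v
    have := congrFun hγ v
    rw [sum_inc_zmod2] at this
    exact (ZMod.natCast_eq_zero_iff_even).mp this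
  obtain ⟨C', -, hC'⟩ := exists_circuit_subset ends _ hCne hev
  exact hF C' hC'

/-- independence modulo 2 of the incidence vectors gives a forest -/
theorem forest_of_indep (ends : E → V × V)
    (h : ∀ γ : E → ZMod 2, ∑ e, γ e • inc (ZMod 2) ends e = 0 → γ = 0) :
    DualGr.IsForest ends := by
  intro C hC
  obtain ⟨⟨e₀, he₀⟩, hev, -⟩ := hC
  let γ : E → ZMod 2 := fun e => if e ∈ C then 1 else 0
  have hγ : ∑ e, γ e • inc (ZMod 2) ends e = 0 := by
    rw [sum_smul_inc_eq]
    have : univ.filter (fun e => γ e ≠ 0) = C := by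
      ext e
      simp only [mem_filter, mem_univ, true_and, γ]
      by_cases he : e ∈ C <;> simp [he]
    rw [this]
    funext v
    rw [sum_inc_zmod2]
    exact (ZMod.natCast_eq_zero_iff_even).mpr (hev v)
  have := congrFun (h γ hγ) e₀
  simp [γ, he₀] at this

/-- the map `(γ, t) ↦ Σ γ_e inc_e + t e_{v₀}` over a ring -/
noncomputable def psi (R : Type*) [CommRing R] (ends : E → V × V) (v₀ : V) :
    ((E → R) × R) →ₗ[R] (V → R) :=
  (Fintype.linearCombination R (inc R ends)).coprod
    (LinearMap.toSpanSingleton R (V → R) (Pi.single v₀ 1))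

theorem psi_apply (R : Type*) [CommRing R] (ends : E → V × V) (v₀ : V) (p : (E → R) × R) :
    psi R ends v₀ p = ∑ e, p.1 e • inc R ends e + p.2 • Pi.single v₀ 1 := by
  unfold psi
  rw [LinearMap.coprod_apply, Fintype.linearCombination_apply, LinearMap.toSpanSingleton_apply]

theorem sum_psi (R : Type*) [CommRing R] (ends : E → V × V) (v₀ : V) (p : (E → R) × R) :
    ∑ v, psi R ends v₀ p v = p.2 := by
  rw [psi_apply]
  simp only [Pi.add_apply, Finset.sum_apply, Pi.smul_apply, smul_eq_mul, Finset.sum_add_distrib]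
  rw [Finset.sum_comm]
  simp only [← Finset.mul_sum, sum_inc, mul_zero, Finset.sum_const_zero, zero_add]
  simp [Pi.single_apply]

theorem psi_surjective (R : Type*) [CommRing R] (ends : E → V × V) (v₀ : V)
    (hG : LabGraph.Connected ends) : Function.Surjective (psi R ends v₀) := by
  intro x
  have hx : ∑ v, (x - (∑ v, x v) • (Pi.single v₀ 1 : V → R)) v = 0 := by
    simp [Finset.sum_sub_distrib, Pi.single_apply]
  obtain ⟨c, hc⟩ := exists_coeff R ends hG _ hx
  refine ⟨(c, ∑ v, x v), ?_⟩
  rw [psi_apply, hc]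
  abel

theorem psi_injective_of_forest (ends : E → V × V) (v₀ : V) (hF : DualGr.IsForest ends) :
    Function.Injective (psi (ZMod 2) ends v₀) := by
  rw [← LinearMap.ker_eq_bot, LinearMap.ker_eq_bot']
  rintro ⟨γ, t⟩ h
  have ht : t = 0 := by
    have := sum_psi (ZMod 2) ends v₀ (γ, t)
    rw [h] at this
    simpa using this.symm
  subst ht
  rw [psi_apply] at h
  simp only [zero_smul, add_zero] at h
  rw [forest_indep ends hF γ h]
  rfl

/-- a tree has one edge less than vertices -/
theorem card_of_isTree (ends : E → V × V) (hT : DualGr.IsTree ends) :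
    Fintype.card E + 1 = Fintype.card V := by
  obtain ⟨⟨v₀⟩, _⟩ := id hT.1
  have hbij : Function.Bijective (psi (ZMod 2) ends v₀) :=
    ⟨psi_injective_of_forest ends v₀ hT.2, psi_surjective (ZMod 2) ends v₀ hT.1⟩
  have := (LinearEquiv.ofBijective _ hbij).finrank_eq
  rw [Module.finrank_prod, Module.finrank_fintype_fun_eq_card, Module.finrank_self,
    Module.finrank_fintype_fun_eq_card] at this
  exact this

/-- a connected graph with one edge less than vertices is a forest -/
theorem forest_of_card (ends : E → V × V) (hG : LabGraph.Connected ends)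
    (hc : Fintype.card E + 1 = Fintype.card V) : DualGr.IsForest ends := by
  obtain ⟨⟨v₀⟩, _⟩ := id hG
  have hsurj := psi_surjective (ZMod 2) ends v₀ hG
  have hfr : Module.finrank (ZMod 2) ((E → ZMod 2) × ZMod 2) = Module.finrank (ZMod 2) (V → ZMod 2) := by
    rw [Module.finrank_prod, Module.finrank_fintype_fun_eq_card, Module.finrank_self,
      Module.finrank_fintype_fun_eq_card, hc]
  have hinj := (LinearMap.injective_iff_surjective_of_finrank_eq_finrank hfr).mpr hsurj
  apply forest_of_indep
  intro γ hγ
  have : psi (ZMod 2) ends v₀ (γ, 0) = psi (ZMod 2) ends v₀ (0, 0) := by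
    rw [psi_apply, psi_apply]
    simp [hγ]
  have := hinj this
  exact (Prod.mk.inj this).1

/-- a disconnected graph has a proper nonempty vertex set closed under adjacency -/
theorem exists_closed_of_not_connected (ends : E → V × V) [Nonempty V]
    (hG : ¬ LabGraph.Connected ends) :
    ∃ S : Finset V, S.Nonempty ∧ Sᶜ.Nonempty ∧ ∀ e, (ends e).1 ∈ S ↔ (ends e).2 ∈ S := by
  classical
  unfold LabGraph.Connected at hG
  push Not at hG
  obtain ⟨v, w, hvw⟩ := hG ‹_›
  refine ⟨univ.filter (fun x => Relation.ReflTransGen (LabGraph.Adj ends) v x), ⟨v, ?_⟩, ⟨w, ?_⟩, ?_⟩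
  · simp [Relation.ReflTransGen.refl]
  · simp [hvw]
  · intro e
    simp only [mem_filter, mem_univ, true_and]
    constructor
    · intro h
      exact h.tail ⟨e, Or.inl rfl⟩
    · intro h
      exact h.tail ⟨e, Or.inr rfl⟩

end Groth.Agent.Helper7.LorC
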