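import Groth.Agent.Helper7.LorC3

set_option autoImplicit false
set_option linter.unusedSectionVars false
universe u
open Finset Matrix

namespace Groth.Agent.Helper7.LorD

open Groth.Agent.Helper7.LorA Groth.Agent.Helper7.LorC

variable {V E : Type u} [Fintype V] [Fintype E] [DecidableEq V] [DecidableEq E]

theorem sqd_of_spanningTree (ends : E → V × V) (y : V → ℤ) (T : Finset E)
    (hT : LabGraph.IsSpanningTree ends T) :
    sqd (bext ends y) (insertNone T) = (∑ v, y v) ^ 2 := by
  have hc := card_of_isTree (fun e : ↥T => ends e.1) hT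
  let f₀ : V ≃ Option ↥T := Fintype.equivOfCardEq (by rw [Fintype.card_option]; exact hc.symm)
  let f : V → Option E := fun j => (f₀ j).map Subtype.val
  have hinj : Function.Injective f :=
    (Option.map_injective Subtype.val_injective).comp f₀.injective
  have himg : univ.image f = insertNone T := by
    ext o
    simp only [mem_image, mem_univ, true_and, mem_insertNone]
    constructor
    · rintro ⟨j, rfl⟩ a ha
      simp only [f, Option.mem_def, Option.map_eq_some_iff] at ha
      obtain ⟨e, -, rfl⟩ := ha
      exact e.2
    · intro h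
      cases o with
      | none => exact ⟨f₀.symm none, by simp [f]⟩
      | some e => exact ⟨f₀.symm (some ⟨e, h e rfl⟩), by simp [f]⟩
  have hb : ∀ j, bext ends y (f j) = bext (fun e : ↥T => ends e.1) y (f₀ j) := by
    intro j
    simp only [f]
    cases f₀ j with
    | none => rfl
    | some e => rfl
  have hdB : dB (bext ends y) f = dB (bext (fun e : ↥T => ends e.1) y) f₀ := by
    unfold dB
    congr 1
    ext i j
    simp only [of_apply]
    rw [hb j]
  rw [← himg, sqd_eq _ f hinj, hdB, dB_sq_of_isTree _ hT]

theorem sqd_of_not_spanningTree [Nonempty V] (ends : E → V × V) (y : V → ℤ) (T : Finset E)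
    (hcard : T.card + 1 = Fintype.card V) (hT : ¬ LabGraph.IsSpanningTree ends T) :
    sqd (bext ends y) (insertNone T) = 0 := by
  have hnc : ¬ LabGraph.Connected (fun e : ↥T => ends e.1) := by
    intro hconn
    exact hT ⟨hconn, forest_of_card _ hconn (by rw [Fintype.card_coe]; exact hcard)⟩
  obtain ⟨S, ⟨s, hs⟩, ⟨s', hs'⟩, hcl⟩ := exists_closed_of_not_connected _ hnc
  rw [Finset.mem_compl] at hs'
  apply sqd_eq_zero
  intro g _ himg
  have hgmem : ∀ j, g j ∈ insertNone T := by
    intro j; rw [← himg]; exact mem_image_of_mem _ (mem_univ _)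
  have key : ∀ p q : ℤ, (p * ∑ v ∈ S, y v + q * ∑ v ∈ Sᶜ, y v = 0) →
      ∀ j, (fun v => if v ∈ S then p else q) ⬝ᵥ bext ends y (g j) = 0 := by
    intro p q hpq j
    have hj := hgmem j
    cases hgj : g j with
    | none =>
      simp only [bext, Option.elim_none, dotProduct]
      rw [← Finset.sum_add_sum_compl S, ← hpq, Finset.mul_sum, Finset.mul_sum]
      congr 1
      · exact Finset.sum_congr rfl fun v hv => by rw [if_pos hv]
      · exact Finset.sum_congr rfl fun v hv => by rw [if_neg (Finset.mem_compl.mp hv)]
    | some e =>
      rw [hgj] at hj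
      have heT : e ∈ T := some_mem_insertNone.mp hj
      simp only [bext, Option.elim_some]
      rw [dotProduct_inc]
      have := hcl ⟨e, heT⟩
      simp only at this
      by_cases h1 : (ends e).1 ∈ S
      · rw [if_pos h1, if_pos (this.mp h1), sub_self]
      · rw [if_neg h1, if_neg (fun h => h1 (this.mpr h)), sub_self]
  by_cases hA : ∑ v ∈ S, y v = 0
  · refine dB_eq_zero_of_left_null _ g (fun v => if v ∈ S then 1 else 0) ?_ (key 1 0 (by rw [hA]; ring))
    intro h
    have := congrFun h s
    simp [hs] at this
  · refine dB_eq_zero_of_left_null _ g (fun v => if v ∈ S then (∑ v ∈ Sᶜ, y v) else -(∑ v ∈ S, y v)) ?_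
      (key _ _ (by ring))
    intro h
    have := congrFun h s'
    simp [hs'] at this
    exact hA this

theorem sqd_of_none_not_mem [Nonempty V] (ends : E → V × V) (y : V → ℤ) (S : Finset (Option E))
    (h : none ∉ S) : sqd (bext ends y) S = 0 := by
  apply sqd_eq_zero
  intro g _ himg
  refine dB_eq_zero_of_left_null _ g (fun _ => 1) ?_ ?_
  · intro h0
    obtain ⟨v⟩ := ‹Nonempty V›
    have := congrFun h0 v
    simp at this
  · intro j
    have hj : g j ∈ S := by rw [← himg]; exact mem_image_of_mem _ (mem_univ _)
    cases hgj : g j with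
    | none => rw [hgj] at hj; exact absurd hj h
    | some e =>
      simp only [bext, Option.elim_some]
      rw [dotProduct_inc]
      ring

open Classical in
/-- the weighted matrix-tree theorem with one extra rank-one term -/
theorem det_gram_bext [Nonempty V] (ends : E → V × V) (w : E → ℤ) (y : V → ℤ) :
    (gram (fun o : Option E => o.elim 1 w) (bext ends y)).det =
      (∑ v, y v) ^ 2 * ∑ T ∈ univ.powerset.filter (fun T : Finset E => LabGraph.IsSpanningTree ends T),
        ∏ e ∈ T, w e := by
  rw [det_gram]
  have hpos : 0 < Fintype.card V := Fintype.card_pos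
  -- restrict to subsets containing `none`
  have h1 : ∑ S ∈ powersetCard (Fintype.card V) (univ : Finset (Option E)),
      (∏ e ∈ S, (fun o : Option E => o.elim 1 w) e) * sqd (bext ends y) S
      = ∑ T ∈ powersetCard (Fintype.card V - 1) (univ : Finset E),
          (∏ e ∈ insertNone T, (fun o : Option E => o.elim 1 w) e) * sqd (bext ends y) (insertNone T) := by
    symm
    refine Finset.sum_bij_ne_zero (fun T _ _ => insertNone T) ?_ ?_ ?_ ?_
    · intro T hT _
      rw [mem_powersetCard] at hT ⊢
      refine ⟨subset_univ _, ?_⟩
      rw [card_insertNone, hT.2]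
      omega
    · intro T _ _ T' _ _ h
      exact insertNone.injective h
    · intro S hS hne
      have hnone : none ∈ S := by
        by_contra hn
        rw [sqd_of_none_not_mem ends y S hn, mul_zero] at hne
        exact hne rfl
      rw [mem_powersetCard] at hS
      have hSe : insertNone (eraseNone S) = S := by
        rw [insertNone_eraseNone, Finset.insert_eq_of_mem hnone]
      refine ⟨eraseNone S, ?_, ?_, hSe⟩
      · rw [mem_powersetCard]
        refine ⟨subset_univ _, ?_⟩
        rw [card_eraseNone_of_mem hnone, hS.2]
      · rw [hSe]; exact hne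
    · intro T _ _; rfl
  rw [h1, Finset.mul_sum]
  have h2 : ∀ T ∈ powersetCard (Fintype.card V - 1) (univ : Finset E),
      (∏ e ∈ insertNone T, (fun o : Option E => o.elim 1 w) e) * sqd (bext ends y) (insertNone T)
      = if LabGraph.IsSpanningTree ends T then (∑ v, y v) ^ 2 * ∏ e ∈ T, w e else 0 := by
    intro T hT
    rw [mem_powersetCard] at hT
    rw [prod_insertNone]
    simp only [Option.elim_none, Option.elim_some, one_mul]
    split_ifs with htree
    · rw [sqd_of_spanningTree ends y T htree, mul_comm]
    · rw [sqd_of_not_spanningTree ends y T (by rw [hT.2]; omega) htree, mul_zero]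
  rw [Finset.sum_congr rfl h2, ← Finset.sum_filter]
  refine Finset.sum_congr ?_ fun _ _ => rfl
  ext T
  simp only [mem_filter, mem_powersetCard, mem_powerset, subset_univ, true_and, and_iff_right_iff_imp]
  intro hT
  have := card_of_isTree (fun e : ↥T => ends e.1) hT
  rw [Fintype.card_coe] at this
  omega

end Groth.Agent.Helper7.LorD
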