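import Groth.Agent.Helper7.LorD
import Groth.Agent.Helper7.LorB
import Groth.Agent.Helper7.LabCtr1

set_option autoImplicit false
set_option linter.unusedSectionVars false
universe u
open Finset Matrix

namespace Groth.Agent.Helper7.LorE

open Groth.Agent.Helper7.LorA Groth.Agent.Helper7.LorB Groth.Agent.Helper7.LorC
  Groth.Agent.Helper7.LorD Groth.Agent.Helper7.LabCtr

variable {V E : Type u} [Fintype V] [Fintype E] [DecidableEq V] [DecidableEq E]

/-- edge weights `β(e.1) β(e.2)` -/
def wt (ends : E → V × V) (β : V → ℤ) (e : E) : ℤ := β (ends e).1 * β (ends e).2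

theorem mfMatrix_transpose (ends : E → V × V) (β : V → ℤ) :
    (LabGraph.mfMatrix ends β)ᵀ = LabGraph.mfMatrix ends β := by
  ext v w
  rw [Matrix.transpose_apply]
  by_cases h : v = w
  · rw [h]
  · rw [mfMatrix_off ends β h, mfMatrix_off ends β (Ne.symm h), edgeMult_comm]

theorem sum_wt_inc_off (ends : E → V × V) (β : V → ℤ) {i j : V} (hij : i ≠ j) :
    ∑ e, wt ends β e * inc ℤ ends e i * inc ℤ ends e j
      = -(β i * β j * LabGraph.mfMatrix ends β i j) := by
  rw [mfMatrix_off ends β hij]
  unfold LabGraph.edgeMult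
  rw [Finset.card_filter, Nat.cast_sum, Finset.mul_sum, ← Finset.sum_neg_distrib]
  refine Finset.sum_congr rfl fun e _ => ?_
  rw [inc_apply, inc_apply]
  unfold wt
  by_cases h1 : ends e = (i, j)
  · have ha : (ends e).1 = i := by rw [h1]
    have hb : (ends e).2 = j := by rw [h1]
    rw [ha, hb]
    simp [h1, hij, Ne.symm hij]
  · by_cases h2 : ends e = (j, i)
    · have ha : (ends e).1 = j := by rw [h2]
      have hb : (ends e).2 = i := by rw [h2]
      rw [ha, hb]
      simp [h2, hij, Ne.symm hij]
      ring
    · rw [if_neg (show ¬(ends e = (i, j) ∨ ends e = (j, i)) by tauto)]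
      simp only [Nat.cast_zero, mul_zero, neg_zero]
      by_cases ha : (ends e).2 = i
      · have hb : (ends e).1 ≠ j := fun hb => h2 (Prod.ext hb ha)
        have hc : (ends e).2 ≠ j := fun hc => hij (ha.symm.trans hc)
        simp [hb, hc]
      · by_cases hb : (ends e).1 = i
        · have hc : (ends e).2 ≠ j := fun hc => h1 (Prod.ext hb hc)
          have hd : (ends e).1 ≠ j := fun hd => hij (hb.symm.trans hd)
          simp [hc, hd]
        · simp [ha, hb]

theorem sum_wt_inc_diag (ends : E → V × V) (β : V → ℤ) (hβ : LabGraph.IsMultFn ends β) (i : V) :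
    ∑ e, wt ends β e * inc ℤ ends e i * inc ℤ ends e i
      = -(β i * β i * LabGraph.mfMatrix ends β i i) := by
  have h1 : -(β i * β i * LabGraph.mfMatrix ends β i i) = β i * N ends i β := by
    have := diag_mul ends β hβ i
    calc -(β i * β i * LabGraph.mfMatrix ends β i i)
        = -(β i * (LabGraph.mfMatrix ends β i i * β i)) := by ring
      _ = β i * N ends i β := by rw [this]; ring
  rw [h1, N_edge_sum, Finset.mul_sum]
  refine Finset.sum_congr rfl fun e _ => ?_
  rw [inc_apply]
  unfold wt
  by_cases ha : (ends e).1 = i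
  · by_cases hb : (ends e).2 = i
    · simp [ha, hb]
    · simp [ha, hb]
  · by_cases hb : (ends e).2 = i
    · simp [ha, hb]
      rw [← hb]; ring
    · simp [ha, hb]

theorem Cm_apply (α : Matrix V V ℤ) (u : V → ℤ) (i j : V) :
    Cm α u i j = -α i j + u i * u j := by
  show (-α + vecMulVec u u) i j = _
  rw [Matrix.add_apply, Matrix.neg_apply, vecMulVec_apply]

/-- `D (-α + u uᵀ) D` is the weighted Laplacian plus a rank one term -/
theorem gram_eq (ends : E → V × V) (β : V → ℤ) (hβ : LabGraph.IsMultFn ends β) (u : V → ℤ) :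
    LorA.gram (fun o : Option E => o.elim 1 (wt ends β)) (bext ends (fun v => β v * u v))
      = Matrix.of fun i j => β i * (β j * Cm (LabGraph.mfMatrix ends β) u i j) := by
  ext i j
  unfold LorA.gram
  simp only [of_apply]
  rw [Fintype.sum_option]
  simp only [Option.elim_none, Option.elim_some, bext, one_mul]
  rw [Cm_apply]
  by_cases hij : i = j
  · subst hij
    rw [sum_wt_inc_diag ends β hβ]
    ring
  · rw [sum_wt_inc_off ends β hij]
    ring

open Classical in
theorem det_Cm (ends : E → V × V) (β : V → ℤ) (hβ : LabGraph.IsMultFn ends β) (u : V → ℤ)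
    [Nonempty V] :
    (∏ v, β v) ^ 2 * (Cm (LabGraph.mfMatrix ends β) u).det =
      (∑ v, β v * u v) ^ 2 *
        ∑ T ∈ univ.powerset.filter (fun T : Finset E => LabGraph.IsSpanningTree ends T),
          ∏ e ∈ T, wt ends β e := by
  have := det_gram_bext ends (wt ends β) (fun v => β v * u v)
  have hD : (Matrix.of fun i j => β i * (β j * Cm (LabGraph.mfMatrix ends β) u i j))
      = Matrix.of fun i j => β i *
          (Matrix.of fun i j => β j * Cm (LabGraph.mfMatrix ends β) u i j) i j := rfl
  rw [gram_eq ends β hβ u, hD, Matrix.det_mul_column, Matrix.det_mul_row] at this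
  rw [← this]
  ring

end Groth.Agent.Helper7.LorE
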