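import Groth.Agent.Helper7.LorT
import Groth.Agent.Helper7.LorE

set_option autoImplicit false
set_option linter.unusedSectionVars false
universe u
open Finset Matrix

namespace Groth.Agent.Helper7.LorF

open Groth.Agent.Helper7.LorA Groth.Agent.Helper7.LorB Groth.Agent.Helper7.LorC
  Groth.Agent.Helper7.LorD Groth.Agent.Helper7.LorE Groth.Agent.Helper7.LorT

variable {V E : Type u} [Fintype V] [Fintype E] [DecidableEq V] [DecidableEq E]

/-- the edges of a spanning tree (more generally of a sub-forest) are independent modulo 2 -/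
theorem indep_of_forest (ends : E → V × V) (T : Finset E)
    (hT : DualGr.IsForest (fun e : ↥T => ends e.1)) (f : E → ZMod 2)
    (hf : ∑ e ∈ T, f e • inc (ZMod 2) ends e = 0) : ∀ e ∈ T, f e = 0 := by
  have h1 : ∑ e : ↥T, (fun e : ↥T => f e.1) e • inc (ZMod 2) (fun e : ↥T => ends e.1) e = 0 := by
    rw [← hf, ← Finset.sum_coe_sort T]
    rfl
  have := forest_indep _ hT _ h1
  intro e he
  exact congrFun this ⟨e, he⟩

theorem no_loop_of_forest (ends : E → V × V) (T : Finset E)
    (hT : DualGr.IsForest (fun e : ↥T => ends e.1)) {e : E} (he : e ∈ T) :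
    (ends e).1 ≠ (ends e).2 := by
  intro h
  have h0 : inc (ZMod 2) ends e = 0 := by unfold inc; rw [h, sub_self]
  have := indep_of_forest ends T hT (Pi.single e 1) (by
    rw [Finset.sum_eq_single e]
    · rw [h0, smul_zero]
    · intro e' _ hne; rw [Pi.single_eq_of_ne hne, zero_smul]
    · intro h'; exact absurd he h') e he
  simp at this

theorem no_parallel_of_forest (ends : E → V × V) (T : Finset E)
    (hT : DualGr.IsForest (fun e : ↥T => ends e.1)) {e e' : E} (he : e ∈ T) (he' : e' ∈ T)
    (hne : e ≠ e') :
    ¬ (ends e = ends e' ∨ ends e = ((ends e').2, (ends e').1)) := by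
  intro h
  have h0 : inc (ZMod 2) ends e + inc (ZMod 2) ends e' = 0 := by
    rcases h with h | h
    · unfold inc; rw [h]; funext v
      exact CharTwo.add_self_eq_zero (R := ZMod 2) _
    · unfold inc; rw [h]; simp
  have := indep_of_forest ends T hT (Pi.single e 1 + Pi.single e' 1) (by
    rw [← Finset.add_sum_erase T _ he, ← Finset.add_sum_erase (T.erase e) _
      (Finset.mem_erase.mpr ⟨hne.symm, he'⟩)]
    rw [Finset.sum_eq_zero, add_zero]
    · simp only [Pi.add_apply, Pi.single_eq_same, Pi.single_eq_of_ne hne,
        Pi.single_eq_of_ne hne.symm, add_zero, zero_add, one_smul]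
      exact h0
    · intro x hx
      have hx1 : x ≠ e' := Finset.ne_of_mem_erase hx
      have hx2 : x ≠ e := Finset.ne_of_mem_erase (Finset.mem_of_mem_erase hx)
      simp [Pi.single_eq_of_ne hx1, Pi.single_eq_of_ne hx2]) e he
  simp [Pi.single_eq_of_ne hne] at this

/-- in a sub-forest the number of edge ends at a vertex is the number of its neighbours -/
theorem endCount_eq_nbrCount (ends : E → V × V) (T : Finset E)
    (hT : DualGr.IsForest (fun e : ↥T => ends e.1)) (v : V) :
    LabGraph.endCount ends T v = LabGraph.nbrCount ends T v := by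
  unfold LabGraph.endCount LabGraph.nbrCount
  have h1 : ∀ e ∈ T, ((if (ends e).1 = v then 1 else 0) + (if (ends e).2 = v then 1 else 0) : ℕ)
      = if ((ends e).1 = v ∨ (ends e).2 = v) then 1 else 0 := by
    intro e he
    have hl := no_loop_of_forest ends T hT he
    by_cases ha : (ends e).1 = v
    · have hb : (ends e).2 ≠ v := fun hb => hl (ha.trans hb.symm)
      simp [ha, hb]
    · by_cases hb : (ends e).2 = v <;> simp [ha, hb]
  rw [Finset.sum_congr rfl h1, ← Finset.card_filter]
  refine Finset.card_bij (fun e _ => if (ends e).1 = v then (ends e).2 else (ends e).1) ?_ ?_ ?_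
  · intro e he
    rw [Finset.mem_filter] at he
    have hl := no_loop_of_forest ends T hT he.1
    simp only [mem_filter, mem_univ, true_and]
    by_cases ha : (ends e).1 = v
    · rw [if_pos ha]
      refine ⟨fun h => hl (ha.trans h.symm), e, he.1, Or.inl (Prod.ext ha rfl)⟩
    · rw [if_neg ha]
      have hb : (ends e).2 = v := he.2.resolve_left ha
      exact ⟨ha, e, he.1, Or.inr (Prod.ext rfl hb)⟩
  · intro e he e' he' h
    rw [Finset.mem_filter] at he he'
    by_contra hne
    apply no_parallel_of_forest ends T hT he.1 he'.1 hne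
    have hl := no_loop_of_forest ends T hT he.1
    have hl' := no_loop_of_forest ends T hT he'.1
    by_cases ha : (ends e).1 = v
    · rw [if_pos ha] at h
      by_cases ha' : (ends e').1 = v
      · rw [if_pos ha'] at h
        exact Or.inl (Prod.ext (ha.trans ha'.symm) h)
      · rw [if_neg ha'] at h
        have hb' : (ends e').2 = v := he'.2.resolve_left ha'
        exact Or.inr (Prod.ext (ha.trans hb'.symm) h)
    · rw [if_neg ha] at h
      have hb : (ends e).2 = v := he.2.resolve_left ha
      by_cases ha' : (ends e').1 = v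
      · rw [if_pos ha'] at h
        exact Or.inr (Prod.ext h (hb.trans ha'.symm))
      · rw [if_neg ha'] at h
        have hb' : (ends e').2 = v := he'.2.resolve_left ha'
        exact Or.inl (Prod.ext h (hb.trans hb'.symm))
  · intro w hw
    simp only [mem_filter, mem_univ, true_and] at hw
    obtain ⟨hwv, e, he, h | h⟩ := hw
    · refine ⟨e, Finset.mem_filter.mpr ⟨he, Or.inl (by rw [h])⟩, ?_⟩
      rw [h]; simp
    · refine ⟨e, Finset.mem_filter.mpr ⟨he, Or.inr (by rw [h])⟩, ?_⟩
      rw [h]; simp [hwv]

theorem prod_wt_eq (ends : E → V × V) (β : V → ℤ) (T : Finset E) :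
    ∏ e ∈ T, wt ends β e = ∏ v, β v ^ LabGraph.endCount ends T v := by
  unfold LabGraph.endCount wt
  have h1 : ∀ e ∈ T, β (ends e).1 * β (ends e).2
      = ∏ v, β v ^ ((if (ends e).1 = v then 1 else 0) + (if (ends e).2 = v then 1 else 0)) := by
    intro e _
    simp only [pow_add, Finset.prod_mul_distrib]
    congr 1
    · rw [Finset.prod_eq_single (ends e).1]
      · simp
      · intro v _ hv; rw [if_neg (Ne.symm hv), pow_zero]
      · intro h; exact absurd (mem_univ _) h
    · rw [Finset.prod_eq_single (ends e).2]
      · simp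
      · intro v _ hv; rw [if_neg (Ne.symm hv), pow_zero]
      · intro h; exact absurd (mem_univ _) h
  rw [Finset.prod_congr rfl h1, Finset.prod_comm]
  refine Finset.prod_congr rfl fun v _ => ?_
  rw [Finset.prod_pow_eq_pow_sum]

end Groth.Agent.Helper7.LorF
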