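import Groth.Agent.Helper7.LorF

set_option autoImplicit false
set_option linter.unusedSectionVars false
universe u
open Finset Matrix

namespace Groth.Agent.Helper7.LorG

open Groth.Agent.Helper7.LorA Groth.Agent.Helper7.LorB Groth.Agent.Helper7.LorC
  Groth.Agent.Helper7.LorD Groth.Agent.Helper7.LorE Groth.Agent.Helper7.LorT
  Groth.Agent.Helper7.LorF Groth.Agent.Helper7.LabCtr

variable {V E : Type u} [Fintype V] [Fintype E] [DecidableEq V] [DecidableEq E]

open Classical in
theorem main (ends : E → V × V) (β : V → ℤ) (hβ : LabGraph.IsMultFn ends β)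
    (hG : LabGraph.Connected ends) :
    (Nat.card (LabGraph.CompGrp ends β) : ℚ) =
      ((univ.gcd β : ℤ) : ℚ) ^ 2 *
        ∑ T ∈ univ.powerset.filter (fun T : Finset E => LabGraph.IsSpanningTree ends T),
          ∏ v : V, ((β v : ℚ) ^ ((LabGraph.nbrCount ends T v : ℤ) - 2)) := by
  have hne : Nonempty V := hG.1
  obtain ⟨v₀⟩ := id hne
  have hpos : ∀ v, 0 < β v := fun v => (hβ v).1
  set m : ℤ := univ.gcd β with hm
  have hm0 : m ≠ 0 := by
    intro h
    rw [hm, Finset.gcd_eq_zero_iff] at h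
    exact (hpos v₀).ne' (h v₀ (mem_univ _))
  have hdvd : ∀ v, m ∣ β v := fun v => Finset.gcd_dvd (mem_univ v)
  let β' : V → ℤ := fun v => β v / m
  have hβ' : ∀ v, β v = m * β' v := fun v => (Int.mul_ediv_cancel' (hdvd v)).symm
  obtain ⟨u, hu⟩ := Finset.gcd_eq_sum_mul (univ : Finset V) β
  rw [← hm] at hu
  have hu1 : β' ⬝ᵥ u = 1 := by
    have : m * (β' ⬝ᵥ u) = m * 1 := by
      rw [mul_one, dotProduct, Finset.mul_sum]
      conv_rhs => rw [hu]
      refine Finset.sum_congr rfl fun v _ => ?_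
      rw [hβ' v]; ring
    exact mul_left_cancel₀ hm0 this
  set α := LabGraph.mfMatrix ends β with hα
  have h1 : α *ᵥ β' = 0 := by
    have : m • (α *ᵥ β') = 0 := by
      rw [← Matrix.mulVec_smul]
      have : m • β' = β := by funext v; simp [hβ' v]
      rw [this]
      funext v
      exact mulVec_beta ends β hβ v
    exact (smul_eq_zero.mp this).resolve_left hm0
  have h2 : β' ᵥ* α = 0 := by
    rw [← Matrix.mulVec_transpose, hα, mfMatrix_transpose, ← hα, h1]
  have hdet := det_Cm ends β hβ u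
  rw [← hu] at hdet
  -- positivity
  have hwpos : ∀ T : Finset E, 0 < ∏ e ∈ T, wt ends β e := fun T =>
    Finset.prod_pos fun e _ => mul_pos (hpos _) (hpos _)
  obtain ⟨T₀, hT₀⟩ := exists_spanningTree ends hG
  have hsum_pos : 0 < ∑ T ∈ univ.powerset.filter (fun T : Finset E => LabGraph.IsSpanningTree ends T),
      ∏ e ∈ T, wt ends β e :=
    Finset.sum_pos (fun T _ => hwpos T) ⟨T₀, by simp [hT₀]⟩
  have hP : 0 < ∏ v, β v := Finset.prod_pos fun v _ => hpos v
  have hdetpos : 0 < (Cm α u).det := by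
    have : 0 < (∏ v, β v) ^ 2 * (Cm α u).det := by
      rw [hdet]; exact mul_pos (by positivity) hsum_pos
    exact (mul_pos_iff_of_pos_left (by positivity)).mp this
  have hcard := card_compGrp α β β' u m hm0 hβ' h1 h2 hu1 hdetpos.ne'
  have hcardQ : (Nat.card (LabGraph.CompGrp ends β) : ℚ) = ((Cm α u).det : ℚ) := by
    show (Nat.card ((LinearMap.ker (LabGraph.betaHom β)) ⧸
      (LinearMap.range (Matrix.mulVecLin α)).comap (LinearMap.ker (LabGraph.betaHom β)).subtype) : ℚ) = _
    rw [hcard]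
    rw [Nat.cast_natAbs, abs_of_pos hdetpos]
  rw [hcardQ]
  have hdetQ : ((∏ v, β v : ℤ) : ℚ) ^ 2 * ((Cm α u).det : ℚ) = (m : ℚ) ^ 2 *
      ∑ T ∈ univ.powerset.filter (fun T : Finset E => LabGraph.IsSpanningTree ends T),
        ((∏ e ∈ T, wt ends β e : ℤ) : ℚ) := by
    have := congrArg (Int.cast : ℤ → ℚ) hdet
    push_cast at this ⊢
    exact this
  have hPQ : ((∏ v, β v : ℤ) : ℚ) ≠ 0 := by exact_mod_cast hP.ne'
  have hterm : ∀ T ∈ univ.powerset.filter (fun T : Finset E => LabGraph.IsSpanningTree ends T),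
      ∏ v : V, ((β v : ℚ) ^ ((LabGraph.nbrCount ends T v : ℤ) - 2))
        = ((∏ e ∈ T, wt ends β e : ℤ) : ℚ) / ((∏ v, β v : ℤ) : ℚ) ^ 2 := by
    intro T hT
    rw [Finset.mem_filter] at hT
    have hforest : DualGr.IsForest (fun e : ↥T => ends e.1) := hT.2.2
    rw [prod_wt_eq]
    push_cast
    rw [← Finset.prod_pow, ← Finset.prod_div_distrib]
    refine Finset.prod_congr rfl fun v _ => ?_
    have hv : (β v : ℚ) ≠ 0 := by exact_mod_cast (hpos v).ne'
    rw [zpow_sub₀ hv, endCount_eq_nbrCount ends T hforest v]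
    norm_cast
  rw [Finset.sum_congr rfl hterm, ← Finset.sum_div, ← mul_div_assoc, ← hdetQ]
  field_simp

end Groth.Agent.Helper7.LorG
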