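import Groth.Agent.Helper7.LorF

set_option autoImplicit false
set_option linter.unusedSectionVars false
universe u
open Finset Matrix

namespace Groth.Agent.Helper7.LorH

open Groth.Agent.Helper7.LorC Groth.Agent.Helper7.LorT Groth.Agent.Helper7.LorF

variable {V E : Type u} [Fintype V] [Fintype E] [DecidableEq V] [DecidableEq E]

theorem sum_inc_eq_zero_iff (ends : E → V × V) (C : Finset E) :
    ∑ e ∈ C, inc (ZMod 2) ends e = 0 ↔ ∀ v, Even (LabGraph.endCount ends C v) := by
  constructor
  · intro h v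
    have := congrFun h v
    rw [sum_inc_zmod2] at this
    exact (ZMod.natCast_eq_zero_iff_even).mp this
  · intro h
    funext v
    rw [sum_inc_zmod2]
    exact (ZMod.natCast_eq_zero_iff_even).mpr (h v)

theorem sum_indicator (ends : E → V × V) (T C : Finset E) (hCT : C ⊆ T) :
    ∑ e ∈ T, (fun e => if e ∈ C then (1 : ZMod 2) else 0) e • inc (ZMod 2) ends e
      = ∑ e ∈ C, inc (ZMod 2) ends e := by
  rw [← Finset.sum_subset hCT]
  · refine Finset.sum_congr rfl fun e he => ?_
    simp [he]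
  · intro e _ he
    simp [he]

/-- a circuit is not contained in a sub-forest -/
theorem not_subset_of_circuit (ends : E → V × V) (T C : Finset E)
    (hT : DualGr.IsForest (fun e : ↥T => ends e.1)) (hC : LabGraph.IsCircuit ends C) :
    ¬ C ⊆ T := by
  intro hCT
  obtain ⟨e₀, he₀⟩ := hC.1
  have h0 : ∑ e ∈ C, inc (ZMod 2) ends e = 0 := (sum_inc_eq_zero_iff ends C).mpr hC.2.1
  have := indep_of_forest ends T hT _ ((sum_indicator ends T C hCT).trans h0) e₀ (hCT he₀)
  simp [he₀] at this

theorem circuit_erase_indep (ends : E → V × V) (C : Finset E) (hC : LabGraph.IsCircuit ends C)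
    (e₀ : E) (he₀ : e₀ ∈ C) :
    LinearIndepOn (ZMod 2) (inc (ZMod 2) ends) (↑(C.erase e₀) : Set E) := by
  rw [linearIndepOn_finset_iff]
  intro f hf
  by_contra hne
  push Not at hne
  obtain ⟨e₁, he₁, hfe₁⟩ := hne
  set C' := (C.erase e₀).filter (fun e => f e ≠ 0) with hC'
  have hsub : C' ⊂ C := by
    refine ⟨fun e he => Finset.mem_of_mem_erase (Finset.mem_of_mem_filter e he), fun h => ?_⟩
    have := h he₀
    rw [hC', Finset.mem_filter] at this
    exact absurd this.1 (Finset.notMem_erase _ _)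
  have hne' : C'.Nonempty := ⟨e₁, Finset.mem_filter.mpr ⟨he₁, hfe₁⟩⟩
  obtain ⟨v, hv⟩ := hC.2.2 C' hsub hne'
  apply hv
  have h0 : ∑ e ∈ C', inc (ZMod 2) ends e = 0 := by
    rw [← hf, hC', Finset.sum_filter]
    refine Finset.sum_congr rfl fun e _ => ?_
    rcases zmod2_cases (f e) with h | h <;> simp [h]
  exact (sum_inc_eq_zero_iff ends C').mp h0 v

theorem exists_edge_of_endCount_ne_zero (ends : E → V × V) (C : Finset E) (v : V)
    (h : LabGraph.endCount ends C v ≠ 0) :
    ∃ e ∈ C, (ends e).1 = v ∨ (ends e).2 = v := by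
  by_contra hne
  push Not at hne
  apply h
  unfold LabGraph.endCount
  refine Finset.sum_eq_zero fun e he => ?_
  have := hne e he
  simp [this.1, this.2]

theorem main (ends : E → V × V) (hG : LabGraph.Connected ends) (v : V) :
    (∃ C : Finset E, LabGraph.IsCircuit ends C ∧ LabGraph.endCount ends C v ≠ 0) ↔
      ∃ T : Finset E, LabGraph.IsSpanningTree ends T ∧
        ∃ e : E, e ∉ T ∧ ((ends e).1 = v ∨ (ends e).2 = v) := by
  constructor
  · rintro ⟨C, hC, hv⟩
    obtain ⟨e₀, he₀, hev⟩ := exists_edge_of_endCount_ne_zero ends C v hv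
    obtain ⟨T, hsT, hT⟩ := exists_spanningTree_extension ends hG (C.erase e₀)
      (circuit_erase_indep ends C hC e₀ he₀)
    refine ⟨T, hT, e₀, fun he₀T => ?_, hev⟩
    apply not_subset_of_circuit ends T C hT.2 hC
    intro e he
    by_cases h : e = e₀
    · rw [h]; exact he₀T
    · exact hsT (Finset.mem_erase.mpr ⟨h, he⟩)
  · rintro ⟨T, hT, e₀, he₀T, hev⟩
    obtain ⟨c, hc⟩ := exists_coeff (ZMod 2) (fun e : ↥T => ends e.1) hT.1 (inc (ZMod 2) ends e₀)
      (sum_inc (ZMod 2) ends e₀)
    set C₁ : Finset E := T.filter (fun e => ∃ h : e ∈ T, c ⟨e, h⟩ ≠ 0) with hC₁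
    have hC₁T : C₁ ⊆ T := Finset.filter_subset _ _
    have hsum1 : ∑ e ∈ C₁, inc (ZMod 2) ends e = inc (ZMod 2) ends e₀ := by
      rw [← hc, hC₁, Finset.sum_filter, ← Finset.sum_coe_sort T]
      refine Finset.sum_congr rfl fun e _ => ?_
      show _ = c e • inc (ZMod 2) ends e.1
      rcases zmod2_cases (c e) with h | h
      · rw [if_neg, h, zero_smul]
        rintro ⟨_, h'⟩; exact h' h
      · rw [if_pos ⟨e.2, by rw [h]; exact one_ne_zero⟩, h, one_smul]
    have he₀C₁ : e₀ ∉ C₁ := fun h => he₀T (hC₁T h)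
    have hsum : ∑ e ∈ insert e₀ C₁, inc (ZMod 2) ends e = 0 := by
      rw [Finset.sum_insert he₀C₁, hsum1]
      funext w
      exact CharTwo.add_self_eq_zero (R := ZMod 2) _
    obtain ⟨C, hCsub, hC⟩ := exists_circuit_subset ends (insert e₀ C₁) ⟨e₀, Finset.mem_insert_self _ _⟩
      ((sum_inc_eq_zero_iff ends _).mp hsum)
    refine ⟨C, hC, ?_⟩
    have he₀C : e₀ ∈ C := by
      by_contra hnot
      apply not_subset_of_circuit ends T C hT.2 hC
      intro e he
      rcases Finset.mem_insert.mp (hCsub he) with h | h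
      · rw [h] at he; exact absurd he hnot
      · exact hC₁T h
    unfold LabGraph.endCount
    intro h0
    have := (Finset.sum_eq_zero_iff.mp h0) e₀ he₀C
    rcases hev with h | h <;> simp [h] at this

end Groth.Agent.Helper7.LorH
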