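import Groth.Agent.Helper7.LorP

set_option autoImplicit false
set_option linter.unusedSectionVars false
universe u v
open Finset Matrix

namespace Groth.Agent.Helper7.LorQ

open Groth.Agent.Helper7.LorA Groth.Agent.Helper7.LorC Groth.Agent.Helper7.LorT
  Groth.Agent.Helper7.LorF Groth.Agent.Helper7.LorH Groth.Agent.Helper7.LorP

variable {V E : Type u} [Fintype V] [Fintype E] [DecidableEq V] [DecidableEq E]

/-- a function with zero coboundary on a connected graph is constant -/
theorem eq_of_dlt_eq_zero (ends : E → V × V) (hG : LabGraph.Connected ends) (h : V → ℤ)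
    (hh : ∀ e, dlt ends h e = 0) (v w : V) : h v = h w := by
  have := hG.2 v w
  induction this with
  | refl => rfl
  | tail _ hbc ih =>
    obtain ⟨e, he | he⟩ := hbc
    · have := hh e; unfold dlt at this; rw [he] at this; simp only at this; rw [ih]; omega
    · have := hh e; unfold dlt at this; rw [he] at this; simp only at this; rw [ih]; omega

/-- if the coboundary of `g` vanishes on the edges of a circuit other than `e₀`, it vanishes at `e₀` -/
theorem dlt_eq_zero_of_circuit (ends : E → V × V) (C : Finset E) (hC : LabGraph.IsCircuit ends C)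
    (e₀ : E) (he₀ : e₀ ∈ C) (g : V → ℤ) (hg : ∀ e ∈ C.erase e₀, dlt ends g e = 0) :
    dlt ends g e₀ = 0 := by
  have := circuit_connects ends C hC e₀ he₀ (univ.filter fun v => g v = g (ends e₀).1) (by
    intro e he
    have := hg e he
    unfold dlt at this
    simp only [mem_filter, mem_univ, true_and]
    constructor <;> intro h <;> omega)
  simp only [mem_filter, mem_univ, true_and, true_iff] at this
  unfold dlt
  omega

/-- the part of the coboundary of `f` carried by the edges with a given label is a coboundary, when
labels are constant on circuits -/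
theorem exists_part {L : Type v} (ends : E → V × V) (lab : E → L) (hG : LabGraph.Connected ends)
    (hcirc : ∀ C : Finset E, LabGraph.IsCircuit ends C → ∀ e ∈ C, ∀ e' ∈ C, lab e = lab e')
    (f : V → ℤ) (v₀ : V) (lam : L) :
    ∃ φ : V → ℤ, φ v₀ = 0 ∧ ∀ e, dlt ends φ e = (open Classical in if lab e = lam then dlt ends f e else 0) := by
  classical
  obtain ⟨T, hT⟩ := exists_spanningTree ends hG
  obtain ⟨φ, hφ0, hφ⟩ := exists_potential_on_tree ends T hT
    (fun e => if lab e = lam then dlt ends f e else 0) v₀ 0
  refine ⟨φ, hφ0, fun e₀ => ?_⟩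
  by_cases he₀ : e₀ ∈ T
  · exact hφ e₀ he₀
  · obtain ⟨C, hC, he₀C, hCsub⟩ := exists_circuit_through ends T hT e₀ he₀
    have hmemT : ∀ e ∈ C.erase e₀, e ∈ T := by
      intro e he
      rcases Finset.mem_insert.mp (hCsub (Finset.mem_of_mem_erase he)) with h | h
      · exact absurd h (Finset.ne_of_mem_erase he)
      · exact h
    have hlab : ∀ e ∈ C.erase e₀, lab e = lab e₀ := fun e he =>
      hcirc C hC e (Finset.mem_of_mem_erase he) e₀ he₀C
    by_cases hl : lab e₀ = lam
    · rw [if_pos hl]
      have := dlt_eq_zero_of_circuit ends C hC e₀ he₀C (f - φ) (by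
        intro e he
        have h1 := hφ e (hmemT e he)
        rw [if_pos ((hlab e he).trans hl)] at h1
        unfold dlt at h1 ⊢
        simp only [Pi.sub_apply]
        omega)
      unfold dlt at this ⊢
      simp only [Pi.sub_apply] at this
      omega
    · rw [if_neg hl]
      exact dlt_eq_zero_of_circuit ends C hC e₀ he₀C φ (by
        intro e he
        have h1 := hφ e (hmemT e he)
        rw [if_neg (by rw [hlab e he]; exact hl)] at h1
        exact h1)

theorem main {L : Type v} (ends : E → V × V) (lab : E → L) (n : E → ℕ)
    (hconn : LabGraph.Connected ends)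
    (hcirc : ∀ C : Finset E, LabGraph.IsCircuit ends C → ∀ e ∈ C, ∀ e' ∈ C, lab e = lab e')
    (f : V → ℤ) (hf : LabGraph.IsCartier ends n f) (v₀ : V) :
    f - (fun _ => f v₀) ∈ AddSubmonoid.closure {g : V → ℤ | LabGraph.IsCartier ends n g ∧
      (∃ B : Finset E, (∀ e ∈ B, ∀ e' ∈ B, lab e = lab e') ∧
        ∀ e, e ∉ B → g (ends e).1 = g (ends e).2) ∧ g v₀ = 0} := by
  classical
  choose F hF0 hF using fun lam => exists_part ends lab hconn hcirc f v₀ lam
  have hsum : f - (fun _ => f v₀) = ∑ lam ∈ univ.image lab, F lam := by
    have hd : ∀ e, dlt ends (f - (fun _ => f v₀) - ∑ lam ∈ univ.image lab, F lam) e = 0 := by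
      intro e
      have h1 : dlt ends (f - (fun _ => f v₀) - ∑ lam ∈ univ.image lab, F lam) e
          = dlt ends f e - ∑ lam ∈ univ.image lab, dlt ends (F lam) e := by
        unfold dlt
        simp only [Pi.sub_apply, Finset.sum_apply, Finset.sum_sub_distrib]
        ring
      rw [h1]
      have h2 : ∑ lam ∈ univ.image lab, dlt ends (F lam) e = dlt ends f e := by
        rw [Finset.sum_eq_single (lab e)]
        · rw [hF]; simp
        · intro lam _ hne
          rw [hF, if_neg (Ne.symm hne)]
        · intro h
          exact absurd (Finset.mem_image_of_mem lab (mem_univ e)) h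
      rw [h2, sub_self]
    funext v
    have := eq_of_dlt_eq_zero ends hconn _ hd v v₀
    simp only [Pi.sub_apply, Finset.sum_apply, hF0, Finset.sum_const_zero, sub_self] at this
    simp only [Pi.sub_apply, Finset.sum_apply]
    omega
  rw [hsum]
  refine AddSubmonoid.sum_mem _ fun lam _ => AddSubmonoid.subset_closure ⟨?_, ⟨univ.filter (fun e => lab e = lam), ?_, ?_⟩, hF0 lam⟩
  · intro e
    have := hF lam e
    unfold dlt at this
    by_cases hl : lab e = lam
    · rw [if_pos hl] at this
      have h2 := hf e
      have : F lam (ends e).1 - F lam (ends e).2 = f (ends e).1 - f (ends e).2 := by omega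
      rw [this]; exact h2
    · rw [if_neg hl] at this
      have : F lam (ends e).1 - F lam (ends e).2 = 0 := by omega
      rw [this]; exact dvd_zero _
  · intro e he e' he'
    rw [(Finset.mem_filter.mp he).2, (Finset.mem_filter.mp he').2]
  · intro e he
    have hl : lab e ≠ lam := fun h => he (Finset.mem_filter.mpr ⟨mem_univ _, h⟩)
    have := hF lam e
    unfold dlt at this
    rw [if_neg hl] at this
    omega

end Groth.Agent.Helper7.LorQ
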