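import Groth.Agent.Helper7.LorQ

set_option autoImplicit false
set_option linter.unusedSectionVars false
universe u v
open Finset Matrix

namespace Groth.Agent.Helper7.LorR

open Groth.Agent.Helper7.LorA Groth.Agent.Helper7.LorC Groth.Agent.Helper7.LorT
  Groth.Agent.Helper7.LorF Groth.Agent.Helper7.LorH Groth.Agent.Helper7.LorP
  Groth.Agent.Helper7.LorQ

variable {V E : Type u} [Fintype V] [Fintype E] [DecidableEq V] [DecidableEq E]

theorem dlt_comb (ends : E → V × V) (c c' : ℤ) (φ φ' : V → ℤ) (e : E) :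
    dlt ends (c • φ + c' • φ') e = c * dlt ends φ e + c' * dlt ends φ' e := by
  unfold dlt
  simp only [Pi.add_apply, Pi.smul_apply, smul_eq_mul]
  ring

/-- summation by parts: cycles are orthogonal to coboundaries -/
theorem sum_mul_dlt (ends : E → V × V) (γ : E → ℤ) (φ : V → ℤ) :
    ∑ e, γ e * dlt ends φ e = ∑ v, φ v * LabGraph.boundary ends γ v := by
  unfold LabGraph.boundary dlt
  simp only [Finset.mul_sum]
  rw [Finset.sum_comm]
  refine Finset.sum_congr rfl fun e _ => ?_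
  simp only [mul_sub, mul_ite, mul_zero, Finset.sum_sub_distrib, Finset.sum_ite_eq, mem_univ,
    if_true]
  ring

theorem boundary_eq_sum_inc (ends : E → V × V) (γ : E → ℤ) (v : V) :
    LabGraph.boundary ends γ v = ∑ e, γ e * inc ℤ ends e v := by
  unfold LabGraph.boundary
  refine Finset.sum_congr rfl fun e _ => ?_
  rw [inc_apply]
  by_cases h1 : (ends e).2 = v <;> by_cases h2 : (ends e).1 = v <;> simp [h1, h2]

/-- an integer edge vector orthogonal to all integer cycles is a coboundary -/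
theorem exists_dlt_of_orth (ends : E → V × V) (hG : LabGraph.Connected ends) (z : E → ℤ)
    (hz : ∀ γ : E → ℤ, (∀ v : V, LabGraph.boundary ends γ v = 0) → ∑ e, γ e * z e = 0) :
    ∃ φ : V → ℤ, ∀ e, z e = dlt ends φ e := by
  obtain ⟨T, hT⟩ := exists_spanningTree ends hG
  obtain ⟨v₀⟩ := hG.1
  obtain ⟨φ, -, hφ⟩ := exists_potential_on_tree ends T hT z v₀ 0
  refine ⟨φ, fun e₀ => ?_⟩
  by_cases he₀ : e₀ ∈ T
  · exact (hφ e₀ he₀).symm
  · obtain ⟨c, hc⟩ := exists_coeff ℤ (fun e : ↥T => ends e.1) hT.1 (inc ℤ ends e₀)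
      (sum_inc ℤ ends e₀)
    let γ : E → ℤ := fun e => if e = e₀ then 1 else if h : e ∈ T then -c ⟨e, h⟩ else 0
    have hγ0 : γ e₀ = 1 := by simp [γ]
    have hγT : ∀ e (h : e ∈ T), γ e = -c ⟨e, h⟩ := by
      intro e h
      have : e ≠ e₀ := fun h' => he₀ (h' ▸ h)
      simp [γ, this, h]
    have hγn : ∀ e, e ≠ e₀ → e ∉ T → γ e = 0 := by
      intro e h1 h2; simp [γ, h1, h2]
    have hsupp : ∀ (F : E → ℤ), ∑ e, γ e * F e = F e₀ - ∑ e : ↥T, c e * F e.1 := by
      intro F
      rw [← Finset.add_sum_erase _ _ (mem_univ e₀), hγ0, one_mul, sub_eq_add_neg]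
      congr 1
      rw [← Finset.sum_neg_distrib]
      have : ∑ e ∈ univ.erase e₀, γ e * F e = ∑ e ∈ T, γ e * F e := by
        symm
        apply Finset.sum_subset
        · intro e he
          exact Finset.mem_erase.mpr ⟨fun h => he₀ (h ▸ he), mem_univ _⟩
        · intro e he hnT
          rw [hγn e (Finset.ne_of_mem_erase he) hnT, zero_mul]
      rw [this, ← Finset.sum_coe_sort T]
      refine Finset.sum_congr rfl fun e _ => ?_
      rw [hγT e.1 e.2]
      ring
    have hcyc : ∀ v, LabGraph.boundary ends γ v = 0 := by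
      intro v
      rw [boundary_eq_sum_inc, hsupp (fun e => inc ℤ ends e v)]
      have := congrFun hc v
      simp only [Finset.sum_apply, Pi.smul_apply, smul_eq_mul] at this
      rw [sub_eq_zero]
      exact this.symm
    have h1 := hz γ hcyc
    have h2 : ∑ e, γ e * dlt ends φ e = 0 := by
      rw [sum_mul_dlt]
      exact Finset.sum_eq_zero fun v _ => by rw [hcyc v, mul_zero]
    rw [hsupp] at h1 h2
    have h3 : ∑ e : ↥T, c e * z e.1 = ∑ e : ↥T, c e * dlt ends φ e.1 :=
      Finset.sum_congr rfl fun e _ => by rw [hφ e.1 e.2]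
    linarith

/-- edges whose label is divisible by `p` form a mod 2 independent set in a circuit-coprime graph -/
theorem indep_of_coprime (ends : E → V × V) (l : E → ℕ) (hcc : LabGraph.IsCircuitCoprime ends l)
    (p : ℕ) (hp : p.Prime) :
    LinearIndepOn (ZMod 2) (inc (ZMod 2) ends) (↑(univ.filter fun e => p ∣ l e) : Set E) := by
  rw [linearIndepOn_finset_iff]
  intro f hf
  by_contra hne
  push Not at hne
  obtain ⟨e₁, he₁, hfe₁⟩ := hne
  set C₀ := (univ.filter fun e => p ∣ l e).filter (fun e => f e ≠ 0) with hC₀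
  have h0 : ∑ e ∈ C₀, inc (ZMod 2) ends e = 0 := by
    rw [← hf, hC₀, Finset.sum_filter]
    refine Finset.sum_congr rfl fun e _ => ?_
    rcases zmod2_cases (f e) with h | h <;> simp [h]
  obtain ⟨C, hCsub, hC⟩ := exists_circuit_subset ends C₀ ⟨e₁, Finset.mem_filter.mpr ⟨he₁, hfe₁⟩⟩
    ((sum_inc_eq_zero_iff ends C₀).mp h0)
  have hdvd : p ∣ C.gcd l := by
    apply Finset.dvd_gcd
    intro e he
    have := hCsub he
    rw [hC₀, Finset.mem_filter, Finset.mem_filter] at this
    exact this.1.2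
  rw [hcc C hC] at hdvd
  exact hp.one_lt.ne' (Nat.dvd_one.mp hdvd)

theorem exists_potential_prime_pow (ends : E → V × V) (hG : LabGraph.Connected ends) (l : E → ℕ)
    (hcc : LabGraph.IsCircuitCoprime ends l) (p k : ℕ) (hp : p.Prime) (x : E → ℤ) :
    ∃ φ : V → ℤ, ∀ e, ((Nat.gcd (l e) (p ^ k) : ℕ) : ℤ) ∣ x e - dlt ends φ e := by
  obtain ⟨T, hsub, hT⟩ := exists_spanningTree_extension ends hG _ (indep_of_coprime ends l hcc p hp)
  obtain ⟨v₀⟩ := hG.1
  obtain ⟨φ, -, hφ⟩ := exists_potential_on_tree ends T hT x v₀ 0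
  refine ⟨φ, fun e => ?_⟩
  by_cases he : p ∣ l e
  · rw [hφ e (hsub (Finset.mem_filter.mpr ⟨mem_univ _, he⟩)), sub_self]
    exact dvd_zero _
  · have : Nat.gcd (l e) (p ^ k) = 1 :=
      Nat.Coprime.pow_right k ((Nat.Prime.coprime_iff_not_dvd hp).mpr he).symm
    rw [this]
    simp

theorem exists_potential_gcd (ends : E → V × V) (hG : LabGraph.Connected ends) (l : E → ℕ)
    (hcc : LabGraph.IsCircuitCoprime ends l) (d : ℕ) (hd : d ≠ 0) (x : E → ℤ) :
    ∃ φ : V → ℤ, ∀ e, ((Nat.gcd (l e) d : ℕ) : ℤ) ∣ x e - dlt ends φ e := by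
  induction d using Nat.recOnPosPrimePosCoprime generalizing x with
  | prime_pow p k hp _ => exact exists_potential_prime_pow ends hG l hcc p k hp x
  | zero => exact absurd rfl hd
  | one => exact ⟨0, fun e => by simp⟩
  | coprime a b ha hb hab iha ihb =>
    obtain ⟨φa, hφa⟩ := iha (by omega) x
    obtain ⟨φb, hφb⟩ := ihb (by omega) x
    have hcop : IsCoprime (a : ℤ) (b : ℤ) := Nat.isCoprime_iff_coprime.mpr hab
    obtain ⟨s, t, hst⟩ := hcop
    refine ⟨(t * b) • φa + (s * a) • φb, fun e => ?_⟩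
    rw [dlt_comb]
    have hx : x e - (t * b * dlt ends φa e + s * a * dlt ends φb e)
        = t * b * (x e - dlt ends φa e) + s * a * (x e - dlt ends φb e) := by
      have : x e = (s * a + t * b) * x e := by rw [hst, one_mul]
      nth_rewrite 1 [this]
      ring
    rw [hx, Nat.Coprime.gcd_mul _ hab]
    push_cast
    have hga : ((Nat.gcd (l e) a : ℕ) : ℤ) ∣ (a : ℤ) := Int.natCast_dvd_natCast.mpr (Nat.gcd_dvd_right _ _)
    have hgb : ((Nat.gcd (l e) b : ℕ) : ℤ) ∣ (b : ℤ) := Int.natCast_dvd_natCast.mpr (Nat.gcd_dvd_right _ _)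
    have hcop' : IsCoprime ((Nat.gcd (l e) a : ℕ) : ℤ) ((Nat.gcd (l e) b : ℕ) : ℤ) := by
      apply Nat.isCoprime_iff_coprime.mpr
      exact Nat.Coprime.coprime_dvd_left (Nat.gcd_dvd_right _ _)
        (Nat.Coprime.coprime_dvd_right (Nat.gcd_dvd_right _ _) hab)
    apply hcop'.mul_dvd
    · apply dvd_add
      · exact Dvd.dvd.mul_left (hφa e) _
      · exact Dvd.dvd.mul_right (Dvd.dvd.mul_left hga _) _
    · apply dvd_add
      · exact Dvd.dvd.mul_right (Dvd.dvd.mul_left hgb _) _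
      · exact Dvd.dvd.mul_left (hφb e) _

/-- circuit-coprime graphs: every system of residues of edge differences is realised -/
theorem exists_potential (ends : E → V × V) (hG : LabGraph.Connected ends) (l : E → ℕ)
    (hl : ∀ e, 0 < l e) (hcc : LabGraph.IsCircuitCoprime ends l) (x : E → ℤ) :
    ∃ φ : V → ℤ, ∀ e, (l e : ℤ) ∣ x e - dlt ends φ e := by
  have hd : (∏ e, l e) ≠ 0 := Finset.prod_ne_zero_iff.mpr fun e _ => (hl e).ne'
  obtain ⟨φ, hφ⟩ := exists_potential_gcd ends hG l hcc _ hd x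
  refine ⟨φ, fun e => ?_⟩
  have := hφ e
  rwa [Nat.gcd_eq_left (Finset.dvd_prod_of_mem l (mem_univ e))] at this

theorem coprime_of_exists_potential (ends : E → V × V) (l : E → ℕ) (hl : ∀ e, 0 < l e)
    (h : ∀ x : E → ℤ, ∃ φ : V → ℤ, ∀ e, (l e : ℤ) ∣ x e - dlt ends φ e) :
    LabGraph.IsCircuitCoprime ends l := by
  intro C hC
  by_contra hne
  obtain ⟨p, hp, hpd⟩ := Nat.exists_prime_and_dvd hne
  obtain ⟨e₀, he₀⟩ := hC.1
  obtain ⟨φ, hφ⟩ := h (Pi.single e₀ 1)
  have hpl : ∀ e ∈ C, (p : ℤ) ∣ (l e : ℤ) := fun e he =>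
    Int.natCast_dvd_natCast.mpr (hpd.trans (Finset.gcd_dvd he))
  have hcl := circuit_connects ends C hC e₀ he₀
    (univ.filter fun v => (p : ℤ) ∣ φ v - φ (ends e₀).1) (by
    intro e he
    have h1 := (hpl e (Finset.mem_of_mem_erase he)).trans (hφ e)
    rw [Pi.single_eq_of_ne (Finset.ne_of_mem_erase he), zero_sub, dvd_neg] at h1
    unfold dlt at h1
    simp only [mem_filter, mem_univ, true_and]
    constructor
    · intro h2
      have := dvd_add h1 h2
      rwa [sub_add_sub_cancel] at this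
    · intro h2
      have := dvd_sub h2 h1
      rwa [sub_sub_sub_cancel_left] at this)
  simp only [mem_filter, mem_univ, true_and, sub_self, dvd_zero, true_iff] at hcl
  have h1 := (hpl e₀ he₀).trans (hφ e₀)
  rw [Pi.single_eq_same] at h1
  unfold dlt at h1
  have := dvd_add h1 hcl
  rw [sub_add_cancel] at this
  exact hp.one_lt.ne' (Nat.dvd_one.mp (Int.natCast_dvd_natCast.mp (by simpa using this)))

theorem main (ends : E → V × V) (l : E → ℕ) (hl : ∀ e, 0 < l e) (hconn : LabGraph.Connected ends) :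
    LabGraph.IsCircuitCoprime ends l ↔
      ∀ x : E → ℤ, ∃ y : E → ℤ, ∀ γ : E → ℤ, (∀ v : V, LabGraph.boundary ends γ v = 0) →
        ∑ e : E, γ e * (x e - (l e : ℤ) * y e) = 0 := by
  constructor
  · intro hcc x
    obtain ⟨φ, hφ⟩ := exists_potential ends hconn l hl hcc x
    choose y hy using hφ
    refine ⟨y, fun γ hγ => ?_⟩
    have : ∀ e, x e - (l e : ℤ) * y e = dlt ends φ e := fun e => by rw [← hy e]; ring
    simp only [this]
    rw [sum_mul_dlt]
    exact Finset.sum_eq_zero fun v _ => by rw [hγ v, mul_zero]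
  · intro h
    apply coprime_of_exists_potential ends l hl
    intro x
    obtain ⟨y, hy⟩ := h x
    obtain ⟨φ, hφ⟩ := exists_dlt_of_orth ends hconn (fun e => x e - (l e : ℤ) * y e) hy
    refine ⟨φ, fun e => ⟨y e, ?_⟩⟩
    have := hφ e
    linarith

end Groth.Agent.Helper7.LorR
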