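import Groth.Agent.Helper7.LorR

set_option autoImplicit false
set_option linter.unusedSectionVars false
universe u v
open Finset Matrix

namespace Groth.Agent.Helper7.LorS

open Groth.Agent.Helper7.LorP Groth.Agent.Helper7.LorR

variable {V E : Type u} [Fintype V] [Fintype E] [DecidableEq V] [DecidableEq E]

theorem pathVert_zero (ends : E → V × V) (l : E → ℕ) (e : E) :
    LabGraph.pathVert ends l e 0 = Sum.inl (ends e).1 := by
  unfold LabGraph.pathVert; simp

theorem pathVert_mid (ends : E → V × V) (l : E → ℕ) (e : E) (j : ℕ) (h0 : j ≠ 0) (h : j < l e) :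
    LabGraph.pathVert ends l e j = Sum.inr ⟨e, ⟨j - 1, by omega⟩⟩ := by
  unfold LabGraph.pathVert; simp [h0, h]

theorem pathVert_end (ends : E → V × V) (l : E → ℕ) (e : E) (j : ℕ) (h0 : j ≠ 0) (h : l e ≤ j) :
    LabGraph.pathVert ends l e j = Sum.inl (ends e).2 := by
  unfold LabGraph.pathVert; simp [h0, not_lt.mpr h]

theorem pathVert_eq_inr_iff (ends : E → V × V) (l : E → ℕ) (e' : E) (j : ℕ) (e : E)
    (i : Fin (l e - 1)) :
    LabGraph.pathVert ends l e' j = Sum.inr ⟨e, i⟩ ↔ e' = e ∧ j = i.val + 1 := by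
  have hi := i.2
  by_cases h0 : j = 0
  · subst h0
    rw [pathVert_zero]
    simp
  · by_cases h : j < l e'
    · rw [pathVert_mid ends l e' j h0 h]
      constructor
      · intro heq
        have h1 := Sum.inr.inj heq
        have h2 : e' = e := congrArg Sigma.fst h1
        subst h2
        have h3 := eq_of_heq (Sigma.mk.inj h1).2
        have h4 := congrArg Fin.val h3
        simp only at h4
        exact ⟨rfl, by omega⟩
      · rintro ⟨rfl, hj⟩
        congr 2
        apply Fin.ext
        simp only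
        omega
    · rw [pathVert_end ends l e' j h0 (not_lt.mp h)]
      constructor
      · intro h'; exact absurd h' (by simp)
      · rintro ⟨rfl, hj⟩
        omega

/-- sum over the blown-up edges of a function supported at one edge -/
theorem sum_blEdge_single (l : E → ℕ) (e : E) (k : ℕ) (hk : k < l e) (G : E → ℕ → ℤ) :
    ∑ p : LabGraph.BlEdge E l, (if p.1 = e ∧ p.2.val = k then G p.1 p.2.val else 0) = G e k := by
  rw [Finset.sum_eq_single (⟨e, ⟨k, hk⟩⟩ : LabGraph.BlEdge E l)]
  · simp
  · rintro ⟨e', j⟩ _ hne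
    rw [if_neg]
    rintro ⟨h1, h2⟩
    apply hne
    simp only at h1 h2
    subst h1
    congr 1
    exact Fin.ext h2
  · intro h; exact absurd (mem_univ _) h

/-- the multidegree of a labelling of the blown-up graph at a new vertex -/
theorem mdeg_inr (ends : E → V × V) (l : E → ℕ) (ψ : LabGraph.BlVert V E l → ℤ) (e : E)
    (i : Fin (l e - 1)) :
    LabGraph.mdeg (LabGraph.blEnds ends l) (fun _ => 1) ψ (Sum.inr ⟨e, i⟩)
      = (ψ (LabGraph.pathVert ends l e i.val) - ψ (LabGraph.pathVert ends l e (i.val + 1)))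
        + (ψ (LabGraph.pathVert ends l e (i.val + 2)) - ψ (LabGraph.pathVert ends l e (i.val + 1))) := by
  have hi := i.2
  unfold LabGraph.mdeg
  rw [Finset.sum_add_distrib]
  simp only [Nat.cast_one, Int.ediv_one, LabGraph.blEnds]
  have h1 : ∀ p : LabGraph.BlEdge E l,
      (if LabGraph.pathVert ends l p.1 p.2.val = Sum.inr ⟨e, i⟩ then
        ψ (LabGraph.pathVert ends l p.1 (p.2.val + 1)) - ψ (LabGraph.pathVert ends l p.1 p.2.val) else 0)
      = (if p.1 = e ∧ p.2.val = i.val + 1 then
          (fun e' k => ψ (LabGraph.pathVert ends l e' (k + 1)) - ψ (LabGraph.pathVert ends l e' k)) p.1 p.2.val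
          else 0) := by
    intro p
    simp only [pathVert_eq_inr_iff]
  have h2 : ∀ p : LabGraph.BlEdge E l,
      (if LabGraph.pathVert ends l p.1 (p.2.val + 1) = Sum.inr ⟨e, i⟩ then
        ψ (LabGraph.pathVert ends l p.1 p.2.val) - ψ (LabGraph.pathVert ends l p.1 (p.2.val + 1)) else 0)
      = (if p.1 = e ∧ p.2.val = i.val then
          (fun e' k => ψ (LabGraph.pathVert ends l e' k) - ψ (LabGraph.pathVert ends l e' (k + 1))) p.1 p.2.val
          else 0) := by
    intro p
    simp only [pathVert_eq_inr_iff, Nat.add_right_cancel_iff]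
  rw [Finset.sum_congr rfl (fun p _ => h1 p), Finset.sum_congr rfl (fun p _ => h2 p),
    sum_blEdge_single l e (i.val + 1) (by omega)
      (fun e' k => ψ (LabGraph.pathVert ends l e' (k + 1)) - ψ (LabGraph.pathVert ends l e' k)),
    sum_blEdge_single l e i.val (by omega)
      (fun e' k => ψ (LabGraph.pathVert ends l e' k) - ψ (LabGraph.pathVert ends l e' (k + 1)))]
  ring

theorem coprime_of_surj (ends : E → V × V) (l : E → ℕ) (hl : ∀ e, 0 < l e)
    (h : ∀ β : LabGraph.BlVert V E l → ℤ, ∃ (ψ : LabGraph.BlVert V E l → ℤ) (α : V → ℤ),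
        ∀ w : LabGraph.BlVert V E l,
          LabGraph.mdeg (LabGraph.blEnds ends l) (fun _ => 1) ψ w + β w
            = Sum.elim α (fun _ => (0 : ℤ)) w) :
    LabGraph.IsCircuitCoprime ends l := by
  apply coprime_of_exists_potential ends l hl
  intro x
  let β : LabGraph.BlVert V E l → ℤ :=
    Sum.elim (fun _ => 0) (fun q => if q.2.val + 2 = l q.1 then - x q.1 else 0)
  obtain ⟨ψ, α, hψ⟩ := h β
  refine ⟨fun v => ψ (Sum.inl v), fun e => ?_⟩
  set s : ℕ → ℤ := fun j => ψ (LabGraph.pathVert ends l e j) with hs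
  have hs0 : s 0 = ψ (Sum.inl (ends e).1) := by rw [hs]; simp only; rw [pathVert_zero]
  have hsl : s (l e) = ψ (Sum.inl (ends e).2) := by
    rw [hs]; simp only; rw [pathVert_end ends l e (l e) (hl e).ne' le_rfl]
  have hrel : ∀ i, i + 2 ≤ l e →
      s i - 2 * s (i + 1) + s (i + 2) + (if i + 2 = l e then - x e else 0) = 0 := by
    intro i hi
    have := hψ (Sum.inr ⟨e, ⟨i, by omega⟩⟩)
    rw [mdeg_inr] at this
    simp only [β, Sum.elim_inr] at this
    rw [hs]
    simp only
    linarith
  have hd : dlt ends (fun v => ψ (Sum.inl v)) e = s (l e) - s 0 := by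
    unfold dlt; rw [hs0, hsl]
  rw [hd]
  by_cases h1 : l e = 1
  · rw [h1]; simp
  · obtain ⟨m, hm⟩ : ∃ m, l e = m + 2 := ⟨l e - 2, by have := hl e; omega⟩
    have hprog : ∀ j, j + 1 < l e →
        s j = s 0 + j * (s 1 - s 0) ∧ s (j + 1) = s 0 + ((j : ℤ) + 1) * (s 1 - s 0) := by
      intro j
      induction j with
      | zero => intro _; constructor <;> simp
      | succ j ih =>
        intro hj
        obtain ⟨h1, h2⟩ := ih (by omega)
        refine ⟨by push_cast; exact h2, ?_⟩
        have := hrel j (by omega)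
        rw [if_neg (by omega)] at this
        push_cast
        rw [show j + 1 + 1 = j + 2 by ring]
        linarith
    obtain ⟨h2, h3⟩ := hprog m (by omega)
    have := hrel m (by omega)
    rw [if_pos hm.symm] at this
    rw [show m + 2 = l e by omega] at this
    rw [show m + 1 = l e - 1 by omega] at this h3
    refine ⟨-(s 1 - s 0), ?_⟩
    have hle : (l e : ℤ) = (m : ℤ) + 2 := by rw [hm]; push_cast; ring
    rw [hle]
    linarith

/-- particular solution of the second order recursion with zero initial data -/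
def tseq (b : ℕ → ℤ) : ℕ → ℤ
  | 0 => 0
  | 1 => 0
  | (i + 2) => 2 * tseq b (i + 1) - tseq b i - b i

theorem surj_of_coprime (ends : E → V × V) (l : E → ℕ) (hl : ∀ e, 0 < l e)
    (hG : LabGraph.Connected ends) (hcc : LabGraph.IsCircuitCoprime ends l)
    (β : LabGraph.BlVert V E l → ℤ) :
    ∃ (ψ : LabGraph.BlVert V E l → ℤ) (α : V → ℤ),
        ∀ w : LabGraph.BlVert V E l,
          LabGraph.mdeg (LabGraph.blEnds ends l) (fun _ => 1) ψ w + β w
            = Sum.elim α (fun _ => (0 : ℤ)) w := by
  let bE : E → ℕ → ℤ := fun e i => if h : i < l e - 1 then β (Sum.inr ⟨e, ⟨i, h⟩⟩) else 0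
  obtain ⟨φ, hφ⟩ := exists_potential ends hG l hl hcc (fun e => tseq (bE e) (l e))
  choose σ' hσ' using hφ
  let σ : E → ℤ := fun e => - σ' e
  have hσ : ∀ e, φ (ends e).2 = φ (ends e).1 + (l e : ℤ) * σ e + tseq (bE e) (l e) := by
    intro e
    have := hσ' e
    unfold dlt at this
    simp only [σ]
    linarith
  let ψ : LabGraph.BlVert V E l → ℤ :=
    Sum.elim φ (fun q => φ (ends q.1).1 + ((q.2.val : ℤ) + 1) * σ q.1 + tseq (bE q.1) (q.2.val + 1))
  have hs : ∀ e j, j ≤ l e →
      ψ (LabGraph.pathVert ends l e j) = φ (ends e).1 + (j : ℤ) * σ e + tseq (bE e) j := by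
    intro e j hj
    by_cases h0 : j = 0
    · subst h0
      rw [pathVert_zero]
      simp [ψ, tseq]
    · by_cases h1 : j < l e
      · rw [pathVert_mid ends l e j h0 h1]
        simp only [ψ, Sum.elim_inr]
        have : j - 1 + 1 = j := by omega
        rw [this]
        have : ((j - 1 : ℕ) : ℤ) + 1 = (j : ℤ) := by
          rw [Nat.cast_sub (by omega)]; simp
        rw [this]
      · have hj' : j = l e := by omega
        rw [pathVert_end ends l e j h0 (by omega), hj']
        simp only [ψ, Sum.elim_inl]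
        exact hσ e
  refine ⟨ψ, fun v => LabGraph.mdeg (LabGraph.blEnds ends l) (fun _ => 1) ψ (Sum.inl v) + β (Sum.inl v), ?_⟩
  rintro (v | ⟨e, i⟩)
  · rfl
  · have hi := i.2
    rw [mdeg_inr, hs e i.val (by omega), hs e (i.val + 1) (by omega), hs e (i.val + 2) (by omega)]
    simp only [Sum.elim_inr]
    have h1 : tseq (bE e) (i.val + 2) = 2 * tseq (bE e) (i.val + 1) - tseq (bE e) i.val - bE e i.val := by
      rw [tseq]
    have h2 : bE e i.val = β (Sum.inr ⟨e, i⟩) := by
      simp only [bE]
      rw [dif_pos hi]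
    rw [h1, h2]
    push_cast
    ring

theorem main (ends : E → V × V) (l : E → ℕ) (hl : ∀ e, 0 < l e) (hconn : LabGraph.Connected ends) :
    (∀ β : LabGraph.BlVert V E l → ℤ, ∃ (ψ : LabGraph.BlVert V E l → ℤ) (α : V → ℤ),
        ∀ w : LabGraph.BlVert V E l,
          LabGraph.mdeg (LabGraph.blEnds ends l) (fun _ => 1) ψ w + β w = Sum.elim α (fun _ => (0 : ℤ)) w) ↔
      LabGraph.IsCircuitCoprime ends l :=
  ⟨coprime_of_surj ends l hl, fun hcc β => surj_of_coprime ends l hl hconn hcc β⟩

end Groth.Agent.Helper7.LorS
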