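import Groth.Agent.Helper7.LorC2

set_option autoImplicit false
set_option linter.unusedSectionVars false
universe u
open Finset Matrix

namespace Groth.Agent.Helper7.LorT

open Groth.Agent.Helper7.LorC

variable {V E : Type u} [Fintype V] [Fintype E] [DecidableEq V] [DecidableEq E]

/-- the functional `x ↦ Σ_{v ∈ S} x v` -/
def sumOn (R : Type*) [CommRing R] (S : Finset V) : (V → R) →ₗ[R] R where
  toFun x := ∑ v ∈ S, x v
  map_add' x y := by simp [Finset.sum_add_distrib]
  map_smul' c x := by simp [Finset.mul_sum]

theorem sumOn_inc (R : Type*) [CommRing R] (S : Finset V) (ends : E → V × V) (e : E) :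
    sumOn R S (inc R ends e) = (if (ends e).2 ∈ S then 1 else 0) - (if (ends e).1 ∈ S then 1 else 0) := by
  show ∑ v ∈ S, inc R ends e v = _
  simp only [inc_apply, Finset.sum_sub_distrib, Finset.sum_ite_eq]

/-- a forest (mod 2 independent edge set) whose incidence vectors span all the others, in a
connected graph, is a spanning tree -/
theorem isSpanningTree_of_indep_span (ends : E → V × V) (hG : LabGraph.Connected ends)
    (T : Finset E)
    (hind : LinearIndepOn (ZMod 2) (inc (ZMod 2) ends) (↑T : Set E))
    (hspan : ∀ e, inc (ZMod 2) ends e ∈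
      Submodule.span (ZMod 2) (inc (ZMod 2) ends '' (↑T : Set E))) :
    LabGraph.IsSpanningTree ends T := by
  constructor
  · by_contra hnc
    have : Nonempty V := hG.1
    obtain ⟨S, ⟨s, hs⟩, ⟨s', hs'⟩, hcl⟩ := exists_closed_of_not_connected _ hnc
    rw [Finset.mem_compl] at hs'
    have hker : Submodule.span (ZMod 2) (inc (ZMod 2) ends '' (↑T : Set E))
        ≤ LinearMap.ker (sumOn (ZMod 2) S) := by
      rw [Submodule.span_le]
      rintro _ ⟨e, he, rfl⟩
      rw [SetLike.mem_coe, LinearMap.mem_ker, sumOn_inc]
      have := hcl ⟨e, he⟩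
      simp only at this
      by_cases h1 : (ends e).1 ∈ S
      · rw [if_pos h1, if_pos (this.mp h1), sub_self]
      · rw [if_neg h1, if_neg (fun h => h1 (this.mpr h)), sub_self]
    have hall : ∀ e : E, (ends e).1 ∈ S ↔ (ends e).2 ∈ S := by
      intro e
      have := hker (hspan e)
      rw [LinearMap.mem_ker, sumOn_inc] at this
      by_cases h1 : (ends e).1 ∈ S <;> by_cases h2 : (ends e).2 ∈ S <;> simp [h1, h2] at this ⊢
    have : ∀ w, Relation.ReflTransGen (LabGraph.Adj ends) s w → w ∈ S := by
      intro w hw
      induction hw with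
      | refl => exact hs
      | tail _ hbc ih =>
        obtain ⟨e, he | he⟩ := hbc
        · have := hall e; rw [he] at this; exact this.mp ih
        · have := hall e; rw [he] at this; exact this.mpr ih
    exact hs' (this s' (hG.2 s s'))
  · apply forest_of_indep
    intro γ hγ
    rw [linearIndepOn_finset_iff] at hind
    have h1 : ∑ e ∈ T, (fun e => if h : e ∈ T then γ ⟨e, h⟩ else 0) e • inc (ZMod 2) ends e = 0 := by
      rw [← Finset.sum_coe_sort T]
      rw [← hγ]
      refine Finset.sum_congr rfl fun e _ => ?_
      show (if h : e.1 ∈ T then γ ⟨e.1, h⟩ else 0) • inc (ZMod 2) ends e.1 = _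
      rw [dif_pos e.2]
      rfl
    funext e
    have := hind _ h1 e.1 e.2
    simp only [dif_pos e.2] at this
    exact this

/-- every mod 2 independent edge set of a connected graph extends to a spanning tree -/
theorem exists_spanningTree_extension (ends : E → V × V) (hG : LabGraph.Connected ends)
    (s : Finset E) (hs : LinearIndepOn (ZMod 2) (inc (ZMod 2) ends) (↑s : Set E)) :
    ∃ T : Finset E, s ⊆ T ∧ LabGraph.IsSpanningTree ends T := by
  classical
  obtain ⟨b, -, hsb, hspan, hind⟩ := exists_linearIndepOn_extension hs (Set.subset_univ _)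
  refine ⟨b.toFinset, ?_, ?_⟩
  · intro e he
    rw [Set.mem_toFinset]
    exact hsb he
  · apply isSpanningTree_of_indep_span ends hG
    · rw [Set.coe_toFinset]; exact hind
    · intro e
      rw [Set.coe_toFinset]
      exact hspan ⟨e, Set.mem_univ _, rfl⟩

theorem exists_spanningTree (ends : E → V × V) (hG : LabGraph.Connected ends) :
    ∃ T : Finset E, LabGraph.IsSpanningTree ends T := by
  obtain ⟨T, -, hT⟩ := exists_spanningTree_extension ends hG ∅ (by
    rw [Finset.coe_empty]; exact linearIndepOn_empty _ _)
  exact ⟨T, hT⟩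

end Groth.Agent.Helper7.LorT
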