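import Mathlib
import Groth.Prelude
import Groth.Agent.Helper7.MCrossA

set_option autoImplicit false
set_option linter.style.haveILetI false
set_option linter.unusedSectionVars false

namespace Groth.Agent.Helper7.MCross

open IsLocalRing PowerSeries

universe u

section comp

variable {k : Type u} [Field k] {B : Type u} [CommRing B] [IsLocalRing B] {n : ℕ}
  (φ : B →+* (Fin n → PowerSeries k)) (hinj : Function.Injective φ)
  (hrange : Set.range φ = {f : Fin n → PowerSeries k |
    ∀ i j : Fin n, PowerSeries.constantCoeff (f i) = PowerSeries.constantCoeff (f j)})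

include hrange in
theorem exists_preimage (g : Fin n → PowerSeries k)
    (hg : ∀ i j : Fin n, PowerSeries.constantCoeff (g i) = PowerSeries.constantCoeff (g j)) :
    ∃ b, φ b = g := by
  have : g ∈ Set.range φ := by rw [hrange]; exact hg
  exact this

include hrange in
theorem const_common (b : B) (i j : Fin n) :
    PowerSeries.constantCoeff (φ b i) = PowerSeries.constantCoeff (φ b j) := by
  have : φ b ∈ Set.range φ := ⟨b, rfl⟩
  rw [hrange] at this
  exact this i j

include hinj hrange in
theorem mem_maximalIdeal_iff (b : B) (i₀ : Fin n) :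
    b ∈ maximalIdeal B ↔ PowerSeries.constantCoeff (φ b i₀) = 0 := by
  constructor
  · intro hb
    by_contra hne
    have hne' : ∀ i, PowerSeries.constantCoeff (φ b i) ≠ 0 := fun i => by
      rw [const_common φ hrange b i i₀]; exact hne
    obtain ⟨b', hb'⟩ := exists_preimage φ hrange (fun i => (φ b i)⁻¹) (fun i j => by
      rw [PowerSeries.constantCoeff_inv, PowerSeries.constantCoeff_inv,
        const_common φ hrange b i j])
    have h1 : b * b' = 1 := by
      apply hinj
      rw [map_mul, map_one, hb']
      funext i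
      exact PowerSeries.mul_inv_cancel _ (hne' i)
    rw [mem_maximalIdeal, mem_nonunits_iff] at hb
    exact hb (IsUnit.of_mul_eq_one _ h1)
  · intro h0
    rw [mem_maximalIdeal, mem_nonunits_iff]
    intro hu
    have h1 : IsUnit (φ b i₀) := (hu.map φ).map (Pi.evalRingHom (fun _ => PowerSeries k) i₀)
    have h2 := (PowerSeries.isUnit_iff_constantCoeff.mp h1)
    rw [h0] at h2
    exact not_isUnit_zero h2

include hinj hrange in
/-- a Gorenstein multicross ring has at most two branches. -/
theorem not_three_le [hG : LocCoh.IsGorensteinLocalRing B] (h3 : 3 ≤ n) : False := by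
  let i₁ : Fin n := ⟨0, by omega⟩
  let i₂ : Fin n := ⟨1, by omega⟩
  let i₃ : Fin n := ⟨2, by omega⟩
  have h12 : i₁ ≠ i₂ := by simp [i₁, i₂, Fin.ext_iff]
  have h13 : i₁ ≠ i₃ := by simp [i₁, i₃, Fin.ext_iff]
  have h23 : i₂ ≠ i₃ := by simp [i₂, i₃, Fin.ext_iff]
  have hX0 : (PowerSeries.X : PowerSeries k) ≠ 0 := PowerSeries.X_ne_zero
  have hccX : PowerSeries.constantCoeff (PowerSeries.X : PowerSeries k) = 0 :=
    PowerSeries.constantCoeff_X
  -- the parameter `T = (t, …, t)`
  obtain ⟨T, hT⟩ := exists_preimage φ hrange (fun _ => (PowerSeries.X : PowerSeries k))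
    (fun _ _ => rfl)
  have hTm : T ∈ maximalIdeal B := by
    rw [mem_maximalIdeal_iff φ hinj hrange T i₁, hT]
    exact hccX
  have hTreg : IsSMulRegular B T := by
    intro a b hab
    apply hinj
    funext i
    have h1 := congrArg (fun z => φ z i) hab
    simp only [smul_eq_mul, map_mul, Pi.mul_apply, hT] at h1
    exact mul_left_cancel₀ hX0 h1
  -- elements of the maximal ideal are divisible by `t` componentwise
  have hdiv : ∀ u ∈ maximalIdeal B, ∃ u' : Fin n → PowerSeries k,
      ∀ i, φ u i = PowerSeries.X * u' i := by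
    intro u hu
    have : ∀ i, ∃ w, φ u i = PowerSeries.X * w := by
      intro i
      have h0 := (mem_maximalIdeal_iff φ hinj hrange u i).mp hu
      exact PowerSeries.X_dvd_iff.mpr h0
    choose u' hu' using this
    exact ⟨u', hu'⟩
  have hspan : ∀ x : B, (∃ c : Fin n → PowerSeries k,
      (∀ i, PowerSeries.constantCoeff (c i) = 0) ∧ ∀ i, φ x i = PowerSeries.X * c i) →
      x ∈ Ideal.span {T} := by
    rintro x ⟨c, hc0, hc⟩
    obtain ⟨c₀, hc₀⟩ := exists_preimage φ hrange c (fun i j => by rw [hc0 i, hc0 j])
    rw [Ideal.mem_span_singleton']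
    refine ⟨c₀, ?_⟩
    apply hinj
    funext i
    rw [map_mul, Pi.mul_apply, hT, hc₀, hc i, mul_comm]
  have hnil : ∀ u ∈ maximalIdeal B, ∀ v ∈ maximalIdeal B, u * v ∈ Ideal.span {T} := by
    intro u hu v hv
    obtain ⟨u', hu'⟩ := hdiv u hu
    refine hspan _ ⟨fun i => u' i * φ v i, fun i => ?_, fun i => ?_⟩
    · rw [map_mul, (mem_maximalIdeal_iff φ hinj hrange v i).mp hv, mul_zero]
    · rw [map_mul, Pi.mul_apply, hu' i, mul_assoc]
  -- the socle elements
  have hsingle : ∀ j : Fin n, ∀ i l : Fin n,
      PowerSeries.constantCoeff ((Pi.single j (PowerSeries.X : PowerSeries k) :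
        Fin n → PowerSeries k) i) =
      PowerSeries.constantCoeff ((Pi.single j (PowerSeries.X : PowerSeries k) :
        Fin n → PowerSeries k) l) := by
    intro j i l
    have : ∀ i, PowerSeries.constantCoeff ((Pi.single j (PowerSeries.X : PowerSeries k) :
        Fin n → PowerSeries k) i) = 0 := by
      intro i
      by_cases hij : i = j
      · subst hij; rw [Pi.single_eq_same]; exact hccX
      · rw [Pi.single_eq_of_ne hij, map_zero]
    rw [this i, this l]
  obtain ⟨e₁, he₁⟩ := exists_preimage φ hrange (Pi.single i₁ PowerSeries.X) (hsingle i₁)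
  obtain ⟨e₂, he₂⟩ := exists_preimage φ hrange (Pi.single i₂ PowerSeries.X) (hsingle i₂)
  have h₂ : ∀ u ∈ maximalIdeal B, u * e₂ ∈ Ideal.span {T} := by
    intro u hu
    refine hspan _ ⟨Pi.single i₂ (φ u i₂), fun i => ?_, fun i => ?_⟩
    · by_cases hi : i = i₂
      · subst hi
        rw [Pi.single_eq_same]
        exact (mem_maximalIdeal_iff φ hinj hrange u _).mp hu
      · rw [Pi.single_eq_of_ne hi, map_zero]
    · rw [map_mul, Pi.mul_apply, he₂]
      by_cases hi : i = i₂
      · subst hi
        rw [Pi.single_eq_same, Pi.single_eq_same, mul_comm]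
      · rw [Pi.single_eq_of_ne hi, Pi.single_eq_of_ne hi, mul_zero, mul_zero]
  obtain ⟨a, b, hab, hmem⟩ := socle_dependent_local B T hTm hTreg hnil e₁ e₂ h₂
  rw [Ideal.mem_span_singleton'] at hmem
  obtain ⟨c, hc⟩ := hmem
  have hφ : ∀ i, φ c i * PowerSeries.X =
      φ a i * (Pi.single i₁ (PowerSeries.X : PowerSeries k) : Fin n → PowerSeries k) i +
      φ b i * (Pi.single i₂ (PowerSeries.X : PowerSeries k) : Fin n → PowerSeries k) i := by
    intro i
    have h1 := congrArg (fun z => φ z i) hc
    simp only [map_mul, map_add, Pi.mul_apply, Pi.add_apply, hT, he₁, he₂] at h1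
    exact h1
  -- index 3
  have hc3 : φ c i₃ = 0 := by
    have h := hφ i₃
    rw [Pi.single_eq_of_ne h13.symm, Pi.single_eq_of_ne h23.symm, mul_zero, mul_zero, add_zero] at h
    exact (mul_eq_zero.mp h).resolve_right hX0
  have hcc : ∀ i, PowerSeries.constantCoeff (φ c i) = 0 := by
    intro i
    rw [const_common φ hrange c i i₃, hc3, map_zero]
  have ha : a ∈ maximalIdeal B := by
    rw [mem_maximalIdeal_iff φ hinj hrange a i₁]
    have h := hφ i₁
    rw [Pi.single_eq_same, Pi.single_eq_of_ne h12, mul_zero, add_zero] at h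
    have h' := mul_right_cancel₀ hX0 h
    rw [← h', hcc]
  have hb : b ∈ maximalIdeal B := by
    rw [mem_maximalIdeal_iff φ hinj hrange b i₂]
    have h := hφ i₂
    rw [Pi.single_eq_same, Pi.single_eq_of_ne h12.symm, mul_zero, zero_add] at h
    have h' := mul_right_cancel₀ hX0 h
    rw [← h', hcc]
  rcases hab with h | h
  · exact h ha
  · exact h hb

end comp

/-- **A Gorenstein multicross singularity is a node.** -/
theorem main (k : Type u) [Field k]
    (A : Type u) [CommRing A] [hG : LocCoh.IsGorensteinLocalRing A] (n : ℕ) (hn : 2 ≤ n)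
    (φ : AdicCompletion (IsLocalRing.maximalIdeal A) A →+* (Fin n → PowerSeries k))
    (hinj : Function.Injective φ)
    (hrange : Set.range φ = {f : Fin n → PowerSeries k | ∀ i j : Fin n,
      PowerSeries.constantCoeff (f i) = PowerSeries.constantCoeff (f j)}) :
    n = 2 := by
  by_contra hne
  have h3 : 3 ≤ n := by omega
  haveI := gorLocal_adicCompletion A
  exact not_three_le φ hinj hrange h3

end Groth.Agent.Helper7.MCross
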