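import Mathlib

set_option autoImplicit false
set_option linter.style.haveILetI false

/-! Truncated polynomial rings in several variables `k[x_1..x_e]/(x)^l`. -/

namespace Groth.Agent.Helper7.MJet

open MvPolynomial

universe u

section trunc

variable (k : Type u) [Field k] (e : ℕ)

theorem mem_idealOfVars_iff (p : MvPolynomial (Fin e) k) :
    p ∈ idealOfVars (Fin e) k ↔ coeff 0 p = 0 := by
  have h := mem_pow_idealOfVars_iff' (σ := Fin e) (R := k) 1 p
  rw [pow_one] at h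
  rw [h]
  constructor
  · intro h0
    exact h0 0 (by simp)
  · intro h0 x hx
    have : x = 0 := by
      rw [Nat.lt_one_iff, Finsupp.degree_eq_zero_iff] at hx
      exact hx
    rw [this, h0]

instance isMaximal_idealOfVars : (idealOfVars (Fin e) k).IsMaximal := by
  have h : idealOfVars (Fin e) k = RingHom.ker (constantCoeff : MvPolynomial (Fin e) k →+* k) := by
    ext p
    rw [mem_idealOfVars_iff, RingHom.mem_ker, constantCoeff_eq]
  rw [h]
  exact RingHom.ker_isMaximal_of_surjective _ (fun c => ⟨C c, by simp⟩)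

theorem coeff_eq_of_mk_eq {l : ℕ} {p q : MvPolynomial (Fin e) k}
    (h : Ideal.Quotient.mk (idealOfVars (Fin e) k ^ l) p =
      Ideal.Quotient.mk (idealOfVars (Fin e) k ^ l) q) (d : Fin e →₀ ℕ) (hd : d.degree < l) :
    coeff d p = coeff d q := by
  rw [Ideal.Quotient.eq, mem_pow_idealOfVars_iff'] at h
  have := h d hd
  rwa [coeff_sub, sub_eq_zero] at this

theorem isUnit_mk_iff {l : ℕ} (hl : l ≠ 0) (p : MvPolynomial (Fin e) k) :
    IsUnit (Ideal.Quotient.mk (idealOfVars (Fin e) k ^ l) p) ↔ coeff 0 p ≠ 0 := by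
  rw [Ideal.Quotient.isUnit_mk_pow_iff_notMem _ hl, mem_idealOfVars_iff]

theorem isLocalRing_quot {l : ℕ} (hl : l ≠ 0) :
    IsLocalRing (MvPolynomial (Fin e) k ⧸ idealOfVars (Fin e) k ^ l) := by
  haveI : Nontrivial (MvPolynomial (Fin e) k ⧸ idealOfVars (Fin e) k ^ l) := by
    apply Ideal.Quotient.nontrivial_iff.mpr
    intro h
    have h1 : idealOfVars (Fin e) k ^ l ≤ idealOfVars (Fin e) k := Ideal.pow_le_self hl
    rw [h] at h1
    exact (isMaximal_idealOfVars k e).ne_top (top_le_iff.mp h1)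
  apply IsLocalRing.of_nonunits_add
  intro a b ha hb
  obtain ⟨p, rfl⟩ := Ideal.Quotient.mk_surjective a
  obtain ⟨q, rfl⟩ := Ideal.Quotient.mk_surjective b
  rw [mem_nonunits_iff, isUnit_mk_iff k e hl, not_not] at ha hb
  rw [← map_add, mem_nonunits_iff, isUnit_mk_iff k e hl, not_not, coeff_add, ha, hb, add_zero]

theorem isArtinianRing_quot {l : ℕ} (hl : l ≠ 0) :
    IsArtinianRing (MvPolynomial (Fin e) k ⧸ idealOfVars (Fin e) k ^ l) := by
  haveI := isLocalRing_quot k e hl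
  rw [isArtinianRing_iff_isNilpotent_maximalIdeal]
  refine ⟨l, ?_⟩
  rw [Ideal.zero_eq_bot, eq_bot_iff]
  have h1 : IsLocalRing.maximalIdeal (MvPolynomial (Fin e) k ⧸ idealOfVars (Fin e) k ^ l) ≤
      (idealOfVars (Fin e) k).map (Ideal.Quotient.mk (idealOfVars (Fin e) k ^ l)) := by
    intro a ha
    obtain ⟨p, rfl⟩ := Ideal.Quotient.mk_surjective a
    rw [IsLocalRing.mem_maximalIdeal, mem_nonunits_iff, isUnit_mk_iff k e hl, not_not] at ha
    exact Ideal.mem_map_of_mem _ ((mem_idealOfVars_iff k e p).mpr ha)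
  refine (Ideal.pow_right_mono h1 l).trans ?_
  rw [← Ideal.map_pow, Ideal.map_quotient_self]

end trunc

section pert

variable {S : Type*} [CommRing S] (𝔞 : Ideal S) {σ : Type*}

theorem pow_sub_pow_mem (u v : S) (hu : u ∈ 𝔞) (hv : v ∈ 𝔞) (huv : u - v ∈ 𝔞 ^ 2) (m : ℕ) :
    u ^ m - v ^ m ∈ 𝔞 ^ (m + 1) := by
  induction m with
  | zero => simp
  | succ m ih =>
    have h1 : u ^ (m + 1) - v ^ (m + 1) = u * (u ^ m - v ^ m) + (u - v) * v ^ m := by ring
    rw [h1]
    refine Ideal.add_mem _ ?_ ?_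
    · rw [show m + 1 + 1 = 1 + (m + 1) by ring, pow_add, pow_one]
      exact Ideal.mul_mem_mul hu ih
    · rw [show m + 1 + 1 = 2 + m by ring, pow_add]
      exact Ideal.mul_mem_mul huv (Ideal.pow_mem_pow hv m)

theorem prod_sub_prod_mem (u v : σ → S) (hu : ∀ i, u i ∈ 𝔞) (hv : ∀ i, v i ∈ 𝔞)
    (huv : ∀ i, u i - v i ∈ 𝔞 ^ 2) (d : σ →₀ ℕ) :
    (d.prod fun i m => u i ^ m) ∈ 𝔞 ^ d.degree ∧ (d.prod fun i m => v i ^ m) ∈ 𝔞 ^ d.degree ∧
      (d.prod fun i m => u i ^ m) - (d.prod fun i m => v i ^ m) ∈ 𝔞 ^ (d.degree + 1) := by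
  classical
  induction d using Finsupp.induction_linear with
  | zero => simp
  | add d₁ d₂ h₁ h₂ =>
    obtain ⟨a1, a2, a3⟩ := h₁
    obtain ⟨b1, b2, b3⟩ := h₂
    rw [Finsupp.prod_add_index' (by simp) (by intro i m n; exact pow_add _ _ _),
      Finsupp.prod_add_index' (by simp) (by intro i m n; exact pow_add _ _ _), map_add]
    refine ⟨?_, ?_, ?_⟩
    · rw [pow_add]; exact Ideal.mul_mem_mul a1 b1
    · rw [pow_add]; exact Ideal.mul_mem_mul a2 b2
    · set U₁ := d₁.prod fun i m => u i ^ m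
      set U₂ := d₂.prod fun i m => u i ^ m
      set V₁ := d₁.prod fun i m => v i ^ m
      set V₂ := d₂.prod fun i m => v i ^ m
      have h1 : U₁ * U₂ - V₁ * V₂ = U₁ * (U₂ - V₂) + (U₁ - V₁) * V₂ := by ring
      rw [h1]
      refine Ideal.add_mem _ ?_ ?_
      · rw [show d₁.degree + d₂.degree + 1 = d₁.degree + (d₂.degree + 1) by ring, pow_add]
        exact Ideal.mul_mem_mul a1 b3
      · rw [show d₁.degree + d₂.degree + 1 = (d₁.degree + 1) + d₂.degree by ring, pow_add]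
        exact Ideal.mul_mem_mul a3 b2
  | single i m =>
    have e1 : ((Finsupp.single i m).prod fun i m => u i ^ m) = u i ^ m :=
      Finsupp.prod_single_index (pow_zero _)
    have e2 : ((Finsupp.single i m).prod fun i m => v i ^ m) = v i ^ m :=
      Finsupp.prod_single_index (pow_zero _)
    rw [e1, e2, Finsupp.degree_single]
    exact ⟨Ideal.pow_mem_pow (hu i) m, Ideal.pow_mem_pow (hv i) m,
      pow_sub_pow_mem 𝔞 _ _ (hu i) (hv i) (huv i) m⟩

theorem aeval_sub_aeval_mem {k : Type*} [CommRing k] [Algebra k S] (u v : σ → S)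
    (hu : ∀ i, u i ∈ 𝔞) (hv : ∀ i, v i ∈ 𝔞) (huv : ∀ i, u i - v i ∈ 𝔞 ^ 2)
    (F : MvPolynomial σ k) (n : ℕ) (hF : F.IsHomogeneous n) :
    aeval u F - aeval v F ∈ 𝔞 ^ (n + 1) := by
  classical
  rw [aeval_def, aeval_def, eval₂_eq, eval₂_eq, ← Finset.sum_sub_distrib]
  refine Ideal.sum_mem _ fun d hd => ?_
  rw [← mul_sub]
  refine Ideal.mul_mem_left _ _ ?_
  have hdeg : d.degree = n := by
    have := hF (mem_support_iff.mp hd)
    rw [Finsupp.degree_eq_weight_one]
    exact this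
  have := (prod_sub_prod_mem 𝔞 u v hu hv huv d).2.2
  rw [hdeg] at this
  exact this

end pert

end Groth.Agent.Helper7.MJet
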