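import Mathlib
import Groth.Agent.Helper7.MJetA
import Groth.Agent.Helper7.JetB

set_option autoImplicit false
set_option linter.style.haveILetI false

/-! Multivariate arcs on a local algebra with a residue character; lifting. -/

namespace Groth.Agent.Helper7.MJet

open MvPolynomial

universe u

/-- the infinitesimal lifting property for Artinian local test algebras -/
def SqLift (k A : Type u) [Field k] [CommRing A] [Algebra k A] : Prop :=
  ∀ (R : Type u) [CommRing R] [Algebra k R] [IsArtinianRing R] [IsLocalRing R] (J : Ideal R),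
    J ^ 2 = ⊥ → ∀ f : A →ₐ[k] R ⧸ J, IsLocalHom (f : A →+* R ⧸ J) →
      ∃ g : A →ₐ[k] R, (Ideal.Quotient.mkₐ k J).comp g = f

section

variable {k : Type u} [Field k] {A : Type u} [CommRing A] [Algebra k A] {m : Ideal A}
  (c : A →ₐ[k] k) (hc : ∀ a, c a = 0 ↔ a ∈ m)

include hc in
theorem finite_cotangent' (hfg : m.FG) : Module.Finite k m.Cotangent := by
  haveI : Module.Finite A m := Module.Finite.iff_fg.mpr hfg
  haveI : Module.Finite A m.Cotangent :=
    Module.Finite.of_surjective m.toCotangent m.toCotangent_surjective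
  obtain ⟨S, hS⟩ := (Module.Finite.fg_top : (⊤ : Submodule A m.Cotangent).FG)
  refine ⟨⟨S, ?_⟩⟩
  rw [eq_top_iff]
  have key : ∀ y ∈ Submodule.span A (S : Set m.Cotangent),
      y ∈ Submodule.span k (S : Set m.Cotangent) := by
    intro y hy
    induction hy using Submodule.span_induction with
    | mem x hx => exact Submodule.subset_span hx
    | zero => exact zero_mem _
    | add x y _ _ hx hy => exact add_mem hx hy
    | smul a x _ hx =>
      have h2 : a • x = c a • x := by
        have h1 : a • x = (algebraMap k A (c a)) • x + (a - algebraMap k A (c a)) • x := by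
          rw [← add_smul]; congr 1; ring
        rw [h1, Ideal.Cotangent.smul_eq_zero_of_mem (Jet.sub_mem c hc a), add_zero,
          algebraMap_smul]
      rw [h2]
      exact Submodule.smul_mem _ _ hx
  intro y _
  exact key y (by rw [hS]; trivial)

theorem exists_arc2 {e : ℕ} (D : Fin e → (A →ₗ[k] k))
    (hD : ∀ i a b, D i (a * b) = c a * D i b + c b * D i a) (hD1 : ∀ i, D i 1 = 0) :
    ∃ φ : A →ₐ[k] (MvPolynomial (Fin e) k ⧸ idealOfVars (Fin e) k ^ 2),
      ∀ a, φ a = Ideal.Quotient.mk _ (C (c a) + ∑ i, C (D i a) * X i) := by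
  let f : A →ₗ[k] (MvPolynomial (Fin e) k ⧸ idealOfVars (Fin e) k ^ 2) :=
    { toFun := fun a => Ideal.Quotient.mk _ (C (c a) + ∑ i, C (D i a) * X i)
      map_add' := fun a b => by
        rw [← map_add]
        congr 1
        simp only [map_add, add_mul, Finset.sum_add_distrib]
        ring
      map_smul' := fun t a => by
        rw [RingHom.id_apply, map_smul c t a, smul_eq_mul,
          ← Ideal.Quotient.mkₐ_eq_mk k, ← map_smul]
        congr 1
        rw [MvPolynomial.smul_eq_C_mul, mul_add, Finset.mul_sum]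
        congr 1
        · rw [map_mul]
        · refine Finset.sum_congr rfl fun i _ => ?_
          rw [map_smul (D i) t a, smul_eq_mul, map_mul, mul_assoc] }
  refine ⟨AlgHom.ofLinearMap f ?_ ?_, fun a => rfl⟩
  · show Ideal.Quotient.mk _ (C (c 1) + ∑ i, C (D i 1) * X i) = 1
    simp [hD1]
  · intro a b
    show Ideal.Quotient.mk _ (C (c (a * b)) + ∑ i, C (D i (a * b)) * X i) =
      Ideal.Quotient.mk _ (C (c a) + ∑ i, C (D i a) * X i) *
        Ideal.Quotient.mk _ (C (c b) + ∑ i, C (D i b) * X i)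
    rw [← map_mul, Ideal.Quotient.eq]
    have hsum : ∑ i, C (D i (a * b)) * X i =
        C (c a) * ∑ i, C (D i b) * (X i : MvPolynomial (Fin e) k) +
          C (c b) * ∑ i, C (D i a) * X i := by
      rw [Finset.mul_sum, Finset.mul_sum, ← Finset.sum_add_distrib]
      refine Finset.sum_congr rfl fun i _ => ?_
      rw [hD, map_add, map_mul, map_mul]
      ring
    have hmem : ∀ (g : Fin e → k), (∑ i, C (g i) * (X i : MvPolynomial (Fin e) k)) ∈
        idealOfVars (Fin e) k := fun g =>
      Ideal.sum_mem _ fun i _ => Ideal.mul_mem_left _ _ (Ideal.subset_span ⟨i, rfl⟩)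
    have hid : C (c (a * b)) + ∑ i, C (D i (a * b)) * X i -
        (C (c a) + ∑ i, C (D i a) * X i) * (C (c b) + ∑ i, C (D i b) * X i) =
        -((∑ i, C (D i a) * X i) * ∑ i, C (D i b) * (X i : MvPolynomial (Fin e) k)) := by
      rw [hsum, map_mul, map_mul]
      ring
    rw [hid, pow_two]
    exact (Ideal.neg_mem_iff _).mpr (Ideal.mul_mem_mul (hmem _) (hmem _))

theorem coeff_arc2 {e : ℕ} (c0 : k) (g : Fin e → k) :
    coeff 0 (C c0 + ∑ i, C (g i) * (X i : MvPolynomial (Fin e) k)) = c0 ∧
      ∀ j, coeff (Finsupp.single j 1) (C c0 + ∑ i, C (g i) * (X i : MvPolynomial (Fin e) k)) =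
        g j := by
  classical
  constructor
  · simp [coeff_sum, coeff_C_mul, coeff_X]
  · intro j
    have h0 : (0 : Fin e →₀ ℕ) ≠ Finsupp.single j 1 := by
      intro h
      have := congrArg (fun f => f j) h
      simp at this
    simp [coeff_sum, coeff_C_mul, coeff_X, coeff_C, Finsupp.single_left_inj, h0]

end

section lifting

variable {k : Type u} [Field k] {A : Type u} [CommRing A] [Algebra k A] [IsLocalRing A]

/-- an arc at level two lifts to all higher levels keeping its coefficients of degree `≤ 1` -/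
theorem exists_lift_arc (H : SqLift k A) {e : ℕ} (c0 : A → k) (c1 : Fin e → A → k)
    (h0 : ∀ a, c0 a = 0 ↔ a ∈ IsLocalRing.maximalIdeal A)
    (φ : A →ₐ[k] (MvPolynomial (Fin e) k ⧸ idealOfVars (Fin e) k ^ 2))
    (hφ : ∀ a p, φ a = Ideal.Quotient.mk _ p →
      coeff 0 p = c0 a ∧ ∀ i, coeff (Finsupp.single i 1) p = c1 i a) :
    ∀ l, 2 ≤ l → ∃ ψ : A →ₐ[k] (MvPolynomial (Fin e) k ⧸ idealOfVars (Fin e) k ^ l),
      ∀ a p, ψ a = Ideal.Quotient.mk _ p →
        coeff 0 p = c0 a ∧ ∀ i, coeff (Finsupp.single i 1) p = c1 i a := by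
  intro l hl
  induction l, hl using Nat.le_induction with
  | base => exact ⟨φ, hφ⟩
  | succ l hl ih =>
    obtain ⟨ψ, hψ⟩ := ih
    have hle : idealOfVars (Fin e) k ^ (l + 1) ≤ idealOfVars (Fin e) k ^ l :=
      Ideal.pow_le_pow_right (Nat.le_succ l)
    haveI := isLocalRing_quot k e (Nat.succ_ne_zero l)
    haveI := isArtinianRing_quot k e (Nat.succ_ne_zero l)
    let J : Ideal (MvPolynomial (Fin e) k ⧸ idealOfVars (Fin e) k ^ (l + 1)) :=
      (idealOfVars (Fin e) k ^ l).map (Ideal.Quotient.mkₐ k (idealOfVars (Fin e) k ^ (l + 1)))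
    have hJ2 : J ^ 2 = ⊥ := by
      show ((idealOfVars (Fin e) k ^ l).map
        (Ideal.Quotient.mk (idealOfVars (Fin e) k ^ (l + 1)))) ^ 2 = ⊥
      rw [← Ideal.map_pow, Ideal.map_eq_bot_iff_le_ker, Ideal.mk_ker, ← pow_mul]
      exact Ideal.pow_le_pow_right (by omega)
    let ε := DoubleQuot.quotQuotEquivQuotOfLEₐ k hle
    let f : A →ₐ[k] ((MvPolynomial (Fin e) k ⧸ idealOfVars (Fin e) k ^ (l + 1)) ⧸ J) :=
      ε.symm.toAlgHom.comp ψ
    have hloc : IsLocalHom (f : A →+* _ ⧸ J) := by
      constructor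
      intro a ha
      have h1 : IsUnit (ψ a) := by
        have := ha.map ε
        simpa [f] using this
      obtain ⟨p, hp⟩ := Ideal.Quotient.mk_surjective (ψ a)
      rw [← hp, isUnit_mk_iff k e (by omega), (hψ a p hp.symm).1] at h1
      by_contra hu
      exact h1 ((h0 a).mpr hu)
    obtain ⟨g, hg⟩ := H _ J hJ2 f hloc
    refine ⟨g, fun a p hp => ?_⟩
    apply hψ a p
    have h2 : ψ a = ε (f a) := by simp [f]
    rw [h2, ← hg, AlgHom.comp_apply, hp]
    rfl

end lifting

end Groth.Agent.Helper7.MJet
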