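import Mathlib
import Groth.Agent.Helper7.MJetB
import Groth.Agent.Helper7.QRReg
import Groth.Agent.Helper8.RegSeqD
import Groth.Agent.Helper4.ArtinReg

set_option autoImplicit false
set_option linter.style.haveILetI false

/-! The infinitesimal lifting property implies regularity. -/

namespace Groth.Agent.Helper7.MJet

open MvPolynomial RingTheory.Sequence

universe u

theorem eq_zero_or_single_of_degree_lt_two {e : ℕ} (d : Fin e →₀ ℕ) (hd : d.degree < 2) :
    d = 0 ∨ ∃ j, d = Finsupp.single j 1 := by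
  by_cases h0 : d = 0
  · exact Or.inl h0
  · right
    obtain ⟨j, hj⟩ := Finsupp.support_nonempty_iff.mpr h0
    refine ⟨j, ?_⟩
    have hj1 : 1 ≤ d j := Nat.one_le_iff_ne_zero.mpr (Finsupp.mem_support_iff.mp hj)
    have hle : Finsupp.single j 1 ≤ d := by
      intro i
      rw [Finsupp.single_apply]
      split_ifs with h
      · rw [← h]; exact hj1
      · exact Nat.zero_le _
    have hsplit : d = Finsupp.single j 1 + (d - Finsupp.single j 1) := (add_tsub_cancel_of_le hle).symm
    have hdeg : d.degree = 1 + (d - Finsupp.single j 1).degree := by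
      conv_lhs => rw [hsplit]
      rw [map_add, Finsupp.degree_single]
    have h2 : (d - Finsupp.single j 1).degree = 0 := by omega
    rw [Finsupp.degree_eq_zero_iff] at h2
    rw [hsplit, h2, add_zero]

variable (k A : Type u) [Field k] [CommRing A] [Algebra k A] [IsLocalRing A] [IsNoetherianRing A]

theorem regular_of_sqLift (π : A →ₐ[k] k) (hπ : RingHom.ker π = IsLocalRing.maximalIdeal A)
    (H : SqLift k A) : IsRegularLocalRing A := by
  classical
  have hc : ∀ a, π a = 0 ↔ a ∈ IsLocalRing.maximalIdeal A := fun a => by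
    rw [← hπ, RingHom.mem_ker]
  haveI : Module.Finite k (IsLocalRing.maximalIdeal A).Cotangent :=
    finite_cotangent' π hc (IsNoetherian.noetherian _)
  let b := Module.finBasis k (IsLocalRing.maximalIdeal A).Cotangent
  set e := Module.finrank k (IsLocalRing.maximalIdeal A).Cotangent with he
  choose x hx using fun i => (IsLocalRing.maximalIdeal A).toCotangent_surjective (b i)
  obtain ⟨τ, hτ1, hτ2, hτ3⟩ := Jet.exists_tau π hc
  let D : Fin e → (A →ₗ[k] k) := fun i => (b.coord i) ∘ₗ τ
  have hD : ∀ i a a', D i (a * a') = π a * D i a' + π a' * D i a := by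
    intro i a a'
    show b.coord i (τ (a * a')) = π a * b.coord i (τ a') + π a' * b.coord i (τ a)
    rw [hτ2, map_add, map_smul, map_smul, smul_eq_mul, smul_eq_mul]
  have hD1 : ∀ i, D i 1 = 0 := by
    intro i
    show b.coord i (τ 1) = 0
    rw [hτ3, map_zero]
  have hDx : ∀ i j, D i (x j : A) = if i = j then 1 else 0 := by
    intro i j
    show b.coord i (τ (x j)) = _
    rw [hτ1, hx, Module.Basis.coord_apply, Module.Basis.repr_self, Finsupp.single_apply]
    simp only [eq_comm]
  obtain ⟨φ, hφ⟩ := exists_arc2 π D hD hD1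
  have hφ' : ∀ a p, φ a = Ideal.Quotient.mk _ p →
      coeff 0 p = π a ∧ ∀ i, coeff (Finsupp.single i 1) p = D i a := by
    intro a p hp
    rw [hφ a] at hp
    obtain ⟨h1, h2⟩ := coeff_arc2 (π a) (fun i => D i a)
    refine ⟨?_, fun i => ?_⟩
    · rw [← coeff_eq_of_mk_eq k e hp 0 (by simp), h1]
    · rw [← coeff_eq_of_mk_eq k e hp (Finsupp.single i 1) (by simp [Finsupp.degree_single]), h2]
  have hlift := exists_lift_arc H (fun a => π a) (fun i a => D i a) hc φ hφ'
  -- generators of the maximal ideal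
  let ξ : Fin e → A := fun i => (x i : A)
  have hξmem : ∀ i, ξ i ∈ IsLocalRing.maximalIdeal A := fun i => (x i).2
  have hgen : IsLocalRing.maximalIdeal A ≤ Ideal.span (Set.range ξ) ⊔ IsLocalRing.maximalIdeal A ^ 2 := by
    intro a ha
    have h1 : (IsLocalRing.maximalIdeal A).toCotangent ⟨a, ha⟩ =
        (IsLocalRing.maximalIdeal A).toCotangent
          (∑ i, b.repr ((IsLocalRing.maximalIdeal A).toCotangent ⟨a, ha⟩) i • x i) := by
      rw [map_sum]
      conv_lhs => rw [← b.sum_repr ((IsLocalRing.maximalIdeal A).toCotangent ⟨a, ha⟩)]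
      refine Finset.sum_congr rfl fun i _ => ?_
      rw [LinearMap.map_smul_of_tower, hx]
    rw [Ideal.toCotangent_eq] at h1
    have h2 : ((∑ i, b.repr ((IsLocalRing.maximalIdeal A).toCotangent ⟨a, ha⟩) i • x i :
        IsLocalRing.maximalIdeal A) : A) ∈ Ideal.span (Set.range ξ) := by
      rw [Submodule.coe_sum]
      refine Ideal.sum_mem _ fun i _ => ?_
      rw [Submodule.coe_smul_of_tower, Algebra.smul_def]
      exact Ideal.mul_mem_left _ _ (Ideal.subset_span ⟨i, rfl⟩)
    have h3 : a = ((∑ i, b.repr ((IsLocalRing.maximalIdeal A).toCotangent ⟨a, ha⟩) i • x i :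
        IsLocalRing.maximalIdeal A) : A) +
        (a - ((∑ i, b.repr ((IsLocalRing.maximalIdeal A).toCotangent ⟨a, ha⟩) i • x i :
          IsLocalRing.maximalIdeal A) : A)) := by ring
    rw [h3]
    exact Submodule.add_mem_sup h2 h1
  have hspan : Ideal.span (Set.range ξ) = IsLocalRing.maximalIdeal A := by
    apply le_antisymm
    · rw [Ideal.span_le]
      rintro _ ⟨i, rfl⟩
      exact hξmem i
    · refine Submodule.le_of_le_smul_of_le_jacobson_bot (I := IsLocalRing.maximalIdeal A)
        (IsNoetherian.noetherian _) ?_ ?_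
      · rw [IsLocalRing.jacobson_eq_maximalIdeal ⊥ bot_ne_top]
      · rw [smul_eq_mul, ← pow_two]
        exact hgen
  -- the key vanishing
  have key : ∀ (n : ℕ) (P₀ : MvPolynomial (Fin e) k), P₀.IsHomogeneous n →
      aeval ξ P₀ ∈ IsLocalRing.maximalIdeal A ^ (n + 1) → P₀ = 0 := by
    intro n P₀ hhom hmem
    obtain ⟨ψ, hψ⟩ := hlift (n + 2) (by omega)
    choose p hp using fun i => Ideal.Quotient.mk_surjective (ψ (ξ i))
    have hp0 : ∀ i, coeff 0 (p i) = 0 := fun i => by
      rw [(hψ (ξ i) (p i) (hp i).symm).1]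
      exact (hc _).mpr (hξmem i)
    have hp1 : ∀ i j, coeff (Finsupp.single j 1) (p i) = if j = i then 1 else 0 := fun i j => by
      rw [(hψ (ξ i) (p i) (hp i).symm).2 j]
      exact hDx j i
    have hpmem : ∀ i, p i ∈ idealOfVars (Fin e) k := fun i =>
      (mem_idealOfVars_iff k e (p i)).mpr (hp0 i)
    have hXmem : ∀ i, (X i : MvPolynomial (Fin e) k) ∈ idealOfVars (Fin e) k := fun i =>
      Ideal.subset_span ⟨i, rfl⟩
    have hpX : ∀ i, p i - X i ∈ idealOfVars (Fin e) k ^ 2 := by
      intro i
      rw [mem_pow_idealOfVars_iff']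
      intro d hd
      rcases eq_zero_or_single_of_degree_lt_two d hd with rfl | ⟨j, rfl⟩
      · rw [coeff_sub, hp0, sub_eq_zero, eq_comm]
        exact (mem_idealOfVars_iff k e _).mp (hXmem i)
      · rw [coeff_sub, hp1]
        by_cases hji : j = i
        · subst hji; simp
        · have hne : (Finsupp.single i 1 : Fin e →₀ ℕ) ≠ Finsupp.single j 1 := by
            intro h; exact hji ((Finsupp.single_left_inj one_ne_zero).mp h).symm
          simp [hji, coeff_X, hne]
    have key1 := aeval_sub_aeval_mem (idealOfVars (Fin e) k) p X hpmem hXmem hpX P₀ n hhom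
    rw [aeval_X_left_apply] at key1
    have key2 : ψ (aeval ξ P₀) = Ideal.Quotient.mk _ (aeval p P₀) := by
      have e2 : (fun i => ψ (ξ i)) = fun i => Ideal.Quotient.mkₐ k _ (p i) :=
        funext fun i => (hp i).symm
      rw [comp_aeval_apply, ← Ideal.Quotient.mkₐ_eq_mk k, comp_aeval_apply, e2]
    have hmap : Ideal.map ψ (IsLocalRing.maximalIdeal A) ≤
        (idealOfVars (Fin e) k).map (Ideal.Quotient.mk (idealOfVars (Fin e) k ^ (n + 2))) := by
      rw [Ideal.map_le_iff_le_comap]
      intro a ha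
      rw [Ideal.mem_comap]
      obtain ⟨q, hq⟩ := Ideal.Quotient.mk_surjective (ψ a)
      rw [← hq]
      apply Ideal.mem_map_of_mem
      rw [mem_idealOfVars_iff, (hψ a q hq.symm).1]
      exact (hc a).mpr ha
    have key3 : ψ (aeval ξ P₀) ∈
        (idealOfVars (Fin e) k ^ (n + 1)).map
          (Ideal.Quotient.mk (idealOfVars (Fin e) k ^ (n + 2))) := by
      rw [Ideal.map_pow]
      refine Ideal.pow_right_mono hmap (n + 1) ?_
      rw [← Ideal.map_pow]
      exact Ideal.mem_map_of_mem _ hmem
    rw [key2, Ideal.mem_map_iff_of_surjective _ Ideal.Quotient.mk_surjective] at key3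
    obtain ⟨y, hy, hy2⟩ := key3
    rw [Ideal.Quotient.eq] at hy2
    have hle : idealOfVars (Fin e) k ^ (n + 2) ≤ idealOfVars (Fin e) k ^ (n + 1) :=
      Ideal.pow_le_pow_right (Nat.le_succ _)
    have key4 : aeval p P₀ ∈ idealOfVars (Fin e) k ^ (n + 1) := by
      have := Ideal.sub_mem _ hy (hle hy2)
      rwa [sub_sub_cancel] at this
    have key5 : P₀ ∈ idealOfVars (Fin e) k ^ (n + 1) := by
      have := Ideal.sub_mem _ key4 key1
      rwa [sub_sub_cancel] at this
    rw [mem_pow_idealOfVars_iff'] at key5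
    ext d
    rw [coeff_zero]
    by_contra hne
    have hdeg : d.degree = n := by
      have := hhom hne
      rw [Finsupp.degree_eq_weight_one]
      exact this
    exact hne (key5 d (by omega))
  -- quasi-regularity
  have hqr : CAlgX.IsQuasiRegular ξ := by
    intro n P hP hmem d
    rw [hspan] at hmem ⊢
    set P₀ : MvPolynomial (Fin e) k := MvPolynomial.map (π : A →+* k) P with hP₀
    have hP₀hom : P₀.IsHomogeneous n := hP.map _
    set P' : MvPolynomial (Fin e) A := MvPolynomial.map (algebraMap k A) P₀ with hP'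
    have hdiff : MvPolynomial.eval ξ (P - P') ∈ IsLocalRing.maximalIdeal A ^ (n + 1) := by
      rw [← hspan]
      apply Groth.Agent.Helper1.QuasiReg.eval_mem_pow_succ ξ n (P - P') (hP.sub (hP₀hom.map _))
      intro d'
      rw [hspan, ← hπ, RingHom.mem_ker, MvPolynomial.coeff_sub, map_sub, hP',
        MvPolynomial.coeff_map, hP₀, MvPolynomial.coeff_map]
      simp
    have h1 : MvPolynomial.eval ξ P' ∈ IsLocalRing.maximalIdeal A ^ (n + 1) := by
      have := Ideal.sub_mem _ hmem hdiff
      rwa [← map_sub, sub_sub_cancel] at this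
    have h2 : MvPolynomial.eval ξ P' = aeval ξ P₀ := by
      rw [hP', MvPolynomial.eval_map, ← MvPolynomial.aeval_def]
    rw [h2] at h1
    have hzero := key n P₀ hP₀hom h1
    rw [← hπ, RingHom.mem_ker]
    have := congrArg (MvPolynomial.coeff d) hzero
    rwa [hP₀, MvPolynomial.coeff_map, MvPolynomial.coeff_zero] at this
  -- regularity of the sequence
  have hwr : IsWeaklyRegular A (List.ofFn ξ) := by
    apply Groth.Agent.Helper7.QRReg.isWeaklyRegular_of_isQuasiRegular e _ ξ _ hqr
    intro i
    rw [← Ideal.jacobson_bot, IsLocalRing.jacobson_eq_maximalIdeal ⊥ bot_ne_top]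
    exact hξmem i
  have hofList : Ideal.ofList (List.ofFn ξ) = IsLocalRing.maximalIdeal A := by
    rw [← hspan]
    unfold Ideal.ofList
    congr 1
    ext r
    simp [List.mem_ofFn]
  have hreg : IsRegular A (List.ofFn ξ) := by
    refine ⟨hwr, ?_⟩
    rw [hofList, smul_eq_mul, Ideal.mul_top]
    exact (IsLocalRing.maximalIdeal.isMaximal _).ne_top.symm
  refine Groth.Agent.Helper8.RegSeqD.regular_of_regular_quotient e _ (List.ofFn ξ)
    (List.length_ofFn) hreg ?_
  have e1 : (A ⧸ Ideal.ofList (List.ofFn ξ)) ≃+* (A ⧸ IsLocalRing.maximalIdeal A) :=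
    Ideal.quotEquivOfEq hofList
  letI : Field (A ⧸ IsLocalRing.maximalIdeal A) := Ideal.Quotient.field _
  have hfield : IsRegularLocalRing (A ⧸ IsLocalRing.maximalIdeal A) :=
    Groth.Agent.Helper4.ArtinReg.isRegularLocalRing_of_isField _ (Field.toIsField _)
  exact IsRegularLocalRing.of_ringEquiv e1.symm

end Groth.Agent.Helper7.MJet
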