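import Mathlib
import Groth.Agent.Helper7.MJetC
import Groth.Agent.Helper4.RegSop

set_option autoImplicit false
set_option linter.style.haveILetI false

/-! Regularity implies the infinitesimal lifting property; the equivalence. -/

namespace Groth.Agent.Helper7.MJet

open MvPolynomial

universe u

section approx

variable {k A : Type u} [Field k] [CommRing A] [Algebra k A] [IsLocalRing A]
  (π : A →ₐ[k] k) (hπ : RingHom.ker π = IsLocalRing.maximalIdeal A)
  {d : ℕ} (ξ : Fin d → A) (hspan : Ideal.span (Set.range ξ) = IsLocalRing.maximalIdeal A)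

include hπ hspan in
theorem approx_step (N : ℕ) (z : A) (hz : z ∈ IsLocalRing.maximalIdeal A ^ N) :
    ∃ Q₀ : MvPolynomial (Fin d) k, z - aeval ξ Q₀ ∈ IsLocalRing.maximalIdeal A ^ (N + 1) := by
  rw [← hspan, Ideal.mem_span_pow_iff_exists_isHomogeneous] at hz
  obtain ⟨Q, hQ, rfl⟩ := hz
  set Q₀ : MvPolynomial (Fin d) k := MvPolynomial.map (π : A →+* k) Q with hQ₀
  refine ⟨Q₀, ?_⟩
  have h2 : aeval ξ Q₀ = MvPolynomial.eval ξ (MvPolynomial.map (algebraMap k A) Q₀) := by
    rw [MvPolynomial.eval_map, ← MvPolynomial.aeval_def]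
  rw [h2, ← map_sub, ← hspan]
  apply Groth.Agent.Helper1.QuasiReg.eval_mem_pow_succ ξ N _ (hQ.sub ((hQ.map _).map _))
  intro d'
  rw [hspan, ← hπ, RingHom.mem_ker, MvPolynomial.coeff_sub, map_sub,
    MvPolynomial.coeff_map, MvPolynomial.coeff_map]
  simp

include hπ hspan in
theorem exists_approx (N : ℕ) (a : A) :
    ∃ F : MvPolynomial (Fin d) k, a - aeval ξ F ∈ IsLocalRing.maximalIdeal A ^ N := by
  induction N with
  | zero => exact ⟨0, by rw [pow_zero, Ideal.one_eq_top]; trivial⟩
  | succ N ih =>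
    obtain ⟨F, hF⟩ := ih
    obtain ⟨Q₀, hQ₀⟩ := approx_step π hπ ξ hspan N _ hF
    refine ⟨F + Q₀, ?_⟩
    rw [map_add, ← sub_sub]
    exact hQ₀

include hspan in
theorem aeval_mem_pow (N : ℕ) (F : MvPolynomial (Fin d) k)
    (hF : F ∈ idealOfVars (Fin d) k ^ N) : aeval ξ F ∈ IsLocalRing.maximalIdeal A ^ N := by
  have h1 : Ideal.map (aeval ξ : MvPolynomial (Fin d) k →ₐ[k] A) (idealOfVars (Fin d) k) ≤
      IsLocalRing.maximalIdeal A := by
    rw [Ideal.map_span, Ideal.span_le]
    rintro _ ⟨_, ⟨i, rfl⟩, rfl⟩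
    rw [← hspan]
    show aeval ξ (X i) ∈ _
    rw [aeval_X]
    exact Ideal.subset_span ⟨i, rfl⟩
  refine Ideal.pow_right_mono h1 N ?_
  rw [← Ideal.map_pow]
  exact Ideal.mem_map_of_mem _ hF

include hπ hspan in
theorem mem_pow_of_aeval_mem (hqr : CAlgX.IsQuasiRegular ξ) (N : ℕ) :
    ∀ F : MvPolynomial (Fin d) k, aeval ξ F ∈ IsLocalRing.maximalIdeal A ^ N →
      F ∈ idealOfVars (Fin d) k ^ N := by
  induction N with
  | zero => intro F _; rw [pow_zero, Ideal.one_eq_top]; trivial
  | succ N ih =>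
    intro F hF
    have hFN : F ∈ idealOfVars (Fin d) k ^ N := ih F (Ideal.pow_le_pow_right (Nat.le_succ N) hF)
    set FN := homogeneousComponent N F with hFNdef
    have hF' : F - FN ∈ idealOfVars (Fin d) k ^ (N + 1) := by
      rw [mem_pow_idealOfVars_iff']
      intro x hx
      rw [coeff_sub, hFNdef, coeff_homogeneousComponent]
      split_ifs with h
      · rw [sub_self]
      · rw [sub_zero]
        exact (mem_pow_idealOfVars_iff' N F).mp hFN x (by omega)
    have h1 : aeval ξ FN ∈ IsLocalRing.maximalIdeal A ^ (N + 1) := by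
      have := Ideal.sub_mem _ hF (aeval_mem_pow ξ hspan (N + 1) _ hF')
      rwa [← map_sub, sub_sub_cancel] at this
    have hhom : FN.IsHomogeneous N := homogeneousComponent_isHomogeneous N F
    have h2 : aeval ξ FN = MvPolynomial.eval ξ (MvPolynomial.map (algebraMap k A) FN) := by
      rw [MvPolynomial.eval_map, ← MvPolynomial.aeval_def]
    rw [h2, ← hspan] at h1
    have h3 := hqr N _ (hhom.map _) h1
    have hzero : FN = 0 := by
      ext x
      have := h3 x
      rw [hspan, ← hπ, RingHom.mem_ker, MvPolynomial.coeff_map] at this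
      simpa using this
    rw [hzero, sub_zero] at hF'
    exact hF'

end approx

section main

variable (k A : Type u) [Field k] [CommRing A] [Algebra k A]

theorem sqLift_of_regular [IsRegularLocalRing A] (π : A →ₐ[k] k)
    (hπ : RingHom.ker π = IsLocalRing.maximalIdeal A) : SqLift k A := by
  classical
  have hreg : ((IsLocalRing.maximalIdeal A).spanFinrank : WithBot ℕ∞) = ringKrullDim A :=
    IsRegularLocalRing.spanFinrank_maximalIdeal
  obtain ⟨ξ, hspan, hqr⟩ := Groth.Agent.Helper4.RegSop.exists_quasiRegular A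
    (IsLocalRing.maximalIdeal A).spanFinrank hreg.symm
  intro R _ _ _ _ J hJ f hloc
  obtain ⟨N, hN⟩ : IsNilpotent (IsLocalRing.maximalIdeal R) :=
    (isArtinianRing_iff_isNilpotent_maximalIdeal R).mp inferInstance
  choose y hy using fun i => Ideal.Quotient.mk_surjective (f (ξ i))
  have hξmem : ∀ i, ξ i ∈ IsLocalRing.maximalIdeal A := fun i => by
    rw [← hspan]; exact Ideal.subset_span ⟨i, rfl⟩
  have hnu : ∀ a ∈ IsLocalRing.maximalIdeal A, ¬ IsUnit (f a) := fun a ha hu =>
    ha (hloc.map_nonunit a hu)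
  have hmemR : ∀ r : R, ¬ IsUnit (Ideal.Quotient.mk J r) → r ∈ IsLocalRing.maximalIdeal R := by
    intro r hr
    by_contra h
    rw [IsLocalRing.mem_maximalIdeal, mem_nonunits_iff, not_not] at h
    exact hr (h.map _)
  have hymem : ∀ i, y i ∈ IsLocalRing.maximalIdeal R := fun i =>
    hmemR _ (by rw [hy i]; exact hnu _ (hξmem i))
  let g₀ : MvPolynomial (Fin (IsLocalRing.maximalIdeal A).spanFinrank) k →ₐ[k] R := aeval y
  have hg₀ : ∀ F ∈ idealOfVars (Fin (IsLocalRing.maximalIdeal A).spanFinrank) k ^ N, g₀ F = 0 := by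
    intro F hF
    have h1 : Ideal.map g₀ (idealOfVars (Fin (IsLocalRing.maximalIdeal A).spanFinrank) k) ≤
        IsLocalRing.maximalIdeal R := by
      rw [Ideal.map_span, Ideal.span_le]
      rintro _ ⟨_, ⟨i, rfl⟩, rfl⟩
      show aeval y (X i) ∈ _
      rw [aeval_X]
      exact hymem i
    have h2 : g₀ F ∈ IsLocalRing.maximalIdeal R ^ N := by
      refine Ideal.pow_right_mono h1 N ?_
      rw [← Ideal.map_pow]
      exact Ideal.mem_map_of_mem _ hF
    rw [hN] at h2
    exact h2
  choose Fa hFa using fun a => exists_approx π hπ ξ hspan N a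
  have huniq : ∀ a F, a - aeval ξ F ∈ IsLocalRing.maximalIdeal A ^ N → g₀ (Fa a) = g₀ F := by
    intro a F hF
    have h1 : aeval ξ (Fa a - F) ∈ IsLocalRing.maximalIdeal A ^ N := by
      have := Ideal.sub_mem _ hF (hFa a)
      rwa [sub_sub_sub_cancel_left, ← map_sub] at this
    have h2 := mem_pow_of_aeval_mem π hπ ξ hspan hqr N _ h1
    have := hg₀ _ h2
    rwa [map_sub, sub_eq_zero] at this
  let g : A →ₐ[k] R :=
    { toFun := fun a => g₀ (Fa a)
      map_one' := by
        rw [huniq 1 1 (by simp), map_one]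
      map_mul' := fun a b => by
        rw [huniq (a * b) (Fa a * Fa b) ?_, map_mul]
        have : a * b - aeval ξ (Fa a * Fa b) =
            a * (b - aeval ξ (Fa b)) + (a - aeval ξ (Fa a)) * aeval ξ (Fa b) := by
          rw [map_mul]; ring
        rw [this]
        exact Ideal.add_mem _ (Ideal.mul_mem_left _ _ (hFa b)) (Ideal.mul_mem_right _ _ (hFa a))
      map_zero' := by
        rw [huniq 0 0 (by simp), map_zero]
      map_add' := fun a b => by
        rw [huniq (a + b) (Fa a + Fa b) ?_, map_add]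
        have : a + b - aeval ξ (Fa a + Fa b) =
            (a - aeval ξ (Fa a)) + (b - aeval ξ (Fa b)) := by
          rw [map_add]; ring
        rw [this]
        exact Ideal.add_mem _ (hFa a) (hFa b)
      commutes' := fun t => by
        show g₀ (Fa (algebraMap k A t)) = algebraMap k R t
        rw [huniq (algebraMap k A t) (C t) (by simp)]
        show aeval y (C t) = _
        rw [aeval_C] }
  refine ⟨g, ?_⟩
  ext a
  show Ideal.Quotient.mk J (g₀ (Fa a)) = f a
  have hfz : ∀ z ∈ IsLocalRing.maximalIdeal A ^ N, f z = 0 := by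
    intro z hz
    have h1 : Ideal.map f (IsLocalRing.maximalIdeal A) ≤
        (IsLocalRing.maximalIdeal R).map (Ideal.Quotient.mk J) := by
      rw [Ideal.map_le_iff_le_comap]
      intro a ha
      rw [Ideal.mem_comap]
      obtain ⟨r, hr⟩ := Ideal.Quotient.mk_surjective (f a)
      rw [← hr]
      exact Ideal.mem_map_of_mem _ (hmemR r (by rw [hr]; exact hnu a ha))
    have h2 : f z ∈ ((IsLocalRing.maximalIdeal R).map (Ideal.Quotient.mk J)) ^ N := by
      refine Ideal.pow_right_mono h1 N ?_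
      rw [← Ideal.map_pow]
      exact Ideal.mem_map_of_mem _ hz
    rw [← Ideal.map_pow, hN, Ideal.zero_eq_bot, Ideal.map_bot] at h2
    exact h2
  have h3 : f (aeval ξ (Fa a)) = Ideal.Quotient.mk J (g₀ (Fa a)) := by
    have e2 : (fun i => f (ξ i)) = fun i => Ideal.Quotient.mkₐ k J (y i) :=
      funext fun i => (hy i).symm
    rw [comp_aeval_apply, e2, ← Ideal.Quotient.mkₐ_eq_mk k]
    show _ = Ideal.Quotient.mkₐ k J (aeval y (Fa a))
    rw [comp_aeval_apply]
  have h4 := hfz _ (hFa a)
  rw [map_sub, sub_eq_zero] at h4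
  rw [h4, h3]

theorem main [IsLocalRing A] [IsNoetherianRing A] (π : A →ₐ[k] k)
    (hπ : RingHom.ker π = IsLocalRing.maximalIdeal A) :
    IsRegularLocalRing A ↔ SqLift k A :=
  ⟨fun h => by haveI := h; exact sqLift_of_regular k A π hπ, regular_of_sqLift k A π hπ⟩

end main

end Groth.Agent.Helper7.MJet
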