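import Mathlib

/-! Towers with eventually surjective transition maps. -/

universe u

open CategoryTheory Opposite

namespace Groth.Agent.Helper7.MLSurj

variable (G : ℕᵒᵖ ⥤ AddCommGrpCat.{u})

/-- transition function -/
def τ {m n : ℕ} (h : m ≤ n) :
    (G ⋙ forget AddCommGrpCat.{u}).obj (op n) → (G ⋙ forget AddCommGrpCat.{u}).obj (op m) :=
  (G ⋙ forget AddCommGrpCat.{u}).map (homOfLE h).op

lemma τ_map {j k : ℕᵒᵖ} (g : k ⟶ j) :
    (G ⋙ forget AddCommGrpCat.{u}).map g = τ G (leOfHom g.unop) := by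
  have : g = (homOfLE (leOfHom g.unop)).op := Subsingleton.elim _ _
  conv_lhs => rw [this]
  rfl

lemma τ_refl (m : ℕ) (x) : τ G (le_refl m) x = x := by
  have : (homOfLE (le_refl m)).op = 𝟙 (op m) := Subsingleton.elim _ _
  unfold τ
  rw [this, (G ⋙ forget AddCommGrpCat.{u}).map_id]
  rfl

lemma τ_trans {l m n : ℕ} (h1 : l ≤ m) (h2 : m ≤ n) (x) :
    τ G h1 (τ G h2 x) = τ G (h1.trans h2) x := by
  have : (homOfLE (h1.trans h2)).op = (homOfLE h2).op ≫ (homOfLE h1).op := Subsingleton.elim _ _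
  unfold τ
  rw [this, (G ⋙ forget AddCommGrpCat.{u}).map_comp]
  rfl

lemma τ_surj (j₀ : ℕ)
    (hs : ∀ j : ℕ, j₀ ≤ j → Function.Surjective (τ G (Nat.le_succ j)))
    {m : ℕ} (hm : j₀ ≤ m) : ∀ (n : ℕ) (h : m ≤ n), Function.Surjective (τ G h) := by
  intro n h
  induction n, h using Nat.le_induction with
  | base => intro x; exact ⟨x, τ_refl G m x⟩
  | succ n hn ih =>
    intro x
    obtain ⟨y, rfl⟩ := ih x
    obtain ⟨z, rfl⟩ := hs n (hm.trans hn) y
    exact ⟨z, (τ_trans G hn (Nat.le_succ n) z).symm⟩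

lemma τ_inj (j₀ : ℕ)
    (hs : ∀ j : ℕ, j₀ ≤ j → Function.Injective (τ G (Nat.le_succ j)))
    {m : ℕ} (hm : j₀ ≤ m) : ∀ (n : ℕ) (h : m ≤ n), Function.Injective (τ G h) := by
  intro n h
  induction n, h using Nat.le_induction with
  | base => intro x y hxy; rwa [τ_refl, τ_refl] at hxy
  | succ n hn ih =>
    intro x y hxy
    rw [← τ_trans G hn (Nat.le_succ n), ← τ_trans G hn (Nat.le_succ n)] at hxy
    exact hs n (hm.trans hn) (ih hxy)

theorem main (j₀ : ℕ)
    (hs : ∀ j : ℕ, j₀ ≤ j → Function.Surjective (G.map (homOfLE (Nat.le_succ j)).op).hom) :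
    (G ⋙ forget AddCommGrpCat.{u}).IsMittagLeffler ∧
      Function.Surjective (fun s : (G ⋙ forget AddCommGrpCat.{u}).sections => s.1 (op j₀)) ∧
      ((∀ j : ℕ, j₀ ≤ j → Function.Injective (G.map (homOfLE (Nat.le_succ j)).op).hom) →
        Function.Bijective (fun s : (G ⋙ forget AddCommGrpCat.{u}).sections => s.1 (op j₀))) := by
  have hs' : ∀ j : ℕ, j₀ ≤ j → Function.Surjective (τ G (Nat.le_succ j)) := hs
  have hsurjev : Function.Surjective
      (fun s : (G ⋙ forget AddCommGrpCat.{u}).sections => s.1 (op j₀)) := by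
    intro x
    -- build lifts
    have hstep : ∀ n (y : (G ⋙ forget AddCommGrpCat.{u}).obj (op (j₀ + n))),
        ∃ z : (G ⋙ forget AddCommGrpCat.{u}).obj (op (j₀ + (n + 1))),
          τ G (Nat.le_succ (j₀ + n)) z = y := fun n y => hs' (j₀ + n) (Nat.le_add_right _ _) y
    choose next hnext using hstep
    let y : ∀ n, (G ⋙ forget AddCommGrpCat.{u}).obj (op (j₀ + n)) :=
      fun n => Nat.rec (motive := fun n => (G ⋙ forget AddCommGrpCat.{u}).obj (op (j₀ + n)))
        x (fun n yn => next n yn) n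
    have hy0 : y 0 = x := rfl
    have hysucc : ∀ n, τ G (Nat.le_succ (j₀ + n)) (y (n + 1)) = y n := fun n => hnext n (y n)
    have hy : ∀ (m n : ℕ) (h : m ≤ n), τ G (Nat.add_le_add_left h j₀) (y n) = y m := by
      intro m n h
      induction n, h using Nat.le_induction with
      | base => exact τ_refl G _ _
      | succ n hn ih =>
        rw [← ih, ← hysucc n, τ_trans]
    refine ⟨⟨fun j => τ G (Nat.le_add_left j.unop j₀) (y j.unop), ?_⟩, ?_⟩
    · intro j j' f
      have hle : j'.unop ≤ j.unop := leOfHom f.unop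
      show (G ⋙ forget AddCommGrpCat.{u}).map f (τ G (Nat.le_add_left j.unop j₀) (y j.unop)) =
        τ G (Nat.le_add_left j'.unop j₀) (y j'.unop)
      rw [τ_map, τ_trans, ← hy j'.unop j.unop hle, τ_trans]
    · show τ G (Nat.le_add_left j₀ j₀) (y j₀) = x
      rw [← hy0, ← hy 0 j₀ (Nat.zero_le _)]
  refine ⟨?_, hsurjev, fun hi => ⟨?_, hsurjev⟩⟩
  · intro j
    refine ⟨op (max j.unop j₀), (homOfLE (le_max_left _ _)).op, ?_⟩
    intro k g
    rw [τ_map, τ_map]
    rintro _ ⟨x, rfl⟩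
    -- choose K ≥ both
    have hk : j.unop ≤ k.unop := leOfHom g.unop
    set N := max k.unop (max j.unop j₀) with hN
    obtain ⟨z, rfl⟩ := τ_surj G j₀ hs' (le_max_right j.unop j₀) N (le_max_right _ _) x
    refine ⟨τ G (le_max_left k.unop _) z, ?_⟩
    rw [τ_trans, τ_trans]
  · have hi' : ∀ j : ℕ, j₀ ≤ j → Function.Injective (τ G (Nat.le_succ j)) := hi
    intro s s' hss'
    have hss : s.1 (op j₀) = s'.1 (op j₀) := hss'
    apply Subtype.ext
    funext j
    have e1 : ∀ (t : (G ⋙ forget AddCommGrpCat.{u}).sections) {m n : ℕ} (h : m ≤ n),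
        τ G h (t.1 (op n)) = t.1 (op m) := fun t m n h => t.2 (homOfLE h).op
    by_cases hj : j.unop ≤ j₀
    · have := e1 s hj
      have h2 := e1 s' hj
      rw [hss] at this
      exact this.symm.trans h2
    · have hj' : j₀ ≤ j.unop := le_of_not_ge hj
      apply τ_inj G j₀ hi' le_rfl j.unop hj'
      rw [e1 s hj', e1 s' hj']
      exact hss

end Groth.Agent.Helper7.MLSurj
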