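import Mathlib
import Groth.Prelude.Def_CAlgX

set_option linter.style.haveILetI false
set_option linter.unusedSectionVars false

/-! The `𝔪`-adic order function of a Noetherian local ring whose maximal ideal is generated by a
quasi-regular sequence: it is multiplicative. -/

namespace Groth.Agent.Helper7.MOrd

open IsLocalRing MvPolynomial

universe u

variable {A : Type u} [CommRing A] {d : ℕ} (f : Fin d → A)

/-- A homogeneous polynomial of degree `n` with all coefficients in `J = (f)` takes a value
in `J^(n+1)` at `f`. -/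
theorem eval_mem_pow_succ {n : ℕ} {P : MvPolynomial (Fin d) A} (hP : P.IsHomogeneous n)
    (hc : ∀ α, P.coeff α ∈ Ideal.span (Set.range f)) :
    eval f P ∈ Ideal.span (Set.range f) ^ (n + 1) := by
  rw [P.as_sum, map_sum]
  refine Ideal.sum_mem _ fun α hα => ?_
  rw [eval_monomial, pow_succ']
  apply Ideal.mul_mem_mul (hc α)
  rw [Ideal.mem_span_pow_iff_exists_isHomogeneous]
  refine ⟨monomial α 1, isHomogeneous_monomial _ ?_, by simp [eval_monomial]⟩
  have := hP (mem_support_iff.mp hα)
  simpa [Finsupp.degree, Finsupp.weight_apply, Finsupp.sum] using this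

variable [IsLocalRing A]

/-- Key: the associated graded ring is a domain. -/
theorem mul_notMem (hf : Ideal.span (Set.range f) = maximalIdeal A) (hq : CAlgX.IsQuasiRegular f)
    {a b : A} {n n' : ℕ} (ha : a ∈ maximalIdeal A ^ n) (ha' : a ∉ maximalIdeal A ^ (n + 1))
    (hb : b ∈ maximalIdeal A ^ n') (hb' : b ∉ maximalIdeal A ^ (n' + 1)) :
    a * b ∉ maximalIdeal A ^ (n + n' + 1) := by
  rw [← hf] at ha ha' hb hb' ⊢
  rw [Ideal.mem_span_pow_iff_exists_isHomogeneous] at ha hb
  obtain ⟨P, hP, rfl⟩ := ha
  obtain ⟨Q, hQ, rfl⟩ := hb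
  let mk := Ideal.Quotient.mk (maximalIdeal A)
  letI : Field (A ⧸ maximalIdeal A) := Ideal.Quotient.field _
  have hP0 : map mk P ≠ 0 := by
    intro h
    apply ha'
    apply eval_mem_pow_succ f hP
    intro α
    have := congrArg (coeff α) h
    rw [coeff_map, coeff_zero, Ideal.Quotient.eq_zero_iff_mem] at this
    rw [hf]; exact this
  have hQ0 : map mk Q ≠ 0 := by
    intro h
    apply hb'
    apply eval_mem_pow_succ f hQ
    intro α
    have := congrArg (coeff α) h
    rw [coeff_map, coeff_zero, Ideal.Quotient.eq_zero_iff_mem] at this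
    rw [hf]; exact this
  have hPQ : map mk (P * Q) ≠ 0 := by
    rw [map_mul]; exact mul_ne_zero hP0 hQ0
  intro hmem
  apply hPQ
  rw [← map_mul] at hmem
  have := hq (n + n') (P * Q) (hP.mul hQ) hmem
  ext α
  rw [coeff_map, coeff_zero, Ideal.Quotient.eq_zero_iff_mem, ← hf]
  exact this α

end Groth.Agent.Helper7.MOrd
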