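import Mathlib
import Groth.Agent.Helper7.MOrd1

set_option linter.style.haveILetI false
set_option linter.unusedSectionVars false

/-! The `𝔪`-adic order valuation. -/

namespace Groth.Agent.Helper7.MOrd

open IsLocalRing MvPolynomial WithZero
open scoped Classical

universe u

variable {A : Type u} [CommRing A] [IsLocalRing A] [IsNoetherianRing A] [IsDomain A]

theorem exists_notMem {a : A} (ha : a ≠ 0) : ∃ n, a ∉ maximalIdeal A ^ (n + 1) := by
  by_contra h
  push Not at h
  apply ha
  have h1 : a ∈ ⨅ n, maximalIdeal A ^ n := by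
    rw [Ideal.mem_iInf]
    intro n
    cases n with
    | zero => simp
    | succ n => exact h n
  rw [Ideal.iInf_pow_eq_bot_of_isLocalRing _ (maximalIdeal.isMaximal A).ne_top] at h1
  exact h1

/-- The `𝔪`-adic order of an element (`0` at `0`). -/
noncomputable def ord (a : A) : ℕ := if h : a = 0 then 0 else Nat.find (exists_notMem h)

theorem notMem_pow_ord_succ {a : A} (ha : a ≠ 0) : a ∉ maximalIdeal A ^ (ord a + 1) := by
  rw [ord, dif_neg ha]
  exact Nat.find_spec (exists_notMem ha)

theorem mem_pow_ord {a : A} (ha : a ≠ 0) : a ∈ maximalIdeal A ^ (ord a) := by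
  rcases Nat.eq_zero_or_pos (ord a) with h | h
  · rw [h]; simp
  · have h1 : ord a - 1 < ord a := by omega
    have h2 : ord a - 1 < Nat.find (exists_notMem ha) := by
      have : ord a = Nat.find (exists_notMem ha) := by rw [ord, dif_neg ha]
      omega
    have := Nat.find_min (exists_notMem ha) h2
    push Not at this
    have e : ord a - 1 + 1 = ord a := by omega
    rwa [e] at this

theorem le_ord_iff {a : A} (ha : a ≠ 0) (n : ℕ) : n ≤ ord a ↔ a ∈ maximalIdeal A ^ n := by
  constructor
  · intro h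
    exact Ideal.pow_le_pow_right h (mem_pow_ord ha)
  · intro h
    by_contra hlt
    push Not at hlt
    exact notMem_pow_ord_succ ha (Ideal.pow_le_pow_right (by omega) h)

theorem ord_eq {a : A} {n : ℕ} (h1 : a ∈ maximalIdeal A ^ n) (h2 : a ∉ maximalIdeal A ^ (n + 1)) :
    ord a = n := by
  have ha : a ≠ 0 := by
    rintro rfl
    exact h2 (zero_mem _)
  apply le_antisymm
  · by_contra hlt
    push Not at hlt
    exact h2 ((le_ord_iff ha _).mp hlt)
  · exact (le_ord_iff ha n).mpr h1

theorem ord_one : ord (1 : A) = 0 := by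
  apply ord_eq
  · simp
  · rw [zero_add, pow_one]
    intro h
    exact (maximalIdeal.isMaximal A).ne_top ((Ideal.eq_top_iff_one _).mpr h)

theorem ord_pos_iff {a : A} (ha : a ≠ 0) : 0 < ord a ↔ a ∈ maximalIdeal A := by
  have := le_ord_iff ha 1
  rw [pow_one] at this
  rw [← this]; omega

section QR

variable {d : ℕ} {f : Fin d → A} (hf : Ideal.span (Set.range f) = maximalIdeal A)
  (hq : CAlgX.IsQuasiRegular f)
include hf hq

theorem ord_mul {a b : A} (ha : a ≠ 0) (hb : b ≠ 0) : ord (a * b) = ord a + ord b := by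
  apply ord_eq
  · rw [pow_add]
    exact Ideal.mul_mem_mul (mem_pow_ord ha) (mem_pow_ord hb)
  · exact mul_notMem f hf hq (mem_pow_ord ha) (notMem_pow_ord_succ ha) (mem_pow_ord hb)
      (notMem_pow_ord_succ hb)

end QR

theorem ord_add {a b : A} (ha : a ≠ 0) (hb : b ≠ 0) (hab : a + b ≠ 0) :
    min (ord a) (ord b) ≤ ord (a + b) := by
  rw [le_ord_iff hab]
  apply Ideal.add_mem
  · exact Ideal.pow_le_pow_right (min_le_left _ _) (mem_pow_ord ha)
  · exact Ideal.pow_le_pow_right (min_le_right _ _) (mem_pow_ord hb)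

section QR

variable {d : ℕ} {f : Fin d → A} (hf : Ideal.span (Set.range f) = maximalIdeal A)
  (hq : CAlgX.IsQuasiRegular f)

/-- The `𝔪`-adic order valuation on `A`. -/
noncomputable def v₀ : Valuation A ℤᵐ⁰ where
  toFun a := if a = 0 then 0 else exp (-(ord a : ℤ))
  map_zero' := by simp
  map_one' := by simp [ord_one]
  map_mul' a b := by
    by_cases ha : a = 0
    · simp [ha]
    by_cases hb : b = 0
    · simp [hb]
    simp only [ha, hb, mul_ne_zero ha hb, if_false]
    rw [ord_mul hf hq ha hb, ← exp_add]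
    congr 1
    push_cast; ring
  map_add_le_max' a b := by
    by_cases ha : a = 0
    · simp [ha]
    by_cases hb : b = 0
    · simp [hb]
    by_cases hab : a + b = 0
    · simp [hab]
    simp only [ha, hb, hab, if_false]
    have := ord_add ha hb hab
    rcases le_total (ord a) (ord b) with h | h
    · rw [min_eq_left h] at this
      apply le_max_of_le_left
      rw [exp_le_exp]
      omega
    · rw [min_eq_right h] at this
      apply le_max_of_le_right
      rw [exp_le_exp]
      omega

theorem v₀_apply {a : A} (ha : a ≠ 0) : v₀ hf hq a = exp (-(ord a : ℤ)) := by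
  show (if a = 0 then 0 else exp (-(ord a : ℤ))) = _
  rw [if_neg ha]

theorem v₀_ne_zero {a : A} (ha : a ≠ 0) : v₀ hf hq a ≠ 0 := by
  rw [v₀_apply hf hq ha]; exact exp_ne_zero

theorem v₀_le_one (a : A) : v₀ hf hq a ≤ 1 := by
  by_cases ha : a = 0
  · simp [ha]
  · rw [v₀_apply hf hq ha, ← exp_zero, exp_le_exp]; omega

theorem v₀_lt_one_iff (a : A) : v₀ hf hq a < 1 ↔ a ∈ maximalIdeal A := by
  by_cases ha : a = 0
  · simp [ha]
  · rw [v₀_apply hf hq ha, ← exp_zero, exp_lt_exp, ← ord_pos_iff ha]; omega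

theorem v₀_le_exp_iff (a : A) (n : ℕ) : v₀ hf hq a ≤ exp (-(n : ℤ)) ↔ a ∈ maximalIdeal A ^ n := by
  by_cases ha : a = 0
  · simp [ha]
  · rw [v₀_apply hf hq ha, exp_le_exp, ← le_ord_iff ha]; omega

theorem supp_le : nonZeroDivisors A ≤ (v₀ hf hq).supp.primeCompl := by
  intro a ha
  have ha0 : a ≠ 0 := nonZeroDivisors.ne_zero ha
  show a ∉ (v₀ hf hq).supp
  rw [Valuation.mem_supp_iff]
  exact v₀_ne_zero hf hq ha0

end QR

end Groth.Agent.Helper7.MOrd
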