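import Mathlib
import Groth.Agent.Helper7.MOrd2

set_option linter.style.haveILetI false
set_option linter.unusedSectionVars false

/-! The valuation ring of the `𝔪`-adic order valuation as a subalgebra of the fraction field. -/

namespace Groth.Agent.Helper7.MOrd

open IsLocalRing MvPolynomial WithZero
open scoped Classical

universe u

variable {A : Type u} [CommRing A] [IsLocalRing A] [IsNoetherianRing A] [IsDomain A]
variable {d : ℕ} {f : Fin d → A} (hf : Ideal.span (Set.range f) = maximalIdeal A)
  (hq : CAlgX.IsQuasiRegular f)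
variable (K : Type u) [Field K] [Algebra A K] [IsFractionRing A K]

/-- The order valuation on the fraction field. -/
noncomputable def v : Valuation K ℤᵐ⁰ := (v₀ hf hq).extendToLocalization (supp_le hf hq) K

theorem v_algebraMap (a : A) : v hf hq K (algebraMap A K a) = v₀ hf hq a :=
  Valuation.extendToLocalization_apply_map_apply _ _ _ _

/-- The valuation ring. -/
noncomputable def V : Subalgebra A K where
  carrier := {z | v hf hq K z ≤ 1}
  mul_mem' := fun {a b} ha hb => by
    show v hf hq K (a * b) ≤ 1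
    rw [map_mul]
    exact mul_le_one' ha hb
  add_mem' := fun {a b} ha hb => by
    show v hf hq K (a + b) ≤ 1
    exact (Valuation.map_add _ _ _).trans (max_le ha hb)
  one_mem' := by show v hf hq K 1 ≤ 1; rw [map_one]
  zero_mem' := by show v hf hq K 0 ≤ 1; rw [map_zero]; exact zero_le_one
  algebraMap_mem' a := by
    show v hf hq K (algebraMap A K a) ≤ 1
    rw [v_algebraMap]; exact v₀_le_one hf hq a

variable {K}

theorem mem_V {z : K} : z ∈ V hf hq K ↔ v hf hq K z ≤ 1 := Iff.rfl

theorem exists_nat_of_le_one {z : K} (hz : z ≠ 0) (h1 : v hf hq K z ≤ 1) :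
    ∃ n : ℕ, v hf hq K z = exp (-(n : ℤ)) := by
  have h0 : v hf hq K z ≠ 0 := (Valuation.ne_zero_iff _).mpr hz
  have h2 : exp (log (v hf hq K z)) = v hf hq K z := exp_log h0
  have h3 : log (v hf hq K z) ≤ 0 := by
    rw [← exp_le_exp, h2, exp_zero]; exact h1
  refine ⟨(-log (v hf hq K z)).toNat, ?_⟩
  rw [← h2]
  congr 1
  rw [exp_log h0]
  omega

theorem isUnit_iff (z : V hf hq K) : IsUnit z ↔ v hf hq K (z : K) = 1 := by
  constructor
  · rintro ⟨u, rfl⟩
    have h1 : v hf hq K ((u : V hf hq K) : K) ≤ 1 := (u : V hf hq K).2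
    have h2 : v hf hq K (((u⁻¹ : (V hf hq K)ˣ) : V hf hq K) : K) ≤ 1 :=
      ((u⁻¹ : (V hf hq K)ˣ) : V hf hq K).2
    have h3 : ((u : V hf hq K) : K) * (((u⁻¹ : (V hf hq K)ˣ) : V hf hq K) : K) = 1 := by
      rw [← Subalgebra.coe_mul, Units.mul_inv]; rfl
    have h4 := congrArg (v hf hq K) h3
    rw [map_mul, map_one] at h4
    apply le_antisymm h1
    calc (1 : ℤᵐ⁰) = _ := h4.symm
      _ ≤ v hf hq K ((u : V hf hq K) : K) * 1 := by gcongr
      _ = _ := mul_one _
  · intro h
    have hz : (z : K) ≠ 0 := by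
      intro h0
      rw [h0, map_zero] at h
      exact zero_ne_one h
    have hinv : (z : K)⁻¹ ∈ V hf hq K := by
      rw [mem_V, map_inv₀, h, inv_one]
    refine ⟨⟨z, ⟨(z : K)⁻¹, hinv⟩, ?_, ?_⟩, rfl⟩
    · ext; simp [hz]
    · ext; simp [hz]

theorem isFractionRing_V : IsFractionRing (V hf hq K) K := by
  apply IsFractionRing.of_field
  intro z
  obtain ⟨a, b, hb, rfl⟩ := IsFractionRing.div_surjective (A := A) z
  exact ⟨algebraMap A (V hf hq K) a, algebraMap A (V hf hq K) b, rfl⟩

theorem mem_maximalIdeal_iff [IsLocalRing (V hf hq K)] (z : V hf hq K) :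
    z ∈ maximalIdeal (V hf hq K) ↔ v hf hq K (z : K) < 1 := by
  rw [mem_maximalIdeal, mem_nonunits_iff, isUnit_iff, lt_iff_le_and_ne]
  have : v hf hq K (z : K) ≤ 1 := z.2
  tauto

theorem comap_maximalIdeal [IsLocalRing (V hf hq K)] :
    (maximalIdeal (V hf hq K)).comap (algebraMap A (V hf hq K)) = maximalIdeal A := by
  ext a
  rw [Ideal.mem_comap, mem_maximalIdeal_iff]
  show v hf hq K (algebraMap A K a) < 1 ↔ _
  rw [v_algebraMap, v₀_lt_one_iff]

end Groth.Agent.Helper7.MOrd

namespace Groth.Agent.Helper7.MOrd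

open IsLocalRing MvPolynomial WithZero
open scoped Classical

universe u

variable {A : Type u} [CommRing A] [IsLocalRing A] [IsNoetherianRing A] [IsDomain A]
variable {e : ℕ} {f : Fin (e + 1) → A} (hf : Ideal.span (Set.range f) = maximalIdeal A)
  (hq : CAlgX.IsQuasiRegular f)
variable {K : Type u} [Field K] [Algebra A K] [IsFractionRing A K]

include hf in
theorem f_mem (i : Fin (e + 1)) : f i ∈ maximalIdeal A := by
  rw [← hf]; exact Ideal.subset_span ⟨i, rfl⟩

include hf hq in
theorem ord_f0 : ord (f 0) = 1 := by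
  apply ord_eq
  · rw [pow_one]; exact f_mem hf 0
  · intro h
    have h1 := hq 1 (X 0) (isHomogeneous_X _ _) (by rw [eval_X, hf]; exact h) (Finsupp.single 0 1)
    rw [hf] at h1
    have h2 : coeff (Finsupp.single (0 : Fin (e + 1)) 1) (X 0 : MvPolynomial (Fin (e + 1)) A) = 1 := by
      rw [coeff_X]; simp
    rw [h2] at h1
    exact (maximalIdeal.isMaximal A).ne_top ((Ideal.eq_top_iff_one _).mpr h1)

include hf hq in
theorem f0_ne_zero : f 0 ≠ 0 := by
  intro h
  have := ord_f0 hf hq
  rw [h] at this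
  simp [ord] at this

/-- The uniformizer `f 0`. -/
noncomputable def unif : V hf hq K := algebraMap A (V hf hq K) (f 0)

theorem v_unif : v hf hq K ((unif hf hq : V hf hq K) : K) = exp (-1 : ℤ) := by
  show v hf hq K (algebraMap A K (f 0)) = _
  rw [v_algebraMap, v₀_apply hf hq (f0_ne_zero hf hq), ord_f0 hf hq]
  rfl

theorem hasFactorization :
    IsDiscreteValuationRing.HasUnitMulPowIrreducibleFactorization (V hf hq K) := by
  refine ⟨unif hf hq, ⟨?_, ?_⟩, ?_⟩
  · rw [isUnit_iff, v_unif]
    intro h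
    rw [exp_eq_one] at h
    omega
  · intro x y hxy
    have hx0 : (x : K) ≠ 0 := by
      intro h
      have := congrArg (fun z : V hf hq K => v hf hq K (z : K)) hxy
      simp only [Subalgebra.coe_mul, h, zero_mul, map_zero, v_unif] at this
      exact exp_ne_zero this
    have hy0 : (y : K) ≠ 0 := by
      intro h
      have := congrArg (fun z : V hf hq K => v hf hq K (z : K)) hxy
      simp only [Subalgebra.coe_mul, h, mul_zero, map_zero, v_unif] at this
      exact exp_ne_zero this
    obtain ⟨i, hi⟩ := exists_nat_of_le_one hf hq hx0 x.2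
    obtain ⟨j, hj⟩ := exists_nat_of_le_one hf hq hy0 y.2
    have := congrArg (fun z : V hf hq K => v hf hq K (z : K)) hxy
    simp only [Subalgebra.coe_mul, map_mul, v_unif, hi, hj, ← exp_add, exp_inj] at this
    have hij : i = 0 ∨ j = 0 := by omega
    rcases hij with h | h
    · left
      rw [isUnit_iff, hi, h]; simp
    · right
      rw [isUnit_iff, hj, h]; simp
  · intro x hx
    have hx0 : (x : K) ≠ 0 := fun h => hx (Subtype.ext h)
    obtain ⟨n, hn⟩ := exists_nat_of_le_one hf hq hx0 x.2
    refine ⟨n, ?_⟩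
    have hu0 : ((unif hf hq : V hf hq K) : K) ≠ 0 := by
      intro h
      have := v_unif hf hq (K := K)
      rw [h, map_zero] at this
      exact exp_ne_zero this.symm
    have hvu : v hf hq K ((x : K) / ((unif hf hq : V hf hq K) : K) ^ n) = 1 := by
      rw [map_div₀, map_pow, v_unif, hn, ← exp_nsmul, div_eq_one_iff_eq exp_ne_zero]
      congr 1
      simp
    have hmem : (x : K) / ((unif hf hq : V hf hq K) : K) ^ n ∈ V hf hq K := by
      rw [mem_V, hvu]
    have hunit : IsUnit (⟨_, hmem⟩ : V hf hq K) := by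
      rw [isUnit_iff]; exact hvu
    obtain ⟨u, hu⟩ := hunit
    refine ⟨u, ?_⟩
    rw [hu]
    ext
    simp only [Subalgebra.coe_mul, Subalgebra.coe_pow]
    field_simp

theorem isDVR : IsDiscreteValuationRing (V hf hq K) :=
  IsDiscreteValuationRing.ofHasUnitMulPowIrreducibleFactorization (hasFactorization hf hq)

end Groth.Agent.Helper7.MOrd
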