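import Mathlib

set_option linter.style.haveILetI false
set_option linter.unusedSectionVars false

/-! Homogenization of polynomials and scaling of homogeneous polynomials. -/

namespace Groth.Agent.Helper7.MOrd

open MvPolynomial

universe u

section Scale

variable {σ : Type*} {R S : Type*} [CommRing R] [CommRing S] [Algebra R S]

theorem aeval_scale {P : MvPolynomial σ R} {n : ℕ} (hP : P.IsHomogeneous n) (c : S) (x : σ → S) :
    aeval (fun i => c * x i) P = c ^ n * aeval x P := by
  classical
  rw [P.as_sum]
  simp only [map_sum, Finset.mul_sum]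
  apply Finset.sum_congr rfl
  intro α hα
  rw [aeval_monomial, aeval_monomial]
  have hdeg : α.degree = n := by
    have := hP (mem_support_iff.mp hα)
    simpa [Finsupp.degree, Finsupp.weight_apply, Finsupp.sum] using this
  have h1 : (α.prod fun i k => (c * x i) ^ k) = c ^ n * α.prod fun i k => x i ^ k := by
    simp only [mul_pow, Finsupp.prod_mul]
    congr 1
    rw [Finsupp.prod, Finset.prod_pow_eq_pow_sum, ← hdeg]
    rfl
  rw [h1]; ring

end Scale

section Homog

variable {R : Type*} [CommRing R] {e : ℕ}

/-- Homogenization with respect to a new variable `0`, in degree `n`. -/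
noncomputable def homog (n : ℕ) (G : MvPolynomial (Fin e) R) : MvPolynomial (Fin (e + 1)) R :=
  ∑ α ∈ G.support, monomial (Finsupp.cons (n - α.degree) α) (coeff α G)

theorem degree_cons (m : ℕ) (α : Fin e →₀ ℕ) : (Finsupp.cons m α).degree = m + α.degree := by
  rw [Finsupp.degree_eq_sum, Finsupp.degree_eq_sum, Fin.sum_univ_succ]
  simp [Finsupp.cons_zero, Finsupp.cons_succ]

theorem homog_isHomogeneous {n : ℕ} {G : MvPolynomial (Fin e) R} (hG : G.totalDegree ≤ n) :
    (homog n G).IsHomogeneous n := by
  apply IsHomogeneous.sum
  intro α hα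
  apply isHomogeneous_monomial
  rw [degree_cons]
  have h1 : α.degree ≤ G.totalDegree := by
    have := le_totalDegree hα
    simpa [Finsupp.degree, Finsupp.sum] using this
  omega

theorem coeff_homog (n : ℕ) (G : MvPolynomial (Fin e) R) (α : Fin e →₀ ℕ) :
    coeff (Finsupp.cons (n - α.degree) α) (homog n G) = coeff α G := by
  classical
  rw [homog, coeff_sum]
  by_cases hα : α ∈ G.support
  · rw [Finset.sum_eq_single α]
    · rw [coeff_monomial, if_pos rfl]
    · intro β _ hβ
      rw [coeff_monomial, if_neg]
      intro h
      apply hβ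
      have := congrArg Finsupp.tail h
      rwa [Finsupp.tail_cons, Finsupp.tail_cons] at this
    · intro h; exact absurd hα h
  · rw [notMem_support_iff.mp hα]
    apply Finset.sum_eq_zero
    intro β hβ
    rw [coeff_monomial, if_neg]
    intro h
    have := congrArg Finsupp.tail h
    rw [Finsupp.tail_cons, Finsupp.tail_cons] at this
    exact hα (this ▸ hβ)

theorem aeval_homog {S : Type*} [CommRing S] [Algebra R S] (n : ℕ) (G : MvPolynomial (Fin e) R)
    (x : Fin (e + 1) → S) (hx : x 0 = 1) :
    aeval x (homog n G) = aeval (fun i => x i.succ) G := by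
  classical
  conv_rhs => rw [G.as_sum]
  rw [homog, map_sum, map_sum]
  apply Finset.sum_congr rfl
  intro α _
  rw [aeval_monomial, aeval_monomial]
  congr 1
  rw [Finsupp.prod_fintype _ _ (fun i => by simp), Finsupp.prod_fintype _ _ (fun i => by simp),
    Fin.prod_univ_succ]
  simp [Finsupp.cons_zero, Finsupp.cons_succ, hx]

end Homog

end Groth.Agent.Helper7.MOrd
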