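import Mathlib
import Groth.Agent.Helper7.MOrd3
import Groth.Agent.Helper7.MOrd4

set_option linter.style.haveILetI false
set_option linter.unusedSectionVars false

/-! Residue field of the order valuation ring: purely transcendental over the residue field. -/

namespace Groth.Agent.Helper7.MOrd

open IsLocalRing MvPolynomial WithZero
open scoped Classical

universe u

variable {A : Type u} [CommRing A] [IsLocalRing A] [IsNoetherianRing A] [IsDomain A]
variable {e : ℕ} {f : Fin (e + 1) → A} (hf : Ideal.span (Set.range f) = maximalIdeal A)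
  (hq : CAlgX.IsQuasiRegular f)
variable {K : Type u} [Field K] [Algebra A K] [IsFractionRing A K]

instance instLocalV : IsLocalRing (V hf hq K) := (isDVR hf hq).toIsLocalRing

instance instLocalHomV : IsLocalHom (algebraMap A (V hf hq K)) := ⟨fun a ha => by
  rw [isUnit_iff] at ha
  change v hf hq K (algebraMap A K a) = 1 at ha
  rw [v_algebraMap] at ha
  by_contra hna
  have h1 : a ∈ maximalIdeal A := hna
  rw [← v₀_lt_one_iff hf hq] at h1
  exact h1.ne ha⟩

theorem v₀_lt_exp_iff (a : A) (n : ℕ) :
    v₀ hf hq a < exp (-(n : ℤ)) ↔ a ∈ maximalIdeal A ^ (n + 1) := by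
  rw [← v₀_le_exp_iff hf hq]
  by_cases ha : a = 0
  · simp [ha]
  · rw [v₀_apply hf hq ha, exp_le_exp, exp_lt_exp]
    push_cast
    omega

/-- The ratios `f i / f 0`. -/
noncomputable def g (i : Fin (e + 1)) : V hf hq K :=
  ⟨algebraMap A K (f i) / algebraMap A K (f 0), by
    rw [mem_V, map_div₀, v_algebraMap, v_algebraMap, v₀_apply hf hq (f0_ne_zero hf hq),
      ord_f0 hf hq]
    rw [div_le_iff₀ (by exact exp_pos), one_mul]
    have := (v₀_le_exp_iff hf hq (f i) 1).mpr (by rw [pow_one]; exact f_mem hf i)
    exact this⟩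

theorem coe_g (i : Fin (e + 1)) :
    ((g hf hq i : V hf hq K) : K) = algebraMap A K (f i) / algebraMap A K (f 0) := rfl

theorem g_zero : (g hf hq 0 : V hf hq K) = 1 := by
  ext
  rw [coe_g]
  have : algebraMap A K (f 0) ≠ 0 := by
    rw [Ne, FaithfulSMul.algebraMap_eq_zero_iff]
    exact f0_ne_zero hf hq
  rw [div_self this]; rfl

theorem key_identity {P : MvPolynomial (Fin (e + 1)) A} {n : ℕ} (hP : P.IsHomogeneous n) :
    algebraMap A K (eval f P) =
      algebraMap A K (f 0) ^ n * ((aeval (g hf hq) P : V hf hq K) : K) := by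
  have h0 : algebraMap A K (f 0) ≠ 0 := by
    rw [Ne, FaithfulSMul.algebraMap_eq_zero_iff]
    exact f0_ne_zero hf hq
  have h1 : ((aeval (g hf hq) P : V hf hq K) : K) =
      aeval (fun i => ((g hf hq i : V hf hq K) : K)) P :=
    comp_aeval_apply (f := g hf hq) (V hf hq K).val P
  rw [h1, ← aeval_scale hP]
  have h2 : (fun i => algebraMap A K (f 0) * ((g hf hq i : V hf hq K) : K)) =
      fun i => algebraMap A K (f i) := by
    funext i
    rw [coe_g]; field_simp
  rw [h2]
  have h3 := comp_aeval_apply (f := f) (Algebra.ofId A K) P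
  simp only [Algebra.ofId_apply] at h3
  rw [← h3]
  rfl

/-- The induced map on residue fields. -/
noncomputable def φ : ResidueField A →+* ResidueField (V hf hq K) :=
  ResidueField.map (algebraMap A (V hf hq K))

theorem res_aeval {σ : Type*} (x : σ → V hf hq K) (P : MvPolynomial σ A) :
    residue (V hf hq K) (aeval x P) =
      eval₂ (φ hf hq (K := K)) (fun i => residue (V hf hq K) (x i)) (map (residue A) P) := by
  rw [eval₂_map, map_aeval]
  rfl

theorem v_aeval {P : MvPolynomial (Fin (e + 1)) A} {n : ℕ} (hP : P.IsHomogeneous n) :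
    v₀ hf hq (eval f P) = exp (-(n : ℤ)) * v hf hq K ((aeval (g hf hq) P : V hf hq K) : K) := by
  have := congrArg (v hf hq K) (key_identity hf hq (K := K) hP)
  rw [v_algebraMap, map_mul, map_pow, v_algebraMap, v₀_apply hf hq (f0_ne_zero hf hq),
    ord_f0 hf hq] at this
  rw [this]
  congr 1
  rw [← exp_nsmul]
  congr 1
  simp

/-- The residue field is generated by the classes of `f (i+1) / f 0`. -/
theorem gen (L : Subfield (ResidueField (V hf hq K))) (hφ : ∀ c, φ hf hq (K := K) c ∈ L)
    (ht : ∀ i : Fin e, residue (V hf hq K) (g hf hq i.succ) ∈ L)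
    (y : ResidueField (V hf hq K)) : y ∈ L := by
  obtain ⟨z, rfl⟩ := residue_surjective y
  have hgL : ∀ i : Fin (e + 1), residue (V hf hq K) (g hf hq i) ∈ L := by
    intro i
    refine Fin.cases ?_ ht i
    rw [g_zero, map_one]; exact one_mem L
  have hpoly : ∀ P : MvPolynomial (Fin (e + 1)) A,
      residue (V hf hq K) (aeval (g hf hq) P) ∈ L := by
    intro P
    rw [res_aeval]
    exact eval₂_mem (fun i _ => hφ _) hgL
  by_cases hz : z ∈ maximalIdeal (V hf hq K)
  · rw [(residue_eq_zero_iff z).mpr hz]; exact zero_mem L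
  · have hvz : v hf hq K (z : K) = 1 := by
      rw [mem_maximalIdeal_iff] at hz
      exact le_antisymm z.2 (not_lt.mp hz)
    obtain ⟨a, b, hb, hab⟩ := IsFractionRing.div_surjective (A := A) (z : K)
    have hb0 : b ≠ 0 := nonZeroDivisors.ne_zero hb
    have hιb : algebraMap A K b ≠ 0 := by
      rw [Ne, FaithfulSMul.algebraMap_eq_zero_iff]; exact hb0
    have ha0 : a ≠ 0 := by
      rintro rfl
      rw [map_zero, zero_div] at hab
      rw [← hab, map_zero] at hvz
      exact zero_ne_one hvz
    have hv : v₀ hf hq a = v₀ hf hq b := by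
      have := hvz
      rw [← hab, map_div₀, v_algebraMap, v_algebraMap, div_eq_one_iff_eq (v₀_ne_zero hf hq hb0)]
        at this
      exact this
    have hord : ord a = ord b := by
      rw [v₀_apply hf hq ha0, v₀_apply hf hq hb0, exp_inj] at hv
      omega
    obtain ⟨P, hP, hPa⟩ := (Ideal.mem_span_pow_iff_exists_isHomogeneous f a).mp
      (by rw [hf]; exact mem_pow_ord ha0)
    obtain ⟨Q, hQ, hQb⟩ := (Ideal.mem_span_pow_iff_exists_isHomogeneous f b).mp
      (by rw [hf]; exact mem_pow_ord hb0)
    rw [hord] at hP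
    have hu0 : algebraMap A K (f 0) ≠ 0 := by
      rw [Ne, FaithfulSMul.algebraMap_eq_zero_iff]
      exact f0_ne_zero hf hq
    have keyP := key_identity hf hq (K := K) hP
    have keyQ := key_identity hf hq (K := K) hQ
    rw [hPa] at keyP
    rw [hQb] at keyQ
    -- z * Q♭ = P♭
    have hzQ : z * aeval (g hf hq) Q = aeval (g hf hq) P := by
      ext
      rw [Subalgebra.coe_mul, ← hab]
      have hun : algebraMap A K (f 0) ^ ord b ≠ 0 := pow_ne_zero _ hu0
      apply mul_left_cancel₀ hun
      rw [← keyP]
      calc algebraMap A K (f 0) ^ ord b *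
            (algebraMap A K a / algebraMap A K b * ((aeval (g hf hq) Q : V hf hq K) : K))
          = algebraMap A K a / algebraMap A K b *
            (algebraMap A K (f 0) ^ ord b * ((aeval (g hf hq) Q : V hf hq K) : K)) := by ring
        _ = algebraMap A K a / algebraMap A K b * algebraMap A K b := by rw [← keyQ]
        _ = algebraMap A K a := by field_simp
    have hQunit : residue (V hf hq K) (aeval (g hf hq) Q) ≠ 0 := by
      rw [Ne, residue_eq_zero_iff, mem_maximalIdeal_iff]
      have := v_aeval hf hq (K := K) hQ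
      rw [hQb, v₀_apply hf hq hb0] at this
      have h1 : v hf hq K ((aeval (g hf hq) Q : V hf hq K) : K) = 1 := by
        have hne : exp (-(ord b : ℤ)) ≠ 0 := exp_ne_zero
        have : exp (-(ord b : ℤ)) * 1 =
            exp (-(ord b : ℤ)) * v hf hq K ((aeval (g hf hq) Q : V hf hq K) : K) := by
          rw [mul_one]; exact this
        exact (mul_left_cancel₀ hne this).symm
      rw [h1]; exact lt_irrefl _
    have := congrArg (residue (V hf hq K)) hzQ
    rw [map_mul] at this
    have h2 : residue (V hf hq K) z = residue (V hf hq K) (aeval (g hf hq) P) *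
        (residue (V hf hq K) (aeval (g hf hq) Q))⁻¹ := by
      rw [← this, mul_assoc, mul_inv_cancel₀ hQunit, mul_one]
    rw [h2]
    exact L.mul_mem (hpoly P) (L.inv_mem (hpoly Q))

/-- Algebraic independence of the classes of `f (i+1) / f 0`. -/
theorem indep (G : MvPolynomial (Fin e) (ResidueField A))
    (hG : eval₂ (φ hf hq (K := K)) (fun i : Fin e => residue (V hf hq K) (g hf hq i.succ)) G = 0) :
    G = 0 := by
  obtain ⟨G', rfl⟩ := map_surjective (residue A) residue_surjective G
  rw [← res_aeval hf hq (fun i : Fin e => g hf hq i.succ) G'] at hG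
  have hP := homog_isHomogeneous (n := G'.totalDegree) (G := G') le_rfl
  have h1 : aeval (g hf hq (K := K)) (homog G'.totalDegree G') =
      aeval (fun i : Fin e => g hf hq i.succ) G' :=
    aeval_homog _ _ _ (g_zero hf hq)
  rw [← h1, residue_eq_zero_iff, mem_maximalIdeal_iff] at hG
  have h2 := v_aeval hf hq (K := K) hP
  have h3 : v₀ hf hq (eval f (homog G'.totalDegree G')) < exp (-(G'.totalDegree : ℤ)) := by
    rw [h2]
    calc _ < exp (-(G'.totalDegree : ℤ)) * 1 := by
          apply mul_lt_mul_of_pos_left hG exp_pos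
      _ = _ := mul_one _
  rw [v₀_lt_exp_iff, ← hf] at h3
  have h4 := hq _ _ hP h3
  ext α
  rw [coeff_map, coeff_zero]
  have h5 := h4 (Finsupp.cons (G'.totalDegree - α.degree) α)
  rw [coeff_homog, hf] at h5
  exact (residue_eq_zero_iff _).mpr h5

end Groth.Agent.Helper7.MOrd
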