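import Mathlib
import Groth.Agent.Helper7.MOrd5
import Groth.Agent.Helper4.RegSop

set_option linter.style.haveILetI false
set_option linter.unusedSectionVars false

namespace Groth.Agent.Helper7.MOrd

open IsLocalRing MvPolynomial WithZero
open scoped Classical

universe u

theorem main (A : Type u) [CommRing A] [IsRegularLocalRing A]
    (hA : ¬ IsField A) :
    ∃ (V : Subalgebra A (FractionRing A)) (_ : IsDomain V) (_ : IsDiscreteValuationRing V), IsFractionRing V (FractionRing A) ∧
      (IsLocalRing.maximalIdeal V).comap (algebraMap A V) = IsLocalRing.maximalIdeal A ∧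
      ∃ (φ : IsLocalRing.ResidueField A →+* IsLocalRing.ResidueField V),
        φ.comp (IsLocalRing.residue A) = (IsLocalRing.residue V).comp (algebraMap A V) ∧
        letI := φ.toAlgebra
        ∃ (ι : Type u) (t : ι → IsLocalRing.ResidueField V), AlgebraicIndependent (IsLocalRing.ResidueField A) t ∧
          IntermediateField.adjoin (IsLocalRing.ResidueField A) (Set.range t) = ⊤ := by
  haveI : IsDomain A := Groth.Agent.Lead.RegLocal.isDomain_of_isRegularLocalRing A
  have hd : ringKrullDim A = ((maximalIdeal A).spanFinrank : ℕ) :=
    IsRegularLocalRing.spanFinrank_maximalIdeal.symm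
  obtain ⟨f, hf, hq⟩ := Groth.Agent.Helper4.RegSop.exists_quasiRegular A _ hd
  generalize (maximalIdeal A).spanFinrank = d at f hf hq
  have hd0 : d ≠ 0 := by
    rintro rfl
    apply hA
    rw [IsLocalRing.isField_iff_maximalIdeal_eq, ← hf]
    have : Set.range f = ∅ := Set.range_eq_empty f
    rw [this, Ideal.span_empty]
  obtain ⟨e, rfl⟩ := Nat.exists_eq_succ_of_ne_zero hd0
  refine ⟨V hf hq (FractionRing A), inferInstance, isDVR hf hq, isFractionRing_V hf hq,
    comap_maximalIdeal hf hq, φ hf hq, ResidueField.map_comp_residue _, ?_⟩
  letI := (φ hf hq (K := FractionRing A)).toAlgebra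
  refine ⟨ULift.{u} (Fin e), fun i => residue (V hf hq (FractionRing A)) (g hf hq i.down.succ),
    ?_, ?_⟩
  · rw [algebraicIndependent_iff]
    intro p hp
    have h1 : rename ULift.down p = 0 := by
      apply indep hf hq (K := FractionRing A)
      rw [eval₂_rename]
      exact hp
    exact rename_injective _ ULift.down_injective (h1.trans (map_zero _).symm)
  · rw [eq_top_iff]
    intro y _
    apply gen hf hq (IntermediateField.adjoin (ResidueField A) (Set.range
      fun i : ULift.{u} (Fin e) => residue (V hf hq (FractionRing A)) (g hf hq i.down.succ))).toSubfield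
    · intro c
      exact IntermediateField.algebraMap_mem _ c
    · intro i
      exact IntermediateField.subset_adjoin _ _ ⟨ULift.up i, rfl⟩

end Groth.Agent.Helper7.MOrd
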