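import Mathlib
import Groth.Agent.Helper7.MTAvgI

/-! Conjugacy of homomorphisms from a group of multiplicative type that agree modulo a
nilpotent ideal: the averaging step. -/

open TensorProduct WithConv Coalgebra

namespace Groth.Agent.Helper7.MTAvg

section monoid

variable {G : Type*} [Monoid G]

lemma mon_conj (a ai b D Di D' a' b' : G) (ha : ai * a = 1)
    (hD : D * Di = 1) (h1 : D = a * b) (h2 : D' = a' * b') :
    b * (Di * D') = (ai * a') * b' := by
  have : b = ai * D := by rw [h1, ← mul_assoc, ha, one_mul]
  rw [this, mul_assoc, ← mul_assoc D, hD, one_mul, h2, mul_assoc]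

lemma mon_conj_hom (k ki a b D : G) (hk : k * ki = 1) (h : D = a * b) :
    ki * D * k = (ki * a * k) * (ki * b * k) := by
  rw [h]
  have : ki * a * k * (ki * b * k) = ki * a * (k * ki) * b * k := by simp only [mul_assoc]
  rw [this, hk, mul_one]
  simp only [mul_assoc]

end monoid

section points

variable {R : Type*} [CommRing R] {C : Type*} [CommRing C] [HopfAlgebra R C]
variable {B : Type*} [CommRing B] [Algebra R B] {B' : Type*} [CommRing B'] [Algebra R B']

lemma inv'_one : inv' (1 : WithConv (C →ₐ[R] B)) = 1 := by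
  have := inv'_mul (1 : WithConv (C →ₐ[R] B))
  rwa [mul_one] at this

lemma inv'_mul_rev (x y : WithConv (C →ₐ[R] B)) : inv' (x * y) = inv' y * inv' x := by
  apply left_inv_eq_right_inv (a := x * y) (inv'_mul _)
  rw [mul_assoc, ← mul_assoc y, mul_inv', one_mul, mul_inv']

lemma lin_injective : Function.Injective (lin : WithConv (C →ₐ[R] B) → WithConv (C →ₗ[R] B)) := by
  intro f g h
  apply WithConv.ext
  apply AlgHom.toLinearMap_injective
  exact congrArg WithConv.ofConv h

variable (B) in
/-- constant points -/
noncomputable def cst : WithConv (C →ₐ[R] R) →* WithConv (C →ₐ[R] B) := push (Algebra.ofId R B)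

lemma push_cst (h : B →ₐ[R] B') (g : WithConv (C →ₐ[R] R)) : push h (cst B g) = cst B' g := by
  apply WithConv.ext
  apply AlgHom.ext
  intro c
  simp [cst]

lemma cst_apply (g : WithConv (C →ₐ[R] R)) (c : C) :
    (cst B g).ofConv c = algebraMap R B (g.ofConv c) := rfl

end points

section conj

variable {R : Type*} [CommRing R] {A : Type*} [CommRing A] [HopfAlgebra R A]
variable {C : Type*} [CommRing C] [HopfAlgebra R C]

local notation "ι₁" => (Algebra.TensorProduct.includeLeft : A →ₐ[R] A ⊗[R] A)
local notation "ι₂" => (Algebra.TensorProduct.includeRight : A →ₐ[R] A ⊗[R] A)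
local notation "Δ" => (Bialgebra.comulAlgHom R A)

/-- a point of `G(A)` that is a homomorphism `H → G` -/
def IsHom (f : WithConv (C →ₐ[R] A)) : Prop := push Δ f = push ι₁ f * push ι₂ f

lemma IsHom.conj {f : WithConv (C →ₐ[R] A)} (hf : IsHom f) (g : WithConv (C →ₐ[R] R)) :
    IsHom (inv' (cst A g) * f * cst A g) := by
  unfold IsHom
  simp only [map_mul, push_inv', push_cst]
  exact mon_conj_hom _ _ _ _ _ (mul_inv' _) hf

lemma isHom_of_bialgHom (φ : C →ₐc[R] A) : IsHom (toConv (φ : C →ₐ[R] A)) := by
  unfold IsHom
  apply lin_injective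
  rw [map_mul]
  apply WithConv.ext
  refine LinearMap.ext fun c => ?_
  have h := CoalgHomClass.map_comp_comul_apply φ c
  simp only [lin_apply, push_apply, ofConv_toConv, Bialgebra.comulAlgHom_apply]
  show _ = (lin (push ι₁ (toConv (φ : C →ₐ[R] A))) * lin (push ι₂ (toConv (φ : C →ₐ[R] A)))) c
  rw [LinearMap.convMul_apply]
  have h2 : ∀ y : C ⊗[R] C, LinearMap.mul' R (A ⊗[R] A)
      (TensorProduct.map (lin (push ι₁ (toConv (φ : C →ₐ[R] A)))).ofConv
        (lin (push ι₂ (toConv (φ : C →ₐ[R] A)))).ofConv y) =
      TensorProduct.map (φ : C →ₗ[R] A) (φ : C →ₗ[R] A) y := by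
    intro y
    induction y using TensorProduct.induction_on with
    | zero => simp
    | add x y hx hy => simp only [map_add, hx, hy]
    | tmul a b => simp
  rw [h2, h]
  rfl

lemma defect_eq_zero_of_isHom {f : WithConv (C →ₐ[R] A)} (hf : IsHom f) :
    defect (lin (toConv f.ofConv)) = 0 := by
  have : toConv f.ofConv = f := rfl
  rw [this, defect, sub_eq_zero]
  have := congrArg lin hf
  rw [map_mul] at this
  exact this

variable {l : A →ₗ[R] R} (hl : IsIntV R A R l)
include hl

/-- the averaged intertwiner: `f · ḡ = ḡ · f'` in the convolution algebra -/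
lemma intertwine {f f' : WithConv (C →ₐ[R] A)} (hf : IsHom f) (hf' : IsHom f') :
    lin f * pushL (Algebra.linearMap R A) (pushL l (lin (inv' f * f'))) =
      pushL (Algebra.linearMap R A) (pushL l (lin (inv' f * f'))) * lin f' := by
  set E := inv' f * f' with hE
  have key : push ι₂ f * push Δ E = push ι₁ E * push ι₂ f' := by
    rw [hE, map_mul, map_mul, push_inv', push_inv']
    exact mon_conj _ _ _ _ _ _ _ _ (inv'_mul _) (mul_inv' _) hf hf'
  have key2 := congrArg (fun z => pushL (J l A) (lin z)) key
  simp only [map_mul, lin_push] at key2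
  rw [pushL_J_mul_left, pushL_J_mul_right] at key2
  have e1 : pushL (J l A) (pushL (Δ).toLinearMap (lin E)) =
      pushL (Algebra.linearMap R A) (pushL l (lin E)) := by
    apply WithConv.ext
    refine LinearMap.ext fun c => ?_
    simp only [pushL_apply, AlgHom.toLinearMap_apply, Bialgebra.comulAlgHom_apply, J,
      LinearMap.comp_apply, LinearEquiv.coe_coe, hl.left]
    simp [Algebra.algebraMap_eq_smul_one]
  have e2 : pushL (J l A) (pushL (ι₁).toLinearMap (lin E)) =
      pushL (Algebra.linearMap R A) (pushL l (lin E)) := by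
    apply WithConv.ext
    refine LinearMap.ext fun c => ?_
    simp [Algebra.algebraMap_eq_smul_one]
  rw [e1, e2] at key2
  exact key2

end conj

end Groth.Agent.Helper7.MTAvg
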