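import Mathlib
import Groth.Agent.Helper7.MTAvgK

/-! Conjugacy of homomorphisms from a group of multiplicative type that agree modulo a
nilpotent ideal. -/

open TensorProduct WithConv Coalgebra

namespace Groth.Agent.Helper7.MTAvg

section conj

variable {R : Type*} [CommRing R] {A : Type*} [CommRing A] [HopfAlgebra R A]
variable {C : Type*} [CommRing C] [HopfAlgebra R C]

omit [HopfAlgebra R A] [HopfAlgebra R C] in
lemma ring_id4 {M : Type*} [Ring M] (F F' G g gi : M) (h : F * G = G * F') (hg : gi * g = 1) :
    gi * F * g - F' = gi * (F * (g - G) - (g - G) * F') := by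
  have : gi * (F * (g - G) - (g - G) * F') = gi * F * g - gi * g * F' - gi * (F * G - G * F') := by
    noncomm_ring
  rw [this, h, sub_self, mul_zero, sub_zero, hg, one_mul]

lemma nS_self (K : Ideal R) (x : R) : x ∈ nS K R ↔ x ∈ K := by
  simp [nS]

variable {l : A →ₗ[R] R} (hl : IsIntV R A R l)
include hl

theorem conj_step [Algebra.FormallySmooth R C] {N : Ideal R} (hN : IsNilpotent N)
    {f f' : WithConv (C →ₐ[R] A)} (hf : IsHom f) (hf' : IsHom f')
    (h : ValIn N (lin f' - lin f)) :
    ∃ g : WithConv (C →ₐ[R] R), ValIn N (lin g - 1) ∧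
      ValIn (N * N) (lin (inv' (cst A g) * f * cst A g) - lin f') := by
  set E := inv' f * f' with hE
  have hδ : ValIn N (lin E - 1) := by
    have : lin E - 1 = lin (inv' f) * (lin f' - lin f) := by
      rw [mul_sub, ← map_mul, ← map_mul, inv'_mul, map_one]
    rw [this]
    exact h.mul_right _
  set gbar : WithConv (C →ₗ[R] R) := pushL l (lin E) with hgbar
  have hgbar_apply : ∀ c, gbar.ofConv c = l (E.ofConv c) := fun c => rfl
  have hone : gbar.ofConv 1 = 1 := by
    rw [hgbar_apply, map_one, hl.one]
  have hmul : ∀ c c', gbar.ofConv (c * c') - gbar.ofConv c * gbar.ofConv c' ∈ N * N := by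
    intro c c'
    set d := E.ofConv c - algebraMap R A (Coalgebra.counit (R := R) c) with hd
    set d' := E.ofConv c' - algebraMap R A (Coalgebra.counit (R := R) c') with hd'
    have hdN : d ∈ nS N A := hδ c
    have hdN' : d' ∈ nS N A := hδ c'
    have e1 : E.ofConv c = algebraMap R A (Coalgebra.counit (R := R) c) + d := by rw [hd]; ring
    have e1' : E.ofConv c' = algebraMap R A (Coalgebra.counit (R := R) c') + d' := by
      rw [hd']; ring
    have e2 : gbar.ofConv c = Coalgebra.counit (R := R) c + l d := by
      rw [hgbar_apply, e1, map_add, Algebra.algebraMap_eq_smul_one, map_smul, hl.one]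
      simp
    have e2' : gbar.ofConv c' = Coalgebra.counit (R := R) c' + l d' := by
      rw [hgbar_apply, e1', map_add, Algebra.algebraMap_eq_smul_one, map_smul, hl.one]
      simp
    have e3 : gbar.ofConv (c * c') = Coalgebra.counit (R := R) c * Coalgebra.counit (R := R) c' +
        Coalgebra.counit (R := R) c * l d' + Coalgebra.counit (R := R) c' * l d + l (d * d') := by
      rw [hgbar_apply, map_mul, e1, e1']
      simp only [Algebra.algebraMap_eq_smul_one, add_mul, mul_add, smul_mul_assoc, one_mul,
        mul_smul_comm, mul_one, map_add, map_smul, smul_eq_mul, hl.one, smul_smul]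
      ring
    have e4 : gbar.ofConv (c * c') - gbar.ofConv c * gbar.ofConv c' = l (d * d') - l d * l d' := by
      rw [e3, e2, e2']; ring
    rw [e4, ← nS_self]
    exact Submodule.sub_mem _ (nS_map l (nS_mul hdN hdN'))
      (nS_mul (nS_map l hdN) (nS_map l hdN'))
  set K : Ideal R := N * N with hK
  have hKnil : IsNilpotent K := by
    obtain ⟨n, hn⟩ := hN
    refine ⟨n, ?_⟩
    rw [hK, mul_pow, hn]
    simp
  let gq : C →ₐ[R] R ⧸ K := AlgHom.ofLinearMap
    ((Ideal.Quotient.mkₐ R K).toLinearMap ∘ₗ gbar.ofConv)
    (by simp [hone])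
    (fun c c' => by
      simp only [LinearMap.comp_apply, AlgHom.toLinearMap_apply, Ideal.Quotient.mkₐ_eq_mk]
      rw [← map_mul, Ideal.Quotient.eq]
      exact hmul c c')
  let g₀ := Algebra.FormallySmooth.lift K hKnil gq
  have hg₀ : ∀ c, g₀ c - gbar.ofConv c ∈ K := by
    intro c
    rw [← Ideal.Quotient.eq]
    exact Algebra.FormallySmooth.mk_lift K hKnil gq c
  set g : WithConv (C →ₐ[R] R) := toConv g₀ with hg
  have hgsub : ValIn (N * N) (lin g - gbar) := fun c => by
    show g₀ c - gbar.ofConv c ∈ nS (N * N) R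
    rw [nS_self]
    exact hg₀ c
  refine ⟨g, ?_, ?_⟩
  · have e : lin g - 1 = (lin g - gbar) + pushL l (lin E - 1) := by
      rw [map_sub]
      have : pushL l (1 : WithConv (C →ₗ[R] A)) = 1 := by
        apply WithConv.ext
        refine LinearMap.ext fun c => ?_
        simp [Algebra.algebraMap_eq_smul_one, hl.one]
      rw [this]
      abel
    rw [e]
    exact (hgsub.mono Ideal.mul_le_left).add (hδ.pushL l)
  · set Gt := pushL (Algebra.linearMap R A) gbar with hGt
    have hint : lin f * Gt = Gt * lin f' := intertwine hl hf hf'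
    have hcst : lin (cst A g) - Gt = pushL (Algebra.linearMap R A) (lin g - gbar) := by
      rw [map_sub]
      rfl
    have hval : ValIn (N * N) (lin (cst A g) - Gt) := by
      rw [hcst]
      exact hgsub.pushL _
    have e : lin (inv' (cst A g) * f * cst A g) - lin f' =
        lin (inv' (cst A g)) * (lin f * (lin (cst A g) - Gt) - (lin (cst A g) - Gt) * lin f') := by
      rw [map_mul, map_mul]
      exact ring_id4 _ _ _ _ _ hint (by rw [← map_mul, inv'_mul, map_one])
    rw [e]
    exact ((hval.mul_right _).sub (hval.mul_left _)).mul_right _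

theorem conj_iterate [Algebra.FormallySmooth R C] {I : Ideal R} (hI : IsNilpotent I)
    {f f' : WithConv (C →ₐ[R] A)} (hf : IsHom f) (hf' : IsHom f')
    (h : ValIn I (lin f' - lin f)) :
    ∃ g : WithConv (C →ₐ[R] R), ValIn I (lin g - 1) ∧ inv' (cst A g) * f * cst A g = f' := by
  have hk : ∀ k : ℕ, ∃ g : WithConv (C →ₐ[R] R), ValIn I (lin g - 1) ∧
      ValIn (I ^ (2 ^ k)) (lin (inv' (cst A g) * f * cst A g) - lin f') := by
    intro k
    induction k with
    | zero =>
      refine ⟨1, by simpa using valIn_zero I, ?_⟩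
      rw [map_one, inv'_one, one_mul, mul_one, pow_zero, pow_one]
      have := h.neg
      rwa [neg_sub] at this
    | succ k ih =>
      obtain ⟨g, hg1, hg2⟩ := ih
      have hnil : IsNilpotent (I ^ (2 ^ k)) := by
        obtain ⟨n, hn⟩ := hI
        refine ⟨n, ?_⟩
        rw [← pow_mul, mul_comm, pow_mul, hn, zero_pow (by positivity)]
      have hg2' : ValIn (I ^ (2 ^ k)) (lin f' - lin (inv' (cst A g) * f * cst A g)) := by
        have := hg2.neg
        rwa [neg_sub] at this
      obtain ⟨g', hg'1, hg'2⟩ := conj_step hl hnil (hf.conj g) hf' hg2'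
      refine ⟨g * g', ?_, ?_⟩
      · have e : lin (g * g') - 1 = (lin g - 1) * lin g' + (lin g' - 1) := by
          rw [map_mul]; noncomm_ring
        rw [e]
        exact (hg1.mul_left _).add
          (hg'1.mono (Ideal.pow_le_self (I := I) (n := 2 ^ k) (by positivity)))
      · have e : inv' (cst A (g * g')) * f * cst A (g * g') =
            inv' (cst A g') * (inv' (cst A g) * f * cst A g) * cst A g' := by
          rw [map_mul, inv'_mul_rev]
          simp only [mul_assoc]
        rw [e, pow_succ, pow_mul, sq]
        exact hg'2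
  obtain ⟨n, hn⟩ := hI
  obtain ⟨g, hg1, hg2⟩ := hk n
  refine ⟨g, hg1, ?_⟩
  have hbot : I ^ (2 ^ n) = ⊥ := by
    have := Ideal.pow_le_pow_right (I := I) (Nat.lt_two_pow_self (n := n)).le
    rw [hn] at this
    exact le_bot_iff.mp this
  apply lin_injective
  rw [← sub_eq_zero]
  apply WithConv.ext
  refine LinearMap.ext fun c => ?_
  have := hg2 c
  rw [hbot, nS, Submodule.bot_smul] at this
  simpa using this

end conj

end Groth.Agent.Helper7.MTAvg
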