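import Mathlib
import Groth.Prelude.Def_SGA3b
import Groth.Agent.Helper7.MTAvgJ
import Groth.Agent.Helper7.MTAvgL

/-! Relative lifting of homomorphisms from groups of multiplicative type. -/

open TensorProduct WithConv Coalgebra

namespace Groth.Agent.Helper7.MTAvg

universe u

lemma ring_id5 {M : Type*} [Ring M] (k ki F : M) (hk : ki * k = 1) :
    ki * F * k - F = ki * F * (k - 1) + ki * (1 - k) * F := by
  have : ki * (1 - k) * F = ki * F - ki * k * F := by noncomm_ring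
  rw [this, hk]
  noncomm_ring

theorem main_rel {R : Type u} [CommRing R] {I : Ideal R} (hI : IsNilpotent I)
    (A₁ : Type u) [CommRing A₁] [HopfAlgebra R A₁] (h₁ : SGA3b.IsMultType R A₁)
    (A₂ : Type u) [CommRing A₂] [HopfAlgebra R A₂] (h₂ : SGA3b.IsMultType R A₂) (α : A₂ →ₐc[R] A₁)
    (C : Type u) [CommRing C] [HopfAlgebra R C] [Algebra.Smooth R C] (β : C →ₐc[R] A₁)
    (γ₀ : ((R ⧸ I) ⊗[R] C) →ₐc[R ⧸ I] ((R ⧸ I) ⊗[R] A₂))
    (h0 : ∀ c : C, Algebra.TensorProduct.map (AlgHom.id (R ⧸ I) (R ⧸ I)) (α : A₂ →ₐ[R] A₁)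
      (γ₀ ((1 : R ⧸ I) ⊗ₜ[R] c)) = (1 : R ⧸ I) ⊗ₜ[R] (β c)) :
    ∃ γ : C →ₐc[R] A₂, (∀ c : C, γ₀ ((1 : R ⧸ I) ⊗ₜ[R] c) = (1 : R ⧸ I) ⊗ₜ[R] (γ c)) ∧
      ∀ c : C, α (γ c) = β c := by
  obtain ⟨γ', hγ'⟩ := main hI A₂ h₂ C γ₀
  obtain ⟨l, hl⟩ := exists_integral h₁
  have hf : IsHom (toConv ((α.comp γ' : C →ₐc[R] A₁) : C →ₐ[R] A₁)) := isHom_of_bialgHom _
  have hf' : IsHom (toConv (β : C →ₐ[R] A₁)) := isHom_of_bialgHom _
  have h : ValIn I (lin (toConv (β : C →ₐ[R] A₁)) -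
      lin (toConv ((α.comp γ' : C →ₐc[R] A₁) : C →ₐ[R] A₁))) := by
    intro c
    show β c - α (γ' c) ∈ I • (⊤ : Submodule R A₁)
    rw [← tmul_eq_zero_iff, TensorProduct.tmul_sub, ← h0, hγ']
    simp
  obtain ⟨g, hg1, hg2⟩ := conj_iterate hl hI hf hf' h
  set γh : WithConv (C →ₐ[R] A₂) :=
    inv' (cst A₂ g) * toConv (γ' : C →ₐ[R] A₂) * cst A₂ g with hγh
  have hγhom : IsHom γh := (isHom_of_bialgHom γ').conj g
  obtain ⟨γ, hγ⟩ := exists_bialgHom_of_defect_eq_zero γh.ofConv (defect_eq_zero_of_isHom hγhom)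
  have hpush : push (α : A₂ →ₐ[R] A₁) γh = toConv (β : C →ₐ[R] A₁) := by
    rw [hγh, map_mul, map_mul, push_inv', push_cst, ← hg2]
    rfl
  have hval : ValIn I (lin γh - lin (toConv (γ' : C →ₐ[R] A₂))) := by
    have hk : ValIn I (lin (cst A₂ g) - 1) := by
      have : lin (cst A₂ g) - 1 = pushL (Algebra.linearMap R A₂) (lin g - 1) := by
        rw [map_sub]
        congr 1
      rw [this]
      exact hg1.pushL _
    have hk' : ValIn I (1 - lin (cst A₂ g)) := by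
      have := hk.neg
      rwa [neg_sub] at this
    rw [hγh, map_mul, map_mul,
      ring_id5 _ _ _ (by rw [← map_mul, inv'_mul, map_one])]
    exact (hk.mul_right _).add ((hk'.mul_right _).mul_left _)
  refine ⟨γ, fun c => ?_, fun c => ?_⟩
  · rw [hγ', hγ]
    have := (tmul_eq_zero_iff R I _).mpr (hval c)
    simp only [ofConv_sub, LinearMap.sub_apply, lin_apply, ofConv_toConv,
      TensorProduct.tmul_sub, sub_eq_zero] at this
    exact this.symm
  · rw [hγ]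
    have := congrArg (fun z => z.ofConv c) hpush
    exact this

end Groth.Agent.Helper7.MTAvg
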