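import Mathlib

set_option autoImplicit false
set_option linter.unusedSectionVars false
universe u v w

namespace Groth.Agent.Helper7.MatPart

open Module

variable {K : Type u} {V : Type v} [Field K] [AddCommGroup V] [Module K V] [FiniteDimensional K V]
variable {E : Type w} [DecidableEq E] (v : E → V)

/-- span of the vectors indexed by a finset. -/
def sp (A : Finset E) : Submodule K V := Submodule.span K (v '' (A : Set E))

/-- dimension of a subspace. -/
noncomputable def d (U : Submodule K V) : ℕ := finrank K U

/-- rank of a finset modulo a subspace. -/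
noncomputable def rk (W : Submodule K V) (A : Finset E) : ℕ := d (W ⊔ sp (K := K) v A) - d W

omit [FiniteDimensional K V] in
theorem sp_union (A B : Finset E) : sp (K := K) v (A ∪ B) = sp v A ⊔ sp v B := by
  unfold sp
  rw [Finset.coe_union, Set.image_union, Submodule.span_union]

omit [FiniteDimensional K V] in
theorem sp_mono {A B : Finset E} (h : A ⊆ B) : sp (K := K) v A ≤ sp v B := by
  unfold sp
  exact Submodule.span_mono (Set.image_mono (Finset.coe_subset.2 h))

omit [FiniteDimensional K V] in
theorem sp_empty : sp (K := K) v ∅ = ⊥ := by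
  unfold sp
  simp

omit [FiniteDimensional K V] in
theorem sp_insert (e : E) (A : Finset E) :
    sp (K := K) v (insert e A) = sp v {e} ⊔ sp v A := by
  rw [← sp_union, Finset.insert_eq]

theorem d_mono {U U' : Submodule K V} (h : U ≤ U') : d U ≤ d U' := Submodule.finrank_mono h

theorem eq_of_le_of_d_eq {U U' : Submodule K V} (h : U ≤ U') (hd : d U = d U') : U = U' :=
  Submodule.eq_of_le_of_finrank_eq h hd

theorem d_sup_sp_le (W : Submodule K V) (A : Finset E) :
    d (W ⊔ sp (K := K) v A) ≤ d W + A.card := by
  classical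
  unfold d
  refine (Submodule.finrank_add_le_finrank_add_finrank W (sp v A)).trans ?_
  gcongr
  unfold sp
  have h1 : v '' (A : Set E) = ((A.image v : Finset V) : Set V) := by
    rw [Finset.coe_image]
  rw [h1]
  exact (finrank_span_finset_le_card (R := K) (A.image v)).trans Finset.card_image_le

theorem rk_add (W : Submodule K V) (A : Finset E) :
    d W + rk v W A = d (W ⊔ sp (K := K) v A) := by
  unfold rk
  have := d_mono (le_sup_left : W ≤ W ⊔ sp (K := K) v A)
  omega

theorem rk_union (W : Submodule K V) (A B : Finset E) :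
    rk v W (A ∪ B) = rk v W A + rk v (W ⊔ sp (K := K) v A) B := by
  have h1 := rk_add v W (A ∪ B)
  have h2 := rk_add v W A
  have h3 := rk_add v (W ⊔ sp (K := K) v A) B
  rw [sp_union, ← sup_assoc] at h1
  omega

theorem rk_le_card (W : Submodule K V) (A : Finset E) : rk v W A ≤ A.card := by
  have h1 := rk_add v W A
  have h2 := d_sup_sp_le v W A
  omega

theorem rk_sup_singleton_add_one (W : Submodule K V) (e : E) (B : Finset E) :
    rk v W B ≤ rk v (W ⊔ sp (K := K) v {e}) B + 1 := by
  have h1 := rk_add v W B
  have h2 := rk_add v (W ⊔ sp (K := K) v {e}) B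
  have h3 := d_sup_sp_le v W {e}
  rw [Finset.card_singleton] at h3
  have h4 : d (W ⊔ sp (K := K) v B) ≤ d (W ⊔ sp (K := K) v {e} ⊔ sp (K := K) v B) :=
    d_mono (sup_le_sup_right le_sup_left _)
  omega

/-- independence modulo a subspace, by dimension count. -/
def IndepMod (W : Submodule K V) (I : Finset E) : Prop :=
  d (W ⊔ sp (K := K) v I) = d W + I.card

theorem IndepMod.union {W : Submodule K V} {I J : Finset E} (hI : IndepMod v W I)
    (hJ : IndepMod v (W ⊔ sp (K := K) v I) J) (hdisj : Disjoint I J) : IndepMod v W (I ∪ J) := by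
  unfold IndepMod at *
  rw [sp_union, ← sup_assoc, hJ, hI, Finset.card_union_of_disjoint hdisj, add_assoc]

theorem IndepMod.card_le_rk {W : Submodule K V} {I A : Finset E} (hI : IndepMod v W I)
    (hIA : I ⊆ A) : I.card ≤ rk v W A := by
  unfold IndepMod at hI
  have h1 := rk_add v W A
  have h2 : d (W ⊔ sp (K := K) v I) ≤ d (W ⊔ sp (K := K) v A) :=
    d_mono (sup_le_sup_left (sp_mono v hIA) _)
  omega

theorem IndepMod.sup_eq {W : Submodule K V} {I A : Finset E} (hI : IndepMod v W I)
    (hIA : I ⊆ A) (hcard : I.card = rk v W A) :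
    W ⊔ sp (K := K) v I = W ⊔ sp (K := K) v A := by
  apply eq_of_le_of_d_eq (sup_le_sup_left (sp_mono v hIA) _)
  unfold IndepMod at hI
  have h1 := rk_add v W A
  omega

end Groth.Agent.Helper7.MatPart
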