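import Mathlib
import Groth.Agent.Helper7.MatPartA

set_option autoImplicit false
set_option linter.unusedSectionVars false
universe u v w x

namespace Groth.Agent.Helper7.MatPart

open Module

variable {K : Type u} {V : Type v} [Field K] [AddCommGroup V] [Module K V] [FiniteDimensional K V]
variable {E : Type w} [DecidableEq E] (v : E → V)
variable {ι : Type x} [Fintype ι] [DecidableEq ι] [Nonempty ι]

theorem partition_aux :
    ∀ (n : ℕ) (S : Finset E) (W : ι → Submodule K V), S.card = n →
      (∀ A, A ⊆ S → A.card ≤ ∑ i, rk v (W i) A) →
      ∃ c : E → ι, ∀ i, IndepMod v (W i) (S.filter (fun e => c e = i)) := by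
  intro n
  induction n using Nat.strong_induction_on with
  | _ n ih =>
    intro S W hS hyp
    rcases S.eq_empty_or_nonempty with rfl | hSne
    · refine ⟨fun _ => Classical.arbitrary ι, fun i => ?_⟩
      unfold IndepMod
      rw [Finset.filter_empty, sp_empty, sup_bot_eq, Finset.card_empty, add_zero]
    by_cases hb : ∃ A, A ⊆ S ∧ A.Nonempty ∧ A ≠ S ∧ A.card = ∑ i, rk v (W i) A
    · -- case (b)
      obtain ⟨A, hAS, hAne, hAS', hAcard⟩ := hb
      have hAlt : A.card < n :=
        hS ▸ Finset.card_lt_card (Finset.ssubset_iff_subset_ne.2 ⟨hAS, hAS'⟩)
      obtain ⟨c₁, hc₁⟩ := ih A.card hAlt A W rfl (fun A' hA' => hyp A' (hA'.trans hAS))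
      have hle : ∀ i ∈ Finset.univ, (A.filter (fun e => c₁ e = i)).card ≤ rk v (W i) A :=
        fun i _ => (hc₁ i).card_le_rk v (Finset.filter_subset _ _)
      have hsum : ∑ i, (A.filter (fun e => c₁ e = i)).card = ∑ i, rk v (W i) A := by
        rw [← hAcard]
        exact (Finset.card_eq_sum_card_fiberwise (fun x _ => Finset.mem_univ _)).symm
      have heq := (Finset.sum_eq_sum_iff_of_le hle).1 hsum
      have hsup : ∀ i, W i ⊔ sp (K := K) v (A.filter (fun e => c₁ e = i)) =
          W i ⊔ sp (K := K) v A :=
        fun i => (hc₁ i).sup_eq v (Finset.filter_subset _ _) (heq i (Finset.mem_univ i))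
      have hSAlt : (S \ A).card < n := by
        rw [← hS]; exact Finset.card_lt_card (Finset.sdiff_ssubset hAS hAne)
      obtain ⟨c₂, hc₂⟩ := ih (S \ A).card hSAlt (S \ A) (fun i => W i ⊔ sp (K := K) v A) rfl (by
        intro B hB
        have hdisj : Disjoint A B := (Finset.disjoint_sdiff).mono_right hB
        have h1 := hyp (A ∪ B) (Finset.union_subset hAS (hB.trans Finset.sdiff_subset))
        rw [Finset.card_union_of_disjoint hdisj] at h1
        simp only [rk_union] at h1
        rw [Finset.sum_add_distrib, ← hAcard] at h1
        omega)
      refine ⟨fun e => if e ∈ A then c₁ e else c₂ e, fun i => ?_⟩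
      have hfil : S.filter (fun e => (if e ∈ A then c₁ e else c₂ e) = i) =
          A.filter (fun e => c₁ e = i) ∪ (S \ A).filter (fun e => c₂ e = i) := by
        ext e
        simp only [Finset.mem_filter, Finset.mem_union, Finset.mem_sdiff]
        by_cases he : e ∈ A
        · simp [he, hAS he]
        · simp [he]
      rw [hfil]
      refine (hc₁ i).union v ?_ ?_
      · rw [hsup i]; exact hc₂ i
      · exact (Finset.disjoint_sdiff).mono (Finset.filter_subset _ _) (Finset.filter_subset _ _)
    · -- case (a)
      push Not at hb
      obtain ⟨e, heS⟩ := hSne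
      have h1 := hyp {e} (Finset.singleton_subset_iff.2 heS)
      rw [Finset.card_singleton] at h1
      obtain ⟨i₀, hi₀⟩ : ∃ i₀, 0 < rk v (W i₀) {e} := by
        by_contra hcon
        push Not at hcon
        have : ∑ i, rk v (W i) {e} = 0 := Finset.sum_eq_zero (fun i _ => Nat.le_zero.1 (hcon i))
        omega
      have hrk1 : IndepMod v (W i₀) {e} := by
        unfold IndepMod
        have h2 := rk_add v (W i₀) {e}
        have h3 := rk_le_card v (W i₀) {e}
        rw [Finset.card_singleton] at h3 ⊢
        omega
      have hlt : (S.erase e).card < n := by rw [← hS]; exact Finset.card_erase_lt_of_mem heS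
      obtain ⟨c₂, hc₂⟩ := ih (S.erase e).card hlt (S.erase e)
        (Function.update W i₀ (W i₀ ⊔ sp (K := K) v {e})) rfl (by
        intro B hB
        rcases B.eq_empty_or_nonempty with rfl | hBne
        · simp
        have hBS : B ⊆ S := hB.trans (Finset.erase_subset _ _)
        have hBne' : B ≠ S := by
          rintro rfl
          exact (Finset.notMem_erase e B) (hB heS)
        have h2 : B.card ≠ ∑ i, rk v (W i) B := hb B hBS hBne hBne'
        have h3 := hyp B hBS
        have h4 : ∑ i, rk v (W i) B ≤
            ∑ i, rk v (Function.update W i₀ (W i₀ ⊔ sp (K := K) v {e}) i) B + 1 := by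
          calc ∑ i, rk v (W i) B
              ≤ ∑ i, (rk v (Function.update W i₀ (W i₀ ⊔ sp (K := K) v {e}) i) B +
                  if i = i₀ then 1 else 0) := by
                refine Finset.sum_le_sum fun i _ => ?_
                by_cases hi : i = i₀
                · subst hi
                  rw [Function.update_self, if_pos rfl]
                  exact rk_sup_singleton_add_one v (W i) e B
                · rw [Function.update_of_ne hi, if_neg hi, add_zero]
            _ = _ := by
                rw [Finset.sum_add_distrib, Finset.sum_ite_eq' Finset.univ i₀]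
                simp
        omega)
      refine ⟨Function.update c₂ e i₀, fun i => ?_⟩
      by_cases hi : i = i₀
      · subst hi
        have hfil : S.filter (fun e' => Function.update c₂ e i e' = i) =
            {e} ∪ (S.erase e).filter (fun e' => c₂ e' = i) := by
          ext e'
          simp only [Finset.mem_filter, Finset.mem_union, Finset.mem_singleton, Finset.mem_erase]
          by_cases he' : e' = e
          · subst he'; simp [heS]
          · simp [he', Function.update_of_ne he']
        rw [hfil]
        refine hrk1.union v ?_ ?_
        · have := hc₂ i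
          rw [Function.update_self] at this
          exact this
        · rw [Finset.disjoint_singleton_left]
          simp
      · have hfil : S.filter (fun e' => Function.update c₂ e i₀ e' = i) =
            (S.erase e).filter (fun e' => c₂ e' = i) := by
          ext e'
          simp only [Finset.mem_filter, Finset.mem_erase]
          by_cases he' : e' = e
          · subst he'; simp [Function.update_self, Ne.symm hi]
          · simp [he', Function.update_of_ne he']
        rw [hfil]
        have := hc₂ i
        rw [Function.update_of_ne hi] at this
        exact this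

end Groth.Agent.Helper7.MatPart

namespace Groth.Agent.Helper7.MatPart

open Module

variable {K : Type u} {V : Type v} [Field K] [AddCommGroup V] [Module K V] [FiniteDimensional K V]

/-- Rado–Horn: a finite family of vectors can be partitioned into `t` linearly independent
subfamilies as soon as `|A| ≤ t · dim span A` for all subfamilies `A`. -/
theorem rado_horn {E : Type w} [Fintype E] [DecidableEq E] (v : E → V) (t : ℕ) (ht : 0 < t)
    (h : ∀ A : Finset E, A.card ≤ t * finrank K (Submodule.span K (v '' (A : Set E)))) :
    ∃ c : E → Fin t, ∀ i, LinearIndependent K (fun e : {e // c e = i} => v e.1) := by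
  haveI : Nonempty (Fin t) := ⟨⟨0, ht⟩⟩
  obtain ⟨c, hc⟩ := partition_aux (K := K) v (ι := Fin t) (Finset.univ : Finset E).card Finset.univ
    (fun _ => ⊥) rfl (by
      intro A _
      have h1 : ∀ i : Fin t, rk v ((fun _ => ⊥ : Fin t → Submodule K V) i) A =
          finrank K (Submodule.span K (v '' (A : Set E))) := by
        intro i
        unfold rk d sp
        rw [bot_sup_eq, finrank_bot, Nat.sub_zero]
      rw [Finset.sum_congr rfl (fun i _ => h1 i), Finset.sum_const, Finset.card_univ,
        Fintype.card_fin, smul_eq_mul]
      exact h A)
  refine ⟨c, fun i => ?_⟩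
  rw [linearIndependent_iff_card_eq_finrank_span]
  have h2 := hc i
  unfold IndepMod d sp at h2
  rw [bot_sup_eq, finrank_bot, zero_add] at h2
  have h3 : Set.range (fun e : {e // c e = i} => v e.1) =
      v '' ((Finset.univ.filter (fun e => c e = i) : Finset E) : Set E) := by
    ext y
    simp only [Set.mem_range, Subtype.exists, exists_prop, Finset.coe_filter, Finset.mem_univ,
      true_and, Set.mem_image, Set.mem_setOf_eq]
  rw [Set.finrank, h3, h2, Fintype.card_subtype]

end Groth.Agent.Helper7.MatPart
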