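import Mathlib
import Groth.Agent.Helper7.MatPartB

set_option autoImplicit false
set_option linter.unusedSectionVars false
universe u

namespace Groth.Agent.Helper7.MatPart

open Module

section counting

variable {α : Type*} [DecidableEq α]

theorem sum_card_inter (P : Multiset (Finset α)) (I : Finset α) :
    (P.map (fun S => (S ∩ I).card)).sum =
      ∑ j ∈ I, Multiset.card (P.filter (fun S => j ∈ S)) := by
  induction P using Multiset.induction_on with
  | empty => simp
  | cons S P ih =>
    rw [Multiset.map_cons, Multiset.sum_cons, ih]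
    have h1 : ∀ j, Multiset.card ((S ::ₘ P).filter (fun S => j ∈ S)) =
        (if j ∈ S then 1 else 0) + Multiset.card (P.filter (fun S => j ∈ S)) := by
      intro j
      rw [Multiset.filter_cons, Multiset.card_add]
      split_ifs <;> simp
    simp only [h1]
    rw [Finset.sum_add_distrib, Finset.sum_boole, Finset.filter_mem_eq_inter, Finset.inter_comm]
    simp

end counting

section easy

variable {K : Type u} [Field K] {V : Type u} [AddCommGroup V] [Module K V] [FiniteDimensional K V]

theorem card_inter_le (m : ℕ) (x : Fin (m + 1) → V) (L : Submodule K V)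
    (I : Finset (Fin (m + 1))) (hI : ∀ j ∈ I, x j ∈ L)
    (S : Finset (Fin (m + 1))) (hS : LinearIndependent K (fun j : S => x j)) :
    (S ∩ I).card ≤ finrank K L := by
  have hsub : S ∩ I ⊆ S := Finset.inter_subset_left
  have hb : LinearIndependent K (fun j : (S ∩ I : Finset (Fin (m + 1))) => x j) := by
    have := hS.comp (fun j : (S ∩ I : Finset (Fin (m + 1))) => (⟨j.1, hsub j.2⟩ : S))
      (fun a b hab => Subtype.ext (congrArg (fun z : S => (z : Fin (m + 1))) hab))
    exact this
  have h1 := finrank_span_eq_card hb
  rw [Fintype.card_coe] at h1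
  rw [← h1]
  apply Submodule.finrank_mono
  rw [Submodule.span_le]
  rintro _ ⟨j, rfl⟩
  exact hI j (Finset.mem_inter.1 j.2).2

theorem easy_direction (m : ℕ) (x : Fin (m + 1) → V)
    (h : ∃ N N₀ : ℕ, 0 < N₀ ∧ N₀ ≤ N ∧
        ∀ i : Fin (m + 1), ∃ P : Multiset (Finset (Fin (m + 1))), P ≠ 0 ∧
          (∀ S ∈ P, S.card = Module.finrank K V ∧ LinearIndependent K (fun j : S => x j)) ∧
          ∀ j : Fin (m + 1),
            Multiset.card (P.filter (fun S => j ∈ S)) = if j = i then N - N₀ else N)
    (L : Submodule K V) (hL0 : L ≠ ⊥) (hL1 : L ≠ ⊤) :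
    Set.ncard {i : Fin (m + 1) | x i ∈ L} * Module.finrank K V <
      Module.finrank K L * (m + 1) := by
  classical
  obtain ⟨N, N₀, hN₀, hNN, hP⟩ := h
  set I := Finset.univ.filter (fun j => x j ∈ L) with hI
  have hncard : Set.ncard {i : Fin (m + 1) | x i ∈ L} = I.card := by
    rw [← Set.ncard_coe_finset I]
    congr 1
    ext j
    simp [hI]
  rw [hncard]
  have hImem : ∀ j ∈ I, x j ∈ L := by
    intro j hj
    rw [hI, Finset.mem_filter] at hj
    exact hj.2
  have hdlt : finrank K L < finrank K V := Submodule.finrank_lt hL1
  have hdpos : 0 < finrank K L := by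
    rw [Nat.pos_iff_ne_zero]
    intro h0
    exact hL0 (Submodule.finrank_eq_zero.1 h0)
  by_cases hall : I = Finset.univ
  · exfalso
    obtain ⟨P, hP0, hPS, _⟩ := hP 0
    obtain ⟨S, hS⟩ := Multiset.exists_mem_of_ne_zero hP0
    have h1 := card_inter_le m x L I hImem S (hPS S hS).2
    rw [hall, Finset.inter_univ, (hPS S hS).1] at h1
    omega
  · obtain ⟨i, hi⟩ : ∃ i, i ∉ I := by
      by_contra hcon
      push Not at hcon
      exact hall (Finset.eq_univ_iff_forall.2 hcon)
    obtain ⟨P, hP0, hPS, hcount⟩ := hP i
    -- (1)
    have h1 : (P.map (fun S => (S ∩ I).card)).sum = I.card * N := by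
      have hc : ∀ j ∈ I, Multiset.card (P.filter (fun S => j ∈ S)) = N := by
        intro j hj
        rw [hcount j, if_neg]
        rintro rfl
        exact hi hj
      rw [sum_card_inter, Finset.sum_congr rfl hc, Finset.sum_const, smul_eq_mul]
    -- (2)
    have h2 : (P.map (fun S => (S ∩ I).card)).sum ≤ Multiset.card P * finrank K L := by
      have := Multiset.sum_le_card_nsmul (P.map (fun S => (S ∩ I).card)) (finrank K L) (by
        intro y hy
        obtain ⟨S, hS, rfl⟩ := Multiset.mem_map.1 hy
        exact card_inter_le m x L I hImem S (hPS S hS).2)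
      rwa [Multiset.card_map, smul_eq_mul] at this
    -- (3)
    have h3 : Multiset.card P * finrank K V + N₀ = (m + 1) * N := by
      have h4 : (P.map (fun S => (S ∩ Finset.univ).card)).sum = Multiset.card P * finrank K V := by
        have : ∀ S ∈ P, (S ∩ Finset.univ).card = finrank K V := fun S hS => by
          rw [Finset.inter_univ, (hPS S hS).1]
        rw [Multiset.map_congr rfl this, Multiset.map_const', Multiset.sum_replicate, smul_eq_mul]
      rw [← h4, sum_card_inter]
      simp only [hcount]
      have h5 : ∀ j : Fin (m + 1), (if j = i then N - N₀ else N) + (if j = i then N₀ else 0) = N := by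
        intro j
        split_ifs <;> omega
      have h6 : ∑ j : Fin (m + 1), ((if j = i then N - N₀ else N) + (if j = i then N₀ else 0)) =
          (m + 1) * N := by
        rw [Finset.sum_congr rfl (fun j _ => h5 j), Finset.sum_const, Finset.card_univ,
          Fintype.card_fin, smul_eq_mul]
      rw [Finset.sum_add_distrib, Finset.sum_ite_eq' Finset.univ i, if_pos (Finset.mem_univ i)] at h6
      exact h6
    -- conclude
    rw [h1] at h2
    have hNpos : 0 < N := lt_of_lt_of_le hN₀ hNN
    have h7 : I.card * N * finrank K V ≤ finrank K L * (Multiset.card P * finrank K V) := by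
      calc I.card * N * finrank K V ≤ Multiset.card P * finrank K L * finrank K V :=
            Nat.mul_le_mul_right _ h2
        _ = finrank K L * (Multiset.card P * finrank K V) := by ring
    have h8 : finrank K L * (Multiset.card P * finrank K V) < finrank K L * ((m + 1) * N) := by
      apply Nat.mul_lt_mul_of_pos_left _ hdpos
      omega
    have h9 : I.card * finrank K V * N < finrank K L * (m + 1) * N := by
      calc I.card * finrank K V * N = I.card * N * finrank K V := by ring
        _ ≤ _ := h7
        _ < _ := h8
        _ = finrank K L * (m + 1) * N := by ring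
    exact Nat.lt_of_mul_lt_mul_right h9

end easy

end Groth.Agent.Helper7.MatPart
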