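import Mathlib
import Groth.Agent.Helper7.MatPartC

set_option autoImplicit false
set_option linter.unusedSectionVars false
universe u

namespace Groth.Agent.Helper7.MatPart

open Module

section hard

variable {K : Type u} [Field K] {V : Type u} [AddCommGroup V] [Module K V] [FiniteDimensional K V]

theorem hard_direction (m : ℕ) (x : Fin (m + 1) → V) (hx : ∀ i, x i ≠ 0)
    (hst : ∀ L : Submodule K V, L ≠ ⊥ → L ≠ ⊤ →
        Set.ncard {i : Fin (m + 1) | x i ∈ L} * Module.finrank K V <
          Module.finrank K L * (m + 1)) :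
    ∃ N N₀ : ℕ, 0 < N₀ ∧ N₀ ≤ N ∧
        ∀ i : Fin (m + 1), ∃ P : Multiset (Finset (Fin (m + 1))), P ≠ 0 ∧
          (∀ S ∈ P, S.card = Module.finrank K V ∧ LinearIndependent K (fun j : S => x j)) ∧
          ∀ j : Fin (m + 1),
            Multiset.card (P.filter (fun S => j ∈ S)) = if j = i then N - N₀ else N := by
  classical
  haveI : Nontrivial V := nontrivial_of_ne (x 0) 0 (hx 0)
  set n := finrank K V with hn
  have hnpos : 0 < n := Module.finrank_pos
  refine ⟨n * (n + 1), n, hnpos, by nlinarith, fun i => ?_⟩
  set w : Fin (m + 1) → ℕ := fun j => if j = i then n * (n + 1) - n else n * (n + 1) with hw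
  set t := (m + 1) * (n + 1) - 1 with ht
  have ht1 : t + 1 = (m + 1) * (n + 1) := by
    have : 1 ≤ (m + 1) * (n + 1) := Nat.mul_pos (Nat.succ_pos m) (Nat.succ_pos n)
    omega
  have htpos : 0 < t := by
    have : 2 ≤ (m + 1) * (n + 1) := by nlinarith
    omega
  have hwle : ∀ j, w j ≤ n * (n + 1) := by
    intro j
    simp only [hw]
    split_ifs <;> omega
  have hwsum : ∑ j, w j = n * t := by
    have h5 : ∀ j : Fin (m + 1), w j + (if j = i then n else 0) = n * (n + 1) := by
      intro j
      simp only [hw]
      have : n ≤ n * (n + 1) := by nlinarith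
      split_ifs <;> omega
    have h6 : ∑ j : Fin (m + 1), (w j + (if j = i then n else 0)) = (m + 1) * (n * (n + 1)) := by
      rw [Finset.sum_congr rfl (fun j _ => h5 j), Finset.sum_const, Finset.card_univ,
        Fintype.card_fin, smul_eq_mul]
    rw [Finset.sum_add_distrib, Finset.sum_ite_eq' Finset.univ i, if_pos (Finset.mem_univ i)] at h6
    have h7 : n * t + n = (m + 1) * (n * (n + 1)) := by
      calc n * t + n = n * (t + 1) := by ring
        _ = n * ((m + 1) * (n + 1)) := by rw [ht1]
        _ = _ := by ring
    omega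
  have hcardE : Fintype.card (Σ j : Fin (m + 1), Fin (w j)) = n * t := by
    rw [Fintype.card_sigma]
    simp only [Fintype.card_fin]
    exact hwsum
  let v' : (Σ j : Fin (m + 1), Fin (w j)) → V := fun p => x p.1
  obtain ⟨c, hc⟩ := rado_horn (K := K) v' t htpos (by
    intro A
    set A' := A.image Sigma.fst with hA'
    have hspan : Submodule.span K (v' '' (A : Set _)) = Submodule.span K (x '' (A' : Set _)) := by
      congr 1
      ext y
      simp only [Set.mem_image, Finset.mem_coe, hA', Finset.mem_image, v']
      constructor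
      · rintro ⟨p, hp, rfl⟩
        exact ⟨p.1, ⟨p, hp, rfl⟩, rfl⟩
      · rintro ⟨j, ⟨p, hp, rfl⟩, rfl⟩
        exact ⟨p, hp, rfl⟩
    have hcardA : A.card ≤ A'.card * (n * (n + 1)) := by
      calc A.card ≤ (A'.sigma (fun j => (Finset.univ : Finset (Fin (w j))))).card := by
            apply Finset.card_le_card
            intro p hp
            rw [Finset.mem_sigma]
            exact ⟨Finset.mem_image_of_mem _ hp, Finset.mem_univ _⟩
        _ = ∑ j ∈ A', w j := by
            rw [Finset.card_sigma]
            simp
        _ ≤ ∑ j ∈ A', n * (n + 1) := Finset.sum_le_sum (fun j _ => hwle j)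
        _ = A'.card * (n * (n + 1)) := by rw [Finset.sum_const, smul_eq_mul]
    rcases A.eq_empty_or_nonempty with rfl | hAne
    · simp
    obtain ⟨p, hp⟩ := hAne
    rw [hspan]
    set L := Submodule.span K (x '' (A' : Set _)) with hL
    have hpL : x p.1 ∈ L :=
      Submodule.subset_span ⟨p.1, Finset.mem_coe.2 (Finset.mem_image_of_mem _ hp), rfl⟩
    have hL0 : L ≠ ⊥ := by
      intro h
      rw [h, Submodule.mem_bot] at hpL
      exact hx _ hpL
    by_cases hL1 : L = ⊤
    · rw [hL1, finrank_top, ← hn]
      calc A.card ≤ Fintype.card (Σ j : Fin (m + 1), Fin (w j)) := Finset.card_le_univ A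
        _ = t * n := by rw [hcardE, mul_comm]
    · have hst' := hst L hL0 hL1
      have hA'le : A'.card ≤ Set.ncard {j | x j ∈ L} := by
        rw [← Set.ncard_coe_finset A']
        apply Set.ncard_le_ncard _ (Set.toFinite _)
        intro j hj
        exact Submodule.subset_span ⟨j, hj, rfl⟩
      have hdle : finrank K L ≤ n := Submodule.finrank_le L
      have e1 : A'.card * n + 1 ≤ finrank K L * (m + 1) := by
        have := Nat.mul_le_mul_right n hA'le
        omega
      have e2 : A'.card * (n * (n + 1)) + finrank K L ≤ (t + 1) * finrank K L := by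
        rw [ht1]
        calc A'.card * (n * (n + 1)) + finrank K L ≤ A'.card * (n * (n + 1)) + (n + 1) := by omega
          _ = (A'.card * n + 1) * (n + 1) := by ring
          _ ≤ (finrank K L * (m + 1)) * (n + 1) := Nat.mul_le_mul_right _ e1
          _ = (m + 1) * (n + 1) * finrank K L := by ring
      have e3 : (t + 1) * finrank K L = t * finrank K L + finrank K L := by ring
      omega)
  -- classes
  have hinj : ∀ (i' : Fin t) (p q : Σ j : Fin (m + 1), Fin (w j)), c p = i' → c q = i' →
      p.1 = q.1 → p = q := by
    intro i' p q hp hq hpq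
    have := (hc i').injective (a₁ := ⟨p, hp⟩) (a₂ := ⟨q, hq⟩) (by
      show x p.1 = x q.1
      rw [hpq])
    exact congrArg Subtype.val this
  have hcard_le : ∀ i' ∈ (Finset.univ : Finset (Fin t)),
      (Finset.univ.filter (fun p => c p = i')).card ≤ n := by
    intro i' _
    have := (hc i').fintype_card_le_finrank
    rwa [Fintype.card_subtype] at this
  have hsumc : ∑ i' : Fin t, (Finset.univ.filter (fun p => c p = i')).card = ∑ _i' : Fin t, n := by
    rw [← Finset.card_eq_sum_card_fiberwise (fun x _ => Finset.mem_univ _), Finset.card_univ, hcardE,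
      Finset.sum_const, Finset.card_univ, Fintype.card_fin, smul_eq_mul, mul_comm]
  have hcard_eq : ∀ i' : Fin t, (Finset.univ.filter (fun p => c p = i')).card = n :=
    fun i' => (Finset.sum_eq_sum_iff_of_le hcard_le).1 hsumc i' (Finset.mem_univ i')
  set S : Fin t → Finset (Fin (m + 1)) :=
    fun i' => (Finset.univ.filter (fun p => c p = i')).image Sigma.fst with hS
  have hScard : ∀ i', (S i').card = n := by
    intro i'
    rw [hS, Finset.card_image_of_injOn, hcard_eq]
    intro p hp q hq hpq
    rw [Finset.mem_coe, Finset.mem_filter] at hp hq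
    exact hinj i' p q hp.2 hq.2 hpq
  have hSind : ∀ i', LinearIndependent K (fun j : S i' => x j) := by
    intro i'
    rw [linearIndependent_iff_card_eq_finrank_span, Fintype.card_coe, hScard]
    have h1 := finrank_span_eq_card (hc i')
    rw [Fintype.card_subtype, hcard_eq] at h1
    have hrange : Set.range (fun e : {e // c e = i'} => v' e.1) =
        Set.range (fun j : S i' => x j) := by
      ext y
      simp only [Set.mem_range, Subtype.exists, hS, Finset.mem_image, Finset.mem_filter,
        Finset.mem_univ, true_and, v']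
      constructor
      · rintro ⟨p, hp, rfl⟩
        exact ⟨p.1, ⟨p, hp, rfl⟩, rfl⟩
      · rintro ⟨j, ⟨p, hp, rfl⟩, rfl⟩
        exact ⟨p, hp, rfl⟩
    rw [← h1, hrange]
    rfl
  refine ⟨(Finset.univ : Finset (Fin t)).val.map S, ?_, ?_, ?_⟩
  · intro h
    have := congrArg Multiset.card h
    rw [Multiset.card_map, Finset.card_val, Finset.card_univ, Fintype.card_fin,
      Multiset.card_zero] at this
    omega
  · intro S' hS'
    obtain ⟨i', _, rfl⟩ := Multiset.mem_map.1 hS'
    exact ⟨hScard i', hSind i'⟩
  · intro j
    rw [Multiset.filter_map, Multiset.card_map, ← Finset.filter_val, Finset.card_val]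
    have himg : Finset.univ.filter ((fun S' => j ∈ S') ∘ S) =
        (Finset.univ : Finset (Fin (w j))).image (fun s => c ⟨j, s⟩) := by
      ext i'
      simp only [Function.comp_apply, hS, Finset.mem_filter, Finset.mem_univ, true_and,
        Finset.mem_image]
      constructor
      · rintro ⟨⟨j', s⟩, hp, rfl⟩
        exact ⟨s, hp⟩
      · rintro ⟨s, hs⟩
        exact ⟨⟨j, s⟩, hs, rfl⟩
    rw [himg, Finset.card_image_of_injective, Finset.card_univ, Fintype.card_fin]
    intro s s' hss
    have := hinj (c ⟨j, s⟩) ⟨j, s⟩ ⟨j, s'⟩ rfl hss.symm rfl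
    exact eq_of_heq (Sigma.mk.inj this).2

end hard

end Groth.Agent.Helper7.MatPart
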