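import Mathlib

set_option autoImplicit false
universe u v

namespace Groth.Agent.Helper7.McKayCyc
open Matrix

variable {K : Type u} {L : Type v} [Field K] [Field L] [CharZero K] [Algebra K L]

theorem result (n : ℕ) (hn : 1 ≤ n) (ξ : L) (hξ : IsPrimitiveRoot ξ n) (c : K)
    (hc : algebraMap K L (2 * c) = ξ + ξ⁻¹) :
    ∃ M : Matrix.SpecialLinearGroup (Fin 2) K, orderOf M = n := by
  have hξ0 : ξ ≠ 0 := hξ.ne_zero (by omega)
  by_cases h1 : n = 1
  · exact ⟨1, by rw [orderOf_one, h1]⟩
  by_cases h2 : n = 2
  · refine ⟨⟨!![-1, 0; 0, -1], by simp [Matrix.det_fin_two_of]⟩, ?_⟩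
    rw [h2]
    apply orderOf_eq_prime
    · apply Subtype.ext
      rw [Matrix.SpecialLinearGroup.coe_pow]
      ext i j
      fin_cases i <;> fin_cases j <;> simp [pow_two, Matrix.mul_apply, Fin.sum_univ_two]
    · intro h
      have := congrArg (fun M : Matrix.SpecialLinearGroup (Fin 2) K => (M : Matrix (Fin 2) (Fin 2) K) 0 0) h
      simp at this
      have h3 : (2 : K) = 0 := by linear_combination -this
      exact two_ne_zero h3
  have hn3 : 3 ≤ n := by omega
  have hne : ξ ≠ ξ⁻¹ := by
    intro h
    have h3 : ξ ^ 2 = 1 := by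
      rw [pow_two]
      nth_rewrite 2 [h]
      exact mul_inv_cancel₀ hξ0
    have := hξ.dvd_of_pow_eq_one 2 h3
    have := Nat.le_of_dvd (by norm_num) this
    omega
  let M : Matrix.SpecialLinearGroup (Fin 2) K :=
    ⟨!![0, -1; 1, 2 * c], by simp [Matrix.det_fin_two_of]⟩
  refine ⟨M, ?_⟩
  set ML : Matrix (Fin 2) (Fin 2) L := !![0, -1; 1, ξ + ξ⁻¹] with hML
  have hMLmap : (algebraMap K L).mapMatrix (M : Matrix (Fin 2) (Fin 2) K) = ML := by
    ext i j
    fin_cases i <;> fin_cases j <;> simp [M, hML, ← hc]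
  set P : Matrix (Fin 2) (Fin 2) L := !![1, 1; -ξ, -ξ⁻¹] with hP
  set D : Matrix (Fin 2) (Fin 2) L := Matrix.diagonal ![ξ, ξ⁻¹] with hD
  have hdetP : IsUnit P.det := by
    rw [hP, Matrix.det_fin_two_of, isUnit_iff_ne_zero]
    intro h
    apply hne
    linear_combination h
  have hMP : ML * P = P * D := by
    ext i j
    fin_cases i <;> fin_cases j <;>
      simp [hML, hP, hD, Matrix.mul_apply, Fin.sum_univ_two, Matrix.diagonal_apply]
    · field_simp
      ring
    · field_simp
      ring
  have hMPk : ∀ k : ℕ, ML ^ k * P = P * D ^ k := by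
    intro k
    induction k with
    | zero => simp
    | succ k ih => rw [pow_succ, Matrix.mul_assoc, hMP, ← Matrix.mul_assoc, ih, Matrix.mul_assoc,
        ← pow_succ]
  have hDk : ∀ k : ℕ, D ^ k = Matrix.diagonal ![ξ ^ k, (ξ⁻¹) ^ k] := by
    intro k
    rw [hD, Matrix.diagonal_pow]
    congr 1
    ext i
    fin_cases i <;> simp
  have hiff : ∀ k : ℕ, M ^ k = 1 ↔ n ∣ k := by
    intro k
    have e1 : M ^ k = 1 ↔ ML ^ k = 1 := by
      constructor
      · intro h
        have := congrArg (fun N : Matrix.SpecialLinearGroup (Fin 2) K =>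
          (algebraMap K L).mapMatrix (N : Matrix (Fin 2) (Fin 2) K)) h
        simp only [Matrix.SpecialLinearGroup.coe_pow, map_pow, hMLmap,
          Matrix.SpecialLinearGroup.coe_one, map_one] at this
        exact this
      · intro h
        apply Subtype.ext
        rw [Matrix.SpecialLinearGroup.coe_pow, Matrix.SpecialLinearGroup.coe_one]
        have hinj : Function.Injective ((algebraMap K L).mapMatrix :
            Matrix (Fin 2) (Fin 2) K → Matrix (Fin 2) (Fin 2) L) := by
          intro A B hAB
          ext i j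
          have := congrFun (congrFun hAB i) j
          simp only [RingHom.mapMatrix_apply, Matrix.map_apply] at this
          exact (algebraMap K L).injective this
        apply hinj
        rw [map_pow, hMLmap, map_one, h]
    rw [e1]
    constructor
    · intro h
      have h3 := hMPk k
      rw [h, Matrix.one_mul, hDk] at h3
      -- compare (0,0) entries
      have h4 := congrFun (congrFun h3 0) 0
      simp [hP, Matrix.mul_apply, Fin.sum_univ_two, Matrix.diagonal_apply] at h4
      exact hξ.dvd_of_pow_eq_one k h4.symm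
    · rintro ⟨m, rfl⟩
      have h3 := hMPk (n * m)
      have hD1 : D ^ (n * m) = 1 := by
        rw [hDk, pow_mul, hξ.pow_eq_one, one_pow, inv_pow, pow_mul, hξ.pow_eq_one, one_pow,
          inv_one]
        ext i j
        fin_cases i <;> fin_cases j <;> simp [Matrix.diagonal_apply, Matrix.one_apply]
      rw [hD1, Matrix.mul_one] at h3
      -- cancel P
      have h5 : (ML ^ (n * m) * P) * P⁻¹ = P * P⁻¹ := by rw [h3]
      rwa [Matrix.mul_assoc, Matrix.mul_nonsing_inv P hdetP, Matrix.mul_one] at h5
  apply Nat.dvd_antisymm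
  · exact orderOf_dvd_of_pow_eq_one ((hiff n).mpr dvd_rfl)
  · exact (hiff (orderOf M)).mp (pow_orderOf_eq_one M)

end Groth.Agent.Helper7.McKayCyc
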