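import Mathlib

set_option autoImplicit false
universe u v

namespace Groth.Agent.Helper7.McKayQuat
open Matrix

variable {K : Type u} {L : Type v} [Field K] [Field L] [Algebra K L]

/-- companion matrix of `X^2 - 2cX + 1` -/
def A (c : K) : Matrix.SpecialLinearGroup (Fin 2) K :=
  ⟨!![0, -1; 1, 2 * c], by simp [Matrix.det_fin_two_of]⟩

def ML (ξ : L) : Matrix (Fin 2) (Fin 2) L := !![0, -1; 1, ξ + ξ⁻¹]
def P (ξ : L) : Matrix (Fin 2) (Fin 2) L := !![1, 1; -ξ, -ξ⁻¹]

lemma mapMatrix_injective : Function.Injective ((algebraMap K L).mapMatrix :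
    Matrix (Fin 2) (Fin 2) K → Matrix (Fin 2) (Fin 2) L) := by
  intro A B hAB
  ext i j
  have := congrFun (congrFun hAB i) j
  simp only [RingHom.mapMatrix_apply, Matrix.map_apply] at this
  exact (algebraMap K L).injective this

section
variable (c : K) (ξ : L)

lemma map_A (hc : algebraMap K L (2 * c) = ξ + ξ⁻¹) :
    (algebraMap K L).mapMatrix (A c : Matrix (Fin 2) (Fin 2) K) = ML ξ := by
  ext i j
  fin_cases i <;> fin_cases j <;> simp [A, ML, ← hc]

lemma isUnit_det_P (hne : ξ ≠ ξ⁻¹) : IsUnit (P ξ).det := by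
  rw [P, Matrix.det_fin_two_of, isUnit_iff_ne_zero]
  intro h
  apply hne
  linear_combination h

lemma ML_mul_P (hξ0 : ξ ≠ 0) : ML ξ * P ξ = P ξ * Matrix.diagonal ![ξ, ξ⁻¹] := by
  ext i j
  fin_cases i <;> fin_cases j <;>
    simp [ML, P, Matrix.mul_apply, Fin.sum_univ_two, Matrix.diagonal_apply]
  · field_simp
    ring
  · field_simp
    ring

lemma ML_pow_mul_P (hξ0 : ξ ≠ 0) (k : ℕ) :
    ML ξ ^ k * P ξ = P ξ * Matrix.diagonal ![ξ ^ k, (ξ⁻¹) ^ k] := by
  have hDk : ∀ k : ℕ, (Matrix.diagonal ![ξ, ξ⁻¹]) ^ k = Matrix.diagonal ![ξ ^ k, (ξ⁻¹) ^ k] := by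
    intro k
    rw [Matrix.diagonal_pow]
    congr 1
    ext i
    fin_cases i <;> simp
  rw [← hDk]
  induction k with
  | zero => simp
  | succ k ih =>
    rw [pow_succ, Matrix.mul_assoc, ML_mul_P ξ hξ0, ← Matrix.mul_assoc, ih, Matrix.mul_assoc,
      ← pow_succ]

lemma A_pow_eq_scalar (hξ0 : ξ ≠ 0) (hne : ξ ≠ ξ⁻¹) (hc : algebraMap K L (2 * c) = ξ + ξ⁻¹)
    (k : ℕ) (e : K) (h1 : ξ ^ k = algebraMap K L e) (h2 : (ξ⁻¹) ^ k = algebraMap K L e) :
    ((A c : Matrix (Fin 2) (Fin 2) K) ^ k) = Matrix.diagonal (fun _ => e) := by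
  apply mapMatrix_injective (L := L)
  rw [map_pow, map_A c ξ hc]
  have h3 := ML_pow_mul_P ξ hξ0 k
  rw [h1, h2] at h3
  have hD : Matrix.diagonal ![algebraMap K L e, algebraMap K L e]
      = (algebraMap K L).mapMatrix (Matrix.diagonal (fun _ => e)) := by
    ext i j
    fin_cases i <;> fin_cases j <;> simp [Matrix.diagonal_apply]
  have hcomm : P ξ * Matrix.diagonal ![algebraMap K L e, algebraMap K L e]
      = Matrix.diagonal ![algebraMap K L e, algebraMap K L e] * P ξ := by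
    ext i j
    fin_cases i <;> fin_cases j <;>
      simp [P, Matrix.mul_apply, Fin.sum_univ_two, Matrix.diagonal_apply, mul_comm]
  rw [hcomm] at h3
  have h5 : (ML ξ ^ k * P ξ) * (P ξ)⁻¹
      = (Matrix.diagonal ![algebraMap K L e, algebraMap K L e] * P ξ) * (P ξ)⁻¹ := by rw [h3]
  rw [Matrix.mul_assoc, Matrix.mul_assoc, Matrix.mul_nonsing_inv _ (isUnit_det_P ξ hne),
    Matrix.mul_one, Matrix.mul_one] at h5
  rw [h5, hD]

lemma pow_eq_one_of_A_pow (hξ0 : ξ ≠ 0) (hc : algebraMap K L (2 * c) = ξ + ξ⁻¹)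
    (k : ℕ) (h : (A c) ^ k = 1) : ξ ^ k = 1 := by
  have h0 := congrArg (fun N : Matrix.SpecialLinearGroup (Fin 2) K =>
    (algebraMap K L).mapMatrix (N : Matrix (Fin 2) (Fin 2) K)) h
  simp only [Matrix.SpecialLinearGroup.coe_pow, map_pow, map_A c ξ hc,
    Matrix.SpecialLinearGroup.coe_one, map_one] at h0
  have h3 := ML_pow_mul_P ξ hξ0 k
  rw [h0, Matrix.one_mul] at h3
  have h4 := congrFun (congrFun h3 0) 0
  simp [P, Matrix.mul_apply, Fin.sum_univ_two, Matrix.diagonal_apply] at h4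
  exact h4.symm

end

theorem result [CharZero K] (n : ℕ) (hn : 2 ≤ n) (ξ : L)
    (hξ : IsPrimitiveRoot ξ (2 * n)) (c : K) (hc : algebraMap K L (2 * c) = ξ + ξ⁻¹)
    (hsol : ∃ x y : K, x ^ 2 - (c ^ 2 - 1) * y ^ 2 = -1) :
    ∃ f : QuaternionGroup n →* Matrix.SpecialLinearGroup (Fin 2) K, Function.Injective f := by
  obtain ⟨x, y, hxy⟩ := hsol
  haveI : NeZero (2 * n) := ⟨by omega⟩
  have hξ0 : ξ ≠ 0 := hξ.ne_zero (by omega)
  have hne : ξ ≠ ξ⁻¹ := by
    intro h
    have h3 : ξ ^ 2 = 1 := by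
      rw [pow_two]
      nth_rewrite 2 [h]
      exact mul_inv_cancel₀ hξ0
    have := hξ.dvd_of_pow_eq_one 2 h3
    have := Nat.le_of_dvd (by norm_num) this
    omega
  have hinvpow : ∀ k, (ξ⁻¹) ^ k = (ξ ^ k)⁻¹ := fun k => inv_pow ξ k
  have hiff : ∀ k : ℕ, (A c) ^ k = 1 ↔ 2 * n ∣ k := by
    intro k
    constructor
    · intro h
      exact hξ.dvd_of_pow_eq_one k (pow_eq_one_of_A_pow c ξ hξ0 hc k h)
    · rintro ⟨m, rfl⟩
      apply Subtype.ext
      rw [Matrix.SpecialLinearGroup.coe_pow, Matrix.SpecialLinearGroup.coe_one,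
        A_pow_eq_scalar c ξ hξ0 hne hc (2 * n * m) 1 (by rw [pow_mul, hξ.pow_eq_one, one_pow, map_one])
          (by rw [hinvpow, pow_mul, hξ.pow_eq_one, one_pow, inv_one, map_one])]
      exact Matrix.diagonal_one
  have hord : orderOf (A c) = 2 * n := by
    apply Nat.dvd_antisymm
    · exact orderOf_dvd_of_pow_eq_one ((hiff (2 * n)).mpr dvd_rfl)
    · exact (hiff (orderOf (A c))).mp (pow_orderOf_eq_one (A c))
  have hξn : ξ ^ n = -1 := by
    have h1 : (ξ ^ n) ^ 2 = 1 := by rw [← pow_mul, mul_comm, hξ.pow_eq_one]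
    have h2 : (ξ ^ n - 1) * (ξ ^ n + 1) = 0 := by linear_combination h1
    rcases mul_eq_zero.mp h2 with h | h
    · exfalso
      have h3 := hξ.dvd_of_pow_eq_one n (sub_eq_zero.mp h)
      have := Nat.le_of_dvd (by omega) h3
      omega
    · exact eq_neg_of_add_eq_zero_left h
  have hAn : ((A c : Matrix (Fin 2) (Fin 2) K) ^ n) = Matrix.diagonal (fun _ => (-1 : K)) :=
    A_pow_eq_scalar c ξ hξ0 hne hc n (-1) (by rw [hξn, map_neg, map_one])
      (by rw [hinvpow, hξn, map_neg, map_one, inv_neg, inv_one])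
  let τ : Matrix.SpecialLinearGroup (Fin 2) K :=
    ⟨!![x + c * y, y; y - 2 * c * (x + c * y), -(x + c * y)], by
      rw [Matrix.det_fin_two_of]; linear_combination (-1 : K) * hxy⟩
  have hτ2 : τ * τ = (A c) ^ n := by
    apply Subtype.ext
    rw [Matrix.SpecialLinearGroup.coe_mul, Matrix.SpecialLinearGroup.coe_pow, hAn]
    ext i j
    fin_cases i <;> fin_cases j <;>
      simp [τ, Matrix.mul_apply, Fin.sum_univ_two, Matrix.diagonal_apply]
    · linear_combination hxy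
    · ring
    · ring
    · linear_combination hxy
  have hAτA : A c * τ * A c = τ := by
    apply Subtype.ext
    rw [Matrix.SpecialLinearGroup.coe_mul, Matrix.SpecialLinearGroup.coe_mul]
    ext i j
    fin_cases i <;> fin_cases j <;>
      simp [τ, A, Matrix.mul_apply, Fin.sum_univ_two] <;> ring
  have hAτ : A c * τ = τ * (A c)⁻¹ := by
    rw [eq_mul_inv_iff_mul_eq]; exact hAτA
  have hconj : ∀ k : ℕ, (A c) ^ k * τ = τ * ((A c) ^ k)⁻¹ := by
    intro k
    induction k with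
    | zero => simp
    | succ k ih =>
      calc (A c) ^ (k + 1) * τ = (A c) ^ k * (A c * τ) := by rw [pow_succ, mul_assoc]
        _ = (A c) ^ k * (τ * (A c)⁻¹) := by rw [hAτ]
        _ = ((A c) ^ k * τ) * (A c)⁻¹ := by rw [mul_assoc]
        _ = τ * ((A c) ^ k)⁻¹ * (A c)⁻¹ := by rw [ih]
        _ = τ * (A c * (A c) ^ k)⁻¹ := by rw [_root_.mul_inv_rev, mul_assoc]
        _ = τ * ((A c) ^ (k + 1))⁻¹ := by rw [← pow_succ']
  let ψ : ZMod (2 * n) → Matrix.SpecialLinearGroup (Fin 2) K := fun i => (A c) ^ (i.val)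
  have hψadd : ∀ i j, ψ (i + j) = ψ i * ψ j := by
    intro i j
    show (A c) ^ (i + j).val = (A c) ^ i.val * (A c) ^ j.val
    rw [ZMod.val_add, ← pow_add]
    have := pow_mod_orderOf (A c) (i.val + j.val)
    rw [hord] at this
    exact this
  have hψ0 : ψ 0 = 1 := by
    show (A c) ^ (0 : ZMod (2 * n)).val = 1
    rw [ZMod.val_zero, pow_zero]
  have hψneg : ∀ i, ψ (-i) = (ψ i)⁻¹ := fun i =>
    eq_inv_of_mul_eq_one_left (by rw [← hψadd, neg_add_cancel, hψ0])
  have hψsub : ∀ i j, ψ (j - i) = (ψ i)⁻¹ * ψ j := by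
    intro i j
    rw [sub_eq_neg_add, hψadd, hψneg]
  have hψn : ψ (n : ZMod (2 * n)) = (A c) ^ n := by
    show (A c) ^ ((n : ZMod (2 * n))).val = (A c) ^ n
    rw [ZMod.val_natCast_of_lt (by omega)]
  have hψτ : ∀ i, ψ i * τ = τ * (ψ i)⁻¹ := fun i => hconj i.val
  let f : QuaternionGroup n → Matrix.SpecialLinearGroup (Fin 2) K := fun g =>
    match g with
    | .a i => ψ i
    | .xa i => τ * ψ i
  have hmul : ∀ g h, f (g * h) = f g * f h := by
    rintro (i | i) (j | j)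
    · show ψ (i + j) = ψ i * ψ j
      exact hψadd i j
    · show τ * ψ (j - i) = ψ i * (τ * ψ j)
      rw [hψsub, ← mul_assoc (ψ i), hψτ, mul_assoc]
    · show τ * ψ (i + j) = τ * ψ i * ψ j
      rw [hψadd, mul_assoc]
    · show ψ ((n : ZMod (2 * n)) + j - i) = τ * ψ i * (τ * ψ j)
      rw [add_sub_assoc, hψadd, hψn, hψsub, ← hτ2, mul_assoc τ (ψ i), ← mul_assoc (ψ i), hψτ]
      simp only [mul_assoc]
  refine ⟨MonoidHom.mk' f hmul, ?_⟩
  rw [injective_iff_map_eq_one]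
  rintro (i | i) hg
  · have h1 : (A c) ^ i.val = 1 := hg
    have h2 := (hiff _).mp h1
    have h3 : i.val = 0 := Nat.eq_zero_of_dvd_of_lt h2 (ZMod.val_lt i)
    have h4 : i = 0 := (ZMod.val_eq_zero i).mp h3
    rw [h4]; rfl
  · exfalso
    have h1 : τ * ψ i = 1 := hg
    have h2 : τ = (ψ i)⁻¹ := eq_inv_of_mul_eq_one_left h1
    have hcomm : τ * A c = A c * τ := by
      rw [h2]
      show ((A c) ^ i.val)⁻¹ * A c = A c * ((A c) ^ i.val)⁻¹
      exact (((Commute.refl (A c)).pow_left i.val).inv_left).eq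
    have h3 : (A c) ^ 2 = 1 := by
      have h4 : (A c) ^ 2 * τ = τ := by
        rw [pow_two, mul_assoc, ← hcomm, ← mul_assoc]; exact hAτA
      exact mul_right_cancel (b := τ) (by rw [h4, one_mul])
    have h5 := (hiff 2).mp h3
    have := Nat.le_of_dvd (by norm_num) h5
    omega

end Groth.Agent.Helper7.McKayQuat
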