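import Mathlib
import Groth.Agent.Helper6.InvLoc

namespace Groth.Agent.Helper7.MilPic

open TensorProduct

universe u

/-- A finite projective module of constant rank one is invertible. -/
theorem invertible_of_rankOne (R : Type u) [CommRing R] (M : Type u) [AddCommGroup M] [Module R M]
    [Module.Finite R M] [Module.Projective R M]
    (h : ∀ p : PrimeSpectrum R, Module.rankAtStalk M p = 1) : Module.Invertible R M := by
  haveI : Module.FinitePresentation R M := Module.finitePresentation_of_projective R M
  set s : Set R := {r | Nonempty (LocalizedModule.Away r M ≃ₗ[Localization.Away r]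
    Localization.Away r)} with hs
  refine Groth.Agent.Helper6.InvLoc.main R M s ?_ (fun f hf => hf)
  by_contra hne
  obtain ⟨m, hm, hle⟩ := Ideal.exists_le_maximal _ hne
  let p : PrimeSpectrum R := ⟨m, hm.isPrime⟩
  haveI : Module.Free (Localization.AtPrime p.asIdeal) (LocalizedModule p.asIdeal.primeCompl M) :=
    Module.free_of_flat_of_isLocalRing
  obtain ⟨r, hr, hfree, hrank⟩ := Module.FinitePresentation.exists_free_localizedModule_powers
    p.asIdeal.primeCompl (LocalizedModule.mkLinearMap p.asIdeal.primeCompl M)
    (Localization.AtPrime p.asIdeal)
  have h1 : Module.finrank (Localization (.powers r)) (LocalizedModule.Away r M) = 1 := by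
    rw [hrank]
    exact h p
  have hrs : r ∈ s := by
    haveI := hfree
    haveI : Nontrivial (Localization (.powers r)) :=
      (show Localization (.powers r) →+* Localization.AtPrime p.asIdeal from
        IsLocalization.map (M := .powers r) (T := p.asIdeal.primeCompl) _ (RingHom.id _)
          (Submonoid.powers_le.mpr hr)).domain_nontrivial
    haveI : Module.Finite (Localization (.powers r)) (LocalizedModule.Away r M) :=
      Module.finite_of_finrank_pos (by rw [h1]; exact one_pos)
    have b := Module.finBasisOfFinrankEq (Localization (.powers r)) (LocalizedModule.Away r M) h1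
    exact ⟨b.equivFun.trans (LinearEquiv.funUnique (Fin 1) _ _)⟩
  exact hr (hle (Ideal.subset_span hrs))

end Groth.Agent.Helper7.MilPic
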