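import Mathlib
import Groth.Prelude.Def_EtMil
import Groth.Agent.Helper7.EtMil
import Groth.Agent.Helper7.MilnorGlue
import Groth.Agent.Helper7.MilnorGlue3
import Groth.Agent.Helper7.MilPicA

namespace Groth.Agent.Helper7.MilPic

open TensorProduct Groth.Agent.Helper7.MilnorGlue

universe u

section

variable {B' B A' A : Type u} [CommRing B'] [CommRing B] [CommRing A'] [CommRing A]
  [Algebra B' B] [Algebra B' A'] [Algebra B A] [Algebra A' A] [Algebra B' A]
  [IsScalarTower B' B A] [IsScalarTower B' A' A]

theorem rankAtStalk_invertible (R : Type u) [CommRing R] (M : Type u) [AddCommGroup M] [Module R M]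
    [Module.Invertible R M] (p : PrimeSpectrum R) : Module.rankAtStalk M p = 1 := by
  simp [Module.rankAtStalk, Module.Invertible.finrank_eq_one]

theorem ker_le_or_ker_le (hsq : EtMil.IsFibreSquare B' B A' A) (p : Ideal B') [p.IsPrime] :
    RingHom.ker (algebraMap B' B) ≤ p ∨ RingHom.ker (algebraMap B' A') ≤ p := by
  by_contra hcon
  push Not at hcon
  obtain ⟨h1, h2⟩ := hcon
  obtain ⟨x, hx, hxp⟩ := SetLike.not_le_iff_exists.mp h1
  obtain ⟨y, hy, hyp⟩ := SetLike.not_le_iff_exists.mp h2
  have hxy : x * y = 0 := by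
    apply Groth.Agent.Helper7.EtMilH.ext_sq hsq
    · rw [map_mul, (RingHom.mem_ker).1 hx, zero_mul, map_zero]
    · rw [map_mul, (RingHom.mem_ker).1 hy, mul_zero, map_zero]
  have : x * y ∈ p := by rw [hxy]; exact p.zero_mem
  rcases (Ideal.IsPrime.mem_or_mem inferInstance this) with h | h
  · exact hxp h
  · exact hyp h

theorem rankAtStalk_eq_one_of_surjective {R S : Type u} [CommRing R] [CommRing S] [Algebra R S]
    (hS : Function.Surjective (algebraMap R S)) (L : Type u) [AddCommGroup L] [Module R L]
    [Module.Finite R L] [Module.Projective R L]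
    (hL : ∀ q : PrimeSpectrum S, Module.rankAtStalk (S ⊗[R] L) q = 1)
    (p : PrimeSpectrum R) (hp : RingHom.ker (algebraMap R S) ≤ p.asIdeal) :
    Module.rankAtStalk L p = 1 := by
  haveI : (p.asIdeal.map (algebraMap R S)).IsPrime :=
    Ideal.map_isPrime_of_surjective hS hp
  let q : PrimeSpectrum S := ⟨p.asIdeal.map (algebraMap R S), inferInstance⟩
  have hq : q.comap (algebraMap R S) = p := by
    apply PrimeSpectrum.ext
    change Ideal.comap (algebraMap R S) (p.asIdeal.map (algebraMap R S)) = p.asIdeal
    rw [Ideal.comap_map_of_surjective _ hS]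
    exact sup_eq_left.mpr hp
  rw [← hq, ← Module.rankAtStalk_baseChange]
  exact hL q

theorem glue_invertible (hsq : EtMil.IsFibreSquare B' B A' A)
    (hA' : Function.Surjective (algebraMap B' A'))
    (N M' : Type u) [AddCommGroup N] [Module B N] [Module B' N] [IsScalarTower B' B N]
    [AddCommGroup M'] [Module A' M'] [Module B' M'] [IsScalarTower B' A' M']
    [Module.Invertible B N] [Module.Invertible A' M']
    (φ : A ⊗[B] N ≃ₗ[A] A ⊗[A'] M') : Module.Invertible B' ↥(EtMil.glue B' φ) := by
  haveI : Module.Finite B' ↥(EtMil.glue B' φ) :=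
    glue_finite hsq N M' φ inferInstance inferInstance
  haveI : Module.Projective B' ↥(EtMil.glue B' φ) :=
    glue_projective hsq N M' φ inferInstance inferInstance inferInstance inferInstance
  have hB : Function.Surjective (algebraMap B' B) := Groth.Agent.Helper7.EtMilH.surjB hsq
  apply invertible_of_rankOne
  intro p
  rcases ker_le_or_ker_le hsq p.asIdeal with h | h
  · refine rankAtStalk_eq_one_of_surjective hB _ (fun q => ?_) p h
    rw [Module.rankAtStalk_eq_of_equiv
      (LinearEquiv.ofBijective (rho1 B' φ) (rho1_bijective B' φ hsq))]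
    exact rankAtStalk_invertible B N q
  · refine rankAtStalk_eq_one_of_surjective hA' _ (fun q => ?_) p h
    rw [Module.rankAtStalk_eq_of_equiv
      (LinearEquiv.ofBijective (rho B' φ) (rho_bijective B' φ hsq))]
    exact rankAtStalk_invertible A' M' q

theorem pic_mapAlgebra_surjective (hsq : EtMil.IsFibreSquare B' B A' A)
    (hA' : Function.Surjective (algebraMap B' A')) [Subsingleton (CommRing.Pic A)] :
    Function.Surjective (CommRing.Pic.mapAlgebra B' B) := by
  intro M
  letI : Module B' (CommRing.Pic.AsModule M) := Module.compHom _ (algebraMap B' B)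
  haveI : IsScalarTower B' B (CommRing.Pic.AsModule M) := IsScalarTower.of_compHom _ _ _
  obtain ⟨e1⟩ := (Module.Invertible.free_iff_linearEquiv (R := A)
    (M := A ⊗[B] (CommRing.Pic.AsModule M))).mp inferInstance
  let φ : A ⊗[B] (CommRing.Pic.AsModule M) ≃ₗ[A] A ⊗[A'] A' :=
    e1.trans (TensorProduct.AlgebraTensorModule.rid A' A A).symm
  haveI := glue_invertible hsq hA' (CommRing.Pic.AsModule M) A' φ
  refine ⟨CommRing.Pic.mk B' ↥(EtMil.glue B' φ), ?_⟩
  rw [CommRing.Pic.mapAlgebra_apply, CommRing.Pic.mk_eq_iff]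
  exact ⟨(TensorProduct.AlgebraTensorModule.congr (LinearEquiv.refl B B)
      (CommRing.Pic.mk.linearEquiv B' ↥(EtMil.glue B' φ))).trans
    (LinearEquiv.ofBijective (rho1 B' φ) (rho1_bijective B' φ hsq))⟩

end

end Groth.Agent.Helper7.MilPic
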