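import Mathlib
import Groth.Agent.Helper7.MilPicB

namespace Groth.Agent.Helper7.MilPic

open TensorProduct

universe u

theorem pic_mapRingHom_surjective {B' B A' A : Type u} [CommRing B'] [CommRing B] [CommRing A']
    [CommRing A] (f : B' →+* B) (g : B' →+* A') (h : B →+* A) (k : A' →+* A)
    (comm : h.comp f = k.comp g) (hk : Function.Surjective k) (hg : Function.Surjective g)
    (hpb : ∀ (b : B) (a' : A'), h b = k a' → ∃! b' : B', f b' = b ∧ g b' = a')
    [Subsingleton (CommRing.Pic A)] :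
    Function.Surjective (CommRing.Pic.mapRingHom f) := by
  letI := f.toAlgebra
  letI := g.toAlgebra
  letI := h.toAlgebra
  letI := k.toAlgebra
  letI : Algebra B' A := (h.comp f).toAlgebra
  haveI : IsScalarTower B' B A := IsScalarTower.of_algebraMap_eq (fun x => rfl)
  haveI : IsScalarTower B' A' A := IsScalarTower.of_algebraMap_eq (fun x => by
    change (h.comp f) x = k (g x)
    rw [comm]
    rfl)
  have hsq : EtMil.IsFibreSquare B' B A' A := ⟨hk, hpb⟩
  exact pic_mapAlgebra_surjective hsq hg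

theorem pic_factor_surjective {P : Type u} [CommRing P] (I₀ I₁ I₂ : Ideal P) (h0 : I₀ = I₁ ⊓ I₂)
    (hle : I₀ ≤ I₁) [Subsingleton (CommRing.Pic (P ⧸ (I₁ ⊔ I₂)))] :
    Function.Surjective (CommRing.Pic.mapRingHom (Ideal.Quotient.factor hle)) := by
  subst h0
  refine pic_mapRingHom_surjective (Ideal.Quotient.factor hle)
    (Ideal.Quotient.factor (inf_le_right : I₁ ⊓ I₂ ≤ I₂))
    (Ideal.Quotient.factor (le_sup_left : I₁ ≤ I₁ ⊔ I₂))
    (Ideal.Quotient.factor (le_sup_right : I₂ ≤ I₁ ⊔ I₂)) ?_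
    (Ideal.Quotient.factor_surjective _) (Ideal.Quotient.factor_surjective _) ?_
  · apply Ideal.Quotient.ringHom_ext
    ext x
    rfl
  · intro b a' hba
    obtain ⟨x, rfl⟩ := Ideal.Quotient.mk_surjective b
    obtain ⟨y, rfl⟩ := Ideal.Quotient.mk_surjective a'
    rw [Ideal.Quotient.factor_mk, Ideal.Quotient.factor_mk, Ideal.Quotient.eq] at hba
    obtain ⟨i₁, hi₁, i₂, hi₂, hsum⟩ := Submodule.mem_sup.mp hba
    refine ⟨Ideal.Quotient.mk _ (x - i₁), ⟨?_, ?_⟩, ?_⟩
    · rw [Ideal.Quotient.factor_mk, Ideal.Quotient.eq]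
      have : x - i₁ - x = -i₁ := by ring
      rw [this]
      exact I₁.neg_mem hi₁
    · rw [Ideal.Quotient.factor_mk, Ideal.Quotient.eq]
      have : x - i₁ - y = i₂ := by linear_combination -hsum
      rw [this]
      exact hi₂
    · rintro b'' ⟨h1, h2⟩
      obtain ⟨w, rfl⟩ := Ideal.Quotient.mk_surjective b''
      rw [Ideal.Quotient.factor_mk, Ideal.Quotient.eq] at h1 h2
      rw [Ideal.Quotient.eq]
      refine ⟨?_, ?_⟩
      · have : w - (x - i₁) = (w - x) + i₁ := by ring
        rw [this]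
        exact I₁.add_mem h1 hi₁
      · have : w - (x - i₁) = (w - y) - i₂ := by linear_combination hsum
        rw [this]
        exact I₂.sub_mem h2 hi₂

end Groth.Agent.Helper7.MilPic
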