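import Mathlib
import Groth.Prelude.Def_EtMil
import Groth.Agent.Helper7.MilnorGlue2

/-! Milnor squares: surjectivity onto pairs for arbitrary modules; morphisms of glueing data. -/

universe u

open TensorProduct

namespace Groth.Agent.Helper7.MilnorGlue

section

variable {B' B A' A : Type u} [CommRing B'] [CommRing B] [CommRing A'] [CommRing A]
  [Algebra B' B] [Algebra B' A'] [Algebra B A] [Algebra A' A] [Algebra B' A]
  [IsScalarTower B' B A] [IsScalarTower B' A' A]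

theorem gMap_surjective (hsq : EtMil.IsFibreSquare B' B A' A) :
    Function.Surjective (gMap B' B A' A) := by
  intro a
  obtain ⟨a', ha'⟩ := hsq.1 a
  refine ⟨(0, -a'), ?_⟩
  rw [gMap_apply, map_zero, map_neg, ha', zero_sub, neg_neg]

theorem pair_surjective (hsq : EtMil.IsFibreSquare B' B A' A)
    (L' : Type u) [AddCommGroup L'] [Module B' L'] (x : B ⊗[B'] L') (y : A' ⊗[B'] L')
    (hxy : (IsScalarTower.toAlgHom B' B A).toLinearMap.rTensor L' x =
      (IsScalarTower.toAlgHom B' A' A).toLinearMap.rTensor L' y) :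
    ∃ l : L', (1 : B) ⊗ₜ[B'] l = x ∧ (1 : A') ⊗ₜ[B'] l = y := by
  have hex : Function.Exact ((fMap B' B A').rTensor L') ((gMap B' B A' A).rTensor L') :=
    rTensor_exact L' (exact_fMap_gMap hsq) (gMap_surjective hsq)
  have hf1 : ∀ l : L', (fMap B' B A').rTensor L' ((1 : B') ⊗ₜ[B'] l) =
      (LinearMap.inl B' B A').rTensor L' ((1 : B) ⊗ₜ[B'] l) +
        (LinearMap.inr B' B A').rTensor L' ((1 : A') ⊗ₜ[B'] l) := by
    intro l
    rw [LinearMap.rTensor_tmul, LinearMap.rTensor_tmul, LinearMap.rTensor_tmul,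
      ← TensorProduct.add_tmul, fMap_apply, map_one, map_one]
    congr 1
    simp
  set w : (B × A') ⊗[B'] L' := (LinearMap.inl B' B A').rTensor L' x +
    (LinearMap.inr B' B A').rTensor L' y with hw
  have hgw : (gMap B' B A' A).rTensor L' w = 0 := by
    rw [hw, map_add, ← LinearMap.rTensor_comp_apply, ← LinearMap.rTensor_comp_apply]
    have e1 : (gMap B' B A' A) ∘ₗ (LinearMap.inl B' B A') =
        (IsScalarTower.toAlgHom B' B A).toLinearMap := by
      simp [gMap]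
    have e2 : (gMap B' B A' A) ∘ₗ (LinearMap.inr B' B A') =
        -(IsScalarTower.toAlgHom B' A' A).toLinearMap := by
      simp [gMap]
    rw [e1, e2, hxy, LinearMap.rTensor_neg, LinearMap.neg_apply, add_neg_cancel]
  obtain ⟨t, ht⟩ := (hex w).1 hgw
  refine ⟨TensorProduct.lid B' L' t, ?_⟩
  have ht' : t = (1 : B') ⊗ₜ[B'] (TensorProduct.lid B' L' t) := by
    apply (TensorProduct.lid B' L').injective
    rw [TensorProduct.lid_tmul, one_smul]
  rw [ht', hf1] at ht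
  have hfst := congrArg ((LinearMap.fst B' B A').rTensor L') ht
  have hsnd := congrArg ((LinearMap.snd B' B A').rTensor L') ht
  rw [hw, map_add, map_add, ← LinearMap.rTensor_comp_apply, ← LinearMap.rTensor_comp_apply,
    ← LinearMap.rTensor_comp_apply, ← LinearMap.rTensor_comp_apply, LinearMap.fst_comp_inl,
    LinearMap.fst_comp_inr, LinearMap.rTensor_id_apply, LinearMap.rTensor_zero,
    LinearMap.zero_apply, LinearMap.zero_apply, LinearMap.rTensor_id_apply, add_zero, add_zero]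
    at hfst
  rw [hw, map_add, map_add, ← LinearMap.rTensor_comp_apply, ← LinearMap.rTensor_comp_apply,
    ← LinearMap.rTensor_comp_apply, ← LinearMap.rTensor_comp_apply, LinearMap.snd_comp_inl,
    LinearMap.snd_comp_inr, LinearMap.rTensor_id_apply, LinearMap.rTensor_zero,
    LinearMap.zero_apply, LinearMap.zero_apply, LinearMap.rTensor_id_apply, zero_add, zero_add]
    at hsnd
  exact ⟨hfst, hsnd⟩

theorem glue_map_surjective (hsq : EtMil.IsFibreSquare B' B A' A)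
    {N₁ N₂ M₁' M₂' : Type u} [AddCommGroup N₁] [Module B N₁] [Module B' N₁] [IsScalarTower B' B N₁]
    [AddCommGroup N₂] [Module B N₂] [Module B' N₂] [IsScalarTower B' B N₂]
    [AddCommGroup M₁'] [Module A' M₁'] [Module B' M₁'] [IsScalarTower B' A' M₁']
    [AddCommGroup M₂'] [Module A' M₂'] [Module B' M₂'] [IsScalarTower B' A' M₂']
    (φ₁ : A ⊗[B] N₁ ≃ₗ[A] A ⊗[A'] M₁') (φ₂ : A ⊗[B] N₂ ≃ₗ[A] A ⊗[A'] M₂') (u : N₁ →ₗ[B] N₂) (v : M₁' →ₗ[A'] M₂')
    (hc : (v.baseChange A).comp φ₁.toLinearMap = φ₂.toLinearMap.comp (u.baseChange A))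
    (hu : Function.Surjective u) (hv : Function.Surjective v) :
    ∀ y : N₂ × M₂', y ∈ EtMil.glue B' φ₂ → ∃ x : N₁ × M₁', x ∈ EtMil.glue B' φ₁ ∧ u x.1 = y.1 ∧ v x.2 = y.2 := by
  intro y hy
  obtain ⟨n₁, hn₁⟩ := hu y.1
  obtain ⟨g, hg⟩ := exists_glue_fst B' φ₁ hsq n₁
  have hg2 : φ₁ ((1 : A) ⊗ₜ[B] g.1.1) = (1 : A) ⊗ₜ[A'] g.1.2 := g.2
  have hy2 : φ₂ ((1 : A) ⊗ₜ[B] y.1) = (1 : A) ⊗ₜ[A'] y.2 := hy
  have h1 : ((1 : A) ⊗ₜ[A'] (v g.1.2) : A ⊗[A'] M₂') = (1 : A) ⊗ₜ[A'] y.2 := by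
    have := congrArg (fun f => f ((1 : A) ⊗ₜ[B] g.1.1)) hc
    simp only [LinearMap.comp_apply, LinearEquiv.coe_coe, LinearMap.baseChange_tmul] at this
    rw [hg2, LinearMap.baseChange_tmul, hg, hn₁, hy2] at this
    exact this
  have h2 : ((1 : A) ⊗ₜ[A'] (y.2 - v g.1.2) : A ⊗[A'] M₂') = 0 := by
    rw [TensorProduct.tmul_sub, h1, sub_self]
  have h3 := mem_ker_smul_top_of_one_tmul_eq_zero hsq.1 _ h2
  -- lift to an element of `I • ⊤` in `M₁'`
  have h4 : ∀ z ∈ (RingHom.ker (algebraMap A' A)) • (⊤ : Submodule A' M₂'),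
      ∃ x ∈ (RingHom.ker (algebraMap A' A)) • (⊤ : Submodule A' M₁'), v x = z := by
    intro z hz
    refine Submodule.smul_induction_on hz ?_ ?_
    · intro i hi m _
      obtain ⟨m₁, rfl⟩ := hv m
      exact ⟨i • m₁, Submodule.smul_mem_smul hi trivial, map_smul v i m₁⟩
    · rintro a b ⟨xa, hxa, rfl⟩ ⟨xb, hxb, rfl⟩
      exact ⟨xa + xb, Submodule.add_mem _ hxa hxb, map_add v xa xb⟩
  obtain ⟨x, hx, hvx⟩ := h4 _ h3
  have hx0 := one_tmul_eq_zero_of_mem_ker_smul_top (S := A) x hx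
  refine ⟨(g.1.1, g.1.2 + x), ?_, ?_, ?_⟩
  · rw [mem_glue_iff]
    show φ₁ ((1 : A) ⊗ₜ[B] g.1.1) = (1 : A) ⊗ₜ[A'] (g.1.2 + x)
    rw [TensorProduct.tmul_add, hx0, add_zero, hg2]
  · show u g.1.1 = y.1
    rw [hg, hn₁]
  · show v (g.1.2 + x) = y.2
    rw [map_add, hvx]
    abel

end

end Groth.Agent.Helper7.MilnorGlue
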