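import Mathlib

set_option autoImplicit false
set_option linter.unusedSectionVars false
universe v x

namespace Groth.Agent.Helper7.MinNorm

open scoped Classical

variable {R : Type v} {V : Type x} [Field R] [LinearOrder R] [IsStrictOrderedRing R]
  [AddCommGroup V] [Module R V]
  (B : LinearMap.BilinForm R V) (hBs : ∀ y z : V, B y z = B z y)
  (hBp : ∀ y : V, y ≠ 0 → 0 < B y y)

include hBp in
theorem B_nonneg (y : V) : 0 ≤ B y y := by
  by_cases h : y = 0
  · rw [h, map_zero]
  · exact (hBp y h).le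

/-- Elements of the span of the differences are combinations of the differences. -/
theorem exists_comb (s : Finset V) (s₀ : V) (w : V)
    (hw : w ∈ Submodule.span R ((fun v => v - s₀) '' (s : Set V))) :
    ∃ a : V → R, w = ∑ v ∈ s, a v • (v - s₀) := by
  induction hw using Submodule.span_induction with
  | mem x hx =>
    obtain ⟨v₁, hv₁, rfl⟩ := hx
    refine ⟨fun v => if v = v₁ then 1 else 0, ?_⟩
    rw [Finset.sum_eq_single v₁]
    · simp only [if_pos, one_smul]
    · intro v _ hv
      simp only [if_neg hv, zero_smul]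
    · intro h
      exact absurd hv₁ h
  | zero => exact ⟨fun _ => 0, by simp⟩
  | add x y _ _ hx hy =>
    obtain ⟨a, rfl⟩ := hx
    obtain ⟨a', rfl⟩ := hy
    refine ⟨fun v => a v + a' v, ?_⟩
    rw [← Finset.sum_add_distrib]
    exact Finset.sum_congr rfl fun v _ => (add_smul _ _ _).symm
  | smul r x _ hx =>
    obtain ⟨a, rfl⟩ := hx
    refine ⟨fun v => r * a v, ?_⟩
    rw [Finset.smul_sum]
    exact Finset.sum_congr rfl fun v _ => (mul_smul _ _ _).symm

include hBs hBp in
/-- The point of the affine span of a finite set closest to the origin, as an affine combination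
orthogonal to the directions. -/
theorem exists_affine_min [FiniteDimensional R V] (s : Finset V) (s₀ : V) (hs₀ : s₀ ∈ s) :
    ∃ u : V → R, ∑ v ∈ s, u v = 1 ∧
      ∀ v ∈ s, B (∑ v' ∈ s, u v' • v') (v - s₀) = 0 := by
  set W : Submodule R V := Submodule.span R ((fun v => v - s₀) '' (s : Set V)) with hW
  have hrefl : B.IsRefl := fun x y h => by rw [hBs, h]
  have hnd : (B.restrict W).Nondegenerate := by
    have hleft : (B.restrict W).SeparatingLeft := by
      intro x hx
      have := hx x
      simp only [LinearMap.BilinForm.restrict_apply, LinearMap.domRestrict_apply] at this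
      by_contra hne
      have hne' : (x : V) ≠ 0 := fun h => hne (Subtype.ext h)
      exact absurd this (hBp _ hne').ne'
    refine ⟨hleft, ?_⟩
    intro y hy
    apply hleft y
    intro x
    have := hy x
    simp only [LinearMap.BilinForm.restrict_apply, LinearMap.domRestrict_apply] at this ⊢
    rw [hBs]
    exact this
  have hcompl := LinearMap.BilinForm.isCompl_orthogonal_of_restrict_nondegenerate hrefl hnd
  have hmem : s₀ ∈ W ⊔ B.orthogonal W := by
    rw [hcompl.sup_eq_top]
    exact Submodule.mem_top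
  obtain ⟨w, hw, w', hw', hsum⟩ := Submodule.mem_sup.1 hmem
  obtain ⟨a, ha⟩ := exists_comb s s₀ w hw
  -- p = w' = s₀ - w
  refine ⟨fun v => (if v = s₀ then 1 + ∑ v' ∈ s, a v' else 0) - a v, ?_, ?_⟩
  · rw [Finset.sum_sub_distrib, Finset.sum_ite_eq' s s₀, if_pos hs₀]
    ring
  · intro v hv
    have hp : ∑ v' ∈ s, ((if v' = s₀ then 1 + ∑ v' ∈ s, a v' else 0) - a v') • v' = w' := by
      have h1 : ∑ v' ∈ s, ((if v' = s₀ then 1 + ∑ v' ∈ s, a v' else 0) - a v') • v' =
          (1 + ∑ v' ∈ s, a v') • s₀ - ∑ v' ∈ s, a v' • v' := by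
        simp only [sub_smul, Finset.sum_sub_distrib]
        congr 1
        rw [Finset.sum_eq_single s₀]
        · rw [if_pos rfl]
        · intro v' _ hv'
          rw [if_neg hv', zero_smul]
        · intro h
          exact absurd hs₀ h
      have h2 : w = ∑ v' ∈ s, a v' • v' - (∑ v' ∈ s, a v') • s₀ := by
        rw [ha, Finset.sum_smul, ← Finset.sum_sub_distrib]
        exact Finset.sum_congr rfl fun v' _ => smul_sub _ _ _
      have h3 : w' = s₀ - w := by rw [← hsum]; abel
      rw [h1, h3, h2, add_smul, one_smul]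
      abel
    rw [hp]
    have hvW : v - s₀ ∈ W := Submodule.subset_span ⟨v, hv, rfl⟩
    have := hw' (v - s₀) hvW
    rw [hBs]
    exact this

include hBs hBp in
/-- The convex hull of a non-empty finite set has a point closest to the origin. -/
theorem exists_min_norm [FiniteDimensional R V] (s : Finset V) (hs : s.Nonempty) :
    ∃ y₀ ∈ convexHull R (s : Set V), ∀ y ∈ convexHull R (s : Set V), B y₀ y₀ ≤ B y y := by
  suffices H : ∀ n : ℕ, ∀ s : Finset V, s.card = n → s.Nonempty →
      ∃ y₀ ∈ convexHull R (s : Set V), ∀ y ∈ convexHull R (s : Set V), B y₀ y₀ ≤ B y y from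
    H _ s rfl hs
  intro n
  induction n using Nat.strong_induction_on with
  | _ n ih =>
  intro s hn hs
  obtain ⟨s₀, hs₀⟩ := hs
  obtain ⟨u, hu1, huorth⟩ := exists_affine_min B hBs hBp s s₀ hs₀
  obtain ⟨p, hp⟩ : ∃ p : V, p = ∑ v ∈ s, u v • v := ⟨_, rfl⟩
  rw [← hp] at huorth
  have hpy : ∀ t : V → R, ∑ v ∈ s, t v = 1 → B p (∑ v ∈ s, t v • v) = B p s₀ := by
    intro t ht
    have h1 : ∑ v ∈ s, t v • v = s₀ + ∑ v ∈ s, t v • (v - s₀) := by
      simp only [smul_sub, Finset.sum_sub_distrib, ← Finset.sum_smul, ht, one_smul]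
      abel
    rw [h1, map_add, map_sum]
    have h2 : ∑ v ∈ s, B p (t v • (v - s₀)) = 0 := by
      apply Finset.sum_eq_zero
      intro v hv
      rw [map_smul, huorth v hv, smul_zero]
    rw [h2, add_zero]
  have hpp : B p p = B p s₀ := by
    have := hpy u hu1
    rw [← hp] at this
    exact this
  -- norm comparison along the segment towards `p`
  have hnorm : ∀ (t : V → R), ∑ v ∈ s, t v = 1 → ∀ μ : R, 0 ≤ μ → μ ≤ 1 →
      B (μ • (∑ v ∈ s, t v • v) + (1 - μ) • p) (μ • (∑ v ∈ s, t v • v) + (1 - μ) • p) ≤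
        B (∑ v ∈ s, t v • v) (∑ v ∈ s, t v • v) := by
    intro t ht μ hμ0 hμ1
    set y := ∑ v ∈ s, t v • v with hy
    have hpyy : B p y = B p p := by rw [hpp]; exact hpy t ht
    have he : 0 ≤ B (y - p) (y - p) := B_nonneg B hBp _
    have h1 : B (y - p) (y - p) = B y y - B p p := by
      simp only [map_sub, LinearMap.sub_apply]
      rw [hBs y p, hpyy]
      ring
    have h2 : B (μ • y + (1 - μ) • p) (μ • y + (1 - μ) • p) =
        B p p + μ ^ 2 * (B y y - B p p) := by
      simp only [map_add, map_smul, LinearMap.add_apply, LinearMap.smul_apply, smul_eq_mul]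
      rw [hBs y p, hpyy]
      ring
    rw [h2]
    have h3 : μ ^ 2 ≤ 1 := by nlinarith
    rw [h1] at he
    nlinarith
  by_cases hall : ∀ v ∈ s, 0 ≤ u v
  · refine ⟨p, Finset.mem_convexHull'.2 ⟨u, hall, hu1, hp.symm⟩, fun y hy => ?_⟩
    obtain ⟨t, _, ht1, rfl⟩ := Finset.mem_convexHull'.1 hy
    have := hnorm t ht1 0 le_rfl zero_le_one
    rw [zero_smul, zero_add, sub_zero, one_smul] at this
    exact this
  · push Not at hall
    obtain ⟨v₁, hv₁, hv₁neg⟩ := hall
    have hcard : 2 ≤ s.card := by
      by_contra hlt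
      push Not at hlt
      have h1 : s.card = 1 := by
        have : 0 < s.card := Finset.card_pos.2 ⟨s₀, hs₀⟩
        omega
      obtain ⟨a, ha⟩ := Finset.card_eq_one.1 h1
      rw [ha, Finset.sum_singleton] at hu1
      rw [ha, Finset.mem_singleton] at hv₁
      rw [hv₁, hu1] at hv₁neg
      exact absurd hv₁neg (not_lt.2 zero_le_one)
    have herase : ∀ v ∈ s, ∃ q ∈ convexHull R ((s.erase v : Finset V) : Set V),
        ∀ y ∈ convexHull R ((s.erase v : Finset V) : Set V), B q q ≤ B y y := by
      intro v hv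
      have hc : (s.erase v).card = s.card - 1 := Finset.card_erase_of_mem hv
      apply ih (s.erase v).card (by omega) (s.erase v) rfl
      apply Finset.card_pos.1
      omega
    choose! q hq1 hq2 using herase
    obtain ⟨v₀, hv₀, hmin⟩ := Finset.exists_min_image s (fun v => B (q v) (q v)) ⟨s₀, hs₀⟩
    have hsub : ∀ v, convexHull R ((s.erase v : Finset V) : Set V) ⊆ convexHull R (s : Set V) :=
      fun v => convexHull_mono (Finset.coe_subset.2 (Finset.erase_subset v s))
    refine ⟨q v₀, hsub v₀ (hq1 v₀ hv₀), fun y hy => ?_⟩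
    obtain ⟨t, ht0, ht1, rfl⟩ := Finset.mem_convexHull'.1 hy
    have hnegne : (s.filter (fun v => u v < 0)).Nonempty :=
      ⟨v₁, Finset.mem_filter.2 ⟨hv₁, hv₁neg⟩⟩
    obtain ⟨vs, hvs, hvsmin⟩ := Finset.exists_min_image (s.filter (fun v => u v < 0))
      (fun v => t v / (t v - u v)) hnegne
    obtain ⟨hvs1, hvs2⟩ := Finset.mem_filter.1 hvs
    have hden : ∀ v ∈ s, u v < 0 → 0 < t v - u v := by
      intro v hv hneg
      have := ht0 v hv
      linarith
    set lam := t vs / (t vs - u vs) with hlam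
    have hlam0 : 0 ≤ lam := div_nonneg (ht0 vs hvs1) (hden vs hvs1 hvs2).le
    have hlam1 : lam < 1 := by
      rw [hlam, div_lt_one (hden vs hvs1 hvs2)]
      linarith
    set μ := 1 - lam with hμ
    have hμ0 : 0 ≤ μ := by linarith
    have hμ1 : μ ≤ 1 := by linarith
    set w : V → R := fun v => μ * t v + (1 - μ) * u v with hw
    have hw0 : ∀ v ∈ s, 0 ≤ w v := by
      intro v hv
      by_cases hneg : u v < 0
      · have h1 : lam ≤ t v / (t v - u v) := hvsmin v (Finset.mem_filter.2 ⟨hv, hneg⟩)
        rw [le_div_iff₀ (hden v hv hneg)] at h1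
        show 0 ≤ μ * t v + (1 - μ) * u v
        rw [hμ]
        linarith
      · push Not at hneg
        exact add_nonneg (mul_nonneg hμ0 (ht0 v hv)) (mul_nonneg (by linarith) hneg)
    have hwvs : w vs = 0 := by
      show μ * t vs + (1 - μ) * u vs = 0
      have h1 : lam * (t vs - u vs) = t vs := div_mul_cancel₀ _ (hden vs hvs1 hvs2).ne'
      rw [hμ]
      linarith
    have hw1 : ∑ v ∈ s, w v = 1 := by
      simp only [hw, Finset.sum_add_distrib, ← Finset.mul_sum, ht1, hu1]
      ring
    have hwy : ∑ v ∈ s, w v • v = μ • (∑ v ∈ s, t v • v) + (1 - μ) • p := by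
      rw [hp, Finset.smul_sum, Finset.smul_sum, ← Finset.sum_add_distrib]
      apply Finset.sum_congr rfl
      intro v _
      show (μ * t v + (1 - μ) * u v) • v = _
      rw [add_smul, mul_smul, mul_smul]
    have hmem : ∑ v ∈ s, w v • v ∈ convexHull R ((s.erase vs : Finset V) : Set V) := by
      apply Finset.mem_convexHull'.2
      refine ⟨w, fun v hv => hw0 v (Finset.mem_of_mem_erase hv), ?_, ?_⟩
      · rw [← Finset.add_sum_erase s w hvs1, hwvs, zero_add] at hw1
        exact hw1
      · rw [← Finset.add_sum_erase s (fun v => w v • v) hvs1, hwvs, zero_smul, zero_add]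
    calc B (q v₀) (q v₀) ≤ B (q vs) (q vs) := hmin vs hvs1
      _ ≤ B (∑ v ∈ s, w v • v) (∑ v ∈ s, w v • v) := hq2 vs hvs1 _ hmem
      _ ≤ B (∑ v ∈ s, t v • v) (∑ v ∈ s, t v • v) := by
        rw [hwy]
        exact hnorm t ht1 μ hμ0 hμ1

end Groth.Agent.Helper7.MinNorm
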