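import Mathlib

namespace Groth.Agent.Helper7.ModPB

open CategoryTheory CategoryTheory.Limits

universe u v

variable {A : Type u} [Ring A] {X₁ X₂ X₃ X₄ : ModuleCat.{v} A}
  {t : X₁ ⟶ X₂} {l : X₁ ⟶ X₃} {r : X₂ ⟶ X₄} {b : X₃ ⟶ X₄}

/-- A commutative square of modules which is "concretely cartesian" is a pullback square. -/
theorem isPullback_of_concrete (w : t ≫ r = l ≫ b)
    (hinj : ∀ x : X₁, t x = 0 → l x = 0 → x = 0)
    (hsurj : ∀ (y : X₂) (z : X₃), r y = b z → ∃ x : X₁, t x = y ∧ l x = z) :
    IsPullback t l r b := by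
  classical
  have huniq : ∀ x x' : X₁, t x = t x' → l x = l x' → x = x' := by
    intro x x' h1 h2
    have := hinj (x - x') (by rw [map_sub, h1, sub_self]) (by rw [map_sub, h2, sub_self])
    exact sub_eq_zero.mp this
  have hex : ∀ (s : PullbackCone r b) (τ : s.pt), ∃ x : X₁, t x = s.fst τ ∧ l x = s.snd τ := by
    intro s τ
    apply hsurj
    have := s.condition
    exact congrArg (fun f : s.pt ⟶ X₄ => f τ) this
  choose g hg1 hg2 using hex
  let lift : ∀ s : PullbackCone r b, s.pt ⟶ X₁ := fun s => ModuleCat.ofHom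
    { toFun := g s
      map_add' := by
        intro τ τ'
        apply huniq
        · rw [map_add, hg1, hg1, hg1, map_add]
        · rw [map_add, hg2, hg2, hg2, map_add]
      map_smul' := by
        intro c τ
        apply huniq
        · rw [RingHom.id_apply, map_smul, hg1, hg1, map_smul]
        · rw [RingHom.id_apply, map_smul, hg2, hg2, map_smul] }
  refine IsPullback.of_isLimit (c := PullbackCone.mk t l w) (PullbackCone.IsLimit.mk w lift ?_ ?_ ?_)
  · intro s
    ext τ
    exact hg1 s τ
  · intro s
    ext τ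
    exact hg2 s τ
  · intro s m hm1 hm2
    ext τ
    apply huniq
    · have : t (m τ) = s.fst τ := congrArg (fun f : s.pt ⟶ X₂ => f τ) hm1
      rw [this]
      exact (hg1 s τ).symm
    · have : l (m τ) = s.snd τ := congrArg (fun f : s.pt ⟶ X₃ => f τ) hm2
      rw [this]
      exact (hg2 s τ).symm

end Groth.Agent.Helper7.ModPB
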