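import Mathlib
import Groth.Agent.Helper3.EN1
import Groth.Agent.Helper5.IntegralDim
import Groth.Agent.Helper6.TFC10
import Groth.Agent.Helper7.NumSemi
import Groth.Agent.Helper7.CanDuE

set_option autoImplicit false
universe u

/-!
# Subalgebras `A ⊆ k⟦X⟧` with `k⟦X⟧` finite over `A`: ring-theoretic properties
-/

namespace Groth.Agent.Helper7.PSCan

open PowerSeries Function
open Groth.Agent.Helper6.TFC

variable {k : Type u} [Field k] (A : Subalgebra k (PowerSeries k))

theorem isNoetherianRing (hA : Module.Finite ↥A (PowerSeries k)) : IsNoetherianRing ↥A :=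
  haveI := hA
  Groth.Agent.Helper3.EakinNagata.isNoetherianRing_of_finite_injective ↥A (PowerSeries k)
    Subtype.val_injective

theorem constantCoeff_eq_zero_of_not_isUnit (hA : Module.Finite ↥A (PowerSeries k)) (a : ↥A)
    (ha : ¬ IsUnit a) : constantCoeff (a : PowerSeries k) = 0 := by
  by_contra h
  exact ha (isUnit_of_constantCoeff_ne_zero hA a h)

theorem isLocalRing (hA : Module.Finite ↥A (PowerSeries k)) : IsLocalRing ↥A := by
  apply IsLocalRing.of_nonunits_add
  intro a b ha hb hab
  have ha0 := constantCoeff_eq_zero_of_not_isUnit A hA a ha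
  have hb0 := constantCoeff_eq_zero_of_not_isUnit A hA b hb
  have h1 : IsUnit (((a + b : ↥A) : PowerSeries k)) := hab.map A.val
  rw [isUnit_iff_constantCoeff] at h1
  have : constantCoeff (((a + b : ↥A) : PowerSeries k)) = 0 := by
    show constantCoeff ((a : PowerSeries k) + (b : PowerSeries k)) = 0
    rw [map_add, ha0, hb0, add_zero]
  rw [this] at h1
  exact not_isUnit_zero h1

theorem ringKrullDim_eq_one (hA : Module.Finite ↥A (PowerSeries k)) : ringKrullDim ↥A = 1 := by
  haveI := hA
  haveI : Algebra.IsIntegral ↥A (PowerSeries k) := Algebra.IsIntegral.of_finite ↥A (PowerSeries k)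
  rw [← Groth.Agent.Helper5.IntegralDim.ringKrullDim_eq_of_isIntegral_of_injective
    (R := ↥A) (S := PowerSeries k) Subtype.val_injective]
  exact IsDiscreteValuationRing.ringKrullDim_eq_one (PowerSeries k)

/-- the fraction field of `k⟦X⟧` is the fraction field of `A` when `A` contains `X^c k⟦X⟧` -/
theorem isFractionRing {K : Type u} [Field K] [Algebra (PowerSeries k) K]
    [IsFractionRing (PowerSeries k) K]
    (c : ℕ) (hc : ∀ f : PowerSeries k, (c : ℕ∞) ≤ order f → f ∈ A) : IsFractionRing ↥A K := by
  have hinjP : Injective (algebraMap (PowerSeries k) K) := IsFractionRing.injective _ _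
  have halg : ∀ a : ↥A, algebraMap ↥A K a = algebraMap (PowerSeries k) K (a : PowerSeries k) :=
    fun a => IsScalarTower.algebraMap_apply ↥A (PowerSeries k) K a
  haveI : FaithfulSMul ↥A K := by
    rw [faithfulSMul_iff_algebraMap_injective]
    intro a b hab
    rw [halg, halg] at hab
    exact Subtype.ext (hinjP hab)
  apply IsFractionRing.of_field
  intro z
  obtain ⟨p, q, hq, rfl⟩ := IsFractionRing.div_surjective (A := PowerSeries k) z
  have hXc : (X : PowerSeries k) ^ c ≠ 0 := pow_ne_zero _ X_ne_zero
  have hmem : ∀ f : PowerSeries k, f * X ^ c ∈ A := by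
    intro f
    apply hc
    rw [order_mul, order_X_pow]
    exact le_add_self
  refine ⟨⟨p * X ^ c, hmem p⟩, ⟨q * X ^ c, hmem q⟩, ?_⟩
  rw [halg, halg]
  show _ = algebraMap (PowerSeries k) K (p * X ^ c) / algebraMap (PowerSeries k) K (q * X ^ c)
  rw [map_mul, map_mul]
  have hq0 : algebraMap (PowerSeries k) K q ≠ 0 := by
    intro h0
    have := hinjP (h0.trans (map_zero _).symm)
    exact (nonZeroDivisors.ne_zero hq) this
  have hX0 : algebraMap (PowerSeries k) K (X ^ c) ≠ 0 := by
    intro h0
    exact hXc (hinjP (h0.trans (map_zero _).symm))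
  field_simp

end Groth.Agent.Helper7.PSCan
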