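import Mathlib
import Groth.Agent.Helper7.PSCanA

set_option autoImplicit false
universe u

/-!
# Counting: the colength of an `A`-submodule of `k⟦N⟧` containing `N^c k⟦N⟧` is the number of gaps
-/

namespace Groth.Agent.Helper7.PSCan

open PowerSeries Function
open Groth.Agent.Helper6.TFC Groth.Agent.Helper7.CanDu

/-- a quotient in which every nonzero element generates is simple -/
theorem rl_eq_one_of_cyclic {R : Type*} [CommRing R] {M : Type*} [AddCommGroup M] [Module R M]
    (Y' Y : Submodule R M) (e : M) (he : e ∈ Y) (hne : e ∉ Y')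
    (h : ∀ f ∈ Y, f ∉ Y' → ∀ f' ∈ Y, ∃ r : R, r • f - f' ∈ Y') : rl Y' Y = 1 := by
  rw [rl_def]
  have hsimple : IsSimpleModule R (↥Y ⧸ Submodule.comap Y.subtype Y') := by
    rw [isSimpleModule_iff_toSpanSingleton_surjective]
    constructor
    · refine ⟨⟨Submodule.Quotient.mk ⟨e, he⟩, 0, ?_⟩⟩
      intro h0
      rw [Submodule.Quotient.mk_eq_zero] at h0
      exact hne h0
    · intro q hq q'
      obtain ⟨⟨f, hf⟩, rfl⟩ := Submodule.Quotient.mk_surjective _ q
      obtain ⟨⟨f', hf'⟩, rfl⟩ := Submodule.Quotient.mk_surjective _ q'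
      have hfn : f ∉ Y' := by
        intro hfY
        apply hq
        rw [Submodule.Quotient.mk_eq_zero]
        exact hfY
      obtain ⟨r, hr⟩ := h f hf hfn f' hf'
      refine ⟨r, ?_⟩
      rw [LinearMap.toSpanSingleton_apply, ← Submodule.Quotient.mk_smul, Submodule.Quotient.eq]
      exact hr
  exact Module.length_eq_one R _

variable {k : Type u} [Field k] {A : Subalgebra k (PowerSeries k)}

/-- the value set of a submodule -/
def vset (N : Submodule ↥A (PowerSeries k)) : Set ℕ := {n | ∃ f ∈ N, order f = (n : ℕ∞)}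

theorem mem_vset {N : Submodule ↥A (PowerSeries k)} {n : ℕ} :
    n ∈ vset N ↔ ∃ f ∈ N, order f = (n : ℕ∞) := Iff.rfl

/-- scalar multiplication by `k` preserves `A`-submodules -/
theorem ksmul_mem (N : Submodule ↥A (PowerSeries k)) (a : k) {f : PowerSeries k} (hf : f ∈ N) :
    a • f ∈ N := by
  rw [← algebraMap_smul ↥A a f]
  exact N.smul_mem _ hf

/-- removing the leading term -/
theorem order_sub_leading {f : PowerSeries k} {i : ℕ} (hf : (i : ℕ∞) ≤ order f) :
    ((i + 1 : ℕ) : ℕ∞) ≤ order (f - coeff i f • (X : PowerSeries k) ^ i) := by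
  apply nat_le_order
  intro j hj
  rw [map_sub, coeff_smul, coeff_X_pow, smul_eq_mul]
  rcases Nat.lt_succ_iff_lt_or_eq.1 hj with h | h
  · rw [coeff_of_lt_order j (lt_of_lt_of_le (by exact_mod_cast h) hf), if_neg (by omega), mul_zero,
      sub_zero]
  · subst h
    rw [if_pos rfl, mul_one, sub_self]

theorem X_pow_mem_ordGE (i : ℕ) : (X : PowerSeries k) ^ i ∈ ordGE A i := by
  rw [mem_ordGE, order_X_pow]

theorem ordGE_anti {i j : ℕ} (h : i ≤ j) : ordGE A j ≤ ordGE A i := by
  intro f hf
  rw [mem_ordGE] at hf ⊢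
  exact le_trans (by exact_mod_cast h) hf

theorem ordGE_zero : ordGE A 0 = ⊤ := by
  rw [eq_top_iff]
  intro f _
  rw [mem_ordGE]
  simp

/-- the filtration step is trivial at a value -/
theorem step_eq (N : Submodule ↥A (PowerSeries k)) {i : ℕ} (hi : i ∈ vset N) :
    N ⊔ ordGE A i = N ⊔ ordGE A (i + 1) := by
  apply le_antisymm
  · apply sup_le le_sup_left
    intro f hf
    rw [mem_ordGE] at hf
    obtain ⟨x, hx, hxo⟩ := hi
    have hx0 : coeff i x ≠ 0 := by
      have := (order_eq_nat.1 hxo).1
      exact this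
    have h1 := order_sub_leading hf
    have h2 := order_sub_leading (le_of_eq hxo.symm)
    -- f = (f_i/x_i) x + rest
    have e : f = (coeff i f / coeff i x) • x +
        ((f - coeff i f • (X : PowerSeries k) ^ i) -
          (coeff i f / coeff i x) • (x - coeff i x • (X : PowerSeries k) ^ i)) := by
      rw [smul_sub, smul_smul, div_mul_cancel₀ _ hx0]
      ring
    rw [e]
    refine Submodule.add_mem _ (Submodule.mem_sup_left (ksmul_mem N _ hx))
      (Submodule.mem_sup_right ?_)
    exact Submodule.sub_mem _ h1 (ksmul_mem _ _ h2)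
  · exact sup_le_sup_left (ordGE_anti (Nat.le_succ i)) N

/-- elements of `N + F_i` are congruent to a multiple of `N^i` modulo `N + F_{i+1}` -/
theorem exists_leading (N : Submodule ↥A (PowerSeries k)) (i : ℕ) {f : PowerSeries k}
    (hf : f ∈ N ⊔ ordGE A i) :
    ∃ a : k, f - a • (X : PowerSeries k) ^ i ∈ N ⊔ ordGE A (i + 1) := by
  obtain ⟨x, hx, g, hg, rfl⟩ := Submodule.mem_sup.1 hf
  rw [mem_ordGE] at hg
  refine ⟨coeff i g, ?_⟩
  have e : x + g - coeff i g • (X : PowerSeries k) ^ i =
      x + (g - coeff i g • (X : PowerSeries k) ^ i) := by ring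
  rw [e]
  exact Submodule.add_mem _ (Submodule.mem_sup_left hx)
    (Submodule.mem_sup_right (order_sub_leading hg))

theorem X_pow_notMem (N : Submodule ↥A (PowerSeries k)) {i : ℕ} (hi : i ∉ vset N) :
    (X : PowerSeries k) ^ i ∉ N ⊔ ordGE A (i + 1) := by
  intro h
  obtain ⟨x, hx, g, hg, he⟩ := Submodule.mem_sup.1 h
  rw [mem_ordGE] at hg
  apply hi
  refine ⟨x, hx, ?_⟩
  have hx' : x = (X : PowerSeries k) ^ i - g := by rw [← he]; ring
  rw [order_eq_nat]
  constructor
  · rw [hx', map_sub, coeff_X_pow, if_pos rfl,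
      coeff_of_lt_order i (lt_of_lt_of_le (by exact_mod_cast Nat.lt_succ_self i) hg), sub_zero]
    exact one_ne_zero
  · intro j hj
    rw [hx', map_sub, coeff_X_pow, if_neg (by omega),
      coeff_of_lt_order j (lt_of_lt_of_le (by exact_mod_cast (by omega : j < i + 1)) hg), sub_zero]

/-- the filtration step has length one at a gap -/
theorem step_rl (N : Submodule ↥A (PowerSeries k)) {i : ℕ} (hi : i ∉ vset N) :
    rl (N ⊔ ordGE A (i + 1)) (N ⊔ ordGE A i) = 1 := by
  apply rl_eq_one_of_cyclic _ _ ((X : PowerSeries k) ^ i)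
    (Submodule.mem_sup_right (X_pow_mem_ordGE i)) (X_pow_notMem N hi)
  intro f hf hfn f' hf'
  obtain ⟨a, ha⟩ := exists_leading N i hf
  obtain ⟨b, hb⟩ := exists_leading N i hf'
  have ha0 : a ≠ 0 := by
    rintro rfl
    apply hfn
    simpa using ha
  refine ⟨algebraMap k ↥A (b / a), ?_⟩
  rw [algebraMap_smul]
  have e1 : (b / a) • f - f' = (b / a) • (f - a • (X : PowerSeries k) ^ i) -
      (f' - b • (X : PowerSeries k) ^ i) := by
    rw [smul_sub, smul_smul, div_mul_cancel₀ _ ha0]
    ring
  rw [e1]
  exact Submodule.sub_mem _ (ksmul_mem _ _ ha) hb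

open Classical in
/-- the number of gaps below `c` -/
noncomputable def gaps (N : Submodule ↥A (PowerSeries k)) (c : ℕ) : ℕ :=
  ((Finset.range c).filter (fun i => i ∉ vset N)).card

open Classical in
theorem rl_top_eq_gaps (N : Submodule ↥A (PowerSeries k)) (c : ℕ) (hX : ordGE A c ≤ N) :
    rl N ⊤ = (gaps N c : ℕ∞) := by
  have key : ∀ d : ℕ, d ≤ c → rl N (N ⊔ ordGE A (c - d)) =
      (((Finset.Ico (c - d) c).filter (fun i => i ∉ vset N)).card : ℕ∞) := by
    intro d
    induction d with
    | zero =>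
      intro _
      rw [Nat.sub_zero, sup_eq_left.2 hX, rl_self, Finset.Ico_self]
      simp
    | succ d ih =>
      intro hd
      have h1 := ih (Nat.le_of_succ_le hd)
      have hi : c - (d + 1) + 1 = c - d := by omega
      set i := c - (d + 1) with hidef
      have hadd := rl_add (A := N) (B := N ⊔ ordGE A (i + 1)) (C := N ⊔ ordGE A i) le_sup_left
        (sup_le_sup_left (ordGE_anti (Nat.le_succ i)) N)
      rw [hi] at hadd
      rw [hadd, h1]
      have hIco : Finset.Ico i c = insert i (Finset.Ico (c - d) c) := by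
        rw [← hi]
        exact (Finset.insert_Ico_add_one_left_eq_Ico (by omega : i < c)).symm
      rw [hIco, Finset.filter_insert]
      by_cases hiv : i ∈ vset N
      · rw [if_neg (not_not.2 hiv)]
        have := step_eq N hiv
        rw [hi] at this
        rw [this, rl_self, add_zero]
      · rw [if_pos hiv, Finset.card_insert_of_notMem (by simp [← hi])]
        have := step_rl N hiv
        rw [hi] at this
        rw [this]
        push_cast
        rfl
  have := key c le_rfl
  rw [Nat.sub_self, ordGE_zero, sup_top_eq] at this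
  rw [this, gaps, Finset.range_eq_Ico]

end Groth.Agent.Helper7.PSCan
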