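import Mathlib
import Groth.Agent.Helper7.MonExtB
import Groth.Agent.Helper7.PSCanB

set_option autoImplicit false
universe u

/-!
# Monomial modules in `k⟦X⟧` over a monomial subalgebra
-/

namespace Groth.Agent.Helper7.MonExt

open PowerSeries Function
open Groth.Agent.Helper6.TFC Groth.Agent.Helper7.CanDu Groth.Agent.Helper7.PSCan

theorem exists_of_coeff_mul_ne_zero {k : Type*} [Field k] {f g : PowerSeries k} {n : ℕ}
    (h : coeff n (f * g) ≠ 0) : ∃ p q, p + q = n ∧ coeff p f ≠ 0 ∧ coeff q g ≠ 0 := by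
  rw [coeff_mul] at h
  obtain ⟨⟨p, q⟩, hpq, hne⟩ := Finset.exists_ne_zero_of_sum_ne_zero h
  have hpq' : p + q = n := Finset.HasAntidiagonal.mem_antidiagonal.1 hpq
  exact ⟨p, q, hpq', left_ne_zero_of_mul hne, right_ne_zero_of_mul hne⟩

variable {k : Type u} [Field k] {A : Subalgebra k (PowerSeries k)} {Γ : Set ℕ}
  (hA : ∀ f : PowerSeries k, f ∈ A ↔ ∀ n : ℕ, coeff n f ≠ 0 → n ∈ Γ)

include hA in
theorem zero_mem_Γ : 0 ∈ Γ := by
  have h1 : (1 : PowerSeries k) ∈ A := A.one_mem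
  exact (hA 1).1 h1 0 (by simp)

include hA in
theorem X_pow_mem_iff {n : ℕ} : (X : PowerSeries k) ^ n ∈ A ↔ n ∈ Γ := by
  rw [hA]
  constructor
  · intro h
    exact h n (by rw [coeff_X_pow, if_pos rfl]; exact one_ne_zero)
  · intro hn m hm
    rw [coeff_X_pow] at hm
    by_cases hmn : m = n
    · rw [hmn]; exact hn
    · rw [if_neg hmn] at hm
      exact absurd rfl hm

include hA in
theorem add_mem_Γ {a b : ℕ} (ha : a ∈ Γ) (hb : b ∈ Γ) : a + b ∈ Γ := by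
  rw [← X_pow_mem_iff hA, pow_add]
  exact A.mul_mem ((X_pow_mem_iff hA).2 ha) ((X_pow_mem_iff hA).2 hb)

/-- power series supported in `S` -/
def mono (hA : ∀ f : PowerSeries k, f ∈ A ↔ ∀ n : ℕ, coeff n f ≠ 0 → n ∈ Γ)
    (S : Set ℕ) (hS : ∀ g ∈ Γ, ∀ s ∈ S, g + s ∈ S) : Submodule ↥A (PowerSeries k) where
  carrier := {f | ∀ n, coeff n f ≠ 0 → n ∈ S}
  add_mem' := by
    intro f g hf hg n hn
    rw [map_add] at hn
    by_cases h : coeff n f = 0
    · rw [h, zero_add] at hn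
      exact hg n hn
    · exact hf n h
  zero_mem' := by
    intro n hn
    rw [map_zero] at hn
    exact absurd rfl hn
  smul_mem' := by
    intro a f hf n hn
    have h1 : a • f = (a : PowerSeries k) * f := rfl
    rw [h1] at hn
    obtain ⟨p, q, hpq, hp, hq⟩ := exists_of_coeff_mul_ne_zero hn
    rw [← hpq]
    exact hS p ((hA _).1 a.2 p hp) q (hf q hq)

theorem mem_mono {S : Set ℕ} {hS : ∀ g ∈ Γ, ∀ s ∈ S, g + s ∈ S} {f : PowerSeries k} :
    f ∈ mono hA S hS ↔ ∀ n, coeff n f ≠ 0 → n ∈ S := Iff.rfl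

theorem X_pow_mem_mono {S : Set ℕ} {hS : ∀ g ∈ Γ, ∀ s ∈ S, g + s ∈ S} {n : ℕ} :
    (X : PowerSeries k) ^ n ∈ mono hA S hS ↔ n ∈ S := by
  rw [mem_mono]
  constructor
  · intro h
    exact h n (by rw [coeff_X_pow, if_pos rfl]; exact one_ne_zero)
  · intro hn m hm
    rw [coeff_X_pow] at hm
    by_cases hmn : m = n
    · rw [hmn]; exact hn
    · rw [if_neg hmn] at hm
      exact absurd rfl hm

theorem mono_mono {S T : Set ℕ} {hS : ∀ g ∈ Γ, ∀ s ∈ S, g + s ∈ S}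
    {hT : ∀ g ∈ Γ, ∀ s ∈ T, g + s ∈ T} (h : T ⊆ S) : mono hA T hT ≤ mono hA S hS :=
  fun _ hf n hn => h (hf n hn)

theorem vset_mono (S : Set ℕ) (hS : ∀ g ∈ Γ, ∀ s ∈ S, g + s ∈ S) :
    vset (mono hA S hS) = S := by
  ext n
  rw [mem_vset]
  constructor
  · rintro ⟨f, hf, hfo⟩
    exact hf n ((order_eq_nat.1 hfo).1)
  · intro hn
    exact ⟨X ^ n, (X_pow_mem_mono hA).2 hn, order_X_pow n⟩

theorem ordGE_le_mono (S : Set ℕ) (hS : ∀ g ∈ Γ, ∀ s ∈ S, g + s ∈ S) (c : ℕ)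
    (hc : ∀ n, c ≤ n → n ∈ S) : ordGE A c ≤ mono hA S hS := by
  intro f hf n hn
  rw [mem_ordGE] at hf
  apply hc
  by_contra hlt
  push Not at hlt
  exact hn (coeff_of_lt_order n (lt_of_lt_of_le (by exact_mod_cast hlt) hf))

open Classical in
/-- relative length of monomial modules -/
theorem rl_mono (S T : Set ℕ) (hS : ∀ g ∈ Γ, ∀ s ∈ S, g + s ∈ S)
    (hT : ∀ g ∈ Γ, ∀ s ∈ T, g + s ∈ T) (hTS : T ⊆ S) (c : ℕ) (hc : ∀ n, c ≤ n → n ∈ T) :
    rl (mono hA T hT) (mono hA S hS) =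
      (((Finset.range c).filter (fun i => i ∈ S ∧ i ∉ T)).card : ℕ∞) := by
  have h1 := rl_top_eq_gaps (mono hA T hT) c (ordGE_le_mono hA T hT c hc)
  have h2 := rl_top_eq_gaps (mono hA S hS) c
    (ordGE_le_mono hA S hS c (fun n hn => hTS (hc n hn)))
  have h3 := rl_add (mono_mono hA (hS := hS) (hT := hT) hTS)
    (le_top : mono hA S hS ≤ ⊤)
  rw [h1, h2] at h3
  unfold gaps at h3
  rw [vset_mono, vset_mono] at h3
  have h4 : ((Finset.range c).filter (fun i => i ∉ T)).card =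
      ((Finset.range c).filter (fun i => i ∈ S ∧ i ∉ T)).card +
        ((Finset.range c).filter (fun i => i ∉ S)).card := by
    rw [← Finset.card_union_of_disjoint]
    · congr 1
      ext i
      simp only [Finset.mem_filter, Finset.mem_union, Finset.mem_range]
      constructor
      · rintro ⟨hi, hiT⟩
        by_cases hiS : i ∈ S
        · exact Or.inl ⟨hi, hiS, hiT⟩
        · exact Or.inr ⟨hi, hiS⟩
      · rintro (⟨hi, _, hiT⟩ | ⟨hi, hiS⟩)
        · exact ⟨hi, hiT⟩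
        · exact ⟨hi, fun h => hiS (hTS h)⟩
    · rw [Finset.disjoint_left]
      intro i hi hi'
      simp only [Finset.mem_filter] at hi hi'
      exact hi'.2 hi.2.1
  rw [h4] at h3
  push_cast at h3
  have hfin : (((Finset.range c).filter (fun i => i ∉ S)).card : ℕ∞) ≠ ⊤ :=
    ENat.natCast_ne_top _
  exact (ENat.add_left_injective_of_ne_top hfin h3).symm

/-- the shifted set `c + S` -/
def shift (c : ℕ) (S : Set ℕ) : Set ℕ := {n | c ≤ n ∧ n - c ∈ S}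

theorem mem_shift {c : ℕ} {S : Set ℕ} {n : ℕ} : n ∈ shift c S ↔ c ≤ n ∧ n - c ∈ S := Iff.rfl

theorem shift_closed {c : ℕ} {S : Set ℕ} (hS : ∀ g ∈ Γ, ∀ s ∈ S, g + s ∈ S) :
    ∀ g ∈ Γ, ∀ s ∈ shift c S, g + s ∈ shift c S := by
  rintro g hg s ⟨h1, h2⟩
  refine ⟨by omega, ?_⟩
  have : g + s - c = g + (s - c) := by omega
  rw [this]
  exact hS g hg _ h2

/-- `X^c` as an element of `A` -/
noncomputable def xpow (c : ℕ) (hc : c ∈ Γ) : ↥A := ⟨X ^ c, (X_pow_mem_iff hA).2 hc⟩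

theorem xpow_ne_zero (c : ℕ) (hc : c ∈ Γ) : xpow hA c hc ≠ 0 := by
  intro h
  have := congrArg (fun z : ↥A => (z : PowerSeries k)) h
  exact pow_ne_zero c X_ne_zero this

theorem map_lsmul_xpow (c : ℕ) (hc : c ∈ Γ) (S : Set ℕ) (hS : ∀ g ∈ Γ, ∀ s ∈ S, g + s ∈ S) :
    (mono hA S hS).map (LinearMap.lsmul ↥A (PowerSeries k) (xpow hA c hc)) =
      mono hA (shift c S) (shift_closed hS) := by
  ext f
  rw [Submodule.mem_map, mem_mono]
  constructor
  · rintro ⟨g, hg, rfl⟩ n hn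
    have h1 : (LinearMap.lsmul ↥A (PowerSeries k) (xpow hA c hc)) g = X ^ c * g := rfl
    rw [h1, coeff_X_pow_mul'] at hn
    by_cases hcn : c ≤ n
    · rw [if_pos hcn] at hn
      exact ⟨hcn, hg _ hn⟩
    · rw [if_neg hcn] at hn
      exact absurd rfl hn
  · intro hf
    have hdvd : (X : PowerSeries k) ^ c ∣ f := by
      rw [X_pow_dvd_iff]
      intro m hm
      by_contra hne
      have := (hf m hne).1
      omega
    obtain ⟨g, rfl⟩ := hdvd
    refine ⟨g, ?_, rfl⟩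
    intro n hn
    have h2 := hf (n + c) (by
      rw [coeff_X_pow_mul', if_pos (by omega), Nat.add_sub_cancel]
      exact hn)
    have := h2.2
    rwa [Nat.add_sub_cancel] at this

/-- monomial ideals of `A` -/
noncomputable def monoIdeal (hA : ∀ f : PowerSeries k, f ∈ A ↔ ∀ n : ℕ, coeff n f ≠ 0 → n ∈ Γ)
    (D : Set ℕ) (hD : ∀ g ∈ Γ, ∀ s ∈ D, g + s ∈ D) : Ideal ↥A :=
  (mono hA D hD).comap (Algebra.linearMap ↥A (PowerSeries k))

theorem mem_monoIdeal {D : Set ℕ} {hD : ∀ g ∈ Γ, ∀ s ∈ D, g + s ∈ D} {a : ↥A} :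
    a ∈ monoIdeal hA D hD ↔ ∀ n, coeff n (a : PowerSeries k) ≠ 0 → n ∈ D := Iff.rfl

theorem xpow_mem_monoIdeal {D : Set ℕ} {hD : ∀ g ∈ Γ, ∀ s ∈ D, g + s ∈ D} {d : ℕ}
    (hd : d ∈ Γ) (hdD : d ∈ D) : xpow hA d hd ∈ monoIdeal hA D hD := by
  rw [mem_monoIdeal]
  exact (X_pow_mem_mono hA (hS := hD)).2 hdD

theorem Esub_mono (S T : Set ℕ) (hS : ∀ g ∈ Γ, ∀ s ∈ S, g + s ∈ S)
    (hT : ∀ g ∈ Γ, ∀ s ∈ T, g + s ∈ T)
    (hE : ∀ g ∈ Γ, ∀ t ∈ {t | t ∈ T ∧ ∀ s ∈ S, s + t ∈ T},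
      g + t ∈ {t | t ∈ T ∧ ∀ s ∈ S, s + t ∈ T}) :
    Esub (mono hA S hS) (mono hA T hT) = mono hA {t | t ∈ T ∧ ∀ s ∈ S, s + t ∈ T} hE := by
  ext f
  rw [mem_Esub, mem_mono]
  constructor
  · rintro ⟨hf, hf'⟩ n hn
    refine ⟨hf n hn, fun s hs => ?_⟩
    have h1 := hf' (X ^ s) ((X_pow_mem_mono hA).2 hs) (s + n) (by
      rw [coeff_X_pow_mul', if_pos (by omega), Nat.add_sub_cancel_left]
      exact hn)
    exact h1
  · intro hf
    refine ⟨fun n hn => (hf n hn).1, fun m hm n hn => ?_⟩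
    obtain ⟨p, q, hpq, hp, hq⟩ := exists_of_coeff_mul_ne_zero hn
    rw [← hpq]
    exact (hf q hq).2 p (hm p hp)

theorem Hsub_mono (c : ℕ) (hc : c ∈ Γ) (T D : Set ℕ) (hT : ∀ g ∈ Γ, ∀ s ∈ T, g + s ∈ T)
    (hD : ∀ g ∈ Γ, ∀ s ∈ D, g + s ∈ D) (hDΓ : D ⊆ Γ)
    (hH : ∀ g ∈ Γ, ∀ t ∈ {t | t ∈ T ∧ ∀ d ∈ D, d + t ∈ shift c T},
      g + t ∈ {t | t ∈ T ∧ ∀ d ∈ D, d + t ∈ shift c T}) :
    Hsub (mono hA T hT) (xpow hA c hc) (monoIdeal hA D hD : Set ↥A) =
      mono hA {t | t ∈ T ∧ ∀ d ∈ D, d + t ∈ shift c T} hH := by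
  ext f
  rw [mem_Hsub, mem_mono, map_lsmul_xpow]
  constructor
  · rintro ⟨hf, hf'⟩ n hn
    refine ⟨hf n hn, fun d hd => ?_⟩
    have h1 := hf' (xpow hA d (hDΓ hd)) (xpow_mem_monoIdeal hA (hDΓ hd) hd)
    have h2 : xpow hA d (hDΓ hd) • f = X ^ d * f := rfl
    rw [h2] at h1
    exact h1 (d + n) (by
      rw [coeff_X_pow_mul', if_pos (by omega), Nat.add_sub_cancel_left]
      exact hn)
  · intro hf
    refine ⟨fun n hn => (hf n hn).1, fun a ha n hn => ?_⟩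
    have h2 : a • f = (a : PowerSeries k) * f := rfl
    rw [h2] at hn
    obtain ⟨p, q, hpq, hp, hq⟩ := exists_of_coeff_mul_ne_zero hn
    rw [← hpq]
    exact (hf q hq).2 p (ha p hp)

/-- decomposition of an element of a monomial module along monomial generators -/
theorem exists_decomp (G : Finset ℕ) (S : Set ℕ) (hS : ∀ g ∈ Γ, ∀ s ∈ S, g + s ∈ S)
    (c : ℕ → ℕ) (hc : ∀ n ∈ S, c n ∈ G ∧ c n ≤ n ∧ n - c n ∈ Γ)
    (f : PowerSeries k) (hf : f ∈ mono hA S hS) :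
    ∃ a : ℕ → ↥A, f = ∑ g ∈ G, a g • (X : PowerSeries k) ^ g := by
  classical
  let g : ℕ → PowerSeries k := fun a =>
    PowerSeries.mk (fun m => if c (m + a) = a then coeff (m + a) f else 0)
  have hgA : ∀ a, g a ∈ A := by
    intro a
    rw [hA]
    intro m hm
    rw [coeff_mk] at hm
    by_cases h : c (m + a) = a
    · rw [if_pos h] at hm
      have := (hc (m + a) (hf _ hm)).2.2
      rw [h, Nat.add_sub_cancel] at this
      exact this
    · rw [if_neg h] at hm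
      exact absurd rfl hm
  refine ⟨fun a => ⟨g a, hgA a⟩, ?_⟩
  ext n
  rw [map_sum]
  have h1 : ∀ a ∈ G, coeff n ((⟨g a, hgA a⟩ : ↥A) • (X : PowerSeries k) ^ a) =
      if c n = a ∧ a ≤ n then coeff n f else 0 := by
    intro a _
    have h2 : (⟨g a, hgA a⟩ : ↥A) • (X : PowerSeries k) ^ a = X ^ a * g a := by
      show g a * X ^ a = _
      rw [mul_comm]
    rw [h2, coeff_X_pow_mul']
    by_cases han : a ≤ n
    · rw [if_pos han, coeff_mk, Nat.sub_add_cancel han]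
      by_cases hca : c n = a
      · rw [if_pos hca, if_pos ⟨hca, han⟩]
      · rw [if_neg hca, if_neg (fun h => hca h.1)]
    · rw [if_neg han, if_neg (fun h => han h.2)]
  rw [Finset.sum_congr rfl h1]
  by_cases hn : coeff n f = 0
  · rw [hn]
    simp
  · have hnS := hf n hn
    obtain ⟨hcG, hcn, -⟩ := hc n hnS
    rw [Finset.sum_eq_single (c n)]
    · rw [if_pos ⟨rfl, hcn⟩]
    · intro a _ hne
      rw [if_neg (fun h => hne h.1.symm)]
    · intro h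
      exact absurd hcG h

/-- spans of monomials are monomial modules -/
theorem span_eq_mono (G : Finset ℕ) (S : Set ℕ) (hS : ∀ g ∈ Γ, ∀ s ∈ S, g + s ∈ S)
    (hGS : ∀ a ∈ G, a ∈ S) (c : ℕ → ℕ)
    (hc : ∀ n ∈ S, c n ∈ G ∧ c n ≤ n ∧ n - c n ∈ Γ) :
    Submodule.span ↥A ((fun a : ℕ => (X : PowerSeries k) ^ a) '' (G : Set ℕ)) =
      mono hA S hS := by
  apply le_antisymm
  · rw [Submodule.span_le]
    rintro _ ⟨a, ha, rfl⟩
    exact (X_pow_mem_mono hA).2 (hGS a ha)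
  · intro f hf
    obtain ⟨a, rfl⟩ := exists_decomp hA G S hS c hc f hf
    exact Submodule.sum_mem _ fun g hg =>
      Submodule.smul_mem _ _ (Submodule.subset_span ⟨g, hg, rfl⟩)

end Groth.Agent.Helper7.MonExt
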