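import Mathlib
import Groth.Agent.Helper7.MonExtC

set_option autoImplicit false
universe u

/-!
# The combinatorial formula for `ℓ Ext¹` of monomial modules
-/

namespace Groth.Agent.Helper7.MonExt

open PowerSeries Function CategoryTheory Abelian
open Groth.Agent.Helper6.TFC Groth.Agent.Helper7.CanDu Groth.Agent.Helper7.PSCan

variable {k : Type u} [Field k] {A : Subalgebra k (PowerSeries k)} {Γ : Set ℕ}
  (hA : ∀ f : PowerSeries k, f ∈ A ↔ ∀ n : ℕ, coeff n f ≠ 0 → n ∈ Γ)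

/-- exponents of `N : M` inside `N` -/
def SE (SM SN : Set ℕ) : Set ℕ := {t | t ∈ SN ∧ ∀ s ∈ SM, s + t ∈ SN}

/-- exponents of `{n ∈ N | D n ⊆ X^c N}` -/
def SH (c : ℕ) (SN D : Set ℕ) : Set ℕ := {t | t ∈ SN ∧ ∀ d ∈ D, d + t ∈ shift c SN}

theorem SE_closed {SM SN : Set ℕ} (hSN : ∀ g ∈ Γ, ∀ s ∈ SN, g + s ∈ SN) :
    ∀ g ∈ Γ, ∀ t ∈ SE SM SN, g + t ∈ SE SM SN := by
  rintro g hg t ⟨h1, h2⟩
  refine ⟨hSN g hg t h1, fun s hs => ?_⟩
  have : s + (g + t) = g + (s + t) := by ring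
  rw [this]
  exact hSN g hg _ (h2 s hs)

theorem SH_closed {c : ℕ} {SN D : Set ℕ} (hSN : ∀ g ∈ Γ, ∀ s ∈ SN, g + s ∈ SN) :
    ∀ g ∈ Γ, ∀ t ∈ SH c SN D, g + t ∈ SH c SN D := by
  rintro g hg t ⟨h1, h2⟩
  refine ⟨hSN g hg t h1, fun d hd => ?_⟩
  have : d + (g + t) = g + (d + t) := by ring
  rw [this]
  exact shift_closed hSN g hg _ (h2 d hd)

include hA in
theorem rel_iff (G : Finset ℕ) (D : Set ℕ) (hD : ∀ g ∈ Γ, ∀ s ∈ D, g + s ∈ D)
    (hdisj : ∀ g ∈ G, ∀ g' ∈ G, g ≠ g' → ∀ γ ∈ Γ, ∀ γ' ∈ Γ, γ + g = γ' + g' → γ + g ∈ Γ)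
    (hDG : ∀ g ∈ G, ∀ γ ∈ Γ, (γ + g ∈ Γ ↔ γ ∈ D))
    (a : ↥G → ↥A) :
    (∃ r : ↥A, ∑ j, a j • (X : PowerSeries k) ^ (j : ℕ) = algebraMap ↥A (PowerSeries k) r) ↔
      ∀ j, a j ∈ monoIdeal hA D hD := by
  classical
  have hterm : ∀ (j : ↥G) (N : ℕ), coeff N (a j • (X : PowerSeries k) ^ (j : ℕ)) =
      if (j : ℕ) ≤ N then coeff (N - (j : ℕ)) (a j : PowerSeries k) else 0 := by
    intro j N
    have h2 : a j • (X : PowerSeries k) ^ (j : ℕ) = X ^ (j : ℕ) * (a j : PowerSeries k) := by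
      show (a j : PowerSeries k) * X ^ (j : ℕ) = _
      rw [mul_comm]
    rw [h2, coeff_X_pow_mul']
  constructor
  · rintro ⟨r, hr⟩ j
    rw [mem_monoIdeal]
    intro n hn
    have hnΓ : n ∈ Γ := (hA _).1 (a j).2 n hn
    rw [← hDG j j.2 n hnΓ]
    by_contra hN
    have hcoef : coeff (n + (j : ℕ)) (∑ i, a i • (X : PowerSeries k) ^ (i : ℕ)) =
        coeff n (a j : PowerSeries k) := by
      rw [map_sum, Finset.sum_eq_single j]
      · rw [hterm, if_pos (by omega), Nat.add_sub_cancel]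
      · intro i _ hij
        rw [hterm]
        by_cases hle : (i : ℕ) ≤ n + (j : ℕ)
        · rw [if_pos hle]
          by_contra hne
          have hγ' : n + (j : ℕ) - (i : ℕ) ∈ Γ := (hA _).1 (a i).2 _ hne
          apply hN
          refine hdisj j j.2 i i.2 (fun h => hij (Subtype.ext h.symm)) n hnΓ _ hγ' ?_
          omega
        · rw [if_neg hle]
      · intro h
        exact absurd (Finset.mem_univ j) h
    rw [hr] at hcoef
    apply hN
    exact (hA _).1 r.2 _ (by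
      show coeff (n + (j : ℕ)) (r : PowerSeries k) ≠ 0
      have : (algebraMap ↥A (PowerSeries k)) r = (r : PowerSeries k) := rfl
      rw [this] at hcoef
      rw [hcoef]
      exact hn)
  · intro h
    have hmem : ∀ j : ↥G, a j • (X : PowerSeries k) ^ (j : ℕ) ∈ A := by
      intro j
      rw [hA]
      intro N hN
      rw [hterm] at hN
      by_cases hle : (j : ℕ) ≤ N
      · rw [if_pos hle] at hN
        have h1 : N - (j : ℕ) ∈ D := (mem_monoIdeal hA).1 (h j) _ hN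
        have h2 : N - (j : ℕ) ∈ Γ := (hA _).1 (a j).2 _ hN
        have := (hDG j j.2 _ h2).2 h1
        rwa [Nat.sub_add_cancel hle] at this
      · rw [if_neg hle] at hN
        exact absurd rfl hN
    exact ⟨⟨∑ j, a j • (X : PowerSeries k) ^ (j : ℕ), A.sum_mem fun j _ => hmem j⟩, rfl⟩

/-- the main combinatorial formula -/
theorem length_ext_mono (G : Finset ℕ) (SM SN D : Set ℕ)
    (hSM : ∀ g ∈ Γ, ∀ s ∈ SM, g + s ∈ SM) (hSN : ∀ g ∈ Γ, ∀ s ∈ SN, g + s ∈ SN)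
    (hD : ∀ g ∈ Γ, ∀ s ∈ D, g + s ∈ D) (hDΓ : D ⊆ Γ)
    (c : ℕ) (hc : c ∈ Γ) (h0 : 0 ∈ SM) (h0G : 0 ∉ G) (hGM : ∀ g ∈ G, g ∈ SM)
    (hcM : ∀ s ∈ SM, c + s ∈ Γ)
    (ch : ℕ → ℕ) (hch : ∀ n ∈ SM, ch n ∈ insert 0 G ∧ ch n ≤ n ∧ n - ch n ∈ Γ)
    (hdisj : ∀ g ∈ G, ∀ g' ∈ G, g ≠ g' → ∀ γ ∈ Γ, ∀ γ' ∈ Γ, γ + g = γ' + g' → γ + g ∈ Γ)
    (hDG : ∀ g ∈ G, ∀ γ ∈ Γ, (γ + g ∈ Γ ↔ γ ∈ D)) :
    Module.length ↥A (Ext (ModuleCat.of ↥A ↥(mono hA SM hSM))
        (ModuleCat.of ↥A ↥(mono hA SN hSN)) 1) +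
      rl (mono hA (SE SM SN) (SE_closed hSN)) (mono hA SN hSN) =
    G.card • rl (mono hA (shift c SN) (shift_closed hSN))
      (mono hA (SH c SN D) (SH_closed hSN)) := by
  classical
  have hinj : Injective (algebraMap ↥A (PowerSeries k)) := Subtype.val_injective
  have h1 : (1 : PowerSeries k) ∈ mono hA SM hSM := by
    have := (X_pow_mem_mono hA (hS := hSM) (n := 0)).2 h0
    rwa [pow_zero] at this
  have hxM : ∀ m ∈ mono hA SM hSM, ∃ r : ↥A,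
      xpow hA c hc • m = algebraMap ↥A (PowerSeries k) r := by
    intro m hm
    have hmem : (X : PowerSeries k) ^ c * m ∈ A := by
      rw [hA]
      intro n hn
      obtain ⟨p, q, hpq, hp, hq⟩ := exists_of_coeff_mul_ne_zero hn
      rw [coeff_X_pow] at hp
      by_cases hpc : p = c
      · rw [← hpq, hpc]
        exact hcM q (hm q hq)
      · rw [if_neg hpc] at hp
        exact absurd rfl hp
    exact ⟨⟨_, hmem⟩, rfl⟩
  have hvM : ∀ j : ↥G, (X : PowerSeries k) ^ (j : ℕ) ∈ mono hA SM hSM :=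
    fun j => (X_pow_mem_mono hA).2 (hGM j j.2)
  have hspan : ∀ m ∈ mono hA SM hSM, ∃ (r : ↥A) (a : ↥G → ↥A),
      m = algebraMap ↥A (PowerSeries k) r + ∑ j, a j • (X : PowerSeries k) ^ (j : ℕ) := by
    intro m hm
    obtain ⟨a, ha⟩ := exists_decomp hA (insert 0 G) SM hSM ch hch m hm
    rw [Finset.sum_insert h0G, pow_zero] at ha
    refine ⟨a 0, fun j => a (j : ℕ), ?_⟩
    rw [ha]
    congr 1
    · show a 0 • (1 : PowerSeries k) = ((a 0 : ↥A) : PowerSeries k)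
      show ((a 0 : ↥A) : PowerSeries k) * 1 = _
      rw [mul_one]
    · rw [← Finset.sum_coe_sort G (fun g => a g • (X : PowerSeries k) ^ g)]
  have hrel := rel_iff hA G D hD hdisj hDG
  have main := length_ext_final hinj (mono hA SM hSM) (mono hA SN hSN) h1 (xpow hA c hc)
    (xpow_ne_zero hA c hc) hxM (fun j : ↥G => (X : PowerSeries k) ^ (j : ℕ)) hvM hspan
    (monoIdeal hA D hD) hrel
  rw [Fintype.card_coe, Esub_mono hA SM SN hSM hSN (SE_closed hSN), map_lsmul_xpow,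
    Hsub_mono hA c hc SN D hSN hD hDΓ (SH_closed hSN)] at main
  exact main

end Groth.Agent.Helper7.MonExt
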