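import Mathlib
import Groth.Agent.Helper7.MonExtD

set_option autoImplicit false
universe u

/-!
# The cubical rings `R_n = k + X^n k⟦X⟧`
-/

namespace Groth.Agent.Helper7.MonExt

open PowerSeries Function CategoryTheory Abelian
open Groth.Agent.Helper6.TFC Groth.Agent.Helper7.CanDu Groth.Agent.Helper7.PSCan

/-- value semigroup of `R_n` -/
def Γn (n : ℕ) : Set ℕ := {m | m = 0 ∨ n ≤ m}

/-- the maximal ideal exponents -/
def Dn (n : ℕ) : Set ℕ := {m | n ≤ m}

/-- `U ∪ [n, ∞)` -/
def SU (n : ℕ) (U : Finset ℕ) : Set ℕ := {m | m ∈ U ∨ n ≤ m}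

theorem mem_Γn {n m : ℕ} : m ∈ Γn n ↔ (m = 0 ∨ n ≤ m) := Iff.rfl
theorem mem_Dn {n m : ℕ} : m ∈ Dn n ↔ n ≤ m := Iff.rfl
theorem mem_SU {n m : ℕ} {U : Finset ℕ} : m ∈ SU n U ↔ (m ∈ U ∨ n ≤ m) := Iff.rfl

theorem SU_closed (n : ℕ) (U : Finset ℕ) : ∀ g ∈ Γn n, ∀ s ∈ SU n U, g + s ∈ SU n U := by
  rintro g (rfl | hg) s hs
  · rwa [zero_add]
  · right
    omega

theorem Dn_closed (n : ℕ) : ∀ g ∈ Γn n, ∀ s ∈ Dn n, g + s ∈ Dn n := by
  intro g _ s hs
  rw [mem_Dn] at hs ⊢
  omega

theorem Dn_sub (n : ℕ) : Dn n ⊆ Γn n := fun _ h => Or.inr h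

variable {k : Type u} [Field k] {A : Subalgebra k (PowerSeries k)} {n : ℕ}
  (hA : ∀ f : PowerSeries k, f ∈ A ↔ ∀ m : ℕ, coeff m f ≠ 0 → m ∈ Γn n)

/-- spans of monomials `X^u, u ∈ U` over `R_n` -/
theorem span_eq_mono_Rn (U : Finset ℕ) (h0 : 0 ∈ U) :
    Submodule.span ↥A ((fun a : ℕ => (X : PowerSeries k) ^ a) '' (U : Set ℕ)) =
      mono hA (SU n U) (SU_closed n U) := by
  classical
  refine span_eq_mono hA U (SU n U) (SU_closed n U) (fun a ha => Or.inl ha)
    (fun m => if m ∈ U then m else 0) ?_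
  intro m hm
  by_cases hmU : m ∈ U
  · rw [if_pos hmU]
    refine ⟨hmU, le_rfl, ?_⟩
    rw [Nat.sub_self]
    exact Or.inl rfl
  · rw [if_neg hmU]
    refine ⟨h0, Nat.zero_le _, ?_⟩
    rcases hm with h | h
    · exact absurd h hmU
    · exact Or.inr h

/-- the formula for the cubical ring -/
theorem length_ext_Rn (hn : 1 ≤ n) (U V : Finset ℕ) (h0 : 0 ∈ U) (hU : ∀ u ∈ U, u < n) :
    Module.length ↥A (Ext (ModuleCat.of ↥A ↥(mono hA (SU n U) (SU_closed n U)))
        (ModuleCat.of ↥A ↥(mono hA (SU n V) (SU_closed n V))) 1) +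
      rl (mono hA (SE (SU n U) (SU n V)) (SE_closed (SU_closed n V)))
        (mono hA (SU n V) (SU_closed n V)) =
    (U.erase 0).card • rl (mono hA (shift n (SU n V)) (shift_closed (SU_closed n V)))
      (mono hA (SH n (SU n V) (Dn n)) (SH_closed (SU_closed n V))) := by
  classical
  refine length_ext_mono hA (U.erase 0) (SU n U) (SU n V) (Dn n) (SU_closed n U)
    (SU_closed n V) (Dn_closed n) (Dn_sub n) n (Or.inr le_rfl) (Or.inl h0)
    (by simp) (fun g hg => Or.inl (Finset.mem_of_mem_erase hg))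
    (fun s _ => Or.inr (by omega)) (fun m => if m ∈ U then m else 0) ?_ ?_ ?_
  · intro m hm
    by_cases hmU : m ∈ U
    · rw [if_pos hmU]
      refine ⟨?_, le_rfl, ?_⟩
      · by_cases hm0 : m = 0
        · rw [hm0]
          exact Finset.mem_insert_self _ _
        · exact Finset.mem_insert_of_mem (Finset.mem_erase.2 ⟨hm0, hmU⟩)
      · rw [Nat.sub_self]
        exact Or.inl rfl
    · rw [if_neg hmU]
      refine ⟨Finset.mem_insert_self _ _, Nat.zero_le _, ?_⟩
      rcases hm with h | h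
      · exact absurd h hmU
      · exact Or.inr h
  · intro g hg g' hg' hne γ hγ γ' hγ' heq
    have hgn := hU g (Finset.mem_of_mem_erase hg)
    have hg'n := hU g' (Finset.mem_of_mem_erase hg')
    rcases hγ with rfl | hγ
    · rcases hγ' with rfl | hγ'
      · exfalso
        apply hne
        omega
      · right
        omega
    · right
      omega
  · intro g hg γ hγ
    have hgn := hU g (Finset.mem_of_mem_erase hg)
    have hg0 : g ≠ 0 := Finset.ne_of_mem_erase hg
    rw [mem_Dn, mem_Γn]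
    rcases hγ with rfl | hγ
    · constructor
      · rintro (h | h) <;> omega
      · intro h
        omega
    · constructor
      · intro _
        exact hγ
      · intro _
        right
        omega

end Groth.Agent.Helper7.MonExt
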