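import Mathlib
import Groth.Agent.Helper7.MonExtE

set_option autoImplicit false
universe u

/-!
# S15031: `ℓ Ext¹(M_i, M_i) = i (n - 2 - i)` over the cubical ring
-/

namespace Groth.Agent.Helper7.MonExt

open PowerSeries Function CategoryTheory Abelian
open Groth.Agent.Helper6.TFC Groth.Agent.Helper7.CanDu Groth.Agent.Helper7.PSCan

theorem s15031 (k : Type u) [Field k] (n : ℕ) (hn : 2 ≤ n)
    (A : Subalgebra k (PowerSeries k))
    (hmono : ∀ f : PowerSeries k, f ∈ A ↔ ∀ m : ℕ, PowerSeries.coeff m f ≠ 0 → (m = 0 ∨ n ≤ m))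
    (i : ℕ) (hi : i + 2 ≤ n) :
    Module.length ↥A (Abelian.Ext
      (ModuleCat.of ↥A ↥(Submodule.span ↥A
        ((fun a : ℕ => (PowerSeries.X : PowerSeries k) ^ a) '' Set.Iic i)))
      (ModuleCat.of ↥A ↥(Submodule.span ↥A
        ((fun a : ℕ => (PowerSeries.X : PowerSeries k) ^ a) '' Set.Iic i))) 1) =
      ((i * (n - 2 - i) : ℕ) : ℕ∞) := by
  classical
  have hA : ∀ f : PowerSeries k, f ∈ A ↔ ∀ m : ℕ, coeff m f ≠ 0 → m ∈ Γn n := hmono
  have hspan : Submodule.span ↥A
      ((fun a : ℕ => (PowerSeries.X : PowerSeries k) ^ a) '' Set.Iic i) =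
      mono hA (SU n (Finset.Iic i)) (SU_closed n _) := by
    rw [← Finset.coe_Iic]
    exact span_eq_mono_Rn hA (Finset.Iic i) (by simp)
  rw [hspan]
  have main := length_ext_Rn hA (by omega) (Finset.Iic i) (Finset.Iic i) (by simp)
    (fun u hu => by rw [Finset.mem_Iic] at hu; omega)
  -- the E-count
  have hE : rl (mono hA (SE (SU n (Finset.Iic i)) (SU n (Finset.Iic i)))
      (SE_closed (SU_closed n _))) (mono hA (SU n (Finset.Iic i)) (SU_closed n _)) =
      (i : ℕ∞) := by
    rw [rl_mono hA _ _ _ _ (fun t ht => ht.1) n (by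
      intro m hm
      exact ⟨Or.inr hm, fun s _ => Or.inr (by omega)⟩)]
    congr 1
    have : (Finset.range n).filter (fun j => j ∈ SU n (Finset.Iic i) ∧
        j ∉ SE (SU n (Finset.Iic i)) (SU n (Finset.Iic i))) = Finset.Icc 1 i := by
      ext j
      simp only [Finset.mem_filter, Finset.mem_range, Finset.mem_Icc, mem_SU, Finset.mem_Iic]
      constructor
      · rintro ⟨hjn, hjS, hjE⟩
        have hji : j ≤ i := by omega
        refine ⟨?_, hji⟩
        by_contra h0
        have hj0 : j = 0 := by omega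
        apply hjE
        refine ⟨Or.inl (Finset.mem_Iic.2 hji), fun s hs => ?_⟩
        rw [hj0, add_zero]
        exact hs
      · rintro ⟨h1, hji⟩
        refine ⟨by omega, Or.inl hji, ?_⟩
        rintro ⟨-, h2⟩
        have := h2 (i + 1 - j) (Or.inl (by rw [Finset.mem_Iic]; omega))
        rw [mem_SU, Finset.mem_Iic] at this
        omega
    rw [this, Nat.card_Icc]
    omega
  -- the H-count
  have hH : rl (mono hA (shift n (SU n (Finset.Iic i))) (shift_closed (SU_closed n _)))
      (mono hA (SH n (SU n (Finset.Iic i)) (Dn n)) (SH_closed (SU_closed n _))) =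
      ((n - i - 1 : ℕ) : ℕ∞) := by
    rw [rl_mono hA _ _ _ _ (by
      rintro t ⟨ht1, ht2⟩
      refine ⟨Or.inr ht1, fun d hd => ⟨by rw [mem_Dn] at hd; omega, ?_⟩⟩
      rw [mem_Dn] at hd
      right
      omega) (2 * n) (by
      intro m hm
      exact ⟨by omega, Or.inr (by omega)⟩)]
    congr 1
    have : (Finset.range (2 * n)).filter (fun j => j ∈ SH n (SU n (Finset.Iic i)) (Dn n) ∧
        j ∉ shift n (SU n (Finset.Iic i))) = Finset.Ioo (n + i) (2 * n) := by
      ext j
      simp only [Finset.mem_filter, Finset.mem_range, Finset.mem_Ioo]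
      constructor
      · rintro ⟨hj2n, ⟨hjS, hjH⟩, hjs⟩
        have hnj : n ≤ j := by
          by_contra hlt
          push Not at hlt
          have h1 := (hjH (max j (i + 1) - j + n) (by rw [mem_Dn]; omega)).2
          rw [mem_SU, Finset.mem_Iic] at h1
          omega
        refine ⟨?_, hj2n⟩
        by_contra hle
        apply hjs
        refine ⟨hnj, Or.inl ?_⟩
        rw [Finset.mem_Iic]
        omega
      · rintro ⟨h1, h2⟩
        refine ⟨h2, ⟨Or.inr (by omega), fun d hd => ?_⟩, ?_⟩
        · rw [mem_Dn] at hd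
          exact ⟨by omega, Or.inr (by omega)⟩
        · rintro ⟨-, h3⟩
          rw [mem_SU, Finset.mem_Iic] at h3
          omega
    rw [this, Nat.card_Ioo]
    congr 1
    omega
  rw [hE, hH] at main
  have hcard : ((Finset.Iic i).erase 0).card = i := by
    rw [Finset.card_erase_of_mem (by simp), Nat.card_Iic]
    omega
  rw [hcard] at main
  have h2 : ((i * (n - 2 - i) : ℕ) : ℕ∞) + (i : ℕ∞) = i • ((n - i - 1 : ℕ) : ℕ∞) := by
    rw [nsmul_eq_mul]
    have : i * (n - 2 - i) + i = i * (n - i - 1) := by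
      have : n - i - 1 = (n - 2 - i) + 1 := by omega
      rw [this]
      ring
    exact_mod_cast this
  rw [← h2] at main
  exact ENat.add_left_injective_of_ne_top (ENat.natCast_ne_top i) main

end Groth.Agent.Helper7.MonExt
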