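import Mathlib
import Groth.Agent.Helper7.MonExtE

set_option autoImplicit false
universe u

/-!
# S15033: `ℓ Ext¹(R_{n-i}, R_{n-i}) = i (n - 1)` over the cubical ring
-/

namespace Groth.Agent.Helper7.MonExt

open PowerSeries Function CategoryTheory Abelian
open Groth.Agent.Helper6.TFC Groth.Agent.Helper7.CanDu Groth.Agent.Helper7.PSCan

theorem s15033 (k : Type u) [Field k] (n : ℕ) (hn : 2 ≤ n)
    (A : Subalgebra k (PowerSeries k))
    (hmono : ∀ f : PowerSeries k, f ∈ A ↔ ∀ m : ℕ, PowerSeries.coeff m f ≠ 0 → (m = 0 ∨ n ≤ m))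
    (i : ℕ) (hi : i + 2 ≤ n) :
    Module.length ↥A (Abelian.Ext
      (ModuleCat.of ↥A ↥(Submodule.span ↥A
        ((fun a : ℕ => (PowerSeries.X : PowerSeries k) ^ a) '' ({0} ∪ Set.Icc (n - i) (n - 1)))))
      (ModuleCat.of ↥A ↥(Submodule.span ↥A
        ((fun a : ℕ => (PowerSeries.X : PowerSeries k) ^ a) '' ({0} ∪ Set.Icc (n - i) (n - 1)))))
      1) = ((i * (n - 1) : ℕ) : ℕ∞) := by
  classical
  have hA : ∀ f : PowerSeries k, f ∈ A ↔ ∀ m : ℕ, coeff m f ≠ 0 → m ∈ Γn n := hmono
  set U : Finset ℕ := insert 0 (Finset.Icc (n - i) (n - 1)) with hU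
  have hmemU : ∀ m, m ∈ U ↔ (m = 0 ∨ (n - i ≤ m ∧ m ≤ n - 1)) := by
    intro m
    rw [hU, Finset.mem_insert, Finset.mem_Icc]
  have hspan : Submodule.span ↥A
      ((fun a : ℕ => (PowerSeries.X : PowerSeries k) ^ a) '' ({0} ∪ Set.Icc (n - i) (n - 1))) =
      mono hA (SU n U) (SU_closed n _) := by
    have : ({0} ∪ Set.Icc (n - i) (n - 1) : Set ℕ) = (U : Set ℕ) := by
      rw [hU, Finset.coe_insert, Finset.coe_Icc, Set.singleton_union]
    rw [this]
    exact span_eq_mono_Rn hA U (by rw [hmemU]; exact Or.inl rfl)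
  rw [hspan]
  have main := length_ext_Rn hA (by omega) U U (by rw [hmemU]; exact Or.inl rfl)
    (fun u hu => by rw [hmemU] at hu; omega)
  -- the E-count
  have hE : rl (mono hA (SE (SU n U) (SU n U)) (SE_closed (SU_closed n _)))
      (mono hA (SU n U) (SU_closed n _)) = 0 := by
    rw [rl_mono hA _ _ _ _ (fun t ht => ht.1) n (by
      intro m hm
      exact ⟨Or.inr hm, fun s _ => Or.inr (by omega)⟩)]
    have : (Finset.range n).filter (fun j => j ∈ SU n U ∧ j ∉ SE (SU n U) (SU n U)) = ∅ := by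
      rw [Finset.filter_eq_empty_iff]
      rintro j - ⟨hjS, hjE⟩
      apply hjE
      refine ⟨hjS, fun s hs => ?_⟩
      rw [mem_SU, hmemU] at hjS hs ⊢
      omega
    rw [this, Finset.card_empty]
    rfl
  -- the H-count
  have hH : rl (mono hA (shift n (SU n U)) (shift_closed (SU_closed n _)))
      (mono hA (SH n (SU n U) (Dn n)) (SH_closed (SU_closed n _))) = ((n - 1 : ℕ) : ℕ∞) := by
    rw [rl_mono hA _ _ _ _ (by
      rintro t ⟨ht1, ht2⟩
      refine ⟨Or.inr ht1, fun d hd => ⟨by rw [mem_Dn] at hd; omega, ?_⟩⟩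
      rw [mem_Dn] at hd
      right
      omega) (2 * n) (by
      intro m hm
      exact ⟨by omega, Or.inr (by omega)⟩)]
    congr 1
    have : (Finset.range (2 * n)).filter (fun j => j ∈ SH n (SU n U) (Dn n) ∧
        j ∉ shift n (SU n U)) = (Finset.Ico (n - i) (2 * n - i)).erase n := by
      ext j
      simp only [Finset.mem_filter, Finset.mem_range, Finset.mem_erase, Finset.mem_Ico]
      constructor
      · rintro ⟨hj2n, ⟨hjS, hjH⟩, hjs⟩
        have hnj : n - i ≤ j := by
          by_contra hlt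
          push Not at hlt
          have h1 := (hjH (max j 1 - j + n) (by rw [mem_Dn]; omega)).2
          rw [mem_SU, hmemU] at h1
          omega
        refine ⟨?_, hnj, ?_⟩
        · rintro rfl
          apply hjs
          refine ⟨le_rfl, Or.inl ?_⟩
          rw [hmemU]
          left
          omega
        · by_contra hge
          apply hjs
          refine ⟨by omega, Or.inl ?_⟩
          rw [hmemU]
          right
          omega
      · rintro ⟨hjn, h1, h2⟩
        refine ⟨by omega, ⟨?_, fun d hd => ?_⟩, ?_⟩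
        · rw [mem_SU, hmemU]
          omega
        · rw [mem_Dn] at hd
          refine ⟨by omega, ?_⟩
          rw [mem_SU, hmemU]
          omega
        · rintro ⟨h3, h4⟩
          rw [mem_SU, hmemU] at h4
          omega
    rw [this, Finset.card_erase_of_mem (by rw [Finset.mem_Ico]; omega), Nat.card_Ico]
    omega
  rw [hE, hH, add_zero] at main
  have hcard : (U.erase 0).card = i := by
    rw [hU, Finset.erase_insert (by rw [Finset.mem_Icc]; omega), Nat.card_Icc]
    omega
  rw [hcard, nsmul_eq_mul] at main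
  rw [main]
  push_cast
  rfl

end Groth.Agent.Helper7.MonExt
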