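import Mathlib
import Groth.Agent.Helper7.PSCanB

set_option autoImplicit false
universe u

/-!
# The value set of `ω : M` for a canonical ideal `ω` of `A ⊆ k⟦X⟧`
-/

namespace Groth.Agent.Helper7.PSCan

open PowerSeries Function CategoryTheory
open Groth.Agent.Helper6.TFC Groth.Agent.Helper7.CanDu

variable {k : Type u} [Field k] {A : Subalgebra k (PowerSeries k)}

theorem mem_one_iff (f : PowerSeries k) : f ∈ (1 : Submodule ↥A (PowerSeries k)) ↔ f ∈ A := by
  rw [Submodule.mem_one]
  constructor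
  · rintro ⟨a, rfl⟩
    exact a.2
  · intro h
    exact ⟨⟨f, h⟩, rfl⟩

theorem one_div_top
    (hcl : ∀ f : PowerSeries k,
      (∀ n : ℕ, ∃ g ∈ A, (n : ℕ∞) ≤ PowerSeries.order (f - g)) → f ∈ A)
    (Γ : Set ℕ) (hΓ : ∀ n : ℕ, n ∈ Γ ↔ ∃ f ∈ A, PowerSeries.order f = n) (c : ℕ)
    (hc : ∀ n : ℕ, c ≤ n → n ∈ Γ) (hc0 : c ≠ 0) (hc1 : c - 1 ∉ Γ) :
    (1 : Submodule ↥A (PowerSeries k)) / ⊤ = ordGE A c := by
  ext f
  rw [Submodule.mem_div_iff_forall_mul_mem, mem_ordGE,
    ← Groth.Agent.Helper7.NumSemi.conductor_iff A hcl Γ hΓ c hc hc0 hc1 f]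
  constructor
  · intro h g
    rw [mul_comm]
    exact (mem_one_iff _).1 (h g trivial)
  · intro h g _
    rw [mul_comm]
    exact (mem_one_iff _).2 (h g)

theorem gaps_ordGE (c : ℕ) : gaps (ordGE A c) c = c := by
  classical
  unfold gaps
  rw [Finset.filter_true_of_mem, Finset.card_range]
  intro i hi hiv
  obtain ⟨f, hf, hfo⟩ := hiv
  rw [mem_ordGE, hfo] at hf
  have : c ≤ i := by exact_mod_cast hf
  exact absurd (Finset.mem_range.1 hi) (by omega)

theorem main (hA : Module.Finite ↥A (PowerSeries k))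
    (hcl : ∀ f : PowerSeries k,
      (∀ n : ℕ, ∃ g ∈ A, (n : ℕ∞) ≤ PowerSeries.order (f - g)) → f ∈ A)
    (Γ : Set ℕ) (hΓ : ∀ n : ℕ, n ∈ Γ ↔ ∃ f ∈ A, PowerSeries.order f = n) (c : ℕ)
    (hc : ∀ n : ℕ, c ≤ n → n ∈ Γ) (hc0 : c ≠ 0) (hc1 : c - 1 ∉ Γ)
    (ω : Submodule ↥A (PowerSeries k)) (hω1 : (1 : PowerSeries k) ∈ ω) (hωfg : ω.FG)
    (hωinj : HasInjectiveDimensionLT (ModuleCat.of ↥A ↥ω) 2)
    (M : Submodule ↥A (PowerSeries k)) (hMfg : M.FG) (hM1 : (1 : PowerSeries k) ∈ M) (n : ℕ) :
    (∃ u : PowerSeries k, PowerSeries.order u = n ∧ ∀ m ∈ M, u * m ∈ ω) ↔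
      (c ≤ n ∨ ¬ ∃ m ∈ M, PowerSeries.order m = ((c - 1 - n : ℕ) : ℕ∞)) := by
  classical
  haveI := isNoetherianRing A hA
  haveI := isLocalRing A hA
  have hdim := ringKrullDim_eq_one A hA
  have hcond : ∀ f : PowerSeries k, (c : ℕ∞) ≤ order f → f ∈ A := fun f hf =>
    Groth.Agent.Helper7.NumSemi.mem_of_order_ge A hcl c (fun n hn => (hΓ n).1 (hc n hn)) f hf
  haveI : IsFractionRing ↥A (FractionRing (PowerSeries k)) := isFractionRing A c hcond
  have hinj : Injective (algebraMap (PowerSeries k) (FractionRing (PowerSeries k))) :=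
    IsFractionRing.injective _ _
  have hC1 : ordGE A c ≤ 1 := fun f hf => (mem_one_iff f).2 (hcond f hf)
  have h1ω : (1 : Submodule ↥A (PowerSeries k)) ≤ ω := Submodule.one_le.2 hω1
  have h1M : (1 : Submodule ↥A (PowerSeries k)) ≤ M := Submodule.one_le.2 hM1
  have hωtop : ω / (⊤ : Submodule ↥A (PowerSeries k)) = ordGE A c := by
    rw [div_top_eq (K := FractionRing (PowerSeries k)) hdim hinj ω hωfg hω1 hωinj,
      one_div_top hcl Γ hΓ c hc hc0 hc1]
  have hCN : ordGE A c ≤ ω / M := by
    rw [← hωtop]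
    intro x hx
    rw [Submodule.mem_div_iff_forall_mul_mem] at hx ⊢
    intro y _
    exact hx y trivial
  have hCM : ordGE A c ≤ M := hC1.trans h1M
  have hdual := duality_P (K := FractionRing (PowerSeries k)) hdim hinj ω hωfg hω1 hωinj
    (J := M) (I := ⊤) le_top hM1 (Module.Finite.fg_top)
  rw [hωtop] at hdual
  have c1 := rl_top_eq_gaps M c hCM
  have c2 := rl_top_eq_gaps (ω / M) c hCN
  have c3 := rl_top_eq_gaps (ordGE A c) c le_rfl
  have hadd := rl_add hCN (le_top : ω / M ≤ ⊤)
  have hsum : c = gaps M c + gaps (ω / M) c := by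
    rw [c3, hdual, c1, c2, gaps_ordGE] at hadd
    exact_mod_cast hadd
  -- the easy inclusion
  have heasy : ∀ i, i < c → i ∈ vset (ω / M) → c - 1 - i ∉ vset M := by
    rintro i hic ⟨u, hu, huo⟩ ⟨m, hm, hmo⟩
    have hw : u * m ∈ ω := Submodule.mem_div_iff_forall_mul_mem.1 hu m hm
    have hwo : order (u * m) = ((c - 1 : ℕ) : ℕ∞) := by
      rw [order_mul, huo, hmo]
      have : i + (c - 1 - i) = c - 1 := by omega
      exact_mod_cast this
    have hc1' : c - 1 + 1 = c := by omega
    have ha0 : coeff (c - 1) (u * m) ≠ 0 := (order_eq_nat.1 hwo).1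
    have hh := order_sub_leading (le_of_eq hwo.symm)
    rw [hc1'] at hh
    have hXω : (X : PowerSeries k) ^ (c - 1) ∈ ω := by
      have e : (X : PowerSeries k) ^ (c - 1) = (coeff (c - 1) (u * m))⁻¹ • (u * m) -
          (coeff (c - 1) (u * m))⁻¹ •
            (u * m - coeff (c - 1) (u * m) • (X : PowerSeries k) ^ (c - 1)) := by
        rw [smul_sub, smul_smul, inv_mul_cancel₀ ha0, one_smul]
        ring
      rw [e]
      exact Submodule.sub_mem _ (ksmul_mem ω _ hw)
        (ksmul_mem ω _ (h1ω (hC1 hh)))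
    have hXtop : (X : PowerSeries k) ^ (c - 1) ∈ ω / (⊤ : Submodule ↥A (PowerSeries k)) := by
      rw [Submodule.mem_div_iff_forall_mul_mem]
      intro p _
      have hq : (((c - 1 : ℕ)) : ℕ∞) ≤ order ((X : PowerSeries k) ^ (c - 1) * p) := by
        rw [order_mul, order_X_pow]
        exact le_self_add
      have hq' := order_sub_leading hq
      rw [hc1'] at hq'
      have e : (X : PowerSeries k) ^ (c - 1) * p =
          coeff (c - 1) ((X : PowerSeries k) ^ (c - 1) * p) • (X : PowerSeries k) ^ (c - 1) +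
            ((X : PowerSeries k) ^ (c - 1) * p -
              coeff (c - 1) ((X : PowerSeries k) ^ (c - 1) * p) • (X : PowerSeries k) ^ (c - 1)) := by
        ring
      rw [e]
      exact Submodule.add_mem _ (ksmul_mem ω _ hXω) (h1ω (hC1 hq'))
    rw [hωtop, mem_ordGE, order_X_pow] at hXtop
    have : c ≤ c - 1 := by exact_mod_cast hXtop
    omega
  -- counting
  have hcount : ∀ i, i < c → c - 1 - i ∉ vset M → i ∈ vset (ω / M) := by
    set S1 := (Finset.range c).filter (fun i => i ∈ vset (ω / M)) with hS1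
    set S2 := (Finset.range c).filter (fun i => c - 1 - i ∉ vset M) with hS2
    have hsub : S1 ⊆ S2 := by
      intro i hi
      rw [hS1, Finset.mem_filter, Finset.mem_range] at hi
      rw [hS2, Finset.mem_filter, Finset.mem_range]
      exact ⟨hi.1, heasy i hi.1 hi.2⟩
    have hcard2 : S2.card = gaps M c := by
      unfold gaps
      apply Finset.card_bij (fun i _ => c - 1 - i)
      · intro i hi
        rw [hS2, Finset.mem_filter, Finset.mem_range] at hi
        rw [Finset.mem_filter, Finset.mem_range]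
        exact ⟨by omega, hi.2⟩
      · intro i hi j hj hij
        rw [hS2, Finset.mem_filter, Finset.mem_range] at hi hj
        omega
      · intro g hg
        rw [Finset.mem_filter, Finset.mem_range] at hg
        refine ⟨c - 1 - g, ?_, by omega⟩
        rw [hS2, Finset.mem_filter, Finset.mem_range]
        refine ⟨by omega, ?_⟩
        have : c - 1 - (c - 1 - g) = g := by omega
        rw [this]
        exact hg.2
    have hcard1 : S1.card + gaps (ω / M) c = c := by
      unfold gaps
      rw [hS1]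
      have := Finset.card_filter_add_card_filter_not (s := Finset.range c)
        (fun i => i ∈ vset (ω / M))
      rw [Finset.card_range] at this
      exact this
    have hS : S1 = S2 := Finset.eq_of_subset_of_card_le hsub (by omega)
    intro i hic hi
    have : i ∈ S2 := by
      rw [hS2, Finset.mem_filter, Finset.mem_range]
      exact ⟨hic, hi⟩
    rw [← hS, hS1, Finset.mem_filter] at this
    exact this.2
  have hbig : ∀ j : ℕ, c ≤ j →
      ∃ u : PowerSeries k, PowerSeries.order u = j ∧ ∀ m ∈ M, u * m ∈ ω := by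
    intro j hj
    refine ⟨(X : PowerSeries k) ^ j, order_X_pow j, fun m _ => ?_⟩
    apply h1ω
    rw [mem_one_iff]
    apply hcond
    rw [order_mul, order_X_pow]
    exact le_trans (by exact_mod_cast hj) le_self_add
  constructor
  · rintro ⟨u, hu, hum⟩
    by_cases hcn : c ≤ n
    · left; exact hcn
    · right
      have hun : n ∈ vset (ω / M) := ⟨u, Submodule.mem_div_iff_forall_mul_mem.2 hum, hu⟩
      exact fun h => heasy n (by omega) hun h
  · rintro (hcn | hgap)
    · exact hbig n hcn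
    · by_cases hcn : c ≤ n
      · exact hbig n hcn
      · obtain ⟨u, huN, huo⟩ := hcount n (by omega) hgap
        exact ⟨u, huo, Submodule.mem_div_iff_forall_mul_mem.1 huN⟩

end Groth.Agent.Helper7.PSCan
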