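import Mathlib
import Groth.Agent.Helper7.PSCanC

set_option autoImplicit false
universe u

/-!
# Subalgebras `A ⊆ k⟦X⟧` with `k⟦X⟧` finite and birational over `A`: conductor, residue field,
integral closure, and `k`-dimension of quotients via gaps
-/

namespace Groth.Agent.Helper7.PSCan

open PowerSeries Function
open Groth.Agent.Helper6.TFC Groth.Agent.Helper7.CanDu

variable {k : Type u} [Field k] {A : Subalgebra k (PowerSeries k)}

/-- a nonzero element of `A` multiplying all of `k⟦X⟧` into `A` -/
theorem exists_mul_mem (hA : Module.Finite ↥A (PowerSeries k))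
    (hbir : ∀ f : PowerSeries k, ∃ a ∈ A, a ≠ 0 ∧ a * f ∈ A) :
    ∃ a ∈ A, a ≠ 0 ∧ ∀ f : PowerSeries k, a * f ∈ A := by
  classical
  obtain ⟨s, hs⟩ := hA.fg_top
  choose a haA ha0 haf using hbir
  refine ⟨∏ g ∈ s, a g, Subalgebra.prod_mem _ (fun g _ => haA g),
    Finset.prod_ne_zero_iff.2 (fun g _ => ha0 g), ?_⟩
  intro f
  have hf : f ∈ Submodule.span ↥A (s : Set (PowerSeries k)) := by rw [hs]; trivial
  induction hf using Submodule.span_induction with
  | mem g hg =>
    rw [← Finset.prod_erase_mul _ _ hg, mul_assoc]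
    exact A.mul_mem (Subalgebra.prod_mem _ (fun g' _ => haA g')) (haf g)
  | zero => rw [mul_zero]; exact A.zero_mem
  | add x y _ _ hx hy => rw [mul_add]; exact A.add_mem hx hy
  | smul r x _ hx =>
    have : (∏ g ∈ s, a g) * (r • x) = (r : PowerSeries k) * ((∏ g ∈ s, a g) * x) := by
      rw [Subalgebra.smul_def]
      simp only [smul_eq_mul]
      ring
    rw [this]
    exact A.mul_mem r.2 hx

/-- the conductor exists -/
theorem exists_conductor (hA : Module.Finite ↥A (PowerSeries k))
    (hbir : ∀ f : PowerSeries k, ∃ a ∈ A, a ≠ 0 ∧ a * f ∈ A) :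
    ∃ c : ℕ, ∀ f : PowerSeries k, (c : ℕ∞) ≤ order f → f ∈ A := by
  obtain ⟨a, haA, ha0, haf⟩ := exists_mul_mem hA hbir
  obtain ⟨n, hn⟩ : ∃ n : ℕ, n = (order a).toNat := ⟨_, rfl⟩
  refine ⟨n, fun f hf => ?_⟩
  obtain ⟨g, rfl⟩ := exists_eq_X_pow_mul hf
  have hav : (X : PowerSeries k) ^ n * divXPowOrder a = a := by
    rw [hn]; exact X_pow_order_mul_divXPowOrder
  have hvu : IsUnit (divXPowOrder a) := by
    rw [isUnit_iff_constantCoeff]
    exact IsUnit.mk0 _ (fun h => ha0 (constantCoeff_divXPowOrder_eq_zero_iff.mp h))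
  obtain ⟨v, hv⟩ := hvu
  have h1 : (v : PowerSeries k) * (↑v⁻¹ : PowerSeries k) = 1 := v.mul_inv
  have : (X : PowerSeries k) ^ n * g = a * ((↑v⁻¹ : PowerSeries k) * g) := by
    calc (X : PowerSeries k) ^ n * g
        = (X : PowerSeries k) ^ n * ((v : PowerSeries k) * ↑v⁻¹) * g := by
          rw [h1, mul_one]
      _ = ((X : PowerSeries k) ^ n * divXPowOrder a) * ((↑v⁻¹ : PowerSeries k) * g) := by
          rw [← hv]; ring
      _ = _ := by rw [hav]
  rw [this]
  exact haf _

/-- the residue field of `A` is `k` -/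
theorem isAlgClosed_residueField [IsAlgClosed k] (hA : Module.Finite ↥A (PowerSeries k))
    [IsLocalRing ↥A] : IsAlgClosed (IsLocalRing.ResidueField ↥A) := by
  let φ : ↥A →+* k := (constantCoeff (R := k)).comp A.val.toRingHom
  have hφ : Surjective φ := by
    intro a
    refine ⟨algebraMap k ↥A a, ?_⟩
    show constantCoeff ((algebraMap k ↥A a : ↥A) : PowerSeries k) = a
    have : ((algebraMap k ↥A a : ↥A) : PowerSeries k) = C a := rfl
    rw [this, constantCoeff_C]
  have hker : RingHom.ker φ = IsLocalRing.maximalIdeal ↥A := by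
    ext x
    rw [RingHom.mem_ker, IsLocalRing.mem_maximalIdeal, mem_nonunits_iff]
    constructor
    · intro h hu
      have h1 : IsUnit ((x : ↥A) : PowerSeries k) := hu.map A.val
      rw [isUnit_iff_constantCoeff] at h1
      have h2 : constantCoeff ((x : ↥A) : PowerSeries k) = 0 := h
      rw [h2] at h1
      exact not_isUnit_zero h1
    · intro h
      exact constantCoeff_eq_zero_of_not_isUnit A hA x h
  let e : IsLocalRing.ResidueField ↥A ≃+* k :=
    (Ideal.quotEquivOfEq hker.symm).trans (RingHom.quotientKerEquivOfSurjective hφ)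
  exact IsAlgClosed.of_ringEquiv k _ e.symm


section IntegralClosure

variable {K : Type u} [Field K] [Algebra (PowerSeries k) K] [IsFractionRing (PowerSeries k) K]

/-- elements of `K` integral over `A` come from `k⟦X⟧` -/
theorem exists_of_mem_integralClosure (x : K) (hx : x ∈ integralClosure ↥A K) :
    ∃ g : PowerSeries k, algebraMap (PowerSeries k) K g = x := by
  have h1 : IsIntegral ↥A x := hx
  have h2 : IsIntegral (PowerSeries k) x := h1.tower_top
  exact IsIntegrallyClosed.isIntegral_iff.1 h2

/-- the integral closure of `A` in `K` is a finite `A`-module -/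
theorem finite_integralClosure (hA : Module.Finite ↥A (PowerSeries k)) :
    Module.Finite ↥A ↥(integralClosure ↥A K) := by
  haveI := isNoetherianRing A hA
  haveI := hA
  let ι : PowerSeries k →ₗ[↥A] K := (Algebra.linearMap (PowerSeries k) K).restrictScalars ↥A
  have hfg : (LinearMap.range ι).FG := by
    rw [LinearMap.range_eq_map]
    exact Submodule.FG.map _ Module.Finite.fg_top
  have hle : Subalgebra.toSubmodule (integralClosure ↥A K) ≤ LinearMap.range ι := by
    intro x hx
    obtain ⟨g, hg⟩ := exists_of_mem_integralClosure x hx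
    exact ⟨g, hg⟩
  exact Module.Finite.iff_fg.2 (Submodule.FG.of_le hfg hle)

end IntegralClosure

section KDim

/-- the filtration step over `k` has length one at a gap -/
theorem step_rl_k (N : Submodule ↥A (PowerSeries k)) {i : ℕ} (hi : i ∉ vset N) :
    rl ((N ⊔ ordGE A (i + 1)).restrictScalars k) ((N ⊔ ordGE A i).restrictScalars k) = 1 := by
  refine rl_eq_one_of_cyclic ((N ⊔ ordGE A (i + 1)).restrictScalars k)
    ((N ⊔ ordGE A i).restrictScalars k) ((X : PowerSeries k) ^ i)
    (Submodule.mem_sup_right (X_pow_mem_ordGE i) : _ ∈ N ⊔ ordGE A i) (X_pow_notMem N hi) ?_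
  intro f hf hfn f' hf'
  obtain ⟨a, ha⟩ := exists_leading N i hf
  obtain ⟨b, hb⟩ := exists_leading N i hf'
  have ha0 : a ≠ 0 := by
    rintro rfl
    apply hfn
    have h0 : f ∈ N ⊔ ordGE A (i + 1) := by simpa using ha
    exact h0
  refine ⟨b / a, ?_⟩
  show (b / a) • f - f' ∈ N ⊔ ordGE A (i + 1)
  have e1 : (b / a) • f - f' = (b / a) • (f - a • (X : PowerSeries k) ^ i) -
      (f' - b • (X : PowerSeries k) ^ i) := by
    rw [smul_sub, smul_smul, div_mul_cancel₀ _ ha0]
    ring
  rw [e1]
  exact Submodule.sub_mem _ (ksmul_mem _ _ ha) hb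

open Classical in
theorem rl_k_top_eq_gaps (N : Submodule ↥A (PowerSeries k)) (c : ℕ) (hX : ordGE A c ≤ N) :
    rl (N.restrictScalars k) ⊤ = (gaps N c : ℕ∞) := by
  have key : ∀ d : ℕ, d ≤ c → rl (N.restrictScalars k) ((N ⊔ ordGE A (c - d)).restrictScalars k) =
      (((Finset.Ico (c - d) c).filter (fun i => i ∉ vset N)).card : ℕ∞) := by
    intro d
    induction d with
    | zero =>
      intro _
      rw [Nat.sub_zero, sup_eq_left.2 hX, rl_self, Finset.Ico_self]
      simp
    | succ d ih =>
      intro hd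
      have h1 := ih (Nat.le_of_succ_le hd)
      have hi : c - (d + 1) + 1 = c - d := by omega
      set i := c - (d + 1) with hidef
      have hadd := rl_add (A := N.restrictScalars k)
        (B := (N ⊔ ordGE A (i + 1)).restrictScalars k)
        (C := (N ⊔ ordGE A i).restrictScalars k)
        (fun x hx => (le_sup_left : N ≤ N ⊔ ordGE A (i + 1)) hx)
        (fun x hx => (sup_le_sup_left (ordGE_anti (Nat.le_succ i)) N) hx)
      rw [hi] at hadd
      rw [hadd, h1]
      have hIco : Finset.Ico i c = insert i (Finset.Ico (c - d) c) := by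
        rw [← hi]
        exact (Finset.insert_Ico_add_one_left_eq_Ico (by omega : i < c)).symm
      rw [hIco, Finset.filter_insert]
      by_cases hiv : i ∈ vset N
      · rw [if_neg (not_not.2 hiv)]
        have := step_eq N hiv
        rw [hi] at this
        rw [this, rl_self, add_zero]
      · rw [if_pos hiv, Finset.card_insert_of_notMem (by simp [← hi])]
        have := step_rl_k N hiv
        rw [hi] at this
        rw [this]
        push_cast
        rfl
  have := key c le_rfl
  rw [Nat.sub_self, ordGE_zero, sup_top_eq] at this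
  rw [gaps, Finset.range_eq_Ico, ← this]
  rfl

/-- `rl N ⊤` is the length of the quotient -/
theorem rl_top_eq_length {R : Type*} [CommRing R] {M : Type*} [AddCommGroup M] [Module R M]
    (N : Submodule R M) : rl N ⊤ = Module.length R (M ⧸ N) := by
  rw [rl_def]
  refine (Submodule.Quotient.equiv _ _ (Submodule.topEquiv : ↥(⊤ : Submodule R M) ≃ₗ[R] M) ?_).length_eq
  ext y
  simp only [Submodule.mem_map, Submodule.mem_comap, Submodule.subtype_apply]
  constructor
  · rintro ⟨x, hx, rfl⟩
    exact hx
  · intro hy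
    exact ⟨⟨y, trivial⟩, hy, rfl⟩

/-- the `k`-codimension of a submodule containing `X^c k⟦X⟧` is the number of gaps -/
theorem finrank_quotient_eq_gaps (N : Submodule ↥A (PowerSeries k)) (c : ℕ)
    (hX : ordGE A c ≤ N) :
    Module.finrank k (PowerSeries k ⧸ N.restrictScalars k) = gaps N c := by
  have h1 := rl_k_top_eq_gaps N c hX
  rw [rl_top_eq_length, Module.length_eq_rank] at h1
  rw [Module.finrank]
  have := congrArg ENat.toNat h1
  simpa using this

end KDim

end Groth.Agent.Helper7.PSCan
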