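import Mathlib
import Groth.Agent.Helper7.MonExtE
import Groth.Agent.Helper7.PSCanD

set_option autoImplicit false
universe u

/-!
# S15032: `ℓ Ext¹(k⟦X⟧, k⟦X⟧) = (n-1)² + ℓ(End/A)` over the cubical ring
-/

namespace Groth.Agent.Helper7.MonExt

open PowerSeries Function CategoryTheory Abelian
open Groth.Agent.Helper6.TFC Groth.Agent.Helper7.CanDu Groth.Agent.Helper7.PSCan

/-- `Ext` lengths are invariant under isomorphisms of both arguments -/
theorem length_ext_of_iso {R : Type u} [CommRing R] {X X' Y Y' : ModuleCat.{u} R}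
    (eX : X ≅ X') (eY : Y ≅ Y') (n : ℕ) :
    Module.length R (Ext X Y n) = Module.length R (Ext X' Y' n) := by
  let F : Ext X Y n ≃ₗ[R] Ext X' Y' n :=
    { toFun := fun x => (Ext.mk₀ eX.inv).comp (x.comp (Ext.mk₀ eY.hom) (add_zero n))
        (zero_add n)
      invFun := fun x' => (Ext.mk₀ eX.hom).comp (x'.comp (Ext.mk₀ eY.inv) (add_zero n))
        (zero_add n)
      left_inv := by
        intro x
        simp only
        rw [Ext.comp_assoc_of_third_deg_zero, Ext.comp_assoc_of_third_deg_zero,
          Ext.mk₀_comp_mk₀, eY.hom_inv_id, Ext.comp_mk₀_id,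
          ← Ext.comp_assoc (Ext.mk₀ eX.hom) (Ext.mk₀ eX.inv) x
          (add_zero 0) (zero_add n) (by omega), Ext.mk₀_comp_mk₀, eX.hom_inv_id,
          Ext.mk₀_id_comp]
      right_inv := by
        intro x
        simp only
        rw [Ext.comp_assoc_of_third_deg_zero, Ext.comp_assoc_of_third_deg_zero,
          Ext.mk₀_comp_mk₀, eY.inv_hom_id, Ext.comp_mk₀_id,
          ← Ext.comp_assoc (Ext.mk₀ eX.inv) (Ext.mk₀ eX.hom) x
          (add_zero 0) (zero_add n) (by omega), Ext.mk₀_comp_mk₀, eX.inv_hom_id,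
          Ext.mk₀_id_comp]
      map_add' := by
        intro x y
        show (Ext.mk₀ eX.inv).comp ((x + y).comp (Ext.mk₀ eY.hom) (add_zero n)) (zero_add n) =
          (Ext.mk₀ eX.inv).comp (x.comp (Ext.mk₀ eY.hom) (add_zero n)) (zero_add n) +
          (Ext.mk₀ eX.inv).comp (y.comp (Ext.mk₀ eY.hom) (add_zero n)) (zero_add n)
        rw [Ext.add_comp, Ext.comp_add]
      map_smul' := by
        intro r x
        show (Ext.mk₀ eX.inv).comp ((r • x).comp (Ext.mk₀ eY.hom) (add_zero n)) (zero_add n) =
          r • (Ext.mk₀ eX.inv).comp (x.comp (Ext.mk₀ eY.hom) (add_zero n)) (zero_add n)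
        rw [Ext.smul_comp, Ext.comp_smul] }
  exact F.length_eq

theorem s15032 (k : Type u) [Field k] (n : ℕ) (hn : 2 ≤ n)
    (A : Subalgebra k (PowerSeries k))
    (hmono : ∀ f : PowerSeries k, f ∈ A ↔ ∀ m : ℕ, PowerSeries.coeff m f ≠ 0 → (m = 0 ∨ n ≤ m)) :
    Module.length ↥A (Abelian.Ext (ModuleCat.of ↥A (PowerSeries k))
      (ModuleCat.of ↥A (PowerSeries k)) 1) =
    (((n - 1) ^ 2 : ℕ) : ℕ∞) + Module.length ↥A ((PowerSeries k →ₗ[↥A] PowerSeries k) ⧸
      LinearMap.range (Algebra.lsmul ↥A ↥A (PowerSeries k) :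
        ↥A →ₐ[↥A] Module.End ↥A (PowerSeries k)).toLinearMap) := by
  classical
  have hA : ∀ f : PowerSeries k, f ∈ A ↔ ∀ m : ℕ, coeff m f ≠ 0 → m ∈ Γn n := hmono
  set U : Finset ℕ := Finset.range n with hU
  have hall : ∀ m, m ∈ SU n U := by
    intro m
    rw [mem_SU, hU, Finset.mem_range]
    omega
  have htop : mono hA (SU n U) (SU_closed n _) = ⊤ := by
    rw [eq_top_iff]
    intro f _ m _
    exact hall m
  -- the Ext side
  have hExt : Module.length ↥A (Abelian.Ext (ModuleCat.of ↥A (PowerSeries k))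
      (ModuleCat.of ↥A (PowerSeries k)) 1) = (((n - 1) * n : ℕ) : ℕ∞) := by
    have e : ModuleCat.of ↥A (PowerSeries k) ≅
        ModuleCat.of ↥A ↥(mono hA (SU n U) (SU_closed n _)) :=
      (((LinearEquiv.ofEq _ _ htop).trans Submodule.topEquiv).symm).toModuleIso
    rw [length_ext_of_iso e e 1]
    have main := length_ext_Rn hA (by omega) U U (by rw [hU, Finset.mem_range]; omega)
      (fun u hu => by rwa [hU, Finset.mem_range] at hu)
    have hE : rl (mono hA (SE (SU n U) (SU n U)) (SE_closed (SU_closed n _)))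
        (mono hA (SU n U) (SU_closed n _)) = 0 := by
      rw [rl_mono hA _ _ _ _ (fun t ht => ht.1) n (by
        intro m hm
        exact ⟨Or.inr hm, fun s _ => Or.inr (by omega)⟩)]
      have : (Finset.range n).filter (fun j => j ∈ SU n U ∧ j ∉ SE (SU n U) (SU n U)) = ∅ := by
        rw [Finset.filter_eq_empty_iff]
        rintro j - ⟨hjS, hjE⟩
        exact hjE ⟨hjS, fun s _ => hall _⟩
      rw [this, Finset.card_empty]
      rfl
    have hH : rl (mono hA (shift n (SU n U)) (shift_closed (SU_closed n _)))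
        (mono hA (SH n (SU n U) (Dn n)) (SH_closed (SU_closed n _))) = (n : ℕ∞) := by
      rw [rl_mono hA _ _ _ _ (by
        rintro t ⟨ht1, ht2⟩
        refine ⟨hall _, fun d hd => ⟨by rw [mem_Dn] at hd; omega, hall _⟩⟩) (2 * n) (by
        intro m hm
        exact ⟨by omega, hall _⟩)]
      congr 1
      have : (Finset.range (2 * n)).filter (fun j => j ∈ SH n (SU n U) (Dn n) ∧
          j ∉ shift n (SU n U)) = Finset.range n := by
        ext j
        simp only [Finset.mem_filter, Finset.mem_range]
        constructor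
        · rintro ⟨-, -, hjs⟩
          by_contra hge
          exact hjs ⟨by omega, hall _⟩
        · intro hjn
          refine ⟨by omega, ⟨hall _, fun d hd => ?_⟩, ?_⟩
          · rw [mem_Dn] at hd
            exact ⟨by omega, hall _⟩
          · rintro ⟨h3, -⟩
            omega
      rw [this, Finset.card_range]
    rw [hE, hH, add_zero] at main
    have hcard : (U.erase 0).card = n - 1 := by
      rw [Finset.card_erase_of_mem (by rw [hU, Finset.mem_range]; omega), hU, Finset.card_range]
    rw [hcard, nsmul_eq_mul] at main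
    rw [main]
    push_cast
    rfl
  -- the End side
  have hEnd : Module.length ↥A ((PowerSeries k →ₗ[↥A] PowerSeries k) ⧸
      LinearMap.range (Algebra.lsmul ↥A ↥A (PowerSeries k) :
        ↥A →ₐ[↥A] Module.End ↥A (PowerSeries k)).toLinearMap) = ((n - 1 : ℕ) : ℕ∞) := by
    have hXn : (X : PowerSeries k) ^ n ≠ 0 := pow_ne_zero n X_ne_zero
    have hmul : ∀ (φ : PowerSeries k →ₗ[↥A] PowerSeries k) (f : PowerSeries k),
        φ f = f * φ 1 := by
      intro φ f
      have hmem : (X : PowerSeries k) ^ n * f ∈ A := by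
        rw [hA]
        intro m hm
        obtain ⟨p, q, hpq, hp, hq⟩ := exists_of_coeff_mul_ne_zero hm
        rw [coeff_X_pow] at hp
        by_cases hpc : p = n
        · right
          omega
        · rw [if_neg hpc] at hp
          exact absurd rfl hp
      have hXA : (X : PowerSeries k) ^ n ∈ A := by
        rw [hA]
        intro m hm
        rw [coeff_X_pow] at hm
        by_cases hmn : m = n
        · right
          omega
        · rw [if_neg hmn] at hm
          exact absurd rfl hm
      have e1 : φ ((⟨X ^ n * f, hmem⟩ : ↥A) • (1 : PowerSeries k)) =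
          (⟨X ^ n * f, hmem⟩ : ↥A) • φ 1 := map_smul φ _ _
      have e2 : φ ((⟨X ^ n, hXA⟩ : ↥A) • f) = (⟨X ^ n, hXA⟩ : ↥A) • φ f := map_smul φ _ _
      have e3 : (⟨X ^ n * f, hmem⟩ : ↥A) • (1 : PowerSeries k) = (⟨X ^ n, hXA⟩ : ↥A) • f := by
        show (X ^ n * f) * 1 = X ^ n * f
        rw [mul_one]
      rw [e3, e2] at e1
      have e4 : (X : PowerSeries k) ^ n * φ f = X ^ n * (f * φ 1) := by
        have : (X : PowerSeries k) ^ n * φ f = (X ^ n * f) * φ 1 := e1
        rw [this, mul_assoc]
      exact mul_left_cancel₀ hXn e4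
    let ev : (PowerSeries k →ₗ[↥A] PowerSeries k) →ₗ[↥A] PowerSeries k :=
      LinearMap.applyₗ (1 : PowerSeries k)
    have hev : Bijective ev := by
      constructor
      · intro φ ψ h
        apply LinearMap.ext
        intro f
        rw [hmul φ f, hmul ψ f]
        have : φ 1 = ψ 1 := h
        rw [this]
      · intro g
        refine ⟨LinearMap.mulRight ↥A g, ?_⟩
        show (1 : PowerSeries k) * g = g
        rw [one_mul]
    have hq := (Submodule.Quotient.equiv
      (LinearMap.range (Algebra.lsmul ↥A ↥A (PowerSeries k) :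
        ↥A →ₐ[↥A] Module.End ↥A (PowerSeries k)).toLinearMap)
      (mono hA (Γn n) (fun g hg s hs => add_mem_Γ hA hg hs))
      (LinearEquiv.ofBijective ev hev) (by
        ext f
        rw [Submodule.mem_map, mem_mono]
        constructor
        · rintro ⟨_, ⟨a, rfl⟩, rfl⟩
          intro m hm
          change coeff m ((a : PowerSeries k) * 1) ≠ 0 at hm
          rw [mul_one] at hm
          exact (hA _).1 a.2 m hm
        · intro hf
          have hfA : f ∈ A := (hA f).2 hf
          refine ⟨_, ⟨⟨f, hfA⟩, rfl⟩, ?_⟩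
          show f * 1 = f
          rw [mul_one])).length_eq
    rw [hq, ← rl_top_eq_length, rl_top_eq_gaps
      (mono hA (Γn n) (fun g hg s hs => add_mem_Γ hA hg hs)) n
      (ordGE_le_mono hA (Γn n) (fun g hg s hs => add_mem_Γ hA hg hs) n
      (fun m hm => Or.inr hm))]
    congr 1
    unfold gaps
    rw [vset_mono]
    have : (Finset.range n).filter (fun j => j ∉ Γn n) = Finset.Ico 1 n := by
      ext j
      simp only [Finset.mem_filter, Finset.mem_range, Finset.mem_Ico, mem_Γn]
      omega
    rw [this, Nat.card_Ico]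
  rw [hExt, hEnd]
  have : (n - 1) * n = (n - 1) ^ 2 + (n - 1) := by
    obtain ⟨m, rfl⟩ : ∃ m, n = m + 1 := ⟨n - 1, by omega⟩
    simp only [Nat.add_sub_cancel]
    ring
  rw [this]
  push_cast
  rfl

end Groth.Agent.Helper7.MonExt
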