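import Mathlib
import Groth.Agent.Helper7.MonExtD

set_option autoImplicit false
universe u

/-!
# Two-generated monomial modules `A + A X^a`
-/

namespace Groth.Agent.Helper7.MonExt

open PowerSeries Function CategoryTheory Abelian
open Groth.Agent.Helper6.TFC Groth.Agent.Helper7.CanDu Groth.Agent.Helper7.PSCan

variable {k : Type u} [Field k] {A : Subalgebra k (PowerSeries k)} {Γ : Set ℕ}
  (hA : ∀ f : PowerSeries k, f ∈ A ↔ ∀ n : ℕ, coeff n f ≠ 0 → n ∈ Γ)

/-- exponents of `A + A X^a` -/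
def S2 (Γ : Set ℕ) (a : ℕ) : Set ℕ := {m | m ∈ Γ ∨ (a ≤ m ∧ m - a ∈ Γ)}

/-- exponents of `A : X^a` -/
def D2 (Γ : Set ℕ) (a : ℕ) : Set ℕ := {γ | γ ∈ Γ ∧ γ + a ∈ Γ}

theorem mem_S2 {a m : ℕ} : m ∈ S2 Γ a ↔ (m ∈ Γ ∨ (a ≤ m ∧ m - a ∈ Γ)) := Iff.rfl
theorem mem_D2 {a m : ℕ} : m ∈ D2 Γ a ↔ (m ∈ Γ ∧ m + a ∈ Γ) := Iff.rfl

include hA in
theorem S2_closed (a : ℕ) : ∀ g ∈ Γ, ∀ s ∈ S2 Γ a, g + s ∈ S2 Γ a := by
  rintro g hg s (hs | ⟨h1, h2⟩)
  · exact Or.inl (add_mem_Γ hA hg hs)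
  · refine Or.inr ⟨by omega, ?_⟩
    have : g + s - a = g + (s - a) := by omega
    rw [this]
    exact add_mem_Γ hA hg h2

include hA in
theorem D2_closed (a : ℕ) : ∀ g ∈ Γ, ∀ s ∈ D2 Γ a, g + s ∈ D2 Γ a := by
  rintro g hg s ⟨h1, h2⟩
  refine ⟨add_mem_Γ hA hg h1, ?_⟩
  rw [add_assoc]
  exact add_mem_Γ hA hg h2

theorem span_pair_eq_mono (a : ℕ) (ha0 : a ≠ 0) :
    Submodule.span ↥A ({1, (X : PowerSeries k) ^ a} : Set (PowerSeries k)) =
      mono hA (S2 Γ a) (S2_closed hA a) := by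
  classical
  have h0 := zero_mem_Γ hA
  have himg : ({1, (X : PowerSeries k) ^ a} : Set (PowerSeries k)) =
      (fun b : ℕ => (X : PowerSeries k) ^ b) '' (({0, a} : Finset ℕ) : Set ℕ) := by
    rw [Finset.coe_insert, Finset.coe_singleton, Set.image_pair, pow_zero]
  rw [himg]
  refine span_eq_mono hA {0, a} (S2 Γ a) (S2_closed hA a) ?_
    (fun m => if m ∈ Γ then 0 else a) ?_
  · intro b hb
    rw [Finset.mem_insert, Finset.mem_singleton] at hb
    rcases hb with rfl | rfl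
    · exact Or.inl h0
    · exact Or.inr ⟨le_rfl, by rw [Nat.sub_self]; exact h0⟩
  · intro m hm
    by_cases hmΓ : m ∈ Γ
    · rw [if_pos hmΓ]
      exact ⟨by simp, Nat.zero_le _, hmΓ⟩
    · rw [if_neg hmΓ]
      rcases hm with h | ⟨h1, h2⟩
      · exact absurd h hmΓ
      · exact ⟨by simp, h1, h2⟩

/-- the formula for two-generated modules -/
theorem length_ext_two_gen (a : ℕ) (ha : a ∉ Γ) (SN : Set ℕ)
    (hSN : ∀ g ∈ Γ, ∀ s ∈ SN, g + s ∈ SN) (c : ℕ) (hc : c ∈ Γ) (hca : c + a ∈ Γ) :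
    Module.length ↥A (Ext (ModuleCat.of ↥A ↥(mono hA (S2 Γ a) (S2_closed hA a)))
        (ModuleCat.of ↥A ↥(mono hA SN hSN)) 1) +
      rl (mono hA (SE (S2 Γ a) SN) (SE_closed hSN)) (mono hA SN hSN) =
    rl (mono hA (shift c SN) (shift_closed hSN))
      (mono hA (SH c SN (D2 Γ a)) (SH_closed hSN)) := by
  classical
  have h0 := zero_mem_Γ hA
  have ha0 : a ≠ 0 := by
    rintro rfl
    exact ha h0
  have main := length_ext_mono hA {a} (S2 Γ a) SN (D2 Γ a) (S2_closed hA a) hSN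
    (D2_closed hA a) (fun _ h => h.1) c hc (Or.inl h0)
    (by rw [Finset.mem_singleton]; exact fun h => ha0 h.symm)
    (by
      intro g hg
      rw [Finset.mem_singleton] at hg
      rw [hg]
      exact Or.inr ⟨le_rfl, by rw [Nat.sub_self]; exact h0⟩)
    (by
      rintro s (hs | ⟨h1, h2⟩)
      · exact add_mem_Γ hA hc hs
      · have : c + s = (c + a) + (s - a) := by omega
        rw [this]
        exact add_mem_Γ hA hca h2)
    (fun m => if m ∈ Γ then 0 else a)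
    (by
      intro m hm
      by_cases hmΓ : m ∈ Γ
      · rw [if_pos hmΓ]
        exact ⟨by simp, Nat.zero_le _, hmΓ⟩
      · rw [if_neg hmΓ]
        rcases hm with h | ⟨h1, h2⟩
        · exact absurd h hmΓ
        · exact ⟨by simp, h1, h2⟩)
    (by
      intro g hg g' hg' hne
      rw [Finset.mem_singleton] at hg hg'
      exact absurd (hg.trans hg'.symm) hne)
    (by
      intro g hg γ hγ
      rw [Finset.mem_singleton] at hg
      rw [hg, mem_D2]
      exact ⟨fun h => ⟨hγ, h⟩, fun h => h.2⟩)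
  rw [Finset.card_singleton, one_smul] at main
  exact main

end Groth.Agent.Helper7.MonExt
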