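import Mathlib
import Groth.Agent.Helper7.MonExtI

set_option autoImplicit false
universe u

/-!
# S15030: `ℓ Ext¹(M_i, M_j) = 2 min(i,j)` over `k⟦t², t^{2δ+1}⟧`
-/

namespace Groth.Agent.Helper7.MonExt

open PowerSeries Function CategoryTheory Abelian
open Groth.Agent.Helper6.TFC Groth.Agent.Helper7.CanDu Groth.Agent.Helper7.PSCan

/-- the semigroup `⟨2, 2δ+1⟩` -/
def Γ2 (δ : ℕ) : Set ℕ := {m | m % 2 = 0 ∨ 2 * δ + 1 ≤ m}

theorem mem_Γ2 {δ m : ℕ} : m ∈ Γ2 δ ↔ (m % 2 = 0 ∨ 2 * δ + 1 ≤ m) := Iff.rfl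

theorem mem_closure_two_iff (δ m : ℕ) :
    m ∈ AddSubmonoid.closure ({2, 2 * δ + 1} : Set ℕ) ↔ m ∈ Γ2 δ := by
  constructor
  · intro h
    induction h using AddSubmonoid.closure_induction with
    | mem x hx =>
      rcases hx with rfl | hx
      · exact Or.inl rfl
      · rw [Set.mem_singleton_iff] at hx
        rw [hx]
        exact Or.inr le_rfl
    | zero => exact Or.inl rfl
    | add x y _ _ hx hy =>
      rw [mem_Γ2] at hx hy ⊢
      omega
  · intro h
    have h2 : (2 : ℕ) ∈ AddSubmonoid.closure ({2, 2 * δ + 1} : Set ℕ) :=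
      AddSubmonoid.subset_closure (by simp)
    have h3 : 2 * δ + 1 ∈ AddSubmonoid.closure ({2, 2 * δ + 1} : Set ℕ) :=
      AddSubmonoid.subset_closure (by simp)
    have heven : ∀ u : ℕ, 2 * u ∈ AddSubmonoid.closure ({2, 2 * δ + 1} : Set ℕ) := by
      intro u
      have h := AddSubmonoid.nsmul_mem _ h2 u
      have e : u • (2 : ℕ) = 2 * u := by rw [smul_eq_mul, mul_comm]
      rw [e] at h
      exact h
    by_cases hm : m % 2 = 0
    · have : m = 2 * (m / 2) := by omega
      rw [this]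
      exact heven _
    · rw [mem_Γ2] at h
      have : m = (2 * δ + 1) + 2 * ((m - (2 * δ + 1)) / 2) := by omega
      rw [this]
      exact add_mem h3 (heven _)

/-- counting a set described by parity and intervals -/
theorem card_filter_parity (c : ℕ) (P : ℕ → Prop) [DecidablePred P] (a b a' b' : ℕ)
    (hb : 2 * b ≤ c) (hb' : 2 * b' ≤ c)
    (hP : ∀ t, P t ↔ (t % 2 = 0 ∧ 2 * a ≤ t ∧ t < 2 * b) ∨
      (t % 2 = 1 ∧ 2 * a' + 1 ≤ t ∧ t < 2 * b' + 1)) :
    ((Finset.range c).filter P).card = (b - a) + (b' - a') := by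
  have hset : (Finset.range c).filter P =
      (Finset.Ico a b).image (fun u => 2 * u) ∪ (Finset.Ico a' b').image (fun u => 2 * u + 1) := by
    ext t
    simp only [Finset.mem_filter, Finset.mem_range, Finset.mem_union, Finset.mem_image,
      Finset.mem_Ico, hP]
    constructor
    · rintro ⟨-, (⟨h1, h2, h3⟩ | ⟨h1, h2, h3⟩)⟩
      · exact Or.inl ⟨t / 2, by omega, by omega⟩
      · exact Or.inr ⟨t / 2, by omega, by omega⟩
    · rintro (⟨u, hu, rfl⟩ | ⟨u, hu, rfl⟩)
      · exact ⟨by omega, Or.inl (by omega)⟩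
      · exact ⟨by omega, Or.inr (by omega)⟩
  rw [hset, Finset.card_union_of_disjoint, Finset.card_image_of_injective,
    Finset.card_image_of_injective, Nat.card_Ico, Nat.card_Ico]
  · intro x y h
    simp only at h
    omega
  · intro x y h
    simp only at h
    omega
  · rw [Finset.disjoint_left]
    intro t h1 h2
    rw [Finset.mem_image] at h1 h2
    obtain ⟨u, -, rfl⟩ := h1
    obtain ⟨v, -, hv⟩ := h2
    omega

theorem s15030 (k : Type u) [Field k] (δ : ℕ) (hδ : 1 ≤ δ)
    (A : Subalgebra k (PowerSeries k))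
    (hmono : ∀ f : PowerSeries k, f ∈ A ↔ ∀ n : ℕ, PowerSeries.coeff n f ≠ 0 →
      n ∈ AddSubmonoid.closure ({2, 2 * δ + 1} : Set ℕ))
    (i j : ℕ) (hi : i ≤ δ) (hj : j ≤ δ) :
    Module.length ↥A (Abelian.Ext
      (ModuleCat.of ↥A ↥(Submodule.span ↥A
        ({1, (PowerSeries.X : PowerSeries k) ^ (2 * δ + 1 - 2 * i)} : Set (PowerSeries k))))
      (ModuleCat.of ↥A ↥(Submodule.span ↥A
        ({1, (PowerSeries.X : PowerSeries k) ^ (2 * δ + 1 - 2 * j)} : Set (PowerSeries k)))) 1) =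
      ((2 * min i j : ℕ) : ℕ∞) := by
  classical
  have hA : ∀ f : PowerSeries k, f ∈ A ↔ ∀ m : ℕ, coeff m f ≠ 0 → m ∈ Γ2 δ :=
    fun f => (hmono f).trans
      (forall_congr' fun n => imp_congr_right fun _ => mem_closure_two_iff δ n)
  by_cases hi0 : i = 0
  · -- `M_0 = A` is projective
    subst hi0
    have hXA : (X : PowerSeries k) ^ (2 * δ + 1 - 2 * 0) ∈ A :=
      (X_pow_mem_iff hA).2 (Or.inr (by omega))
    have hle : Submodule.span ↥A
        ({1, (PowerSeries.X : PowerSeries k) ^ (2 * δ + 1 - 2 * 0)} : Set (PowerSeries k)) =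
        Submodule.span ↥A {(1 : PowerSeries k)} := by
      apply le_antisymm
      · rw [Submodule.span_le]
        rintro x (rfl | hx)
        · exact Submodule.subset_span rfl
        · rw [Set.mem_singleton_iff] at hx
          rw [hx, SetLike.mem_coe, Submodule.mem_span_singleton]
          refine ⟨⟨_, hXA⟩, ?_⟩
          show X ^ (2 * δ + 1 - 2 * 0) * (1 : PowerSeries k) = _
          rw [mul_one]
      · exact Submodule.span_mono (by simp)
    rw [hle]
    have e : ↥A ≃ₗ[↥A] ↥(Submodule.span ↥A {(1 : PowerSeries k)}) :=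
      LinearEquiv.toSpanNonzeroSingleton ↥A (PowerSeries k) 1 one_ne_zero
    haveI : Module.Projective ↥A ↥(Submodule.span ↥A {(1 : PowerSeries k)}) :=
      Module.Projective.of_equiv e
    haveI : Projective (ModuleCat.of ↥A ↥(Submodule.span ↥A {(1 : PowerSeries k)})) :=
      (IsProjective.iff_projective _).1 inferInstance
    have hsub : Subsingleton (Abelian.Ext
        (ModuleCat.of ↥A ↥(Submodule.span ↥A {(1 : PowerSeries k)}))
        (ModuleCat.of ↥A ↥(Submodule.span ↥A
          ({1, (PowerSeries.X : PowerSeries k) ^ (2 * δ + 1 - 2 * j)} :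
            Set (PowerSeries k)))) 1) :=
      ⟨fun x y => by rw [Ext.eq_zero_of_projective x, Ext.eq_zero_of_projective y]⟩
    rw [Module.length_eq_zero]
    simp
  · have hi1 : 1 ≤ i := Nat.one_le_iff_ne_zero.2 hi0
    set a := 2 * δ + 1 - 2 * i with ha
    set b := 2 * δ + 1 - 2 * j with hb
    have haΓ : a ∉ Γ2 δ := by
      rw [mem_Γ2]
      omega
    rw [span_pair_eq_mono hA a (by omega), span_pair_eq_mono hA b (by omega)]
    have hSb : ∀ m, m ∈ S2 (Γ2 δ) b ↔ (m % 2 = 0 ∨ b ≤ m) := by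
      intro m
      rw [mem_S2, mem_Γ2, mem_Γ2]
      omega
    have hSa : ∀ m, m ∈ S2 (Γ2 δ) a ↔ (m % 2 = 0 ∨ a ≤ m) := by
      intro m
      rw [mem_S2, mem_Γ2, mem_Γ2]
      omega
    have hDa : ∀ m, m ∈ D2 (Γ2 δ) a ↔ ((m % 2 = 0 ∧ 2 * i ≤ m) ∨ (m % 2 = 1 ∧ 2 * δ + 1 ≤ m)) := by
      intro m
      rw [mem_D2, mem_Γ2, mem_Γ2]
      omega
    have main := length_ext_two_gen hA a haΓ (S2 (Γ2 δ) b) (S2_closed hA b) (2 * i)
      (Or.inl (by omega)) (Or.inr (by omega))
    -- membership characterizations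
    have hSE : ∀ t, t ∈ SE (S2 (Γ2 δ) a) (S2 (Γ2 δ) b) ↔
        ((t % 2 = 0 ∧ b ≤ t + a) ∨ (t % 2 = 1 ∧ b ≤ t)) := by
      intro t
      constructor
      · rintro ⟨h1, h2⟩
        rw [hSb] at h1
        have h3 := h2 a ((hSa a).2 (Or.inr le_rfl))
        rw [hSb] at h3
        omega
      · intro h
        refine ⟨(hSb t).2 (by omega), fun s hs => ?_⟩
        rw [hSa] at hs
        rw [hSb]
        omega
    have hshift : ∀ t, t ∈ shift (2 * i) (S2 (Γ2 δ) b) ↔
        (2 * i ≤ t ∧ ((t - 2 * i) % 2 = 0 ∨ b ≤ t - 2 * i)) := by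
      intro t
      rw [mem_shift, hSb]
    have hSH : ∀ t, t ∈ SH (2 * i) (S2 (Γ2 δ) b) (D2 (Γ2 δ) a) ↔
        ((t % 2 = 0 ∧ 2 * i ≤ t + 2 * j) ∨ (t % 2 = 1 ∧ b ≤ t)) := by
      intro t
      constructor
      · rintro ⟨h1, h2⟩
        rw [hSb] at h1
        have h3 := h2 (2 * δ + 1) ((hDa _).2 (Or.inr (by omega)))
        rw [hshift] at h3
        omega
      · intro h
        refine ⟨(hSb t).2 (by omega), fun d hd => ?_⟩
        rw [hDa] at hd
        rw [hshift]
        omega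
    have hE : rl (mono hA (SE (S2 (Γ2 δ) a) (S2 (Γ2 δ) b)) (SE_closed (S2_closed hA b)))
        (mono hA (S2 (Γ2 δ) b) (S2_closed hA b)) = ((i - j : ℕ) : ℕ∞) := by
      rw [rl_mono hA _ _ _ _ (fun t ht => ht.1) (2 * δ + 2) (by
        intro m hm
        rw [hSE]
        omega)]
      congr 1
      rw [card_filter_parity (2 * δ + 2) _ 0 (i - j) 0 0 (by omega) (by omega)]
      · omega
      · intro t
        rw [hSE, hSb]
        omega
    have hH : rl (mono hA (shift (2 * i) (S2 (Γ2 δ) b)) (shift_closed (S2_closed hA b)))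
        (mono hA (SH (2 * i) (S2 (Γ2 δ) b) (D2 (Γ2 δ) a)) (SH_closed (S2_closed hA b))) =
        ((min i j + i : ℕ) : ℕ∞) := by
      rw [rl_mono hA _ _ _ _ (by
        intro t ht
        rw [hshift] at ht
        rw [hSH]
        omega) (2 * δ + 2 + 2 * i) (by
        intro m hm
        rw [hshift]
        omega)]
      congr 1
      rw [card_filter_parity (2 * δ + 2 + 2 * i) _ (i - j) i (δ - j) (δ - j + i)
        (by omega) (by omega)]
      · omega
      · intro t
        rw [hSH, hshift]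
        omega
    rw [hE, hH] at main
    have h2 : ((2 * min i j : ℕ) : ℕ∞) + ((i - j : ℕ) : ℕ∞) = ((min i j + i : ℕ) : ℕ∞) := by
      have : 2 * min i j + (i - j) = min i j + i := by omega
      exact_mod_cast this
    rw [← h2] at main
    exact ENat.add_left_injective_of_ne_top (ENat.natCast_ne_top _) main

end Groth.Agent.Helper7.MonExt
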