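import Mathlib
import Groth.Agent.Helper7.MonExtI

set_option autoImplicit false
universe u

/-!
# S15041, parts 1–3: two-generated modules over `k⟦t³, t⁴⟧`
-/

namespace Groth.Agent.Helper7.MonExt

open PowerSeries Function CategoryTheory Abelian
open Groth.Agent.Helper6.TFC Groth.Agent.Helper7.CanDu Groth.Agent.Helper7.PSCan

/-- the semigroup `⟨3, 4⟩` -/
def ΓE : Set ℕ := {m | m = 0 ∨ m = 3 ∨ m = 4 ∨ 6 ≤ m}

theorem mem_ΓE {m : ℕ} : m ∈ ΓE ↔ (m = 0 ∨ m = 3 ∨ m = 4 ∨ 6 ≤ m) := Iff.rfl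

theorem mem_closure_E6_iff (m : ℕ) :
    m ∈ AddSubmonoid.closure ({3, 4} : Set ℕ) ↔ m ∈ ΓE := by
  constructor
  · intro h
    induction h using AddSubmonoid.closure_induction with
    | mem x hx =>
      rcases hx with rfl | hx
      · exact Or.inr (Or.inl rfl)
      · rw [Set.mem_singleton_iff] at hx
        rw [hx]
        exact Or.inr (Or.inr (Or.inl rfl))
    | zero => exact Or.inl rfl
    | add x y _ _ hx hy =>
      rw [mem_ΓE] at hx hy ⊢
      omega
  · have h3 : (3 : ℕ) ∈ AddSubmonoid.closure ({3, 4} : Set ℕ) :=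
      AddSubmonoid.subset_closure (by simp)
    have h4 : (4 : ℕ) ∈ AddSubmonoid.closure ({3, 4} : Set ℕ) :=
      AddSubmonoid.subset_closure (by simp)
    induction m using Nat.strong_induction_on with
    | _ m ih =>
      intro h
      rw [mem_ΓE] at h
      by_cases h0 : m = 0
      · rw [h0]; exact zero_mem _
      by_cases h3' : m = 3
      · rw [h3']; exact h3
      by_cases h4' : m = 4
      · rw [h4']; exact h4
      by_cases h8 : m = 8
      · rw [h8]
        exact add_mem h4 h4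
      · have hm : m = (m - 3) + 3 := by omega
        rw [hm]
        refine add_mem (ih (m - 3) (by omega) ?_) h3
        rw [mem_ΓE]
        omega

variable {k : Type u} [Field k] {A : Subalgebra k (PowerSeries k)}
  (hA : ∀ f : PowerSeries k, f ∈ A ↔ ∀ n : ℕ, coeff n f ≠ 0 → n ∈ ΓE)

include hA in
/-- part 1: `M₁ = A + A t⁵` -/
theorem e6_part1 :
    Module.length ↥A (Abelian.Ext
      (ModuleCat.of ↥A ↥(Submodule.span ↥A
        ({1, (PowerSeries.X : PowerSeries k) ^ 5} : Set (PowerSeries k))))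
      (ModuleCat.of ↥A ↥(Submodule.span ↥A
        ({1, (PowerSeries.X : PowerSeries k) ^ 5} : Set (PowerSeries k)))) 1) = 2 := by
  classical
  rw [span_pair_eq_mono hA 5 (by omega)]
  have hS : ∀ m, m ∈ S2 ΓE 5 ↔ (m = 0 ∨ 3 ≤ m) := by
    intro m
    rw [mem_S2, mem_ΓE, mem_ΓE]
    omega
  have hD : ∀ m, m ∈ D2 ΓE 5 ↔ (m = 3 ∨ m = 4 ∨ 6 ≤ m) := by
    intro m
    rw [mem_D2, mem_ΓE, mem_ΓE]
    omega
  have main := length_ext_two_gen hA 5 (by rw [mem_ΓE]; omega) (S2 ΓE 5) (S2_closed hA 5) 3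
    (by rw [mem_ΓE]; omega) (by rw [mem_ΓE]; omega)
  have hSE : ∀ t, t ∈ SE (S2 ΓE 5) (S2 ΓE 5) ↔ (t = 0 ∨ 3 ≤ t) := by
    intro t
    constructor
    · rintro ⟨h1, -⟩
      exact (hS t).1 h1
    · intro h
      refine ⟨(hS t).2 h, fun s hs => ?_⟩
      rw [hS] at hs ⊢
      omega
  have hshift : ∀ t, t ∈ shift 3 (S2 ΓE 5) ↔ (3 ≤ t ∧ (t - 3 = 0 ∨ 3 ≤ t - 3)) := by
    intro t
    rw [mem_shift, hS]
  have hSH : ∀ t, t ∈ SH 3 (S2 ΓE 5) (D2 ΓE 5) ↔ 3 ≤ t := by
    intro t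
    constructor
    · rintro ⟨h1, h2⟩
      rw [hS] at h1
      have h3 := h2 4 ((hD 4).2 (by omega))
      rw [hshift] at h3
      omega
    · intro h
      refine ⟨(hS t).2 (by omega), fun d hd => ?_⟩
      rw [hD] at hd
      rw [hshift]
      omega
  have hE : rl (mono hA (SE (S2 ΓE 5) (S2 ΓE 5)) (SE_closed (S2_closed hA 5)))
      (mono hA (S2 ΓE 5) (S2_closed hA 5)) = 0 := by
    rw [rl_mono hA _ _ _ _ (fun t ht => ht.1) 6 (by
      intro m hm
      rw [hSE]
      omega)]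
    have : (Finset.range 6).filter (fun j => j ∈ S2 ΓE 5 ∧ j ∉ SE (S2 ΓE 5) (S2 ΓE 5)) = ∅ := by
      rw [Finset.filter_eq_empty_iff]
      rintro j - ⟨hjS, hjE⟩
      rw [hS] at hjS
      rw [hSE] at hjE
      exact hjE hjS
    rw [this, Finset.card_empty]
    rfl
  have hH : rl (mono hA (shift 3 (S2 ΓE 5)) (shift_closed (S2_closed hA 5)))
      (mono hA (SH 3 (S2 ΓE 5) (D2 ΓE 5)) (SH_closed (S2_closed hA 5))) = 2 := by
    rw [rl_mono hA _ _ _ _ (by
      intro t ht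
      rw [hshift] at ht
      rw [hSH]
      omega) 9 (by
      intro m hm
      rw [hshift]
      omega)]
    have : (Finset.range 9).filter (fun j => j ∈ SH 3 (S2 ΓE 5) (D2 ΓE 5) ∧
        j ∉ shift 3 (S2 ΓE 5)) = Finset.Ico 4 6 := by
      ext j
      simp only [Finset.mem_filter, Finset.mem_range, Finset.mem_Ico, hSH, hshift]
      omega
    rw [this, Nat.card_Ico]
    rfl
  rw [hE, hH, add_zero] at main
  exact main

include hA in
/-- part 2: `M₁* = A + A t` -/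
theorem e6_part2 :
    Module.length ↥A (Abelian.Ext
      (ModuleCat.of ↥A ↥(Submodule.span ↥A
        ({1, (PowerSeries.X : PowerSeries k)} : Set (PowerSeries k))))
      (ModuleCat.of ↥A ↥(Submodule.span ↥A
        ({1, (PowerSeries.X : PowerSeries k)} : Set (PowerSeries k)))) 1) = 2 := by
  classical
  have hX1 : ({1, (PowerSeries.X : PowerSeries k)} : Set (PowerSeries k)) =
      {1, (PowerSeries.X : PowerSeries k) ^ 1} := by rw [pow_one]
  rw [hX1, span_pair_eq_mono hA 1 (by omega)]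
  have hS : ∀ m, m ∈ S2 ΓE 1 ↔ m ≠ 2 := by
    intro m
    rw [mem_S2, mem_ΓE, mem_ΓE]
    omega
  have hD : ∀ m, m ∈ D2 ΓE 1 ↔ (m = 3 ∨ 6 ≤ m) := by
    intro m
    rw [mem_D2, mem_ΓE, mem_ΓE]
    omega
  have main := length_ext_two_gen hA 1 (by rw [mem_ΓE]; omega) (S2 ΓE 1) (S2_closed hA 1) 3
    (by rw [mem_ΓE]; omega) (by rw [mem_ΓE]; omega)
  have hSE : ∀ t, t ∈ SE (S2 ΓE 1) (S2 ΓE 1) ↔ (t = 0 ∨ 3 ≤ t) := by
    intro t
    constructor
    · rintro ⟨h1, h2⟩
      rw [hS] at h1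
      have h3 := h2 1 ((hS 1).2 (by omega))
      rw [hS] at h3
      omega
    · intro h
      refine ⟨(hS t).2 (by omega), fun s hs => ?_⟩
      rw [hS] at hs ⊢
      omega
  have hshift : ∀ t, t ∈ shift 3 (S2 ΓE 1) ↔ (3 ≤ t ∧ t - 3 ≠ 2) := by
    intro t
    rw [mem_shift, hS]
  have hSH : ∀ t, t ∈ SH 3 (S2 ΓE 1) (D2 ΓE 1) ↔ t ≠ 2 := by
    intro t
    constructor
    · rintro ⟨h1, -⟩
      exact (hS t).1 h1
    · intro h
      refine ⟨(hS t).2 h, fun d hd => ?_⟩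
      rw [hD] at hd
      rw [hshift]
      omega
  have hE : rl (mono hA (SE (S2 ΓE 1) (S2 ΓE 1)) (SE_closed (S2_closed hA 1)))
      (mono hA (S2 ΓE 1) (S2_closed hA 1)) = 1 := by
    rw [rl_mono hA _ _ _ _ (fun t ht => ht.1) 6 (by
      intro m hm
      rw [hSE]
      omega)]
    have : (Finset.range 6).filter (fun j => j ∈ S2 ΓE 1 ∧ j ∉ SE (S2 ΓE 1) (S2 ΓE 1)) =
        {1} := by
      ext j
      simp only [Finset.mem_filter, Finset.mem_range, Finset.mem_singleton, hS, hSE]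
      omega
    rw [this, Finset.card_singleton]
    rfl
  have hH : rl (mono hA (shift 3 (S2 ΓE 1)) (shift_closed (S2_closed hA 1)))
      (mono hA (SH 3 (S2 ΓE 1) (D2 ΓE 1)) (SH_closed (S2_closed hA 1))) = 3 := by
    rw [rl_mono hA _ _ _ _ (by
      intro t ht
      rw [hshift] at ht
      rw [hSH]
      omega) 9 (by
      intro m hm
      rw [hshift]
      omega)]
    have : (Finset.range 9).filter (fun j => j ∈ SH 3 (S2 ΓE 1) (D2 ΓE 1) ∧
        j ∉ shift 3 (S2 ΓE 1)) = {0, 1, 5} := by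
      ext j
      simp only [Finset.mem_filter, Finset.mem_range, Finset.mem_insert, Finset.mem_singleton,
        hSH, hshift]
      omega
    rw [this]
    rfl
  rw [hE, hH] at main
  have h2 : (2 : ℕ∞) + 1 = 3 := by norm_num
  rw [← h2] at main
  exact ENat.add_left_injective_of_ne_top (by simp) main

include hA in
/-- part 3: `M₂ = A + A t²` -/
theorem e6_part3 :
    Module.length ↥A (Abelian.Ext
      (ModuleCat.of ↥A ↥(Submodule.span ↥A
        ({1, (PowerSeries.X : PowerSeries k) ^ 2} : Set (PowerSeries k))))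
      (ModuleCat.of ↥A ↥(Submodule.span ↥A
        ({1, (PowerSeries.X : PowerSeries k) ^ 2} : Set (PowerSeries k)))) 1) = 4 := by
  classical
  rw [span_pair_eq_mono hA 2 (by omega)]
  have hS : ∀ m, m ∈ S2 ΓE 2 ↔ m ≠ 1 := by
    intro m
    rw [mem_S2, mem_ΓE, mem_ΓE]
    omega
  have hD : ∀ m, m ∈ D2 ΓE 2 ↔ (m = 4 ∨ 6 ≤ m) := by
    intro m
    rw [mem_D2, mem_ΓE, mem_ΓE]
    omega
  have main := length_ext_two_gen hA 2 (by rw [mem_ΓE]; omega) (S2 ΓE 2) (S2_closed hA 2) 4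
    (by rw [mem_ΓE]; omega) (by rw [mem_ΓE]; omega)
  have hSE : ∀ t, t ∈ SE (S2 ΓE 2) (S2 ΓE 2) ↔ t ≠ 1 := by
    intro t
    constructor
    · rintro ⟨h1, -⟩
      exact (hS t).1 h1
    · intro h
      refine ⟨(hS t).2 h, fun s hs => ?_⟩
      rw [hS] at hs ⊢
      omega
  have hshift : ∀ t, t ∈ shift 4 (S2 ΓE 2) ↔ (4 ≤ t ∧ t - 4 ≠ 1) := by
    intro t
    rw [mem_shift, hS]
  have hSH : ∀ t, t ∈ SH 4 (S2 ΓE 2) (D2 ΓE 2) ↔ t ≠ 1 := by
    intro t
    constructor
    · rintro ⟨h1, -⟩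
      exact (hS t).1 h1
    · intro h
      refine ⟨(hS t).2 h, fun d hd => ?_⟩
      rw [hD] at hd
      rw [hshift]
      omega
  have hE : rl (mono hA (SE (S2 ΓE 2) (S2 ΓE 2)) (SE_closed (S2_closed hA 2)))
      (mono hA (S2 ΓE 2) (S2_closed hA 2)) = 0 := by
    rw [rl_mono hA _ _ _ _ (fun t ht => ht.1) 6 (by
      intro m hm
      rw [hSE]
      omega)]
    have : (Finset.range 6).filter (fun j => j ∈ S2 ΓE 2 ∧ j ∉ SE (S2 ΓE 2) (S2 ΓE 2)) = ∅ := by
      rw [Finset.filter_eq_empty_iff]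
      rintro j - ⟨hjS, hjE⟩
      rw [hS] at hjS
      rw [hSE] at hjE
      exact hjE hjS
    rw [this, Finset.card_empty]
    rfl
  have hH : rl (mono hA (shift 4 (S2 ΓE 2)) (shift_closed (S2_closed hA 2)))
      (mono hA (SH 4 (S2 ΓE 2) (D2 ΓE 2)) (SH_closed (S2_closed hA 2))) = 4 := by
    rw [rl_mono hA _ _ _ _ (by
      intro t ht
      rw [hshift] at ht
      rw [hSH]
      omega) 10 (by
      intro m hm
      rw [hshift]
      omega)]
    have : (Finset.range 10).filter (fun j => j ∈ SH 4 (S2 ΓE 2) (D2 ΓE 2) ∧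
        j ∉ shift 4 (S2 ΓE 2)) = {0, 2, 3, 5} := by
      ext j
      simp only [Finset.mem_filter, Finset.mem_range, Finset.mem_insert, Finset.mem_singleton,
        hSH, hshift]
      omega
    rw [this]
    rfl
  rw [hE, hH, add_zero] at main
  exact main

end Groth.Agent.Helper7.MonExt
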