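import Mathlib
import Groth.Agent.Helper7.MonExtD

set_option autoImplicit false
universe u

/-!
# A version of the length formula with weaker hypotheses on the relations
-/

namespace Groth.Agent.Helper7.MonExt

open CategoryTheory Abelian Function
open Groth.Agent.Helper7.CanDu

section Sol

variable {R : Type*} [CommRing R] {Q P : Type*} [AddCommGroup Q] [Module R Q]
  [AddCommGroup P] [Module R P] {ι : Type*} [Fintype ι]

/-- if the relations are exactly "all coefficients in `I`", `Hom(Q,P)` is a power of `P[I]` -/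
theorem length_hom_of_relations' (q : ι → Q) (hq : Submodule.span R (Set.range q) = ⊤)
    (I : Ideal R) (hrel1 : ∀ a : ι → R, ∑ j, a j • q j = 0 → ∀ j, a j ∈ I)
    (hrel2 : ∀ p ∈ Sol (R := R) q P, ∀ j, p j ∈ Submodule.torsionBySet R P (I : Set R)) :
    Module.length R (Q →ₗ[R] P) =
      Fintype.card ι • Module.length R ↥(Submodule.torsionBySet R P (I : Set R)) := by
  classical
  have e1 := (LinearEquiv.ofBijective (evalGen (R := R) q P) (evalGen_bijective q hq)).length_eq
  rw [e1]
  let T := Submodule.torsionBySet R P (I : Set R)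
  -- `Sol ≃ (ι → T)`
  let F : ↥(Sol (R := R) q P) →ₗ[R] (ι → ↥T) :=
    { toFun := fun p j => ⟨(p : ι → P) j, hrel2 _ p.2 j⟩
      map_add' := fun p p' => rfl
      map_smul' := fun r p => rfl }
  have hF : Bijective F := by
    constructor
    · intro p p' h
      apply Subtype.ext
      funext j
      exact congrArg (fun s : ι → ↥T => ((s j : ↥T) : P)) h
    · intro t
      refine ⟨⟨fun j => (t j : P), ?_⟩, rfl⟩
      intro a ha
      have ha' := hrel1 a ha
      refine Finset.sum_eq_zero fun j _ => ?_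
      have := (Submodule.mem_torsionBySet_iff _ _).1 (t j).2 ⟨a j, ha' j⟩
      exact this
  rw [(LinearEquiv.ofBijective F hF).length_eq, Module.length_pi_of_fintype]
  simp only [Finset.sum_const, Finset.card_univ]
  rfl

end Sol

section Final

variable {R : Type u} [CommRing R] {L : Type u} [CommRing L] [IsDomain L] [Algebra R L]

variable (hinj : Injective (algebraMap R L))
  (M N : Submodule R L) (h1 : (1 : L) ∈ M) (x : R) (hx : x ≠ 0)
  (hxM : ∀ m ∈ M, ∃ r : R, x • m = algebraMap R L r)

variable {ι : Type} [Fintype ι] (v : ι → L) (hvM : ∀ j, v j ∈ M)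
  (hspan : ∀ m ∈ M, ∃ (r : R) (a : ι → R), m = algebraMap R L r + ∑ j, a j • v j)
  (I : Ideal R)
  (hrel1 : ∀ a : ι → R, (∃ r : R, ∑ j, a j • v j = algebraMap R L r) → ∀ j, a j ∈ I)
  (hrel2 : ∀ n : ι → L, (∀ j, n j ∈ N) →
    (∀ a : ι → R, (∃ r : R, ∑ j, a j • v j = algebraMap R L r) →
      ∑ j, a j • n j ∈ N.map (LinearMap.lsmul R L x)) →
    ∀ j, ∀ d ∈ I, d • n j ∈ N.map (LinearMap.lsmul R L x))

include hinj h1 hx hxM hvM hspan hrel1 hrel2 in
/-- the final formula -/
theorem length_ext_final' :
    Module.length R (Ext (ModuleCat.of R ↥M) (ModuleCat.of R ↥N) 1) + rl (Esub M N) N =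
      Fintype.card ι • rl (N.map (LinearMap.lsmul R L x)) (Hsub N x (I : Set R)) := by
  have hx' : algebraMap R L x ≠ 0 := by
    intro h
    apply hx
    apply hinj
    rw [h, map_zero]
  have he : Injective (fun r : R => r • (⟨1, h1⟩ : ↥M)) := by
    intro r r' h
    apply hinj
    have := congrArg (fun z : ↥M => (z : L)) h
    simpa [Algebra.smul_def] using this
  have hxM' : ∀ m : ↥M, x • m ∈ Submodule.span R {(⟨1, h1⟩ : ↥M)} := by
    intro m
    obtain ⟨r, hr⟩ := hxM m m.2
    rw [Submodule.mem_span_singleton]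
    refine ⟨r, ?_⟩
    apply Subtype.ext
    show r • (1 : L) = x • (m : L)
    rw [hr, Algebra.smul_def, mul_one]
  have hxN' : ∀ n : ↥N, x • n = 0 → n = 0 := by
    intro n hn
    apply Subtype.ext
    have := congrArg (fun z : ↥N => (z : L)) hn
    simp only [Submodule.coe_smul, Algebra.smul_def, Submodule.coe_zero] at this
    rcases mul_eq_zero.1 this with h | h
    · exact absurd h hx'
    · exact h
  have main := length_ext_one (R := R) ↥M ↥N ⟨1, h1⟩ x he hxM' hxN'
  rw [evalRange_eq hinj M N h1 x hx hxM] at main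
  rw [rl_def, main]
  -- the Hom side
  let q : ι → (↥M ⧸ Submodule.span R {(⟨1, h1⟩ : ↥M)}) :=
    fun j => Submodule.Quotient.mk ⟨v j, hvM j⟩
  have hq : Submodule.span R (Set.range q) = ⊤ := by
    rw [eq_top_iff]
    rintro y -
    obtain ⟨m, rfl⟩ := Submodule.Quotient.mk_surjective _ y
    obtain ⟨r, a, hm⟩ := hspan m m.2
    have e1 : (Submodule.Quotient.mk m : ↥M ⧸ Submodule.span R {(⟨1, h1⟩ : ↥M)}) =
        ∑ j, a j • q j := by
      have e2 : m = r • (⟨1, h1⟩ : ↥M) + ∑ j, a j • (⟨v j, hvM j⟩ : ↥M) := by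
        apply Subtype.ext
        rw [Submodule.coe_add, Submodule.coe_sum]
        show (m : L) = r • (1 : L) + ∑ j, a j • v j
        rw [hm, Algebra.smul_def, mul_one]
      conv_lhs => rw [e2]
      rw [Submodule.Quotient.mk_add, Submodule.Quotient.mk_smul]
      have e3 : (Submodule.Quotient.mk (⟨1, h1⟩ : ↥M) :
          ↥M ⧸ Submodule.span R {(⟨1, h1⟩ : ↥M)}) = 0 := by
        rw [Submodule.Quotient.mk_eq_zero]
        exact Submodule.mem_span_singleton_self _
      rw [e3, smul_zero, zero_add]
      rw [← Submodule.mkQ_apply, map_sum]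
      rfl
    rw [e1]
    exact Submodule.sum_mem _ fun j _ =>
      Submodule.smul_mem _ _ (Submodule.subset_span ⟨j, rfl⟩)
  have hrelq : ∀ a : ι → R, ∑ j, a j • q j = 0 ↔
      ∃ r : R, ∑ j, a j • v j = algebraMap R L r := by
    intro a
    have e1 : ∑ j, a j • q j = Submodule.Quotient.mk (∑ j, a j • (⟨v j, hvM j⟩ : ↥M)) := by
      rw [← Submodule.mkQ_apply, map_sum]
      rfl
    rw [e1, Submodule.Quotient.mk_eq_zero, Submodule.mem_span_singleton]
    constructor
    · rintro ⟨r, hr⟩
      refine ⟨r, ?_⟩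
      have := congrArg (fun z : ↥M => (z : L)) hr
      simp only [Submodule.coe_smul, Submodule.coe_sum] at this
      rw [← this, Algebra.smul_def, mul_one]
    · rintro ⟨r, hr⟩
      refine ⟨r, ?_⟩
      apply Subtype.ext
      rw [Submodule.coe_sum]
      show r • (1 : L) = ∑ j, a j • v j
      rw [hr, Algebra.smul_def, mul_one]
  have hrel1' : ∀ a : ι → R, ∑ j, a j • q j = 0 → ∀ j, a j ∈ I :=
    fun a ha => hrel1 a ((hrelq a).1 ha)
  have hrel2' : ∀ p ∈ Sol (R := R) q (↥N ⧸ LinearMap.range (LinearMap.lsmul R ↥N x)),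
      ∀ j, p j ∈ Submodule.torsionBySet R
        (↥N ⧸ LinearMap.range (LinearMap.lsmul R ↥N x)) (I : Set R) := by
    intro p hp j
    let n : ι → ↥N := fun i => (Submodule.Quotient.mk_surjective _ (p i)).choose
    have hn : ∀ i, Submodule.Quotient.mk (n i) = p i :=
      fun i => (Submodule.Quotient.mk_surjective _ (p i)).choose_spec
    have key := hrel2 (fun i => (n i : L)) (fun i => (n i).2) (by
      intro a ha
      have h0 := hp a ((hrelq a).2 ha)
      have h1 : ∑ i, a i • p i = Submodule.Quotient.mk (∑ i, a i • n i) := by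
        rw [← Submodule.mkQ_apply, map_sum]
        refine Finset.sum_congr rfl fun i _ => ?_
        rw [map_smul, Submodule.mkQ_apply, hn]
      rw [h1, Submodule.Quotient.mk_eq_zero, LinearMap.mem_range] at h0
      obtain ⟨n', hn'⟩ := h0
      refine ⟨(n' : L), n'.2, ?_⟩
      have := congrArg (fun z : ↥N => (z : L)) hn'
      simp only [Submodule.coe_sum, Submodule.coe_smul] at this
      exact this)
    rw [Submodule.mem_torsionBySet_iff]
    rintro ⟨d, hd⟩
    obtain ⟨n', hn', hn''⟩ := key j d hd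
    show d • p j = 0
    rw [← hn j, ← Submodule.Quotient.mk_smul, Submodule.Quotient.mk_eq_zero, LinearMap.mem_range]
    refine ⟨⟨n', hn'⟩, ?_⟩
    apply Subtype.ext
    exact hn''
  rw [length_hom_of_relations' q hq I hrel1' hrel2', length_torsionBySet_quot]

end Final

end Groth.Agent.Helper7.MonExt
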