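import Mathlib
import Groth.Agent.Helper7.MonExtK
import Groth.Agent.Helper7.MonExtL

set_option autoImplicit false
universe u

/-!
# S15041, part 4 (`M₃ = k⟦t⟧` over `k⟦t³,t⁴⟧`) and the assembled statement
-/

namespace Groth.Agent.Helper7.MonExt

open PowerSeries Function CategoryTheory Abelian
open Groth.Agent.Helper6.TFC Groth.Agent.Helper7.CanDu Groth.Agent.Helper7.PSCan

variable {k : Type u} [Field k] {A : Subalgebra k (PowerSeries k)}
  (hA : ∀ f : PowerSeries k, f ∈ A ↔ ∀ n : ℕ, coeff n f ≠ 0 → n ∈ ΓE)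

/-- the maximal ideal exponents of `⟨3,4⟩` -/
def DE : Set ℕ := {m | m = 3 ∨ m = 4 ∨ 6 ≤ m}

theorem mem_DE {m : ℕ} : m ∈ DE ↔ (m = 3 ∨ m = 4 ∨ 6 ≤ m) := Iff.rfl

theorem DE_closed : ∀ g ∈ ΓE, ∀ s ∈ DE, g + s ∈ DE := by
  intro g hg s hs
  rw [mem_ΓE] at hg
  rw [mem_DE] at hs ⊢
  omega

theorem univ_closed (Γ : Set ℕ) : ∀ g ∈ Γ, ∀ s ∈ (Set.univ : Set ℕ), g + s ∈ (Set.univ : Set ℕ) :=
  fun _ _ _ _ => Set.mem_univ _

include hA in
/-- part 4: `M₃ = A + A t + A t²` -/
theorem e6_part4 :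
    Module.length ↥A (Abelian.Ext
      (ModuleCat.of ↥A ↥(Submodule.span ↥A
        ({1, (PowerSeries.X : PowerSeries k), (PowerSeries.X : PowerSeries k) ^ 2} :
          Set (PowerSeries k))))
      (ModuleCat.of ↥A ↥(Submodule.span ↥A
        ({1, (PowerSeries.X : PowerSeries k), (PowerSeries.X : PowerSeries k) ^ 2} :
          Set (PowerSeries k)))) 1) = 6 := by
  classical
  have h0Γ : (0 : ℕ) ∈ ΓE := Or.inl rfl
  -- the choice function
  let ch : ℕ → ℕ := fun m => if m = 1 then 1 else if m = 2 then 2 else if m = 5 then 1 else 0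
  have hch : ∀ m ∈ (Set.univ : Set ℕ), ch m ∈ ({0, 1, 2} : Finset ℕ) ∧ ch m ≤ m ∧
      m - ch m ∈ ΓE := by
    intro m _
    simp only [ch, Finset.mem_insert, Finset.mem_singleton, mem_ΓE]
    split_ifs <;> omega
  have hspanT : Submodule.span ↥A
      ({1, (PowerSeries.X : PowerSeries k), (PowerSeries.X : PowerSeries k) ^ 2} :
        Set (PowerSeries k)) = mono hA Set.univ (univ_closed ΓE) := by
    have himg : ({1, (PowerSeries.X : PowerSeries k), (PowerSeries.X : PowerSeries k) ^ 2} :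
        Set (PowerSeries k)) =
        (fun b : ℕ => (X : PowerSeries k) ^ b) '' (({0, 1, 2} : Finset ℕ) : Set ℕ) := by
      rw [Finset.coe_insert, Finset.coe_insert, Finset.coe_singleton, Set.image_insert_eq,
        Set.image_pair, pow_zero, pow_one]
    rw [himg]
    exact span_eq_mono hA {0, 1, 2} Set.univ (univ_closed ΓE) (fun _ _ => Set.mem_univ _) ch hch
  rw [hspanT]
  set T := mono hA Set.univ (univ_closed ΓE) with hT
  have hTmem : ∀ f : PowerSeries k, f ∈ T := fun f n _ => Set.mem_univ n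
  have hinj : Injective (algebraMap ↥A (PowerSeries k)) := Subtype.val_injective
  have h6 : (6 : ℕ) ∈ ΓE := by rw [mem_ΓE]; omega
  have hxM : ∀ m ∈ T, ∃ r : ↥A, xpow hA 6 h6 • m = algebraMap ↥A (PowerSeries k) r := by
    intro m _
    have hmem : (X : PowerSeries k) ^ 6 * m ∈ A := by
      rw [hA]
      intro n hn
      obtain ⟨p, q, hpq, hp, hq⟩ := exists_of_coeff_mul_ne_zero hn
      rw [coeff_X_pow] at hp
      by_cases hpc : p = 6
      · rw [mem_ΓE]
        omega
      · rw [if_neg hpc] at hp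
        exact absurd rfl hp
    exact ⟨⟨_, hmem⟩, rfl⟩
  let v : Fin 2 → PowerSeries k := ![X, X ^ 2]
  have hspan : ∀ m ∈ T, ∃ (r : ↥A) (a : Fin 2 → ↥A),
      m = algebraMap ↥A (PowerSeries k) r + ∑ j, a j • v j := by
    intro m hm
    obtain ⟨a, ha⟩ := exists_decomp hA {0, 1, 2} Set.univ (univ_closed ΓE) ch hch m hm
    refine ⟨a 0, ![a 1, a 2], ?_⟩
    rw [ha, Finset.sum_insert (by simp), Finset.sum_insert (by simp), Finset.sum_singleton,
      Fin.sum_univ_two, pow_zero, pow_one]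
    congr 1
    show ((a 0 : ↥A) : PowerSeries k) * 1 = _
    rw [mul_one]
    rfl
  -- coefficient extraction for a relation
  have hcoef : ∀ (a : Fin 2 → ↥A) (n : ℕ), coeff n (∑ j, a j • v j) =
      (if 1 ≤ n then coeff (n - 1) (a 0 : PowerSeries k) else 0) +
      (if 2 ≤ n then coeff (n - 2) (a 1 : PowerSeries k) else 0) := by
    intro a n
    rw [Fin.sum_univ_two, map_add]
    have e0 : a 0 • v 0 = X ^ 1 * (a 0 : PowerSeries k) := by
      show (a 0 : PowerSeries k) * X = _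
      rw [pow_one, mul_comm]
    have e1 : a 1 • v 1 = X ^ 2 * (a 1 : PowerSeries k) := by
      show (a 1 : PowerSeries k) * X ^ 2 = _
      rw [mul_comm]
    rw [e0, e1, coeff_X_pow_mul', coeff_X_pow_mul']
  have hrel1 : ∀ a : Fin 2 → ↥A,
      (∃ r : ↥A, ∑ j, a j • v j = algebraMap ↥A (PowerSeries k) r) →
      ∀ j, a j ∈ monoIdeal hA DE DE_closed := by
    rintro a ⟨r, hr⟩
    have hr1 : coeff 1 (∑ j, a j • v j) = 0 := by
      rw [hr]
      by_contra hne
      have := (hA _).1 r.2 1 hne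
      rw [mem_ΓE] at this
      omega
    have hr2 : coeff 2 (∑ j, a j • v j) = 0 := by
      rw [hr]
      by_contra hne
      have := (hA _).1 r.2 2 hne
      rw [mem_ΓE] at this
      omega
    rw [hcoef] at hr1 hr2
    rw [if_pos le_rfl, if_neg (by omega : ¬ (2 ≤ 1)), add_zero, Nat.sub_self] at hr1
    rw [if_pos (by omega : 1 ≤ 2), if_pos le_rfl, Nat.sub_self] at hr2
    have ha01 : coeff (2 - 1) (a 0 : PowerSeries k) = 0 := by
      by_contra hne
      have := (hA _).1 (a 0).2 (2 - 1) hne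
      rw [mem_ΓE] at this
      omega
    rw [ha01, zero_add] at hr2
    have hno0 : ∀ j : Fin 2, coeff 0 (a j : PowerSeries k) = 0 :=
      Fin.forall_fin_two.2 ⟨hr1, hr2⟩
    intro j
    rw [mem_monoIdeal]
    intro n hn
    have hnΓ := (hA _).1 (a j).2 n hn
    rw [mem_ΓE] at hnΓ
    rw [mem_DE]
    rcases hnΓ with rfl | h
    · exact absurd (hno0 j) hn
    · exact h
  have hmap : T.map (LinearMap.lsmul ↥A (PowerSeries k) (xpow hA 6 h6)) =
      mono hA (shift 6 Set.univ) (shift_closed (univ_closed ΓE)) := map_lsmul_xpow hA 6 h6 _ _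
  have hX3A : (X : PowerSeries k) ^ 3 ∈ A := (X_pow_mem_iff hA).2 (by rw [mem_ΓE]; omega)
  have hX4A : (X : PowerSeries k) ^ 4 ∈ A := (X_pow_mem_iff hA).2 (by rw [mem_ΓE]; omega)
  have hrel2 : ∀ n : Fin 2 → PowerSeries k, (∀ j, n j ∈ T) →
      (∀ a : Fin 2 → ↥A, (∃ r : ↥A, ∑ j, a j • v j = algebraMap ↥A (PowerSeries k) r) →
        ∑ j, a j • n j ∈ T.map (LinearMap.lsmul ↥A (PowerSeries k) (xpow hA 6 h6))) →
      ∀ j, ∀ d ∈ monoIdeal hA DE DE_closed,
        d • n j ∈ T.map (LinearMap.lsmul ↥A (PowerSeries k) (xpow hA 6 h6)) := by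
    intro n _ hn
    rw [hmap] at hn ⊢
    -- first relation: (X³, 0)
    have r1 := hn ![⟨X ^ 3, hX3A⟩, 0] ⟨⟨X ^ 4, hX4A⟩, by
      rw [Fin.sum_univ_two]
      show (X : PowerSeries k) ^ 3 * X + (0 : ↥A) • (X : PowerSeries k) ^ 2 = X ^ 4
      rw [zero_smul, add_zero]
      ring⟩
    have ord0 : ∀ m, coeff m (n 0) ≠ 0 → 3 ≤ m := by
      intro m hm
      have h1 := r1 (m + 3) (by
        rw [Fin.sum_univ_two]
        show coeff (m + 3) ((X : PowerSeries k) ^ 3 * n 0 + (0 : ↥A) • n 1) ≠ 0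
        rw [zero_smul, add_zero, coeff_X_pow_mul', if_pos (by omega), Nat.add_sub_cancel]
        exact hm)
      rw [mem_shift] at h1
      omega
    -- second relation: (X⁴, -X³)
    have r2 := hn ![⟨X ^ 4, hX4A⟩, -⟨X ^ 3, hX3A⟩] ⟨0, by
      rw [Fin.sum_univ_two]
      show (X : PowerSeries k) ^ 4 * X + (-(⟨X ^ 3, hX3A⟩ : ↥A)) • (X : PowerSeries k) ^ 2 = 0
      have : (-(⟨X ^ 3, hX3A⟩ : ↥A)) • (X : PowerSeries k) ^ 2 = -(X ^ 3 * X ^ 2) := by
        rw [neg_smul]
        rfl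
      rw [this]
      ring⟩
    have ord1 : ∀ m, coeff m (n 1) ≠ 0 → 3 ≤ m := by
      intro m hm
      by_contra hlt
      push Not at hlt
      have h1 := r2 (m + 3) (by
        rw [Fin.sum_univ_two]
        show coeff (m + 3) ((X : PowerSeries k) ^ 4 * n 0 +
          (-(⟨X ^ 3, hX3A⟩ : ↥A)) • n 1) ≠ 0
        have e : (-(⟨X ^ 3, hX3A⟩ : ↥A)) • n 1 = -(X ^ 3 * n 1) := by
          rw [neg_smul]
          rfl
        have e2 : coeff (m + 3) ((X : PowerSeries k) ^ 3 * n 1) = coeff m (n 1) := by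
          rw [coeff_X_pow_mul', if_pos (by omega : 3 ≤ m + 3), Nat.add_sub_cancel]
        have e1 : coeff (m + 3) ((X : PowerSeries k) ^ 4 * n 0) = 0 := by
          rw [coeff_X_pow_mul']
          split_ifs with h4
          · by_contra hne
            have := ord0 _ hne
            omega
          · rfl
        rw [e, map_add, map_neg, e1, e2, zero_add, neg_ne_zero]
        exact hm)
      rw [mem_shift] at h1
      omega
    intro j d hd m hm
    have e : d • n j = (d : PowerSeries k) * n j := rfl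
    rw [e] at hm
    obtain ⟨p, q, hpq, hp, hq⟩ := exists_of_coeff_mul_ne_zero hm
    have hpD := (mem_monoIdeal hA).1 hd p hp
    rw [mem_DE] at hpD
    have hq3 : 3 ≤ q := by
      have hall : ∀ j : Fin 2, ∀ q, coeff q (n j) ≠ 0 → 3 ≤ q := Fin.forall_fin_two.2 ⟨ord0, ord1⟩
      exact hall j q hq
    rw [mem_shift]
    exact ⟨by omega, Set.mem_univ _⟩
  have main := length_ext_final' hinj T T (hTmem 1) (xpow hA 6 h6) (xpow_ne_zero hA 6 h6) hxM
    v (fun j => hTmem _) hspan (monoIdeal hA DE DE_closed) hrel1 hrel2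
  have hEs : Esub T T = T := le_antisymm (Esub_le T T) (fun n hn => ⟨hn, fun m _ => hTmem _⟩)
  rw [hEs, rl_self, add_zero, Fintype.card_fin, hmap,
    Hsub_mono hA 6 h6 Set.univ DE (univ_closed ΓE) DE_closed
      (fun m hm => by rw [mem_DE] at hm; rw [mem_ΓE]; omega)
      (SH_closed (univ_closed ΓE))] at main
  have hSH : ∀ t, t ∈ SH 6 Set.univ DE ↔ 3 ≤ t := by
    intro t
    constructor
    · rintro ⟨-, h2⟩
      have := h2 3 (by rw [mem_DE]; omega)
      rw [mem_shift] at this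
      omega
    · intro h
      refine ⟨Set.mem_univ _, fun d hd => ?_⟩
      rw [mem_DE] at hd
      rw [mem_shift]
      exact ⟨by omega, Set.mem_univ _⟩
  have hH : rl (mono hA (shift 6 Set.univ) (shift_closed (univ_closed ΓE)))
      (mono hA (SH 6 Set.univ DE) (SH_closed (univ_closed ΓE))) = 3 := by
    rw [rl_mono hA _ _ _ _ (by
      intro t ht
      rw [mem_shift] at ht
      rw [hSH]
      omega) 6 (by
      intro m hm
      rw [mem_shift]
      exact ⟨hm, Set.mem_univ _⟩)]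
    have : (Finset.range 6).filter (fun j => j ∈ SH 6 Set.univ DE ∧
        j ∉ shift 6 Set.univ) = Finset.Ico 3 6 := by
      ext j
      simp only [Finset.mem_filter, Finset.mem_range, Finset.mem_Ico, hSH, mem_shift,
        Set.mem_univ, and_true]
      omega
    rw [this, Nat.card_Ico]
    rfl
  change _ = 2 • rl (mono hA (shift 6 Set.univ) (shift_closed (univ_closed ΓE)))
    (mono hA (SH 6 Set.univ DE) (SH_closed (univ_closed ΓE))) at main
  rw [hH] at main
  rw [main]
  norm_num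

end Groth.Agent.Helper7.MonExt

namespace Groth.Agent.Helper7.MonExt

open PowerSeries

/-- S15041 -/
theorem s15041 (k : Type u) [Field k] (A : Subalgebra k (PowerSeries k))
    (hmono : ∀ f : PowerSeries k, f ∈ A ↔ ∀ n : ℕ, PowerSeries.coeff n f ≠ 0 →
      n ∈ AddSubmonoid.closure ({3, 4} : Set ℕ)) :
    Module.length ↥A (CategoryTheory.Abelian.Ext (ModuleCat.of ↥A ↥(Submodule.span ↥A ({1, (PowerSeries.X : PowerSeries k) ^ 5} : Set (PowerSeries k)))) (ModuleCat.of ↥A ↥(Submodule.span ↥A ({1, (PowerSeries.X : PowerSeries k) ^ 5} : Set (PowerSeries k)))) 1) = 2 ∧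
    Module.length ↥A (CategoryTheory.Abelian.Ext (ModuleCat.of ↥A ↥(Submodule.span ↥A ({1, (PowerSeries.X : PowerSeries k)} : Set (PowerSeries k)))) (ModuleCat.of ↥A ↥(Submodule.span ↥A ({1, (PowerSeries.X : PowerSeries k)} : Set (PowerSeries k)))) 1) = 2 ∧
    Module.length ↥A (CategoryTheory.Abelian.Ext (ModuleCat.of ↥A ↥(Submodule.span ↥A ({1, (PowerSeries.X : PowerSeries k) ^ 2} : Set (PowerSeries k)))) (ModuleCat.of ↥A ↥(Submodule.span ↥A ({1, (PowerSeries.X : PowerSeries k) ^ 2} : Set (PowerSeries k)))) 1) = 4 ∧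
    Module.length ↥A (CategoryTheory.Abelian.Ext (ModuleCat.of ↥A ↥(Submodule.span ↥A ({1, (PowerSeries.X : PowerSeries k), (PowerSeries.X : PowerSeries k) ^ 2} : Set (PowerSeries k)))) (ModuleCat.of ↥A ↥(Submodule.span ↥A ({1, (PowerSeries.X : PowerSeries k), (PowerSeries.X : PowerSeries k) ^ 2} : Set (PowerSeries k)))) 1) = 6 := by
  have hA : ∀ f : PowerSeries k, f ∈ A ↔ ∀ m : ℕ, coeff m f ≠ 0 → m ∈ ΓE :=
    fun f => (hmono f).trans
      (forall_congr' fun n => imp_congr_right fun _ => mem_closure_E6_iff n)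
  exact ⟨e6_part1 hA, e6_part2 hA, e6_part3 hA, e6_part4 hA⟩

end Groth.Agent.Helper7.MonExt
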