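import Mathlib

set_option linter.style.haveILetI false
set_option linter.unusedSectionVars false

/-!
# Quotients `A[T_1,…,T_r]/(g_1(T_1),…,g_r(T_r))` by monic one-variable polynomials
-/

namespace Groth.Agent.Helper7.MonoQuot

universe u
open MvPolynomial

section gen

variable {A : Type u} [CommRing A] {r : ℕ} (g : Fin r → Polynomial A)

/-- the ideal `(g_i(T_i))` -/
noncomputable abbrev JG : Ideal (MvPolynomial (Fin r) A) :=
  Ideal.span (Set.range fun i => Polynomial.aeval (X i : MvPolynomial (Fin r) A) (g i))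

theorem isIntegral_quot (hg : ∀ i, (g i).Monic) :
    Algebra.IsIntegral A (MvPolynomial (Fin r) A ⧸ JG g) := by
  have hint : ∀ i, IsIntegral A (Ideal.Quotient.mkₐ A (JG g) (X i)) := by
    intro i
    refine ⟨g i, hg i, ?_⟩
    rw [← Polynomial.aeval_def, Polynomial.aeval_algHom_apply]
    exact Ideal.Quotient.eq_zero_iff_mem.mpr (Ideal.subset_span ⟨i, rfl⟩)
  have hadj : Algebra.adjoin A (Set.range fun i => Ideal.Quotient.mkₐ A (JG g) (X i)) = ⊤ := by
    have h1 := MvPolynomial.adjoin_range_X (R := A) (σ := Fin r)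
    have h2 : (Set.range fun i => Ideal.Quotient.mkₐ A (JG g) (X i)) =
        (Ideal.Quotient.mkₐ A (JG g)) '' (Set.range X) := by
      rw [← Set.range_comp]; rfl
    rw [h2, ← AlgHom.map_adjoin, h1, Algebra.map_top, AlgHom.range_eq_top]
    exact Ideal.Quotient.mkₐ_surjective A _
  have hle : (⊤ : Subalgebra A (MvPolynomial (Fin r) A ⧸ JG g)) ≤
      integralClosure A (MvPolynomial (Fin r) A ⧸ JG g) := by
    rw [← hadj]
    apply Algebra.adjoin_le
    rintro _ ⟨i, rfl⟩
    exact hint i
  exact ⟨fun x => hle Algebra.mem_top⟩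

/-- ring maps out of the quotient -/
theorem exists_lift_ringHom {S : Type*} [CommRing S] (φ : A →+* S) (x : Fin r → S)
    (hx : ∀ i, Polynomial.eval₂ φ (x i) (g i) = 0) :
    ∃ ψ : (MvPolynomial (Fin r) A ⧸ JG g) →+* S,
      ∀ q, ψ (Ideal.Quotient.mk _ q) = MvPolynomial.eval₂ φ x q := by
  refine ⟨Ideal.Quotient.lift (JG g) (MvPolynomial.eval₂Hom φ x) ?_, fun q => rfl⟩
  have hle : JG g ≤ RingHom.ker (MvPolynomial.eval₂Hom φ x) := by
    rw [Ideal.span_le]
    rintro _ ⟨i, rfl⟩
    rw [SetLike.mem_coe, RingHom.mem_ker]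
    have : (MvPolynomial.eval₂Hom φ x) (Polynomial.aeval (X i : MvPolynomial (Fin r) A) (g i)) =
        Polynomial.eval₂ φ (x i) (g i) := by
      rw [Polynomial.aeval_def, Polynomial.hom_eval₂]
      congr 1
      · ext a
        simp
      · simp
    rw [this]
    exact hx i
  intro a ha
  exact hle ha

/-- algebra maps out of the quotient -/
theorem exists_lift {S : Type*} [CommRing S] [Algebra A S] (x : Fin r → S)
    (hx : ∀ i, Polynomial.aeval (x i) (g i) = 0) :
    ∃ φ : (MvPolynomial (Fin r) A ⧸ JG g) →ₐ[A] S,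
      ∀ q, φ (Ideal.Quotient.mk _ q) = MvPolynomial.aeval x q := by
  refine ⟨Ideal.Quotient.liftₐ (JG g) (MvPolynomial.aeval x) ?_, fun q => rfl⟩
  have hle : JG g ≤ RingHom.ker (MvPolynomial.aeval x : MvPolynomial (Fin r) A →ₐ[A] S) := by
    rw [Ideal.span_le]
    rintro _ ⟨i, rfl⟩
    rw [SetLike.mem_coe, RingHom.mem_ker, ← Polynomial.aeval_algHom_apply,
      MvPolynomial.aeval_X]
    exact hx i
  intro a ha
  exact hle ha

/-- over a domain the base ring embeds into the quotient -/
theorem algebraMap_quot_injective [IsDomain A] (hg : ∀ i, (g i).degree ≠ 0) :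
    Function.Injective (algebraMap A (MvPolynomial (Fin r) A ⧸ JG g)) := by
  letI : Algebra A (AlgebraicClosure (FractionRing A)) :=
    ((algebraMap (FractionRing A) (AlgebraicClosure (FractionRing A))).comp
      (algebraMap A (FractionRing A))).toAlgebra
  have hinj : Function.Injective (algebraMap A (AlgebraicClosure (FractionRing A))) :=
    (algebraMap (FractionRing A) (AlgebraicClosure (FractionRing A))).injective.comp
      (IsFractionRing.injective A (FractionRing A))
  have hroot : ∀ i, ∃ x : AlgebraicClosure (FractionRing A),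
      Polynomial.aeval x (g i) = 0 := fun i =>
    IsAlgClosed.exists_eval₂_eq_zero_of_injective _ hinj _ (hg i)
  choose x hx using hroot
  obtain ⟨φ, hφ⟩ := exists_lift g x hx
  intro a b hab
  apply hinj
  have := congrArg φ hab
  rwa [φ.commutes, φ.commutes] at this

/-- every element of a quotient of a polynomial ring is congruent to a constant modulo the ideal
generated by the variables -/
theorem exists_sub_mem (J : Ideal (MvPolynomial (Fin r) A)) (q : MvPolynomial (Fin r) A ⧸ J) :
    ∃ a : A, q - algebraMap A _ a ∈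
      Ideal.span (Set.range fun i => (Ideal.Quotient.mk J (X i))) := by
  obtain ⟨P, rfl⟩ := Ideal.Quotient.mk_surjective q
  refine ⟨constantCoeff P, ?_⟩
  have h1 : P - C (constantCoeff P) ∈ idealOfVars (Fin r) A := by
    have := (mem_pow_idealOfVars_iff' (σ := Fin r) (R := A) 1 (P - C (constantCoeff P))).mpr ?_
    · rwa [pow_one] at this
    · intro x hx
      have hx0 : x = 0 := by
        have : Finsupp.degree x = 0 := by omega
        exact (Finsupp.degree_eq_zero_iff x).mp this
      subst hx0
      rw [coeff_sub, coeff_C, if_pos rfl]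
      exact sub_self _
  have h2 : Ideal.Quotient.mk J (P - C (constantCoeff P)) ∈
      (idealOfVars (Fin r) A).map (Ideal.Quotient.mk J) := Ideal.mem_map_of_mem _ h1
  rw [Ideal.map_span, ← Set.range_comp] at h2
  rw [map_sub] at h2
  exact h2

end gen

end Groth.Agent.Helper7.MonoQuot
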