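import Mathlib
import Groth.Agent.Helper8.Cot8

set_option autoImplicit false
set_option linter.style.haveILetI false
set_option linter.unusedSectionVars false
universe u v w

namespace Groth.Agent.Helper7.PPoly

open IsLocalRing TensorProduct

/-- a ring mapping onto a local ring with kernel in all maximal ideals is local -/
theorem isLocalRing_of_surjective_of_ker_le {B B' : Type*} [CommRing B] [CommRing B']
    [IsLocalRing B'] (π : B →+* B') (hπ : Function.Surjective π)
    (hker : ∀ M : Ideal B, M.IsMaximal → RingHom.ker π ≤ M) : IsLocalRing B := by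
  haveI : Nontrivial B := π.domain_nontrivial
  apply IsLocalRing.of_unique_max_ideal
  refine ⟨(maximalIdeal B').comap π, Ideal.comap_isMaximal_of_surjective π hπ, fun M hM => ?_⟩
  have h1 : (M.map π).comap π = M := by
    rw [Ideal.comap_map_of_surjective π hπ]
    exact sup_eq_left.mpr (hker M hM)
  have h2 : M.map π ≠ ⊤ := by
    intro h
    rw [h, Ideal.comap_top] at h1
    exact hM.ne_top h1.symm
  have h3 : (M.map π).IsMaximal :=
    (Ideal.map_eq_top_or_isMaximal_of_surjective π hπ hM).resolve_left h2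
  rw [← h1, IsLocalRing.eq_maximalIdeal h3]

/-- the embedding dimension does not change modulo an ideal contained in the square of the
maximal ideal -/
theorem spanFinrank_maximalIdeal_quotient {R : Type*} [CommRing R] [IsLocalRing R]
    [IsNoetherianRing R] (I : Ideal R) (hI : I ≤ maximalIdeal R ^ 2) [IsLocalRing (R ⧸ I)] :
    (maximalIdeal (R ⧸ I)).spanFinrank = (maximalIdeal R).spanFinrank := by
  have hmap : (maximalIdeal R).map (Ideal.Quotient.mk I) = maximalIdeal (R ⧸ I) :=
    IsLocalRing.map_maximalIdeal_of_surjective _ Ideal.Quotient.mk_surjective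
  apply le_antisymm
  · rw [← hmap]
    exact Ideal.spanFinrank_map_le_of_fg _ (maximalIdeal R).fg_of_isNoetherianRing
  · classical
    obtain ⟨s, hs1, hs2⟩ := Submodule.FG.exists_span_finset_card_eq_spanFinrank
      (maximalIdeal (R ⧸ I)).fg_of_isNoetherianRing
    -- lift the generators
    have hlift : ∀ y : s, ∃ x : R, x ∈ maximalIdeal R ∧ Ideal.Quotient.mk I x = y := by
      intro y
      have hy : (y : R ⧸ I) ∈ maximalIdeal (R ⧸ I) := hs2 ▸ Submodule.subset_span y.2
      rw [← hmap, Ideal.mem_map_iff_of_surjective _ Ideal.Quotient.mk_surjective] at hy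
      exact hy
    choose x hxm hx using hlift
    have hle : maximalIdeal R ≤ Ideal.span (Set.range x) := by
      apply Submodule.le_of_le_smul_of_le_jacobson_bot (maximalIdeal R).fg_of_isNoetherianRing
        (IsLocalRing.maximalIdeal_le_jacobson _)
      intro z hz
      have hz' : Ideal.Quotient.mk I z ∈ Ideal.span ((s : Set (R ⧸ I))) := by
        have : Ideal.Quotient.mk I z ∈ maximalIdeal (R ⧸ I) :=
          hmap ▸ Ideal.mem_map_of_mem _ hz
        rw [← hs2] at this
        exact this
      have hsx : ((s : Set (R ⧸ I))) = (Ideal.Quotient.mk I) '' (Set.range x) := by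
        ext y
        constructor
        · intro hy
          exact ⟨x ⟨y, hy⟩, ⟨_, rfl⟩, hx ⟨y, hy⟩⟩
        · rintro ⟨_, ⟨y', rfl⟩, rfl⟩
          rw [hx]
          exact y'.2
      rw [hsx, ← Ideal.map_span, Ideal.mem_map_iff_of_surjective _ Ideal.Quotient.mk_surjective]
        at hz'
      obtain ⟨w, hw, hwz⟩ := hz'
      have h1 : z - w ∈ I := by
        rw [← Ideal.Quotient.eq]
        exact hwz.symm
      have h2 : z - w ∈ maximalIdeal R • maximalIdeal R := by
        have := hI h1
        rwa [pow_two, ← smul_eq_mul] at this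
      have : z = w + (z - w) := by ring
      rw [this]
      exact Submodule.add_mem_sup hw h2
    have hle' : Ideal.span (Set.range x) = maximalIdeal R := by
      refine le_antisymm ?_ hle
      rw [Ideal.span_le]
      rintro _ ⟨y, rfl⟩
      exact hxm y
    rw [← hs1, ← hle']
    refine (Submodule.spanFinrank_span_le_ncard_of_finite (Set.finite_range x)).trans ?_
    have : (Set.range x).ncard ≤ Nat.card s := by
      rw [← Set.image_univ]
      refine (Set.ncard_image_le Set.finite_univ).trans ?_
      rw [Set.ncard_univ]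
    simpa using this

section T

open Groth.Agent.Helper8.Cot

variable (X Y Z : Type u) [CommRing X] [CommRing Y] [CommRing Z] [Algebra X Y] [Algebra Y Z]
  [Algebra X Z] [IsScalarTower X Y Z]

/-- the comparison map of differentials is injective for a quotient by an ideal contained in the
square of the kernel of `X → Z` -/
theorem tmap_injective (hs : Function.Surjective (algebraMap X Y))
    (hI : RingHom.ker (algebraMap X Y) ≤ RingHom.ker (algebraMap X Z) ^ 2) :
    Function.Injective (tmap X Y Z) := by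
  obtain ⟨d₀, hd₀⟩ : ∃ d₀ : X →+ Z ⊗[X] Ω[X⁄ℤ],
      ∀ x, d₀ x = (1 : Z) ⊗ₜ[X] KaehlerDifferential.D ℤ X x :=
    ⟨((TensorProduct.mk X Z Ω[X⁄ℤ] 1).toAddMonoidHom).comp
      ((KaehlerDifferential.D ℤ X) : X →ₗ[ℤ] Ω[X⁄ℤ]).toAddMonoidHom, fun x => rfl⟩
  have hkill : ∀ x ∈ RingHom.ker (algebraMap X Y), d₀ x = 0 := by
    intro x hx
    have h1 := hI hx
    rw [pow_two] at h1
    refine Submodule.mul_induction_on h1 ?_ ?_
    · intro a ha b hb
      have ha0 : algebraMap X Z a = 0 := ha
      have hb0 : algebraMap X Z b = 0 := hb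
      rw [hd₀, Derivation.leibniz, TensorProduct.tmul_add, TensorProduct.tmul_smul,
        TensorProduct.tmul_smul, TensorProduct.smul_tmul', TensorProduct.smul_tmul',
        Algebra.smul_def, Algebra.smul_def, ha0, hb0, zero_mul, TensorProduct.zero_tmul,
        TensorProduct.zero_tmul, add_zero]
    · intro a b ha hb
      rw [map_add, ha, hb, add_zero]
  have hwd : ∀ x, d₀ (Function.surjInv hs (algebraMap X Y x)) = d₀ x := by
    intro x
    have h1 : Function.surjInv hs (algebraMap X Y x) - x ∈ RingHom.ker (algebraMap X Y) := by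
      rw [RingHom.mem_ker, map_sub, Function.surjInv_eq hs, sub_self]
    have h2 := hkill _ h1
    rwa [map_sub, sub_eq_zero] at h2
  let ℓ : Y →+ Z ⊗[X] Ω[X⁄ℤ] :=
    AddMonoidHom.mk' (fun y => d₀ (Function.surjInv hs y)) (by
      intro y y'
      obtain ⟨x, rfl⟩ := hs y
      obtain ⟨x', rfl⟩ := hs y'
      change d₀ (Function.surjInv hs (algebraMap X Y x + algebraMap X Y x')) = _
      rw [← map_add, hwd, hwd, hwd, map_add])
  have hℓ : ∀ x, ℓ (algebraMap X Y x) = d₀ x := hwd
  let δbar : Derivation ℤ Y (Z ⊗[X] Ω[X⁄ℤ]) :=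
    { toLinearMap := ℓ.toIntLinearMap
      map_one_eq_zero' := by
        change ℓ 1 = 0
        rw [← map_one (algebraMap X Y), hℓ, hd₀, Derivation.map_one_eq_zero, TensorProduct.tmul_zero]
      leibniz' := by
        intro a b
        obtain ⟨a, rfl⟩ := hs a
        obtain ⟨b, rfl⟩ := hs b
        change ℓ (algebraMap X Y a * algebraMap X Y b) =
          algebraMap X Y a • ℓ (algebraMap X Y b) + algebraMap X Y b • ℓ (algebraMap X Y a)
        rw [← map_mul, hℓ, hℓ, hℓ, hd₀, hd₀, hd₀, Derivation.leibniz, TensorProduct.tmul_add,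
          TensorProduct.tmul_smul, TensorProduct.tmul_smul, algebraMap_smul, algebraMap_smul] }
  have hδbar : ∀ x, δbar (algebraMap X Y x) = (1 : Z) ⊗ₜ[X] KaehlerDifferential.D ℤ X x := by
    intro x
    change ℓ (algebraMap X Y x) = _
    rw [hℓ, hd₀]
  let g : Z ⊗[Y] Ω[Y⁄ℤ] →ₗ[Z] Z ⊗[X] Ω[X⁄ℤ] :=
    LinearMap.liftBaseChange Z δbar.liftKaehlerDifferential
  have hg : g ∘ₗ tmap X Y Z = LinearMap.id := by
    apply LinearMap.ext_on (span_one_tmul_D X Z)
    rintro _ ⟨x, rfl⟩
    rw [LinearMap.comp_apply, tmap_tmul_D, LinearMap.liftBaseChange_tmul, one_smul,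
      Derivation.liftKaehlerDifferential_comp_D, hδbar, LinearMap.id_apply]
  intro a b hab
  have ha := LinearMap.congr_fun hg a
  have hb := LinearMap.congr_fun hg b
  rw [LinearMap.comp_apply, LinearMap.id_apply] at ha hb
  rw [← ha, ← hb, hab]

end T

section LI

open Groth.Agent.Helper8.Cot

variable {A : Type u} [CommRing A] [IsLocalRing A] (I : Ideal A) [IsLocalRing (A ⧸ I)]

/-- linear independence of differentials in the cotangent fibre can be tested modulo an ideal
contained in the square of the maximal ideal -/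
theorem linearIndependent_iff_quotient (hI : I ≤ maximalIdeal A ^ 2) {r : ℕ} (f : Fin r → A) :
    LinearIndependent (ResidueField A)
        (fun i => (1 : ResidueField A) ⊗ₜ[A] KaehlerDifferential.D ℤ A (f i)) ↔
      LinearIndependent (ResidueField (A ⧸ I))
        (fun i => (1 : ResidueField (A ⧸ I)) ⊗ₜ[A ⧸ I]
          KaehlerDifferential.D ℤ (A ⧸ I) (Ideal.Quotient.mk I (f i))) := by
  haveI : IsLocalHom (algebraMap A (A ⧸ I)) :=
    IsLocalHom.of_surjective _ Ideal.Quotient.mk_surjective
  have hker : RingHom.ker (algebraMap A (ResidueField (A ⧸ I))) = maximalIdeal A := by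
    ext a
    rw [RingHom.mem_ker, IsScalarTower.algebraMap_apply A (A ⧸ I) (ResidueField (A ⧸ I))]
    change residue (A ⧸ I) (algebraMap A (A ⧸ I) a) = 0 ↔ _
    rw [residue_eq_zero_iff, mem_maximalIdeal, mem_maximalIdeal, mem_nonunits_iff,
      mem_nonunits_iff, not_iff_not]
    exact ⟨fun h => isUnit_of_map_unit (algebraMap A (A ⧸ I)) a h, fun h => h.map _⟩
  have hinj := tmap_injective A (A ⧸ I) (ResidueField (A ⧸ I)) Ideal.Quotient.mk_surjective
    (by rw [hker, Ideal.Quotient.algebraMap_eq, Ideal.mk_ker]; exact hI)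
  let e := TensorProduct.AlgebraTensorModule.cancelBaseChange A (ResidueField A)
    (ResidueField (A ⧸ I)) (ResidueField (A ⧸ I)) Ω[A⁄ℤ]
  have h1 : LinearIndependent (ResidueField A)
        (fun i => (1 : ResidueField A) ⊗ₜ[A] KaehlerDifferential.D ℤ A (f i)) ↔
      LinearIndependent (ResidueField (A ⧸ I)) (fun i => (1 : ResidueField (A ⧸ I)) ⊗ₜ[ResidueField A]
        ((1 : ResidueField A) ⊗ₜ[A] KaehlerDifferential.D ℤ A (f i))) :=
    ⟨linearIndependent_one_tmul _, linearIndependent_of_one_tmul _⟩
  have h2 : (fun i => (1 : ResidueField (A ⧸ I)) ⊗ₜ[A ⧸ I]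
      KaehlerDifferential.D ℤ (A ⧸ I) (Ideal.Quotient.mk I (f i))) =
      (tmap A (A ⧸ I) (ResidueField (A ⧸ I))) ∘ e.toLinearMap ∘
        (fun i => (1 : ResidueField (A ⧸ I)) ⊗ₜ[ResidueField A]
          ((1 : ResidueField A) ⊗ₜ[A] KaehlerDifferential.D ℤ A (f i))) := by
    funext i
    rw [Function.comp_apply, Function.comp_apply, LinearEquiv.coe_coe,
      TensorProduct.AlgebraTensorModule.cancelBaseChange_tmul, one_smul, tmap_tmul_D]
    rfl
  rw [h1, h2]
  exact ((LinearMap.linearIndependent_iff e.toLinearMap (LinearEquiv.ker e)).symm).trans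
    ((LinearMap.linearIndependent_iff (tmap A (A ⧸ I) (ResidueField (A ⧸ I)))
      (LinearMap.ker_eq_bot.mpr hinj)).symm)

end LI

end Groth.Agent.Helper7.PPoly
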