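import Mathlib
import Groth.Agent.Helper7.MonoQuot1
import Groth.Agent.Helper7.PPoly1

set_option linter.style.haveILetI false
set_option linter.unusedSectionVars false

/-!
# Eisenstein-type quotients `A[T]/(T_i^{d_i} + Σ_{k<d_i} c_{ik} T_i^k)`, `c_{ik} ∈ 𝔪`
-/

namespace Groth.Agent.Helper7.MonoQuot

universe u
open MvPolynomial IsLocalRing

section defs

variable {A : Type u} [CommRing A] {r : ℕ} (d : Fin r → ℕ) (c : Fin r → ℕ → A)

/-- the one-variable polynomial `T^{d_i} + Σ_{k<d_i} c_{ik} T^k` -/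
noncomputable def eg (i : Fin r) : Polynomial A :=
  Polynomial.X ^ d i + (Finset.range (d i)).sum fun k => Polynomial.C (c i k) * Polynomial.X ^ k

/-- the polynomial `T_i^{d_i} + Σ_{k<d_i} c_{ik} T_i^k` -/
noncomputable def EF (i : Fin r) : MvPolynomial (Fin r) A :=
  X i ^ d i + (Finset.range (d i)).sum fun k => C (c i k) * X i ^ k

theorem eval₂_eg {S : Type*} [CommRing S] (φ : A →+* S) (x : S) (i : Fin r) :
    Polynomial.eval₂ φ x (eg d c i) = x ^ d i + (Finset.range (d i)).sum fun k => φ (c i k) * x ^ k := by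
  unfold eg
  rw [Polynomial.eval₂_add, Polynomial.eval₂_pow, Polynomial.eval₂_X, Polynomial.eval₂_finsetSum]
  congr 1
  refine Finset.sum_congr rfl (fun k _ => ?_)
  rw [Polynomial.eval₂_mul, Polynomial.eval₂_pow, Polynomial.eval₂_X, Polynomial.eval₂_C]

theorem EF_eq (i : Fin r) :
    EF d c i = Polynomial.aeval (X i : MvPolynomial (Fin r) A) (eg d c i) := by
  rw [Polynomial.aeval_def, eval₂_eg]
  rfl

theorem eg_degree_lt (i : Fin r) :
    ((Finset.range (d i)).sum fun k => Polynomial.C (c i k) * Polynomial.X ^ k).degree <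
      ((d i : ℕ) : WithBot ℕ) := by
  rw [Polynomial.degree_lt_iff_coeff_zero]
  intro m hm
  rw [Polynomial.finsetSum_coeff]
  refine Finset.sum_eq_zero (fun k hk => ?_)
  rw [Finset.mem_range] at hk
  rw [Polynomial.coeff_C_mul, Polynomial.coeff_X_pow, if_neg (by omega), mul_zero]

theorem eg_monic (i : Fin r) : (eg d c i).Monic := by
  unfold eg
  exact Polynomial.monic_X_pow_add (eg_degree_lt d c i)

theorem eg_degree_ne_zero [Nontrivial A] (i : Fin r) (hd : d i ≠ 0) : (eg d c i).degree ≠ 0 := by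
  unfold eg
  rw [Polynomial.degree_add_eq_left_of_degree_lt
    (by rw [Polynomial.degree_X_pow]; exact eg_degree_lt d c i), Polynomial.degree_X_pow]
  exact_mod_cast hd

/-- the ideal `(F_i)` -/
noncomputable abbrev JE : Ideal (MvPolynomial (Fin r) A) := Ideal.span (Set.range (EF d c))

theorem JE_eq : JE d c = JG (eg d c) := by
  unfold JE JG
  congr 2
  funext i
  exact EF_eq d c i

theorem eval₂_eg_zero {S : Type*} [CommRing S] (φ : A →+* S) (i : Fin r) (hd : d i ≠ 0) :
    Polynomial.eval₂ φ 0 (eg d c i) = φ (c i 0) := by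
  rw [eval₂_eg, zero_pow hd, zero_add, Finset.sum_eq_single 0]
  · rw [pow_zero, mul_one]
  · intro k _ hk
    rw [zero_pow hk, mul_zero]
  · intro h
    exact absurd (Finset.mem_range.mpr (Nat.pos_of_ne_zero hd)) h

end defs

section loc

variable {A : Type u} [CommRing A] [IsLocalRing A] {r : ℕ} (d : Fin r → ℕ) (c : Fin r → ℕ → A)

/-- the class of `T_i` -/
noncomputable abbrev tt (i : Fin r) : MvPolynomial (Fin r) A ⧸ JE d c :=
  Ideal.Quotient.mk (JE d c) (X i)

/-- the defining relation -/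
theorem tt_pow (i : Fin r) :
    tt d c i ^ d i = - (Finset.range (d i)).sum fun k =>
      algebraMap A (MvPolynomial (Fin r) A ⧸ JE d c) (c i k) * tt d c i ^ k := by
  have h : Ideal.Quotient.mk (JE d c) (EF d c i) = 0 :=
    Ideal.Quotient.eq_zero_iff_mem.mpr (Ideal.subset_span ⟨i, rfl⟩)
  unfold EF at h
  rw [map_add, map_pow, map_sum] at h
  rw [eq_neg_iff_add_eq_zero, ← h]
  congr 1

theorem exists_sub_mem' (q : MvPolynomial (Fin r) A ⧸ JE d c) :
    ∃ a : A, q - algebraMap A _ a ∈ Ideal.span (Set.range (tt d c)) :=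
  exists_sub_mem (JE d c) q

/-- the augmentation onto the residue field -/
theorem exists_aug (hc : ∀ i k, c i k ∈ maximalIdeal A) (hd : ∀ i, d i ≠ 0) :
    ∃ π : (MvPolynomial (Fin r) A ⧸ JE d c) →+* ResidueField A,
      (∀ a, π (algebraMap A _ a) = residue A a) ∧ (∀ i, π (tt d c i) = 0) := by
  have h := exists_lift_ringHom (eg d c) (residue A) (fun _ => 0) (fun i => by
    rw [eval₂_eg_zero d c _ i (hd i)]
    exact (residue_eq_zero_iff _).mpr (hc i 0))
  rw [← JE_eq] at h
  obtain ⟨π, hπ⟩ := h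
  refine ⟨π, fun a => ?_, fun i => ?_⟩
  · have : algebraMap A (MvPolynomial (Fin r) A ⧸ JE d c) a = Ideal.Quotient.mk _ (C a) := rfl
    rw [this, hπ, eval₂_C]
  · rw [hπ, eval₂_X]

theorem aug_surjective (π : (MvPolynomial (Fin r) A ⧸ JE d c) →+* ResidueField A)
    (hπ : ∀ a, π (algebraMap A _ a) = residue A a) : Function.Surjective π := by
  intro y
  obtain ⟨a, rfl⟩ := residue_surjective y
  exact ⟨_, hπ a⟩

theorem tt_mem_of_isMaximal (hc : ∀ i k, c i k ∈ maximalIdeal A)
    (M : Ideal (MvPolynomial (Fin r) A ⧸ JE d c))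
    [M.IsMaximal] (hM : (maximalIdeal A).map (algebraMap A _) ≤ M) (i : Fin r) :
    tt d c i ∈ M := by
  have h : tt d c i ^ d i ∈ M := by
    rw [tt_pow, neg_mem_iff]
    refine Ideal.sum_mem _ (fun k _ => ?_)
    exact Ideal.mul_mem_right _ _ (hM (Ideal.mem_map_of_mem _ (hc i k)))
  exact Ideal.IsPrime.mem_of_pow_mem inferInstance _ h

theorem ker_aug_le (hc : ∀ i k, c i k ∈ maximalIdeal A)
    (π : (MvPolynomial (Fin r) A ⧸ JE d c) →+* ResidueField A)
    (hπ : ∀ a, π (algebraMap A _ a) = residue A a) (hπt : ∀ i, π (tt d c i) = 0)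
    (M : Ideal (MvPolynomial (Fin r) A ⧸ JE d c))
    [M.IsMaximal] (hM : (maximalIdeal A).map (algebraMap A _) ≤ M) :
    RingHom.ker π ≤ M := by
  intro q hq
  obtain ⟨a, ha⟩ := exists_sub_mem' d c q
  have hN : Ideal.span (Set.range (tt d c)) ≤ M := by
    rw [Ideal.span_le]
    rintro _ ⟨i, rfl⟩
    exact tt_mem_of_isMaximal d c hc M hM i
  have hNk : Ideal.span (Set.range (tt d c)) ≤ RingHom.ker π := by
    rw [Ideal.span_le]
    rintro _ ⟨i, rfl⟩
    exact hπt i
  have h1 : π (q - algebraMap A _ a) = 0 := hNk ha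
  rw [map_sub, hπ, (RingHom.mem_ker).mp hq, zero_sub, neg_eq_zero, residue_eq_zero_iff] at h1
  have h2 : algebraMap A (MvPolynomial (Fin r) A ⧸ JE d c) a ∈ M :=
    hM (Ideal.mem_map_of_mem _ h1)
  have : q = (q - algebraMap A _ a) + algebraMap A _ a := by ring
  rw [this]
  exact M.add_mem (hN ha) h2

theorem map_maximalIdeal_le (M : Ideal (MvPolynomial (Fin r) A ⧸ JE d c)) [hM : M.IsMaximal] :
    (maximalIdeal A).map (algebraMap A _) ≤ M := by
  haveI : Algebra.IsIntegral A (MvPolynomial (Fin r) A ⧸ JE d c) := by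
    rw [JE_eq]
    exact isIntegral_quot _ (eg_monic d c)
  have h1 : (M.comap (algebraMap A (MvPolynomial (Fin r) A ⧸ JE d c))).IsMaximal :=
    Ideal.isMaximal_comap_of_isIntegral_of_isMaximal M
  rw [Ideal.map_le_iff_le_comap, IsLocalRing.eq_maximalIdeal h1]

/-- (i): the quotient is local -/
theorem isLocalRing_quot (hc : ∀ i k, c i k ∈ maximalIdeal A) (hd : ∀ i, d i ≠ 0) :
    IsLocalRing (MvPolynomial (Fin r) A ⧸ JE d c) := by
  obtain ⟨π, hπ, hπt⟩ := exists_aug d c hc hd
  exact Groth.Agent.Helper7.PPoly.isLocalRing_of_surjective_of_ker_le π (aug_surjective d c π hπ)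
    (fun M hM => by
      haveI := hM
      exact ker_aug_le d c hc π hπ hπt M (map_maximalIdeal_le d c M))

theorem ker_aug_eq
    [IsLocalRing (MvPolynomial (Fin r) A ⧸ JE d c)]
    (π : (MvPolynomial (Fin r) A ⧸ JE d c) →+* ResidueField A)
    (hπ : ∀ a, π (algebraMap A _ a) = residue A a) :
    RingHom.ker π = maximalIdeal (MvPolynomial (Fin r) A ⧸ JE d c) :=
  IsLocalRing.eq_maximalIdeal (RingHom.ker_isMaximal_of_surjective π (aug_surjective d c π hπ))

/-- (i'): residue field `K` -/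
theorem residue_surjective_quot (hc : ∀ i k, c i k ∈ maximalIdeal A) (hd : ∀ i, d i ≠ 0)
    (M : Ideal (MvPolynomial (Fin r) A ⧸ JE d c)) [M.IsMaximal] :
    Function.Surjective ((Ideal.Quotient.mk M).comp (algebraMap A _)) := by
  obtain ⟨π, hπ, hπt⟩ := exists_aug d c hc hd
  have hk := ker_aug_le d c hc π hπ hπt M (map_maximalIdeal_le d c M)
  intro y
  obtain ⟨q, rfl⟩ := Ideal.Quotient.mk_surjective y
  obtain ⟨a, ha⟩ := residue_surjective (π q)
  refine ⟨a, ?_⟩
  rw [RingHom.comp_apply, Ideal.Quotient.eq]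
  apply hk
  rw [RingHom.mem_ker, map_sub, hπ, ha, sub_self]

end loc

end Groth.Agent.Helper7.MonoQuot
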