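import Mathlib
import Groth.Agent.Helper7.MonoQuot2

set_option linter.style.haveILetI false
set_option linter.unusedSectionVars false

/-!
# Eisenstein-type quotients: the kernel of `𝔪 → 𝔪'/𝔪'²`
-/

namespace Groth.Agent.Helper7.MonoQuot

universe u
open MvPolynomial IsLocalRing

section cot

variable {A : Type u} [CommRing A] [IsLocalRing A] {r : ℕ} (d : Fin r → ℕ) (c : Fin r → ℕ → A)
  [IsLocalRing (MvPolynomial (Fin r) A ⧸ JE d c)]

theorem tt_mem_maximalIdeal (hc : ∀ i k, c i k ∈ maximalIdeal A) (i : Fin r) :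
    tt d c i ∈ maximalIdeal (MvPolynomial (Fin r) A ⧸ JE d c) :=
  tt_mem_of_isMaximal d c hc _ (map_maximalIdeal_le d c _) i

theorem algebraMap_mem_maximalIdeal {a : A} (ha : a ∈ maximalIdeal A) :
    algebraMap A (MvPolynomial (Fin r) A ⧸ JE d c) a ∈
      maximalIdeal (MvPolynomial (Fin r) A ⧸ JE d c) :=
  map_maximalIdeal_le d c _ (Ideal.mem_map_of_mem _ ha)

theorem span_tt_le (hc : ∀ i k, c i k ∈ maximalIdeal A) :
    Ideal.span (Set.range (tt d c)) ≤ maximalIdeal (MvPolynomial (Fin r) A ⧸ JE d c) := by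
  rw [Ideal.span_le]
  rintro _ ⟨i, rfl⟩
  exact tt_mem_maximalIdeal d c hc i

theorem exists_of_mem_maximalIdeal (hc : ∀ i k, c i k ∈ maximalIdeal A)
    {q : MvPolynomial (Fin r) A ⧸ JE d c}
    (hq : q ∈ maximalIdeal (MvPolynomial (Fin r) A ⧸ JE d c)) :
    ∃ a ∈ maximalIdeal A, q - algebraMap A _ a ∈ Ideal.span (Set.range (tt d c)) := by
  obtain ⟨a, ha⟩ := exists_sub_mem' d c q
  refine ⟨a, ?_, ha⟩
  by_contra hau
  have hu : IsUnit a := by
    by_contra h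
    exact hau ((mem_maximalIdeal a).mpr h)
  have h1 : algebraMap A (MvPolynomial (Fin r) A ⧸ JE d c) a ∈
      maximalIdeal (MvPolynomial (Fin r) A ⧸ JE d c) := by
    have : algebraMap A (MvPolynomial (Fin r) A ⧸ JE d c) a =
        q - (q - algebraMap A _ a) := by ring
    rw [this]
    exact Ideal.sub_mem _ hq (span_tt_le d c hc ha)
  exact (mem_maximalIdeal _).mp h1 (hu.map _)

/-- the constant term in terms of `T_i` -/
theorem c0_eq (i : Fin r) (hd : d i ≠ 0) :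
    algebraMap A (MvPolynomial (Fin r) A ⧸ JE d c) (c i 0) =
      - (tt d c i ^ d i + ((Finset.range (d i)).erase 0).sum fun k =>
        algebraMap A (MvPolynomial (Fin r) A ⧸ JE d c) (c i k) * tt d c i ^ k) := by
  have h := tt_pow d c i
  rw [← Finset.add_sum_erase _ _ (Finset.mem_range.mpr (Nat.pos_of_ne_zero hd)), pow_zero,
    mul_one] at h
  rw [h]
  ring

theorem c0_mem_sq (hc : ∀ i k, c i k ∈ maximalIdeal A) (i : Fin r) (hd : 2 ≤ d i) :
    algebraMap A (MvPolynomial (Fin r) A ⧸ JE d c) (c i 0) ∈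
      maximalIdeal (MvPolynomial (Fin r) A ⧸ JE d c) ^ 2 := by
  rw [c0_eq d c i (by omega), neg_mem_iff]
  refine Ideal.add_mem _ ?_ (Ideal.sum_mem _ (fun k hk => ?_))
  · exact Ideal.pow_le_pow_right hd (Ideal.pow_mem_pow (tt_mem_maximalIdeal d c hc i) _)
  · rw [Finset.mem_erase] at hk
    rw [pow_two]
    refine Ideal.mul_mem_mul (algebraMap_mem_maximalIdeal d c (hc i k)) ?_
    obtain ⟨k', rfl⟩ : ∃ k', k = k' + 1 := ⟨k - 1, by omega⟩
    rw [pow_succ]
    exact Ideal.mul_mem_left _ _ (tt_mem_maximalIdeal d c hc i)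

theorem c0_mem_span (i : Fin r) (hd : d i ≠ 0) :
    algebraMap A (MvPolynomial (Fin r) A ⧸ JE d c) (c i 0) ∈ Ideal.span (Set.range (tt d c)) := by
  have ht : tt d c i ∈ Ideal.span (Set.range (tt d c)) := Ideal.subset_span ⟨i, rfl⟩
  rw [c0_eq d c i hd, neg_mem_iff]
  refine Ideal.add_mem _ ?_ (Ideal.sum_mem _ (fun k hk => ?_))
  · obtain ⟨k', hk'⟩ : ∃ k', d i = k' + 1 := ⟨d i - 1, by omega⟩
    rw [hk', pow_succ]
    exact Ideal.mul_mem_left _ _ ht
  · rw [Finset.mem_erase] at hk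
    obtain ⟨k', rfl⟩ : ∃ k', k = k' + 1 := ⟨k - 1, by omega⟩
    rw [pow_succ, ← mul_assoc]
    exact Ideal.mul_mem_left _ _ ht

/-- the map `T ↦ 0` onto `A/I` for `I ∋ c_{i0}` -/
theorem exists_zero_map (I : Ideal A) (hI : ∀ i, c i 0 ∈ I) (hd : ∀ i, d i ≠ 0) :
    ∃ Φ : (MvPolynomial (Fin r) A ⧸ JE d c) →+* A ⧸ I,
      (∀ a, Φ (algebraMap A _ a) = Ideal.Quotient.mk I a) ∧ (∀ i, Φ (tt d c i) = 0) := by
  have h := exists_lift_ringHom (eg d c) (Ideal.Quotient.mk I) (fun _ => 0) (fun i => by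
    rw [eval₂_eg_zero d c _ i (hd i)]
    exact Ideal.Quotient.eq_zero_iff_mem.mpr (hI i))
  rw [← JE_eq] at h
  obtain ⟨Φ, hΦ⟩ := h
  refine ⟨Φ, fun a => ?_, fun i => ?_⟩
  · have : algebraMap A (MvPolynomial (Fin r) A ⧸ JE d c) a = Ideal.Quotient.mk _ (C a) := rfl
    rw [this, hΦ, eval₂_C]
  · rw [hΦ, eval₂_X]

/-- the kernel of `𝔪 → 𝔪'/𝔪'²` -/
theorem comap_sq (hc : ∀ i k, c i k ∈ maximalIdeal A) (hd : ∀ i, 2 ≤ d i) :
    maximalIdeal A ⊓ Ideal.comap (algebraMap A (MvPolynomial (Fin r) A ⧸ JE d c))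
      (maximalIdeal (MvPolynomial (Fin r) A ⧸ JE d c) ^ 2) =
      maximalIdeal A ^ 2 ⊔ Ideal.span (Set.range fun i => c i 0) := by
  apply le_antisymm
  · obtain ⟨I, hI⟩ : ∃ I : Ideal A, I = maximalIdeal A ^ 2 ⊔ Ideal.span (Set.range fun i => c i 0) :=
      ⟨_, rfl⟩
    rw [← hI]
    have hcI : ∀ i, c i 0 ∈ I := fun i => hI ▸ Ideal.mem_sup_right (Ideal.subset_span ⟨i, rfl⟩)
    obtain ⟨Φ, hΦ, hΦt⟩ := exists_zero_map d c I hcI (fun i => by have := hd i; omega)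
    have hN : Ideal.span (Set.range (tt d c)) ≤ RingHom.ker Φ := by
      rw [Ideal.span_le]
      rintro _ ⟨i, rfl⟩
      exact hΦt i
    have hΦm : ∀ q ∈ maximalIdeal (MvPolynomial (Fin r) A ⧸ JE d c),
        ∃ a ∈ maximalIdeal A, Φ q = Ideal.Quotient.mk I a := by
      intro q hq
      obtain ⟨a, ha, hqa⟩ := exists_of_mem_maximalIdeal d c hc hq
      refine ⟨a, ha, ?_⟩
      have := hN hqa
      rw [RingHom.mem_ker, map_sub, hΦ, sub_eq_zero] at this
      exact this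
    have hsq : maximalIdeal (MvPolynomial (Fin r) A ⧸ JE d c) ^ 2 ≤ RingHom.ker Φ := by
      rw [pow_two, Ideal.mul_le]
      intro x hx y hy
      obtain ⟨a, ha, hxa⟩ := hΦm x hx
      obtain ⟨b, hb, hyb⟩ := hΦm y hy
      rw [RingHom.mem_ker, map_mul, hxa, hyb, ← map_mul, Ideal.Quotient.eq_zero_iff_mem, hI]
      apply Ideal.mem_sup_left
      rw [pow_two]
      exact Ideal.mul_mem_mul ha hb
    rintro a ⟨-, ha2⟩
    have := hsq ha2
    rwa [RingHom.mem_ker, hΦ, Ideal.Quotient.eq_zero_iff_mem] at this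
  · apply sup_le
    · apply le_inf (Ideal.pow_le_self two_ne_zero)
      rw [← Ideal.map_le_iff_le_comap, Ideal.map_pow]
      exact Ideal.pow_right_mono (map_maximalIdeal_le d c _) 2
    · rw [Ideal.span_le]
      rintro _ ⟨i, rfl⟩
      exact ⟨hc i 0, c0_mem_sq d c hc i (hd i)⟩

end cot

section s4604

variable {A : Type u} [CommRing A] [IsLocalRing A] {r : ℕ} (d : Fin r → ℕ) (c : Fin r → ℕ → A)

theorem s4604 (hm : maximalIdeal A ^ 2 = ⊥) (hd : ∀ i, 2 ≤ d i)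
    (hc : ∀ i k, c i k ∈ maximalIdeal A) :
    ∃ _ : IsLocalRing (MvPolynomial (Fin r) A ⧸ JE d c),
      Function.Surjective ((Ideal.Quotient.mk (maximalIdeal (MvPolynomial (Fin r) A ⧸ JE d c))).comp
        (algebraMap A (MvPolynomial (Fin r) A ⧸ JE d c))) ∧
      maximalIdeal A ⊓ Ideal.comap (algebraMap A (MvPolynomial (Fin r) A ⧸ JE d c))
          (maximalIdeal (MvPolynomial (Fin r) A ⧸ JE d c) ^ 2) =
        Ideal.span (Set.range fun i => c i 0) := by
  have hd0 : ∀ i, d i ≠ 0 := fun i => by have := hd i; omega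
  haveI hloc := isLocalRing_quot d c hc hd0
  refine ⟨hloc, residue_surjective_quot d c hc hd0 _, ?_⟩
  rw [comap_sq d c hc hd, hm, bot_sup_eq]

end s4604

end Groth.Agent.Helper7.MonoQuot
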