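import Mathlib
import Groth.Agent.Helper7.MonoQuot3
import Groth.Agent.Helper2.RegSeq
import Groth.Agent.Helper5.IntegralDim
import Groth.Agent.Lead.RegLocal
import Groth.Agent.S0564

set_option linter.style.haveILetI false
set_option linter.unusedSectionVars false

/-!
# Eisenstein-type quotients: regularity criterion
-/

namespace Groth.Agent.Helper7.MonoQuot

universe u
open MvPolynomial IsLocalRing

section gen

/-- transport of regularity and dimension along `Q/N ≅ B` -/
theorem quot_transport {Q B : Type*} [CommRing Q] [CommRing B] (Φ : Q →+* B)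
    (hΦ : Function.Surjective Φ) (N : Ideal Q) (hN : RingHom.ker Φ = N) :
    (IsRegularLocalRing (Q ⧸ N) ↔ IsRegularLocalRing B) ∧
      ringKrullDim (Q ⧸ N) = ringKrullDim B := by
  subst hN
  obtain ⟨e, -⟩ : ∃ e : (Q ⧸ RingHom.ker Φ) ≃+* B, True :=
    ⟨RingHom.quotientKerEquivOfSurjective hΦ, trivial⟩
  exact ⟨⟨fun h => IsRegularLocalRing.of_ringEquiv e, fun h => IsRegularLocalRing.of_ringEquiv e.symm⟩,
    ringKrullDim_eq_of_ringEquiv e⟩

theorem dual_mul_eq_zero {K : Type*} [CommRing K] (x y : DualNumber K)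
    (hx : TrivSqZeroExt.fst x = 0) (hy : TrivSqZeroExt.fst y = 0) : x * y = 0 := by
  apply TrivSqZeroExt.ext
  · rw [TrivSqZeroExt.fst_mul, hx, zero_mul, TrivSqZeroExt.fst_zero]
  · rw [TrivSqZeroExt.snd_mul, hx, hy, zero_smul, MulOpposite.op_zero, zero_smul, add_zero,
      TrivSqZeroExt.snd_zero]

end gen

section reg

variable {A : Type u} [CommRing A] [IsLocalRing A] {r : ℕ} (d : Fin r → ℕ) (c : Fin r → ℕ → A)
  [IsLocalRing (MvPolynomial (Fin r) A ⧸ JE d c)]

/-- `A'/(T) ≅ A/(c_{i0})` -/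
theorem exists_quot_map (hd : ∀ i, d i ≠ 0) :
    ∃ Φ : (MvPolynomial (Fin r) A ⧸ JE d c) →+* A ⧸ Ideal.span (Set.range fun i => c i 0),
      Function.Surjective Φ ∧ RingHom.ker Φ = Ideal.span (Set.range (tt d c)) := by
  obtain ⟨I, hI⟩ : ∃ I : Ideal A, I = Ideal.span (Set.range fun i => c i 0) := ⟨_, rfl⟩
  rw [← hI]
  have hcI : ∀ i, c i 0 ∈ I := fun i => hI ▸ Ideal.subset_span ⟨i, rfl⟩
  obtain ⟨Φ, hΦ, hΦt⟩ := exists_zero_map d c I hcI hd
  have hN : Ideal.span (Set.range (tt d c)) ≤ RingHom.ker Φ := by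
    rw [Ideal.span_le]
    rintro _ ⟨i, rfl⟩
    exact hΦt i
  refine ⟨Φ, ?_, le_antisymm ?_ hN⟩
  · intro y
    obtain ⟨a, rfl⟩ := Ideal.Quotient.mk_surjective y
    exact ⟨_, hΦ a⟩
  · intro q hq
    obtain ⟨a, ha⟩ := exists_sub_mem' d c q
    have h1 := hN ha
    rw [RingHom.mem_ker, map_sub, (RingHom.mem_ker).mp hq, zero_sub, neg_eq_zero, hΦ,
      Ideal.Quotient.eq_zero_iff_mem] at h1
    have h2 : I.map (algebraMap A (MvPolynomial (Fin r) A ⧸ JE d c)) ≤
        Ideal.span (Set.range (tt d c)) := by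
      rw [hI, Ideal.map_span, Ideal.span_le]
      rintro _ ⟨_, ⟨i, rfl⟩, rfl⟩
      exact c0_mem_span d c i (hd i)
    have : q = (q - algebraMap A _ a) + algebraMap A _ a := by ring
    rw [this]
    exact Ideal.add_mem _ ha (h2 (Ideal.mem_map_of_mem _ h1))

/-- test maps to the dual numbers -/
theorem exists_dual (hc : ∀ i k, c i k ∈ maximalIdeal A) (hd : ∀ i, 2 ≤ d i) (j : Fin r) :
    ∃ ψ : (MvPolynomial (Fin r) A ⧸ JE d c) →+* DualNumber (ResidueField A),
      (∀ a, ψ (algebraMap A _ a) = TrivSqZeroExt.inl (residue A a)) ∧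
      ψ (tt d c j) = DualNumber.eps ∧ ∀ i, i ≠ j → ψ (tt d c i) = 0 := by
  classical
  have h := exists_lift_ringHom (eg d c)
    ((TrivSqZeroExt.inlHom (ResidueField A) (ResidueField A)).comp (residue A))
    (fun i => if i = j then DualNumber.eps else 0) (fun i => by
      rw [eval₂_eg]
      have h1 : ∀ k, ((TrivSqZeroExt.inlHom (ResidueField A) (ResidueField A)).comp (residue A))
          (c i k) = 0 := by
        intro k
        rw [RingHom.comp_apply, (residue_eq_zero_iff _).mpr (hc i k), map_zero]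
      rw [Finset.sum_eq_zero (fun k _ => by rw [h1 k, zero_mul]), add_zero]
      split_ifs with hij
      · exact pow_eq_zero_of_le (hd i) (by rw [pow_two]; exact DualNumber.eps_mul_eps)
      · exact zero_pow (by have := hd i; omega))
  rw [← JE_eq] at h
  obtain ⟨ψ, hψ⟩ := h
  refine ⟨ψ, fun a => ?_, ?_, fun i hij => ?_⟩
  · have : algebraMap A (MvPolynomial (Fin r) A ⧸ JE d c) a = Ideal.Quotient.mk _ (C a) := rfl
    rw [this, hψ, eval₂_C]
    rfl
  · rw [hψ, eval₂_X, if_pos rfl]
  · rw [hψ, eval₂_X, if_neg hij]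

/-- the classes of the `T_i` are linearly independent in the cotangent space -/
theorem linearIndependent_tt (hc : ∀ i k, c i k ∈ maximalIdeal A) (hd : ∀ i, 2 ≤ d i) :
    LinearIndependent (ResidueField (MvPolynomial (Fin r) A ⧸ JE d c))
      (fun i => (maximalIdeal (MvPolynomial (Fin r) A ⧸ JE d c)).toCotangent
        ⟨tt d c i, tt_mem_maximalIdeal d c hc i⟩) := by
  classical
  rw [Fintype.linearIndependent_iff]
  intro cf hsum j
  choose a ha using fun k => Ideal.Quotient.mk_surjective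
    (I := maximalIdeal (MvPolynomial (Fin r) A ⧸ JE d c)) (cf k)
  have h1 : (maximalIdeal (MvPolynomial (Fin r) A ⧸ JE d c)).toCotangent
      (∑ k, a k • (⟨tt d c k, tt_mem_maximalIdeal d c hc k⟩ :
        maximalIdeal (MvPolynomial (Fin r) A ⧸ JE d c))) = 0 := by
    rw [map_sum, ← hsum]
    refine Finset.sum_congr rfl fun k _ => ?_
    rw [map_smul, ← ha k]
    rfl
  rw [Ideal.toCotangent_eq_zero] at h1
  have h1' : ∑ k, a k * tt d c k ∈ maximalIdeal (MvPolynomial (Fin r) A ⧸ JE d c) ^ 2 := by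
    convert h1 using 1
    simp only [AddSubmonoidClass.coe_finsetSum, Submodule.coe_smul, smul_eq_mul]
  obtain ⟨ψ, hψ, hψj, hψi⟩ := exists_dual d c hc hd j
  -- `ψ` maps the maximal ideal into `(ε)`
  have hN : ∀ n ∈ Ideal.span (Set.range (tt d c)), TrivSqZeroExt.fst (ψ n) = 0 := by
    intro n hn
    have hle : Ideal.span (Set.range (tt d c)) ≤ RingHom.ker
        ((TrivSqZeroExt.fstHom (ResidueField A) (ResidueField A) (ResidueField A)).toRingHom.comp
          ψ) := by
      rw [Ideal.span_le]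
      rintro _ ⟨i, rfl⟩
      rw [SetLike.mem_coe, RingHom.mem_ker, RingHom.comp_apply]
      by_cases hij : i = j
      · subst hij
        rw [hψj]
        exact DualNumber.fst_eps
      · rw [hψi i hij]
        exact map_zero _
    exact hle hn
  have hfst : ∀ q ∈ maximalIdeal (MvPolynomial (Fin r) A ⧸ JE d c),
      TrivSqZeroExt.fst (ψ q) = 0 := by
    intro q hq
    obtain ⟨b, hb, hqb⟩ := exists_of_mem_maximalIdeal d c hc hq
    have h2 := hN _ hqb
    rw [map_sub, TrivSqZeroExt.fst_sub, hψ, TrivSqZeroExt.fst_inl,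
      (residue_eq_zero_iff _).mpr hb, sub_zero] at h2
    exact h2
  have hsq : maximalIdeal (MvPolynomial (Fin r) A ⧸ JE d c) ^ 2 ≤ RingHom.ker ψ := by
    rw [pow_two, Ideal.mul_le]
    intro x hx y hy
    rw [RingHom.mem_ker, map_mul]
    exact dual_mul_eq_zero _ _ (hfst x hx) (hfst y hy)
  have h3 : ψ (∑ k, a k * tt d c k) = 0 := hsq h1'
  rw [map_sum, Finset.sum_eq_single j (fun k _ hkj => by rw [map_mul, hψi k hkj, mul_zero])
    (fun h => absurd (Finset.mem_univ j) h), map_mul, hψj] at h3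
  have h4 : TrivSqZeroExt.fst (ψ (a j)) = 0 := by
    have := congrArg TrivSqZeroExt.snd h3
    rw [TrivSqZeroExt.snd_mul, DualNumber.fst_eps, DualNumber.snd_eps, MulOpposite.op_zero,
      zero_smul, add_zero, TrivSqZeroExt.snd_zero, smul_eq_mul, mul_one] at this
    exact this
  have h5 : a j ∈ maximalIdeal (MvPolynomial (Fin r) A ⧸ JE d c) := by
    rw [mem_maximalIdeal, mem_nonunits_iff]
    intro hu
    have hu' : IsUnit (TrivSqZeroExt.fst (ψ (a j))) :=
      (hu.map ψ).map (TrivSqZeroExt.fstHom (ResidueField A) (ResidueField A) (ResidueField A))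
    rw [h4] at hu'
    exact not_isUnit_zero hu'
  rw [← ha j]
  exact Ideal.Quotient.eq_zero_iff_mem.2 h5

end reg

section main

variable {A : Type u} [CommRing A] [IsRegularLocalRing A] {r : ℕ} (d : Fin r → ℕ)
  (c : Fin r → ℕ → A)

theorem s4588 (hd : ∀ i, 2 ≤ d i) (hc : ∀ i k, c i k ∈ maximalIdeal A) :
    IsLocalRing (MvPolynomial (Fin r) A ⧸ JE d c) ∧
    (∀ (M : Ideal (MvPolynomial (Fin r) A ⧸ JE d c)) [M.IsMaximal],
      Function.Surjective ((Ideal.Quotient.mk M).comp (algebraMap A _))) ∧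
    (IsRegularRing (MvPolynomial (Fin r) A ⧸ JE d c) ↔
      LinearIndependent (ResidueField A)
        (fun i => (maximalIdeal A).toCotangent ⟨c i 0, hc i 0⟩)) := by
  have hd0 : ∀ i, d i ≠ 0 := fun i => by have := hd i; omega
  haveI hloc := isLocalRing_quot d c hc hd0
  refine ⟨hloc, fun M _ => residue_surjective_quot d c hc hd0 M, ?_⟩
  haveI : IsDomain A := Groth.Agent.Lead.RegLocal.isDomain_of_isRegularLocalRing A
  haveI hint : Algebra.IsIntegral A (MvPolynomial (Fin r) A ⧸ JE d c) := by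
    rw [JE_eq]
    exact isIntegral_quot _ (eg_monic d c)
  have hinj : Function.Injective (algebraMap A (MvPolynomial (Fin r) A ⧸ JE d c)) := by
    rw [JE_eq]
    exact algebraMap_quot_injective _ (fun i => eg_degree_ne_zero d c i (hd0 i))
  have hdim : ringKrullDim (MvPolynomial (Fin r) A ⧸ JE d c) = ringKrullDim A :=
    Groth.Agent.Helper5.IntegralDim.ringKrullDim_eq_of_isIntegral_of_injective hinj
  obtain ⟨Φ, hΦs, hΦk⟩ := exists_quot_map d c hd0
  obtain ⟨htr1, htr2⟩ := quot_transport Φ hΦs _ hΦk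
  -- Noetherianity of the quotient
  haveI : IsNoetherianRing (MvPolynomial (Fin r) A ⧸ JE d c) :=
    isNoetherianRing_of_surjective _ _ (Ideal.Quotient.mk _) Ideal.Quotient.mk_surjective
  have hregiff : IsRegularRing (MvPolynomial (Fin r) A ⧸ JE d c) ↔
      IsRegularLocalRing (MvPolynomial (Fin r) A ⧸ JE d c) := by
    constructor
    · intro h
      exact IsRegularLocalRing.of_isRegularRing_of_isLocalRing _
    · intro h
      exact { isRegularLocalRing_localization := fun q _ => Groth.Agent.S0564.result _ q }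
  rw [hregiff]
  constructor
  · intro hreg
    have h1 := Groth.Agent.Helper2.RegSeq.quotient_regular_of_indep r
      (fun i => (⟨tt d c i, tt_mem_maximalIdeal d c hc i⟩ :
        maximalIdeal (MvPolynomial (Fin r) A ⧸ JE d c))) (linearIndependent_tt d c hc hd)
    have h2 := Groth.Agent.Helper2.RegSeq.regular_of_quotient_regular (A := A) r
      (fun i => ⟨c i 0, hc i 0⟩) (by
        rw [← htr2, ← hdim]
        exact h1.1) (htr1.mp h1.2)
    exact h2.2
  · intro hli
    have h1 := Groth.Agent.Helper2.RegSeq.quotient_regular_of_indep (A := A) r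
      (fun i => ⟨c i 0, hc i 0⟩) hli
    have h2 := Groth.Agent.Helper2.RegSeq.regular_of_quotient_regular
      (A := MvPolynomial (Fin r) A ⧸ JE d c) r
      (fun i => (⟨tt d c i, tt_mem_maximalIdeal d c hc i⟩ :
        maximalIdeal (MvPolynomial (Fin r) A ⧸ JE d c))) (by
        rw [hdim, ← h1.1]
        congr 1) (htr1.mpr h1.2)
    exact h2.1

end main

end Groth.Agent.Helper7.MonoQuot
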