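import Mathlib
import Groth.Agent.Helper8.Shear

/-!
# Finiteness of the twisted translate of a hypersurface (S15079)

Strengthening of `Groth.Agent.Helper8.Shear.main` (helper8): besides the leading coefficient we also
record that the `t`-degree of the translate is positive unless `f` is a constant.
-/

open Polynomial

namespace Groth.Agent.Helper7.MovFin

open Groth.Agent.Helper8.Shear

universe u v

theorem main' {k : Type u} [Field k] (r m : ℕ)
    (f : Polynomial (MvPolynomial (Fin r) k)) (hf : f ≠ 0)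
    (hnc : ¬ ∃ a : k, f = C (MvPolynomial.C a)) :
    ∃ h : MvPolynomial (Fin r) k, h ≠ 0 ∧ ∃ s₀ : ℕ, ∀ s : ℕ, s₀ ≤ s →
      ∀ (K : Type v) [Field K] [Algebra k K] (g : Fin r → K), MvPolynomial.aeval g h ≠ 0 →
        ∃ c : K, c ≠ 0 ∧
          (Polynomial.eval₂ (φ (k := k) g (s * (m + 1))).toRingHom Polynomial.X f).leadingCoeff =
            MvPolynomial.C c ∧
          1 ≤ (Polynomial.eval₂ (φ (k := k) g (s * (m + 1))).toRingHom Polynomial.X f).natDegree := by
  classical
  have hsupp : f.support.Nonempty := by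
    rwa [Finset.nonempty_iff_ne_empty, Ne, Polynomial.support_eq_empty]
  obtain ⟨D, hD⟩ : ∃ D, D = f.support.sup (fun j => (f.coeff j).totalDegree) := ⟨_, rfl⟩
  have hJ : (f.support.filter (fun j => (f.coeff j).totalDegree = D)).Nonempty := by
    obtain ⟨j, hj, hjD⟩ := Finset.exists_mem_eq_sup f.support hsupp
      (fun j => (f.coeff j).totalDegree)
    exact ⟨j, Finset.mem_filter.mpr ⟨hj, by rw [hD, hjD]⟩⟩
  obtain ⟨j₀, hj₀⟩ : ∃ j₀, j₀ = (f.support.filter (fun j => (f.coeff j).totalDegree = D)).max' hJ :=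
    ⟨_, rfl⟩
  have hj₀mem : j₀ ∈ f.support.filter (fun j => (f.coeff j).totalDegree = D) := by
    rw [hj₀]; exact Finset.max'_mem _ _
  obtain ⟨hj₀s, hj₀D⟩ := Finset.mem_filter.mp hj₀mem
  have hfj₀ : f.coeff j₀ ≠ 0 := Polynomial.mem_support_iff.mp hj₀s
  -- positivity of the degree
  have hpos : ∀ N : ℕ, 0 < N → 1 ≤ N * D + j₀ := by
    intro N hN
    by_contra hlt
    have h0 : N * D + j₀ = 0 := by omega
    have hD0 : D = 0 := by
      rcases Nat.eq_zero_or_pos D with h | h
      · exact h
      · have : 0 < N * D := Nat.mul_pos hN h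
        omega
    have hj0 : j₀ = 0 := by omega
    apply hnc
    have hsub : ∀ j ∈ f.support, j = 0 := by
      intro j hj
      have htd : (f.coeff j).totalDegree ≤ D := by
        rw [hD]; exact Finset.le_sup (f := fun j => (f.coeff j).totalDegree) hj
      have hjJ : j ∈ f.support.filter (fun j => (f.coeff j).totalDegree = D) :=
        Finset.mem_filter.mpr ⟨hj, by omega⟩
      have hle : j ≤ j₀ := by rw [hj₀]; exact Finset.le_max' _ _ hjJ
      omega
    have hnat : f.natDegree = 0 := by
      by_contra hne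
      have : f.natDegree ∈ f.support := Polynomial.natDegree_mem_support_of_nonzero hf
      exact hne (hsub _ this)
    have hfC : f = C (f.coeff 0) := Polynomial.eq_C_of_natDegree_eq_zero hnat
    have htd0 : (f.coeff 0).totalDegree = 0 := by
      have := hj₀D
      rw [hj0, hD0] at this
      exact this
    refine ⟨MvPolynomial.coeff 0 (f.coeff 0), ?_⟩
    rw [← (MvPolynomial.totalDegree_eq_zero_iff_eq_C).1 htd0]
    exact hfC
  refine ⟨MvPolynomial.homogeneousComponent D (f.coeff j₀), ?_, f.natDegree + 1, ?_⟩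
  · rw [← hj₀D]; exact hc_ne_zero _ hfj₀
  intro s hs K _ _ g hg
  obtain ⟨N, hN⟩ : ∃ N, N = s * (m + 1) := ⟨_, rfl⟩
  have hNf : f.natDegree < N := by
    rw [hN]
    calc f.natDegree < s := hs
      _ = s * 1 := (mul_one s).symm
      _ ≤ s * (m + 1) := Nat.mul_le_mul_left _ (by omega)
  have hNpos : 0 < N := lt_of_le_of_lt (Nat.zero_le _) hNf
  rw [← hN]
  refine ⟨MvPolynomial.aeval g (MvPolynomial.homogeneousComponent D (f.coeff j₀)), hg, ?_⟩
  have hF : Polynomial.eval₂ (φ (k := k) g N).toRingHom Polynomial.X f =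
      ∑ j ∈ f.support, φ g N (f.coeff j) * Polynomial.X ^ j := by
    rw [Polynomial.eval₂_eq_sum, Polynomial.sum_def]; rfl
  have hterm : ∀ j ∈ f.support, (φ (k := k) g N (f.coeff j) * Polynomial.X ^ j).natDegree ≤ N * D + j₀ ∧
      (j ≠ j₀ → (φ (k := k) g N (f.coeff j) * Polynomial.X ^ j).natDegree < N * D + j₀) := by
    intro j hj
    have h1 : (φ (k := k) g N (f.coeff j) * Polynomial.X ^ j).natDegree ≤ N * (f.coeff j).totalDegree + j :=
      (natDegree_mul_le).trans (add_le_add (general g N hNpos _).1 (natDegree_X_pow_le _))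
    have htd : (f.coeff j).totalDegree ≤ D := by
      rw [hD]; exact Finset.le_sup (f := fun j => (f.coeff j).totalDegree) hj
    have hjf : j ≤ f.natDegree := Polynomial.le_natDegree_of_mem_supp _ hj
    rcases eq_or_lt_of_le htd with htd' | htd'
    · have hjJ : j ∈ f.support.filter (fun j => (f.coeff j).totalDegree = D) :=
        Finset.mem_filter.mpr ⟨hj, htd'⟩
      have hle : j ≤ j₀ := by rw [hj₀]; exact Finset.le_max' _ _ hjJ
      rw [htd'] at h1
      exact ⟨h1.trans (by omega), fun hne => lt_of_le_of_lt h1 (by omega)⟩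
    · have h2 : N * (f.coeff j).totalDegree + N ≤ N * D := by
        calc N * (f.coeff j).totalDegree + N = N * ((f.coeff j).totalDegree + 1) := by ring
          _ ≤ N * D := Nat.mul_le_mul_left _ htd'
      exact ⟨by omega, fun _ => by omega⟩
  have hdegF : (Polynomial.eval₂ (φ (k := k) g N).toRingHom Polynomial.X f).natDegree ≤ N * D + j₀ := by
    rw [hF]
    exact natDegree_sum_le_of_forall_le _ _ (fun j hj => (hterm j hj).1)
  have hcoeffF : (Polynomial.eval₂ (φ (k := k) g N).toRingHom Polynomial.X f).coeff (N * D + j₀) =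
      MvPolynomial.C (MvPolynomial.aeval g (MvPolynomial.homogeneousComponent D (f.coeff j₀))) := by
    rw [hF, finsetSum_coeff, Finset.sum_eq_single_of_mem j₀ hj₀s]
    · rw [coeff_mul_X_pow]
      have := (general (k := k) g N hNpos (f.coeff j₀)).2
      rw [hj₀D] at this
      exact this
    · intro j hj hne
      exact coeff_eq_zero_of_natDegree_lt ((hterm j hj).2 hne)
  have hne0 : (Polynomial.eval₂ (φ (k := k) g N).toRingHom Polynomial.X f).coeff (N * D + j₀) ≠ 0 := by
    rw [hcoeffF]
    intro h0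
    exact hg ((MvPolynomial.C_injective (Fin r) K) (h0.trans (map_zero _).symm))
  have hnat : (Polynomial.eval₂ (φ (k := k) g N).toRingHom Polynomial.X f).natDegree = N * D + j₀ :=
    le_antisymm hdegF (le_natDegree_of_ne_zero hne0)
  refine ⟨?_, ?_⟩
  · rw [Polynomial.leadingCoeff, hnat, hcoeffF]
  · rw [hnat]; exact hpos N hNpos

section Quot

variable {R : Type*} [CommRing R] [IsDomain R]

theorem finite_quot (F : R[X]) (hu : IsUnit F.leadingCoeff) :
    Module.Finite R (R[X] ⧸ Ideal.span {F}) := by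
  obtain ⟨c, hc⟩ := hu
  have hmonic : (C (↑c⁻¹ : R) * F).Monic := by
    rw [Monic, leadingCoeff_mul, leadingCoeff_C, ← hc, Units.inv_mul]
  have hspan : Ideal.span {F} = Ideal.span {C (↑c⁻¹ : R) * F} := by
    refine (Ideal.span_singleton_mul_left_unit ?_ F).symm
    exact (Polynomial.isUnit_C).2 (Units.isUnit _)
  rw [hspan]
  exact hmonic.finite_adjoinRoot

theorem injective_quot (F : R[X]) (hdeg : 1 ≤ F.natDegree) :
    Function.Injective ((Ideal.Quotient.mk (Ideal.span {F})).comp (algebraMap R R[X])) := by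
  rw [injective_iff_map_eq_zero]
  intro p hp
  rw [RingHom.comp_apply, Ideal.Quotient.eq_zero_iff_mem, Ideal.mem_span_singleton] at hp
  by_contra hp0
  have hCp : (algebraMap R R[X] p) ≠ 0 := by
    rw [Polynomial.algebraMap_apply, Algebra.algebraMap_self_apply, Ne, C_eq_zero]
    exact hp0
  have := Polynomial.natDegree_le_of_dvd hp hCp
  rw [Polynomial.algebraMap_apply, Algebra.algebraMap_self_apply, natDegree_C] at this
  omega

end Quot

theorem main {k : Type u} [Field k] (r m : ℕ)
    (f : Polynomial (MvPolynomial (Fin r) k)) (hirr : Irreducible f) (h0 : IsUnit (f.coeff 0)) :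
    ∃ h : MvPolynomial (Fin r) k, h ≠ 0 ∧ ∃ s₀ : ℕ, ∀ s : ℕ, s₀ ≤ s →
      ∀ (K : Type v) [Field K] [Algebra k K] (g : Fin r → K), MvPolynomial.aeval g h ≠ 0 →
        ∀ F : Polynomial (MvPolynomial (Fin r) K),
          F = Polynomial.eval₂ (MvPolynomial.aeval (fun i : Fin r => Polynomial.C (MvPolynomial.X i) + Polynomial.C (MvPolynomial.C (g i)) * Polynomial.X ^ (s * (m + 1))) : MvPolynomial (Fin r) k →ₐ[k] Polynomial (MvPolynomial (Fin r) K)).toRingHom Polynomial.X f →
          Module.Finite (MvPolynomial (Fin r) K) (Polynomial (MvPolynomial (Fin r) K) ⧸ Ideal.span {F}) ∧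
          Function.Injective ((Ideal.Quotient.mk (Ideal.span {F})).comp (algebraMap (MvPolynomial (Fin r) K) (Polynomial (MvPolynomial (Fin r) K)))) := by
  have hnc : ¬ ∃ a : k, f = C (MvPolynomial.C a) := by
    rintro ⟨a, ha⟩
    apply hirr.not_isUnit
    have : f.coeff 0 = MvPolynomial.C a := by rw [ha, coeff_C_zero]
    rw [ha, ← this]
    exact (Polynomial.isUnit_C).2 h0
  obtain ⟨h, hh, s₀, H⟩ := main' r m f hirr.ne_zero hnc
  refine ⟨h, hh, s₀, fun s hs K _ _ g hg F hF => ?_⟩
  obtain ⟨c, hc, hlead, hdeg⟩ := H s hs K g hg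
  have hF' : F = Polynomial.eval₂ (φ (k := k) g (s * (m + 1))).toRingHom Polynomial.X f := hF
  rw [← hF'] at hlead hdeg
  refine ⟨finite_quot F ?_, injective_quot F hdeg⟩
  rw [hlead]
  exact hc.isUnit.map MvPolynomial.C

end Groth.Agent.Helper7.MovFin
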