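import Mathlib

/-!
# Monic binary forms under homogenised translation (S16367)
-/

open Polynomial

namespace Groth.Agent.Helper7.MovId

universe u

variable {k : Type u} [CommRing k] {d n : ℕ}

/-- the contribution of one monomial to the homogenised translate -/
noncomputable def term (U : MvPolynomial (Fin d ⊕ Fin n) k) (v : Fin d → k) (N s : ℕ)
    (m : (Fin d ⊕ Fin n) →₀ ℕ) (a : k) : Polynomial (MvPolynomial (Fin d ⊕ Fin n) k) :=
  Polynomial.C (MvPolynomial.C a) * Polynomial.X ^ (N - ∑ i : Fin d, m (Sum.inl i)) *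
    (∏ i : Fin d, (Polynomial.X * Polynomial.C (MvPolynomial.X (Sum.inl i)) +
        Polynomial.C (U ^ s * MvPolynomial.C (v i))) ^ m (Sum.inl i)) *
    ∏ j : Fin n, Polynomial.C (MvPolynomial.X (Sum.inr j)) ^ m (Sum.inr j)

theorem monomial_eq' (m : (Fin d ⊕ Fin n) →₀ ℕ) (a : k) :
    (MvPolynomial.monomial m a : MvPolynomial (Fin d ⊕ Fin n) k) =
      MvPolynomial.C a * (∏ i : Fin d, MvPolynomial.X (Sum.inl i) ^ m (Sum.inl i)) *
        ∏ j : Fin n, MvPolynomial.X (Sum.inr j) ^ m (Sum.inr j) := by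
  rw [MvPolynomial.monomial_eq, Finsupp.prod_fintype _ _ (fun _ => pow_zero _),
    Fintype.prod_sum_type, mul_assoc]

theorem term_zero_eq (N : ℕ) (m : (Fin d ⊕ Fin n) →₀ ℕ) (a : k)
    (hm : ∑ i : Fin d, m (Sum.inl i) ≤ N) :
    (Polynomial.C (MvPolynomial.C a) * Polynomial.X ^ (N - ∑ i : Fin d, m (Sum.inl i)) *
      (∏ i : Fin d, (Polynomial.X * Polynomial.C (MvPolynomial.X (Sum.inl i))) ^ m (Sum.inl i)) *
      ∏ j : Fin n, Polynomial.C (MvPolynomial.X (Sum.inr j)) ^ m (Sum.inr j) :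
        Polynomial (MvPolynomial (Fin d ⊕ Fin n) k)) =
      X ^ N * C (MvPolynomial.monomial m a) := by
  rw [monomial_eq']
  simp only [map_mul, map_pow, map_prod, mul_pow, Finset.prod_mul_distrib,
    Finset.prod_pow_eq_pow_sum]
  have hN : N = (N - ∑ i : Fin d, m (Sum.inl i)) + ∑ i : Fin d, m (Sum.inl i) := by omega
  conv_rhs => rw [hN, pow_add]
  ring

theorem term_sub_mem (U : MvPolynomial (Fin d ⊕ Fin n) k) (v : Fin d → k) (N s : ℕ)
    (m : (Fin d ⊕ Fin n) →₀ ℕ) (a : k) (hm : ∑ i : Fin d, m (Sum.inl i) ≤ N) :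
    term U v N s m a - X ^ N * C (MvPolynomial.monomial m a) ∈
      Ideal.span {(C U : Polynomial (MvPolynomial (Fin d ⊕ Fin n) k)) ^ s} := by
  set I := Ideal.span {(C U : Polynomial (MvPolynomial (Fin d ⊕ Fin n) k)) ^ s} with hI
  have h0 : ∀ i, Ideal.Quotient.mk I (C (U ^ s * MvPolynomial.C (v i))) = 0 := by
    intro i
    rw [Ideal.Quotient.eq_zero_iff_mem, C_mul, C_pow]
    exact Ideal.mul_mem_right _ _ (Ideal.subset_span rfl)
  have hT3 : Ideal.Quotient.mk I (∏ i : Fin d, (Polynomial.X * Polynomial.C (MvPolynomial.X (Sum.inl i)) +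
        Polynomial.C (U ^ s * MvPolynomial.C (v i))) ^ m (Sum.inl i)) =
      Ideal.Quotient.mk I (∏ i : Fin d,
        (Polynomial.X * Polynomial.C (MvPolynomial.X (Sum.inl i))) ^ m (Sum.inl i)) := by
    rw [map_prod, map_prod]
    refine Finset.prod_congr rfl fun i _ => ?_
    rw [map_pow, map_pow, map_add, h0, add_zero]
  rw [← Ideal.Quotient.eq, ← term_zero_eq N m a hm]
  unfold term
  rw [map_mul, map_mul _ _ (∏ i : Fin d, _), hT3, ← map_mul, ← map_mul]

theorem N_zero_term (U : MvPolynomial (Fin d ⊕ Fin n) k) (v : Fin d → k) (s : ℕ)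
    (m : (Fin d ⊕ Fin n) →₀ ℕ) (a : k) (hm : ∑ i : Fin d, m (Sum.inl i) ≤ 0) :
    term U v 0 s m a = C (MvPolynomial.monomial m a) := by
  have h0 : ∀ i : Fin d, m (Sum.inl i) = 0 := by
    intro i
    have : m (Sum.inl i) ≤ ∑ i : Fin d, m (Sum.inl i) :=
      Finset.single_le_sum (f := fun i : Fin d => m (Sum.inl i)) (fun _ _ => Nat.zero_le _)
        (Finset.mem_univ i)
    omega
  unfold term
  rw [monomial_eq']
  simp only [h0, pow_zero, Finset.prod_const_one, mul_one, C_mul, C_pow, map_prod,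
    Finset.sum_const_zero, Nat.sub_zero]

/-- the homogenised translate of `g` -/
noncomputable def phi (U : MvPolynomial (Fin d ⊕ Fin n) k) (v : Fin d → k) (N s : ℕ)
    (g : MvPolynomial (Fin d ⊕ Fin n) k) : Polynomial (MvPolynomial (Fin d ⊕ Fin n) k) :=
  ∑ m ∈ g.support, term U v N s m (MvPolynomial.coeff m g)

theorem phi_sub_mem (U : MvPolynomial (Fin d ⊕ Fin n) k) (v : Fin d → k) (N s : ℕ)
    (g : MvPolynomial (Fin d ⊕ Fin n) k)
    (hdeg : ∀ m ∈ g.support, ∑ i : Fin d, m (Sum.inl i) ≤ N) :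
    phi U v N s g - X ^ N * C g ∈
      Ideal.span {(C U : Polynomial (MvPolynomial (Fin d ⊕ Fin n) k)) ^ s} := by
  have hg : X ^ N * C g = ∑ m ∈ g.support,
      X ^ N * (C (MvPolynomial.monomial m (MvPolynomial.coeff m g)) :
        Polynomial (MvPolynomial (Fin d ⊕ Fin n) k)) := by
    conv_lhs => rw [← MvPolynomial.support_sum_monomial_coeff g]
    rw [map_sum, Finset.mul_sum]
  unfold phi
  rw [hg, ← Finset.sum_sub_distrib]
  exact Ideal.sum_mem _ fun m hm => term_sub_mem U v N s m _ (hdeg m hm)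

theorem phi_N_zero (U : MvPolynomial (Fin d ⊕ Fin n) k) (v : Fin d → k) (s : ℕ)
    (g : MvPolynomial (Fin d ⊕ Fin n) k)
    (hdeg : ∀ m ∈ g.support, ∑ i : Fin d, m (Sum.inl i) ≤ 0) :
    phi U v 0 s g = C g := by
  unfold phi
  conv_rhs => rw [← MvPolynomial.support_sum_monomial_coeff g]
  rw [map_sum]
  exact Finset.sum_congr rfl fun m hm => N_zero_term U v s m _ (hdeg m hm)

theorem main (U Z : MvPolynomial (Fin d ⊕ Fin n) k) (v : Fin d → k) (N s : ℕ) (hs : N ≤ s)
    {Λ : Type*} [Fintype Λ] (f : Λ → MvPolynomial (Fin d ⊕ Fin n) k)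
    (hdeg : ∀ l, ∀ m ∈ (f l).support, ∑ i : Fin d, m (Sum.inl i) ≤ N)
    (c : ℕ → MvPolynomial (Fin d ⊕ Fin n) k)
    (hE : Z ^ N + ∑ i ∈ Finset.Icc 1 N, c i * Z ^ (N - i) * U ^ i ∈ Ideal.span (Set.range f)) :
    ∃ c' : ℕ → Polynomial (MvPolynomial (Fin d ⊕ Fin n) k),
      (X * C Z) ^ N + ∑ i ∈ Finset.Icc 1 N, c' i * (X * C Z) ^ (N - i) * C U ^ i ∈
        Ideal.span (Set.range fun l : Λ => phi U v N s (f l)) := by
  classical
  obtain ⟨a, ha⟩ := (Ideal.mem_span_range_iff_exists_fun).1 hE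
  have hmem : ∑ l, C (a l) * phi U v N s (f l) ∈
      Ideal.span (Set.range fun l : Λ => phi U v N s (f l)) :=
    Ideal.sum_mem _ fun l _ => Ideal.mul_mem_left _ _ (Ideal.subset_span ⟨l, rfl⟩)
  rcases Nat.eq_zero_or_pos N with hN | hN
  · subst hN
    refine ⟨fun _ => 0, ?_⟩
    have h1 : ∑ l, C (a l) * phi U v 0 s (f l) = 1 := by
      have : ∀ l, C (a l) * phi U v 0 s (f l) = C (a l * f l) := by
        intro l
        rw [phi_N_zero U v s (f l) (hdeg l), C_mul]
      simp only [this]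
      rw [← map_sum]
      rw [ha]
      simp
    rw [h1] at hmem
    simpa using hmem
  · -- `N ≥ 1`
    have hsum : ∑ l, C (a l) * phi U v N s (f l) -
        X ^ N * C (Z ^ N + ∑ i ∈ Finset.Icc 1 N, c i * Z ^ (N - i) * U ^ i) ∈
        Ideal.span {(C U : Polynomial (MvPolynomial (Fin d ⊕ Fin n) k)) ^ s} := by
      rw [← ha]
      simp only [map_sum, Finset.mul_sum, ← Finset.sum_sub_distrib]
      refine Ideal.sum_mem _ fun l _ => ?_
      have : C (a l) * phi U v N s (f l) - X ^ N * C (a l * f l) =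
          C (a l) * (phi U v N s (f l) - X ^ N * C (f l)) := by
        rw [C_mul]; ring
      rw [this]
      exact Ideal.mul_mem_left _ _ (phi_sub_mem U v N s (f l) (hdeg l))
    obtain ⟨G, hG⟩ := Ideal.mem_span_singleton'.1 hsum
    refine ⟨fun i => if i = N then C (c N) * X ^ N + G * C U ^ (s - N) else C (c i) * X ^ i, ?_⟩
    have key : (X * C Z) ^ N + ∑ i ∈ Finset.Icc 1 N,
        (if i = N then C (c N) * X ^ N + G * C U ^ (s - N) else C (c i) * X ^ i) *
          (X * C Z) ^ (N - i) * C U ^ i = ∑ l, C (a l) * phi U v N s (f l) := by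
      have hsplit : ∀ i ∈ Finset.Icc 1 N,
          (if i = N then C (c N) * X ^ N + G * C U ^ (s - N) else C (c i) * X ^ i) *
            (X * C Z) ^ (N - i) * C U ^ i =
          X ^ N * (C (c i) * C Z ^ (N - i) * C U ^ i) +
            (if i = N then G * C U ^ s else 0) := by
        intro i hi
        rw [Finset.mem_Icc] at hi
        have hNi : N = (N - i) + i := by omega
        by_cases h : i = N
        · subst h
          rw [if_pos rfl, if_pos rfl, Nat.sub_self, pow_zero, pow_zero, mul_one, mul_one]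
          have : s = (s - i) + i := by omega
          conv_rhs => rw [this, pow_add]
          ring
        · rw [if_neg h, if_neg h, add_zero, mul_pow]
          have hX : (X : Polynomial (MvPolynomial (Fin d ⊕ Fin n) k)) ^ N =
              X ^ (N - i) * X ^ i := by rw [← pow_add, ← hNi]
          rw [hX]
          ring
      rw [Finset.sum_congr rfl hsplit, Finset.sum_add_distrib, Finset.sum_ite_eq' (Finset.Icc 1 N) N,
        if_pos (Finset.mem_Icc.2 ⟨hN, le_refl _⟩), ← Finset.mul_sum, mul_pow]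
      have hG' : G * C U ^ s = ∑ l, C (a l) * phi U v N s (f l) -
        X ^ N * C (Z ^ N + ∑ i ∈ Finset.Icc 1 N, c i * Z ^ (N - i) * U ^ i) := hG
      rw [hG']
      simp only [map_add, map_sum, map_mul, map_pow]
      ring
    rw [key]
    exact hmem

end Groth.Agent.Helper7.MovId
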