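import Mathlib
import Groth.Agent.Helper7.AlphaSimple

set_option autoImplicit false
universe u v w
open TensorProduct

namespace Groth.Agent.Helper7.MuSimple

/-- A reduced finite-dimensional commutative algebra of dimension `> 1` over an algebraically closed
field has two distinct characters. -/
lemma exists_two_algHom {k : Type u} [Field k] [IsAlgClosed k] {D : Type v} [CommRing D]
    [Algebra k D] [Module.Finite k D] [IsReduced D] (hD : 1 < Module.finrank k D) :
    ∃ f₁ f₂ : D →ₐ[k] k, f₁ ≠ f₂ := by
  have : Nontrivial D := Module.nontrivial_of_finrank_pos (R := k) (by omega)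
  have : IsArtinianRing D := IsArtinianRing.of_finite k D
  -- character attached to a maximal ideal
  have hχ : ∀ M : Ideal D, M.IsMaximal → ∃ f : D →ₐ[k] k, RingHom.ker f = M := by
    intro M hM
    let _ := Ideal.Quotient.field M
    have hbij : Function.Bijective (algebraMap k (D ⧸ M)) :=
      IsAlgClosed.algebraMap_bijective_of_isIntegral
    let e : k ≃ₐ[k] (D ⧸ M) := AlgEquiv.ofBijective (Algebra.ofId k (D ⧸ M)) hbij
    refine ⟨(e.symm : (D ⧸ M) →ₐ[k] k).comp (Ideal.Quotient.mkₐ k M), ?_⟩
    ext x
    rw [RingHom.mem_ker, AlgHom.comp_apply, ← Ideal.Quotient.eq_zero_iff_mem]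
    exact e.symm.map_eq_zero_iff
  by_contra hall
  push Not at hall
  obtain ⟨M₀, hM₀⟩ := Ideal.exists_maximal D
  obtain ⟨f, hf⟩ := hχ M₀ hM₀
  have hker : RingHom.ker f = ⊥ := by
    have hjac : Ideal.jacobson (⊥ : Ideal D) = RingHom.ker f := by
      rw [Ideal.jacobson]
      apply le_antisymm
      · apply sInf_le
        exact ⟨bot_le, hf ▸ hM₀⟩
      · apply le_sInf
        rintro M ⟨-, hM⟩
        obtain ⟨g, hg⟩ := hχ M hM
        rw [← hg, hall g f]
    have hnil : IsNilpotent (Ideal.jacobson (⊥ : Ideal D)) := IsArtinianRing.isNilpotent_jacobson_bot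
    obtain ⟨n, hn⟩ := hnil
    rw [← hjac, eq_bot_iff]
    intro x hx
    have : x ^ n ∈ (Ideal.jacobson (⊥ : Ideal D)) ^ n := Ideal.pow_mem_pow hx n
    rw [hn] at this
    have h0 : x ^ n = 0 := this
    exact (IsReduced.eq_zero x ⟨n, h0⟩ : x = 0)
  have hinj : Function.Injective f := (RingHom.injective_iff_ker_eq_bot _).2 hker
  have hsurj : Function.Surjective f := fun r => ⟨algebraMap k D r, by simp⟩
  have e : D ≃ₗ[k] k := LinearEquiv.ofBijective f.toLinearMap ⟨hinj, hsurj⟩
  have := e.finrank_eq
  rw [Module.finrank_self] at this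
  omega


section Mu

open Groth.Agent.Helper7.AlphaSimple

variable {k : Type u} [Field k] {A : Type v} [CommRing A] [HopfAlgebra k A]

lemma isHopfIdeal_span_groupLike_sub_one {g : A} (hg : IsGroupLikeElem k g) :
    (Ideal.span ({g - 1} : Set A)).IsHopfIdeal k := by
  set I := Ideal.span ({g - 1} : Set A) with hI
  have hπ : Ideal.Quotient.mk I g = 1 := by
    have : Ideal.Quotient.mk I (g - 1) = 0 :=
      Ideal.Quotient.eq_zero_iff_mem.2 (Ideal.subset_span rfl)
    rw [map_sub, map_one, sub_eq_zero] at this
    exact this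
  refine { counit_eq_zero := ?_, map_mkQ_comul_eq_zero := ?_, antipode_mem := ?_ }
  · intro a ha
    obtain ⟨b, rfl⟩ := Ideal.mem_span_singleton'.1 ha
    change Coalgebra.counit (R := k) (b * (g - 1)) = 0
    rw [Bialgebra.counit_mul, map_sub, hg.counit_eq_one, Bialgebra.counit_one, sub_self, mul_zero]
  · intro a ha
    obtain ⟨b, rfl⟩ := Ideal.mem_span_singleton'.1 ha
    change ((Algebra.TensorProduct.map (Ideal.Quotient.mkₐ k I) (Ideal.Quotient.mkₐ k I)).comp
      (Bialgebra.comulAlgHom k A)) (b * (g - 1)) = 0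
    rw [map_mul]
    have : ((Algebra.TensorProduct.map (Ideal.Quotient.mkₐ k I) (Ideal.Quotient.mkₐ k I)).comp
      (Bialgebra.comulAlgHom k A)) (g - 1) = 0 := by
      rw [map_sub, map_one]
      simp only [AlgHom.coe_comp, Function.comp_apply, Bialgebra.comulAlgHom_apply]
      rw [hg.comul_eq_tmul_self, Algebra.TensorProduct.map_tmul]
      simp only [Ideal.Quotient.mkₐ_eq_mk, hπ]
      rw [Algebra.TensorProduct.one_def, sub_self]
    rw [this, mul_zero]
  · intro a ha
    obtain ⟨b, rfl⟩ := Ideal.mem_span_singleton'.1 ha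
    have h1 : HopfAlgebra.antipode k (b * (g - 1)) =
        HopfAlgebra.antipode k b * HopfAlgebra.antipode k (g - 1) :=
      HopfAlgebra.antipode_mul_distrib b (g - 1)
    rw [h1]
    apply Ideal.mul_mem_left
    rw [map_sub, HopfAlgebra.antipode_one, ← Ideal.Quotient.eq_zero_iff_mem, map_sub, map_one,
      sub_eq_zero]
    have h2 : g * HopfAlgebra.antipode k g = 1 := hg.mul_antipode_cancel
    have h3 := congrArg (Ideal.Quotient.mk I) h2
    rw [map_mul, hπ, one_mul, map_one] at h3
    exact h3

theorem main (p : ℕ) [Fact p.Prime] [CharP k p] [FiniteDimensional k A] [IsLocalRing A]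
    (hsimple : ∀ I : Ideal A, I.IsHopfIdeal k →
      I = ⊥ ∨ I = RingHom.ker (Bialgebra.counitAlgHom k A))
    (g : A) (hg : IsGroupLikeElem k g) (hg1 : g ≠ 1) :
    g ^ p = 1 ∧ LinearIndependent k (fun i : Fin p => g ^ (i : ℕ)) ∧ Module.finrank k A = p := by
  have hp := (Fact.out : p.Prime)
  have hm := ker_counit_eq_maximalIdeal (k := k) (A := A)
  have hcharA : CharP A p := charP_of_injective_algebraMap (algebraMap k A).injective p
  set y := g - 1 with hy
  have hy0 : y ≠ 0 := sub_ne_zero.2 hg1
  have hyε : y ∈ RingHom.ker (Bialgebra.counitAlgHom k A) := by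
    rw [RingHom.mem_ker, hy, map_sub, map_one]
    change Coalgebra.counit (R := k) g - 1 = 0
    rw [hg.counit_eq_one, sub_self]
  have hym : y ∈ IsLocalRing.maximalIdeal A := hm ▸ hyε
  have hspan : Ideal.span ({y} : Set A) = RingHom.ker (Bialgebra.counitAlgHom k A) := by
    rcases hsimple _ (isHopfIdeal_span_groupLike_sub_one hg) with h | h
    · exfalso
      apply hy0
      have : y ∈ Ideal.span ({y} : Set A) := Ideal.subset_span rfl
      rw [h] at this
      exact this
    · exact h
  have hyp : g ^ p - 1 = y ^ p := by rw [hy, sub_pow_char, one_pow]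
  have hgp : g ^ p = 1 := by
    rcases hsimple _ (isHopfIdeal_span_groupLike_sub_one (hg.pow (n := p))) with h | h
    · have : g ^ p - 1 ∈ Ideal.span ({g ^ p - 1} : Set A) := Ideal.subset_span rfl
      rw [h] at this
      exact sub_eq_zero.1 this
    · exfalso
      apply hy0
      have h1 : y ∈ Ideal.span ({y ^ p} : Set A) := by
        rw [← hyp, h, ← hspan]
        exact Ideal.subset_span rfl
      obtain ⟨c, hc⟩ := Ideal.mem_span_singleton'.1 h1
      have h2 : y * (1 - c * y ^ (p - 1)) = 0 := by
        have : y ^ p = y ^ (p - 1) * y := by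
          rw [← pow_succ]
          congr 1
          have := hp.two_le
          omega
        rw [this] at hc
        rw [mul_sub, mul_one, sub_eq_zero]
        conv_lhs => rw [← hc]
        ring
      have h3 : c * y ^ (p - 1) ∈ IsLocalRing.maximalIdeal A := by
        apply Ideal.mul_mem_left
        apply Ideal.pow_mem_of_mem _ hym
        have := hp.two_le
        omega
      have h4 : IsUnit (1 - c * y ^ (p - 1)) :=
        IsLocalRing.isUnit_one_sub_self_of_mem_nonunits _ h3
      exact h4.mul_left_eq_zero.1 h2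
  have hypz : y ^ p = 0 := by rw [← hyp, hgp, sub_self]
  -- linear independence
  let γ : GroupLike k A := ⟨g, hg⟩
  have hγp : γ ^ p = 1 := GroupLike.val_injective (by simpa [γ] using hgp)
  have hγ1 : γ ≠ 1 := fun h => hg1 (by simpa [γ] using congrArg GroupLike.val h)
  have hord : orderOf γ = p := orderOf_eq_prime hγp hγ1
  have hinj : Function.Injective (fun i : Fin p => γ ^ (i : ℕ)) := by
    intro i j hij
    have := pow_injOn_Iio_orderOf (x := γ) (by rw [hord]; exact i.2) (by rw [hord]; exact j.2) hij
    exact Fin.ext this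
  have hli : LinearIndependent k (fun i : Fin p => g ^ (i : ℕ)) := by
    have := (linearIndep_groupLikeVal (R := k) (A := A)).comp _ hinj
    exact this
  refine ⟨hgp, hli, ?_⟩
  -- spanning
  set T := Submodule.span k (Set.range (fun i : Fin p => g ^ (i : ℕ))) with hT
  have hgT : ∀ t ∈ T, g * t ∈ T := by
    intro t ht
    induction ht using Submodule.span_induction with
    | mem t ht =>
      obtain ⟨i, rfl⟩ := ht
      change g * g ^ (i : ℕ) ∈ T
      rw [← pow_succ']
      by_cases hi : (i : ℕ) + 1 < p
      · exact Submodule.subset_span ⟨⟨(i : ℕ) + 1, hi⟩, rfl⟩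
      · have : (i : ℕ) + 1 = p := by have := i.2; omega
        rw [this, hgp]
        exact Submodule.subset_span ⟨⟨0, hp.pos⟩, by simp⟩
    | zero => rw [mul_zero]; exact Submodule.zero_mem _
    | add a b _ _ ha hb => rw [mul_add]; exact Submodule.add_mem _ ha hb
    | smul c a _ ha => rw [mul_smul_comm]; exact Submodule.smul_mem _ _ ha
  have hyT : ∀ t ∈ T, y * t ∈ T := by
    intro t ht
    rw [hy, sub_mul, one_mul]
    exact Submodule.sub_mem _ (hgT t ht) ht
  have h1T : (1 : A) ∈ T := Submodule.subset_span ⟨⟨0, hp.pos⟩, by simp⟩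
  have hpowT : ∀ j : ℕ, y ^ j ∈ T := by
    intro j
    induction j with
    | zero => rw [pow_zero]; exact h1T
    | succ j ih => rw [pow_succ']; exact hyT _ ih
  have hspan_top : ⊤ ≤ T := by
    have key : ∀ j : ℕ, ∀ a : A, ∃ s ∈ T, ∃ b : A, a = s + y ^ j * b := by
      intro j
      induction j with
      | zero => intro a; exact ⟨0, Submodule.zero_mem _, a, by simp⟩
      | succ j ih =>
        intro a
        obtain ⟨s, hs, b, hab⟩ := ih a
        have hb : b - algebraMap k A (Coalgebra.counit (R := k) b) ∈ Ideal.span ({y} : Set A) := by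
          rw [hspan, RingHom.mem_ker]
          simp
        obtain ⟨c, hc⟩ := Ideal.mem_span_singleton'.1 hb
        refine ⟨s + (Coalgebra.counit (R := k) b) • y ^ j, ?_, c, ?_⟩
        · exact Submodule.add_mem _ hs (Submodule.smul_mem _ _ (hpowT j))
        · rw [hab]
          have : b = algebraMap k A (Coalgebra.counit (R := k) b) + c * y := by rw [hc]; ring
          conv_lhs => rw [this]
          rw [Algebra.smul_def, pow_succ]
          ring
    rintro a -
    obtain ⟨s, hs, b, hab⟩ := key p a
    rw [hab, hypz, zero_mul, add_zero]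
    exact hs
  have := Module.finrank_eq_card_basis (Module.Basis.mk hli hspan_top)
  rw [this, Fintype.card_fin]

end Mu

end Groth.Agent.Helper7.MuSimple
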