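import Mathlib

set_option autoImplicit false
universe u

namespace Groth.Agent.Helper7.NAGrp

variable {T : Type u} [Group T] (𝓖 : Set (Subgroup T))

/-- two-sided translates of the subgroups in `𝓖` -/
def basic : Set (Set T) :=
  {S | ∃ H ∈ 𝓖, ∃ x y : T, S = (fun g : T => x * g * y) '' (H : Set T)}

/-- the topology generated by the two-sided translates -/
def top : TopologicalSpace T := TopologicalSpace.generateFrom (basic 𝓖)

lemma mem_basic {H : Subgroup T} (hH : H ∈ 𝓖) (x y : T) :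
    (fun g : T => x * g * y) '' (H : Set T) ∈ basic 𝓖 := ⟨H, hH, x, y, rfl⟩

theorem nonarch : @NonarchimedeanGroup T _ (top 𝓖) := by
  letI : TopologicalSpace T := top 𝓖
  have hopen : ∀ {H : Subgroup T} (_ : H ∈ 𝓖) (x y : T),
      IsOpen ((fun g : T => x * g * y) '' (H : Set T)) :=
    fun hH x y => TopologicalSpace.isOpen_generateFrom_of_mem (mem_basic 𝓖 hH x y)
  have hinv : Continuous (fun a : T => a⁻¹) := by
    refine continuous_generateFrom_iff.mpr ?_
    rintro _ ⟨H, hH, x, y, rfl⟩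
    have : (fun a : T => a⁻¹) ⁻¹' ((fun g : T => x * g * y) '' (H : Set T)) =
        (fun g : T => y⁻¹ * g * x⁻¹) '' (H : Set T) := by
      ext a
      simp only [Set.mem_preimage, Set.mem_image]
      constructor
      · rintro ⟨g, hg, h⟩
        refine ⟨g⁻¹, H.inv_mem hg, ?_⟩
        rw [← inv_inv a, ← h]; group
      · rintro ⟨g, hg, rfl⟩
        exact ⟨g⁻¹, H.inv_mem hg, by group⟩
    rw [this]; exact hopen hH _ _
  have hmul : Continuous (fun p : T × T => p.1 * p.2) := by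
    refine continuous_generateFrom_iff.mpr ?_
    rintro _ ⟨H, hH, x, y, rfl⟩
    rw [isOpen_prod_iff]
    rintro a b ⟨γ, hγ, hab⟩
    refine ⟨(fun g : T => (a * b * y⁻¹) * g * (y * b⁻¹)) '' (H : Set T),
      (fun g : T => (b * y⁻¹) * g * y) '' (H : Set T), hopen hH _ _, hopen hH _ _,
      ⟨1, H.one_mem, by group⟩, ⟨1, H.one_mem, by group⟩, ?_⟩
    rintro ⟨_, _⟩ ⟨⟨g₁, hg₁, rfl⟩, ⟨g₂, hg₂, rfl⟩⟩
    refine ⟨γ * g₁ * g₂, H.mul_mem (H.mul_mem hγ hg₁) hg₂, ?_⟩
    have hab' : a * b = x * γ * y := hab.symm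
    simp only
    calc x * (γ * g₁ * g₂) * y = (x * γ * y) * y⁻¹ * g₁ * g₂ * y := by group
      _ = (a * b) * y⁻¹ * g₁ * g₂ * y := by rw [hab']
      _ = _ := by group
  refine { toIsTopologicalGroup := { continuous_mul := hmul, continuous_inv := hinv },
           is_nonarchimedean := ?_ }
  intro U hU
  have hb := TopologicalSpace.isTopologicalBasis_of_subbasis (s := basic 𝓖) rfl
  obtain ⟨t, ⟨f, ⟨hfin, hsub⟩, rfl⟩, h1, htU⟩ := hb.mem_nhds_iff.mp hU
  have key : ∀ S ∈ f, ∃ K : Subgroup T, (K : Set T) = S := by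
    intro S hS
    obtain ⟨H, hH, x, y, rfl⟩ := hsub hS
    obtain ⟨γ, hγ, h⟩ := h1 _ hS
    have hx : x = y⁻¹ * γ⁻¹ := by
      have h' : x * γ = y⁻¹ := eq_inv_of_mul_eq_one_left h
      exact eq_mul_inv_of_mul_eq h'
    refine ⟨H.map (MulAut.conj y⁻¹).toMonoidHom, ?_⟩
    ext a
    simp only [Subgroup.coe_map, MulEquiv.coe_toMonoidHom, MulAut.conj_apply, inv_inv,
      Set.mem_image, SetLike.mem_coe]
    constructor
    · rintro ⟨g, hg, rfl⟩
      exact ⟨γ * g, H.mul_mem hγ hg, by rw [hx]; group⟩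
    · rintro ⟨g, hg, rfl⟩
      exact ⟨γ⁻¹ * g, H.mul_mem (H.inv_mem hγ) hg, by rw [hx]; group⟩
  choose! K hK using key
  have hcoe : ((⨅ S : f, K S.1 : Subgroup T) : Set T) = ⋂₀ f := by
    rw [Subgroup.coe_iInf, Set.sInter_eq_iInter]
    exact Set.iInter_congr (fun S => hK S.1 S.2)
  have hVopen : IsOpen ((⨅ S : f, K S.1 : Subgroup T) : Set T) := by
    rw [hcoe]
    exact hfin.isOpen_sInter (fun S hS => TopologicalSpace.isOpen_generateFrom_of_mem (hsub hS))
  refine ⟨⟨(⨅ S : f, K S.1 : Subgroup T), hVopen⟩, ?_⟩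
  intro a ha
  apply htU
  show a ∈ ⋂₀ f
  rw [← hcoe]
  exact ha

theorem result (T : Type u) [Group T] [TopologicalSpace T] :
    @NonarchimedeanGroup T _ (TopologicalSpace.generateFrom
      {S : Set T | ∃ (Γ : OpenSubgroup T) (x y : T), S = (fun g : T => x * g * y) '' (Γ : Set T)}) := by
  have h : {S : Set T | ∃ (Γ : OpenSubgroup T) (x y : T), S = (fun g : T => x * g * y) '' (Γ : Set T)} =
      basic (Set.range (fun Γ : OpenSubgroup T => (Γ : Subgroup T))) := by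
    ext S
    constructor
    · rintro ⟨Γ, x, y, rfl⟩
      exact ⟨Γ, ⟨Γ, rfl⟩, x, y, rfl⟩
    · rintro ⟨_, ⟨Γ, rfl⟩, x, y, rfl⟩
      exact ⟨Γ, x, y, rfl⟩
  rw [h]
  exact nonarch _

end Groth.Agent.Helper7.NAGrp
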