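import Mathlib.LinearAlgebra.Basis.Fin
import Mathlib.LinearAlgebra.Dual.Lemmas
import Mathlib.LinearAlgebra.Matrix.Basis
import Mathlib.LinearAlgebra.Matrix.ToLin
import Mathlib.RingTheory.Nilpotent.Basic

set_option autoImplicit false
open Module

namespace Groth.Agent.Helper7.NCone

variable {k : Type*} [Field k]

/-- A nilpotent endomorphism of a finite-dimensional vector space has a basis in which it is
strictly lower triangular. -/
theorem exists_basis_strictLower : ∀ (n : ℕ) (V : Type*) [AddCommGroup V] [Module k V]
    [FiniteDimensional k V], finrank k V = n → ∀ f : V →ₗ[k] V, IsNilpotent f →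
    ∃ b : Basis (Fin n) k V, ∀ j, f (b j) ∈ Submodule.span k (b '' {i | j < i}) := by
  intro n
  induction n with
  | zero =>
    intro V _ _ _ hV f _
    exact ⟨Module.finBasisOfFinrankEq k V hV, fun j => j.elim0⟩
  | succ n ih =>
    intro V _ _ _ hV f hf
    -- the range of f is a proper subspace
    have hlt : LinearMap.range f < ⊤ := by
      rw [lt_top_iff_ne_top]
      intro htop
      obtain ⟨m, hm⟩ := hf
      have hsurj : Function.Surjective f := LinearMap.range_eq_top.mp htop
      have hsurjm : Function.Surjective (f ^ m) := by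
        rw [Module.End.coe_pow]
        exact hsurj.iterate m
      have hV0 : Subsingleton V := by
        refine ⟨fun a b => ?_⟩
        obtain ⟨a', rfl⟩ := hsurjm a
        obtain ⟨b', rfl⟩ := hsurjm b
        rw [hm]; rfl
      have : finrank k V = 0 := Module.finrank_zero_of_subsingleton
      omega
    obtain ⟨g, hg0, hgle⟩ := Submodule.exists_le_ker_of_lt_top _ hlt
    obtain ⟨H, hH⟩ : ∃ H : Submodule k V, H = LinearMap.ker g := ⟨_, rfl⟩
    rw [← hH] at hgle
    have hHrank : finrank k H = n := by
      have := Module.Dual.finrank_ker_add_one_of_ne_zero hg0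
      rw [← hH] at this
      omega
    have hfH : ∀ x ∈ H, f x ∈ H := fun x _ => hgle (LinearMap.mem_range_self f x)
    have hf' : IsNilpotent (f.restrict hfH) := by
      obtain ⟨m, hm⟩ := hf
      refine ⟨m, ?_⟩
      rw [Module.End.pow_restrict m hfH]
      ext x
      rw [LinearMap.coe_restrict_apply, hm]
      rfl
    obtain ⟨b', hb'⟩ := ih H hHrank (f.restrict hfH) hf'
    obtain ⟨y, hy⟩ : ∃ y, g y ≠ 0 := by
      by_contra hcon
      push Not at hcon
      exact hg0 (LinearMap.ext hcon)
    have hli : ∀ (c : k), ∀ x ∈ H, c • y + x = 0 → c = 0 := by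
      intro c x hx hc
      have h1 := congrArg g hc
      have hgx : g x = 0 := by
        rw [hH] at hx
        exact LinearMap.mem_ker.mp hx
      rw [map_add, map_smul, hgx, add_zero, map_zero, smul_eq_mul] at h1
      exact (mul_eq_zero.mp h1).resolve_right hy
    have hsp : ∀ z : V, ∃ c : k, z + c • y ∈ H := by
      intro z
      refine ⟨-(g z / g y), ?_⟩
      rw [hH, LinearMap.mem_ker, map_add, map_smul, smul_eq_mul]
      field_simp
      ring
    refine ⟨Basis.mkFinCons y b' hli hsp, ?_⟩
    have hcoe := Basis.coe_mkFinCons y b' hli hsp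
    intro j
    rw [hcoe]
    -- the span of the tail is H
    have htail : ∀ (s : Set (Fin n)),
        Submodule.map H.subtype (Submodule.span k (b' '' s)) =
          Submodule.span k ((Fin.cons y ((↑) ∘ b') : Fin (n + 1) → V) '' (Fin.succ '' s)) := by
      intro s
      rw [Submodule.map_span, Set.image_image, Set.image_image]
      rfl
    induction j using Fin.cases with
    | zero =>
      have h1 : f y ∈ H := hgle (LinearMap.mem_range_self f y)
      have h2 : (⟨f y, h1⟩ : H) ∈ Submodule.span k (b' '' Set.univ) := by
        rw [Set.image_univ, b'.span_eq]; trivial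
      have h3 : f y ∈ Submodule.map H.subtype (Submodule.span k (b' '' Set.univ)) :=
        ⟨⟨f y, h1⟩, h2, rfl⟩
      rw [htail] at h3
      simp only [Fin.cons_zero]
      refine Submodule.span_mono (Set.image_mono ?_) h3
      rintro _ ⟨i, -, rfl⟩
      exact Fin.succ_pos i
    | succ j =>
      simp only [Fin.cons_succ, Function.comp_apply]
      have h3 : f (b' j : V) ∈ Submodule.map H.subtype (Submodule.span k (b' '' {i | j < i})) :=
        ⟨f.restrict hfH (b' j), hb' j, rfl⟩
      rw [htail] at h3
      refine Submodule.span_mono (Set.image_mono ?_) h3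
      rintro _ ⟨i, hi, rfl⟩
      exact Fin.succ_lt_succ_iff.mpr hi

/-- A nilpotent matrix over a field is conjugate to a strictly lower triangular matrix. -/
theorem exists_conj_strictLower {n : ℕ} (A : Matrix (Fin n) (Fin n) k) (hA : IsNilpotent A) :
    ∃ (h h' L : Matrix (Fin n) (Fin n) k), h * h' = 1 ∧ (∀ i j, i ≤ j → L i j = 0) ∧
      A = h * L * h' := by
  classical
  let f : (Fin n → k) →ₗ[k] (Fin n → k) := Matrix.toLin' A
  have hf : IsNilpotent f := hA.map (Matrix.toLinAlgEquiv' : Matrix (Fin n) (Fin n) k ≃ₐ[k] _)
  obtain ⟨b, hb⟩ := exists_basis_strictLower (k := k) n (Fin n → k) (by simp) f hf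
  let std := Pi.basisFun k (Fin n)
  refine ⟨std.toMatrix b, b.toMatrix std, LinearMap.toMatrix b b f, ?_, ?_, ?_⟩
  · exact Basis.toMatrix_mul_toMatrix_flip std b
  · intro i j hij
    rw [LinearMap.toMatrix_apply]
    have := Basis.repr_support_subset_of_mem_span b _ (hb j)
    by_contra hne
    have hi : i ∈ (b.repr (f (b j))).support := Finsupp.mem_support_iff.mpr hne
    have : j < i := this hi
    exact absurd hij (not_le.mpr this)
  · rw [basis_toMatrix_mul_linearMap_toMatrix_mul_basis_toMatrix]
    rw [LinearMap.toMatrix_eq_toMatrix', LinearMap.toMatrix'_toLin']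

end Groth.Agent.Helper7.NCone
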