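import Mathlib.LinearAlgebra.Matrix.MvPolynomial
import Mathlib.LinearAlgebra.Matrix.Charpoly.Coeff
import Mathlib.LinearAlgebra.Matrix.Charpoly.Basic
import Mathlib.LinearAlgebra.Matrix.Adjugate
import Mathlib.RingTheory.MvPolynomial.Basic
import Mathlib.RingTheory.Polynomial.Basic
import Mathlib.RingTheory.Nilpotent.Lemmas

set_option autoImplicit false
open Polynomial

namespace Groth.Agent.Helper7.NCone

variable {R : Type*} [CommRing R] {n : ℕ}

theorem charpoly_of_strictLower (L : Matrix (Fin n) (Fin n) R) (hL : ∀ i j, i ≤ j → L i j = 0) :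
    L.charpoly = X ^ n := by
  rw [← Matrix.charpoly_transpose]
  have hU : L.transpose.IsUpperTriangular := by
    intro i j hij
    exact hL j i (le_of_lt hij)
  rw [Matrix.charpoly_of_isUpperTriangular _ hU]
  have : ∀ i : Fin n, (X - C (L.transpose i i) : R[X]) = X := by
    intro i
    rw [Matrix.transpose_apply, hL i i le_rfl, C_0, sub_zero]
  rw [Finset.prod_congr rfl (fun i _ => this i)]
  simp

theorem pow_eq_zero_of_strictLower (L : Matrix (Fin n) (Fin n) R)
    (hL : ∀ i j, i ≤ j → L i j = 0) : L ^ n = 0 := by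
  have h := Matrix.aeval_self_charpoly L
  rw [charpoly_of_strictLower L hL] at h
  simpa using h

theorem conj_adjugate_pow (G L : Matrix (Fin n) (Fin n) R) (m : ℕ) :
    (G * L * G.adjugate) ^ (m + 1) = G.det ^ m • (G * L ^ (m + 1) * G.adjugate) := by
  induction m with
  | zero => simp
  | succ m ih =>
    rw [pow_succ, ih]
    have : G * L ^ (m + 1) * G.adjugate * (G * L * G.adjugate) =
        G * L ^ (m + 1) * (G.adjugate * G) * L * G.adjugate := by
      simp only [Matrix.mul_assoc]
    rw [Matrix.smul_mul, this, Matrix.adjugate_mul, Matrix.mul_smul, Matrix.mul_one,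
      Matrix.smul_mul, Matrix.smul_mul, smul_smul, ← pow_succ, Matrix.mul_assoc G, ← pow_succ]

theorem isNilpotent_conj_adjugate (G L : Matrix (Fin n) (Fin n) R)
    (hL : ∀ i j, i ≤ j → L i j = 0) : IsNilpotent (G * L * G.adjugate) := by
  cases n with
  | zero => exact ⟨1, Subsingleton.elim _ _⟩
  | succ m =>
    refine ⟨m + 1, ?_⟩
    rw [conj_adjugate_pow, pow_eq_zero_of_strictLower L hL]
    simp

theorem charpoly_conj_adjugate [IsDomain R] (G L : Matrix (Fin n) (Fin n) R)
    (hL : ∀ i j, i ≤ j → L i j = 0) : (G * L * G.adjugate).charpoly = X ^ n := by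
  have h := Matrix.isNilpotent_charpoly_sub_pow_of_isNilpotent (isNilpotent_conj_adjugate G L hL)
  have h0 := h.eq_zero
  rw [Fintype.card_fin] at h0
  exact sub_eq_zero.mp h0

end Groth.Agent.Helper7.NCone
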