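import Groth.Agent.Helper7.NConeA
import Groth.Agent.Helper7.NConeB
import Mathlib.RingTheory.Nullstellensatz
import Mathlib.LinearAlgebra.Matrix.Charpoly.Univ

set_option autoImplicit false
open Polynomial

namespace Groth.Agent.Helper7.NCone

variable (k : Type*) [Field k] (n : ℕ)

/-- The target polynomial ring of the parametrization. -/
abbrev T := MvPolynomial ((Fin n × Fin n) ⊕ (Fin n × Fin n)) k

/-- The generic matrix `G`. -/
noncomputable def Gm : Matrix (Fin n) (Fin n) (T k n) :=
  Matrix.of fun i j => MvPolynomial.X (Sum.inl (i, j))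

/-- The generic strictly lower triangular matrix. -/
noncomputable def Lm : Matrix (Fin n) (Fin n) (T k n) :=
  Matrix.of fun i j => if j < i then MvPolynomial.X (Sum.inr (i, j)) else 0

/-- The generic nilpotent matrix `G Λ adj(G)`. -/
noncomputable def Mm : Matrix (Fin n) (Fin n) (T k n) :=
  Gm k n * Lm k n * (Gm k n).adjugate

/-- The parametrization of the nilpotent cone. -/
noncomputable def φ : MvPolynomial (Fin n × Fin n) k →ₐ[k] T k n :=
  MvPolynomial.aeval (fun p => Mm k n p.1 p.2)

/-- The ideal of the nilpotent cone. -/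
noncomputable def coneIdeal : Ideal (MvPolynomial (Fin n × Fin n) k) :=
  Ideal.span (Set.range (fun i : Fin n =>
    (Matrix.charpoly (Matrix.mvPolynomialX (Fin n) (Fin n) k)).coeff (i : ℕ)))

theorem Lm_strictLower (i j : Fin n) (hij : i ≤ j) : Lm k n i j = 0 := by
  simp [Lm, not_lt.mpr hij]

theorem charpoly_Mm : (Mm k n).charpoly = X ^ n :=
  charpoly_conj_adjugate _ _ (Lm_strictLower k n)

theorem map_φ_mvPolynomialX :
    (Matrix.mvPolynomialX (Fin n) (Fin n) k).map (φ k n) = Mm k n :=
  Matrix.mvPolynomialX_mapMatrix_aeval k (Mm k n)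

theorem φ_coeff (r : ℕ) (hr : r < n) :
    φ k n ((Matrix.charpoly (Matrix.mvPolynomialX (Fin n) (Fin n) k)).coeff r) = 0 := by
  have h1 : ((Matrix.mvPolynomialX (Fin n) (Fin n) k).map (φ k n)).charpoly =
      (Matrix.charpoly (Matrix.mvPolynomialX (Fin n) (Fin n) k)).map (φ k n).toRingHom :=
    Matrix.charpoly_map _ (φ k n).toRingHom
  rw [map_φ_mvPolynomialX, charpoly_Mm] at h1
  have h2 := congrArg (fun p => p.coeff r) h1
  simp only [coeff_map, coeff_X_pow] at h2
  rw [if_neg (by omega)] at h2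
  exact h2.symm

theorem coneIdeal_le_ker : coneIdeal k n ≤ RingHom.ker (φ k n).toRingHom := by
  rw [coneIdeal, Ideal.span_le]
  rintro _ ⟨i, rfl⟩
  exact φ_coeff k n i i.2

variable {k n}

/-- Every nilpotent matrix is a value of the generic nilpotent matrix. -/
theorem exists_point (A : Matrix (Fin n) (Fin n) k) (hA : IsNilpotent A) :
    ∃ y : (Fin n × Fin n) ⊕ (Fin n × Fin n) → k,
      ∀ i j, MvPolynomial.aeval y (Mm k n i j) = A i j := by
  obtain ⟨h, h', L, hh, hL, hAL⟩ := exists_conj_strictLower A hA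
  set d := h.det with hd
  have hd0 : d ≠ 0 := by
    intro h0
    have := congrArg Matrix.det hh
    rw [Matrix.det_mul, ← hd, h0, zero_mul, Matrix.det_one] at this
    exact zero_ne_one this
  let y : (Fin n × Fin n) ⊕ (Fin n × Fin n) → k :=
    Sum.elim (fun p => h p.1 p.2) (fun p => d⁻¹ * L p.1 p.2)
  refine ⟨y, ?_⟩
  let ev : T k n →ₐ[k] k := MvPolynomial.aeval y
  have hG : ev.mapMatrix (Gm k n) = h := by
    ext i j
    simp [ev, Gm, y]
  have hLm : ev.mapMatrix (Lm k n) = d⁻¹ • L := by
    ext i j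
    by_cases hij : j < i
    · simp [ev, Lm, y, hij]
    · simp [ev, Lm, hij, hL i j (not_lt.mp hij)]
  have hadj : h.adjugate = d • h' := by
    calc h.adjugate = h.adjugate * (h * h') := by rw [hh, Matrix.mul_one]
      _ = (h.adjugate * h) * h' := by rw [Matrix.mul_assoc]
      _ = d • h' := by rw [Matrix.adjugate_mul, Matrix.smul_mul, Matrix.one_mul]
  have hM : ev.mapMatrix (Mm k n) = A := by
    rw [Mm, map_mul, map_mul, AlgHom.map_adjugate, hG, hLm, hadj, hAL]
    rw [Matrix.mul_smul, Matrix.mul_smul, Matrix.smul_mul, smul_smul,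
      mul_inv_cancel₀ hd0, one_smul]
  intro i j
  have := congrFun (congrFun hM i) j
  exact this

end Groth.Agent.Helper7.NCone
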