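import Groth.Agent.Helper7.NConeC
import Mathlib.RingTheory.Spectrum.Prime.Topology

set_option autoImplicit false
open Polynomial

namespace Groth.Agent.Helper7.NCone

variable {k : Type*} [Field k] {n : ℕ}

/-- A point of the zero locus of the cone ideal is a nilpotent matrix. -/
theorem isNilpotent_of_mem_zeroLocus (x : Fin n × Fin n → k)
    (hx : x ∈ MvPolynomial.zeroLocus k (coneIdeal k n)) :
    IsNilpotent (Matrix.of fun i j => x (i, j) : Matrix (Fin n) (Fin n) k) := by
  set A : Matrix (Fin n) (Fin n) k := Matrix.of fun i j => x (i, j) with hA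
  have hmap : (Matrix.mvPolynomialX (Fin n) (Fin n) k).map (MvPolynomial.aeval x) = A :=
    Matrix.mvPolynomialX_mapMatrix_aeval k A
  have h1 : A.charpoly =
      (Matrix.charpoly (Matrix.mvPolynomialX (Fin n) (Fin n) k)).map
        (MvPolynomial.aeval (R := k) x).toRingHom := by
    rw [← hmap]
    exact Matrix.charpoly_map _ (MvPolynomial.aeval (R := k) x).toRingHom
  have hcoeff : ∀ r < n, A.charpoly.coeff r = 0 := by
    intro r hr
    rw [h1, coeff_map]
    exact hx _ (Ideal.subset_span ⟨⟨r, hr⟩, rfl⟩)
  have hmonic : A.charpoly.Monic := Matrix.charpoly_monic A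
  have hdeg : A.charpoly.natDegree = n := by
    rw [Matrix.charpoly_natDegree_eq_dim, Fintype.card_fin]
  have hcp : A.charpoly = X ^ n := by
    rw [hmonic.as_sum, hdeg]
    rw [Finset.sum_eq_zero, add_zero]
    intro i hi
    rw [hcoeff i (Finset.mem_range.mp hi), C_0, zero_mul]
  refine ⟨n, ?_⟩
  have := Matrix.aeval_self_charpoly A
  rw [hcp] at this
  simpa using this

variable [IsAlgClosed k]

theorem ker_le_radical : RingHom.ker (φ k n).toRingHom ≤ (coneIdeal k n).radical := by
  intro f hf
  rw [← MvPolynomial.vanishingIdeal_zeroLocus_eq_radical (K := k), MvPolynomial.mem_vanishingIdeal_iff]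
  intro x hx
  obtain ⟨y, hy⟩ := exists_point _ (isNilpotent_of_mem_zeroLocus x hx)
  have hcomp : (MvPolynomial.aeval y : T k n →ₐ[k] k).comp (φ k n) = MvPolynomial.aeval x := by
    apply MvPolynomial.algHom_ext
    intro p
    simp only [AlgHom.comp_apply, φ, MvPolynomial.aeval_X]
    exact hy p.1 p.2
  rw [← hcomp, AlgHom.comp_apply]
  have : φ k n f = 0 := hf
  rw [this, map_zero]

theorem radical_eq_ker : (coneIdeal k n).radical = RingHom.ker (φ k n).toRingHom := by
  apply le_antisymm
  · have hprime : (RingHom.ker (φ k n).toRingHom).IsPrime := RingHom.ker_isPrime _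
    exact (Ideal.IsPrime.radical_le_iff hprime).mpr (coneIdeal_le_ker k n)
  · exact ker_le_radical

theorem radical_isPrime : (coneIdeal k n).radical.IsPrime := by
  rw [radical_eq_ker]
  exact RingHom.ker_isPrime _

theorem irreducibleSpace :
    IrreducibleSpace (PrimeSpectrum (MvPolynomial (Fin n × Fin n) k ⧸ coneIdeal k n)) := by
  rw [PrimeSpectrum.irreducibleSpace_iff_isPrime_nilradical]
  have hcomap : (nilradical (MvPolynomial (Fin n × Fin n) k ⧸ coneIdeal k n)).comap
      (Ideal.Quotient.mk (coneIdeal k n)) = (coneIdeal k n).radical := by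
    rw [nilradical, Ideal.comap_radical]
    congr 1
    rw [Ideal.zero_eq_bot, ← RingHom.ker_eq_comap_bot, Ideal.mk_ker]
  have hsurj : Function.Surjective (Ideal.Quotient.mk (coneIdeal k n)) :=
    Ideal.Quotient.mk_surjective
  have := radical_isPrime (k := k) (n := n)
  rw [← hcomap] at this
  rw [← Ideal.map_comap_of_surjective _ hsurj (nilradical _)]
  exact Ideal.map_isPrime_of_surjective hsurj (by
    rw [Ideal.mk_ker, hcomap]; exact Ideal.le_radical)

end Groth.Agent.Helper7.NCone
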