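import Groth.Agent.Helper7.NConeD

set_option autoImplicit false
open Polynomial

namespace Groth.Agent.Helper7.NCone

variable (k : Type*) [Field k] (n : ℕ)

/-- The ideal of the off-diagonal coordinates. -/
noncomputable def offDiagIdeal : Ideal (MvPolynomial (Fin n × Fin n) k) :=
  Ideal.span ((fun p : Fin n × Fin n => (MvPolynomial.X p : MvPolynomial (Fin n × Fin n) k)) ''
    {p | p.1 ≠ p.2})

variable {k n}

/-- Modulo the cone ideal and the off-diagonal coordinates, the diagonal coordinates are
nilpotent. -/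
theorem X_diag_pow_mem (j : Fin n) :
    (MvPolynomial.X (j, j) : MvPolynomial (Fin n × Fin n) k) ^ n ∈
      coneIdeal k n ⊔ offDiagIdeal k n := by
  set J := coneIdeal k n ⊔ offDiagIdeal k n with hJ
  let π := Ideal.Quotient.mk J
  let d : Fin n → MvPolynomial (Fin n × Fin n) k ⧸ J := fun i => π (MvPolynomial.X (i, i))
  have hdiag : (Matrix.mvPolynomialX (Fin n) (Fin n) k).map π = Matrix.diagonal d := by
    ext i i'
    by_cases h : i = i'
    · subst h
      simp [d, Matrix.mvPolynomialX]
    · rw [Matrix.diagonal_apply_ne _ h]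
      simp only [Matrix.map_apply, Matrix.mvPolynomialX_apply]
      rw [Ideal.Quotient.eq_zero_iff_mem]
      exact Ideal.mem_sup_right (Ideal.subset_span ⟨(i, i'), h, rfl⟩)
  have h1 : (Matrix.diagonal d).charpoly =
      (Matrix.charpoly (Matrix.mvPolynomialX (Fin n) (Fin n) k)).map π := by
    rw [← hdiag]
    exact Matrix.charpoly_map _ π
  have hcoeff : ∀ r < n, (Matrix.diagonal d).charpoly.coeff r = 0 := by
    intro r hr
    rw [h1, coeff_map, Ideal.Quotient.eq_zero_iff_mem]
    exact Ideal.mem_sup_left (Ideal.subset_span ⟨⟨r, hr⟩, rfl⟩)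
  by_cases hnt : Nontrivial (MvPolynomial (Fin n × Fin n) k ⧸ J)
  · have hmonic : (Matrix.diagonal d).charpoly.Monic := Matrix.charpoly_monic _
    have hdeg : (Matrix.diagonal d).charpoly.natDegree = n := by
      rw [Matrix.charpoly_natDegree_eq_dim, Fintype.card_fin]
    have hcp : (Matrix.diagonal d).charpoly = X ^ n := by
      rw [hmonic.as_sum, hdeg]
      rw [Finset.sum_eq_zero, add_zero]
      intro i hi
      rw [hcoeff i (Finset.mem_range.mp hi), C_0, zero_mul]
    rw [Matrix.charpoly_diagonal] at hcp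
    have := congrArg (Polynomial.eval (d j)) hcp
    rw [eval_prod, eval_pow, eval_X] at this
    rw [Finset.prod_eq_zero (Finset.mem_univ j) (by simp)] at this
    have h0 : π (MvPolynomial.X (j, j) ^ n) = 0 := by
      rw [map_pow]; exact this.symm
    exact Ideal.Quotient.eq_zero_iff_mem.mp h0
  · rw [not_nontrivial_iff_subsingleton] at hnt
    exact Ideal.Quotient.eq_zero_iff_mem.mp (Subsingleton.elim _ _)

/-- An ideal containing all the coordinates contains the ideal of the origin. -/
theorem vanishingIdeal_zero_le (K : Ideal (MvPolynomial (Fin n × Fin n) k))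
    (hK : ∀ p, (MvPolynomial.X p : MvPolynomial (Fin n × Fin n) k) ∈ K) :
    MvPolynomial.vanishingIdeal k {(0 : Fin n × Fin n → k)} ≤ K := by
  intro f hf
  rw [MvPolynomial.mem_vanishingIdeal_singleton_iff] at hf
  have hcomp : (Ideal.Quotient.mkₐ k K) =
      (Algebra.ofId k (MvPolynomial (Fin n × Fin n) k ⧸ K)).comp
        (MvPolynomial.aeval (0 : Fin n × Fin n → k)) := by
    apply MvPolynomial.algHom_ext
    intro p
    simp only [Ideal.Quotient.mkₐ_eq_mk, AlgHom.comp_apply, MvPolynomial.aeval_X, Pi.zero_apply,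
      map_zero]
    exact Ideal.Quotient.eq_zero_iff_mem.mpr (hK p)
  have := congrArg (fun F => F f) hcomp
  simp only [Ideal.Quotient.mkₐ_eq_mk, AlgHom.comp_apply, hf, map_zero] at this
  exact Ideal.Quotient.eq_zero_iff_mem.mp this

end Groth.Agent.Helper7.NCone
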