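import Groth.Agent.Helper7.NConeE
import Groth.Agent.Helper5.FtDim5

set_option autoImplicit false
open Polynomial
universe u

namespace Groth.Agent.Helper7.NCone

/-- Krull dimension is insensitive to a nil kernel. -/
theorem ringKrullDim_eq_of_nil_ker {R S : Type*} [CommRing R] [CommRing S]
    (f : R →+* S) (hf : Function.Surjective f) (h1 : RingHom.ker f ≤ nilradical R) :
    ringKrullDim R = ringKrullDim S := by
  refine le_antisymm ?_ (ringKrullDim_le_of_surjective f hf)
  have hker : ∀ p : PrimeSpectrum R, RingHom.ker f ≤ p.asIdeal := fun p =>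
    h1.trans (nilradical_le_prime p.asIdeal)
  refine Order.krullDim_le_of_strictMono
    (fun p => ⟨p.asIdeal.map f, Ideal.map_isPrime_of_surjective hf (hker p)⟩) ?_
  intro p q hpq
  have hc : ∀ p : PrimeSpectrum R, (p.asIdeal.map f).comap f = p.asIdeal := fun p => by
    rw [Ideal.comap_map_of_surjective f hf]
    exact sup_eq_left.mpr (by
      change Ideal.comap f ⊥ ≤ _
      exact hker p)
  rw [← PrimeSpectrum.asIdeal_lt_asIdeal] at hpq ⊢
  change p.asIdeal.map f < q.asIdeal.map f
  refine lt_of_le_of_ne (Ideal.map_mono hpq.le) ?_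
  intro h
  have := congrArg (Ideal.comap f) h
  rw [hc p, hc q] at this
  exact hpq.ne this

variable {k : Type u} [Field k] {n : ℕ}

theorem coneIdeal_le_origin :
    coneIdeal k n ≤ MvPolynomial.vanishingIdeal k {(0 : Fin n × Fin n → k)} := by
  rw [coneIdeal, Ideal.span_le]
  rintro _ ⟨r, rfl⟩
  rw [SetLike.mem_coe, MvPolynomial.mem_vanishingIdeal_singleton_iff]
  have hmap : (Matrix.mvPolynomialX (Fin n) (Fin n) k).map
      (MvPolynomial.aeval (0 : Fin n × Fin n → k)) = (0 : Matrix (Fin n) (Fin n) k) :=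
    Matrix.mvPolynomialX_mapMatrix_aeval k (0 : Matrix (Fin n) (Fin n) k)
  have h1 : (0 : Matrix (Fin n) (Fin n) k).charpoly =
      (Matrix.charpoly (Matrix.mvPolynomialX (Fin n) (Fin n) k)).map
        (MvPolynomial.aeval (R := k) (0 : Fin n × Fin n → k)).toRingHom := by
    rw [← hmap]
    exact Matrix.charpoly_map _ (MvPolynomial.aeval (R := k) (0 : Fin n × Fin n → k)).toRingHom
  have h2 := congrArg (fun p => p.coeff (r : ℕ)) h1
  simp only [Matrix.charpoly_zero, Fintype.card_fin, coeff_X_pow, coeff_map] at h2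
  rw [if_neg (by have := r.2; omega)] at h2
  exact h2.symm

theorem ringKrullDim_mvPolynomial :
    ringKrullDim (MvPolynomial (Fin n × Fin n) k) = ((n * n : ℕ) : WithBot ℕ∞) := by
  rw [MvPolynomial.ringKrullDim_of_isNoetherianRing, ringKrullDim_eq_zero_of_field, zero_add,
    Nat.card_prod, Nat.card_fin]

theorem dim_ge :
    ((n ^ 2 - n : ℕ) : WithBot ℕ∞) ≤
      ringKrullDim (MvPolynomial (Fin n × Fin n) k ⧸ coneIdeal k n) := by
  set m₀ := MvPolynomial.vanishingIdeal k {(0 : Fin n × Fin n → k)} with hm₀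
  have h1 : (m₀.height : WithBot ℕ∞) = ringKrullDim (MvPolynomial (Fin n × Fin n) k) :=
    Groth.Agent.Helper5.FtDim.height_of_isMaximal k _ m₀
  rw [ringKrullDim_mvPolynomial] at h1
  set s : Set (MvPolynomial (Fin n × Fin n) k) := Set.range (fun i : Fin n =>
    (Matrix.charpoly (Matrix.mvPolynomialX (Fin n) (Fin n) k)).coeff (i : ℕ)) with hs
  have hsub : s ⊆ m₀ := by
    intro x hx
    exact coneIdeal_le_origin (Ideal.subset_span hx)
  have h3 := Ideal.height_le_ringKrullDim_quotient_add_encard s hsub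
  have hcard : s.encard ≤ n := by
    rw [hs, ← Set.image_univ]
    refine (Set.encard_image_le _ _).trans ?_
    simp
  change _ ≤ ringKrullDim (MvPolynomial (Fin n × Fin n) k ⧸ Ideal.span s)
  have h4 : ((n * n : ℕ) : WithBot ℕ∞) ≤
      ringKrullDim (MvPolynomial (Fin n × Fin n) k ⧸ Ideal.span s) + (n : ℕ∞) := by
    rw [← h1]
    refine h3.trans ?_
    gcongr
    exact_mod_cast hcard
  generalize ringKrullDim (MvPolynomial (Fin n × Fin n) k ⧸ Ideal.span s) = D at h4 ⊢
  induction D using WithBot.recBotCoe with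
  | bot =>
    exfalso
    rw [WithBot.bot_add] at h4
    exact WithBot.coe_ne_bot (le_bot_iff.mp h4)
  | coe D =>
    induction D using ENat.recTopCoe with
    | top => exact le_top
    | coe d =>
      have : n * n ≤ d + n := by exact_mod_cast h4
      have h5 : n ^ 2 - n ≤ d := by
        rw [sq]; omega
      have h6 : ((n ^ 2 - n : ℕ) : ℕ∞) ≤ (d : ℕ∞) := by exact_mod_cast h5
      exact WithBot.coe_le_coe.mpr h6

variable [IsAlgClosed k]

theorem dim_le :
    ringKrullDim (MvPolynomial (Fin n × Fin n) k ⧸ coneIdeal k n) ≤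
      ((n ^ 2 - n : ℕ) : WithBot ℕ∞) := by
  set Q := (coneIdeal k n).radical with hQ
  haveI hQp : Q.IsPrime := radical_isPrime
  have hIQ : coneIdeal k n ≤ Q := Ideal.le_radical
  -- pass to the reduced quotient
  have hdim : ringKrullDim (MvPolynomial (Fin n × Fin n) k ⧸ coneIdeal k n) =
      ringKrullDim (MvPolynomial (Fin n × Fin n) k ⧸ Q) := by
    refine ringKrullDim_eq_of_nil_ker (Ideal.Quotient.factor hIQ)
      (Ideal.Quotient.factor_surjective hIQ) ?_
    intro x hx
    obtain ⟨p, rfl⟩ := Ideal.Quotient.mk_surjective x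
    rw [RingHom.mem_ker, Ideal.Quotient.factor_mk, Ideal.Quotient.eq_zero_iff_mem] at hx
    obtain ⟨m, hm⟩ := hx
    refine ⟨m, ?_⟩
    rw [← map_pow]
    exact Ideal.Quotient.eq_zero_iff_mem.mpr hm
  rw [hdim]
  set m₀ := MvPolynomial.vanishingIdeal k {(0 : Fin n × Fin n → k)} with hm₀
  have hQm : Q ≤ m₀ :=
    (Ideal.IsPrime.radical_le_iff (inferInstance : m₀.IsPrime)).mpr coneIdeal_le_origin
  let π := Ideal.Quotient.mk Q
  have hπ : Function.Surjective π := Ideal.Quotient.mk_surjective
  haveI hmax : (m₀.map π).IsMaximal :=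
    Ideal.IsMaximal.map_of_surjective_of_ker_le hπ (by rw [Ideal.mk_ker]; exact hQm)
  have h1 : ((m₀.map π).height : WithBot ℕ∞) =
      ringKrullDim (MvPolynomial (Fin n × Fin n) k ⧸ Q) :=
    Groth.Agent.Helper5.FtDim.height_of_isMaximal k _ (m₀.map π)
  rw [← h1]
  classical
  let t : Finset (MvPolynomial (Fin n × Fin n) k ⧸ Q) :=
    ((Finset.univ : Finset (Fin n)).offDiag).image (fun p => π (MvPolynomial.X p))
  have hmin : m₀.map π ∈ (Ideal.span (t : Set (MvPolynomial (Fin n × Fin n) k ⧸ Q))).minimalPrimes := by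
    refine ⟨⟨hmax.isPrime, ?_⟩, ?_⟩
    · rw [Ideal.span_le]
      intro x hx
      simp only [t, Finset.coe_image, Set.mem_image] at hx
      obtain ⟨p, -, rfl⟩ := hx
      refine Ideal.mem_map_of_mem π ?_
      rw [MvPolynomial.mem_vanishingIdeal_singleton_iff]
      simp
    · rintro q ⟨hqp, hq⟩ -
      have hX : ∀ p, (MvPolynomial.X p : MvPolynomial (Fin n × Fin n) k) ∈ q.comap π := by
        have hoff : offDiagIdeal k n ≤ q.comap π := by
          rw [offDiagIdeal, Ideal.span_le]
          rintro _ ⟨p, hp, rfl⟩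
          rw [SetLike.mem_coe, Ideal.mem_comap]
          refine hq (Ideal.subset_span ?_)
          simp only [t, Finset.coe_image, Set.mem_image]
          exact ⟨p, by simpa [Finset.mem_offDiag] using hp, rfl⟩
        have hcone : coneIdeal k n ≤ q.comap π := by
          intro x hx
          rw [Ideal.mem_comap]
          have : π x = 0 := Ideal.Quotient.eq_zero_iff_mem.mpr (hIQ hx)
          rw [this]; exact zero_mem _
        intro p
        by_cases hp : p.1 = p.2
        · have hmem := (sup_le hcone hoff) (X_diag_pow_mem (k := k) p.1)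
          have hpp : (p.1, p.1) = p := by
            rw [Prod.ext_iff]; exact ⟨rfl, hp⟩
          rw [hpp] at hmem
          exact (Ideal.IsPrime.comap π).mem_of_pow_mem _ hmem
        · exact hoff (Ideal.subset_span ⟨p, hp, rfl⟩)
      have := vanishingIdeal_zero_le (q.comap π) hX
      calc m₀.map π ≤ (q.comap π).map π := Ideal.map_mono this
        _ ≤ q := Ideal.map_comap_le
  have hle := Ideal.height_le_card_of_mem_minimalPrimes_span_finset hmin
  have hcard : t.card ≤ n ^ 2 - n := by
    refine Finset.card_image_le.trans ?_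
    rw [Finset.offDiag_card, Finset.card_univ, Fintype.card_fin, sq]
  have h2 : ((m₀.map π).height : ℕ∞) ≤ ((n ^ 2 - n : ℕ) : ℕ∞) :=
    hle.trans (by exact_mod_cast hcard)
  exact WithBot.coe_le_coe.mpr h2

theorem dim_eq :
    ringKrullDim (MvPolynomial (Fin n × Fin n) k ⧸ coneIdeal k n) =
      ((n ^ 2 - n : ℕ) : WithBot ℕ∞) :=
  le_antisymm dim_le dim_ge

end Groth.Agent.Helper7.NCone
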