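import Mathlib
import Groth.Agent.Helper3.NLE

/-!
# Tor amplitude of the naive cotangent complex and flatness of the conormal module (helper7)
-/

set_option autoImplicit false
set_option linter.style.haveILetI false
set_option linter.unusedSectionVars false

universe u

open CategoryTheory CategoryTheory.Limits TensorProduct Algebra HomologicalComplex

attribute [local instance] HasDerivedCategory.standard

namespace Groth.Agent.Helper7.NLTor

open Groth.Agent.Helper3

section Flat

variable {A B : Type u} [CommRing A] [CommRing B] [Algebra A B]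

/-- if `NL_{B/A}` has tor amplitude in `[-1, 0]`, the conormal module of any finite polynomial
presentation is flat -/
theorem flat_cotangent {n : ℕ} (G : Generators A B (Fin n))
    (h : DRing.HasTorAmplitudeIn B (-1) 0 (LCI.NL A B)) :
    Module.Flat B G.toExtension.Cotangent := by
  let e := NLA.homotopyEquiv ((Generators.self A B).defaultHom G).toExtensionHom
    (G.defaultHom (Generators.self A B)).toExtensionHom
  have hq : QuasiIso e.hom := inferInstance
  have hiso : IsIso (DerivedCategory.Q.map e.hom) :=
    (DerivedCategory.isIso_Q_map_iff_quasiIso _ _).mpr hq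
  let eD : DRing.toD (NLCx.cx G.toExtension) ≅ LCI.NL A B :=
    (@asIso _ _ _ _ (DerivedCategory.Q.map e.hom) hiso).symm
  obtain ⟨E, hv, hfl, ⟨i⟩⟩ := h
  have htor : DRing.HasTorAmplitudeIn B (-1) 0 (DRing.toD (NLCx.cx G.toExtension)) :=
    ⟨E, hv, hfl, ⟨i ≪≫ eD.symm⟩⟩
  haveI : Module.Flat B (ModuleCat.of B G.toExtension.CotangentSpace) :=
    inferInstanceAs (Module.Flat B G.toExtension.CotangentSpace)
  have hT := NLD.double_termwiseFlat (ModuleCat.ofHom G.toExtension.cotangentComplex)
    (show (ComplexShape.up ℤ).Rel (-1) 0 by simp) htor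
  have h1 : Module.Flat B ((NLCx.cx G.toExtension).X (-1)) := hT (-1)
  exact Module.Flat.of_linearEquiv (NLA.cxIso₀ G.toExtension).toLinearEquiv.symm

end Flat

end Groth.Agent.Helper7.NLTor
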