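import Mathlib
import Groth.Agent.Helper3.NLC

/-!
# Base change of the conormal module of a finite presentation (helper7)
-/

set_option autoImplicit false
set_option linter.style.haveILetI false
set_option linter.unusedSectionVars false

universe u

open CategoryTheory CategoryTheory.Limits TensorProduct Algebra

namespace Groth.Agent.Helper7.NLTor

open Groth.Agent.Helper3 Groth.Agent.Helper3.NLB

section SameVars

variable {R S R' S' : Type u} [CommRing R] [CommRing S] [CommRing R'] [CommRing S']
  [Algebra R S] [Algebra R' S'] [Algebra R R'] [Algebra S S'] [Algebra R S']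
  [IsScalarTower R R' S'] [IsScalarTower R S S']
  {ι : Type} (G : Generators R S ι) (G' : Generators R' S' ι)
  (h : ∀ i, G'.val i = algebraMap S S' (G.val i))

/-- same-variables hom, small index type -/
noncomputable def svHom : G.Hom G' where
  val i := MvPolynomial.X i
  aeval_val i := by simp [h]

theorem svHom_toRingHom_eq (p : MvPolynomial ι R) :
    (svHom G G' h).toExtensionHom.toRingHom p =
      MvPolynomial.map (algebraMap R R') p := by
  change (svHom G G' h).toAlgHom p = _
  induction p using MvPolynomial.induction_on with
  | C a =>
    simp only [Generators.Hom.toAlgHom, MvPolynomial.map_C]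
    rw [MvPolynomial.aeval_C]
    rw [IsScalarTower.algebraMap_apply R R' (MvPolynomial ι R')]
    rfl
  | add p q hp hq => rw [map_add, map_add, hp, hq]
  | mul_X p i hp =>
    rw [map_mul, map_mul, hp]
    congr 1
    simp [Generators.Hom.toAlgHom, svHom]

variable [Algebra.IsPushout R R' S S']

theorem lbcCot_aux' :
    Function.Surjective (LinearMap.liftBaseChange S'
      (Extension.Cotangent.map (svHom G G' h).toExtensionHom)) ∧
    (Function.Injective ((G.toExtension.ker.subtype.restrictScalars R).lTensor R') →
      Function.Injective (LinearMap.liftBaseChange S'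
        (Extension.Cotangent.map (svHom G G' h).toExtensionHom))) := by
  let f := (svHom G G' h).toExtensionHom
  letI algPP' : Algebra G.toExtension.Ring G'.toExtension.Ring := f.toRingHom.toAlgebra
  letI algPS' : Algebra G.toExtension.Ring S' :=
    ((algebraMap S S').comp (algebraMap G.toExtension.Ring S)).toAlgebra
  haveI t1 : IsScalarTower G.toExtension.Ring S S' := IsScalarTower.of_algebraMap_eq' rfl
  haveI t2 : IsScalarTower G.toExtension.Ring G'.toExtension.Ring S' :=
    IsScalarTower.of_algebraMap_eq (fun x => (f.algebraMap_toRingHom x).symm)
  haveI t3 : IsScalarTower R G.toExtension.Ring G'.toExtension.Ring :=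
    IsScalarTower.of_algebraMap_eq (fun x => by
      change _ = f.toRingHom (algebraMap R G.toExtension.Ring x)
      rw [f.toRingHom_algebraMap, ← IsScalarTower.algebraMap_apply])
  haveI po : Algebra.IsPushout R R' G.toExtension.Ring G'.toExtension.Ring := by
    constructor
    refine IsBaseChange.of_equiv (MvPolynomial.algebraTensorAlgEquiv (σ := ι) R R').toLinearEquiv ?_
    intro x
    change MvPolynomial.algebraTensorAlgEquiv (σ := ι) R R' (1 ⊗ₜ x) = f.toRingHom x
    rw [MvPolynomial.algebraTensorAlgEquiv_tmul, one_smul, svHom_toRingHom_eq]
  have hc : ∀ x, Extension.Cotangent.map f (Extension.Cotangent.mk x) =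
      Extension.Cotangent.mk (kerMap G.toExtension.Ring G'.toExtension.Ring S S' x) := by
    intro x
    rw [Extension.Cotangent.map_mk]
    rfl
  refine ⟨lbc_surjective Extension.Cotangent.mk Extension.Cotangent.mk
    (Extension.Cotangent.map f) hc Extension.Cotangent.mk_surjective
    (L_surjective R R' _ _ S S' G.toExtension.algebraMap_surjective), fun htor => ?_⟩
  exact lbc_injective Extension.Cotangent.mk Extension.Cotangent.mk
    (Extension.Cotangent.map f) hc Extension.Cotangent.mk_surjective
    Extension.Cotangent.mk_surjective (Extension.Cotangent.ker_mk G'.toExtension).le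
    G'.toExtension.algebraMap_surjective
    ⟨L_injective R R' _ _ S S' htor,
      L_surjective R R' _ _ S S' G.toExtension.algebraMap_surjective⟩

include h in
/-- flatness of the conormal module passes to a base change of a flat algebra -/
theorem flat_cotangent_of_pushout [Module.Flat R S]
    (hfl : Module.Flat S G.toExtension.Cotangent) :
    Module.Flat S' G'.toExtension.Cotangent := by
  have htor : Function.Injective ((G.toExtension.ker.subtype.restrictScalars R).lTensor R') := by
    refine LinearMap.lTensor_injective_of_exact_of_flat
      (IsScalarTower.toAlgHom R G.toExtension.Ring S).toLinearMap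
      G.toExtension.algebraMap_surjective
      (G.toExtension.ker.subtype.restrictScalars R) Subtype.val_injective ?_ R'
    intro p
    constructor
    · intro hp
      exact ⟨⟨p, hp⟩, rfl⟩
    · rintro ⟨y, rfl⟩
      exact y.2
  obtain ⟨hs, hi⟩ := lbcCot_aux' G G' h
  let e : S' ⊗[S] G.toExtension.Cotangent ≃ₗ[S'] G'.toExtension.Cotangent :=
    LinearEquiv.ofBijective _ ⟨hi htor, hs⟩
  exact Module.Flat.of_linearEquiv e.symm

end SameVars

end Groth.Agent.Helper7.NLTor
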