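import Mathlib
import Groth.Prelude
import Groth.Agent.Helper7.VascD

/-!
# Vasconcelos' theorem, part E: from projectivity of the conormal module to a quasi-independent
generating family of the localized ideal
-/

set_option autoImplicit false
set_option linter.style.haveILetI false
set_option linter.unusedSectionVars false

namespace Groth.Agent.Helper7.Vasc

open IsLocalRing

universe u v

/-- A finite projective module is "free near a prime `q`", in an elementwise form. -/
theorem exists_local_basis {A : Type u} [CommRing A] {M : Type v} [AddCommGroup M] [Module A M]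
    [Module.Finite A M] [Module.Projective A M] (q : Ideal A) [q.IsPrime] :
    ∃ (r : ℕ) (m : Fin r → M),
      (∀ x : M, ∃ t, t ∉ q ∧ ∃ a : Fin r → A, t • x = ∑ i, a i • m i) ∧
      (∀ a : Fin r → A, ∑ i, a i • m i = 0 → ∀ i, ∃ u, u ∉ q ∧ u * a i = 0) := by
  classical
  set Aq := Localization.AtPrime q with hAq
  set Mq := LocalizedModule q.primeCompl M with hMq
  set f : M →ₗ[A] Mq := LocalizedModule.mkLinearMap q.primeCompl M with hf
  haveI : Module.Projective Aq Mq := Module.projective_of_isLocalizedModule q.primeCompl f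
  haveI : Module.Free Aq Mq := Module.free_of_flat_of_isLocalRing
  let b₀ := Module.Free.chooseBasis Aq Mq
  let b₁ := b₀.reindex (Fintype.equivFin (Module.Free.ChooseBasisIndex Aq Mq))
  set r := Fintype.card (Module.Free.ChooseBasisIndex Aq Mq) with hr
  have hsurj : ∀ i : Fin r, ∃ x : M × q.primeCompl, x.2 • b₁ i = f x.1 :=
    fun i => IsLocalizedModule.surj q.primeCompl f (b₁ i)
  choose ms hms using hsurj
  let w : Fin r → Aqˣ := fun i => (IsLocalization.map_units Aq (ms i).2).unit
  let b := b₁.unitsSMul w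
  have hb : ∀ i, b i = f (ms i).1 := by
    intro i
    rw [Module.Basis.unitsSMul_apply, ← hms i, Units.smul_def, IsUnit.unit_spec,
      algebraMap_smul, Submonoid.smul_def]
  refine ⟨r, fun i => (ms i).1, ?_, ?_⟩
  · intro x
    obtain ⟨s, hs⟩ := IsLocalization.exist_integer_multiples_of_finite q.primeCompl
      (fun i => b.repr (f x) i)
    choose a ha using hs
    have h1 : f ((s : A) • x) = f (∑ i, a i • (ms i).1) := by
      rw [map_smul, map_sum]
      conv_lhs => rw [← b.sum_repr (f x), Finset.smul_sum]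
      refine Finset.sum_congr rfl fun i _ => ?_
      rw [← smul_assoc, ← ha i, algebraMap_smul, map_smul, hb]
    rw [IsLocalizedModule.eq_iff_exists q.primeCompl] at h1
    obtain ⟨c, hc⟩ := h1
    refine ⟨(c : A) * (s : A), (c * s).2, fun i => (c : A) * a i, ?_⟩
    rw [mul_smul]
    rw [Submonoid.smul_def, Submonoid.smul_def] at hc
    rw [hc, Finset.smul_sum]
    refine Finset.sum_congr rfl fun i _ => ?_
    rw [mul_smul]
  · intro a ha i
    have h1 : ∑ i, algebraMap A Aq (a i) • b i = 0 := by
      have := congrArg f ha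
      rw [map_sum, map_zero] at this
      rw [← this]
      refine Finset.sum_congr rfl fun i _ => ?_
      rw [algebraMap_smul, map_smul, hb]
    have h2 := Fintype.linearIndependent_iff.1 b.linearIndependent _ h1 i
    rw [IsLocalization.map_eq_zero_iff q.primeCompl] at h2
    obtain ⟨u, hu⟩ := h2
    exact ⟨u.1, u.2, hu⟩

/-- elementwise consequences of projectivity of the conormal module at a prime `p ⊇ I` -/
theorem exists_elements {R : Type u} [CommRing R] [IsNoetherianRing R] (I : Ideal R)
    [Module.Projective (R ⧸ I) I.Cotangent] (p : Ideal R) [hp : p.IsPrime] (hIp : I ≤ p) :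
    ∃ (r : ℕ) (y : Fin r → R), (∀ i, y i ∈ I) ∧
      (∀ x ∈ I, ∃ t, t ∉ p ∧ t * x ∈ Ideal.span (Set.range y) ⊔ I ^ 2) ∧
      (∀ α : Fin r → R, ∑ i, α i * y i ∈ I ^ 2 → ∀ i, ∃ u, u ∉ p ∧ u * α i ∈ I) := by
  classical
  set A := R ⧸ I with hA
  set q : Ideal A := p.map (Ideal.Quotient.mk I) with hq
  haveI : q.IsPrime := Ideal.map_isPrime_of_surjective Ideal.Quotient.mk_surjective (by
    rw [Ideal.mk_ker]; exact hIp)
  have hqmem : ∀ t : R, Ideal.Quotient.mk I t ∈ q ↔ t ∈ p := fun t =>
    Ideal.mem_quotient_iff_mem hIp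
  haveI : Module.Finite R I.Cotangent :=
    Module.Finite.of_surjective I.toCotangent I.toCotangent_surjective
  haveI : Module.Finite A I.Cotangent := Module.Finite.of_restrictScalars_finite R A _
  obtain ⟨r, m, hgen, hind⟩ := exists_local_basis (A := A) (M := I.Cotangent) q
  choose yI hyI using fun i => I.toCotangent_surjective (m i)
  have hsm : ∀ (t : R) (n : I.Cotangent), (Ideal.Quotient.mk I t) • n = t • n := fun t n =>
    algebraMap_smul A t n
  refine ⟨r, fun i => (yI i : R), fun i => (yI i).2, ?_, ?_⟩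
  · intro x hx
    obtain ⟨tb, htb, a, ha⟩ := hgen (I.toCotangent ⟨x, hx⟩)
    obtain ⟨t, rfl⟩ := Ideal.Quotient.mk_surjective tb
    choose α hα using fun i => Ideal.Quotient.mk_surjective (a i)
    refine ⟨t, fun h => htb ((hqmem t).2 h), ?_⟩
    have h1 : I.toCotangent (t • (⟨x, hx⟩ : I) - ∑ i, α i • yI i) = 0 := by
      rw [map_sub, map_smul, map_sum, ← hsm, ha, sub_eq_zero]
      refine Finset.sum_congr rfl fun i _ => ?_
      rw [map_smul, hyI, ← hα i, hsm]
    rw [Ideal.toCotangent_eq_zero] at h1
    have h2 : t * x = ∑ i, α i * (yI i : R) + (t * x - ∑ i, α i * (yI i : R)) := by ring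
    rw [h2]
    refine Submodule.add_mem_sup ?_ ?_
    · exact Ideal.sum_mem _ fun i _ =>
        Ideal.mul_mem_left _ _ (Ideal.subset_span (Set.mem_range_self i))
    · simpa using h1
  · intro α hα i
    have h1 : ∑ i, (Ideal.Quotient.mk I (α i)) • m i = 0 := by
      have h2 : I.toCotangent (∑ i, α i • yI i) = 0 := by
        rw [Ideal.toCotangent_eq_zero]
        simpa using hα
      rw [← h2, map_sum]
      refine Finset.sum_congr rfl fun i _ => ?_
      rw [map_smul, hyI, hsm]
    obtain ⟨ub, hub, hu0⟩ := hind _ h1 i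
    obtain ⟨u, rfl⟩ := Ideal.Quotient.mk_surjective ub
    refine ⟨u, fun h => hub ((hqmem u).2 h), ?_⟩
    rw [← map_mul, Ideal.Quotient.eq_zero_iff_mem] at hu0
    exact hu0

theorem exists_family {R : Type u} [CommRing R] [IsNoetherianRing R] (I : Ideal R)
    [Module.Projective (R ⧸ I) I.Cotangent] (p : Ideal R) [hp : p.IsPrime] (hIp : I ≤ p) :
    ∃ (r : ℕ) (y : Fin r → R), (∀ i, y i ∈ I) ∧
      QI (fun i => algebraMap R (Localization.AtPrime p) (y i)) ∧
      Ideal.span (Set.range (fun i => algebraMap R (Localization.AtPrime p) (y i))) =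
        I.map (algebraMap R (Localization.AtPrime p)) := by
  classical
  obtain ⟨r, y, hyI, hgen, hind⟩ := exists_elements I p hIp
  set S := Localization.AtPrime p with hS
  set J : Ideal S := I.map (algebraMap R S) with hJ
  set v : Fin r → S := fun i => algebraMap R S (y i) with hv
  have hunit : ∀ t : R, t ∉ p → IsUnit (algebraMap R S t) := fun t ht =>
    IsLocalization.map_units S (⟨t, ht⟩ : p.primeCompl)
  have hJm : J ≤ maximalIdeal S := by
    rw [hJ, Ideal.map_le_iff_le_comap]
    intro x hx
    rw [Ideal.mem_comap, IsLocalization.AtPrime.to_map_mem_maximal_iff S p]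
    exact hIp hx
  have hvJ : ∀ i, v i ∈ J := fun i => Ideal.mem_map_of_mem _ (hyI i)
  have hspan : Ideal.span (Set.range v) = J := by
    apply le_antisymm
    · rw [Ideal.span_le]
      rintro _ ⟨i, rfl⟩
      exact hvJ i
    · apply Submodule.le_of_le_smul_of_le_jacobson_bot (I := maximalIdeal S)
        (IsNoetherian.noetherian J)
        (by rw [IsLocalRing.jacobson_eq_maximalIdeal ⊥ bot_ne_top])
      rw [hJ, Ideal.map_le_iff_le_comap]
      intro x hx
      rw [Ideal.mem_comap]
      obtain ⟨t, htp, ht⟩ := hgen x hx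
      have h1 : algebraMap R S (t * x) ∈
          Ideal.span (Set.range v) ⊔ maximalIdeal S • J := by
        obtain ⟨z, hz, w, hw, hzw⟩ := Submodule.mem_sup.1 ht
        rw [← hzw, map_add]
        refine Submodule.add_mem_sup ?_ ?_
        · have : algebraMap R S z ∈ (Ideal.span (Set.range y)).map (algebraMap R S) :=
            Ideal.mem_map_of_mem _ hz
          rw [Ideal.map_span, ← Set.range_comp] at this
          exact this
        · have h2 : algebraMap R S w ∈ (I ^ 2).map (algebraMap R S) :=
            Ideal.mem_map_of_mem _ hw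
          rw [Ideal.map_pow, sq] at h2
          exact Ideal.mul_mono_left hJm h2
      rw [map_mul] at h1
      exact (Ideal.unit_mul_mem_iff_mem _ (hunit t htp)).1 h1
  refine ⟨r, y, hyI, ?_, hspan⟩
  intro a ha i
  change a i ∈ Ideal.span (Set.range v)
  change ∑ i, a i * v i ∈ Ideal.span (Set.range v) ^ 2 at ha
  rw [hspan] at ha ⊢
  obtain ⟨s, hs⟩ := IsLocalization.exist_integer_multiples_of_finite p.primeCompl a
  choose α hα using hs
  have h1 : algebraMap R S (∑ i, α i * y i) ∈ (I ^ 2).map (algebraMap R S) := by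
    have : algebraMap R S (∑ i, α i * y i) = algebraMap R S s * ∑ i, a i * v i := by
      rw [map_sum, Finset.mul_sum]
      refine Finset.sum_congr rfl fun i _ => ?_
      rw [map_mul, hα i, Algebra.smul_def, mul_assoc]
    rw [this, Ideal.map_pow]
    exact Ideal.mul_mem_left _ _ ha
  rw [IsLocalization.algebraMap_mem_map_algebraMap_iff p.primeCompl] at h1
  obtain ⟨t, htp, ht⟩ := h1
  obtain ⟨u, hup, hu⟩ := hind (fun i => t * α i) (by
    rw [Finset.mul_sum] at ht
    convert ht using 2 with i
    ring) i
  have h2 : algebraMap R S (u * (t * α i)) ∈ J := Ideal.mem_map_of_mem _ hu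
  rw [map_mul, map_mul, hα i, Algebra.smul_def] at h2
  rw [Ideal.unit_mul_mem_iff_mem _ (hunit u hup), Ideal.unit_mul_mem_iff_mem _ (hunit t htp),
    Ideal.unit_mul_mem_iff_mem _ (hunit s s.2)] at h2
  exact h2

end Groth.Agent.Helper7.Vasc
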