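import Mathlib
import Groth.Prelude
import Groth.Agent.Helper7.VascE
import Groth.Agent.Helper7.VascF

/-!
# Vasconcelos' theorem: an ideal of finite projective dimension with projective conormal module
is locally generated by a regular sequence
-/

set_option autoImplicit false
set_option linter.style.haveILetI false
set_option linter.unusedSectionVars false

namespace Groth.Agent.Helper7.Vasc

open CategoryTheory IsLocalRing RingTheory.Sequence

universe u

theorem main {R : Type u} [CommRing R] [IsNoetherianRing R] (I : Ideal R) (n : ℕ)
    (hpd : HasProjectiveDimensionLT (ModuleCat.of R I) n)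
    [Module.Projective (R ⧸ I) I.Cotangent] (p : Ideal R) [p.IsPrime] (hIp : I ≤ p) :
    ∃ g : R, g ∉ p ∧ ∃ rs : List (Localization.Away g),
      IsRegular (Localization.Away g) rs ∧
        Ideal.ofList rs = I.map (algebraMap R (Localization.Away g)) := by
  classical
  obtain ⟨r, y, hyI, hQI, hspan⟩ := exists_family I p hIp
  set S := Localization.AtPrime p with hS
  set v : Fin r → S := fun i => algebraMap R S (y i) with hv
  have hvm : ∀ i, v i ∈ maximalIdeal S := fun i =>
    (IsLocalization.AtPrime.to_map_mem_maximal_iff S p (y i)).2 (hIp (hyI i))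
  have hpd1 : HasProjectiveDimensionLE (ModuleCat.of R I) n :=
    hasProjectiveDimensionLT_of_ge _ n (n + 1) (by omega)
  have hpdS : HasProjectiveDimensionLT (ModuleCat.of S (Ideal.span (Set.range v))) (n + 1) := by
    rw [hspan]
    exact pd_map_localization I p.primeCompl n hpd1
  obtain ⟨rs, hrs, hof⟩ := local_main r S (Fin r) v (Fintype.card_fin r) hvm hQI ⟨n + 1, hpdS⟩
  rw [hspan] at hof
  -- lift to `R`
  let u : S → S := fun a => algebraMap R S (IsLocalization.sec p.primeCompl a).2
  have hu : ∀ a, IsUnit (u a) := fun a => IsLocalization.map_units S _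
  set ys : List R := rs.map fun a => (IsLocalization.sec p.primeCompl a).1 with hys
  have hmap : ys.map (algebraMap R S) = rs.map fun a => a * u a := by
    rw [hys, List.map_map]
    refine List.map_congr_left fun a _ => ?_
    exact (IsLocalization.sec_spec p.primeCompl a).symm
  have hreg : IsWeaklyRegular S (ys.map (algebraMap R S)) := by
    rw [hmap]
    exact isWeaklyRegular_map_mul_unit u hu rs hrs
  have hofy : Ideal.ofList (ys.map (algebraMap R S)) = I.map (algebraMap R S) := by
    rw [hmap, ofList_map_mul_unit u hu, hof]
  obtain ⟨g, hgp, hregg, hofg⟩ := spread p I hIp ys hreg hofy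
  exact ⟨g, hgp, _, hregg, hofg⟩

end Groth.Agent.Helper7.Vasc
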