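import Mathlib
import Groth.Agent.Helper5.LciS6
import Groth.Agent.Helper5.SM8
import Groth.Agent.Helper5.RelGCI12
import Groth.Agent.Helper6.RegPdFin
import Groth.Agent.Helper7.VascG
import Groth.Agent.Helper7.NLTorA
import Groth.Agent.Helper7.NLTorB

/-!
# Tor amplitude `[-1,0]` of `NL` for a flat finitely presented algebra implies lci (helper7)
-/

set_option autoImplicit false
set_option linter.style.haveILetI false
set_option linter.unusedSectionVars false

universe u

open CategoryTheory TensorProduct Algebra RingTheory.Sequence

attribute [local instance] HasDerivedCategory.standard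

namespace Groth.Agent.Helper7.NLTor

/-- transfer projectivity of the conormal module of an extension to the ideal-theoretic one -/
theorem projective_ideal_cotangent {R S : Type u} [CommRing R] [CommRing S] [Algebra R S]
    (P : Extension.{u} R S) [Module.Projective S P.Cotangent] :
    Module.Projective (P.Ring ⧸ P.ker) P.ker.Cotangent := by
  let e : (P.Ring ⧸ P.ker) ≃+* S :=
    RingHom.quotientKerEquivOfSurjective P.algebraMap_surjective
  letI i1 : RingHomInvPair (e.symm : S →+* (P.Ring ⧸ P.ker)) (e : (P.Ring ⧸ P.ker) →+* S) :=
    RingHomInvPair.of_ringEquiv e.symm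
  letI i2 : RingHomInvPair (e : (P.Ring ⧸ P.ker) →+* S) (e.symm : S →+* (P.Ring ⧸ P.ker)) :=
    RingHomInvPair.of_ringEquiv e
  have hes : ∀ s : S, e.symm s = Ideal.Quotient.mk P.ker (P.σ s) := by
    intro s
    rw [RingEquiv.symm_apply_eq]
    change s = algebraMap P.Ring S (P.σ s)
    rw [P.algebraMap_σ]
  let e₂ : P.Cotangent ≃ₛₗ[(e.symm : S →+* (P.Ring ⧸ P.ker))] P.ker.Cotangent :=
    { toFun := Extension.Cotangent.val
      invFun := Extension.Cotangent.of
      map_add' := fun _ _ => rfl
      map_smul' := fun s x => by
        rw [Extension.Cotangent.val_smul]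
        change _ = e.symm s • x.val
        rw [hes]
        rfl
      left_inv := fun _ => rfl
      right_inv := fun _ => rfl }
  exact Module.Projective.of_equiv e₂

/-- Vasconcelos: in a regular ring, an ideal with projective conormal module is Koszul-regular -/
theorem kreg_of_projective_cotangent {R : Type u} [CommRing R] [IsRegularRing R] (I : Ideal R)
    [Module.Projective (R ⧸ I) I.Cotangent] : LCI.IsKoszulRegularIdeal I := by
  intro 𝔭 h𝔭
  obtain ⟨N, hN⟩ := Groth.Agent.Helper6.RegPdFin.exists_pd_le
    (fun p => inferInstance) (ModuleCat.of R I)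
  obtain ⟨g, hg, rs, hreg, hrs⟩ := Groth.Agent.Helper7.Vasc.main I (N + 1) hN 𝔭.asIdeal h𝔭
  exact ⟨g, hg, rs, Groth.Agent.Helper5.RelGCI.kreg_of_isWeaklyRegular rs hreg.toIsWeaklyRegular,
    hrs.symm⟩

/-- over a field: flat conormal module of a finite presentation implies lci -/
theorem isLCI_field (κ : Type u) [Field κ] (S' : Type u) [CommRing S'] [Algebra κ S'] {n : ℕ}
    (G' : Generators κ S' (Fin n)) (hfl : Module.Flat S' G'.toExtension.Cotangent) :
    LCI.IsLCI κ S' := by
  have hft : Algebra.FiniteType κ S' :=
    Algebra.FiniteType.of_surjective (IsScalarTower.toAlgHom κ G'.Ring S')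
      G'.algebraMap_surjective
  haveI : IsNoetherianRing S' := Algebra.FiniteType.isNoetherianRing κ S'
  haveI hreg : IsRegularRing G'.toExtension.Ring :=
    inferInstanceAs (IsRegularRing (MvPolynomial (Fin n) κ))
  haveI : IsNoetherianRing G'.toExtension.Ring :=
    inferInstanceAs (IsNoetherianRing (MvPolynomial (Fin n) κ))
  have hfg : G'.toExtension.ker.FG := IsNoetherian.noetherian _
  haveI : Module.Finite S' G'.toExtension.Cotangent := Extension.Cotangent.finite hfg
  haveI : Module.FinitePresentation S' G'.toExtension.Cotangent :=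
    Module.finitePresentation_of_finite _ _
  haveI : Module.Projective S' G'.toExtension.Cotangent :=
    Module.Flat.projective_of_finitePresentation
  haveI := projective_ideal_cotangent G'.toExtension
  have hK : LCI.IsKoszulRegularIdeal G'.toExtension.ker := kreg_of_projective_cotangent _
  exact ⟨hft, n, IsScalarTower.toAlgHom κ G'.Ring S', G'.algebraMap_surjective, hK⟩

attribute [local instance] Algebra.TensorProduct.rightAlgebra in
theorem isLCI_of_torAmp {A B : Type u} [CommRing A] [CommRing B] [Algebra A B]
    [Module.Flat A B] [Algebra.FinitePresentation A B]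
    (h : DRing.HasTorAmplitudeIn B (-1) 0 (LCI.NL A B)) : LCI.IsLCI A B := by
  obtain ⟨n, f, hf, -⟩ := Algebra.FinitePresentation.out (R := A) (A := B)
  let G : Generators A B (Fin n) := Generators.ofAlgHom f hf
  have hfl := flat_cotangent G h
  have hS : Synt.IsSyntomic A B := by
    refine ⟨inferInstance, inferInstance, fun p => ?_⟩
    have h1 : Module.Flat (p.asIdeal.Fiber B)
        (G.baseChange p.asIdeal.ResidueField).toExtension.Cotangent :=
      flat_cotangent_of_pushout G (G.baseChange p.asIdeal.ResidueField) (fun i => rfl) hfl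
    have hlci := isLCI_field _ _ (G.baseChange p.asIdeal.ResidueField) h1
    exact Groth.Agent.Helper5.SM.isLCIOver_of_isSyntomic_field _ _
      (Groth.Agent.Helper5.LciS.isSyntomic_of_flat_isLCI _ _ inferInstance hlci)
  exact ((Groth.Agent.Helper5.LciS.s9287 A B).mp hS).2

end Groth.Agent.Helper7.NLTor
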