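import Mathlib
import Groth.Agent.Helper9.SmTor4
import Groth.Agent.Helper9.TorOpen2
import Groth.Agent.Helper6.PerfRes
import Groth.Agent.Helper3.TorDimA
import Groth.Agent.Helper3.DRingPC4
import Groth.Agent.Helper3.DRingRestr
import Groth.Agent.Helper3.DRingTor6

/-!
# Finite tor dimension over the base gives finite projective dimension over a polynomial ring
(helper7)
-/

set_option autoImplicit false
set_option linter.style.haveILetI false
set_option linter.unusedSectionVars false

universe u

open CategoryTheory CategoryTheory.Limits TensorProduct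

attribute [local instance] HasDerivedCategory.standard

namespace Groth.Agent.Helper7.NLTor

open Groth.Agent.Helper3.DRingLib Groth.Agent.Helper3.TorDim DerivedCategory

/-- a quotient `B` of `P = A[x₁..xₙ]` (`A` Noetherian) with finite tor dimension over `A` has
finite projective dimension over `P` -/
theorem exists_pd_of_hasFiniteTorDim {A B : Type u} [CommRing A] [CommRing B] [Algebra A B]
    [IsNoetherianRing A] (n : ℕ)
    [Algebra (MvPolynomial (Fin n) A) B] [IsScalarTower A (MvPolynomial (Fin n) A) B]
    [Module.Finite (MvPolynomial (Fin n) A) B]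
    (hB : DRing.HasFiniteTorDim A B) :
    ∃ d : ℕ, HasProjectiveDimensionLT (ModuleCat.of (MvPolynomial (Fin n) A) B) d := by
  obtain ⟨d, hd⟩ := (hasFiniteTorDim_iff B).1 hB
  let L : DRing.Cx (MvPolynomial (Fin n) A) :=
    (CochainComplex.singleFunctor (ModuleCat.{u} (MvPolynomial (Fin n) A)) 0).obj
      (ModuleCat.of (MvPolynomial (Fin n) A) B)
  have e2 : DRing.toD L ≅ Dual.inD (MvPolynomial (Fin n) A) B :=
    ((singleFunctorIsoCompQ (ModuleCat.{u} (MvPolynomial (Fin n) A)) 0).app
      (ModuleCat.of (MvPolynomial (Fin n) A) B)).symm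
  let eM : ((rF (algebraMap A (MvPolynomial (Fin n) A))).obj
      (ModuleCat.of (MvPolynomial (Fin n) A) B)) ≃ₗ[A] B :=
    { toFun := fun m => m
      invFun := fun m => m
      map_add' := fun _ _ => rfl
      map_smul' := fun c m => by
        show ((algebraMap A (MvPolynomial (Fin n) A) c) • (show B from m) : B) =
          (c • (show B from m) : B)
        rw [algebraMap_smul]
      left_inv := fun _ => rfl
      right_inv := fun _ => rfl }
  have e1 : DRing.toD ((rCx (algebraMap A (MvPolynomial (Fin n) A))).obj L) ≅ Dual.inD A B :=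
    (rDToD (algebraMap A (MvPolynomial (Fin n) A)) L).symm ≪≫
      (DRing.restrictD (algebraMap A (MvPolynomial (Fin n) A))).mapIso e2 ≪≫
      rDSingle (algebraMap A (MvPolynomial (Fin n) A)) 0
        (ModuleCat.of (MvPolynomial (Fin n) A) B) ≪≫
      (singleFunctor (ModuleCat.{u} A) 0).mapIso eM.toModuleIso
  have h0 : DRing.HasTorAmplitudeIn A (-(d : ℤ)) 0
      (DRing.toD ((rCx (MvPolynomial.C : A →+* MvPolynomial (Fin n) A)).obj L)) := by
    have := hasTorAmplitudeIn_of_iso e1.symm _ _ hd
    rwa [MvPolynomial.algebraMap_eq] at this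
  have h1 := Groth.Agent.Helper9.SmTor4.mvPoly_step n A L (-(d : ℤ)) 0 h0
  have h2 : DRing.HasFiniteTorDimCx (MvPolynomial (Fin n) A)
      (Dual.inD (MvPolynomial (Fin n) A) B) :=
    ⟨_, _, hasTorAmplitudeIn_of_iso e2 _ _ h1⟩
  have hpc : DRing.IsPseudoCoherent' (MvPolynomial (Fin n) A)
      (Dual.inD (MvPolynomial (Fin n) A) B) :=
    (isPseudoCoherent'_iff_forall _).2
      (fun m => isPseudoCoherent_inD_of_finite_noetherian' B m)
  have hperf : DRing.IsPerfectModule (MvPolynomial (Fin n) A) B :=
    (isPerfect_iff_pc_and_torDim _).2 ⟨hpc, h2⟩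
  exact Groth.Agent.Helper6.PerfRes.exists_pd_of_isPerfectModule B hperf

end Groth.Agent.Helper7.NLTor
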