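import Mathlib
import Groth.Agent.Helper7.NLTorC
import Groth.Agent.Helper7.NLTorD

/-!
# Tor amplitude `[-1,0]` of `NL` for a finite type algebra of finite tor dimension over a
Noetherian ring implies lci (helper7)
-/

set_option autoImplicit false
set_option linter.style.haveILetI false
set_option linter.unusedSectionVars false

universe u

open CategoryTheory TensorProduct Algebra RingTheory.Sequence

attribute [local instance] HasDerivedCategory.standard

namespace Groth.Agent.Helper7.NLTor

/-- the kernel of a surjection `P → B` has finite projective dimension if `B` does -/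
theorem pd_ker {P B : Type u} [CommRing P] [CommRing B] [Algebra P B]
    (hs : Function.Surjective (algebraMap P B)) (d : ℕ)
    (h : HasProjectiveDimensionLT (ModuleCat.of P B) d) :
    HasProjectiveDimensionLT (ModuleCat.of P (RingHom.ker (algebraMap P B))) (d + 1) := by
  let S : ShortComplex (ModuleCat.{u} P) :=
    ShortComplex.mk (ModuleCat.ofHom (RingHom.ker (algebraMap P B)).subtype)
      (ModuleCat.ofHom (Algebra.linearMap P B))
      (by ext x; exact x.2)
  have hS : S.ShortExact :=
    { exact := (ShortComplex.ShortExact.moduleCat_exact_iff_function_exact S).2 (by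
        intro y
        constructor
        · intro hy
          exact ⟨⟨y, hy⟩, rfl⟩
        · rintro ⟨x, rfl⟩
          exact x.2)
      mono_f := (ModuleCat.mono_iff_injective _).2 (Submodule.injective_subtype _)
      epi_g := (ModuleCat.epi_iff_surjective _).2 hs }
  haveI : Projective S.X₂ := by
    change Projective (ModuleCat.of P P)
    exact (IsProjective.iff_projective (R := P) (P := P)).1 inferInstance
  haveI h3 : HasProjectiveDimensionLT S.X₃ d := h
  have h2 : HasProjectiveDimensionLT S.X₂ (d + 1) :=
    hasProjectiveDimensionLT_of_ge S.X₂ 1 (d + 1) (by omega)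
  have h3' : HasProjectiveDimensionLT S.X₃ (d + 1 + 1) :=
    hasProjectiveDimensionLT_of_ge S.X₃ d (d + 1 + 1) (by omega)
  exact hS.hasProjectiveDimensionLT_X₁ (d + 1) h2 h3'

/-- Vasconcelos, global form: finite projective dimension and projective conormal module give a
Koszul-regular ideal -/
theorem kreg_of_pd {R : Type u} [CommRing R] [IsNoetherianRing R] (I : Ideal R) (d : ℕ)
    (hpd : HasProjectiveDimensionLT (ModuleCat.of R I) d)
    [Module.Projective (R ⧸ I) I.Cotangent] : LCI.IsKoszulRegularIdeal I := by
  intro 𝔭 h𝔭
  obtain ⟨g, hg, rs, hreg, hrs⟩ := Groth.Agent.Helper7.Vasc.main I d hpd 𝔭.asIdeal h𝔭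
  exact ⟨g, hg, rs, Groth.Agent.Helper5.RelGCI.kreg_of_isWeaklyRegular rs hreg.toIsWeaklyRegular,
    hrs.symm⟩

theorem isLCI_of_torAmp_noeth {A B : Type u} [CommRing A] [CommRing B] [Algebra A B]
    [IsNoetherianRing A] [Algebra.FiniteType A B] (hB : DRing.HasFiniteTorDim A B)
    (h : DRing.HasTorAmplitudeIn B (-1) 0 (LCI.NL A B)) : LCI.IsLCI A B := by
  obtain ⟨n, f, hf⟩ := Algebra.FiniteType.iff_quotient_mvPolynomial''.1
    (inferInstance : Algebra.FiniteType A B)
  let G : Generators A B (Fin n) := Generators.ofAlgHom f hf
  have hfl := flat_cotangent G h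
  haveI : IsNoetherianRing G.toExtension.Ring :=
    inferInstanceAs (IsNoetherianRing (MvPolynomial (Fin n) A))
  haveI : IsNoetherianRing B := Algebra.FiniteType.isNoetherianRing A B
  letI algPB : Algebra (MvPolynomial (Fin n) A) B :=
    (inferInstance : Algebra G.toExtension.Ring B)
  haveI : IsScalarTower A (MvPolynomial (Fin n) A) B :=
    (inferInstance : IsScalarTower A G.toExtension.Ring B)
  haveI : Module.Finite (MvPolynomial (Fin n) A) B :=
    Module.Finite.of_surjective (Algebra.linearMap (MvPolynomial (Fin n) A) B)
      G.algebraMap_surjective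
  obtain ⟨d, hd⟩ := exists_pd_of_hasFiniteTorDim (A := A) (B := B) n hB
  have hpdI : HasProjectiveDimensionLT (ModuleCat.of G.toExtension.Ring G.toExtension.ker)
      (d + 1) := pd_ker G.algebraMap_surjective d hd
  have hfg : G.toExtension.ker.FG := IsNoetherian.noetherian _
  haveI : Module.Finite B G.toExtension.Cotangent := Extension.Cotangent.finite hfg
  haveI : Module.FinitePresentation B G.toExtension.Cotangent :=
    Module.finitePresentation_of_finite _ _
  haveI : Module.Projective B G.toExtension.Cotangent :=
    Module.Flat.projective_of_finitePresentation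
  haveI := projective_ideal_cotangent G.toExtension
  have hK : LCI.IsKoszulRegularIdeal G.toExtension.ker :=
    kreg_of_pd (R := G.toExtension.Ring) G.toExtension.ker (d + 1) hpdI
  exact ⟨inferInstance, n, IsScalarTower.toAlgHom A G.Ring B, G.algebraMap_surjective, hK⟩

end Groth.Agent.Helper7.NLTor
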