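import Groth.Agent.Helper7.NN

set_option autoImplicit false
set_option maxSynthPendingDepth 3

namespace Groth.Agent.Helper7.NN

open Polynomial MvPolynomial Ideal Nat RingHom List NNorm

variable {k : Type*} [Field k]

/-- polynomials with integer coefficients. -/
noncomputable def intSub (σ : Type*) : Subring (MvPolynomial σ k) :=
  (MvPolynomial.map (Int.castRingHom k) : MvPolynomial σ ℤ →+* MvPolynomial σ k).range

theorem X_mem_intSub {σ : Type*} (i : σ) : (X i : MvPolynomial σ k) ∈ intSub σ :=
  ⟨X i, by simp⟩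

theorem aeval_mem_intSub {σ τ : Type*} (g : σ → MvPolynomial τ k) (hg : ∀ i, g i ∈ intSub τ)
    {y : MvPolynomial σ k} (hy : y ∈ intSub σ) : MvPolynomial.aeval g y ∈ intSub τ := by
  obtain ⟨z, rfl⟩ := hy
  induction z using MvPolynomial.induction_on with
  | C a =>
    exact ⟨C a, by simp⟩
  | add p q hp hq =>
    rw [map_add, map_add]
    exact add_mem hp hq
  | mul_X p i hp =>
    rw [map_mul, map_mul, MvPolynomial.map_X, MvPolynomial.aeval_X]
    exact mul_mem hp (hg i)

theorem finSuccEquiv_rename_succ {n : ℕ} (p : MvPolynomial (Fin n) k) :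
    finSuccEquiv k n (rename Fin.succ p) = Polynomial.C p := by
  induction p using MvPolynomial.induction_on with
  | C a => simp [finSuccEquiv_apply]
  | add p q hp hq => rw [map_add, map_add, hp, hq, map_add]
  | mul_X p i hp => rw [map_mul, map_mul, hp, rename_X, finSuccEquiv_X_succ, map_mul]

variable {n : ℕ} (f : MvPolynomial (Fin (n + 1)) k) (I : Ideal (MvPolynomial (Fin (n + 1)) k))

theorem hom2_apply (p : MvPolynomial (Fin n) k) :
    hom2 f I p = Ideal.Quotient.mk I (T1 f (-1) (rename Fin.succ p)) := by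
  have h1 : (finSuccEquiv k n).symm (Polynomial.C p) = rename Fin.succ p := by
    rw [AlgEquiv.symm_apply_eq, finSuccEquiv_rename_succ]
  show (eqv2 f I) ((eqv1 f I) (Ideal.Quotient.mk _ (Polynomial.C p))) = _
  simp only [eqv1, eqv2, quotientEquivAlg_mk, h1]
  rfl


theorem T1_mem_intSub {p : MvPolynomial (Fin (n + 1)) k} (hp : p ∈ intSub (Fin (n + 1))) :
    T1 f (-1) p ∈ intSub (Fin (n + 1)) := by
  refine aeval_mem_intSub _ (fun i => ?_) hp
  split_ifs
  · exact X_mem_intSub 0
  · rw [neg_smul, one_smul]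
    exact add_mem (X_mem_intSub i) (neg_mem (pow_mem (X_mem_intSub 0) _))

theorem rename_mem_intSub {σ τ : Type*} (e : σ → τ) {p : MvPolynomial σ k}
    (hp : p ∈ intSub σ) : rename e p ∈ intSub τ := by
  obtain ⟨z, rfl⟩ := hp
  exact ⟨rename e z, map_rename _ _ _⟩

end Groth.Agent.Helper7.NN

namespace Groth.Agent.Helper7.NN

open Polynomial MvPolynomial Ideal Nat RingHom List NNorm

variable {k : Type*} [Field k]

/-- Noether normalization with integer-coefficient parameters. -/
theorem exists_intSub_normalization {n : ℕ} (I : Ideal (MvPolynomial (Fin n) k)) (hi : I ≠ ⊤) :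
    ∃ s ≤ n, ∃ y : Fin s → MvPolynomial (Fin n) k, (∀ i, y i ∈ intSub (Fin n)) ∧
      Function.Injective ((Quotient.mkₐ k I).comp (MvPolynomial.aeval y)) ∧
      ((Quotient.mkₐ k I).comp (MvPolynomial.aeval y)).IsIntegral := by
  induction n with
  | zero =>
    refine ⟨0, le_rfl, X, fun i => X_mem_intSub i, ?_, ?_⟩
    · rw [MvPolynomial.aeval_X_left, AlgHom.comp_id]
      intro a b hab
      rw [Quotient.mkₐ_eq_mk, Ideal.Quotient.eq] at hab
      by_contra ne
      have eq := eq_C_of_isEmpty (a - b)
      have ne : coeff 0 (a - b) ≠ 0 := fun h ↦ h ▸ eq ▸ sub_ne_zero_of_ne ne <| map_zero _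
      obtain ⟨c, _, eqr⟩ := isUnit_iff_exists.mp ne.isUnit
      have one : c • (a - b) = 1 := by
        rw [MvPolynomial.smul_eq_C_mul, eq, ← map_mul, eqr, MvPolynomial.C_1]
      exact hi ((eq_top_iff_one I).mpr (one ▸ I.smul_of_tower_mem c hab))
    · rw [MvPolynomial.aeval_X_left, AlgHom.comp_id]
      exact isIntegral_of_surjective _ (Quotient.mkₐ_surjective k I)
  | succ d hd =>
    by_cases eqi : I = 0
    · have bij : Function.Bijective (Quotient.mkₐ k I) :=
        (Quotient.mk_bijective_iff_eq_bot I).mpr eqi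
      refine ⟨d + 1, le_rfl, X, fun i => X_mem_intSub i, ?_, ?_⟩
      · rw [MvPolynomial.aeval_X_left, AlgHom.comp_id]
        exact bij.1
      · rw [MvPolynomial.aeval_X_left, AlgHom.comp_id]
        exact isIntegral_of_surjective _ bij.2
    · obtain ⟨f, fi, fne⟩ := Submodule.exists_mem_ne_zero_of_ne_bot eqi
      set ϕ := kerLiftAlg <| hom2 f I
      have := Quotient.nontrivial_iff.mpr hi
      obtain ⟨s, hs, y', hy', injg, intg⟩ := hd (ker <| hom2 f I) (ker_ne_top <| hom2 f I)
      have comp : (kerLiftAlg (hom2 f I)).comp (Quotient.mkₐ k <| ker <| hom2 f I) = (hom2 f I) :=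
        AlgHom.ext fun a ↦ by
          simp only [AlgHom.coe_comp, Quotient.mkₐ_eq_mk, Function.comp_apply, kerLiftAlg_mk]
      let y : Fin s → MvPolynomial (Fin (d + 1)) k := fun i => T1 f (-1) (rename Fin.succ (y' i))
      have hyy : (Quotient.mkₐ k I).comp (MvPolynomial.aeval y) =
          ϕ.comp ((Quotient.mkₐ k (ker <| hom2 f I)).comp (MvPolynomial.aeval y')) := by
        rw [← AlgHom.comp_assoc, comp]
        apply MvPolynomial.algHom_ext
        intro i
        simp only [AlgHom.coe_comp, Function.comp_apply, MvPolynomial.aeval_X, Quotient.mkₐ_eq_mk]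
        rw [hom2_apply]
      refine ⟨s, by lia, y, fun i => T1_mem_intSub f (rename_mem_intSub _ (hy' i)), ?_, ?_⟩
      · rw [hyy, AlgHom.coe_comp]
        exact (kerLiftAlg_injective _).comp injg
      · rw [hyy]
        exact intg.trans _ _ <| (comp ▸ hom2_isIntegral f I fne fi).tower_top _ _

end Groth.Agent.Helper7.NN
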