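import Mathlib
import Groth.Agent.Helper7.MilnorGlue

/-! Lifting finite projective modules and the Picard group along a nilpotent thickening. -/

universe u

open TensorProduct

namespace Groth.Agent.Helper7.PicNil

open Groth.Agent.Helper7.MilnorGlue

/-- Nakayama for a nilpotent ideal, arbitrary modules -/
theorem subsingleton_of_top_le_smul {R : Type*} [CommRing R] (I : Ideal R) (hI : IsNilpotent I)
    {C : Type*} [AddCommGroup C] [Module R C]
    (h : (⊤ : Submodule R C) ≤ I • (⊤ : Submodule R C)) : Subsingleton C := by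
  obtain ⟨n, hn⟩ := hI
  have hpow : ∀ m : ℕ, (⊤ : Submodule R C) ≤ I ^ m • (⊤ : Submodule R C) := by
    intro m
    induction m with
    | zero => rw [pow_zero, Ideal.one_eq_top, Submodule.top_smul]
    | succ m ih =>
      calc (⊤ : Submodule R C) ≤ I • (⊤ : Submodule R C) := h
        _ ≤ I • (I ^ m • (⊤ : Submodule R C)) := smul_mono_right _ ih
        _ = I ^ (m + 1) • (⊤ : Submodule R C) := by rw [← Submodule.mul_smul, ← pow_succ']
  have := hpow n
  rw [hn, Ideal.zero_eq_bot, Submodule.bot_smul] at this
  have h0 : ∀ c : C, c = 0 := fun c => (Submodule.mem_bot R).1 (this trivial)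
  exact ⟨fun a b => by rw [h0 a, h0 b]⟩

lemma matrix_pow_mem {R : Type*} [CommRing R] {n : Type*} [Fintype n] [DecidableEq n] (I : Ideal R)
    (x : Matrix n n R) (hx : ∀ i j, x i j ∈ I) (m : ℕ) : ∀ i j, (x ^ m) i j ∈ I ^ m := by
  induction m with
  | zero => intro i j; rw [pow_zero, Ideal.one_eq_top]; trivial
  | succ m ih =>
    intro i j
    have hxm : x ^ (m + 1) = x ^ m * x := pow_succ x m
    rw [hxm, Matrix.mul_apply]
    have hI : I ^ (m + 1) = I ^ m * I := pow_succ I m
    rw [hI]
    exact Ideal.sum_mem _ fun l _ => Ideal.mul_mem_mul (ih i l) (hx l j)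

section Lift

variable {A' A : Type u} [CommRing A'] [CommRing A] [Algebra A' A]

/-- lifting a finite projective module along a surjection with nilpotent kernel -/
theorem exists_lift_projective (hf : Function.Surjective (algebraMap A' A))
    (hker : IsNilpotent (RingHom.ker (algebraMap A' A)))
    (P : Type u) [AddCommGroup P] [Module A P] [Module.Finite A P] [Module.Projective A P] :
    ∃ (P' : Type u) (_ : AddCommGroup P') (_ : Module A' P') (_ : Module.Finite A' P')
      (_ : Module.Projective A' P'), Nonempty (A ⊗[A'] P' ≃ₗ[A] P) := by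
  classical
  set f := algebraMap A' A with hfdef
  set I := RingHom.ker f with hI
  obtain ⟨n, π, hπ⟩ := Module.Finite.exists_fin' A P
  obtain ⟨s, hs⟩ := Module.projective_lifting_property π LinearMap.id hπ
  have hπs : ∀ p, π (s p) = p := fun p => congrArg (fun φ => φ p) hs
  set e : (Fin n → A) →ₗ[A] (Fin n → A) := s ∘ₗ π with he
  have hee : e ∘ₗ e = e :=
    LinearMap.ext fun v => by simp only [he, LinearMap.comp_apply, hπs]
  set E : Matrix (Fin n) (Fin n) A := LinearMap.toMatrix' e with hE
  have hEE : IsIdempotentElem E := by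
    rw [IsIdempotentElem, hE, ← LinearMap.toMatrix'_comp, hee]
  have hEv : ∀ v : Fin n → A, E.mulVec v = e v := by
    intro v
    rw [hE, ← Matrix.toLin'_apply, Matrix.toLin'_toMatrix']
  let F : Matrix (Fin n) (Fin n) A' →+* Matrix (Fin n) (Fin n) A :=
    (RingHom.mapMatrix f : Matrix (Fin n) (Fin n) A' →+* Matrix (Fin n) (Fin n) A)
  have hFsurj : Function.Surjective F := by
    intro M
    let M' : Matrix (Fin n) (Fin n) A' := fun i j => (hf (M i j)).choose
    refine ⟨M', ?_⟩
    refine Matrix.ext fun i j => ?_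
    exact (hf (M i j)).choose_spec
  have hFker : ∀ x ∈ RingHom.ker F, IsNilpotent x := by
    intro x hx
    obtain ⟨k, hk⟩ := hker
    refine ⟨k, ?_⟩
    have hx' : ∀ i j, x i j ∈ I := by
      intro i j
      have h0 : F x = 0 := (RingHom.mem_ker).1 hx
      have := congrArg (fun M : Matrix (Fin n) (Fin n) A => M i j) h0
      exact (RingHom.mem_ker).2 this
    ext i j
    have := matrix_pow_mem I x hx' k i j
    rw [hk] at this
    exact this
  obtain ⟨E', hE', hFE'⟩ := exists_isIdempotentElem_eq_of_ker_isNilpotent F hFker E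
    (hFsurj E) hEE
  set e' : (Fin n → A') →ₗ[A'] (Fin n → A') := Matrix.toLin' E' with he'
  have he'e' : ∀ y, e' (e' y) = e' y := by
    intro y
    rw [he', ← LinearMap.comp_apply, ← Matrix.toLin'_mul, hE'.eq]
  -- reduction
  let red : (Fin n → A') →ₗ[A'] (Fin n → A) := (Algebra.linearMap A' A).compLeft (Fin n)
  have hred : ∀ y i, red y i = f (y i) := fun y i => rfl
  have hredsurj : Function.Surjective red := by
    intro w
    refine ⟨fun i => (hf (w i)).choose, ?_⟩
    ext i
    exact (hf (w i)).choose_spec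
  have hrede : ∀ y, red (e' y) = e (red y) := by
    intro y
    ext i
    rw [hred, he', Matrix.toLin'_apply, RingHom.map_mulVec, ← hEv]
    have : E'.map f = E := hFE'
    rw [this]
    rfl
  set P' : Submodule A' (Fin n → A') := LinearMap.range e' with hP'
  haveI : Module.Finite A' P' := Module.Finite.range e'
  haveI : Module.Projective A' P' := by
    refine Module.Projective.of_split P'.subtype e'.rangeRestrict ?_
    refine LinearMap.ext fun x => Subtype.ext ?_
    obtain ⟨x, y, rfl⟩ := x
    exact he'e' y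
  letI : Module A' P := Module.compHom P f
  haveI : IsScalarTower A' A P := IsScalarTower.of_algebraMap_smul fun r m => rfl
  let g : P' →ₗ[A'] P := (π.restrictScalars A') ∘ₗ red ∘ₗ P'.subtype
  have hg : ∀ x : P', g x = π (red x.1) := fun x => rfl
  let G : A ⊗[A'] P' →ₗ[A] P := LinearMap.liftBaseChange A g
  have hGsurj : Function.Surjective G := by
    intro p
    obtain ⟨y, hy⟩ := hredsurj (s p)
    refine ⟨(1 : A) ⊗ₜ[A'] (⟨e' y, y, rfl⟩ : P'), ?_⟩
    rw [LinearMap.liftBaseChange_tmul, one_smul, hg]
    show π (red (e' y)) = p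
    rw [hrede, hy, he, LinearMap.comp_apply, hπs, hπs]
  have hGinj : Function.Injective G := by
    rw [injective_iff_map_eq_zero]
    intro z hz
    obtain ⟨x, rfl⟩ := exists_one_tmul hf z
    rw [LinearMap.liftBaseChange_tmul, one_smul, hg] at hz
    obtain ⟨x, y, rfl⟩ := x
    -- `red (e' y) = 0`
    have h1 : red (e' y) = 0 := by
      have h2 : red (e' y) = e (red (e' y)) := by rw [← hrede, he'e']
      rw [h2, he, LinearMap.comp_apply]
      show s (π (red (e' y))) = 0
      have hz' : π (red (e' y)) = 0 := hz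
      rw [hz', map_zero]
    have hcoord : ∀ i, (e' y) i ∈ I := fun i => (RingHom.mem_ker).2 (by rw [← hred, h1]; rfl)
    -- hence `e' y ∈ I • ⊤`
    have hmem : (⟨e' y, y, rfl⟩ : P') ∈ I • (⊤ : Submodule A' P') := by
      have hsum : (⟨e' y, y, rfl⟩ : P') =
          ∑ i, (e' y) i • (⟨e' (Pi.single i 1), Pi.single i 1, rfl⟩ : P') := by
        apply Subtype.ext
        rw [Submodule.coe_sum]
        simp only [Submodule.coe_smul]
        have hy1 : e' y = ∑ i, (e' y) i • (Pi.single i 1 : Fin n → A') := by
          exact pi_eq_sum_univ' (e' y)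
        calc e' y = e' (e' y) := (he'e' y).symm
          _ = e' (∑ i, (e' y) i • (Pi.single i 1 : Fin n → A')) := by rw [← hy1]
          _ = ∑ i, (e' y) i • e' (Pi.single i 1) := by rw [map_sum]; simp only [map_smul]
      rw [hsum]
      exact Submodule.sum_mem _ fun i _ => Submodule.smul_mem_smul (hcoord i) trivial
    exact one_tmul_eq_zero_of_mem_ker_smul_top _ hmem
  exact ⟨P', inferInstance, inferInstance, inferInstance, inferInstance,
    ⟨LinearEquiv.ofBijective G ⟨hGinj, hGsurj⟩⟩⟩

end Lift

section Free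

variable {A' A : Type u} [CommRing A'] [CommRing A] [Algebra A' A]

/-- a projective module whose base change along a nilpotent thickening is free of rank one is
itself free of rank one. -/
theorem free_of_baseChange_free (hf : Function.Surjective (algebraMap A' A))
    (hker : IsNilpotent (RingHom.ker (algebraMap A' A)))
    (T : Type u) [AddCommGroup T] [Module A' T] [Module.Projective A' T]
    (e : A ⊗[A'] T ≃ₗ[A] A) : Nonempty (T ≃ₗ[A'] A') := by
  set I := RingHom.ker (algebraMap A' A) with hI
  obtain ⟨t, ht⟩ := exists_one_tmul hf (e.symm 1)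
  have het : e ((1 : A) ⊗ₜ[A'] t) = 1 := by rw [← ht, LinearEquiv.apply_symm_apply]
  let φ : A' →ₗ[A'] T := LinearMap.toSpanSingleton A' T t
  have hφ : ∀ a, φ a = a • t := fun a => rfl
  have hsm : ∀ (a' : A') (x : T), (1 : A) ⊗ₜ[A'] (a' • x) =
      (algebraMap A' A a') • ((1 : A) ⊗ₜ[A'] x) := by
    intro a' x
    rw [TensorProduct.smul_tmul', smul_eq_mul, mul_one, ← TensorProduct.smul_tmul,
      Algebra.smul_def, mul_one]
  have hkey : ∀ x : T, ∃ a' : A', x - a' • t ∈ I • (⊤ : Submodule A' T) := by
    intro x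
    obtain ⟨a', ha'⟩ := hf (e ((1 : A) ⊗ₜ[A'] x))
    refine ⟨a', mem_ker_smul_top_of_one_tmul_eq_zero hf _ ?_⟩
    apply e.injective
    rw [map_zero, TensorProduct.tmul_sub, map_sub, hsm, map_smul, het, smul_eq_mul, mul_one, ha',
      sub_self]
  have hsurj : Function.Surjective φ := by
    rw [← LinearMap.range_eq_top]
    set N := LinearMap.range φ with hN
    have hsub : Subsingleton (T ⧸ N) := by
      apply subsingleton_of_top_le_smul I hker
      intro c _
      obtain ⟨x, rfl⟩ := Submodule.mkQ_surjective N c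
      obtain ⟨a', ha'⟩ := hkey x
      have h1 : N.mkQ x = N.mkQ (x - a' • t) := by
        rw [map_sub]
        have : N.mkQ (a' • t) = 0 := by
          rw [Submodule.mkQ_apply, Submodule.Quotient.mk_eq_zero]
          exact ⟨a', rfl⟩
        rw [this, sub_zero]
      rw [h1]
      have hmap : Submodule.map N.mkQ (I • (⊤ : Submodule A' T)) ≤
          I • (⊤ : Submodule A' (T ⧸ N)) := by
        rw [Submodule.map_smul'']
        exact smul_mono_right _ le_top
      exact hmap ⟨_, ha', rfl⟩
    exact Submodule.Quotient.subsingleton_iff.1 hsub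
  obtain ⟨σ, hσ⟩ := Module.projective_lifting_property φ LinearMap.id hsurj
  have hσ' : ∀ x, φ (σ x) = x := fun x => congrArg (fun ψ => ψ x) hσ
  set c := σ t with hc
  have hct : c • t = t := hσ' t
  have hfc : algebraMap A' A c = 1 := by
    have h1 : (1 : A) ⊗ₜ[A'] t = algebraMap A' A c • ((1 : A) ⊗ₜ[A'] t) := by
      conv_lhs => rw [← hct]
      rw [hsm]
    have h2 := congrArg e h1
    rw [map_smul, het, smul_eq_mul, mul_one] at h2
    exact h2.symm
  have hunit : IsUnit c := by
    have hn : IsNilpotent (c - 1) := by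
      obtain ⟨k, hk⟩ := hker
      refine ⟨k, ?_⟩
      have h1 : c - 1 ∈ I := by rw [hI, RingHom.mem_ker, map_sub, hfc, map_one, sub_self]
      have h2 := Ideal.pow_mem_pow h1 k
      rw [hk] at h2
      exact h2
    have := hn.isUnit_add_one
    rwa [sub_add_cancel] at this
  have hinj : Function.Injective φ := by
    rw [injective_iff_map_eq_zero]
    intro a ha
    have h1 : a * c = 0 := by
      have := congrArg σ ha
      rw [hφ, map_smul, map_zero, smul_eq_mul] at this
      exact this
    exact (hunit.mul_left_eq_zero).1 h1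
  exact ⟨(LinearEquiv.ofBijective φ ⟨hinj, hsurj⟩).symm⟩

end Free

/-- `Pic(A') → Pic(A)` is bijective for a surjection with nilpotent kernel. -/
theorem pic_bijective {A' A : Type u} [CommRing A'] [CommRing A]
    (f : A' →+* A) (hf : Function.Surjective f) (hker : IsNilpotent (RingHom.ker f)) :
    Function.Bijective (CommRing.Pic.mapRingHom f) := by
  letI : Algebra A' A := f.toAlgebra
  have hf' : Function.Surjective (algebraMap A' A) := hf
  have hker' : IsNilpotent (RingHom.ker (algebraMap A' A)) := hker
  show Function.Bijective (CommRing.Pic.mapAlgebra A' A)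
  constructor
  · rw [injective_iff_map_eq_one]
    intro x hx
    rw [CommRing.Pic.mapAlgebra_apply, CommRing.Pic.mk_eq_one_iff] at hx
    obtain ⟨e⟩ := hx
    obtain ⟨e'⟩ := free_of_baseChange_free hf' hker' x e
    rw [← CommRing.Pic.mk_eq_self (M := x), CommRing.Pic.mk_eq_one_iff]
    exact ⟨e'⟩
  · intro y
    obtain ⟨P', _, _, _, _, ⟨eP⟩⟩ := exists_lift_projective hf' hker' y
    obtain ⟨Q', _, _, _, _, ⟨eQ⟩⟩ := exists_lift_projective hf' hker' (Module.Dual A y)
    let e1 : A ⊗[A'] (Q' ⊗[A'] P') ≃ₗ[A] A :=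
      (TensorProduct.AlgebraTensorModule.distribBaseChange A' A Q' P') ≪≫ₗ
        TensorProduct.congr eQ eP ≪≫ₗ Module.Invertible.linearEquiv A y
    obtain ⟨e2⟩ := free_of_baseChange_free hf' hker' (Q' ⊗[A'] P') e1
    haveI : Module.Invertible A' P' := Module.Invertible.right e2
    refine ⟨CommRing.Pic.mk A' P', ?_⟩
    rw [CommRing.Pic.mapAlgebra_apply, CommRing.Pic.mk_eq_iff]
    refine ⟨?_ ≪≫ₗ eP⟩
    exact TensorProduct.AlgebraTensorModule.congr (LinearEquiv.refl A A)
      (CommRing.Pic.mk.linearEquiv A' P')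

end Groth.Agent.Helper7.PicNil
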