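import Mathlib
import Groth.Prelude.Def_W4c1frobunstivaNR
import Groth.Agent.Helper7.PicNil

namespace Groth.Agent.Helper7.NRFree

open TensorProduct W4c1frobunstiva

universe u v

variable (R : Type u) [CommRing R] (M : Type v) [AddCommGroup M] [Module R M]

local notation "Rbar" => R ⧸ nilradical R

theorem exists_one_tmul (t : Rbar ⊗[R] M) : ∃ x : M, t = (1 : Rbar) ⊗ₜ[R] x := by
  obtain ⟨y, hy⟩ := (quotTensorEquivQuotSMul M (nilradical R)).symm.surjective t
  obtain ⟨x, rfl⟩ := Submodule.Quotient.mk_surjective _ y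
  exact ⟨x, hy.symm⟩

theorem one_tmul_eq_zero_iff (x : M) :
    ((1 : Rbar) ⊗ₜ[R] x = 0) ↔ x ∈ (nilradical R) • (⊤ : Submodule R M) := by
  rw [← (quotTensorEquivQuotSMul M (nilradical R)).map_eq_zero_iff,
    quotTensorEquivQuotSMul_mk_one_tmul, Submodule.Quotient.mk_eq_zero]

theorem mk_smul_one_tmul (a : R) (x : M) :
    (Ideal.Quotient.mk (nilradical R) a) • ((1 : Rbar) ⊗ₜ[R] x) = (1 : Rbar) ⊗ₜ[R] (a • x) := by
  rw [TensorProduct.smul_tmul', smul_eq_mul, mul_one, ← TensorProduct.smul_tmul]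
  congr 1
  rw [Algebra.smul_def, mul_one]
  rfl

theorem sum_mk_smul (r : ℕ) (a : Fin r → R) (m : Fin r → M) :
    ∑ i, (Ideal.Quotient.mk (nilradical R) (a i)) • ((1 : Rbar) ⊗ₜ[R] m i) =
      (1 : Rbar) ⊗ₜ[R] (∑ i, a i • m i) := by
  rw [TensorProduct.tmul_sum]
  exact Finset.sum_congr rfl fun i _ => mk_smul_one_tmul R M (a i) (m i)

theorem forward (r : ℕ) (h : IsNRFree R M r) :
    Nonempty (Module.Basis (Fin r) Rbar (Rbar ⊗[R] M)) := by
  classical
  obtain ⟨m, hspan, hrel⟩ := h
  have hli : LinearIndependent Rbar (fun i => (1 : Rbar) ⊗ₜ[R] m i) := by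
    rw [Fintype.linearIndependent_iff]
    intro g hg
    choose a ha using fun i => Ideal.Quotient.mk_surjective (g i)
    have hg' : ∑ i, (Ideal.Quotient.mk (nilradical R) (a i)) • ((1 : Rbar) ⊗ₜ[R] m i) = 0 := by
      simpa [ha] using hg
    rw [sum_mk_smul, one_tmul_eq_zero_iff, ← hspan,
      Submodule.mem_ideal_smul_span_iff_exists_sum] at hg'
    obtain ⟨b, hb, hsum⟩ := hg'
    rw [Finsupp.sum_fintype _ _ (fun i => zero_smul R (m i))] at hsum
    have h0 : ∑ i, (a i - b i) • m i = 0 := by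
      simp only [sub_smul, Finset.sum_sub_distrib, hsum, sub_self]
    intro i
    have hnil := hrel _ h0 i
    rw [← ha i, Ideal.Quotient.eq_zero_iff_mem]
    have : a i = (a i - b i) + b i := by ring
    rw [this]
    exact (nilradical R).add_mem (mem_nilradical.mpr hnil) (hb i)
  have hsp : ⊤ ≤ Submodule.span Rbar (Set.range fun i => (1 : Rbar) ⊗ₜ[R] m i) := by
    rintro t -
    obtain ⟨x, rfl⟩ := exists_one_tmul R M t
    have hx : x ∈ Submodule.span R (Set.range m) := by rw [hspan]; trivial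
    obtain ⟨c, rfl⟩ := (Submodule.mem_span_range_iff_exists_fun R).mp hx
    rw [← sum_mk_smul]
    exact Submodule.sum_mem _ fun i _ =>
      Submodule.smul_mem _ _ (Submodule.subset_span ⟨i, rfl⟩)
  exact ⟨Module.Basis.mk hli hsp⟩

theorem backward [IsNoetherianRing R] (r : ℕ)
    (h : Nonempty (Module.Basis (Fin r) Rbar (Rbar ⊗[R] M))) : IsNRFree R M r := by
  classical
  obtain ⟨b⟩ := h
  choose m hm using fun i => exists_one_tmul R M (b i)
  refine ⟨m, ?_, ?_⟩
  · -- generation
    set N := Submodule.span R (Set.range m) with hN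
    have hsup : ∀ x : M, ∃ s ∈ N, x - s ∈ (nilradical R) • (⊤ : Submodule R M) := by
      intro x
      have hx : (1 : Rbar) ⊗ₜ[R] x ∈ Submodule.span Rbar (Set.range b) := by
        rw [b.span_eq]; trivial
      obtain ⟨g, hg⟩ := (Submodule.mem_span_range_iff_exists_fun Rbar).mp hx
      choose a ha using fun i => Ideal.Quotient.mk_surjective (g i)
      have hg' : ∑ i, (Ideal.Quotient.mk (nilradical R) (a i)) • ((1 : Rbar) ⊗ₜ[R] m i) =
          (1 : Rbar) ⊗ₜ[R] x := by
        rw [← hg]
        exact Finset.sum_congr rfl fun i _ => by rw [ha, hm]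
      rw [sum_mk_smul] at hg'
      refine ⟨∑ i, a i • m i, Submodule.sum_mem _ fun i _ =>
        Submodule.smul_mem _ _ (Submodule.subset_span ⟨i, rfl⟩), ?_⟩
      rw [← one_tmul_eq_zero_iff, TensorProduct.tmul_sub, hg', sub_self]
    have hsub : Subsingleton (M ⧸ N) := by
      apply PicNil.subsingleton_of_top_le_smul (nilradical R)
        (IsNoetherianRing.isNilpotent_nilradical R)
      rintro y -
      obtain ⟨x, rfl⟩ := Submodule.Quotient.mk_surjective _ y
      obtain ⟨s, hs, hxs⟩ := hsup x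
      have : (Submodule.Quotient.mk x : M ⧸ N) = N.mkQ (x - s) := by
        rw [Submodule.mkQ_apply, Submodule.Quotient.mk_sub, (Submodule.Quotient.mk_eq_zero N).mpr hs,
          sub_zero]
      rw [this]
      have h2 : N.mkQ (x - s) ∈ Submodule.map N.mkQ ((nilradical R) • (⊤ : Submodule R M)) :=
        Submodule.mem_map_of_mem hxs
      rw [Submodule.map_smul''] at h2
      exact Submodule.smul_mono le_rfl le_top h2
    exact Submodule.Quotient.subsingleton_iff.mp hsub
  · intro a ha i
    have h1 : ∑ i, (Ideal.Quotient.mk (nilradical R) (a i)) • b i = 0 := by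
      have := sum_mk_smul R M r a m
      rw [ha, TensorProduct.tmul_zero] at this
      rw [← this]
      exact Finset.sum_congr rfl fun i _ => by rw [hm]
    have h2 := Fintype.linearIndependent_iff.mp b.linearIndependent _ h1 i
    rw [Ideal.Quotient.eq_zero_iff_mem] at h2
    exact mem_nilradical.mp h2

theorem main [IsNoetherianRing R] (r : ℕ) :
    IsNRFree R M r ↔ Nonempty (Module.Basis (Fin r) Rbar (Rbar ⊗[R] M)) :=
  ⟨forward R M r, backward R M r⟩

end Groth.Agent.Helper7.NRFree
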