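import Groth.Agent.Helper7.NRFree

namespace Groth.Agent.Helper7.NRFree

open TensorProduct W4c1frobunstiva

universe u v

variable (R : Type u) [CommRing R] (M : Type v) [AddCommGroup M] [Module R M]

local notation "Rbar" => R ⧸ nilradical R

/-- an `r`-element generating family of an NR-free module of rank `r` is an NR-basis -/
theorem isNRBasis_of_span (r : ℕ) (h : IsNRFree R M r) (m : Fin r → M)
    (hm : Submodule.span R (Set.range m) = ⊤) : IsNRBasis R M m := by
  classical
  refine ⟨hm, ?_⟩
  obtain ⟨b⟩ := forward R M r h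
  intro a ha i
  -- the linear map (Fin r → Rbar) → Rbar ⊗ M
  let v : Fin r → Rbar ⊗[R] M := fun i => (1 : Rbar) ⊗ₜ[R] m i
  let f : (Fin r → Rbar) →ₗ[Rbar] Rbar ⊗[R] M := Fintype.linearCombination Rbar v
  have hf : Function.Surjective f := by
    intro t
    obtain ⟨x, rfl⟩ := exists_one_tmul R M t
    have hx : x ∈ Submodule.span R (Set.range m) := by rw [hm]; trivial
    obtain ⟨c, rfl⟩ := (Submodule.mem_span_range_iff_exists_fun R).mp hx
    refine ⟨fun i => Ideal.Quotient.mk _ (c i), ?_⟩
    rw [← sum_mk_smul]
    rfl
  have hinj : Function.Injective f := by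
    have h1 : Function.Surjective (b.equivFun.toLinearMap ∘ₗ f) :=
      b.equivFun.surjective.comp hf
    have h2 := OrzechProperty.injective_of_surjective_endomorphism _ h1
    have h3 : Function.Injective (⇑b.equivFun ∘ ⇑f) := h2
    exact Function.Injective.of_comp h3
  have h0 : f (fun i => Ideal.Quotient.mk _ (a i)) = 0 := by
    have := sum_mk_smul R M r a m
    rw [ha, TensorProduct.tmul_zero] at this
    exact this
  have h1 : (fun i => Ideal.Quotient.mk (nilradical R) (a i)) = 0 := hinj (h0.trans (map_zero f).symm)
  have h2 := congrFun h1 i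
  rw [Pi.zero_apply, Ideal.Quotient.eq_zero_iff_mem] at h2
  exact mem_nilradical.mp h2

theorem exists_matrix (r : ℕ) (hM : IsNRFree R M r) (m m' : Fin r → M)
    (hm : Submodule.span R (Set.range m) = ⊤) (hm' : Submodule.span R (Set.range m') = ⊤) :
    ∃ T : Matrix (Fin r) (Fin r) R, IsUnit T ∧ ∀ j, m' j = ∑ i, T j i • m i := by
  classical
  have hT : ∀ j, ∃ c : Fin r → R, ∑ i, c i • m i = m' j := fun j =>
    (Submodule.mem_span_range_iff_exists_fun R).mp (by rw [hm]; trivial)
  have hS : ∀ i, ∃ c : Fin r → R, ∑ j, c j • m' j = m i := fun i =>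
    (Submodule.mem_span_range_iff_exists_fun R).mp (by rw [hm']; trivial)
  choose T hT using hT
  choose S hS using hS
  refine ⟨Matrix.of T, ?_, fun j => (hT j).symm⟩
  have hbasis := isNRBasis_of_span R M r hM m hm
  -- (S * T - 1) kills m
  have hrel : ∀ i k, IsNilpotent ((Matrix.of S * Matrix.of T - 1) i k) := by
    intro i
    apply hbasis.2
    have : ∑ k, (Matrix.of S * Matrix.of T - 1 : Matrix (Fin r) (Fin r) R) i k • m k =
        ∑ j, S i j • m' j - m i := by
      simp only [Matrix.sub_apply, sub_smul, Finset.sum_sub_distrib, Matrix.mul_apply,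
        Matrix.of_apply, Matrix.one_apply, Finset.sum_smul]
      congr 1
      · rw [Finset.sum_comm]
        apply Finset.sum_congr rfl
        intro j _
        rw [← hT j, Finset.smul_sum]
        apply Finset.sum_congr rfl
        intro k _
        rw [mul_smul]
      · simp
    rw [this, hS, sub_self]
  -- determinant
  have hdet : IsUnit (Matrix.of S * Matrix.of T).det := by
    have hmap : (Ideal.Quotient.mk (nilradical R)).mapMatrix (Matrix.of S * Matrix.of T) = 1 := by
      ext i k
      have := hrel i k
      rw [← mem_nilradical, ← Ideal.Quotient.eq_zero_iff_mem, Matrix.sub_apply, map_sub,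
        sub_eq_zero] at this
      rw [RingHom.mapMatrix_apply, Matrix.map_apply, this, Matrix.one_apply, Matrix.one_apply]
      split_ifs <;> simp
    have h1 : Ideal.Quotient.mk (nilradical R) ((Matrix.of S * Matrix.of T).det) = 1 := by
      rw [RingHom.map_det, hmap, Matrix.det_one]
    have h2 : IsNilpotent ((Matrix.of S * Matrix.of T).det - 1) := by
      rw [← mem_nilradical, ← Ideal.Quotient.eq_zero_iff_mem, map_sub, h1, map_one, sub_self]
    have := h2.isUnit_add_one
    rwa [sub_add_cancel] at this
  rw [Matrix.det_mul] at hdet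
  rw [Matrix.isUnit_iff_isUnit_det]
  exact isUnit_of_mul_isUnit_right hdet

end Groth.Agent.Helper7.NRFree
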