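import Mathlib

set_option autoImplicit false
universe u

namespace Groth.Agent.Helper7.NRa

variable {O : Type u} [CommRing O] [IsDomain O] [IsDiscreteValuationRing O]
  {L : Type u} [Field L] [Algebra O L] [IsFractionRing O L]

omit [IsDiscreteValuationRing O] [IsDomain O] in
lemma pow_not_unit {ϖ' : O} (hϖ' : Irreducible ϖ') {l : ℕ} (hl : 1 ≤ l) (U V : Oˣ) :
    (U : O) * ϖ' ^ l ≠ V := by
  intro h
  have h1 : IsUnit (ϖ' ^ l) := by
    have : ϖ' ^ l = ((U⁻¹ * V : Oˣ) : O) := by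
      rw [Units.val_mul, ← h, ← mul_assoc, ← Units.val_mul]; simp
    rw [this]; exact Units.isUnit _
  exact hϖ'.not_isUnit ((isUnit_pow_iff (by omega)).mp h1)

omit [IsDiscreteValuationRing O] in
lemma zpow_eq_zero {ϖ' : O} (hϖ' : Irreducible ϖ') (U V : Oˣ) (k : ℤ)
    (h : algebraMap O L U * algebraMap O L ϖ' ^ k = algebraMap O L V) : k = 0 := by
  have hinj := IsFractionRing.injective O L
  have hP : algebraMap O L ϖ' ≠ 0 := by
    intro h0
    exact hϖ'.ne_zero (hinj (by rw [h0, map_zero]))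
  by_contra hk
  rcases lt_or_gt_of_ne hk with hneg | hpos
  · obtain ⟨l, hl⟩ : ∃ l : ℕ, k = -(l : ℤ) := ⟨(-k).toNat, by omega⟩
    have hl1 : 1 ≤ l := by omega
    rw [hl, zpow_neg, zpow_natCast] at h
    have h2 : algebraMap O L ((V : O) * ϖ' ^ l) = algebraMap O L U := by
      rw [map_mul, map_pow, ← h]
      field_simp
    exact pow_not_unit hϖ' hl1 V U (hinj h2)
  · obtain ⟨l, hl⟩ : ∃ l : ℕ, k = (l : ℤ) := ⟨k.toNat, by omega⟩
    have hl1 : 1 ≤ l := by omega
    rw [hl, zpow_natCast, ← map_pow, ← map_mul] at h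
    exact pow_not_unit hϖ' hl1 U V (hinj h)

theorem main
    (ϖ' : O) (hϖ' : Irreducible ϖ') (ϖ : O) (hϖ : ϖ ∈ IsLocalRing.maximalIdeal O)
    (n : ℕ) (hn : 1 ≤ n) (u : Oˣ) (q : O) (hq : q = u * ϖ' ^ n)
    (m : ℕ) (hm : 1 ≤ m) (hmn : m ∣ n) :
    (∃ (w : Oˣ) (a j t : ℤ) (r : O), a = (n / m : ℕ) + t * n ∧
        (algebraMap O L w * algebraMap O L ϖ' ^ a) ^ m * algebraMap O L q ^ j = algebraMap O L (1 + ϖ * r)) ↔
      ∃ y r : O, (u : O) * (y ^ m + ϖ * r) = 1 := by
  have hinj := IsFractionRing.injective O L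
  have hP : algebraMap O L ϖ' ≠ 0 := by
    intro h0
    exact hϖ'.ne_zero (hinj (by rw [h0, map_zero]))
  obtain ⟨c, hc⟩ := hmn
  have hdiv : n / m = c := by rw [hc]; exact Nat.mul_div_cancel_left c (by omega)
  constructor
  · rintro ⟨w, a, j, t, r, ha, h⟩
    -- 1 + ϖ r is a unit
    have hVu : IsUnit (1 + ϖ * r) := by
      by_contra hnu
      have h1 : 1 + ϖ * r ∈ IsLocalRing.maximalIdeal O := (IsLocalRing.mem_maximalIdeal _).mpr hnu
      have h2 : ϖ * r ∈ IsLocalRing.maximalIdeal O := Ideal.mul_mem_right _ _ hϖ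
      have h3 : (1 : O) ∈ IsLocalRing.maximalIdeal O := by
        have := Ideal.sub_mem _ h1 h2
        simp at this
      exact (Ideal.ne_top_iff_one _).mp (IsLocalRing.maximalIdeal.isMaximal O).ne_top h3
    obtain ⟨V, hV⟩ := hVu
    -- rewrite the equation
    have hUj : algebraMap O L ((u ^ j : Oˣ) : O) = algebraMap O L u ^ j := by
      have := (Units.map (algebraMap O L).toMonoidHom).map_zpow u j
      have h2 := congrArg Units.val this
      rw [Units.val_zpow_eq_zpow_val] at h2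
      exact h2
    have hUne : algebraMap O L u ≠ 0 := by
      intro h0
      exact u.ne_zero (hinj (by rw [h0, map_zero]))
    have h' : algebraMap O L ((w ^ m * u ^ j : Oˣ) : O) * algebraMap O L ϖ' ^ (a * m + n * j)
        = algebraMap O L V := by
      rw [hV, ← h, hq, Units.val_mul, map_mul, hUj, Units.val_pow_eq_pow_val, map_pow, map_mul,
        map_pow, mul_pow, mul_zpow, zpow_add₀ hP, zpow_mul, zpow_mul]
      simp only [zpow_natCast]
      ring
    have hk := zpow_eq_zero hϖ' _ _ _ h'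
    have hj : j = -1 - t * m := by
      have hn' : (n : ℤ) ≠ 0 := by exact_mod_cast (by omega : n ≠ 0)
      have : (n : ℤ) * (1 + t * m + j) = 0 := by
        rw [← hk, ha, hdiv, hc]; push_cast; ring
      rcases mul_eq_zero.mp this with h0 | h0
      · exact absurd h0 hn'
      · linarith
    rw [hk, zpow_zero, mul_one] at h'
    have hkey : w ^ m * u ^ j = V := Units.ext (hinj h')
    set z : Oˣ := w * u ^ (-t) with hz
    have hzm : z ^ m = u * V := by
      rw [← hkey, hz, mul_pow, ← zpow_natCast (u ^ (-t)) m, ← zpow_mul, hj]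
      rw [mul_left_comm]
      congr 1
      rw [← zpow_one_add]
      congr 1; ring
    refine ⟨((z⁻¹ : Oˣ) : O), ((z⁻¹ ^ m : Oˣ) : O) * r, ?_⟩
    have e1 : ((z⁻¹ : Oˣ) : O) ^ m = ((u * V)⁻¹ : Oˣ) := by
      rw [← Units.val_pow_eq_pow_val, inv_pow, hzm]
    rw [e1, inv_pow, hzm]
    have : ((u * V)⁻¹ : Oˣ) + ϖ * (((u * V)⁻¹ : Oˣ) * r) = (((u * V)⁻¹ : Oˣ) : O) * V := by
      rw [hV]; ring
    rw [this, ← Units.val_mul, ← Units.val_mul]
    simp
  · rintro ⟨y, r, h⟩
    have hyu : IsUnit y := by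
      by_contra hnu
      have h1 : y ∈ IsLocalRing.maximalIdeal O := (IsLocalRing.mem_maximalIdeal _).mpr hnu
      have h2 : y ^ m ∈ IsLocalRing.maximalIdeal O := Ideal.pow_mem_of_mem _ h1 m (by omega)
      have h3 : ϖ * r ∈ IsLocalRing.maximalIdeal O := Ideal.mul_mem_right _ _ hϖ
      have h4 : (1 : O) ∈ IsLocalRing.maximalIdeal O := by
        rw [← h]; exact Ideal.mul_mem_left _ _ (Ideal.add_mem _ h2 h3)
      exact (Ideal.ne_top_iff_one _).mp (IsLocalRing.maximalIdeal.isMaximal O).ne_top h4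
    obtain ⟨yu, rfl⟩ := hyu
    refine ⟨yu⁻¹, (n / m : ℕ), -1, 0, ((yu⁻¹ ^ m : Oˣ) : O) * r, by simp, ?_⟩
    have hUne : algebraMap O L u ≠ 0 := by
      intro h0
      exact u.ne_zero (hinj (by rw [h0, map_zero]))
    have e1 : (1 : O) + ϖ * (((yu⁻¹ ^ m : Oˣ) : O) * r) = ((u⁻¹ : Oˣ) : O) * ((yu⁻¹ : Oˣ) : O) ^ m := by
      have h5 : (yu : O) ^ m + ϖ * r = ((u⁻¹ : Oˣ) : O) := by
        have : ((u⁻¹ : Oˣ) : O) * ((u : O) * ((yu : O) ^ m + ϖ * r)) = ((u⁻¹ : Oˣ) : O) * 1 := by rw [h]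
        rw [← mul_assoc, ← Units.val_mul] at this
        simpa using this
      rw [← h5, Units.val_pow_eq_pow_val]
      have h6 : ((yu⁻¹ : Oˣ) : O) ^ m * (yu : O) ^ m = 1 := by
        rw [← mul_pow, ← Units.val_mul]; simp
      linear_combination (-1 : O) * h6
    rw [e1, hq, hdiv, zpow_neg_one, zpow_natCast, mul_pow, ← pow_mul, hc, mul_comm c m]
    simp only [map_mul, map_pow]
    have hUinv : algebraMap O L ((u⁻¹ : Oˣ) : O) = (algebraMap O L u)⁻¹ := by
      have : algebraMap O L ((u⁻¹ : Oˣ) : O) * algebraMap O L u = 1 := by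
        rw [← map_mul, ← Units.val_mul]; simp
      exact eq_inv_of_mul_eq_one_left this
    rw [hUinv]
    field_simp
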