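import Mathlib

set_option autoImplicit false
universe u

namespace Groth.Agent.Helper7.NWa

variable {Q : Type u} [CommRing Q] (p x y : Q)

/-- the inductive step for the powers of `(x, y)` when `x ^ 2 ∈ (x, y) ^ 3`. -/
lemma pow_le_aux (h2 : x ^ 2 ∈ Ideal.span {x, y} ^ 3) (j : ℕ) :
    Ideal.span {x, y} ^ (j + 1) ≤
      Ideal.span {y ^ (j + 1), x * y ^ j} ⊔ Ideal.span {x, y} ^ (j + 2) := by
  set J : Ideal Q := Ideal.span {x, y} with hJ
  have hxJ : x ∈ J := Ideal.subset_span (by simp)
  have hyJ : y ∈ J := Ideal.subset_span (by simp)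
  induction j with
  | zero =>
    rw [zero_add, pow_one]
    refine le_sup_of_le_left ?_
    rw [hJ, Ideal.span_le]
    intro z hz
    rcases hz with rfl | rfl
    · exact Ideal.subset_span (by simp)
    · exact Ideal.subset_span (by simp)
  | succ j ih =>
    have e1 : J ^ (j + 1 + 1) = J * J ^ (j + 1) := pow_succ' J (j + 1)
    rw [e1]
    refine (Ideal.mul_mono_right ih).trans ?_
    rw [Ideal.mul_sup]
    refine sup_le ?_ ?_
    · rw [hJ, Ideal.span_pair_mul_span_pair, Ideal.span_le]
      intro z hz
      simp only [Set.mem_insert_iff, Set.mem_singleton_iff] at hz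
      rcases hz with rfl | rfl | rfl | rfl
      · -- x * y^(j+1)
        exact Ideal.mem_sup_left (Ideal.subset_span (by simp))
      · -- x * (x * y^j)
        refine Ideal.mem_sup_right ?_
        have : x * (x * y ^ j) = x ^ 2 * y ^ j := by ring
        rw [this, show j + 1 + 2 = 3 + j by ring, pow_add]
        exact Ideal.mul_mem_mul h2 (Ideal.pow_mem_pow hyJ j)
      · -- y * y^(j+1)
        refine Ideal.mem_sup_left (Ideal.subset_span ?_)
        left; ring
      · -- y * (x * y^j)
        refine Ideal.mem_sup_left (Ideal.subset_span ?_)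
        right
        simp only [Set.mem_singleton_iff]
        ring
    · refine le_sup_of_le_right ?_
      rw [← pow_succ']

/-- generation of the powers of `(p, x, y)` by two elements. -/
theorem span_pow_eq (h1 : p ∈ Ideal.span {x, y} ^ 2) (h2 : x ^ 2 ∈ Ideal.span {x, y} ^ 3)
    (h3 : Ideal.span {x, y} ≤ (⊥ : Ideal Q).jacobson) (j : ℕ) :
    Ideal.span {p, x, y} ^ (j + 1) = Ideal.span {y ^ (j + 1), x * y ^ j} := by
  set J : Ideal Q := Ideal.span {x, y} with hJ
  have hxJ : x ∈ J := Ideal.subset_span (by simp)
  have hyJ : y ∈ J := Ideal.subset_span (by simp)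
  have hm : Ideal.span {p, x, y} = J := by
    apply le_antisymm
    · rw [Ideal.span_le]
      intro z hz
      simp only [Set.mem_insert_iff, Set.mem_singleton_iff] at hz
      rcases hz with rfl | rfl | rfl
      · exact Ideal.pow_le_self (by norm_num) h1
      · exact hxJ
      · exact hyJ
    · exact Ideal.span_mono (by intro z hz; right; exact hz)
  rw [hm]
  apply le_antisymm
  · have hfg : (J ^ (j + 1)).FG := by
      apply Ideal.FG.pow
      exact Submodule.fg_span (Set.toFinite {x, y})
    refine Submodule.le_of_le_smul_of_le_jacobson_bot hfg h3 ?_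
    have := pow_le_aux x y h2 j
    rw [smul_eq_mul, ← pow_succ']
    exact this
  · rw [Ideal.span_le]
    intro z hz
    simp only [Set.mem_insert_iff, Set.mem_singleton_iff] at hz
    rcases hz with rfl | rfl
    · exact Ideal.pow_mem_pow hyJ _
    · rw [pow_succ']
      exact Ideal.mul_mem_mul hxJ (Ideal.pow_mem_pow hyJ j)

end Groth.Agent.Helper7.NWa
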