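import Mathlib

set_option autoImplicit false
universe u

namespace Groth.Agent.Helper7.NWb

open MvPowerSeries

section nil

variable {T : Type u} [CommRing T] (η ε : T)

lemma span_pow_le (hε : ε ^ 2 = 0) (k : ℕ) :
    Ideal.span {ε, η} ^ (k + 1) ≤ Ideal.span {η ^ k} * Ideal.span {ε, η} := by
  have hεn : ε ∈ Ideal.span {ε, η} := Ideal.subset_span (by simp)
  have hηn : η ∈ Ideal.span {ε, η} := Ideal.subset_span (by simp)
  have hηη : η ∈ Ideal.span {η} := Ideal.mem_span_singleton_self _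
  induction k with
  | zero => simp
  | succ k ih =>
    rw [pow_succ]
    refine (Ideal.mul_mono_left ih).trans ?_
    rw [mul_assoc, pow_succ, ← Ideal.span_singleton_mul_span_singleton, mul_assoc]
    refine Ideal.mul_mono_right ?_
    rw [Ideal.span_pair_mul_span_pair, Ideal.span_le]
    intro z hz
    simp only [Set.mem_insert_iff, Set.mem_singleton_iff] at hz
    rcases hz with rfl | rfl | rfl | rfl
    · rw [← pow_two, hε]; exact Ideal.zero_mem _
    · rw [mul_comm ε η]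
      exact Ideal.mul_mem_mul hηη hεn
    · exact Ideal.mul_mem_mul hηη hεn
    · exact Ideal.mul_mem_mul hηη hηn

lemma span_pow_eq_bot (hε : ε ^ 2 = 0) (k : ℕ) (h1 : η ^ (k + 1) = 0) (h2 : η ^ k * ε = 0) :
    Ideal.span {ε, η} ^ (k + 1) = ⊥ := by
  rw [eq_bot_iff]
  refine (span_pow_le η ε hε k).trans ?_
  rw [Ideal.mul_le]
  intro r hr s hs
  obtain ⟨a, rfl⟩ := Ideal.mem_span_singleton'.mp hr
  obtain ⟨b, c, rfl⟩ := Ideal.mem_span_pair.mp hs
  have : a * η ^ k * (b * ε + c * η) = a * b * (η ^ k * ε) + a * c * η ^ (k + 1) := by ring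
  rw [this, h1, h2]; simp

end nil

variable {R : Type u} [CommRing R]
  (ϖ a₁ a₆ : R) (v : ℕ) (u₁ u₆ : Rˣ) (ha₁ : a₁ = u₁ * ϖ ^ v) (ha₆ : a₆ = u₆ * ϖ)
  (c : R) (h2 : (2 : R) = c * ϖ ^ v)

include ha₁ ha₆ h2 in
theorem test_vanish {T : Type u} [CommRing T] [Algebra R T] (η ε : T)
    (hη : η ^ 2 = algebraMap R T (u₆ * ϖ)) (hε : ε ^ 2 = 0) (h1 : η ^ (2 * v + 1) = 0)
    (h2' : η ^ (2 * v) * ε = 0)
    (Φ : MvPowerSeries (Fin 2) R →ₐ[R] T) (hΦx : Φ (X 0) = ε) (hΦy : Φ (X 1) = η)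
    (s : MvPowerSeries (Fin 2) R)
    (hs : s ∈ (Ideal.span {algebraMap R (MvPowerSeries (Fin 2) R) ϖ, X 0, X 1}) ^ (2 * v + 1) ⊔
      Ideal.span {(X 1 : MvPowerSeries (Fin 2) R) ^ 2 + a₁ • (X 0 * X 1) - X 0 ^ 3
          - algebraMap R (MvPowerSeries (Fin 2) R) a₆,
        2 * X 1 + a₁ • X 0, 3 * X 0 ^ 2 - a₁ • X 1}) : Φ s = 0 := by
  -- the image of `ϖ`
  have hϖ : algebraMap R T ϖ = algebraMap R T ((u₆⁻¹ : Rˣ) : R) * η ^ 2 := by
    rw [hη, ← map_mul, ← mul_assoc, ← Units.val_mul]; simp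
  have hP : algebraMap R T (ϖ ^ v) = algebraMap R T ((u₆⁻¹ : Rˣ) : R) ^ v * η ^ (2 * v) := by
    rw [map_pow, hϖ, mul_pow, ← pow_mul]
  have hPη : algebraMap R T (ϖ ^ v) * η = 0 := by
    rw [hP, mul_assoc, ← pow_succ, h1, mul_zero]
  have hPε : algebraMap R T (ϖ ^ v) * ε = 0 := by
    rw [hP, mul_assoc, h2', mul_zero]
  have hε3 : ε ^ 3 = 0 := by rw [show 3 = 2 + 1 from rfl, pow_succ, hε, zero_mul]
  have hI : Ideal.span {(X 1 : MvPowerSeries (Fin 2) R) ^ 2 + a₁ • (X 0 * X 1) - X 0 ^ 3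
          - algebraMap R (MvPowerSeries (Fin 2) R) a₆,
        2 * X 1 + a₁ • X 0, 3 * X 0 ^ 2 - a₁ • X 1} ≤ RingHom.ker Φ.toRingHom := by
    rw [Ideal.span_le]
    intro z hz
    simp only [Set.mem_insert_iff, Set.mem_singleton_iff] at hz
    rw [SetLike.mem_coe, RingHom.mem_ker]
    change Φ z = 0
    rcases hz with rfl | rfl | rfl
    · rw [map_sub, map_sub, map_add, map_pow, map_pow, map_smul, map_mul, AlgHom.commutes, hΦx, hΦy,
        hε3, Algebra.smul_def, ha₁, ha₆, hη, map_mul (algebraMap R T) (u₁ : R)]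
      have : algebraMap R T ↑u₁ * algebraMap R T (ϖ ^ v) * (ε * η) = 0 := by
        rw [mul_assoc, ← mul_assoc _ ε η, hPε, zero_mul, mul_zero]
      rw [this]; ring
    · rw [map_add, map_mul, map_smul, map_ofNat, hΦx, hΦy, Algebra.smul_def, ha₁,
        map_mul (algebraMap R T) (u₁ : R)]
      have e2 : (2 : T) = algebraMap R T c * algebraMap R T (ϖ ^ v) := by
        rw [← map_mul, ← h2, map_ofNat]
      rw [e2, mul_assoc, hPη, mul_assoc, hPε]; simp
    · rw [map_sub, map_mul, map_pow, map_smul, map_ofNat, hΦx, hΦy, hε, Algebra.smul_def, ha₁,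
        map_mul (algebraMap R T) (u₁ : R), mul_assoc, hPη]; simp
  have hM : (Ideal.span {algebraMap R (MvPowerSeries (Fin 2) R) ϖ, X 0, X 1}) ^ (2 * v + 1)
      ≤ RingHom.ker Φ.toRingHom := by
    rw [← Ideal.map_eq_bot_iff_le_ker, Ideal.map_pow, Ideal.map_span, eq_bot_iff,
      ← span_pow_eq_bot η ε hε (2 * v) h1 h2']
    refine Ideal.pow_right_mono ?_ _
    rw [Ideal.span_le]
    rintro z ⟨w, hw, rfl⟩
    simp only [Set.mem_insert_iff, Set.mem_singleton_iff] at hw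
    change Φ w ∈ _
    rcases hw with rfl | rfl | rfl
    · rw [AlgHom.commutes, hϖ, pow_two, ← mul_assoc]
      exact Ideal.mul_mem_left _ _ (Ideal.subset_span (by simp))
    · rw [hΦx]; exact Ideal.subset_span (by simp)
    · rw [hΦy]; exact Ideal.subset_span (by simp)
  have := (sup_le hM hI) hs
  exact this

end Groth.Agent.Helper7.NWb
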