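import Mathlib

set_option autoImplicit false
set_option linter.style.haveILetI false
universe u v

namespace Groth.Agent.Helper7.PSNil

open MvPowerSeries

/-- a ring hom out of a power series ring in finitely many variables, with prescribed nilpotent
images of the variables -/
theorem exists_algHom {σ : Type*} [Finite σ] {R : Type u} [CommRing R] {T : Type v} [CommRing T]
    [Algebra R T] (a : σ → T) (ha : ∀ s, IsNilpotent (a s)) :
    ∃ Φ : MvPowerSeries σ R →ₐ[R] T, ∀ s, Φ (MvPowerSeries.X s) = a s := by
  letI : UniformSpace R := ⊥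
  haveI : DiscreteTopology R := ⟨rfl⟩
  letI : UniformSpace T := ⊥
  haveI : DiscreteTopology T := ⟨rfl⟩
  haveI : IsUniformAddGroup R := inferInstance
  haveI : IsUniformAddGroup T := inferInstance
  haveI : ContinuousSMul R T := ⟨continuous_of_discreteTopology⟩
  have hev : MvPowerSeries.HasEval a := by
    refine ⟨fun s => (ha s).isTopologicallyNilpotent, ?_⟩
    rw [Filter.cofinite_eq_bot]
    exact Filter.tendsto_bot
  refine ⟨MvPowerSeries.aeval hev, fun s => ?_⟩
  rw [MvPowerSeries.coe_aeval, MvPowerSeries.eval₂_X]

end Groth.Agent.Helper7.PSNil
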