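import Mathlib
import Groth.Agent.Helper7.Eis1
import Groth.Agent.Helper7.PSNil
import Groth.Agent.Helper7.NWb

set_option autoImplicit false
set_option linter.style.haveILetI false
universe u

namespace Groth.Agent.Helper7.NWc

open MvPowerSeries

variable {R : Type u} [CommRing R] [IsDomain R] [IsDiscreteValuationRing R]
  (π : R) (hπ : Irreducible π)

include hπ in
lemma mem_of_mul_pow_mem (a : R) (k : ℕ)
    (h : AdjoinRoot.of (Eis.f R π 2) a * Eis.x R π 2 ^ k ∈ Ideal.span {Eis.x R π 2 ^ (k + 1)}) :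
    a ∈ Ideal.span {π} := by
  haveI := Eis.isDomain R π hπ 2 (by norm_num)
  obtain ⟨w, hw⟩ := Ideal.mem_span_singleton'.mp h
  have h1 : Eis.x R π 2 ^ k * (AdjoinRoot.of (Eis.f R π 2) a - w * Eis.x R π 2) = 0 := by
    rw [mul_sub, sub_eq_zero, mul_comm _ (AdjoinRoot.of (Eis.f R π 2) a), ← hw, pow_succ]; ring
  have h2 : AdjoinRoot.of (Eis.f R π 2) a - w * Eis.x R π 2 = 0 := by
    rcases mul_eq_zero.mp h1 with h0 | h0
    · exact absurd (pow_eq_zero_iff (n := k) (by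
        intro hk; subst hk
        exact absurd h0 (by simp)) |>.mp h0) (Eis.x_ne_zero R π hπ 2 (by norm_num))
    · exact h0
  have h3 : AdjoinRoot.of (Eis.f R π 2) a ∈ RingHom.ker (Eis.phi R π 2 (by norm_num)) := by
    rw [Eis.ker_phi, sub_eq_zero.mp h2]
    exact Ideal.mul_mem_left _ _ (Ideal.mem_span_singleton_self _)
  rw [RingHom.mem_ker, Eis.phi_of, Ideal.Quotient.eq_zero_iff_mem] at h3
  exact h3


variable (ϖ a₁ a₆ : R) (hϖ : Irreducible ϖ) (v : ℕ) (hv : 1 ≤ v) (u₁ u₆ : Rˣ)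
  (ha₁ : a₁ = u₁ * ϖ ^ v) (ha₆ : a₆ = u₆ * ϖ) (c : R) (h2 : (2 : R) = c * ϖ ^ v)

local notation "SS" => MvPowerSeries (Fin 2) R
local notation "II" => Ideal.span {(X 1 : MvPowerSeries (Fin 2) R) ^ 2 + a₁ • (X 0 * X 1) - X 0 ^ 3
          - algebraMap R (MvPowerSeries (Fin 2) R) a₆,
        2 * X 1 + a₁ • X 0, 3 * X 0 ^ 2 - a₁ • X 1}
local notation "MM" => Ideal.span {algebraMap R (MvPowerSeries (Fin 2) R) ϖ,
  (X 0 : MvPowerSeries (Fin 2) R), X 1}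

include hϖ ha₁ ha₆ h2 in
theorem indep_a (a b : R)
    (h : a • (X 1 : SS) ^ (2 * v) + b • ((X 0 : SS) * X 1 ^ (2 * v - 1)) ∈ MM ^ (2 * v + 1) ⊔ II) :
    a ∈ Ideal.span {(u₆ : R) * ϖ} := by
  have hπ : Irreducible ((u₆ : R) * ϖ) := (irreducible_units_mul u₆).mpr hϖ
  set π := (u₆ : R) * ϖ with hπdef
  let T := AdjoinRoot (Eis.f R π 2) ⧸ Ideal.span {Eis.x R π 2 ^ (2 * v + 1)}
  let η : T := Ideal.Quotient.mk _ (Eis.x R π 2)
  have h1 : η ^ (2 * v + 1) = 0 := by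
    rw [← map_pow, Ideal.Quotient.eq_zero_iff_mem]; exact Ideal.mem_span_singleton_self _
  have hη : η ^ 2 = algebraMap R T π := by
    rw [← map_pow, Eis.x_pow]; rfl
  obtain ⟨Φ, hΦ⟩ := PSNil.exists_algHom (R := R) (T := T) (σ := Fin 2) ![0, η] (by
    intro s
    fin_cases s
    · exact IsNilpotent.zero
    · exact ⟨2 * v + 1, h1⟩)
  have hΦx : Φ (X 0) = 0 := hΦ 0
  have hΦy : Φ (X 1) = η := hΦ 1
  have hz := NWb.test_vanish ϖ a₁ a₆ v u₁ u₆ ha₁ ha₆ c h2 η 0 hη (by simp) h1 (by simp) Φ hΦx hΦy _ h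
  rw [map_add, map_smul, map_smul, map_mul, hΦx, zero_mul, smul_zero, add_zero, map_pow, hΦy,
    Algebra.smul_def] at hz
  have hz' : (Ideal.Quotient.mk (Ideal.span {Eis.x R π 2 ^ (2 * v + 1)}))
      (AdjoinRoot.of (Eis.f R π 2) a * Eis.x R π 2 ^ (2 * v)) = 0 := by
    rw [map_mul, map_pow]; exact hz
  rw [Ideal.Quotient.eq_zero_iff_mem] at hz'
  exact mem_of_mul_pow_mem π hπ a (2 * v) hz'


include hϖ hv ha₁ ha₆ h2 in
theorem indep_b (a b : R)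
    (h : a • (X 1 : SS) ^ (2 * v) + b • ((X 0 : SS) * X 1 ^ (2 * v - 1)) ∈ MM ^ (2 * v + 1) ⊔ II) :
    b ∈ Ideal.span {(u₆ : R) * ϖ} := by
  have hπ : Irreducible ((u₆ : R) * ϖ) := (irreducible_units_mul u₆).mpr hϖ
  set π := (u₆ : R) * ϖ with hπdef
  let B := AdjoinRoot (Eis.f R π 2) ⧸ Ideal.span {Eis.x R π 2 ^ (2 * v)}
  let T := DualNumber B
  let y₀ : B := Ideal.Quotient.mk _ (Eis.x R π 2)
  let η : T := TrivSqZeroExt.inl y₀
  let ε : T := DualNumber.eps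
  have hy₀ : y₀ ^ (2 * v) = 0 := by
    rw [← map_pow, Ideal.Quotient.eq_zero_iff_mem]; exact Ideal.mem_span_singleton_self _
  have hηpow : ∀ n : ℕ, η ^ n = TrivSqZeroExt.inl (y₀ ^ n) := fun n => TrivSqZeroExt.inl_pow y₀ n
  have h1' : η ^ (2 * v) = 0 := by
    rw [hηpow, hy₀, TrivSqZeroExt.inl_zero]
  have h1 : η ^ (2 * v + 1) = 0 := by rw [pow_succ, h1', zero_mul]
  have hη : η ^ 2 = algebraMap R T π := by
    rw [hηpow, ← map_pow, Eis.x_pow]; rfl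
  have hε : ε ^ 2 = 0 := by rw [pow_two]; exact DualNumber.eps_mul_eps
  obtain ⟨Φ, hΦ⟩ := PSNil.exists_algHom (R := R) (T := T) (σ := Fin 2) ![ε, η] (by
    intro s
    fin_cases s
    · exact ⟨2, hε⟩
    · exact ⟨2 * v + 1, h1⟩)
  have hΦx : Φ (X 0) = ε := hΦ 0
  have hΦy : Φ (X 1) = η := hΦ 1
  have hz := NWb.test_vanish ϖ a₁ a₆ v u₁ u₆ ha₁ ha₆ c h2 η ε hη hε h1 (by rw [h1', zero_mul])
    Φ hΦx hΦy _ h
  rw [map_add, map_smul, map_smul, map_mul, hΦx, map_pow, map_pow, hΦy, h1', smul_zero, zero_add]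
    at hz
  have hz2 := congrArg TrivSqZeroExt.snd hz
  rw [TrivSqZeroExt.snd_smul, TrivSqZeroExt.snd_mul, hηpow] at hz2
  simp only [ε, DualNumber.fst_eps, DualNumber.snd_eps, TrivSqZeroExt.snd_inl, TrivSqZeroExt.fst_inl,
    smul_zero, zero_add, TrivSqZeroExt.snd_zero, MulOpposite.smul_eq_mul_unop, MulOpposite.unop_op,
    one_mul] at hz2
  rw [Algebra.smul_def] at hz2
  have hz' : (Ideal.Quotient.mk (Ideal.span {Eis.x R π 2 ^ (2 * v)}))
      (AdjoinRoot.of (Eis.f R π 2) b * Eis.x R π 2 ^ (2 * v - 1)) = 0 := by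
    rw [map_mul, map_pow]; exact hz2
  rw [Ideal.Quotient.eq_zero_iff_mem] at hz'
  have e : 2 * v = (2 * v - 1) + 1 := by omega
  rw [e] at hz'
  simp only [Nat.add_sub_cancel] at hz'
  exact mem_of_mul_pow_mem π hπ b (2 * v - 1) hz'

end Groth.Agent.Helper7.NWc
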