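import Mathlib
import Groth.Agent.Helper7.NWa
import Groth.Agent.Helper7.NWc

set_option autoImplicit false
set_option linter.style.haveILetI false
universe u

namespace Groth.Agent.Helper7.NWd

open MvPowerSeries

variable {R : Type u} [CommRing R] [IsDomain R] [IsDiscreteValuationRing R]

omit [IsDomain R] [IsDiscreteValuationRing R] in
/-- the ideal `(x, y)` of `R[[x, y]]/I` lies in the Jacobson radical. -/
lemma span_le_jacobson (I : Ideal (MvPowerSeries (Fin 2) R)) :
    Ideal.span {Ideal.Quotient.mk I (X 0), Ideal.Quotient.mk I (X 1)} ≤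
      (⊥ : Ideal (MvPowerSeries (Fin 2) R ⧸ I)).jacobson := by
  intro z hz
  obtain ⟨α, β, rfl⟩ := Ideal.mem_span_pair.mp hz
  obtain ⟨α, rfl⟩ := Ideal.Quotient.mk_surjective α
  obtain ⟨β, rfl⟩ := Ideal.Quotient.mk_surjective β
  rw [Ideal.mem_jacobson_bot]
  intro t
  obtain ⟨t, rfl⟩ := Ideal.Quotient.mk_surjective t
  have : IsUnit ((α * X 0 + β * X 1) * t + 1 : MvPowerSeries (Fin 2) R) := by
    rw [MvPowerSeries.isUnit_iff_constantCoeff]
    simp
  have h2 := this.map (Ideal.Quotient.mk I)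
  simpa using h2

theorem main (ϖ a₁ a₆ : R) (hϖ : Irreducible ϖ) (v : ℕ) (hv : 1 ≤ v) (u₁ u₆ : Rˣ)
    (ha₁ : a₁ = u₁ * ϖ ^ v) (ha₆ : a₆ = u₆ * ϖ)
    (h2 : (2 : R) ∈ IsLocalRing.maximalIdeal R ^ v)
    (x y : MvPowerSeries (Fin 2) R) (hx : x = MvPowerSeries.X 0) (hy : y = MvPowerSeries.X 1)
    (I M : Ideal (MvPowerSeries (Fin 2) R))
    (hI : I = Ideal.span {y ^ 2 + a₁ • (x * y) - x ^ 3 - algebraMap R (MvPowerSeries (Fin 2) R) a₆,
      2 * y + a₁ • x, 3 * x ^ 2 - a₁ • y})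
    (hM : M = Ideal.span {algebraMap R (MvPowerSeries (Fin 2) R) ϖ, x, y}) :
    M ^ (2 * v) ⊔ I = Ideal.span {y ^ (2 * v), x * y ^ (2 * v - 1)} ⊔ I ∧
      ∀ a b : R, a • y ^ (2 * v) + b • (x * y ^ (2 * v - 1)) ∈ M ^ (2 * v + 1) ⊔ I →
        a ∈ IsLocalRing.maximalIdeal R ∧ b ∈ IsLocalRing.maximalIdeal R := by
  have hmax : IsLocalRing.maximalIdeal R = Ideal.span {ϖ} := hϖ.maximalIdeal_eq
  obtain ⟨c, hc⟩ : ∃ c, (2 : R) = c * ϖ ^ v := by
    rw [hmax, Ideal.span_singleton_pow] at h2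
    obtain ⟨c, hc⟩ := Ideal.mem_span_singleton'.mp h2
    exact ⟨c, hc.symm⟩
  have hle : Ideal.span {(u₆ : R) * ϖ} ≤ IsLocalRing.maximalIdeal R := by
    rw [hmax, Ideal.span_singleton_le_span_singleton]
    exact Dvd.intro_left _ rfl
  subst hx hy
  constructor
  · -- generation
    have hsurj := Ideal.Quotient.mk_surjective (I := I)
    have key : ∀ K : Ideal (MvPowerSeries (Fin 2) R),
        K ⊔ I = Ideal.comap (Ideal.Quotient.mk I) (Ideal.map (Ideal.Quotient.mk I) K) := by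
      intro K
      rw [Ideal.comap_map_of_surjective _ hsurj, ← RingHom.ker_eq_comap_bot, Ideal.mk_ker]
    rw [key, key]
    congr 1
    set mk := Ideal.Quotient.mk I with hmk
    set p := mk (algebraMap R _ ϖ) with hp
    set xq := mk (X 0) with hxq
    set yq := mk (X 1) with hyq
    have hxJ : xq ∈ Ideal.span {xq, yq} := Ideal.subset_span (by simp)
    have hyJ : yq ∈ Ideal.span {xq, yq} := Ideal.subset_span (by simp)
    -- relations in the quotient
    have hf : mk ((X 1) ^ 2 + a₁ • (X 0 * X 1) - X 0 ^ 3 - algebraMap R _ a₆) = 0 := by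
      rw [hmk, Ideal.Quotient.eq_zero_iff_mem, hI]; exact Ideal.subset_span (by simp)
    have hfx : mk (3 * X 0 ^ 2 - a₁ • X 1) = 0 := by
      rw [hmk, Ideal.Quotient.eq_zero_iff_mem, hI]; exact Ideal.subset_span (by simp)
    have h1 : p ∈ Ideal.span {xq, yq} ^ 2 := by
      have e : p = mk (algebraMap R _ ((u₆⁻¹ : Rˣ) : R)) *
          (yq * yq + mk (algebraMap R _ a₁) * (xq * yq) - xq * xq * xq) := by
        have h6 : algebraMap R (MvPowerSeries (Fin 2) R) a₆ =
            algebraMap R _ (u₆ : R) * algebraMap R _ ϖ := by rw [ha₆, map_mul]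
        rw [map_sub, map_sub, map_add, Algebra.smul_def, h6] at hf
        simp only [map_mul, map_pow] at hf
        have hu : mk (algebraMap R _ ((u₆⁻¹ : Rˣ) : R)) * mk (algebraMap R _ (u₆ : R)) = 1 := by
          rw [← map_mul, ← map_mul, ← Units.val_mul]; simp
        rw [hp]
        linear_combination (-(mk (algebraMap R _ ((u₆⁻¹ : Rˣ) : R)))) * hf +
          (- mk (algebraMap R _ ϖ)) * hu
      rw [e, pow_two]
      refine Ideal.mul_mem_left _ _ (Ideal.sub_mem _ (Ideal.add_mem _ ?_ ?_) ?_)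
      · exact Ideal.mul_mem_mul hyJ hyJ
      · exact Ideal.mul_mem_left _ _ (Ideal.mul_mem_mul hxJ hyJ)
      · exact Ideal.mul_mem_right _ _ (Ideal.mul_mem_mul hxJ hxJ)
    have h3u : IsUnit (3 : R) := by
      by_contra hnu
      have h3 : (3 : R) ∈ IsLocalRing.maximalIdeal R := (IsLocalRing.mem_maximalIdeal _).mpr hnu
      have h2' : (2 : R) ∈ IsLocalRing.maximalIdeal R := Ideal.pow_le_self (by omega) h2
      have h1' : (1 : R) ∈ IsLocalRing.maximalIdeal R := by
        have := Ideal.sub_mem _ h3 h2'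
        norm_num at this
      exact (Ideal.ne_top_iff_one _).mp (IsLocalRing.maximalIdeal.isMaximal R).ne_top h1'
    obtain ⟨w₃, hw₃⟩ := h3u
    have h2x : xq ^ 2 ∈ Ideal.span {xq, yq} ^ 3 := by
      have e : xq ^ 2 = mk (algebraMap R _ ((w₃⁻¹ : Rˣ) : R)) * mk (algebraMap R _ (u₁ : R)) *
          (p ^ v * yq) := by
        rw [map_sub, Algebra.smul_def, ha₁] at hfx
        simp only [map_mul, map_pow, map_ofNat] at hfx
        have hu : mk (algebraMap R _ ((w₃⁻¹ : Rˣ) : R)) * 3 = 1 := by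
          have : (3 : MvPowerSeries (Fin 2) R ⧸ I) = mk (algebraMap R _ (w₃ : R)) := by
            rw [hw₃, map_ofNat, map_ofNat]
          rw [this, ← map_mul, ← map_mul, ← Units.val_mul]; simp
        rw [hp]
        linear_combination (mk (algebraMap R _ ((w₃⁻¹ : Rˣ) : R))) * hfx + (- xq ^ 2) * hu
      rw [e]
      refine Ideal.mul_mem_left _ _ ?_
      have hpv : p ^ v ∈ Ideal.span {xq, yq} ^ (2 * v) := by
        rw [pow_mul (Ideal.span {xq, yq}) 2 v]; exact Ideal.pow_mem_pow h1 v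
      have : p ^ v * yq ∈ Ideal.span {xq, yq} ^ (2 * v + 1) := by
        rw [pow_succ (Ideal.span {xq, yq}) (2 * v)]; exact Ideal.mul_mem_mul hpv hyJ
      exact Ideal.pow_le_pow_right (by omega) this
    have h3 := span_le_jacobson I
    have hgen := NWa.span_pow_eq p xq yq h1 h2x h3 (2 * v - 1)
    have e : 2 * v - 1 + 1 = 2 * v := by omega
    rw [e] at hgen
    rw [hM, Ideal.map_pow, Ideal.map_span, Ideal.map_span, Set.image_insert_eq,
      Set.image_insert_eq, Set.image_singleton, Set.image_insert_eq, Set.image_singleton]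
    simp only [map_mul, map_pow]
    exact hgen
  · intro a b hab
    rw [hM, hI] at hab
    exact ⟨hle (NWc.indep_a ϖ a₁ a₆ hϖ v u₁ u₆ ha₁ ha₆ c hc a b hab),
      hle (NWc.indep_b ϖ a₁ a₆ hϖ v hv u₁ u₆ ha₁ ha₆ c hc a b hab)⟩

end Groth.Agent.Helper7.NWd
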