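import Mathlib
import Groth.Agent.Helper1.FieldSmooth7

set_option linter.style.haveILetI false
set_option linter.unusedSectionVars false
set_option autoImplicit false

/-! Sections of the residue map of a local ring with nilpotent maximal ideal (char. `p`). -/

namespace Groth.Agent.Helper7.NilSec

open IsLocalRing Groth.Agent.Helper1.FieldSmooth

universe u

/-- lifting of the identity of the residue field, relative to a base field `k` -/
theorem exists_section_rel (k : Type u) [Field k] (A' : Type u) [CommRing A'] [IsLocalRing A']
    [Algebra k A'] [Algebra k (ResidueField A')] [IsScalarTower k A' (ResidueField A')]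
    [Algebra.FormallySmooth k (ResidueField A')]
    (hnil : ∃ n : ℕ, maximalIdeal A' ^ n = ⊥) :
    ∃ σ' : ResidueField A' →ₐ[k] A', ∀ x, residue A' (σ' x) = x := by
  let g : A' →ₐ[k] ResidueField A' := IsScalarTower.toAlgHom k A' (ResidueField A')
  have hg : Function.Surjective g := residue_surjective
  have hker : RingHom.ker (g : A' →+* ResidueField A') = maximalIdeal A' := by
    ext x
    rw [RingHom.mem_ker]
    change algebraMap A' (ResidueField A') x = 0 ↔ _
    rw [ResidueField.algebraMap_eq, residue_eq_zero_iff]
  have hg' : IsNilpotent (RingHom.ker (g : A' →+* ResidueField A')) := by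
    rw [hker]
    obtain ⟨n, hn⟩ := hnil
    exact ⟨n, hn⟩
  refine ⟨Algebra.FormallySmooth.liftOfSurjective (AlgHom.id k (ResidueField A')) g hg hg', ?_⟩
  intro x
  have := Algebra.FormallySmooth.liftOfSurjective_apply (AlgHom.id k (ResidueField A')) g hg hg' x
  exact this

theorem s7150 (p : ℕ) (hp : p.Prime) (A : Type u) [CommRing A]
    [IsLocalRing A] [CharP A p] (hnil : ∃ n : ℕ, IsLocalRing.maximalIdeal A ^ n = ⊥) :
    (∃ σ : IsLocalRing.ResidueField A →+* A, (IsLocalRing.residue A).comp σ = RingHom.id _) ∧
    ∀ (A' : Type u) [CommRing A'] [IsLocalRing A'] [Algebra A A'] [IsLocalHom (algebraMap A A')],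
      (∃ n : ℕ, IsLocalRing.maximalIdeal A' ^ n = ⊥) →
      Algebra.IsGeometricallyReduced (IsLocalRing.ResidueField A) (IsLocalRing.ResidueField A') →
      ∀ σ : IsLocalRing.ResidueField A →+* A, (IsLocalRing.residue A).comp σ = RingHom.id _ →
        ∃ σ' : IsLocalRing.ResidueField A' →+* A', (IsLocalRing.residue A').comp σ' = RingHom.id _ ∧
          σ'.comp (IsLocalRing.ResidueField.map (algebraMap A A')) = (algebraMap A A').comp σ := by
  haveI : Fact p.Prime := ⟨hp⟩
  constructor
  · -- absolute case, over the prime field
    let φ : PF.{u} p →+* A :=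
      (ZMod.castHom (dvd_refl p) A).comp (ULift.ringEquiv : PF.{u} p ≃+* ZMod p).toRingHom
    letI : Algebra (PF.{u} p) A := φ.toAlgebra
    letI : Algebra (PF.{u} p) (ResidueField A) := ((residue A).comp φ).toAlgebra
    haveI : IsScalarTower (PF.{u} p) A (ResidueField A) :=
      IsScalarTower.of_algebraMap_eq fun _ => rfl
    haveI : CharP (ResidueField A) p := by
      have h0 : ((p : ℕ) : ResidueField A) = 0 := by
        have : ((p : ℕ) : A) = 0 := CharP.cast_eq_zero A p
        have h2 := congrArg (residue A) this
        rwa [map_natCast, map_zero] at h2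
      exact (CharP.charP_iff_prime_eq_zero hp).2 h0
    haveI : Algebra.FormallySmooth (PF.{u} p) (ResidueField A) :=
      formallySmooth_of_perfect p (pf_perfect p)
    obtain ⟨σ, hσ⟩ := exists_section_rel (PF.{u} p) A hnil
    exact ⟨σ.toRingHom, RingHom.ext fun x => hσ x⟩
  · intro A' _ _ _ _ hnil' hgr σ hσ
    haveI : Algebra.FormallySmooth (ResidueField A) (ResidueField A') :=
      formallySmooth_iff_isGeometricallyReduced.mpr hgr
    letI : Algebra (ResidueField A) A' := ((algebraMap A A').comp σ).toAlgebra
    haveI : IsScalarTower (ResidueField A) A' (ResidueField A') := by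
      refine IsScalarTower.of_algebraMap_eq fun x => ?_
      change algebraMap (ResidueField A) (ResidueField A') x =
        algebraMap A' (ResidueField A') ((algebraMap A A') (σ x))
      have hx : residue A (σ x) = x := RingHom.congr_fun hσ x
      conv_lhs => rw [← hx]
      rfl
    obtain ⟨σ', hσ'⟩ := exists_section_rel (ResidueField A) A' hnil'
    refine ⟨σ'.toRingHom, RingHom.ext fun x => hσ' x, ?_⟩
    ext x
    obtain ⟨a, rfl⟩ := residue_surjective x
    change σ' (ResidueField.map (algebraMap A A') (residue A a)) = algebraMap A A' (σ (residue A a))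
    rw [ResidueField.map_residue]
    have := σ'.commutes (residue A a)
    rw [← IsLocalRing.ResidueField.algebraMap_residue]
    exact this

end Groth.Agent.Helper7.NilSec
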