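import Mathlib
import Groth.Prelude.Def_W4c2arithlefschetzNode

set_option autoImplicit false

namespace Groth.Agent.Helper7.Node

open IsLocalRing

variable {A : Type*} [CommRing A]

lemma fix_add (σ : A →+* A) (I₀ : Ideal A) {r s : A} (hr : σ r - r ∈ I₀) (hs : σ s - s ∈ I₀) :
    σ (r + s) - (r + s) ∈ I₀ := by
  have : σ (r + s) - (r + s) = (σ r - r) + (σ s - s) := by rw [map_add]; ring
  rw [this]; exact I₀.add_mem hr hs

lemma fix_mul (σ : A →+* A) (I₀ : Ideal A) {r s : A} (hr : σ r - r ∈ I₀) (hs : σ s - s ∈ I₀) :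
    σ (r * s) - (r * s) ∈ I₀ := by
  have : σ (r * s) - (r * s) = σ r * (σ s - s) + s * (σ r - r) := by rw [map_mul]; ring
  rw [this]; exact I₀.add_mem (I₀.mul_mem_left _ hs) (I₀.mul_mem_left _ hr)

lemma dense (σ : A →+* A) (B₀ T : Set A) (hdec : ∀ r : A, ∃ b ∈ B₀, r - b ∈ Ideal.span T)
    (I₀ : Ideal A) (hB : ∀ b ∈ B₀, σ b - b ∈ I₀) (hTI : ∀ g ∈ T, σ g - g ∈ I₀) (n : ℕ) :
    ∀ r : A, ∃ s : A, σ s - s ∈ I₀ ∧ r - s ∈ (Ideal.span T) ^ n := by
  induction n with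
  | zero => intro r; exact ⟨0, by simp, by simp⟩
  | succ n ih =>
    have key : ∀ z ∈ Ideal.span T, ∀ a : A, ∃ s : A, σ s - s ∈ I₀ ∧
        a * z - s ∈ (Ideal.span T) ^ (n + 1) := by
      intro z hz
      induction hz using Submodule.span_induction with
      | mem g hg =>
        intro a
        obtain ⟨s, hs, hsa⟩ := ih a
        refine ⟨s * g, fix_mul σ I₀ hs (hTI g hg), ?_⟩
        have : a * g - s * g = (a - s) * g := by ring
        rw [this, pow_succ]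
        exact Ideal.mul_mem_mul hsa (Ideal.subset_span hg)
      | zero => intro a; exact ⟨0, by simp, by simp⟩
      | add x y _ _ hx hy =>
        intro a
        obtain ⟨s₁, h₁, h₁'⟩ := hx a
        obtain ⟨s₂, h₂, h₂'⟩ := hy a
        refine ⟨s₁ + s₂, fix_add σ I₀ h₁ h₂, ?_⟩
        have : a * (x + y) - (s₁ + s₂) = (a * x - s₁) + (a * y - s₂) := by ring
        rw [this]; exact Ideal.add_mem _ h₁' h₂'
      | smul c x _ hx =>
        intro a
        obtain ⟨s, hs, hs'⟩ := hx (a * c)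
        exact ⟨s, hs, by rw [smul_eq_mul, ← mul_assoc]; exact hs'⟩
    intro r
    obtain ⟨b, hb, hrb⟩ := hdec r
    obtain ⟨s, hs, hs'⟩ := key _ hrb 1
    refine ⟨b + s, fix_add σ I₀ (hB b hb) hs, ?_⟩
    have : r - (b + s) = 1 * (r - b) - s := by ring
    rw [this]; exact hs'

/-- Krull closedness: in a Noetherian local ring every ideal is closed for the `m`-adic topology. -/
lemma mem_of_forall_mem_sup_pow [IsNoetherianRing A] [IsLocalRing A] (I₀ : Ideal A) (x : A)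
    (hn : ∀ n : ℕ, x ∈ I₀ ⊔ (maximalIdeal A) ^ n) : x ∈ I₀ := by
  have hk := Ideal.iInf_pow_smul_eq_bot_of_isLocalRing (R := A) (M := A ⧸ I₀) (maximalIdeal A)
    (Ideal.IsPrime.ne_top inferInstance)
  have : (Ideal.Quotient.mk I₀ x) ∈
      (⨅ i : ℕ, (maximalIdeal A) ^ i • ⊤ : Submodule A (A ⧸ I₀)) := by
    rw [Submodule.mem_iInf]
    intro n
    obtain ⟨u, hu, v, hv, huv⟩ := Submodule.mem_sup.mp (hn n)
    rw [← huv, map_add, Ideal.Quotient.eq_zero_iff_mem.mpr hu, zero_add]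
    have h1 : Ideal.Quotient.mk I₀ v = v • (Ideal.Quotient.mk I₀ 1) := by
      rw [Algebra.smul_def, map_one, mul_one]; rfl
    rw [h1]
    exact Submodule.smul_mem_smul hv Submodule.mem_top
  rw [hk] at this
  exact Ideal.Quotient.eq_zero_iff_mem.mp ((Submodule.mem_bot _).mp this)

theorem fixIdeal_le [IsNoetherianRing A] [IsLocalRing A]
    (σ : A →+* A) (hσm : ∀ x ∈ maximalIdeal A, σ x ∈ maximalIdeal A)
    (B₀ T : Set A) (hT : T ⊆ maximalIdeal A)
    (hdec : ∀ r : A, ∃ b ∈ B₀, r - b ∈ Ideal.span T)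
    (I₀ : Ideal A) (hB : ∀ b ∈ B₀, σ b - b ∈ I₀) (hTI : ∀ g ∈ T, σ g - g ∈ I₀) :
    ArLef.fixIdeal σ ≤ I₀ := by
  rw [ArLef.fixIdeal, Ideal.span_le]
  rintro _ ⟨r, rfl⟩
  show σ r - r ∈ I₀
  have hT' : Ideal.span T ≤ maximalIdeal A := Ideal.span_le.mpr hT
  apply mem_of_forall_mem_sup_pow
  intro n
  obtain ⟨s, hs, hrs⟩ := dense σ B₀ T hdec I₀ hB hTI n r
  have h1 : r - s ∈ (maximalIdeal A) ^ n := Ideal.pow_right_mono hT' n hrs
  have h2 : σ (r - s) ∈ (maximalIdeal A) ^ n := by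
    have : (maximalIdeal A) ^ n ≤ Ideal.comap σ ((maximalIdeal A) ^ n) := by
      calc (maximalIdeal A) ^ n ≤ (Ideal.comap σ (maximalIdeal A)) ^ n :=
            Ideal.pow_right_mono (fun x hx => hσm x hx) n
        _ ≤ Ideal.comap σ ((maximalIdeal A) ^ n) := Ideal.le_comap_pow σ n
    exact this h1
  have : σ r - r = (σ s - s) + (σ (r - s) - (r - s)) := by rw [map_sub]; ring
  rw [this]
  exact Ideal.add_mem _ (Ideal.mem_sup_left hs) (Ideal.mem_sup_right (Ideal.sub_mem _ h2 h1))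

/-- a ring automorphism of a local ring preserves the maximal ideal -/
lemma equiv_map_mem_maximalIdeal [IsLocalRing A] (σ : A ≃+* A) (x : A) (hx : x ∈ maximalIdeal A) :
    σ x ∈ maximalIdeal A := by
  rw [mem_maximalIdeal, mem_nonunits_iff] at hx ⊢
  intro h
  apply hx
  have := h.map σ.symm
  simpa using this

/-- the fixed ideal of a ring automorphism, computed from generators -/
theorem fixIdeal_eq [IsNoetherianRing A] [IsLocalRing A]
    (σ : A ≃+* A)
    (B₀ T : Set A) (hT : T ⊆ maximalIdeal A)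
    (hdec : ∀ r : A, ∃ b ∈ B₀, r - b ∈ Ideal.span T)
    (I₀ : Ideal A) (hB : ∀ b ∈ B₀, σ b - b ∈ I₀) (hTI : ∀ g ∈ T, σ g - g ∈ I₀) :
    ArLef.fixIdeal σ ≤ I₀ :=
  fixIdeal_le (σ : A →+* A) (fun x hx => equiv_map_mem_maximalIdeal σ x hx) B₀ T hT hdec I₀ hB hTI

lemma sub_mem_fixIdeal (σ : A → A) (r : A) : σ r - r ∈ ArLef.fixIdeal σ :=
  Ideal.subset_span ⟨r, rfl⟩

end Groth.Agent.Helper7.Node
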