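import Mathlib

set_option autoImplicit false
set_option linter.unusedSectionVars false

namespace Groth.Agent.Helper7.Node

open MvPowerSeries Finsupp

variable {ι : Type*} [DecidableEq ι] {R : Type*} [CommRing R]

/-- substitute `X i = 0` in a multivariate power series (function) -/
noncomputable def zeroAtFun (i : ι) (F : MvPowerSeries ι R) : MvPowerSeries ι R :=
  fun n => if n i = 0 then coeff n F else 0

lemma coeff_zeroAtFun (i : ι) (F : MvPowerSeries ι R) (n : ι →₀ ℕ) :
    coeff n (zeroAtFun i F) = if n i = 0 then coeff n F else 0 := rfl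

/-- substitute `X i = 0` in a multivariate power series -/
noncomputable def zeroAt (i : ι) : MvPowerSeries ι R →+* MvPowerSeries ι R where
  toFun F := zeroAtFun i F
  map_one' := by
    ext n
    rw [coeff_zeroAtFun]
    split_ifs with h
    · rfl
    · rw [coeff_one, if_neg]
      rintro rfl
      exact h rfl
  map_mul' F G := by
    ext n
    rw [coeff_zeroAtFun, coeff_mul, coeff_mul]
    split_ifs with h
    · apply Finset.sum_congr rfl
      rintro ⟨p, q⟩ hpq
      rw [Finset.HasAntidiagonal.mem_antidiagonal] at hpq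
      have h1 : p i + q i = 0 := by
        have := DFunLike.congr_fun hpq i
        rw [Finsupp.add_apply] at this
        rw [this, h]
      have hp : p i = 0 := by omega
      have hq : q i = 0 := by omega
      rw [coeff_zeroAtFun, coeff_zeroAtFun, if_pos hp, if_pos hq]
    · symm
      apply Finset.sum_eq_zero
      rintro ⟨p, q⟩ hpq
      rw [Finset.HasAntidiagonal.mem_antidiagonal] at hpq
      have h1 : p i + q i = n i := by
        have := DFunLike.congr_fun hpq i
        rw [Finsupp.add_apply] at this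
        exact this
      rw [coeff_zeroAtFun, coeff_zeroAtFun]
      by_cases hp : p i = 0
      · have hq : q i ≠ 0 := by omega
        rw [if_neg hq, mul_zero]
      · rw [if_neg hp, zero_mul]
  map_zero' := by
    ext n
    rw [coeff_zeroAtFun]
    split_ifs <;> simp
  map_add' F G := by
    ext n
    rw [map_add, coeff_zeroAtFun, coeff_zeroAtFun, coeff_zeroAtFun]
    split_ifs <;> simp

lemma coeff_zeroAt (i : ι) (F : MvPowerSeries ι R) (n : ι →₀ ℕ) :
    coeff n (zeroAt i F) = if n i = 0 then coeff n F else 0 := rfl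

lemma zeroAt_eq_zero_iff (i : ι) (F : MvPowerSeries ι R) :
    zeroAt i F = 0 ↔ (X i : MvPowerSeries ι R) ∣ F := by
  rw [X_dvd_iff]
  constructor
  · intro h m hm
    have := congrArg (coeff m) h
    rw [coeff_zeroAt, if_pos hm, map_zero] at this
    exact this
  · intro h
    ext m
    rw [coeff_zeroAt, map_zero]
    split_ifs with hm
    · exact h m hm
    · rfl

lemma X_dvd_sub_zeroAt (i : ι) (F : MvPowerSeries ι R) :
    (X i : MvPowerSeries ι R) ∣ F - zeroAt i F := by
  rw [X_dvd_iff]
  intro m hm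
  rw [map_sub, coeff_zeroAt, if_pos hm, sub_self]

lemma zeroAt_X_self (i : ι) : zeroAt i (X i : MvPowerSeries ι R) = 0 := by
  rw [zeroAt_eq_zero_iff]

lemma zeroAt_X_ne {i j : ι} (h : j ≠ i) : zeroAt i (X j : MvPowerSeries ι R) = X j := by
  ext n
  rw [coeff_zeroAt, coeff_X]
  split_ifs with h1 h2 h2
  · rfl
  · rfl
  · exfalso
    apply h1
    rw [h2, Finsupp.single_apply, if_neg h]
  · rfl

lemma zeroAt_C (i : ι) (a : R) : zeroAt i (C a : MvPowerSeries ι R) = C a := by
  ext n
  rw [coeff_zeroAt, coeff_C]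
  split_ifs with h1 h2 h2
  · rfl
  · rfl
  · exfalso
    apply h1
    rw [h2]; rfl
  · rfl

/-- constant term as iterated substitution, two variables -/
lemma zeroAt_zeroAt_fin2 (F : MvPowerSeries (Fin 2) R) :
    zeroAt 1 (zeroAt 0 F) = C (constantCoeff F) := by
  ext n
  rw [coeff_zeroAt, coeff_zeroAt, coeff_C]
  by_cases hn : n = 0
  · subst hn
    simp
  · rw [if_neg hn]
    have : ¬ (n 0 = 0 ∧ n 1 = 0) := by
      rintro ⟨h0, h1⟩
      apply hn
      ext k
      fin_cases k
      · exact h0
      · exact h1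
    split_ifs with h1 h0
    · exact absurd ⟨h0, h1⟩ this
    · rfl
    · rfl

/-- decomposition `F = C (F 0) + X 0 * F₁ + X 1 * G₁` -/
lemma exists_decomp_fin2 (F : MvPowerSeries (Fin 2) R) :
    ∃ F₁ G₁ : MvPowerSeries (Fin 2) R, F = C (constantCoeff F) + X 0 * F₁ + X 1 * G₁ := by
  obtain ⟨F₁, h1⟩ := X_dvd_sub_zeroAt (0 : Fin 2) F
  obtain ⟨G₁, h2⟩ := X_dvd_sub_zeroAt (1 : Fin 2) (zeroAt 0 F)
  refine ⟨F₁, G₁, ?_⟩
  rw [zeroAt_zeroAt_fin2] at h2
  rw [← h1, ← h2]; ring

/-- kernel of coefficientwise reduction -/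
lemma map_eq_zero_iff {S : Type*} [CommRing S] (f : R →+* S) (π : R)
    (hker : ∀ a : R, f a = 0 → π ∣ a) (F : MvPowerSeries ι R) (hF : MvPowerSeries.map f F = 0) :
    (C π : MvPowerSeries ι R) ∣ F := by
  have h1 : ∀ n, ∃ c : R, coeff n F = π * c := by
    intro n
    have := congrArg (coeff n) hF
    rw [coeff_map, map_zero] at this
    exact hker _ this
  choose c hc using h1
  refine ⟨fun n => c n, ?_⟩
  ext n
  rw [coeff_C_mul, hc]
  rfl

end Groth.Agent.Helper7.Node
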