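import Mathlib
import Groth.Agent.Helper7.LenAdd

set_option autoImplicit false

namespace Groth.Agent.Helper7.Node

variable {A : Type*} [CommRing A]

lemma span_pair_eq_sup (a b : A) : Ideal.span ({a, b} : Set A) = Ideal.span {a} ⊔ Ideal.span {b} := by
  rw [← Ideal.span_union]; rfl

/-- `len(A/(ac, b)) = len(A/(a,b)) + len(A/(c,b))` when `a` is regular on `A/(b)`. -/
theorem len_mul (a b c : A) (ha : IsSMulRegular (A ⧸ Ideal.span ({b} : Set A)) a) :
    Module.length A (A ⧸ Ideal.span ({a * c, b} : Set A)) =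
      Module.length A (A ⧸ Ideal.span ({a, b} : Set A)) +
        Module.length A (A ⧸ Ideal.span ({c, b} : Set A)) := by
  have h := Groth.Agent.Helper7.LenAdd.main A a b (Ideal.span {c}) ha
  rw [Ideal.span_singleton_mul_span_singleton, ← span_pair_eq_sup, ← span_pair_eq_sup] at h
  exact h

/-- `len(A/(a^n, b)) = n * len(A/(a,b))` when `a` is regular on `A/(b)`. -/
theorem len_pow (a b : A) (ha : IsSMulRegular (A ⧸ Ideal.span ({b} : Set A)) a) (n : ℕ) :
    Module.length A (A ⧸ Ideal.span ({a ^ n, b} : Set A)) =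
      (n : ℕ∞) * Module.length A (A ⧸ Ideal.span ({a, b} : Set A)) := by
  induction n with
  | zero =>
    have : Ideal.span ({a ^ 0, b} : Set A) = ⊤ := by
      rw [pow_zero]; exact Ideal.eq_top_of_isUnit_mem _ (Ideal.subset_span (by simp)) isUnit_one
    rw [this]
    have : Subsingleton (A ⧸ (⊤ : Ideal A)) := Ideal.Quotient.subsingleton_iff.mpr rfl
    rw [Module.length_eq_zero]; simp
  | succ n ih =>
    rw [pow_succ', len_mul a b (a ^ n) ha, ih, Nat.cast_succ, add_mul, one_mul, add_comm]

/-- In a domain, a prime element not dividing `b` is regular on `A/(b)`. -/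
theorem regular_of_prime [IsDomain A] {p b : A} (hp : Prime p) (hpb : ¬ p ∣ b) :
    IsSMulRegular (A ⧸ Ideal.span ({b} : Set A)) p := by
  intro x y hxy
  obtain ⟨x, rfl⟩ := Ideal.Quotient.mk_surjective x
  obtain ⟨y, rfl⟩ := Ideal.Quotient.mk_surjective y
  have h1 : Ideal.Quotient.mk (Ideal.span ({b} : Set A)) (p * x) =
      Ideal.Quotient.mk (Ideal.span ({b} : Set A)) (p * y) := by
    simpa [Algebra.smul_def] using hxy
  rw [Ideal.Quotient.eq, Ideal.mem_span_singleton] at h1 ⊢
  obtain ⟨s, hs⟩ := h1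
  have h2 : p ∣ b * s := ⟨x - y, by rw [← hs]; ring⟩
  rcases hp.dvd_or_dvd h2 with h | ⟨s', rfl⟩
  · exact absurd h hpb
  · refine ⟨s', ?_⟩
    have hp0 : p ≠ 0 := hp.ne_zero
    have : p * (x - y) = p * (b * s') := by rw [← mul_sub] at hs; rw [hs]; ring
    exact mul_left_cancel₀ hp0 this

/-- regularity of a product of regular elements -/
theorem regular_mul {M : Type*} [AddCommGroup M] [Module A M] {a c : A}
    (ha : IsSMulRegular M a) (hc : IsSMulRegular M c) : IsSMulRegular M (a * c) :=
  IsSMulRegular.mul ha hc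

theorem regular_pow {M : Type*} [AddCommGroup M] [Module A M] {a : A}
    (ha : IsSMulRegular M a) (n : ℕ) : IsSMulRegular M (a ^ n) :=
  IsSMulRegular.pow n ha

theorem len_eq_of_span_eq {I J : Ideal A} (h : I = J) :
    Module.length A (A ⧸ I) = Module.length A (A ⧸ J) := by rw [h]

/-- `len(A/𝔪) = 1` for a maximal ideal. -/
theorem len_quot_maximal (I : Ideal A) [hI : I.IsMaximal] : Module.length A (A ⧸ I) = 1 := by
  rw [Module.length_eq_one_iff]
  exact isSimpleModule_iff_isCoatom.mpr hI.out

end Groth.Agent.Helper7.Node
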