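import Mathlib
import Groth.Prelude.Def_W4c2arithlefschetzNode
import Groth.Agent.Helper7.Node0
import Groth.Agent.Helper7.Node1
import Groth.Agent.Helper7.NodeLen

set_option autoImplicit false
set_option linter.unusedSectionVars false
set_option linter.style.haveILetI false

namespace Groth.Agent.Helper7.Node

open MvPowerSeries IsLocalRing ArLef

universe u

/-- A Noetherian local ring with a regular prime element in the maximal ideal is a domain. -/
theorem isDomain_of_prime_regular {A : Type*} [CommRing A] [IsNoetherianRing A] [IsLocalRing A]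
    (t : A) (hprime : (Ideal.span {t}).IsPrime)
    (hreg : ∀ a, t * a = 0 → a = 0) : IsDomain A := by
  have hkrull : ⨅ n : ℕ, (Ideal.span {t}) ^ n = ⊥ :=
    Ideal.iInf_pow_eq_bot_of_isLocalRing _ hprime.ne_top
  have hregpow : ∀ n a, t ^ n * a = 0 → a = 0 := by
    intro n
    induction n with
    | zero => intro a h; simpa using h
    | succ n ih =>
      intro a h
      apply ih
      apply hreg
      rw [← mul_assoc, ← pow_succ']
      exact h
  have hfac : ∀ a : A, a ≠ 0 → ∃ n a₀, a = t ^ n * a₀ ∧ ¬ t ∣ a₀ := by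
    intro a ha
    have hex : ∃ n, a ∉ (Ideal.span {t}) ^ n := by
      by_contra hcon
      push Not at hcon
      apply ha
      have : a ∈ ⨅ n : ℕ, (Ideal.span {t}) ^ n := by
        rw [Submodule.mem_iInf]; exact hcon
      rw [hkrull] at this
      exact this
    classical
    have hn : a ∉ (Ideal.span {t}) ^ (Nat.find hex) := Nat.find_spec hex
    have hn0 : Nat.find hex ≠ 0 := by
      intro h
      rw [h, pow_zero, Ideal.one_eq_top] at hn
      exact hn trivial
    obtain ⟨m, hm⟩ : ∃ m, Nat.find hex = m + 1 := ⟨Nat.find hex - 1, by omega⟩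
    have hm' : a ∈ (Ideal.span {t}) ^ m := by
      by_contra hcon
      have := Nat.find_min' hex hcon
      omega
    rw [Ideal.span_singleton_pow, Ideal.mem_span_singleton] at hm'
    obtain ⟨a₀, rfl⟩ := hm'
    refine ⟨m, a₀, rfl, ?_⟩
    rintro ⟨c, rfl⟩
    apply hn
    rw [hm, Ideal.span_singleton_pow, Ideal.mem_span_singleton]
    exact ⟨c, by ring⟩
  haveI : NoZeroDivisors A := ⟨by
    intro a b hab
    by_contra hcon
    push Not at hcon
    obtain ⟨n, a₀, rfl, ha₀⟩ := hfac a hcon.1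
    obtain ⟨m, b₀, rfl, hb₀⟩ := hfac b hcon.2
    have h1 : t ^ (n + m) * (a₀ * b₀) = 0 := by rw [← hab, pow_add]; ring
    have h2 : a₀ * b₀ = 0 := hregpow _ _ h1
    have h3 : a₀ * b₀ ∈ Ideal.span {t} := by rw [h2]; exact Ideal.zero_mem _
    rcases hprime.mem_or_mem h3 with h | h
    · exact ha₀ (Ideal.mem_span_singleton.mp h)
    · exact hb₀ (Ideal.mem_span_singleton.mp h)⟩
  exact NoZeroDivisors.to_isDomain A

section

variable {B : Type u} [CommRing B] [IsDomain B] [IsDiscreteValuationRing B] (π : B)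

/-- the defining relation -/
noncomputable abbrev DD : MvPowerSeries (Fin 2) B := X 0 * X 1 - C π

noncomputable abbrev mkN : MvPowerSeries (Fin 2) B →+* NodeAlg B π := Ideal.Quotient.mk _

/-- variable classes: `v 0 = t`, `v 1 = e` -/
noncomputable abbrev v (i : Fin 2) : NodeAlg B π := mkN π (X i)

lemma v_zero : v π 0 = NodeAlg.t π := rfl
lemma v_one : v π 1 = NodeAlg.e π := rfl

lemma algebraMap_eq (b : B) : algebraMap B (NodeAlg B π) b = mkN π (C b) := rfl

lemma te_eq : NodeAlg.t π * NodeAlg.e π = algebraMap B (NodeAlg B π) π := by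
  rw [algebraMap_eq, ← map_mul, Ideal.Quotient.eq]
  exact Ideal.mem_span_singleton_self _

lemma mk_C_pi : mkN π (C π) = v π 0 * v π 1 := (te_eq π).symm

/-- reduction: set `X i = 0` and reduce coefficients modulo the maximal ideal -/
noncomputable def Psi (i : Fin 2) :
    MvPowerSeries (Fin 2) B →+* MvPowerSeries (Fin 2) (ResidueField B) :=
  (MvPowerSeries.map (residue B)).comp (zeroAt i)

lemma Psi_X_self (i : Fin 2) : Psi (B := B) i (X i) = 0 := by
  rw [Psi, RingHom.comp_apply, zeroAt_X_self, map_zero]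

lemma Psi_X_ne {i j : Fin 2} (h : j ≠ i) : Psi (B := B) i (X j) = X j := by
  rw [Psi, RingHom.comp_apply, zeroAt_X_ne h, map_X]

variable {π}

lemma residue_pi (hπ : Irreducible π) : residue B π = 0 := by
  rw [residue_eq_zero_iff, hπ.maximalIdeal_eq]
  exact Ideal.mem_span_singleton_self π

lemma Psi_C_pi (hπ : Irreducible π) (i : Fin 2) : Psi i (C π : MvPowerSeries (Fin 2) B) = 0 := by
  rw [Psi, RingHom.comp_apply, zeroAt_C, map_C, residue_pi hπ, map_zero]

lemma Psi_DD (hπ : Irreducible π) (i : Fin 2) : Psi i (DD π) = 0 := by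
  rw [map_sub, map_mul, Psi_C_pi hπ, sub_zero]
  fin_cases i
  · show Psi 0 (X 0) * _ = 0
    rw [Psi_X_self, zero_mul]
  · show _ * Psi 1 (X 1) = 0
    rw [Psi_X_self, mul_zero]

lemma Psi_eq_zero (hπ : Irreducible π) (i : Fin 2) (F : MvPowerSeries (Fin 2) B)
    (hF : Psi i F = 0) : ∃ a b : MvPowerSeries (Fin 2) B, F = X i * a + C π * b := by
  have h1 : (C π : MvPowerSeries (Fin 2) B) ∣ zeroAt i F :=
    map_eq_zero_iff (residue B) π (fun a ha => by
      rw [residue_eq_zero_iff, hπ.maximalIdeal_eq, Ideal.mem_span_singleton] at ha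
      exact ha) _ hF
  obtain ⟨b, hb⟩ := h1
  obtain ⟨a, ha⟩ := X_dvd_sub_zeroAt i F
  exact ⟨a, b, by rw [← ha, ← hb]; ring⟩

/-- induced reduction on the node algebra -/
noncomputable def psi (hπ : Irreducible π) (i : Fin 2) :
    NodeAlg B π →+* MvPowerSeries (Fin 2) (ResidueField B) :=
  Ideal.Quotient.lift _ (Psi i) (by
    intro x hx
    obtain ⟨c, rfl⟩ := Ideal.mem_span_singleton'.mp hx
    rw [map_mul, Psi_DD hπ, mul_zero])

lemma psi_mk (hπ : Irreducible π) (i : Fin 2) (F : MvPowerSeries (Fin 2) B) :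
    psi hπ i (mkN π F) = Psi i F := rfl

lemma psi_v_self (hπ : Irreducible π) (i : Fin 2) : psi hπ i (v π i) = 0 := by
  rw [psi_mk, Psi_X_self]

lemma psi_v_ne (hπ : Irreducible π) {i j : Fin 2} (h : j ≠ i) : psi hπ i (v π j) = X j := by
  rw [psi_mk, Psi_X_ne h]

lemma psi_eq_zero (hπ : Irreducible π) (i : Fin 2) (r : NodeAlg B π) (hr : psi hπ i r = 0) :
    v π i ∣ r := by
  obtain ⟨F, rfl⟩ := Ideal.Quotient.mk_surjective r
  obtain ⟨a, b, rfl⟩ := Psi_eq_zero hπ i F hr
  have h : mkN π (X i * a + C π * b) = v π i * mkN π a + (v π 0 * v π 1) * mkN π b := by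
    rw [map_add, map_mul, map_mul, mk_C_pi]
  change v π i ∣ mkN π (X i * a + C π * b)
  rw [h]
  fin_cases i
  · exact ⟨mkN π a + v π 1 * mkN π b, by simp only [Fin.zero_eta]; ring⟩
  · exact ⟨mkN π a + v π 0 * mkN π b, by simp only [Fin.mk_one]; ring⟩

lemma X_ne_zero' {S : Type*} [CommRing S] [Nontrivial S] (i : Fin 2) :
    (X i : MvPowerSeries (Fin 2) S) ≠ 0 := by
  intro h
  have := congrArg (coeff (Finsupp.single i 1)) h
  rw [coeff_index_single_self_X, map_zero] at this
  exact one_ne_zero this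

lemma exists_ne (i : Fin 2) : ∃ j : Fin 2, j ≠ i := by
  fin_cases i
  · exact ⟨1, by decide⟩
  · exact ⟨0, by decide⟩

lemma v_ne_zero (hπ : Irreducible π) (i : Fin 2) : v π i ≠ 0 := by
  obtain ⟨j, hj⟩ := exists_ne i
  intro h
  have := congrArg (psi hπ j) h
  rw [psi_v_ne hπ hj.symm, map_zero] at this
  exact X_ne_zero' i this

lemma span_v_eq_ker (hπ : Irreducible π) (i : Fin 2) :
    Ideal.span {v π i} = RingHom.ker (psi hπ i) := by
  ext r
  rw [Ideal.mem_span_singleton, RingHom.mem_ker]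
  constructor
  · rintro ⟨s, rfl⟩
    rw [map_mul, psi_v_self, zero_mul]
  · exact psi_eq_zero hπ i r

lemma span_v_isPrime (hπ : Irreducible π) (i : Fin 2) : (Ideal.span {v π i}).IsPrime := by
  rw [span_v_eq_ker hπ i]
  haveI : IsDomain (MvPowerSeries (Fin 2) (ResidueField B)) := NoZeroDivisors.to_isDomain _
  exact RingHom.ker_isPrime _

lemma v_prime (hπ : Irreducible π) (i : Fin 2) : Prime (v π i) := by
  rw [← Ideal.span_singleton_prime (v_ne_zero hπ i)]
  exact span_v_isPrime hπ i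

lemma v_not_dvd (hπ : Irreducible π) {i j : Fin 2} (h : j ≠ i) : ¬ v π i ∣ v π j := by
  rintro ⟨s, hs⟩
  have := congrArg (psi hπ i) hs
  rw [psi_v_ne hπ h, map_mul, psi_v_self, zero_mul] at this
  exact X_ne_zero' j this

lemma C_pi_ne_zero (hπ : Irreducible π) : (C π : MvPowerSeries (Fin 2) B) ≠ 0 := by
  intro h
  have := congrArg constantCoeff h
  rw [constantCoeff_C, map_zero] at this
  exact hπ.ne_zero this

lemma zeroAt_DD (i : Fin 2) : zeroAt i (DD π) = - C π := by
  rw [map_sub, map_mul, zeroAt_C]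
  fin_cases i
  · show zeroAt 0 (X 0) * _ - _ = _
    rw [zeroAt_X_self, zero_mul, zero_sub]
  · show _ * zeroAt 1 (X 1) - _ = _
    rw [zeroAt_X_self, mul_zero, zero_sub]

lemma v_regular (hπ : Irreducible π) (i : Fin 2) (r : NodeAlg B π) (h : v π i * r = 0) :
    r = 0 := by
  obtain ⟨F, rfl⟩ := Ideal.Quotient.mk_surjective r
  change mkN π (X i) * mkN π F = 0 at h
  rw [← map_mul, Ideal.Quotient.eq_zero_iff_mem, Ideal.mem_span_singleton'] at h
  obtain ⟨G, hG⟩ := h
  have h1 := congrArg (zeroAt i) hG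
  rw [map_mul, map_mul, zeroAt_X_self, zero_mul, zeroAt_DD, mul_neg, neg_eq_zero] at h1
  have h2 : zeroAt i G = 0 := (mul_eq_zero.mp h1).resolve_right (C_pi_ne_zero hπ)
  obtain ⟨G₁, rfl⟩ := (zeroAt_eq_zero_iff i G).mp h2
  have : F = G₁ * DD π := mul_left_cancel₀ (X_ne_zero' (S := B) i) (by rw [← hG]; ring)
  rw [Ideal.Quotient.eq_zero_iff_mem, Ideal.mem_span_singleton']
  exact ⟨G₁, this.symm⟩

instance node_nontrivial [hπ : Fact (Irreducible π)] : Nontrivial (NodeAlg B π) :=
  (psi hπ.out 0).domain_nontrivial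

instance node_isLocalRing [hπ : Fact (Irreducible π)] : IsLocalRing (NodeAlg B π) :=
  IsLocalRing.of_surjective' (mkN π) Ideal.Quotient.mk_surjective

instance node_isDomain [hπ : Fact (Irreducible π)] : IsDomain (NodeAlg B π) :=
  isDomain_of_prime_regular (v π 0) (span_v_isPrime hπ.out 0) (v_regular hπ.out 0)

variable (π)

lemma node_dec (r : NodeAlg B π) : ∃ b ∈ Set.range (algebraMap B (NodeAlg B π)),
    r - b ∈ Ideal.span ({NodeAlg.t π, NodeAlg.e π} : Set (NodeAlg B π)) := by
  obtain ⟨F, rfl⟩ := Ideal.Quotient.mk_surjective r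
  obtain ⟨F₁, G₁, hF⟩ := exists_decomp_fin2 F
  refine ⟨algebraMap B _ (constantCoeff F), ⟨_, rfl⟩, ?_⟩
  have : mkN π F - algebraMap B _ (constantCoeff F) =
      NodeAlg.t π * mkN π F₁ + NodeAlg.e π * mkN π G₁ := by
    rw [algebraMap_eq]
    nth_rewrite 1 [hF]
    rw [map_add, map_add, map_mul, map_mul]
    ring
  change mkN π F - _ ∈ _
  rw [this]
  exact Ideal.add_mem _ (Ideal.mul_mem_right _ _ (Ideal.subset_span (by simp)))
    (Ideal.mul_mem_right _ _ (Ideal.subset_span (by simp)))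

variable {π}

lemma v_mem_maximalIdeal [hπ : Fact (Irreducible π)] (i : Fin 2) :
    v π i ∈ maximalIdeal (NodeAlg B π) := (v_prime hπ.out i).not_isUnit

lemma te_subset_maximalIdeal [hπ : Fact (Irreducible π)] :
    ({NodeAlg.t π, NodeAlg.e π} : Set (NodeAlg B π)) ⊆ maximalIdeal (NodeAlg B π) := by
  rintro _ (rfl | rfl)
  · exact v_mem_maximalIdeal 0
  · exact v_mem_maximalIdeal 1

lemma maximalIdeal_eq [hπ : Fact (Irreducible π)] :
    maximalIdeal (NodeAlg B π) = Ideal.span ({NodeAlg.t π, NodeAlg.e π} : Set (NodeAlg B π)) := by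
  apply le_antisymm
  · intro r hr
    obtain ⟨_, ⟨b, rfl⟩, hb⟩ := node_dec π r
    have h1 : algebraMap B (NodeAlg B π) b ∈ maximalIdeal (NodeAlg B π) := by
      have : algebraMap B (NodeAlg B π) b = r - (r - algebraMap B (NodeAlg B π) b) := by ring
      rw [this]
      exact Ideal.sub_mem _ hr (Ideal.span_le.mpr te_subset_maximalIdeal hb)
    have h2 : ¬ IsUnit b := fun h => h1 (h.map (algebraMap B (NodeAlg B π)))
    have h3 : b ∈ maximalIdeal B := h2
    rw [hπ.out.maximalIdeal_eq, Ideal.mem_span_singleton] at h3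
    obtain ⟨c, rfl⟩ := h3
    have : r = (r - algebraMap B (NodeAlg B π) (π * c)) +
        NodeAlg.t π * (NodeAlg.e π * algebraMap B (NodeAlg B π) c) := by
      rw [map_mul, ← te_eq]; ring
    rw [this]
    exact Ideal.add_mem _ hb (Ideal.mul_mem_right _ _ (Ideal.subset_span (by simp)))
  · exact Ideal.span_le.mpr te_subset_maximalIdeal

lemma len_te [hπ : Fact (Irreducible π)] :
    Module.length (NodeAlg B π) (NodeAlg B π ⧸
      Ideal.span ({NodeAlg.t π, NodeAlg.e π} : Set (NodeAlg B π))) = 1 := by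
  rw [← maximalIdeal_eq]
  exact len_quot_maximal _

/-- The fixed-point ideal of an automorphism of the node algebra is generated by the
differences on `B`, `t`, `e`. -/
theorem node_fixIdeal_le [hπ : Fact (Irreducible π)] (σ : NodeAlg B π ≃+* NodeAlg B π)
    (I₀ : Ideal (NodeAlg B π))
    (hB : ∀ b : B, σ (algebraMap B (NodeAlg B π) b) - algebraMap B (NodeAlg B π) b ∈ I₀)
    (ht : σ (NodeAlg.t π) - NodeAlg.t π ∈ I₀) (he : σ (NodeAlg.e π) - NodeAlg.e π ∈ I₀) :
    fixIdeal σ ≤ I₀ := by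
  apply fixIdeal_eq σ (Set.range (algebraMap B (NodeAlg B π)))
    ({NodeAlg.t π, NodeAlg.e π} : Set (NodeAlg B π)) te_subset_maximalIdeal (node_dec π) I₀
  · rintro _ ⟨b, rfl⟩
    exact hB b
  · rintro _ (rfl | rfl)
    · exact ht
    · exact he

end

end Groth.Agent.Helper7.Node
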