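import Mathlib
import Groth.Agent.Helper7.Node2

set_option autoImplicit false
set_option linter.unusedSectionVars false
set_option linter.style.haveILetI false

namespace Groth.Agent.Helper7.Node

open MvPowerSeries IsLocalRing ArLef

universe u

/-- from `Associated x y` get a unit `α` with `x = α * y` -/
lemma exists_unit_of_associated {A : Type*} [CommMonoid A] {x y : A} (h : Associated x y) :
    ∃ α : Aˣ, x = (α : A) * y := by
  obtain ⟨u, hu⟩ := h
  refine ⟨u⁻¹, ?_⟩
  rw [← hu, mul_comm, mul_assoc, Units.mul_inv, mul_one]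

/-- abstract form of "stabilizes or switches" -/
lemma stab_or_switch {A : Type*} [CommRing A] [IsDomain A] (t e : A) (ht : Prime t) (he : Prime e)
    (σ : A ≃+* A) (u : Aˣ) (hu : σ t * σ e * u = t * e) :
    (∃ α β : Aˣ, σ t = (α : A) * t ∧ σ e = (β : A) * e) ∨
      (∃ α β : Aˣ, σ t = (α : A) * e ∧ σ e = (β : A) * t) := by
  have hσtp : Prime (σ t) := (MulEquiv.prime_iff σ).mpr ht
  have hdvd : σ t ∣ t * e := ⟨σ e * u, by rw [← hu]; ring⟩
  rcases hσtp.dvd_or_dvd hdvd with h | h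
  · left
    obtain ⟨w, hw⟩ := h
    have hwu : IsUnit w := (ht.irreducible.isUnit_or_isUnit hw).resolve_left hσtp.not_isUnit
    obtain ⟨w, rfl⟩ := hwu
    have h1 : σ t = (↑w⁻¹ : A) * t := by
      rw [Units.eq_inv_mul_iff_mul_eq, mul_comm]; exact hw.symm
    have h2 : t * ((↑w⁻¹ : A) * σ e * u) = t * e := by
      rw [← hu, h1]; ring
    have h3 := mul_left_cancel₀ ht.ne_zero h2
    have h4 : ((w⁻¹ * u : Aˣ) : A) * σ e = e := by
      rw [Units.val_mul]; linear_combination h3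
    exact ⟨w⁻¹, (w⁻¹ * u)⁻¹, h1, (Units.eq_inv_mul_iff_mul_eq _).mpr h4⟩
  · right
    obtain ⟨w, hw⟩ := h
    have hwu : IsUnit w := (he.irreducible.isUnit_or_isUnit hw).resolve_left hσtp.not_isUnit
    obtain ⟨w, rfl⟩ := hwu
    have h1 : σ t = (↑w⁻¹ : A) * e := by
      rw [Units.eq_inv_mul_iff_mul_eq, mul_comm]; exact hw.symm
    have h2 : e * ((↑w⁻¹ : A) * σ e * u) = e * t := by
      rw [mul_comm e t, ← hu, h1]; ring
    have h3 := mul_left_cancel₀ he.ne_zero h2
    have h4 : ((w⁻¹ * u : Aˣ) : A) * σ e = t := by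
      rw [Units.val_mul]; linear_combination h3
    exact ⟨w⁻¹, (w⁻¹ * u)⁻¹, h1, (Units.eq_inv_mul_iff_mul_eq _).mpr h4⟩

variable {B : Type u} [CommRing B] [IsDomain B] [IsDiscreteValuationRing B] {π : B}

lemma t_prime (hπ : Irreducible π) : Prime (NodeAlg.t π) := v_prime hπ 0
lemma e_prime (hπ : Irreducible π) : Prime (NodeAlg.e π) := v_prime hπ 1
lemma t_not_dvd_e (hπ : Irreducible π) : ¬ NodeAlg.t π ∣ NodeAlg.e π :=
  v_not_dvd hπ (i := 0) (j := 1) (by decide)
lemma e_not_dvd_t (hπ : Irreducible π) : ¬ NodeAlg.e π ∣ NodeAlg.t π :=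
  v_not_dvd hπ (i := 1) (j := 0) (by decide)

lemma P_ne_zero (hπ : Irreducible π) : NodeAlg.t π * NodeAlg.e π ≠ 0 := by
  haveI : Fact (Irreducible π) := ⟨hπ⟩
  exact mul_ne_zero (t_prime hπ).ne_zero (e_prime hπ).ne_zero

theorem main_15316 (hπ : Irreducible π)
    (σ : ArLef.NodeAlg B π ≃+* ArLef.NodeAlg B π)
    (hσ : Associated (σ (algebraMap B (ArLef.NodeAlg B π) π)) (algebraMap B (ArLef.NodeAlg B π) π)) :
    (∃ α β : (ArLef.NodeAlg B π)ˣ, σ (ArLef.NodeAlg.t π) = (α : ArLef.NodeAlg B π) * ArLef.NodeAlg.t π ∧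
        σ (ArLef.NodeAlg.e π) = (β : ArLef.NodeAlg B π) * ArLef.NodeAlg.e π) ∨
      (∃ α β : (ArLef.NodeAlg B π)ˣ, σ (ArLef.NodeAlg.t π) = (α : ArLef.NodeAlg B π) * ArLef.NodeAlg.e π ∧
        σ (ArLef.NodeAlg.e π) = (β : ArLef.NodeAlg B π) * ArLef.NodeAlg.t π) := by
  haveI : Fact (Irreducible π) := ⟨hπ⟩
  obtain ⟨u, hu⟩ := hσ
  rw [← te_eq π, map_mul] at hu
  exact stab_or_switch _ _ (t_prime hπ) (e_prime hπ) σ u hu

/-- abstract computation for an automorphism fixing the branches with `αβ = 1` -/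
lemma span_stab {A : Type*} [CommRing A] (t e α β : A) (hαβ : α * β = 1) :
    Ideal.span ({(α - 1) * t, (β - 1) * e} : Set A) =
      Ideal.span {α - 1} * Ideal.span ({t, e} : Set A) := by
  apply le_antisymm
  · rw [Ideal.span_le]
    rintro x (rfl | rfl)
    · exact Ideal.mul_mem_mul (Ideal.mem_span_singleton_self _) (Ideal.subset_span (by simp))
    · have : (β - 1) * e = (α - 1) * (-β * e) := by linear_combination e * hαβ
      rw [this]
      exact Ideal.mul_mem_mul (Ideal.mem_span_singleton_self _)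
        (Ideal.mul_mem_left _ _ (Ideal.subset_span (by simp)))
  · rw [Ideal.mul_le]
    intro r hr s hs
    obtain ⟨c, rfl⟩ := Ideal.mem_span_singleton'.mp hr
    obtain ⟨a, b, rfl⟩ := Ideal.mem_span_pair.mp hs
    have : c * (α - 1) * (a * t + b * e) =
        (c * a) * ((α - 1) * t) + (c * b * (-α)) * ((β - 1) * e) := by
      linear_combination (c * b * e) * hαβ
    rw [this]
    exact Ideal.add_mem _ (Ideal.mul_mem_left _ _ (Ideal.subset_span (by simp)))
      (Ideal.mul_mem_left _ _ (Ideal.subset_span (by simp)))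

theorem main_15317 (hπ : Irreducible π)
    (σ : ArLef.NodeAlg B π ≃ₐ[B] ArLef.NodeAlg B π) (hσ : σ ≠ AlgEquiv.refl)
    (ht : Associated (σ (ArLef.NodeAlg.t π)) (ArLef.NodeAlg.t π))
    (he : Associated (σ (ArLef.NodeAlg.e π)) (ArLef.NodeAlg.e π)) :
    ∃ g : ArLef.NodeAlg B π, g ≠ 0 ∧
      ArLef.fixIdeal σ = Ideal.span {g} * Ideal.span ({ArLef.NodeAlg.t π, ArLef.NodeAlg.e π} :
        Set (ArLef.NodeAlg B π)) := by
  haveI : Fact (Irreducible π) := ⟨hπ⟩
  obtain ⟨α, hα⟩ := exists_unit_of_associated ht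
  obtain ⟨β, hβ⟩ := exists_unit_of_associated he
  have hP : σ (NodeAlg.t π * NodeAlg.e π) = NodeAlg.t π * NodeAlg.e π := by
    rw [te_eq π, AlgEquiv.commutes]
  have hαβ : (α : NodeAlg B π) * β = 1 := by
    rw [map_mul, hα, hβ] at hP
    have : (NodeAlg.t π * NodeAlg.e π) * ((α : NodeAlg B π) * β) =
        (NodeAlg.t π * NodeAlg.e π) * 1 := by linear_combination hP
    exact mul_left_cancel₀ (P_ne_zero hπ) this
  have hfix : fixIdeal σ = Ideal.span ({((α : NodeAlg B π) - 1) * NodeAlg.t π,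
      ((β : NodeAlg B π) - 1) * NodeAlg.e π} : Set (NodeAlg B π)) := by
    apply le_antisymm
    · apply node_fixIdeal_le (σ : NodeAlg B π ≃+* NodeAlg B π)
      · intro b
        rw [AlgEquiv.coe_ringEquiv, AlgEquiv.commutes, sub_self]
        exact Ideal.zero_mem _
      · rw [AlgEquiv.coe_ringEquiv, hα]
        have : (α : NodeAlg B π) * NodeAlg.t π - NodeAlg.t π =
            ((α : NodeAlg B π) - 1) * NodeAlg.t π := by ring
        rw [this]; exact Ideal.subset_span (by simp)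
      · rw [AlgEquiv.coe_ringEquiv, hβ]
        have : (β : NodeAlg B π) * NodeAlg.e π - NodeAlg.e π =
            ((β : NodeAlg B π) - 1) * NodeAlg.e π := by ring
        rw [this]; exact Ideal.subset_span (by simp)
    · rw [Ideal.span_le]
      rintro x (rfl | rfl)
      · have : ((α : NodeAlg B π) - 1) * NodeAlg.t π = σ (NodeAlg.t π) - NodeAlg.t π := by
          rw [hα]; ring
        rw [this]; exact sub_mem_fixIdeal _ _
      · have : ((β : NodeAlg B π) - 1) * NodeAlg.e π = σ (NodeAlg.e π) - NodeAlg.e π := by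
          rw [hβ]; ring
        rw [this]; exact sub_mem_fixIdeal _ _
  refine ⟨(α : NodeAlg B π) - 1, ?_, ?_⟩
  · intro h0
    have hα1 : (α : NodeAlg B π) = 1 := by rw [← sub_eq_zero]; exact h0
    have hβ1 : (β : NodeAlg B π) = 1 := by rw [hα1, one_mul] at hαβ; exact hαβ
    apply hσ
    have hbot : fixIdeal σ ≤ ⊥ := by
      rw [hfix, hα1, hβ1, sub_self, zero_mul, zero_mul]
      rw [Ideal.span_le]
      rintro x (rfl | rfl) <;> exact Ideal.zero_mem _
    ext r
    have := hbot (sub_mem_fixIdeal σ r)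
    rw [Ideal.mem_bot, sub_eq_zero] at this
    rw [this]; rfl
  · rw [hfix]
    exact span_stab _ _ _ _ hαβ

end Groth.Agent.Helper7.Node
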