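import Mathlib
import Groth.Agent.Helper7.Node3

set_option autoImplicit false
set_option linter.unusedSectionVars false
set_option linter.style.haveILetI false

namespace Groth.Agent.Helper7.Node

open MvPowerSeries IsLocalRing ArLef

universe u

section abstract

variable {A : Type*} [CommRing A] [IsDomain A] (t e : A) (ht : Prime t) (he : Prime e)
  (hte : ¬ t ∣ e) (het : ¬ e ∣ t) (α : Aˣ)

include ht hte in
lemma switch_t_not_dvd : ¬ t ∣ (α : A) * e - t := by
  intro h
  have h1 : t ∣ (α : A) * e := by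
    have : (α : A) * e = ((α : A) * e - t) + t := by ring
    rw [this]; exact dvd_add h dvd_rfl
  rcases ht.dvd_or_dvd h1 with h2 | h2
  · exact ht.not_isUnit (isUnit_of_dvd_unit h2 α.isUnit)
  · exact hte h2

include het in
lemma switch_e_not_dvd : ¬ e ∣ (α : A) * e - t := by
  intro h
  apply het
  have : t = (α : A) * e - ((α : A) * e - t) := by ring
  rw [this]; exact dvd_sub (Dvd.intro_left _ rfl) h

include he het in
lemma switch_not_mem_sq [IsLocalRing A] (htm : t ∈ maximalIdeal A) :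
    (α : A) * e - t ∉ (Ideal.span ({t, e} : Set A)) ^ 2 := by
  intro h
  have hle : (Ideal.span ({t, e} : Set A)) ^ 2 ≤ Ideal.span ({e, t ^ 2} : Set A) := by
    rw [pow_two, Ideal.mul_le]
    intro r hr s hs
    obtain ⟨a, b, rfl⟩ := Ideal.mem_span_pair.mp hr
    obtain ⟨c, d, rfl⟩ := Ideal.mem_span_pair.mp hs
    rw [Ideal.mem_span_pair]
    exact ⟨(a * d + b * c) * t + b * d * e, a * c, by ring⟩
  have h1 : t ∈ Ideal.span ({e, t ^ 2} : Set A) := by
    have h0 : (α : A) * e - ((α : A) * e - t) ∈ Ideal.span ({e, t ^ 2} : Set A) :=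
      Ideal.sub_mem _ (Ideal.mul_mem_left _ _ (Ideal.subset_span (by simp))) (hle h)
    have : (α : A) * e - ((α : A) * e - t) = t := by ring
    rw [this] at h0
    exact h0
  obtain ⟨x, y, hxy⟩ := Ideal.mem_span_pair.mp h1
  have h2 : e ∣ t * (1 - y * t) := ⟨x, by linear_combination -hxy⟩
  have h3 : IsUnit (1 - y * t) :=
    isUnit_one_sub_self_of_mem_nonunits _ (Ideal.mul_mem_left _ y htm)
  rcases he.dvd_or_dvd h2 with h4 | h4
  · exact het h4
  · exact he.not_isUnit (isUnit_of_dvd_unit h4 h3)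

end abstract

variable {B : Type u} [CommRing B] [IsDomain B] [IsDiscreteValuationRing B] {π : B}

theorem main_15318 (hπ : Irreducible π)
    (σ : ArLef.NodeAlg B π ≃ₐ[B] ArLef.NodeAlg B π)
    (ht : Associated (σ (ArLef.NodeAlg.t π)) (ArLef.NodeAlg.e π))
    (he : Associated (σ (ArLef.NodeAlg.e π)) (ArLef.NodeAlg.t π)) :
    ∃ h : ArLef.NodeAlg B π, ArLef.fixIdeal σ = Ideal.span {h} ∧
      h ∉ (Ideal.span ({ArLef.NodeAlg.t π, ArLef.NodeAlg.e π} : Set (ArLef.NodeAlg B π))) ^ 2 ∧
      IsSMulRegular (ArLef.NodeAlg B π ⧸ Ideal.span ({h} : Set (ArLef.NodeAlg B π))) π := by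
  haveI : Fact (Irreducible π) := ⟨hπ⟩
  obtain ⟨α, hα⟩ := exists_unit_of_associated ht
  obtain ⟨β, hβ⟩ := exists_unit_of_associated he
  have hP : σ (NodeAlg.t π * NodeAlg.e π) = NodeAlg.t π * NodeAlg.e π := by
    rw [te_eq π, AlgEquiv.commutes]
  have hαβ : (α : NodeAlg B π) * β = 1 := by
    rw [map_mul, hα, hβ] at hP
    have : (NodeAlg.t π * NodeAlg.e π) * ((α : NodeAlg B π) * β) =
        (NodeAlg.t π * NodeAlg.e π) * 1 := by linear_combination hP
    exact mul_left_cancel₀ (P_ne_zero hπ) this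
  refine ⟨(α : NodeAlg B π) * NodeAlg.e π - NodeAlg.t π, ?_, ?_, ?_⟩
  · apply le_antisymm
    · apply node_fixIdeal_le (σ : NodeAlg B π ≃+* NodeAlg B π)
      · intro b
        rw [AlgEquiv.coe_ringEquiv, AlgEquiv.commutes, sub_self]
        exact Ideal.zero_mem _
      · rw [AlgEquiv.coe_ringEquiv, hα]
        exact Ideal.mem_span_singleton_self _
      · rw [AlgEquiv.coe_ringEquiv, hβ, Ideal.mem_span_singleton]
        exact ⟨-(β : NodeAlg B π), by linear_combination (NodeAlg.e π) * hαβ⟩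
    · rw [Ideal.span_le]
      rintro x rfl
      rw [← hα]
      exact sub_mem_fixIdeal _ _
  · exact switch_not_mem_sq _ _ (e_prime hπ) (e_not_dvd_t hπ) α (v_mem_maximalIdeal 0)
  · have h1 : IsSMulRegular (NodeAlg B π ⧸ Ideal.span
        ({(α : NodeAlg B π) * NodeAlg.e π - NodeAlg.t π} : Set (NodeAlg B π)))
        (NodeAlg.t π * NodeAlg.e π) :=
      regular_mul (regular_of_prime (t_prime hπ) (switch_t_not_dvd _ _ (t_prime hπ) (t_not_dvd_e hπ) α))
        (regular_of_prime (e_prime hπ) (switch_e_not_dvd _ _ (e_not_dvd_t hπ) α))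
    intro x y hxy
    apply h1
    show (NodeAlg.t π * NodeAlg.e π) • x = (NodeAlg.t π * NodeAlg.e π) • y
    rw [te_eq π, algebraMap_smul, algebraMap_smul]
    exact hxy

end Groth.Agent.Helper7.Node
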