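import Mathlib
import Groth.Agent.Helper7.Node4

set_option autoImplicit false
set_option linter.unusedSectionVars false
set_option linter.style.haveILetI false

namespace Groth.Agent.Helper7.Node

open MvPowerSeries IsLocalRing ArLef

universe u

variable {B : Type u} [CommRing B] [IsDomain B] [IsDiscreteValuationRing B] {π : B}

/-- the relation `σ(te) = te + Γ (te)^j` -/
lemma sigma_P (j : ℕ) (γ : B) (σ : ArLef.NodeAlg B π ≃+* ArLef.NodeAlg B π)
    (hσπ : σ (algebraMap B (ArLef.NodeAlg B π) π) = algebraMap B (ArLef.NodeAlg B π) (π + γ * π ^ j)) :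
    σ (NodeAlg.t π) * σ (NodeAlg.e π) = NodeAlg.t π * NodeAlg.e π +
      algebraMap B (NodeAlg B π) γ * (NodeAlg.t π * NodeAlg.e π) ^ j := by
  rw [← map_mul, te_eq π, hσπ, map_add, map_mul, map_pow]

lemma span_pow_le (j : ℕ) (I₀ : Ideal (NodeAlg B π))
    (h : (NodeAlg.t π * NodeAlg.e π) ^ j ∈ I₀) :
    Ideal.span ({algebraMap B (ArLef.NodeAlg B π) (π ^ j)} : Set (ArLef.NodeAlg B π)) ≤ I₀ := by
  rw [Ideal.span_singleton_le_iff_mem, map_pow, ← te_eq π]
  exact h

theorem main_15320 (hπ : Irreducible π)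
    (j : ℕ) (hj : 1 ≤ j) (γ : B) (hγ : IsUnit γ)
    (σ : ArLef.NodeAlg B π ≃+* ArLef.NodeAlg B π)
    (hσB : ∀ b : B, σ (algebraMap B (ArLef.NodeAlg B π) b) - algebraMap B (ArLef.NodeAlg B π) b ∈
      Ideal.span ({algebraMap B (ArLef.NodeAlg B π) (π ^ j)} : Set (ArLef.NodeAlg B π)))
    (hσπ : σ (algebraMap B (ArLef.NodeAlg B π) π) = algebraMap B (ArLef.NodeAlg B π) (π + γ * π ^ j))
    (ht : Associated (σ (ArLef.NodeAlg.t π)) (ArLef.NodeAlg.e π))
    (he : Associated (σ (ArLef.NodeAlg.e π)) (ArLef.NodeAlg.t π)) :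
    (∀ g : ArLef.NodeAlg B π, ArLef.fixIdeal σ ≤ Ideal.span ({g} : Set (ArLef.NodeAlg B π)) → IsUnit g) ∧
      Module.length (ArLef.NodeAlg B π) (ArLef.NodeAlg B π ⧸ ArLef.fixIdeal σ) =
        ((2 * j - 1 : ℕ) : ℕ∞) := by
  haveI : Fact (Irreducible π) := ⟨hπ⟩
  obtain ⟨k, rfl⟩ : ∃ k, j = k + 1 := ⟨j - 1, by omega⟩
  obtain ⟨α, hα⟩ := exists_unit_of_associated ht
  obtain ⟨β, hβ⟩ := exists_unit_of_associated he
  obtain ⟨γ', hγ'⟩ := hγ.exists_left_inv
  have hΓ : algebraMap B (NodeAlg B π) γ' * algebraMap B (NodeAlg B π) γ = 1 := by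
    rw [← map_mul, hγ', map_one]
  have hP := sigma_P (k + 1) γ σ hσπ
  have hαβ : (α : NodeAlg B π) * β = 1 + algebraMap B (NodeAlg B π) γ *
      (NodeAlg.t π * NodeAlg.e π) ^ k := by
    rw [hα, hβ] at hP
    have : (NodeAlg.t π * NodeAlg.e π) * ((α : NodeAlg B π) * β) =
        (NodeAlg.t π * NodeAlg.e π) * (1 + algebraMap B (NodeAlg B π) γ *
          (NodeAlg.t π * NodeAlg.e π) ^ k) := by
      rw [pow_succ] at hP; linear_combination hP
    exact mul_left_cancel₀ (P_ne_zero hπ) this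
  -- the fixed ideal
  have hfix : fixIdeal σ = Ideal.span ({(α : NodeAlg B π) * NodeAlg.e π - NodeAlg.t π,
      (NodeAlg.t π * NodeAlg.e π) ^ k * NodeAlg.e π} : Set (NodeAlg B π)) := by
    apply le_antisymm
    · apply node_fixIdeal_le σ
      · intro b
        refine span_pow_le (k + 1) _ ?_ (hσB b)
        have : (NodeAlg.t π * NodeAlg.e π) ^ (k + 1) =
            NodeAlg.t π * ((NodeAlg.t π * NodeAlg.e π) ^ k * NodeAlg.e π) := by
          rw [pow_succ]; ring
        rw [this]
        exact Ideal.mul_mem_left _ _ (Ideal.subset_span (by simp))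
      · rw [hα]
        exact Ideal.subset_span (by simp)
      · rw [hβ, Ideal.mem_span_pair]
        exact ⟨-(β : NodeAlg B π), algebraMap B (NodeAlg B π) γ,
          by linear_combination (-NodeAlg.e π) * hαβ⟩
    · have h1 : (α : NodeAlg B π) * NodeAlg.e π - NodeAlg.t π ∈ fixIdeal σ := by
        rw [← hα]; exact sub_mem_fixIdeal _ _
      have h2 : σ (NodeAlg.e π) - NodeAlg.e π ∈ fixIdeal σ := sub_mem_fixIdeal _ _
      rw [Ideal.span_le]
      rintro x (rfl | rfl)
      · exact h1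
      · have h3 : algebraMap B (NodeAlg B π) γ *
            ((NodeAlg.t π * NodeAlg.e π) ^ k * NodeAlg.e π) ∈ fixIdeal σ := by
          have : algebraMap B (NodeAlg B π) γ * ((NodeAlg.t π * NodeAlg.e π) ^ k * NodeAlg.e π) =
              (σ (NodeAlg.e π) - NodeAlg.e π) +
                (β : NodeAlg B π) * ((α : NodeAlg B π) * NodeAlg.e π - NodeAlg.t π) := by
            rw [hβ]; linear_combination (-NodeAlg.e π) * hαβ
          rw [this]
          exact Ideal.add_mem _ h2 (Ideal.mul_mem_left _ _ h1)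
        have h4 := (fixIdeal σ).mul_mem_left (algebraMap B (NodeAlg B π) γ') h3
        rw [← mul_assoc, hΓ, one_mul] at h4
        exact h4
  -- rewrite in terms of e^(2k+1)
  obtain ⟨c, hc⟩ := sub_dvd_pow_sub_pow (NodeAlg.t π * NodeAlg.e π)
    ((α : NodeAlg B π) * NodeAlg.e π ^ 2) k
  have hfix2 : fixIdeal σ = Ideal.span ({NodeAlg.e π ^ (2 * k + 1),
      (α : NodeAlg B π) * NodeAlg.e π - NodeAlg.t π} : Set (NodeAlg B π)) := by
    rw [hfix]
    have hkey : (NodeAlg.t π * NodeAlg.e π) ^ k * NodeAlg.e π =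
        (α : NodeAlg B π) ^ k * NodeAlg.e π ^ (2 * k + 1) -
          (NodeAlg.e π ^ 2 * c) * ((α : NodeAlg B π) * NodeAlg.e π - NodeAlg.t π) := by
      have e1 : ((α : NodeAlg B π) * NodeAlg.e π ^ 2) ^ k * NodeAlg.e π =
          (α : NodeAlg B π) ^ k * NodeAlg.e π ^ (2 * k + 1) := by
        rw [mul_pow, ← pow_mul, pow_succ]; ring
      rw [← e1]
      linear_combination (NodeAlg.e π) * hc
    apply le_antisymm
    · rw [Ideal.span_le]
      rintro x (rfl | rfl)
      · exact Ideal.subset_span (by simp)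
      · rw [hkey]
        exact Ideal.sub_mem _ (Ideal.mul_mem_left _ _ (Ideal.subset_span (by simp)))
          (Ideal.mul_mem_left _ _ (Ideal.subset_span (by simp)))
    · rw [Ideal.span_le]
      rintro x (rfl | rfl)
      · have : NodeAlg.e π ^ (2 * k + 1) = ((α⁻¹ : (NodeAlg B π)ˣ) : NodeAlg B π) ^ k *
            ((NodeAlg.t π * NodeAlg.e π) ^ k * NodeAlg.e π +
              (NodeAlg.e π ^ 2 * c) * ((α : NodeAlg B π) * NodeAlg.e π - NodeAlg.t π)) := by
          rw [hkey, sub_add_cancel, ← mul_assoc, ← mul_pow, Units.inv_mul, one_pow, one_mul]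
        rw [this]
        exact Ideal.mul_mem_left _ _ (Ideal.add_mem _ (Ideal.subset_span (by simp))
          (Ideal.mul_mem_left _ _ (Ideal.subset_span (by simp))))
      · exact Ideal.subset_span (by simp)
  have hen : ¬ NodeAlg.e π ∣ (α : NodeAlg B π) * NodeAlg.e π - NodeAlg.t π :=
    switch_e_not_dvd _ _ (e_not_dvd_t hπ) α
  constructor
  · intro g hg
    rw [hfix2, Ideal.span_le] at hg
    have h1 : g ∣ NodeAlg.e π ^ (2 * k + 1) :=
      Ideal.mem_span_singleton.mp (hg (by simp))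
    have h2 : g ∣ (α : NodeAlg B π) * NodeAlg.e π - NodeAlg.t π :=
      Ideal.mem_span_singleton.mp (hg (by simp))
    obtain ⟨i, _, hi⟩ := (dvd_prime_pow (e_prime hπ) _).mp h1
    rcases Nat.eq_zero_or_pos i with rfl | hpos
    · rw [pow_zero] at hi
      exact (associated_one_iff_isUnit).mp hi
    · exfalso
      apply hen
      exact (dvd_pow_self _ hpos.ne').trans (hi.symm.dvd.trans h2)
  · rw [hfix2, len_pow _ _ (regular_of_prime (e_prime hπ) hen)]
    have hspan : Ideal.span ({NodeAlg.e π, (α : NodeAlg B π) * NodeAlg.e π - NodeAlg.t π} :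
        Set (NodeAlg B π)) = Ideal.span ({NodeAlg.t π, NodeAlg.e π} : Set (NodeAlg B π)) := by
      apply le_antisymm
      · rw [Ideal.span_le]
        rintro x (rfl | rfl)
        · exact Ideal.subset_span (by simp)
        · exact Ideal.sub_mem _ (Ideal.mul_mem_left _ _ (Ideal.subset_span (by simp)))
            (Ideal.subset_span (by simp))
      · rw [Ideal.span_le]
        rintro x (rfl | rfl)
        · have : NodeAlg.t π = (α : NodeAlg B π) * NodeAlg.e π -
              ((α : NodeAlg B π) * NodeAlg.e π - NodeAlg.t π) := by ring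
          rw [this]
          exact Ideal.sub_mem _ (Ideal.mul_mem_left _ _ (Ideal.subset_span (by simp)))
            (Ideal.subset_span (by simp))
        · exact Ideal.subset_span (by simp)
    rw [hspan, len_te, mul_one]
    congr 1

end Groth.Agent.Helper7.Node
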