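import Mathlib
import Groth.Agent.Helper7.Node5

set_option autoImplicit false
set_option linter.unusedSectionVars false
set_option linter.style.haveILetI false

namespace Groth.Agent.Helper7.Node

open MvPowerSeries IsLocalRing ArLef

universe u

section abstract

variable {A : Type*} [CommRing A] [IsDomain A] (t e : A) (ht : Prime t) (he : Prime e)
  (hte : ¬ t ∣ e) (het : ¬ e ∣ t)
  (hlen : Module.length A (A ⧸ Ideal.span ({t, e} : Set A)) = 1)

lemma span_pair_comm (x y : A) : Ideal.span ({x, y} : Set A) = Ideal.span ({y, x} : Set A) := by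
  rw [Set.pair_comm]

omit [IsDomain A] in
lemma span_pair_le {x y : A} {I : Ideal A} (hx : x ∈ I) (hy : y ∈ I) :
    Ideal.span ({x, y} : Set A) ≤ I := by
  rw [Ideal.span_le]
  intro z hz
  rcases hz with hz | hz
  · rw [hz]; exact hx
  · rw [Set.mem_singleton_iff.mp hz]; exact hy

include ht he hte het hlen in
/-- core length computation for the residual fixed-point scheme when the branches are fixed -/
theorem core_stab (a b : A) (α Γ : Aˣ) (m₁ m₂ : ℕ)
    (hrel : b * α + a = Γ * (t ^ m₁ * e ^ m₂))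
    (hea : ¬ e ∣ a) (htb : ¬ t ∣ b) :
    Module.length A (A ⧸ Ideal.span ({a * t, b * e} : Set A)) =
      1 + ((m₁ + 1 : ℕ) : ℕ∞) * Module.length A (A ⧸ Ideal.span ({t, b} : Set A)) +
        ((m₂ + 1 : ℕ) : ℕ∞) * Module.length A (A ⧸ Ideal.span ({e, a} : Set A)) := by
  have htbe : ¬ t ∣ b * e := fun h => (ht.dvd_or_dvd h).elim htb hte
  -- Step A
  have hA : Module.length A (A ⧸ Ideal.span ({a * t, b * e} : Set A)) =
      Module.length A (A ⧸ Ideal.span ({t, b * e} : Set A)) +
        Module.length A (A ⧸ Ideal.span ({a, b * e} : Set A)) := by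
    rw [mul_comm a t]
    exact len_mul t (b * e) a (regular_of_prime ht htbe)
  -- Step B
  have hB : Module.length A (A ⧸ Ideal.span ({t, b * e} : Set A)) =
      1 + Module.length A (A ⧸ Ideal.span ({t, b} : Set A)) := by
    rw [span_pair_comm t (b * e), mul_comm b e, len_mul e t b (regular_of_prime he het),
      span_pair_comm e t, hlen, span_pair_comm b t]
  -- Step C
  have hC : Module.length A (A ⧸ Ideal.span ({a, b * e} : Set A)) =
      Module.length A (A ⧸ Ideal.span ({e, a} : Set A)) +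
        Module.length A (A ⧸ Ideal.span ({b, a} : Set A)) := by
    rw [span_pair_comm a (b * e), mul_comm b e, len_mul e a b (regular_of_prime he hea)]
  -- Step D
  have hspan : Ideal.span ({b, a} : Set A) = Ideal.span ({t ^ m₁ * e ^ m₂, a} : Set A) := by
    apply le_antisymm
    · apply span_pair_le
      · have : b = (↑α⁻¹ : A) * ((Γ : A) * (t ^ m₁ * e ^ m₂) - a) := by
          rw [← hrel, add_sub_cancel_right, mul_comm b, ← mul_assoc, Units.inv_mul, one_mul]
        rw [this]
        exact Ideal.mul_mem_left _ _ (Ideal.sub_mem _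
          (Ideal.mul_mem_left _ _ (Ideal.subset_span (by simp))) (Ideal.subset_span (by simp)))
      · exact Ideal.subset_span (by simp)
    · apply span_pair_le
      · have : t ^ m₁ * e ^ m₂ = (↑Γ⁻¹ : A) * (b * α + a) := by
          rw [hrel, ← mul_assoc, Units.inv_mul, one_mul]
        rw [this]
        exact Ideal.mul_mem_left _ _ (Ideal.add_mem _
          (Ideal.mul_mem_right _ _ (Ideal.subset_span (by simp))) (Ideal.subset_span (by simp)))
      · exact Ideal.subset_span (by simp)
  have hD : Module.length A (A ⧸ Ideal.span ({b, a} : Set A)) =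
      (m₁ : ℕ∞) * Module.length A (A ⧸ Ideal.span ({t, b} : Set A)) +
        (m₂ : ℕ∞) * Module.length A (A ⧸ Ideal.span ({e, a} : Set A)) := by
    rw [hspan]
    rcases Nat.eq_zero_or_pos m₁ with rfl | hm
    · rw [pow_zero, one_mul, len_pow e a (regular_of_prime he hea)]
      simp
    · have hta : ¬ t ∣ a := by
        intro h
        have h1 : t ∣ b * α := by
          have : b * α = Γ * (t ^ m₁ * e ^ m₂) - a := by rw [← hrel]; ring
          rw [this]
          exact dvd_sub (Dvd.dvd.mul_left (Dvd.dvd.mul_right (dvd_pow_self t hm.ne') _) _) h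
        rcases ht.dvd_or_dvd h1 with h2 | h2
        · exact htb h2
        · exact ht.not_isUnit (isUnit_of_dvd_unit h2 α.isUnit)
      have hreg := regular_of_prime ht hta
      rw [len_mul (t ^ m₁) a (e ^ m₂) (regular_pow hreg m₁), len_pow t a hreg,
        len_pow e a (regular_of_prime he hea)]
      have hspan2 : Ideal.span ({t, a} : Set A) = Ideal.span ({t, b} : Set A) := by
        have htQ : t ∣ t ^ m₁ * e ^ m₂ := Dvd.dvd.mul_right (dvd_pow_self t hm.ne') _
        obtain ⟨q, hq⟩ := htQ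
        apply le_antisymm
        · apply span_pair_le
          · exact Ideal.subset_span (by simp)
          · have : a = (Γ * q) * t - α * b := by
              have : a = Γ * (t ^ m₁ * e ^ m₂) - b * α := by rw [← hrel]; ring
              rw [this, hq]; ring
            rw [this]
            exact Ideal.sub_mem _ (Ideal.mul_mem_left _ _ (Ideal.subset_span (by simp)))
              (Ideal.mul_mem_left _ _ (Ideal.subset_span (by simp)))
        · apply span_pair_le
          · exact Ideal.subset_span (by simp)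
          · have : b = (↑α⁻¹ : A) * ((Γ * q) * t - a) := by
              have h1 : b * α = (Γ * q) * t - a := by
                have : b * α = Γ * (t ^ m₁ * e ^ m₂) - a := by rw [← hrel]; ring
                rw [this, hq]; ring
              rw [← h1, mul_comm b, ← mul_assoc, Units.inv_mul, one_mul]
            rw [this]
            exact Ideal.mul_mem_left _ _ (Ideal.sub_mem _
              (Ideal.mul_mem_left _ _ (Ideal.subset_span (by simp)))
              (Ideal.subset_span (by simp)))
      rw [hspan2]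
  rw [hA, hB, hC, hD]
  push_cast
  ring

end abstract

variable {B : Type u} [CommRing B] [IsDomain B] [IsDiscreteValuationRing B] {π : B}

/-- the fixed ideal when both branches are fixed -/
theorem fixIdeal_stab (hπ : Irreducible π)
    (j : ℕ) (hj : 1 ≤ j) (γ : B) (hγ : IsUnit γ)
    (σ : ArLef.NodeAlg B π ≃+* ArLef.NodeAlg B π)
    (hσB : ∀ b : B, σ (algebraMap B (ArLef.NodeAlg B π) b) - algebraMap B (ArLef.NodeAlg B π) b ∈
      Ideal.span ({algebraMap B (ArLef.NodeAlg B π) (π ^ j)} : Set (ArLef.NodeAlg B π)))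
    (hσπ : σ (algebraMap B (ArLef.NodeAlg B π) π) = algebraMap B (ArLef.NodeAlg B π) (π + γ * π ^ j))
    (α β : (ArLef.NodeAlg B π)ˣ)
    (ht : σ (ArLef.NodeAlg.t π) = (α : ArLef.NodeAlg B π) * ArLef.NodeAlg.t π)
    (he : σ (ArLef.NodeAlg.e π) = (β : ArLef.NodeAlg B π) * ArLef.NodeAlg.e π) :
    ((α : NodeAlg B π) * β = 1 + algebraMap B (NodeAlg B π) γ *
      (NodeAlg.t π * NodeAlg.e π) ^ (j - 1)) ∧
    fixIdeal σ = Ideal.span ({((α : NodeAlg B π) - 1) * NodeAlg.t π,
      ((β : NodeAlg B π) - 1) * NodeAlg.e π} : Set (NodeAlg B π)) := by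
  haveI : Fact (Irreducible π) := ⟨hπ⟩
  obtain ⟨k, rfl⟩ : ∃ k, j = k + 1 := ⟨j - 1, by omega⟩
  obtain ⟨γ', hγ'⟩ := hγ.exists_left_inv
  have hΓ : algebraMap B (NodeAlg B π) γ' * algebraMap B (NodeAlg B π) γ = 1 := by
    rw [← map_mul, hγ', map_one]
  have hP := sigma_P (k + 1) γ σ hσπ
  have hαβ : (α : NodeAlg B π) * β = 1 + algebraMap B (NodeAlg B π) γ *
      (NodeAlg.t π * NodeAlg.e π) ^ k := by
    rw [ht, he] at hP
    have : (NodeAlg.t π * NodeAlg.e π) * ((α : NodeAlg B π) * β) =
        (NodeAlg.t π * NodeAlg.e π) * (1 + algebraMap B (NodeAlg B π) γ *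
          (NodeAlg.t π * NodeAlg.e π) ^ k) := by
      rw [pow_succ] at hP; linear_combination hP
    exact mul_left_cancel₀ (P_ne_zero hπ) this
  refine ⟨by simpa using hαβ, ?_⟩
  apply le_antisymm
  · apply node_fixIdeal_le σ
    · intro b
      refine span_pow_le (k + 1) _ ?_ (hσB b)
      have : (NodeAlg.t π * NodeAlg.e π) ^ (k + 1) = algebraMap B (NodeAlg B π) γ' *
          (NodeAlg.e π * (((α : NodeAlg B π) - 1) * NodeAlg.t π) +
            NodeAlg.t π * (((β : NodeAlg B π) - 1) * NodeAlg.e π) +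
            (((α : NodeAlg B π) - 1) * NodeAlg.t π) * (((β : NodeAlg B π) - 1) * NodeAlg.e π)) := by
        have h1 : NodeAlg.e π * (((α : NodeAlg B π) - 1) * NodeAlg.t π) +
            NodeAlg.t π * (((β : NodeAlg B π) - 1) * NodeAlg.e π) +
            (((α : NodeAlg B π) - 1) * NodeAlg.t π) * (((β : NodeAlg B π) - 1) * NodeAlg.e π) =
            algebraMap B (NodeAlg B π) γ * (NodeAlg.t π * NodeAlg.e π) ^ (k + 1) := by
          rw [pow_succ]; linear_combination (NodeAlg.t π * NodeAlg.e π) * hαβ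
        rw [h1, ← mul_assoc, hΓ, one_mul]
      rw [this]
      refine Ideal.mul_mem_left _ _ (Ideal.add_mem _ (Ideal.add_mem _ ?_ ?_) ?_)
      · exact Ideal.mul_mem_left _ _ (Ideal.subset_span (by simp))
      · exact Ideal.mul_mem_left _ _ (Ideal.subset_span (by simp))
      · exact Ideal.mul_mem_left _ _ (Ideal.subset_span (by simp))
    · rw [ht]
      have : (α : NodeAlg B π) * NodeAlg.t π - NodeAlg.t π =
          ((α : NodeAlg B π) - 1) * NodeAlg.t π := by ring
      rw [this]; exact Ideal.subset_span (by simp)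
    · rw [he]
      have : (β : NodeAlg B π) * NodeAlg.e π - NodeAlg.e π =
          ((β : NodeAlg B π) - 1) * NodeAlg.e π := by ring
      rw [this]; exact Ideal.subset_span (by simp)
  · rw [Ideal.span_le]
    rintro x (rfl | rfl)
    · have : ((α : NodeAlg B π) - 1) * NodeAlg.t π = σ (NodeAlg.t π) - NodeAlg.t π := by
        rw [ht]; ring
      rw [this]; exact sub_mem_fixIdeal _ _
    · have : ((β : NodeAlg B π) - 1) * NodeAlg.e π = σ (NodeAlg.e π) - NodeAlg.e π := by
        rw [he]; ring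
      rw [this]; exact sub_mem_fixIdeal _ _

theorem main_15323 (hπ : Irreducible π)
    (j : ℕ) (hj : 1 ≤ j) (γ : B) (hγ : IsUnit γ)
    (σ : ArLef.NodeAlg B π ≃+* ArLef.NodeAlg B π)
    (hσB : ∀ b : B, σ (algebraMap B (ArLef.NodeAlg B π) b) - algebraMap B (ArLef.NodeAlg B π) b ∈
      Ideal.span ({algebraMap B (ArLef.NodeAlg B π) (π ^ j)} : Set (ArLef.NodeAlg B π)))
    (hσπ : σ (algebraMap B (ArLef.NodeAlg B π) π) = algebraMap B (ArLef.NodeAlg B π) (π + γ * π ^ j))
    (α β : (ArLef.NodeAlg B π)ˣ)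
    (ht : σ (ArLef.NodeAlg.t π) = (α : ArLef.NodeAlg B π) * ArLef.NodeAlg.t π)
    (he : σ (ArLef.NodeAlg.e π) = (β : ArLef.NodeAlg B π) * ArLef.NodeAlg.e π)
    (htb : ¬ (ArLef.NodeAlg.t π ∣ (β : ArLef.NodeAlg B π) - 1))
    (hea : ¬ (ArLef.NodeAlg.e π ∣ (α : ArLef.NodeAlg B π) - 1)) :
    Module.length (ArLef.NodeAlg B π) (ArLef.NodeAlg B π ⧸ ArLef.fixIdeal σ) =
      (j : ℕ∞) * (Module.length (ArLef.NodeAlg B π) (ArLef.NodeAlg B π ⧸
          Ideal.span ({ArLef.NodeAlg.t π, (β : ArLef.NodeAlg B π) - 1} : Set (ArLef.NodeAlg B π))) +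
        Module.length (ArLef.NodeAlg B π) (ArLef.NodeAlg B π ⧸
          Ideal.span ({ArLef.NodeAlg.e π, (α : ArLef.NodeAlg B π) - 1} :
            Set (ArLef.NodeAlg B π)))) + 1 := by
  haveI : Fact (Irreducible π) := ⟨hπ⟩
  obtain ⟨hαβ, hfix⟩ := fixIdeal_stab hπ j hj γ hγ σ hσB hσπ α β ht he
  obtain ⟨k, rfl⟩ : ∃ k, j = k + 1 := ⟨j - 1, by omega⟩
  rw [Nat.add_sub_cancel] at hαβ
  let Γ : (NodeAlg B π)ˣ := (hγ.map (algebraMap B (NodeAlg B π))).unit
  have hΓ : (Γ : NodeAlg B π) = algebraMap B (NodeAlg B π) γ := rfl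
  have hrel : ((β : NodeAlg B π) - 1) * α + ((α : NodeAlg B π) - 1) =
      Γ * (NodeAlg.t π ^ k * NodeAlg.e π ^ k) := by
    rw [hΓ, ← mul_pow]; linear_combination hαβ
  rw [hfix, core_stab _ _ (t_prime hπ) (e_prime hπ) (t_not_dvd_e hπ) (e_not_dvd_t hπ) len_te
    _ _ α Γ k k hrel hea htb]
  push_cast
  ring

end Groth.Agent.Helper7.Node
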