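import Mathlib
import Groth.Agent.Helper7.Node6

set_option autoImplicit false
set_option linter.unusedSectionVars false
set_option linter.style.haveILetI false

namespace Groth.Agent.Helper7.Node

open MvPowerSeries IsLocalRing ArLef

universe u

section abstract

variable {A : Type*} [CommRing A] [IsDomain A]

lemma colon_span_pair_mul (D x y : A) (hD : D ≠ 0) :
    (Ideal.span ({D * x, D * y} : Set A)).colon ({D} : Set A) = Ideal.span ({x, y} : Set A) := by
  ext r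
  rw [Submodule.mem_colon_singleton, smul_eq_mul, Ideal.mem_span_pair, Ideal.mem_span_pair]
  constructor
  · rintro ⟨u, v, huv⟩
    refine ⟨u, v, ?_⟩
    have : D * (u * x + v * y) = D * r := by linear_combination huv
    exact mul_left_cancel₀ hD this
  · rintro ⟨u, v, rfl⟩
    exact ⟨u, v, by ring⟩

variable (t e : A) (ht : Prime t) (he : Prime e)
  (hte : ¬ t ∣ e) (het : ¬ e ∣ t)
  (hlen : Module.length A (A ⧸ Ideal.span ({t, e} : Set A)) = 1)

include ht he hte het hlen in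
theorem core_19597 (a b : A) (α Γ : Aˣ) (m : ℕ)
    (hrel : b * α + e * a = Γ * t ^ m) (htb : ¬ t ∣ b) :
    Module.length A (A ⧸ Ideal.span ({t * a, b} : Set A)) + (m : ℕ∞) =
      ((m + 1 : ℕ) : ℕ∞) * Module.length A (A ⧸ Ideal.span ({t, b} : Set A)) := by
  have htreg := regular_of_prime ht htb
  rw [len_mul t b a htreg]
  rcases Nat.eq_zero_or_pos m with rfl | hm
  · have htop : Ideal.span ({a, b} : Set A) = ⊤ := by
      apply Ideal.eq_top_of_isUnit_mem _ _ Γ.isUnit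
      have : (Γ : A) = b * α + e * a := by rw [hrel, pow_zero, mul_one]
      rw [this]
      exact Ideal.add_mem _ (Ideal.mul_mem_right _ _ (Ideal.subset_span (by simp)))
        (Ideal.mul_mem_left _ _ (Ideal.subset_span (by simp)))
    rw [htop]
    have : Subsingleton (A ⧸ (⊤ : Ideal A)) := Ideal.Quotient.subsingleton_iff.mpr rfl
    have h0 : Module.length A (A ⧸ (⊤ : Ideal A)) = 0 := Module.length_eq_zero
    rw [h0]
    simp
  · have heb : ¬ e ∣ b := by
      intro h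
      have h1 : e ∣ Γ * t ^ m := by
        rw [← hrel]
        exact dvd_add (Dvd.dvd.mul_right h _) (Dvd.intro _ rfl)
      rcases he.dvd_or_dvd h1 with h2 | h2
      · exact he.not_isUnit (isUnit_of_dvd_unit h2 Γ.isUnit)
      · exact het (he.dvd_of_dvd_pow h2)
    have h1 : Module.length A (A ⧸ Ideal.span ({e * a, b} : Set A)) =
        Module.length A (A ⧸ Ideal.span ({e, b} : Set A)) +
          Module.length A (A ⧸ Ideal.span ({a, b} : Set A)) :=
      len_mul e b a (regular_of_prime he heb)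
    have hs1 : Ideal.span ({e * a, b} : Set A) = Ideal.span ({t ^ m, b} : Set A) := by
      apply le_antisymm
      · apply span_pair_le
        · have : e * a = Γ * t ^ m - α * b := by rw [← hrel]; ring
          rw [this]
          exact Ideal.sub_mem _ (Ideal.mul_mem_left _ _ (Ideal.subset_span (by simp)))
            (Ideal.mul_mem_left _ _ (Ideal.subset_span (by simp)))
        · exact Ideal.subset_span (by simp)
      · apply span_pair_le
        · have : t ^ m = (↑Γ⁻¹ : A) * (b * α + e * a) := by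
            rw [hrel, ← mul_assoc, Units.inv_mul, one_mul]
          rw [this]
          exact Ideal.mul_mem_left _ _ (Ideal.add_mem _
            (Ideal.mul_mem_right _ _ (Ideal.subset_span (by simp)))
            (Ideal.subset_span (by simp)))
        · exact Ideal.subset_span (by simp)
    have hs2 : Ideal.span ({e, b} : Set A) = Ideal.span ({t ^ m, e} : Set A) := by
      apply le_antisymm
      · apply span_pair_le
        · exact Ideal.subset_span (by simp)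
        · have : b = (↑α⁻¹ : A) * (Γ * t ^ m - e * a) := by
            rw [← hrel, add_sub_cancel_right, mul_comm b, ← mul_assoc, Units.inv_mul, one_mul]
          rw [this]
          exact Ideal.mul_mem_left _ _ (Ideal.sub_mem _
            (Ideal.mul_mem_left _ _ (Ideal.subset_span (by simp)))
            (Ideal.mul_mem_right _ _ (Ideal.subset_span (by simp))))
      · apply span_pair_le
        · have : t ^ m = (↑Γ⁻¹ : A) * (b * α + e * a) := by
            rw [hrel, ← mul_assoc, Units.inv_mul, one_mul]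
          rw [this]
          exact Ideal.mul_mem_left _ _ (Ideal.add_mem _
            (Ideal.mul_mem_right _ _ (Ideal.subset_span (by simp)))
            (Ideal.mul_mem_right _ _ (Ideal.subset_span (by simp))))
        · exact Ideal.subset_span (by simp)
    rw [hs1, len_pow t b htreg, hs2, len_pow t e (regular_of_prime ht hte), hlen, mul_one] at h1
    -- h1 : m * s₁ = m + len(a,b)
    push_cast
    rw [add_mul, one_mul, h1]
    ring

end abstract

variable {B : Type u} [CommRing B] [IsDomain B] [IsDiscreteValuationRing B] {π : B}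

theorem main_19596 (hπ : Irreducible π)
    (j i₁ i₂ : ℕ) (h12 : i₁ ≤ i₂) (h2j : i₂ < j) (γ : B) (hγ : IsUnit γ)
    (σ : ArLef.NodeAlg B π ≃+* ArLef.NodeAlg B π)
    (hσB : ∀ c : B, σ (algebraMap B (ArLef.NodeAlg B π) c) - algebraMap B (ArLef.NodeAlg B π) c ∈
      Ideal.span ({algebraMap B (ArLef.NodeAlg B π) (π ^ j)} : Set (ArLef.NodeAlg B π)))
    (hσπ : σ (algebraMap B (ArLef.NodeAlg B π) π) = algebraMap B (ArLef.NodeAlg B π) (π + γ * π ^ j))
    (α β : (ArLef.NodeAlg B π)ˣ)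
    (ht : σ (ArLef.NodeAlg.t π) = (α : ArLef.NodeAlg B π) * ArLef.NodeAlg.t π)
    (he : σ (ArLef.NodeAlg.e π) = (β : ArLef.NodeAlg B π) * ArLef.NodeAlg.e π)
    (a b : ArLef.NodeAlg B π)
    (ha : (α : ArLef.NodeAlg B π) - 1 = ArLef.NodeAlg.t π ^ i₁ * ArLef.NodeAlg.e π ^ i₂ * a)
    (hb : (β : ArLef.NodeAlg B π) - 1 = ArLef.NodeAlg.t π ^ i₁ * ArLef.NodeAlg.e π ^ i₂ * b)
    (hea : ¬ (ArLef.NodeAlg.e π ∣ a)) (htb : ¬ (ArLef.NodeAlg.t π ∣ b)) :
    Module.length (ArLef.NodeAlg B π) (ArLef.NodeAlg B π ⧸ (ArLef.fixIdeal σ).colon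
      ({ArLef.NodeAlg.t π ^ i₁ * ArLef.NodeAlg.e π ^ i₂} : Set (ArLef.NodeAlg B π))) =
      1 + ((j - i₁ : ℕ) : ℕ∞) * Module.length (ArLef.NodeAlg B π) (ArLef.NodeAlg B π ⧸
          Ideal.span ({ArLef.NodeAlg.t π, b} : Set (ArLef.NodeAlg B π))) +
        ((j - i₂ : ℕ) : ℕ∞) * Module.length (ArLef.NodeAlg B π) (ArLef.NodeAlg B π ⧸
          Ideal.span ({ArLef.NodeAlg.e π, a} : Set (ArLef.NodeAlg B π))) := by
  haveI : Fact (Irreducible π) := ⟨hπ⟩
  have hj : 1 ≤ j := by omega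
  obtain ⟨hαβ, hfix⟩ := fixIdeal_stab hπ j hj γ hγ σ hσB hσπ α β ht he
  let Γ : (NodeAlg B π)ˣ := (hγ.map (algebraMap B (NodeAlg B π))).unit
  have hΓ : (Γ : NodeAlg B π) = algebraMap B (NodeAlg B π) γ := rfl
  have hD0 : NodeAlg.t π ^ i₁ * NodeAlg.e π ^ i₂ ≠ 0 :=
    mul_ne_zero (pow_ne_zero _ (t_prime hπ).ne_zero) (pow_ne_zero _ (e_prime hπ).ne_zero)
  obtain ⟨m₁, hm₁⟩ : ∃ m₁, j - 1 = i₁ + m₁ := ⟨j - 1 - i₁, by omega⟩
  obtain ⟨m₂, hm₂⟩ : ∃ m₂, j - 1 = i₂ + m₂ := ⟨j - 1 - i₂, by omega⟩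
  have hrel : b * α + a = Γ * (NodeAlg.t π ^ m₁ * NodeAlg.e π ^ m₂) := by
    have h1 : (NodeAlg.t π * NodeAlg.e π) ^ (j - 1) =
        (NodeAlg.t π ^ i₁ * NodeAlg.e π ^ i₂) * (NodeAlg.t π ^ m₁ * NodeAlg.e π ^ m₂) := by
      rw [mul_pow]
      nth_rewrite 1 [hm₁]
      rw [hm₂, pow_add, pow_add]; ring
    have h2 : (NodeAlg.t π ^ i₁ * NodeAlg.e π ^ i₂) * (b * α + a) =
        (NodeAlg.t π ^ i₁ * NodeAlg.e π ^ i₂) *
          (Γ * (NodeAlg.t π ^ m₁ * NodeAlg.e π ^ m₂)) := by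
      rw [hΓ]
      have h3 : ((β : NodeAlg B π) - 1) * α + ((α : NodeAlg B π) - 1) =
          algebraMap B (NodeAlg B π) γ * (NodeAlg.t π * NodeAlg.e π) ^ (j - 1) := by
        linear_combination hαβ
      rw [h1, ha, hb] at h3
      linear_combination h3
    exact mul_left_cancel₀ hD0 h2
  have hfix' : fixIdeal σ = Ideal.span ({(NodeAlg.t π ^ i₁ * NodeAlg.e π ^ i₂) * (a * NodeAlg.t π),
      (NodeAlg.t π ^ i₁ * NodeAlg.e π ^ i₂) * (b * NodeAlg.e π)} : Set (NodeAlg B π)) := by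
    rw [hfix, ha, hb]
    congr 2 <;> ring_nf
  rw [hfix', colon_span_pair_mul _ _ _ hD0,
    core_stab _ _ (t_prime hπ) (e_prime hπ) (t_not_dvd_e hπ) (e_not_dvd_t hπ) len_te
    _ _ α Γ m₁ m₂ hrel hea htb]
  have e1 : m₁ + 1 = j - i₁ := by omega
  have e2 : m₂ + 1 = j - i₂ := by omega
  rw [e1, e2]

theorem main_19597 (hπ : Irreducible π)
    (j i₁ : ℕ) (h1 : i₁ < j) (γ : B) (hγ : IsUnit γ)
    (σ : ArLef.NodeAlg B π ≃+* ArLef.NodeAlg B π)
    (hσB : ∀ c : B, σ (algebraMap B (ArLef.NodeAlg B π) c) - algebraMap B (ArLef.NodeAlg B π) c ∈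
      Ideal.span ({algebraMap B (ArLef.NodeAlg B π) (π ^ j)} : Set (ArLef.NodeAlg B π)))
    (hσπ : σ (algebraMap B (ArLef.NodeAlg B π) π) = algebraMap B (ArLef.NodeAlg B π) (π + γ * π ^ j))
    (α β : (ArLef.NodeAlg B π)ˣ)
    (ht : σ (ArLef.NodeAlg.t π) = (α : ArLef.NodeAlg B π) * ArLef.NodeAlg.t π)
    (he : σ (ArLef.NodeAlg.e π) = (β : ArLef.NodeAlg B π) * ArLef.NodeAlg.e π)
    (a b : ArLef.NodeAlg B π)
    (ha : (α : ArLef.NodeAlg B π) - 1 = ArLef.NodeAlg.t π ^ i₁ * ArLef.NodeAlg.e π ^ j * a)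
    (hb : (β : ArLef.NodeAlg B π) - 1 = ArLef.NodeAlg.t π ^ i₁ * ArLef.NodeAlg.e π ^ (j - 1) * b)
    (htb : ¬ (ArLef.NodeAlg.t π ∣ b)) :
    Module.length (ArLef.NodeAlg B π) (ArLef.NodeAlg B π ⧸ (ArLef.fixIdeal σ).colon
      ({ArLef.NodeAlg.t π ^ i₁ * ArLef.NodeAlg.e π ^ j} : Set (ArLef.NodeAlg B π))) +
        ((j - 1 - i₁ : ℕ) : ℕ∞) =
      ((j - i₁ : ℕ) : ℕ∞) * Module.length (ArLef.NodeAlg B π) (ArLef.NodeAlg B π ⧸
        Ideal.span ({ArLef.NodeAlg.t π, b} : Set (ArLef.NodeAlg B π))) := by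
  haveI : Fact (Irreducible π) := ⟨hπ⟩
  have hj : 1 ≤ j := by omega
  obtain ⟨hαβ, hfix⟩ := fixIdeal_stab hπ j hj γ hγ σ hσB hσπ α β ht he
  let Γ : (NodeAlg B π)ˣ := (hγ.map (algebraMap B (NodeAlg B π))).unit
  have hΓ : (Γ : NodeAlg B π) = algebraMap B (NodeAlg B π) γ := rfl
  obtain ⟨k, rfl⟩ : ∃ k, j = k + 1 := ⟨j - 1, by omega⟩
  rw [Nat.add_sub_cancel] at hαβ hb ⊢
  have hD0 : NodeAlg.t π ^ i₁ * NodeAlg.e π ^ (k + 1) ≠ 0 :=
    mul_ne_zero (pow_ne_zero _ (t_prime hπ).ne_zero) (pow_ne_zero _ (e_prime hπ).ne_zero)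
  have hD1 : NodeAlg.t π ^ i₁ * NodeAlg.e π ^ k ≠ 0 :=
    mul_ne_zero (pow_ne_zero _ (t_prime hπ).ne_zero) (pow_ne_zero _ (e_prime hπ).ne_zero)
  obtain ⟨m, hm⟩ : ∃ m, k = i₁ + m := ⟨k - i₁, by omega⟩
  have hrel : b * α + NodeAlg.e π * a = Γ * NodeAlg.t π ^ m := by
    have h2 : (NodeAlg.t π ^ i₁ * NodeAlg.e π ^ k) * (b * α + NodeAlg.e π * a) =
        (NodeAlg.t π ^ i₁ * NodeAlg.e π ^ k) * (Γ * NodeAlg.t π ^ m) := by
      rw [hΓ]
      have h3 : ((β : NodeAlg B π) - 1) * α + ((α : NodeAlg B π) - 1) =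
          algebraMap B (NodeAlg B π) γ * (NodeAlg.t π * NodeAlg.e π) ^ k := by
        linear_combination hαβ
      have h4 : (NodeAlg.t π * NodeAlg.e π) ^ k =
          (NodeAlg.t π ^ i₁ * NodeAlg.e π ^ k) * NodeAlg.t π ^ m := by
        rw [mul_pow]
        nth_rewrite 1 [hm]
        rw [pow_add]; ring
      rw [h4, hb, ha, pow_succ] at h3
      linear_combination h3
    exact mul_left_cancel₀ hD1 h2
  have hfix' : fixIdeal σ = Ideal.span ({(NodeAlg.t π ^ i₁ * NodeAlg.e π ^ (k + 1)) *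
      (NodeAlg.t π * a), (NodeAlg.t π ^ i₁ * NodeAlg.e π ^ (k + 1)) * b} :
        Set (NodeAlg B π)) := by
    rw [hfix, ha, hb]
    congr 2 <;> ring_nf
  rw [hfix', colon_span_pair_mul _ _ _ hD0]
  have e1 : k - i₁ = m := by omega
  have e2 : k + 1 - i₁ = m + 1 := by omega
  rw [e1, e2]
  exact core_19597 _ _ (t_prime hπ) (e_prime hπ) (t_not_dvd_e hπ) (e_not_dvd_t hπ) len_te
    a b α Γ m hrel htb

end Groth.Agent.Helper7.Node
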