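import Mathlib
import Groth.Agent.Helper7.Node7

set_option autoImplicit false
set_option linter.unusedSectionVars false
set_option linter.style.haveILetI false

namespace Groth.Agent.Helper7.Node

open MvPowerSeries IsLocalRing ArLef

universe u

/-- `len(A/I) = len(A/(I + (t))) + len(A/(I : t))` -/
theorem len_colon {A : Type*} [CommRing A] (I : Ideal A) (t : A) :
    Module.length A (A ⧸ I) =
      Module.length A (A ⧸ (I ⊔ Ideal.span {t})) +
        Module.length A (A ⧸ I.colon ({t} : Set A)) := by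
  set K : Ideal A := I.colon ({t} : Set A) with hK
  set L : Ideal A := I ⊔ Ideal.span {t} with hL
  have hK1 : ∀ x ∈ K, t * x ∈ I := by
    intro x hx
    rw [hK, Submodule.mem_colon_singleton, smul_eq_mul] at hx
    rw [mul_comm]; exact hx
  let f : (A ⧸ K) →ₗ[A] (A ⧸ I) :=
    Submodule.mapQ K I (t • (LinearMap.id : A →ₗ[A] A)) (fun x hx => hK1 x hx)
  let g : (A ⧸ I) →ₗ[A] (A ⧸ L) := Submodule.mapQ I L LinearMap.id (fun x hx => Ideal.mem_sup_left hx)
  have hf : ∀ x : A, f (Submodule.Quotient.mk x) = Submodule.Quotient.mk (t * x) := fun x => rfl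
  have hg : ∀ x : A, g (Submodule.Quotient.mk x) = Submodule.Quotient.mk x := fun x => rfl
  have hfinj : Function.Injective f := by
    rw [injective_iff_map_eq_zero]
    intro z hz
    obtain ⟨x, rfl⟩ := Submodule.mkQ_surjective K z
    rw [Submodule.mkQ_apply] at hz ⊢
    rw [hf, Submodule.Quotient.mk_eq_zero] at hz
    rw [Submodule.Quotient.mk_eq_zero, hK, Submodule.mem_colon_singleton, smul_eq_mul, mul_comm]
    exact hz
  have hgsurj : Function.Surjective g := by
    intro z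
    obtain ⟨x, rfl⟩ := Submodule.mkQ_surjective L z
    exact ⟨Submodule.Quotient.mk x, rfl⟩
  have hex : Function.Exact f g := by
    intro z
    obtain ⟨y, rfl⟩ := Submodule.mkQ_surjective I z
    rw [Submodule.mkQ_apply, hg, Submodule.Quotient.mk_eq_zero]
    constructor
    · intro hy
      obtain ⟨i, hi, s, hs, rfl⟩ := Submodule.mem_sup.mp hy
      obtain ⟨c, rfl⟩ := Ideal.mem_span_singleton'.mp hs
      refine ⟨Submodule.Quotient.mk c, ?_⟩
      rw [hf, eq_comm, ← sub_eq_zero, ← Submodule.Quotient.mk_sub, Submodule.Quotient.mk_eq_zero]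
      have : i + c * t - t * c = i := by ring
      rw [this]; exact hi
    · rintro ⟨w, hw⟩
      obtain ⟨c, rfl⟩ := Submodule.mkQ_surjective K w
      rw [Submodule.mkQ_apply, hf] at hw
      have h5 : y - t * c ∈ I := by
        rw [← Submodule.Quotient.mk_eq_zero, Submodule.Quotient.mk_sub, hw, sub_self]
      have : y = (y - t * c) + t * c := by ring
      rw [this]
      exact L.add_mem (Ideal.mem_sup_left h5)
        (Ideal.mem_sup_right (Ideal.mul_mem_right _ _ (Ideal.mem_span_singleton_self t)))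
  rw [Module.length_eq_add_of_exact f g hfinj hgsurj hex, add_comm]

section field

variable {k : Type u} [Field k]

/-- `X 0 * X 1 - C 0 = X 0 * X 1` -/
lemma DD0 : (X 0 * X 1 - C (0 : k) : MvPowerSeries (Fin 2) k) = X 0 * X 1 := by
  rw [map_zero, sub_zero]

noncomputable abbrev mk0 : MvPowerSeries (Fin 2) k →+* NodeAlg k 0 := Ideal.Quotient.mk _

lemma mk0_eq_zero_iff (F : MvPowerSeries (Fin 2) k) :
    mk0 F = 0 ↔ ∃ G, F = G * (X 0 * X 1) := by
  rw [Ideal.Quotient.eq_zero_iff_mem, Ideal.mem_span_singleton', DD0]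
  constructor
  · rintro ⟨G, hG⟩; exact ⟨G, hG.symm⟩
  · rintro ⟨G, hG⟩; exact ⟨G, hG.symm⟩

lemma te0 : NodeAlg.t (0 : k) * NodeAlg.e (0 : k) = 0 := by
  change mk0 (X 0) * mk0 (X 1) = 0
  rw [← map_mul, mk0_eq_zero_iff]
  exact ⟨1, by ring⟩

/-- the constant-term map `k[[x,y]]/(xy) → k` -/
noncomputable def κ : NodeAlg k 0 →+* k :=
  Ideal.Quotient.lift _ (constantCoeff (σ := Fin 2) (R := k)) (by
    intro x hx
    obtain ⟨c, rfl⟩ := Ideal.mem_span_singleton'.mp hx
    rw [DD0, map_mul, map_mul, constantCoeff_X, zero_mul, mul_zero])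

lemma κ_mk (F : MvPowerSeries (Fin 2) k) : κ (mk0 F) = constantCoeff F := rfl

instance node0_nontrivial : Nontrivial (NodeAlg k 0) := (κ (k := k)).domain_nontrivial

instance node0_isLocalRing : IsLocalRing (NodeAlg k 0) :=
  IsLocalRing.of_surjective' (mk0 (k := k)) Ideal.Quotient.mk_surjective

lemma node0_dec (r : NodeAlg k 0) : ∃ b ∈ Set.range (algebraMap k (NodeAlg k 0)),
    r - b ∈ Ideal.span ({NodeAlg.t (0 : k), NodeAlg.e (0 : k)} : Set (NodeAlg k 0)) := by
  obtain ⟨F, rfl⟩ := Ideal.Quotient.mk_surjective r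
  obtain ⟨F₁, G₁, hF⟩ := exists_decomp_fin2 F
  refine ⟨algebraMap k _ (constantCoeff F), ⟨_, rfl⟩, ?_⟩
  have : mk0 F - algebraMap k (NodeAlg k 0) (constantCoeff F) =
      NodeAlg.t (0 : k) * mk0 F₁ + NodeAlg.e (0 : k) * mk0 G₁ := by
    have h1 : algebraMap k (NodeAlg k 0) (constantCoeff F) = mk0 (C (constantCoeff F)) := rfl
    rw [h1]
    nth_rewrite 1 [hF]
    rw [map_add, map_add, map_mul, map_mul]
    ring
  change mk0 F - _ ∈ _
  rw [this]
  exact Ideal.add_mem _ (Ideal.mul_mem_right _ _ (Ideal.subset_span (by simp)))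
    (Ideal.mul_mem_right _ _ (Ideal.subset_span (by simp)))

lemma te0_subset_maximalIdeal :
    ({NodeAlg.t (0 : k), NodeAlg.e (0 : k)} : Set (NodeAlg k 0)) ⊆ maximalIdeal (NodeAlg k 0) := by
  have h : ∀ i : Fin 2, mk0 (X i : MvPowerSeries (Fin 2) k) ∈ maximalIdeal (NodeAlg k 0) := by
    intro i hu
    have := hu.map (κ (k := k))
    rw [κ_mk, constantCoeff_X] at this
    exact not_isUnit_zero this
  rintro _ (rfl | rfl)
  · exact h 0
  · exact h 1

lemma maximalIdeal0_eq : maximalIdeal (NodeAlg k 0) =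
    Ideal.span ({NodeAlg.t (0 : k), NodeAlg.e (0 : k)} : Set (NodeAlg k 0)) := by
  apply le_antisymm
  · intro r hr
    obtain ⟨_, ⟨b, rfl⟩, hb⟩ := node0_dec r
    have h1 : algebraMap k (NodeAlg k 0) b ∈ maximalIdeal (NodeAlg k 0) := by
      have : algebraMap k (NodeAlg k 0) b = r - (r - algebraMap k (NodeAlg k 0) b) := by ring
      rw [this]
      exact Ideal.sub_mem _ hr (Ideal.span_le.mpr te0_subset_maximalIdeal hb)
    have h2 : ¬ IsUnit b := fun h => h1 (h.map (algebraMap k (NodeAlg k 0)))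
    have h3 : b = 0 := by
      by_contra h; exact h2 (isUnit_iff_ne_zero.mpr h)
    rw [h3, RingHom.map_zero (algebraMap k (NodeAlg k 0)), sub_zero r] at hb
    exact hb
  · exact Ideal.span_le.mpr te0_subset_maximalIdeal

lemma len_te0 : Module.length (NodeAlg k 0) (NodeAlg k 0 ⧸
    Ideal.span ({NodeAlg.t (0 : k), NodeAlg.e (0 : k)} : Set (NodeAlg k 0))) = 1 := by
  rw [← maximalIdeal0_eq]
  exact len_quot_maximal _

/-- `(t) ∩ (e) = 0` -/
lemma t_mul_eq_e_mul (r s : NodeAlg k 0) (h : NodeAlg.t (0 : k) * r = NodeAlg.e (0 : k) * s) :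
    NodeAlg.t (0 : k) * r = 0 := by
  obtain ⟨F, rfl⟩ := Ideal.Quotient.mk_surjective r
  obtain ⟨G, rfl⟩ := Ideal.Quotient.mk_surjective s
  change mk0 (X 0) * mk0 F = mk0 (X 1) * mk0 G at h
  rw [← map_mul, ← map_mul, ← sub_eq_zero, ← map_sub, mk0_eq_zero_iff] at h
  obtain ⟨H, hH⟩ := h
  have h1 : X 0 * F = X 1 * (G + H * X 0) := by linear_combination hH
  have h2 := congrArg (zeroAt (1 : Fin 2)) h1
  rw [map_mul, map_mul, zeroAt_X_self, zero_mul, zeroAt_X_ne (by decide)] at h2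
  have h3 : zeroAt (1 : Fin 2) F = 0 := (mul_eq_zero.mp h2).resolve_left (X_ne_zero' 0)
  obtain ⟨F', rfl⟩ := (zeroAt_eq_zero_iff 1 F).mp h3
  change mk0 (X 0) * mk0 (X 1 * F') = 0
  rw [← map_mul, mk0_eq_zero_iff]
  exact ⟨F', by ring⟩

/-- `ann(t) = (e)` -/
lemma e_dvd_of_t_mul_eq_zero (r : NodeAlg k 0) (h : NodeAlg.t (0 : k) * r = 0) :
    NodeAlg.e (0 : k) ∣ r := by
  obtain ⟨F, rfl⟩ := Ideal.Quotient.mk_surjective r
  change mk0 (X 0) * mk0 F = 0 at h
  rw [← map_mul, mk0_eq_zero_iff] at h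
  obtain ⟨H, hH⟩ := h
  have h1 : F = H * X 1 := by
    have : X 0 * F = X 0 * (H * X 1) := by rw [hH]; ring
    exact mul_left_cancel₀ (X_ne_zero' (S := k) 0) this
  refine ⟨mk0 H, ?_⟩
  change mk0 F = mk0 (X 1) * mk0 H
  rw [h1, map_mul, mul_comm]

lemma t_regular_mod_e : IsSMulRegular (NodeAlg k 0 ⧸ Ideal.span ({NodeAlg.e (0 : k)} :
    Set (NodeAlg k 0))) (NodeAlg.t (0 : k)) := by
  intro x y hxy
  obtain ⟨x, rfl⟩ := Ideal.Quotient.mk_surjective x
  obtain ⟨y, rfl⟩ := Ideal.Quotient.mk_surjective y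
  have h1 : Ideal.Quotient.mk (Ideal.span ({NodeAlg.e (0 : k)} : Set (NodeAlg k 0)))
      (NodeAlg.t (0 : k) * x) =
      Ideal.Quotient.mk (Ideal.span ({NodeAlg.e (0 : k)} : Set (NodeAlg k 0)))
        (NodeAlg.t (0 : k) * y) := hxy
  rw [Ideal.Quotient.eq, Ideal.mem_span_singleton] at h1 ⊢
  obtain ⟨s, hs⟩ := h1
  rw [← mul_sub] at hs
  exact e_dvd_of_t_mul_eq_zero _ (t_mul_eq_e_mul _ _ hs)

theorem main_15325
    (σ : ArLef.NodeAlg k 0 ≃ₐ[k] ArLef.NodeAlg k 0) (α β : (ArLef.NodeAlg k 0)ˣ)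
    (ht : σ (ArLef.NodeAlg.t (0 : k)) = (α : ArLef.NodeAlg k 0) * ArLef.NodeAlg.t (0 : k))
    (he : σ (ArLef.NodeAlg.e (0 : k)) = (β : ArLef.NodeAlg k 0) * ArLef.NodeAlg.e (0 : k)) :
    Module.length (ArLef.NodeAlg k 0) (ArLef.NodeAlg k 0 ⧸ ArLef.fixIdeal σ) + 1 =
      Module.length (ArLef.NodeAlg k 0) (ArLef.NodeAlg k 0 ⧸ (ArLef.fixIdeal σ ⊔
        Ideal.span ({ArLef.NodeAlg.t (0 : k)} : Set (ArLef.NodeAlg k 0)))) +
        Module.length (ArLef.NodeAlg k 0) (ArLef.NodeAlg k 0 ⧸ (ArLef.fixIdeal σ ⊔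
          Ideal.span ({ArLef.NodeAlg.e (0 : k)} : Set (ArLef.NodeAlg k 0)))) := by
  have hfix : fixIdeal σ = Ideal.span ({((α : NodeAlg k 0) - 1) * NodeAlg.t (0 : k),
      ((β : NodeAlg k 0) - 1) * NodeAlg.e (0 : k)} : Set (NodeAlg k 0)) := by
    apply le_antisymm
    · apply fixIdeal_eq (σ : NodeAlg k 0 ≃+* NodeAlg k 0) (Set.range (algebraMap k (NodeAlg k 0)))
        ({NodeAlg.t (0 : k), NodeAlg.e (0 : k)} : Set (NodeAlg k 0)) te0_subset_maximalIdeal
        node0_dec
      · rintro _ ⟨b, rfl⟩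
        rw [AlgEquiv.coe_ringEquiv, AlgEquiv.commutes, sub_self]
        exact Ideal.zero_mem _
      · intro g hg
        rcases hg with hg | hg
        · rw [hg, AlgEquiv.coe_ringEquiv, ht]
          have : (α : NodeAlg k 0) * NodeAlg.t (0 : k) - NodeAlg.t (0 : k) =
              ((α : NodeAlg k 0) - 1) * NodeAlg.t (0 : k) := by ring
          rw [this]; exact Ideal.subset_span (by simp)
        · rw [Set.mem_singleton_iff.mp hg, AlgEquiv.coe_ringEquiv, he]
          have : (β : NodeAlg k 0) * NodeAlg.e (0 : k) - NodeAlg.e (0 : k) =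
              ((β : NodeAlg k 0) - 1) * NodeAlg.e (0 : k) := by ring
          rw [this]; exact Ideal.subset_span (by simp)
    · apply span_pair_le
      · have : ((α : NodeAlg k 0) - 1) * NodeAlg.t (0 : k) =
            σ (NodeAlg.t (0 : k)) - NodeAlg.t (0 : k) := by rw [ht]; ring
        rw [this]; exact sub_mem_fixIdeal _ _
      · have : ((β : NodeAlg k 0) - 1) * NodeAlg.e (0 : k) =
            σ (NodeAlg.e (0 : k)) - NodeAlg.e (0 : k) := by rw [he]; ring
        rw [this]; exact sub_mem_fixIdeal _ _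
  -- the colon ideal
  have hcolon : (fixIdeal σ).colon ({NodeAlg.t (0 : k)} : Set (NodeAlg k 0)) =
      Ideal.span ({(α : NodeAlg k 0) - 1, NodeAlg.e (0 : k)} : Set (NodeAlg k 0)) := by
    rw [hfix]
    ext r
    rw [Submodule.mem_colon_singleton, smul_eq_mul]
    constructor
    · intro hr
      obtain ⟨u, v, huv⟩ := Ideal.mem_span_pair.mp hr
      have h1 : NodeAlg.t (0 : k) * (r - u * ((α : NodeAlg k 0) - 1)) =
          NodeAlg.e (0 : k) * (v * ((β : NodeAlg k 0) - 1)) := by linear_combination -huv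
      obtain ⟨w, hw⟩ := e_dvd_of_t_mul_eq_zero _ (t_mul_eq_e_mul _ _ h1)
      rw [Ideal.mem_span_pair]
      exact ⟨u, w, by linear_combination -hw⟩
    · intro hr
      obtain ⟨u, v, rfl⟩ := Ideal.mem_span_pair.mp hr
      rw [Ideal.mem_span_pair]
      exact ⟨u, 0, by linear_combination (-v) * te0 (k := k)⟩
  -- I ⊔ (e)
  have hIe : fixIdeal σ ⊔ Ideal.span ({NodeAlg.e (0 : k)} : Set (NodeAlg k 0)) =
      Ideal.span ({NodeAlg.t (0 : k) * ((α : NodeAlg k 0) - 1), NodeAlg.e (0 : k)} :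
        Set (NodeAlg k 0)) := by
    rw [hfix]
    apply le_antisymm
    · rw [sup_le_iff]
      constructor
      · apply span_pair_le
        · rw [mul_comm ((α : NodeAlg k 0) - 1) (NodeAlg.t (0 : k))]
          exact Ideal.subset_span (by simp)
        · exact Ideal.mul_mem_left _ _ (Ideal.subset_span (by simp))
      · rw [Ideal.span_singleton_le_iff_mem]; exact Ideal.subset_span (by simp)
    · apply span_pair_le
      · rw [mul_comm (NodeAlg.t (0 : k)) ((α : NodeAlg k 0) - 1)]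
        exact Ideal.mem_sup_left (Ideal.subset_span (by simp))
      · exact Ideal.mem_sup_right (Ideal.mem_span_singleton_self _)
  rw [len_colon (fixIdeal σ) (NodeAlg.t (0 : k)), hcolon, hIe,
    len_mul (NodeAlg.t (0 : k)) (NodeAlg.e (0 : k)) ((α : NodeAlg k 0) - 1) t_regular_mod_e,
    len_te0]
  ring

end field

end Groth.Agent.Helper7.Node
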