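import Mathlib

set_option autoImplicit false
set_option linter.style.haveILetI false
set_option linter.unusedSectionVars false

/-! UFD approximation lemma for node factorizations. -/

namespace Groth.Agent.Helper7.NodeFacA

open IsLocalRing

section UFD

variable {S : Type*} [CommRing S] [IsNoetherianRing S] [IsLocalRing S]

lemma exists_pow_not_mem (J : Ideal S) (t : S) (ht : t ∉ J) :
    ∃ N, t ∉ J ⊔ maximalIdeal S ^ N := by
  by_contra hcon
  push Not at hcon
  apply ht
  have h0 : (Ideal.Quotient.mk J t : S ⧸ J) = 0 := by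
    have hH : IsHausdorff (maximalIdeal S) (S ⧸ J) := inferInstance
    apply hH.haus
    intro n
    rw [SModEq.zero]
    obtain ⟨j, hj, x, hx, hjx⟩ := Submodule.mem_sup.mp (hcon n)
    have : (Ideal.Quotient.mk J t : S ⧸ J) = x • (1 : S ⧸ J) := by
      rw [← hjx, map_add, Ideal.Quotient.eq_zero_iff_mem.mpr hj, zero_add, Algebra.smul_def,
        mul_one]
      rfl
    rw [this]
    exact Submodule.smul_mem_smul hx Submodule.mem_top
  exact Ideal.Quotient.eq_zero_iff_mem.mp h0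

variable [IsDomain S] [UniqueFactorizationMonoid S]

lemma finite_span_dvd (Δ : S) (hΔ : Δ ≠ 0) :
    {J : Ideal S | ∃ d, d ∣ Δ ∧ J = Ideal.span {d}}.Finite := by
  have hne : Associates.mk Δ ≠ 0 := by
    rwa [Ne, Associates.mk_eq_zero]
  haveI : Fintype {x : Associates S // x ∣ Associates.mk Δ} :=
    UniqueFactorizationMonoid.fintypeSubtypeDvd _ hne
  have hfin : (Set.range fun x : {x : Associates S // x ∣ Associates.mk Δ} =>
      Ideal.span {Quot.out (x : Associates S)}).Finite := Set.finite_range _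
  refine hfin.subset ?_
  rintro J ⟨d, hd, rfl⟩
  refine ⟨⟨Associates.mk d, Associates.mk_dvd_mk.mpr hd⟩, ?_⟩
  simp only
  rw [Ideal.span_singleton_eq_span_singleton]
  exact Associates.mk_eq_mk_iff_associated.mp (Associates.quot_out (Associates.mk d))

lemma exists_uniform (Δ t : S) (hΔ : Δ ≠ 0) :
    ∃ N, ∀ d, d ∣ Δ → ¬ d ∣ t → t ∉ Ideal.span {d} ⊔ maximalIdeal S ^ N := by
  classical
  have hfin := finite_span_dvd Δ hΔ
  have hex : ∀ J : Ideal S, ∃ N, t ∉ J → t ∉ J ⊔ maximalIdeal S ^ N := by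
    intro J
    by_cases h : t ∈ J
    · exact ⟨0, fun h' => absurd h h'⟩
    · obtain ⟨N, hN⟩ := exists_pow_not_mem J t h
      exact ⟨N, fun _ => hN⟩
  choose Nf hNf using hex
  refine ⟨hfin.toFinset.sup Nf, fun d hd hdt hmem => ?_⟩
  have hJ : Ideal.span {d} ∈ hfin.toFinset := by
    rw [Set.Finite.mem_toFinset]
    exact ⟨d, hd, rfl⟩
  have hle : Nf (Ideal.span {d}) ≤ hfin.toFinset.sup Nf := Finset.le_sup hJ
  have hnot : t ∉ Ideal.span {d} := by
    rwa [Ideal.mem_span_singleton]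
  apply hNf _ hnot
  have hle2 : Ideal.span {d} ⊔ maximalIdeal S ^ hfin.toFinset.sup Nf ≤
      Ideal.span {d} ⊔ maximalIdeal S ^ Nf (Ideal.span {d}) :=
    sup_le_sup_left (Ideal.pow_le_pow_right hle) _
  exact hle2 hmem

theorem ufd_approx (Δ t₁ t₂ : S) (hΔ : Δ ≠ 0) (ht : t₁ * t₂ = Δ) :
    ∃ N, ∀ a b : S, a * b = Δ → a - t₁ ∈ maximalIdeal S ^ N → b - t₂ ∈ maximalIdeal S ^ N →
      Associated a t₁ ∧ Associated b t₂ := by
  obtain ⟨N₁, hN₁⟩ := exists_uniform Δ t₁ hΔ
  obtain ⟨N₂, hN₂⟩ := exists_uniform Δ t₂ hΔ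
  refine ⟨max N₁ N₂, fun a b hab ha hb => ?_⟩
  have ha1 : a ∣ t₁ := by
    by_contra hcon
    apply hN₁ a ⟨b, hab.symm⟩ hcon
    have : t₁ = a - (a - t₁) := by ring
    rw [this]
    exact Submodule.sub_mem _ (Ideal.mem_sup_left (Ideal.mem_span_singleton_self a))
      (Ideal.mem_sup_right (Ideal.pow_le_pow_right (le_max_left _ _) ha))
  have hb1 : b ∣ t₂ := by
    by_contra hcon
    apply hN₂ b ⟨a, by rw [← hab, mul_comm]⟩ hcon
    have : t₂ = b - (b - t₂) := by ring
    rw [this]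
    exact Submodule.sub_mem _ (Ideal.mem_sup_left (Ideal.mem_span_singleton_self b))
      (Ideal.mem_sup_right (Ideal.pow_le_pow_right (le_max_right _ _) hb))
  obtain ⟨c, hc⟩ := ha1
  obtain ⟨c', hc'⟩ := hb1
  have ha0 : a ≠ 0 := by
    rintro rfl
    rw [zero_mul] at hab
    exact hΔ hab.symm
  have hb0 : b ≠ 0 := by
    rintro rfl
    rw [mul_zero] at hab
    exact hΔ hab.symm
  have hcc : c * c' = 1 := by
    have h1 : (a * b) * (c * c') = (a * b) * 1 := by
      calc (a * b) * (c * c') = (a * c) * (b * c') := by ring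
        _ = t₁ * t₂ := by rw [← hc, ← hc']
        _ = a * b := by rw [ht, hab]
        _ = a * b * 1 := (mul_one _).symm
    exact mul_left_cancel₀ (mul_ne_zero ha0 hb0) h1
  refine ⟨⟨⟨c, c', hcc, by rw [mul_comm]; exact hcc⟩, hc.symm⟩,
    ⟨⟨c', c, by rw [mul_comm]; exact hcc, hcc⟩, hc'.symm⟩⟩

end UFD

end Groth.Agent.Helper7.NodeFacA
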