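import Mathlib

set_option autoImplicit false
set_option linter.style.haveILetI false
set_option linter.unusedSectionVars false

/-! Maps between adic completions induced by ring homs, and a continuity lemma. -/

namespace Groth.Agent.Helper7.NodeFacB

open IsLocalRing AdicCompletion

section Gen

variable {A : Type*} [CommRing A] (I : Ideal A)

lemma factorPow_evalₐ {m n : ℕ} (hle : m ≤ n) (x : AdicCompletion I A) :
    Ideal.Quotient.factorPow I hle (evalₐ I n x) = evalₐ I m x := by
  obtain ⟨s, rfl⟩ := AdicCompletion.mk_surjective I A x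
  rw [evalₐ_mk, evalₐ_mk]
  change Ideal.Quotient.mk (I ^ m) (s.val n) = _
  exact AdicCompletion.Ideal.mk_eq_mk I hle s

lemma map_le_ker_evalₐ (n : ℕ) :
    (I ^ n).map (algebraMap A (AdicCompletion I A)) ≤ RingHom.ker (evalₐ I n).toRingHom := by
  rw [Ideal.map_le_iff_le_comap]
  intro a ha
  rw [Ideal.mem_comap, RingHom.mem_ker]
  change evalₐ I n (algebraMap A (AdicCompletion I A) a) = 0
  rw [AdicCompletion.algebraMap_apply, Algebra.algebraMap_self, RingHom.id_apply, evalₐ_of]
  exact Ideal.Quotient.eq_zero_iff_mem.mpr ha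

lemma mem_map_of_evalₐ_eq_zero (hfg : I.FG) (n : ℕ) (x : AdicCompletion I A)
    (hx : evalₐ I n x = 0) : x ∈ (I ^ n).map (algebraMap A (AdicCompletion I A)) := by
  have h1 : eval I A n x = 0 := by
    have hle : I ^ n ≤ I ^ n • (⊤ : Ideal A) := by
      rw [smul_eq_mul, Ideal.mul_top]
    rw [← factor_evalₐ_eq_eval I x hle, hx, _root_.map_zero]
  have h2 : x ∈ (I ^ n • ⊤ : Submodule A (AdicCompletion I A)) := by
    rw [pow_smul_top_eq_ker_eval hfg]
    exact h1
  rw [Ideal.smul_top_eq_map] at h2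
  exact h2

lemma evalₐ_eq_zero_iff (hfg : I.FG) (n : ℕ) (x : AdicCompletion I A) :
    evalₐ I n x = 0 ↔ x ∈ (I ^ n).map (algebraMap A (AdicCompletion I A)) :=
  ⟨mem_map_of_evalₐ_eq_zero I hfg n x, fun h => map_le_ker_evalₐ I n h⟩

lemma exists_sub_mem (hfg : I.FG) (n : ℕ) (x : AdicCompletion I A) :
    ∃ a : A, x - algebraMap A (AdicCompletion I A) a ∈
      (I ^ n).map (algebraMap A (AdicCompletion I A)) := by
  obtain ⟨a, ha⟩ := Ideal.Quotient.mk_surjective (evalₐ I n x)
  refine ⟨a, ?_⟩
  rw [← evalₐ_eq_zero_iff I hfg, map_sub, AdicCompletion.algebraMap_apply, Algebra.algebraMap_self,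
    RingHom.id_apply, evalₐ_of, ha, sub_self]

end Gen

section Hat

variable {A B : Type*} [CommRing A] [CommRing B] (I : Ideal A) (J : Ideal B) (g : A →+* B)
  (hg : I ≤ J.comap g)

include hg in
lemma pow_le_comap (n : ℕ) : I ^ n ≤ (J ^ n).comap g :=
  (Ideal.pow_right_mono hg n).trans (Ideal.le_comap_pow g n)

/-- the compatible family defining `hat` -/
noncomputable def fam (n : ℕ) : AdicCompletion I A →+* B ⧸ J ^ n :=
  (Ideal.quotientMap (J ^ n) g (pow_le_comap I J g hg n)).comp (evalₐ I n).toRingHom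

lemma fam_compat {m n : ℕ} (hle : m ≤ n) :
    (Ideal.Quotient.factorPow J hle).comp (fam I J g hg n) = fam I J g hg m := by
  apply RingHom.ext
  intro x
  change Ideal.Quotient.factorPow J hle
    (Ideal.quotientMap (J ^ n) g (pow_le_comap I J g hg n) (evalₐ I n x)) =
    Ideal.quotientMap (J ^ m) g (pow_le_comap I J g hg m) (evalₐ I m x)
  rw [← factorPow_evalₐ I hle x]
  obtain ⟨a, ha⟩ := Ideal.Quotient.mk_surjective (evalₐ I n x)
  rw [← ha]
  rfl

/-- the map on completions induced by a ring hom compatible with the ideals -/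
noncomputable def hat : AdicCompletion I A →+* AdicCompletion J B :=
  AdicCompletion.liftRingHom J (fam I J g hg) (fun hle => fam_compat I J g hg hle)

lemma evalₐ_hat (n : ℕ) (x : AdicCompletion I A) :
    evalₐ J n (hat I J g hg x) =
      Ideal.quotientMap (J ^ n) g (pow_le_comap I J g hg n) (evalₐ I n x) :=
  AdicCompletion.evalₐ_liftRingHom J (fam I J g hg) (fun hle => fam_compat I J g hg hle) n x

lemma hat_of (a : A) :
    hat I J g hg (algebraMap A (AdicCompletion I A) a) =
      algebraMap B (AdicCompletion J B) (g a) := by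
  apply AdicCompletion.ext_evalₐ
  intro n
  rw [evalₐ_hat, AdicCompletion.algebraMap_apply, AdicCompletion.algebraMap_apply,
    Algebra.algebraMap_self, Algebra.algebraMap_self, RingHom.id_apply, RingHom.id_apply, evalₐ_of,
    evalₐ_of, Ideal.quotientMap_mk]

end Hat

section Cont

lemma sub_mem_of_forall_of {A : Type*} [CommRing A] (I : Ideal A) (hfg : I.FG)
    {S : Type*} [CommRing S] (K : Ideal S) (φ₁ φ₂ : AdicCompletion I A →+* S)
    (h₁ : ∀ a ∈ I, φ₁ (algebraMap A (AdicCompletion I A) a) ∈ K)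
    (h₂ : ∀ a ∈ I, φ₂ (algebraMap A (AdicCompletion I A) a) ∈ K) (N : ℕ)
    (h : ∀ a, φ₁ (algebraMap A (AdicCompletion I A) a) -
      φ₂ (algebraMap A (AdicCompletion I A) a) ∈ K ^ N)
    (x : AdicCompletion I A) : φ₁ x - φ₂ x ∈ K ^ N := by
  have key : ∀ φ : AdicCompletion I A →+* S,
      (∀ a ∈ I, φ (algebraMap A (AdicCompletion I A) a) ∈ K) →
      ∀ y ∈ (I ^ N).map (algebraMap A (AdicCompletion I A)), φ y ∈ K ^ N := by
    intro φ hφ y hy
    have h1 : I.map (algebraMap A (AdicCompletion I A)) ≤ K.comap φ := by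
      rw [Ideal.map_le_iff_le_comap]
      intro a ha
      exact hφ a ha
    have h2 : (I ^ N).map (algebraMap A (AdicCompletion I A)) ≤ (K ^ N).comap φ := by
      rw [Ideal.map_pow]
      exact (Ideal.pow_right_mono h1 N).trans (Ideal.le_comap_pow φ N)
    exact h2 hy
  obtain ⟨a, ha⟩ := exists_sub_mem I hfg N x
  have e : φ₁ x - φ₂ x = φ₁ (x - algebraMap A (AdicCompletion I A) a) -
      φ₂ (x - algebraMap A (AdicCompletion I A) a) +
      (φ₁ (algebraMap A (AdicCompletion I A) a) - φ₂ (algebraMap A (AdicCompletion I A) a)) := by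
    rw [map_sub, map_sub]
    ring
  rw [e]
  exact add_mem (sub_mem (key φ₁ h₁ _ ha) (key φ₂ h₂ _ ha)) (h a)

end Cont

end Groth.Agent.Helper7.NodeFacB
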