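import Mathlib

set_option autoImplicit false
set_option linter.style.haveILetI false
set_option linter.unusedSectionVars false
set_option maxHeartbeats 800000

/-! Artin approximation for retractions of essentially finite type algebras. -/

namespace Groth.Agent.Helper7.NodeFacC

open IsLocalRing

universe u

variable (R : Type u) [CommRing R] [IsLocalRing R] [IsNoetherianRing R]

/-- the Artin approximation property -/
def HasApprox : Prop :=
  ∀ (n m : ℕ) (F : Fin m → MvPolynomial (Fin n) R)
    (a : Fin n → AdicCompletion (maximalIdeal R) R),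
    (∀ j, MvPolynomial.eval a (MvPolynomial.map
      (algebraMap R (AdicCompletion (maximalIdeal R) R)) (F j)) = 0) → ∀ N : ℕ,
    ∃ b : Fin n → R, (∀ j, MvPolynomial.eval b (F j) = 0) ∧
      ∀ i, a i - algebraMap R (AdicCompletion (maximalIdeal R) R) (b i) ∈
        (maximalIdeal R ^ N).map (algebraMap R (AdicCompletion (maximalIdeal R) R))

lemma exists_enum {α : Type*} (σ : Finset α) : ∃ (n : ℕ) (c : Fin n → α), Set.range c = (σ : Set α) := by
  refine ⟨σ.card, fun i => ((σ.equivFin.symm i : σ) : α), ?_⟩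
  ext x
  constructor
  · rintro ⟨i, rfl⟩
    exact (σ.equivFin.symm i).2
  · intro hx
    exact ⟨σ.equivFin ⟨x, hx⟩, by simp⟩

lemma isLocalization_of_cond {C : Type u} [CommRing C] [Algebra R C] (B' : Subalgebra R C)
    (h : ∀ s : C, ∃ t ∈ B', IsUnit t ∧ s * t ∈ B') :
    IsLocalization ((IsUnit.submonoid C).comap (algebraMap B' C)) C := by
  constructor; constructor
  · exact fun y ↦ y.prop
  · intro s
    obtain ⟨t, ht, ht', h⟩ := h s
    exact ⟨⟨⟨_, h⟩, ⟨t, ht⟩, ht'⟩, rfl⟩
  · intro x y e
    exact ⟨1, by simpa using Subtype.ext e⟩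

/-- congruence of polynomial values -/
lemma aeval_sub_mem {T : Type*} [CommRing T] [Algebra R T] (K : Ideal T) {n : ℕ}
    (a a' : Fin n → T) (h : ∀ i, a i - a' i ∈ K) (P : MvPolynomial (Fin n) R) :
    MvPolynomial.aeval a P - MvPolynomial.aeval a' P ∈ K := by
  rw [← Ideal.Quotient.eq_zero_iff_mem, map_sub, sub_eq_zero]
  have e1 := MvPolynomial.comp_aeval_apply (f := a) (Ideal.Quotient.mkₐ R K) P
  have e2 := MvPolynomial.comp_aeval_apply (f := a') (Ideal.Quotient.mkₐ R K) P
  change Ideal.Quotient.mkₐ R K _ = Ideal.Quotient.mkₐ R K _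
  rw [e1, e2]
  have hfun : (fun i => Ideal.Quotient.mkₐ R K (a i)) = fun i => Ideal.Quotient.mkₐ R K (a' i) :=
    funext fun i => (Ideal.Quotient.mk_eq_mk_iff_sub_mem _ _).mpr (h i)
  rw [hfun]

theorem exists_retraction (happ : HasApprox R) (C : Type u) [CommRing C] [Algebra R C]
    [Algebra.EssFiniteType R C] (h : C →ₐ[R] AdicCompletion (maximalIdeal R) R) (N : ℕ) :
    ∃ g : C →ₐ[R] R, ∀ c, algebraMap R (AdicCompletion (maximalIdeal R) R) (g c) - h c ∈
      (maximalIdeal R ^ N).map (algebraMap R (AdicCompletion (maximalIdeal R) R)) := by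
  classical
  obtain ⟨σ, hσ⟩ := (Algebra.essFiniteType_iff R C).mp inferInstance
  obtain ⟨n, c, hc⟩ := exists_enum σ
  let φ : MvPolynomial (Fin n) R →ₐ[R] C := MvPolynomial.aeval c
  have hrange : φ.range = Algebra.adjoin R (σ : Set C) := by
    rw [MvPolynomial.aeval_range, hc]
  obtain ⟨Fs, hFs⟩ := (isNoetherian_def.mp (inferInstance : IsNoetherianRing (MvPolynomial (Fin n) R)))
    (RingHom.ker φ.toRingHom)
  obtain ⟨m, F, hF⟩ := exists_enum Fs
  let a : Fin n → AdicCompletion (maximalIdeal R) R := fun i => h (c i)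
  have hφF : ∀ j, φ (F j) = 0 := by
    intro j
    have : F j ∈ RingHom.ker φ.toRingHom := by
      rw [← hFs]
      apply Ideal.subset_span
      rw [← hF]
      exact ⟨j, rfl⟩
    exact this
  have haP : ∀ P : MvPolynomial (Fin n) R, MvPolynomial.aeval a P = h (φ P) := by
    intro P
    exact (MvPolynomial.comp_aeval_apply c h P).symm
  have ha : ∀ j, MvPolynomial.eval a (MvPolynomial.map
      (algebraMap R (AdicCompletion (maximalIdeal R) R)) (F j)) = 0 := by
    intro j
    rw [MvPolynomial.eval_map, ← MvPolynomial.aeval_def, haP, hφF, map_zero]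
  obtain ⟨b, hb0, hb⟩ := happ n m F a ha (N + 1)
  let g₀ : MvPolynomial (Fin n) R →ₐ[R] R := MvPolynomial.aeval b
  have hker : RingHom.ker φ.toRingHom ≤ RingHom.ker g₀.toRingHom := by
    rw [← hFs, Ideal.span_le]
    intro p hp
    rw [← hF] at hp
    obtain ⟨j, rfl⟩ := hp
    change MvPolynomial.aeval b (F j) = 0
    exact (RingHom.congr_fun (MvPolynomial.coe_aeval_eq_eval b) (F j)).trans (hb0 j)
  -- congruence
  set K : Ideal (AdicCompletion (maximalIdeal R) R) :=
    (maximalIdeal R ^ (N + 1)).map (algebraMap R (AdicCompletion (maximalIdeal R) R)) with hK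
  have hcong : ∀ P : MvPolynomial (Fin n) R,
      h (φ P) - algebraMap R (AdicCompletion (maximalIdeal R) R) (g₀ P) ∈ K := by
    intro P
    have e : algebraMap R (AdicCompletion (maximalIdeal R) R) (g₀ P) =
        MvPolynomial.aeval (fun i => algebraMap R (AdicCompletion (maximalIdeal R) R) (b i)) P :=
      MvPolynomial.comp_aeval_apply b (Algebra.ofId R (AdicCompletion (maximalIdeal R) R)) P
    rw [e, ← haP]
    exact aeval_sub_mem R K a _ hb P
  have hKm : K ≤ maximalIdeal (AdicCompletion (maximalIdeal R) R) := by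
    rw [AdicCompletion.maximalIdeal_eq_map]
    exact Ideal.map_mono (Ideal.pow_le_self (Nat.succ_ne_zero N))
  -- the subalgebra
  let B' : Subalgebra R C := φ.range
  have hcond : ∀ s : C, ∃ t ∈ B', IsUnit t ∧ s * t ∈ B' := by
    intro s
    obtain ⟨t, ht, htu, hst⟩ := hσ s
    refine ⟨t, ?_, htu, ?_⟩
    · show t ∈ φ.range
      rw [hrange]
      exact ht
    · show s * t ∈ φ.range
      rw [hrange]
      exact hst
  haveI hloc : IsLocalization ((IsUnit.submonoid C).comap (algebraMap B' C)) C :=
    isLocalization_of_cond R B' hcond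
  have hsurj : Function.Surjective φ.rangeRestrict.toRingHom := φ.rangeRestrict_surjective
  have hker' : RingHom.ker φ.rangeRestrict.toRingHom ≤ RingHom.ker g₀.toRingHom := by
    intro p hp
    apply hker
    rw [RingHom.mem_ker] at hp ⊢
    have := congrArg (Subtype.val) hp
    exact this
  let gB : B' →+* R := RingHom.liftOfSurjective φ.rangeRestrict.toRingHom hsurj ⟨g₀.toRingHom, hker'⟩
  have hgB : ∀ P, gB (φ.rangeRestrict P) = g₀ P := fun P =>
    RingHom.liftOfSurjective_comp_apply φ.rangeRestrict.toRingHom hsurj ⟨g₀.toRingHom, hker'⟩ P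
  have hunit : ∀ y : ((IsUnit.submonoid C).comap (algebraMap B' C)), IsUnit (gB y) := by
    rintro ⟨y, hy⟩
    obtain ⟨P, rfl⟩ := φ.rangeRestrict_surjective y
    change IsUnit (gB (φ.rangeRestrict P))
    rw [hgB]
    have hyu : IsUnit (φ P) := hy
    have h1 : IsUnit (h (φ P)) := hyu.map h
    have h2 : IsUnit (algebraMap R (AdicCompletion (maximalIdeal R) R) (g₀ P)) := by
      by_contra hnu
      have hm : algebraMap R (AdicCompletion (maximalIdeal R) R) (g₀ P) ∈
          maximalIdeal (AdicCompletion (maximalIdeal R) R) := (mem_maximalIdeal _).mpr hnu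
      have hm2 : h (φ P) ∈ maximalIdeal (AdicCompletion (maximalIdeal R) R) := by
        have := add_mem (hKm (hcong P)) hm
        rwa [sub_add_cancel] at this
      exact (mem_maximalIdeal _).mp hm2 h1
    exact isUnit_of_map_unit (algebraMap R (AdicCompletion (maximalIdeal R) R)) _ h2
  let gr : C →+* R := IsLocalization.lift (M := (IsUnit.submonoid C).comap (algebraMap B' C)) hunit
  have hgr : ∀ y : B', gr (algebraMap B' C y) = gB y := fun y => IsLocalization.lift_eq hunit y
  have hgrφ : ∀ P, gr (φ P) = g₀ P := by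
    intro P
    have : φ P = algebraMap B' C (φ.rangeRestrict P) := rfl
    rw [this, hgr, hgB]
  have hcomm : ∀ r : R, gr (algebraMap R C r) = algebraMap R R r := by
    intro r
    have : algebraMap R C r = φ (algebraMap R _ r) := (φ.commutes r).symm
    rw [this, hgrφ, g₀.commutes]
  let g : C →ₐ[R] R := { gr with commutes' := hcomm }
  refine ⟨g, ?_⟩
  -- agreement modulo K
  have hagree : (Ideal.Quotient.mk K).comp ((algebraMap R (AdicCompletion (maximalIdeal R) R)).comp gr) =
      (Ideal.Quotient.mk K).comp h.toRingHom := by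
    apply IsLocalization.ringHom_ext ((IsUnit.submonoid C).comap (algebraMap B' C))
    apply RingHom.ext
    intro y
    obtain ⟨P, rfl⟩ := φ.rangeRestrict_surjective y
    simp only [RingHom.comp_apply]
    change Ideal.Quotient.mk K (algebraMap R _ (gr (φ P))) = Ideal.Quotient.mk K (h (φ P))
    rw [hgrφ, eq_comm]
    exact (Ideal.Quotient.mk_eq_mk_iff_sub_mem _ _).mpr (hcong P)
  intro x
  have := RingHom.congr_fun hagree x
  simp only [RingHom.comp_apply] at this
  have hmem : algebraMap R (AdicCompletion (maximalIdeal R) R) (gr x) - h x ∈ K :=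
    (Ideal.Quotient.mk_eq_mk_iff_sub_mem _ _).mp this
  exact Ideal.map_mono (Ideal.pow_le_pow_right (Nat.le_succ N)) hmem

end Groth.Agent.Helper7.NodeFacC
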