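import Mathlib
import Groth.Agent.Helper7.NodeFacA
import Groth.Agent.Helper7.NodeFacB
import Groth.Agent.Helper7.NodeFacC
import Groth.Agent.Helper7.PSEval

set_option autoImplicit false
set_option linter.style.haveILetI false
set_option linter.unusedSectionVars false
set_option maxHeartbeats 800000

/-! Node factorization via Artin approximation. -/

namespace Groth.Agent.Helper7.NodeFacD

open IsLocalRing MvPowerSeries

universe u

section Ev

variable {S : Type*} [CommRing S] (I : Ideal S) [IsAdicComplete I S]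

theorem exists_ev (s₁ s₂ : S) (h₁ : s₁ ∈ I) (h₂ : s₂ ∈ I) (δ : S) (h : s₁ * s₂ = δ) :
    ∃ ev : (MvPowerSeries (Fin 2) S ⧸
        Ideal.span {(X 0 * X 1 - C δ : MvPowerSeries (Fin 2) S)}) →+* S,
      ev (Ideal.Quotient.mk _ (X 0)) = s₁ ∧ ev (Ideal.Quotient.mk _ (X 1)) = s₂ ∧
        ∀ s, ev (Ideal.Quotient.mk _ (C s)) = s := by
  obtain ⟨ψ₀, hψ₀⟩ := PSEval.exists_algHom_X (k := S) (R := S) I (σ := Fin 2) ![s₁, s₂] (by
    intro i
    fin_cases i
    · exact h₁
    · exact h₂)
  have hC : ∀ s, ψ₀ (C s) = s := by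
    intro s
    rw [c_eq_algebraMap, ψ₀.commutes]
    rfl
  have hker : ∀ a ∈ Ideal.span {(X 0 * X 1 - C δ : MvPowerSeries (Fin 2) S)},
      ψ₀.toRingHom a = 0 := by
    intro a ha
    have hle : Ideal.span {(X 0 * X 1 - C δ : MvPowerSeries (Fin 2) S)} ≤
        RingHom.ker ψ₀.toRingHom := by
      rw [Ideal.span_le]
      intro x hx
      rw [Set.mem_singleton_iff] at hx
      subst hx
      change ψ₀ (X 0 * X 1 - C δ) = 0
      rw [map_sub, map_mul, hψ₀, hψ₀, hC]
      simp [h]
    exact hle ha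
  refine ⟨Ideal.Quotient.lift _ ψ₀.toRingHom hker, ?_, ?_, ?_⟩
  · rw [Ideal.Quotient.lift_mk]
    change ψ₀ (X 0) = s₁
    rw [hψ₀]
    rfl
  · rw [Ideal.Quotient.lift_mk]
    change ψ₀ (X 1) = s₂
    rw [hψ₀]
    rfl
  · intro s
    rw [Ideal.Quotient.lift_mk]
    exact hC s

end Ev

section Main

variable (R : Type u) [CommRing R] [IsLocalRing R] [IsNoetherianRing R]

local notation "ι" => algebraMap R (AdicCompletion (maximalIdeal R) R)

lemma algebraMap_injective :
    Function.Injective (algebraMap R (AdicCompletion (maximalIdeal R) R)) := by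
  intro a b hab
  rw [AdicCompletion.algebraMap_apply, AdicCompletion.algebraMap_apply] at hab
  exact AdicCompletion.of_injective (maximalIdeal R) R hab

lemma retraction_local (C : Type u) [CommRing C] [IsLocalRing C] [Algebra R C]
    [IsLocalHom (algebraMap R C)] (g : C →ₐ[R] R) :
    maximalIdeal C ≤ (maximalIdeal R).comap g.toRingHom := by
  intro c hc
  rw [Ideal.mem_comap]
  by_contra hcon
  have hu : IsUnit (g c) := by
    by_contra h
    exact hcon ((mem_maximalIdeal _).mpr h)
  have hker : RingHom.ker g.toRingHom ≤ maximalIdeal C := by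
    apply le_maximalIdeal
    rw [Ne, Ideal.eq_top_iff_one, RingHom.mem_ker]
    change ¬ g 1 = 0
    rw [map_one]
    exact one_ne_zero
  have h1 : c - algebraMap R C (g c) ∈ RingHom.ker g.toRingHom := by
    rw [RingHom.mem_ker]
    change g (c - algebraMap R C (g c)) = 0
    rw [map_sub, g.commutes]
    exact sub_self _
  have h2 : algebraMap R C (g c) ∈ maximalIdeal C := by
    have := sub_mem hc (hker h1)
    rwa [sub_sub_cancel] at this
  exact (mem_maximalIdeal _).mp h2 (hu.map (algebraMap R C))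

variable [IsDomain (AdicCompletion (maximalIdeal R) R)]
  [UniqueFactorizationMonoid (AdicCompletion (maximalIdeal R) R)]

theorem main (happ : NodeFacC.HasApprox R)
    (hSN : IsNoetherianRing (AdicCompletion (maximalIdeal R) R))
    (Δ t₁ t₂ : R) (hΔ : Δ ≠ 0) (ht₁ : t₁ ∈ maximalIdeal R) (ht₂ : t₂ ∈ maximalIdeal R)
    (ht : t₁ * t₂ = Δ)
    (C : Type u) [CommRing C] [IsLocalRing C] [Algebra R C] [IsLocalHom (algebraMap R C)]
    [Algebra.EssFiniteType R C]
    (ψ : AdicCompletion (maximalIdeal C) C ≃+*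
      (MvPowerSeries (Fin 2) (AdicCompletion (maximalIdeal R) R) ⧸
        Ideal.span {(X 0 * X 1 - MvPowerSeries.C (algebraMap R (AdicCompletion (maximalIdeal R) R) Δ) :
          MvPowerSeries (Fin 2) (AdicCompletion (maximalIdeal R) R))}))
    (hψ : ψ.toRingHom.comp ((algebraMap C (AdicCompletion (maximalIdeal C) C)).comp (algebraMap R C)) =
      (Ideal.Quotient.mk _).comp ((MvPowerSeries.C : AdicCompletion (maximalIdeal R) R →+*
        MvPowerSeries (Fin 2) (AdicCompletion (maximalIdeal R) R)).comp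
          (algebraMap R (AdicCompletion (maximalIdeal R) R)))) :
    ∃ (g : C →ₐ[R] R) (ĝ : AdicCompletion (maximalIdeal C) C →+* AdicCompletion (maximalIdeal R) R),
      ĝ.comp (algebraMap C (AdicCompletion (maximalIdeal C) C)) =
        (algebraMap R (AdicCompletion (maximalIdeal R) R)).comp g.toRingHom ∧
      Ideal.span {ĝ (ψ.symm (Ideal.Quotient.mk _ (X 0)))} =
        Ideal.span {algebraMap R (AdicCompletion (maximalIdeal R) R) t₁} ∧
      Ideal.span {ĝ (ψ.symm (Ideal.Quotient.mk _ (X 1)))} =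
        Ideal.span {algebraMap R (AdicCompletion (maximalIdeal R) R) t₂} := by
  haveI : IsNoetherianRing C := Algebra.EssFiniteType.isNoetherianRing R C
  have hmS : maximalIdeal (AdicCompletion (maximalIdeal R) R) = (maximalIdeal R).map ι :=
    AdicCompletion.maximalIdeal_eq_map
  have hιm : ∀ r ∈ maximalIdeal R, ι r ∈ maximalIdeal (AdicCompletion (maximalIdeal R) R) := by
    intro r hr
    rw [hmS]
    exact Ideal.mem_map_of_mem _ hr
  have hpow : ∀ N, (maximalIdeal R ^ N).map ι =
      maximalIdeal (AdicCompletion (maximalIdeal R) R) ^ N := by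
    intro N
    rw [Ideal.map_pow, hmS]
  -- the evaluation map
  obtain ⟨ev, hev0, hev1, hevC⟩ := exists_ev (maximalIdeal (AdicCompletion (maximalIdeal R) R))
    (ι t₁) (ι t₂) (hιm t₁ ht₁) (hιm t₂ ht₂) (ι Δ) (by rw [← map_mul, ht])
  -- the formal retraction
  let ĥ : AdicCompletion (maximalIdeal C) C →+* AdicCompletion (maximalIdeal R) R :=
    ev.comp ψ.toRingHom
  let hr : C →+* AdicCompletion (maximalIdeal R) R :=
    ĥ.comp (algebraMap C (AdicCompletion (maximalIdeal C) C))
  have hψr : ∀ r : R, ψ (algebraMap C (AdicCompletion (maximalIdeal C) C) (algebraMap R C r)) =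
      Ideal.Quotient.mk _ (MvPowerSeries.C (ι r)) := fun r => RingHom.congr_fun hψ r
  have hcomm : ∀ r : R, hr (algebraMap R C r) = ι r := by
    intro r
    change ev (ψ (algebraMap C (AdicCompletion (maximalIdeal C) C) (algebraMap R C r))) = ι r
    rw [hψr, hevC]
  let h : C →ₐ[R] AdicCompletion (maximalIdeal R) R := { hr with commutes' := hcomm }
  -- the UFD bound
  have hΔ' : ι Δ ≠ 0 := by
    intro h0
    apply hΔ
    apply algebraMap_injective R
    rw [h0, map_zero]
  obtain ⟨N, hN⟩ := NodeFacA.ufd_approx (ι Δ) (ι t₁) (ι t₂) hΔ' (by rw [← map_mul, ht])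
  -- Artin approximation
  obtain ⟨g, hg⟩ := NodeFacC.exists_retraction R happ C h (N + 1)
  have hloc := retraction_local R C g
  let ĝ := NodeFacB.hat (maximalIdeal C) (maximalIdeal R) g.toRingHom hloc
  have hĝof : ∀ c : C, ĝ (algebraMap C (AdicCompletion (maximalIdeal C) C) c) = ι (g c) :=
    fun c => NodeFacB.hat_of (maximalIdeal C) (maximalIdeal R) g.toRingHom hloc c
  have hfg : (maximalIdeal C).FG := (maximalIdeal C).fg_of_isNoetherianRing
  -- closeness
  have hclose : ∀ x : AdicCompletion (maximalIdeal C) C,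
      ĝ x - ĥ x ∈ maximalIdeal (AdicCompletion (maximalIdeal R) R) ^ N := by
    intro x
    have hdiff : ∀ c : C, ĝ (algebraMap C (AdicCompletion (maximalIdeal C) C) c) -
        ĥ (algebraMap C (AdicCompletion (maximalIdeal C) C) c) ∈
        maximalIdeal (AdicCompletion (maximalIdeal R) R) ^ (N + 1) := by
      intro c
      rw [hĝof, ← hpow]
      exact hg c
    refine NodeFacB.sub_mem_of_forall_of (maximalIdeal C) hfg
      (maximalIdeal (AdicCompletion (maximalIdeal R) R)) ĝ ĥ ?_ ?_ N ?_ x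
    · intro c hc
      rw [hĝof]
      exact hιm _ (hloc hc)
    · intro c hc
      have h1 := hdiff c
      have h2 : ĝ (algebraMap C (AdicCompletion (maximalIdeal C) C) c) ∈
          maximalIdeal (AdicCompletion (maximalIdeal R) R) := by
        rw [hĝof]
        exact hιm _ (hloc hc)
      have h3 := sub_mem h2 (Ideal.pow_le_self (Nat.succ_ne_zero N) h1)
      rwa [sub_sub_cancel] at h3
    · intro c
      exact Ideal.pow_le_pow_right (Nat.le_succ N) (hdiff c)
  -- the two elements
  set a := ĝ (ψ.symm (Ideal.Quotient.mk _ (X 0))) with ha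
  set b := ĝ (ψ.symm (Ideal.Quotient.mk _ (X 1))) with hb
  have hab : a * b = ι Δ := by
    rw [ha, hb, ← map_mul, ← map_mul, ← map_mul]
    have e1 : (Ideal.Quotient.mk (Ideal.span {(X 0 * X 1 - MvPowerSeries.C (ι Δ) :
          MvPowerSeries (Fin 2) (AdicCompletion (maximalIdeal R) R))}) (X 0 * X 1)) =
        Ideal.Quotient.mk _ (MvPowerSeries.C (ι Δ)) := by
      rw [Ideal.Quotient.mk_eq_mk_iff_sub_mem]
      exact Ideal.mem_span_singleton_self _
    rw [e1, ← hψr, RingEquiv.symm_apply_apply, hĝof, g.commutes]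
    rfl
  have ha1 : a - ι t₁ ∈ maximalIdeal (AdicCompletion (maximalIdeal R) R) ^ N := by
    have := hclose (ψ.symm (Ideal.Quotient.mk _ (X 0)))
    have e : ĥ (ψ.symm (Ideal.Quotient.mk _ (X 0))) = ι t₁ := by
      change ev (ψ (ψ.symm (Ideal.Quotient.mk _ (X 0)))) = ι t₁
      rw [RingEquiv.apply_symm_apply, hev0]
    rwa [e] at this
  have hb1 : b - ι t₂ ∈ maximalIdeal (AdicCompletion (maximalIdeal R) R) ^ N := by
    have := hclose (ψ.symm (Ideal.Quotient.mk _ (X 1)))
    have e : ĥ (ψ.symm (Ideal.Quotient.mk _ (X 1))) = ι t₂ := by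
      change ev (ψ (ψ.symm (Ideal.Quotient.mk _ (X 1)))) = ι t₂
      rw [RingEquiv.apply_symm_apply, hev1]
    rwa [e] at this
  obtain ⟨has, hbs⟩ := hN a b hab ha1 hb1
  refine ⟨g, ĝ, ?_, ?_, ?_⟩
  · apply RingHom.ext
    intro c
    exact hĝof c
  · exact Ideal.span_singleton_eq_span_singleton.mpr has
  · exact Ideal.span_singleton_eq_span_singleton.mpr hbs

end Main

end Groth.Agent.Helper7.NodeFacD
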