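import Mathlib
import Groth.Agent.Helper7.Node0
import Groth.Agent.Helper7.NodeLen

set_option autoImplicit false
set_option linter.unusedSectionVars false
set_option linter.style.haveILetI false

namespace Groth.Agent.Helper7.Node

open IsLocalRing

universe u

variable {B : Type u} [CommRing B] [IsDomain B] [IsDiscreteValuationRing B]

lemma ps_algebraMap (b : B) : algebraMap B (PowerSeries B) b = PowerSeries.C b := by
  rw [PowerSeries.algebraMap_apply]; rfl

lemma ps_dec (r : PowerSeries B) : ∃ b ∈ Set.range (algebraMap B (PowerSeries B)),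
    r - b ∈ Ideal.span ({PowerSeries.X} : Set (PowerSeries B)) := by
  refine ⟨algebraMap B _ (PowerSeries.constantCoeff r), ⟨_, rfl⟩, ?_⟩
  rw [Ideal.mem_span_singleton, PowerSeries.X_dvd_iff, map_sub, ps_algebraMap]
  simp

lemma ps_X_mem : (PowerSeries.X : PowerSeries B) ∈ maximalIdeal (PowerSeries B) := by
  rw [mem_maximalIdeal, mem_nonunits_iff, PowerSeries.isUnit_iff_constantCoeff]
  simp

theorem ps_fixIdeal (π : B) (j : ℕ) (γ : B) (hγ : IsUnit γ)
    (σ : PowerSeries B ≃+* PowerSeries B)
    (hσB : ∀ b : B, σ (algebraMap B (PowerSeries B) b) - algebraMap B (PowerSeries B) b ∈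
      Ideal.span ({algebraMap B (PowerSeries B) (π ^ j)} : Set (PowerSeries B)))
    (hσπ : σ (algebraMap B (PowerSeries B) π) = algebraMap B (PowerSeries B) (π + γ * π ^ j)) :
    ArLef.fixIdeal σ = Ideal.span ({algebraMap B (PowerSeries B) (π ^ j),
      σ PowerSeries.X - PowerSeries.X} : Set (PowerSeries B)) := by
  apply le_antisymm
  · apply fixIdeal_eq σ (Set.range (algebraMap B (PowerSeries B))) {PowerSeries.X}
      (by rintro _ rfl; exact ps_X_mem) ps_dec
    · rintro _ ⟨b, rfl⟩
      exact Ideal.span_mono (by simp) (hσB b)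
    · rintro _ rfl
      exact Ideal.subset_span (by simp)
  · rw [Ideal.span_le]
    rintro x hx
    rcases hx with rfl | rfl
    · have h1 : σ (algebraMap B (PowerSeries B) π) - algebraMap B (PowerSeries B) π ∈
          ArLef.fixIdeal σ := sub_mem_fixIdeal _ _
      rw [hσπ, ← map_sub, add_sub_cancel_left, map_mul] at h1
      obtain ⟨γ', hγ'⟩ := hγ.exists_left_inv
      have h2 := (ArLef.fixIdeal σ).mul_mem_left (algebraMap B (PowerSeries B) γ') h1
      rw [← mul_assoc, ← map_mul, hγ', map_one, one_mul] at h2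
      exact h2
    · exact sub_mem_fixIdeal _ _

/-- reduction modulo the maximal ideal -/
noncomputable abbrev ρ (B : Type u) [CommRing B] [IsLocalRing B] :
    PowerSeries B →+* PowerSeries (ResidueField B) :=
  PowerSeries.map (residue B)

lemma ρ_surjective : Function.Surjective (ρ B) :=
  PowerSeries.map_surjective _ (residue_surjective)

lemma ρ_eq_zero {π : B} (hπ : Irreducible π) {g : PowerSeries B} (hg : ρ B g = 0) :
    ∃ g' : PowerSeries B, g = PowerSeries.C π * g' := by
  have h1 : ∀ n, ∃ c : B, PowerSeries.coeff n g = π * c := by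
    intro n
    have := congrArg (PowerSeries.coeff n) hg
    rw [PowerSeries.coeff_map, map_zero, residue_eq_zero_iff, hπ.maximalIdeal_eq,
      Ideal.mem_span_singleton] at this
    exact this
  choose c hc using h1
  refine ⟨PowerSeries.mk c, ?_⟩
  ext n
  rw [PowerSeries.coeff_C_mul, PowerSeries.coeff_mk, hc]

lemma ρ_C_pi {π : B} (hπ : Irreducible π) : ρ B (PowerSeries.C π) = 0 := by
  rw [ρ, PowerSeries.map_C]
  have : residue B π = 0 := by
    rw [residue_eq_zero_iff, hπ.maximalIdeal_eq]; exact Ideal.mem_span_singleton_self π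
  rw [this, map_zero]

lemma ρ_ne_zero_of_not_dvd {π : B} (hπ : Irreducible π) {f : PowerSeries B}
    (hf : ¬ (algebraMap B (PowerSeries B) π ∣ f)) : ρ B f ≠ 0 := by
  intro h
  obtain ⟨g', rfl⟩ := ρ_eq_zero hπ h
  exact hf ⟨g', by rw [ps_algebraMap]⟩

lemma ps_regular {π : B} (hπ : Irreducible π) {f : PowerSeries B} (hf : ρ B f ≠ 0) :
    IsSMulRegular (PowerSeries B ⧸ Ideal.span ({f} : Set (PowerSeries B)))
      (PowerSeries.C π : PowerSeries B) := by
  intro x y hxy
  obtain ⟨x, rfl⟩ := Ideal.Quotient.mk_surjective x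
  obtain ⟨y, rfl⟩ := Ideal.Quotient.mk_surjective y
  have h1 : Ideal.Quotient.mk (Ideal.span ({f} : Set (PowerSeries B))) (PowerSeries.C π * x) =
      Ideal.Quotient.mk (Ideal.span ({f} : Set (PowerSeries B))) (PowerSeries.C π * y) := by
    have e : ∀ z : PowerSeries B, Ideal.Quotient.mk (Ideal.span ({f} : Set (PowerSeries B)))
        (PowerSeries.C π * z) = (PowerSeries.C π : PowerSeries B) •
          Ideal.Quotient.mk (Ideal.span ({f} : Set (PowerSeries B))) z := fun z => rfl
    rw [e, e]; exact hxy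
  rw [Ideal.Quotient.eq, Ideal.mem_span_singleton] at h1 ⊢
  obtain ⟨s, hs⟩ := h1
  have h2 : ρ B f * ρ B s = 0 := by
    rw [← map_mul, ← hs, ← mul_sub, map_mul, ρ_C_pi hπ, zero_mul]
  have h3 : ρ B s = 0 := (mul_eq_zero.mp h2).resolve_left hf
  obtain ⟨s', rfl⟩ := ρ_eq_zero hπ h3
  refine ⟨s', ?_⟩
  have hC : (PowerSeries.C π : PowerSeries B) ≠ 0 := by
    intro h
    have := congrArg (PowerSeries.constantCoeff) h
    simp at this
    exact hπ.ne_zero this
  have : PowerSeries.C π * (x - y) = PowerSeries.C π * (f * s') := by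
    rw [mul_sub, hs]; ring
  exact mul_left_cancel₀ hC this

/-- `len(B[[t]]/(π, f))` equals the length of `k[[t]]/(f mod π)`. -/
theorem ps_len_mod {π : B} (hπ : Irreducible π) (f : PowerSeries B) :
    Module.length (PowerSeries B) (PowerSeries B ⧸
      Ideal.span ({PowerSeries.C π, f} : Set (PowerSeries B))) =
    Module.length (PowerSeries (ResidueField B)) (PowerSeries (ResidueField B) ⧸
      Ideal.span ({ρ B f} : Set (PowerSeries (ResidueField B)))) := by
  letI : Algebra (PowerSeries B) (PowerSeries (ResidueField B)) := (ρ B).toAlgebra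
  have hsurj : Function.Surjective (algebraMap (PowerSeries B) (PowerSeries (ResidueField B))) :=
    ρ_surjective
  rw [← Module.length_eq_of_surjective (S := PowerSeries B) hsurj]
  let q : PowerSeries B →ₗ[PowerSeries B] (PowerSeries (ResidueField B) ⧸
      Ideal.span ({ρ B f} : Set (PowerSeries (ResidueField B)))) :=
    ((Ideal.Quotient.mkₐ (PowerSeries B) (Ideal.span ({ρ B f} : Set (PowerSeries (ResidueField B))))).toLinearMap).comp
      (Algebra.linearMap (PowerSeries B) (PowerSeries (ResidueField B)))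
  have hq : ∀ r, q r = Ideal.Quotient.mk _ (ρ B r) := fun r => rfl
  have hqs : Function.Surjective q := by
    intro z
    obtain ⟨z, rfl⟩ := Ideal.Quotient.mk_surjective z
    obtain ⟨r, rfl⟩ := ρ_surjective z
    exact ⟨r, rfl⟩
  have hker : LinearMap.ker q = Ideal.span ({PowerSeries.C π, f} : Set (PowerSeries B)) := by
    ext r
    rw [LinearMap.mem_ker, hq, Ideal.Quotient.eq_zero_iff_mem, Ideal.mem_span_singleton]
    constructor
    · rintro ⟨s, hs⟩
      obtain ⟨s, rfl⟩ := ρ_surjective s
      have : ρ B (r - f * s) = 0 := by rw [map_sub, map_mul, hs, sub_self]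
      obtain ⟨g', hg'⟩ := ρ_eq_zero hπ this
      have : r = PowerSeries.C π * g' + f * s := by rw [← hg']; ring
      rw [this]
      exact Ideal.add_mem _ (Ideal.mul_mem_right _ _ (Ideal.subset_span (by simp)))
        (Ideal.mul_mem_right _ _ (Ideal.subset_span (by simp)))
    · intro hr
      rw [Ideal.mem_span_pair] at hr
      obtain ⟨a, b, rfl⟩ := hr
      refine ⟨ρ B b, ?_⟩
      rw [map_add, map_mul, map_mul, ρ_C_pi hπ, mul_zero, zero_add, mul_comm]
  exact ((Submodule.quotEquivOfEq _ _ hker.symm).trans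
    (q.quotKerEquivOfSurjective hqs)).length_eq

theorem ps_len {π : B} (hπ : Irreducible π) (f : PowerSeries B) (hf : ρ B f ≠ 0) (n : ℕ) :
    Module.length (PowerSeries B) (PowerSeries B ⧸
      Ideal.span ({algebraMap B (PowerSeries B) (π ^ n), f} : Set (PowerSeries B))) =
    (n : ℕ∞) * Module.length (PowerSeries (ResidueField B)) (PowerSeries (ResidueField B) ⧸
      Ideal.span ({ρ B f} : Set (PowerSeries (ResidueField B)))) := by
  rw [ps_algebraMap, map_pow, len_pow _ _ (ps_regular hπ hf), ps_len_mod hπ]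

theorem main_15321 (π : B) (hπ : Irreducible π)
    (j : ℕ) (γ : B) (hγ : IsUnit γ)
    (σ : PowerSeries B ≃+* PowerSeries B)
    (hσB : ∀ b : B, σ (algebraMap B (PowerSeries B) b) - algebraMap B (PowerSeries B) b ∈
      Ideal.span ({algebraMap B (PowerSeries B) (π ^ j)} : Set (PowerSeries B)))
    (hσπ : σ (algebraMap B (PowerSeries B) π) = algebraMap B (PowerSeries B) (π + γ * π ^ j))
    (h0 : ¬ (algebraMap B (PowerSeries B) π ∣ σ PowerSeries.X - PowerSeries.X)) :
    Module.length (PowerSeries B) (PowerSeries B ⧸ ArLef.fixIdeal σ) =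
      (j : ℕ∞) * Module.length (PowerSeries (IsLocalRing.ResidueField B))
        (PowerSeries (IsLocalRing.ResidueField B) ⧸
        Ideal.span ({PowerSeries.map (IsLocalRing.residue B) (σ PowerSeries.X - PowerSeries.X)} :
          Set (PowerSeries (IsLocalRing.ResidueField B)))) := by
  rw [ps_fixIdeal π j γ hγ σ hσB hσπ]
  exact ps_len hπ _ (ρ_ne_zero_of_not_dvd hπ h0) j

theorem main_19595 (π : B) (hπ : Irreducible π)
    (j i : ℕ) (hij : i < j) (γ : B) (hγ : IsUnit γ)
    (σ : PowerSeries B ≃+* PowerSeries B)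
    (hσB : ∀ b : B, σ (algebraMap B (PowerSeries B) b) - algebraMap B (PowerSeries B) b ∈
      Ideal.span ({algebraMap B (PowerSeries B) (π ^ j)} : Set (PowerSeries B)))
    (hσπ : σ (algebraMap B (PowerSeries B) π) = algebraMap B (PowerSeries B) (π + γ * π ^ j))
    (f : PowerSeries B)
    (hf : σ PowerSeries.X - PowerSeries.X = algebraMap B (PowerSeries B) (π ^ i) * f)
    (hfπ : ¬ (algebraMap B (PowerSeries B) π ∣ f)) :
    Module.length (PowerSeries B) (PowerSeries B ⧸ (ArLef.fixIdeal σ).colon
      ({algebraMap B (PowerSeries B) (π ^ i)} : Set (PowerSeries B))) =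
      ((j - i : ℕ) : ℕ∞) * Module.length (PowerSeries (IsLocalRing.ResidueField B))
        (PowerSeries (IsLocalRing.ResidueField B) ⧸
        Ideal.span ({PowerSeries.map (IsLocalRing.residue B) f} :
          Set (PowerSeries (IsLocalRing.ResidueField B)))) := by
  rw [ps_fixIdeal π j γ hγ σ hσB hσπ, hf]
  have hcolon : (Ideal.span ({algebraMap B (PowerSeries B) (π ^ j),
      algebraMap B (PowerSeries B) (π ^ i) * f} : Set (PowerSeries B))).colon
      ({algebraMap B (PowerSeries B) (π ^ i)} : Set (PowerSeries B)) =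
      Ideal.span ({algebraMap B (PowerSeries B) (π ^ (j - i)), f} : Set (PowerSeries B)) := by
    have hne : algebraMap B (PowerSeries B) (π ^ i) ≠ 0 := by
      rw [ps_algebraMap]
      intro h
      have := congrArg (PowerSeries.constantCoeff) h
      simp at this
      exact hπ.ne_zero this.1
    have hpow : algebraMap B (PowerSeries B) (π ^ j) =
        algebraMap B (PowerSeries B) (π ^ i) * algebraMap B (PowerSeries B) (π ^ (j - i)) := by
      rw [← map_mul, ← pow_add]; congr 2; omega
    ext r
    rw [Submodule.mem_colon_singleton, smul_eq_mul, Ideal.mem_span_pair, Ideal.mem_span_pair]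
    constructor
    · rintro ⟨a, b, hab⟩
      refine ⟨a, b, ?_⟩
      rw [hpow] at hab
      have : algebraMap B (PowerSeries B) (π ^ i) *
          (a * algebraMap B (PowerSeries B) (π ^ (j - i)) + b * f) =
          algebraMap B (PowerSeries B) (π ^ i) * r := by
        rw [mul_comm _ r, ← hab]; ring
      exact mul_left_cancel₀ hne this
    · rintro ⟨a, b, rfl⟩
      refine ⟨a, b, ?_⟩
      rw [hpow]; ring
  rw [hcolon]
  exact ps_len hπ _ (ρ_ne_zero_of_not_dvd hπ hfπ) (j - i)

end Groth.Agent.Helper7.Node
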