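import Mathlib
import Groth.Prelude.Def_Disc

set_option linter.style.haveILetI false
set_option linter.unusedSectionVars false

namespace Groth.Agent.Helper7.NoethDiff

open TensorProduct

universe u

variable {A B A' B' : Type u} [CommRing A] [CommRing B]
    [CommRing A'] [CommRing B'] [Algebra A B] [Algebra A A'] [Algebra A B'] [Algebra B B']
    [Algebra A' B'] [IsScalarTower A B B'] [IsScalarTower A A' B']

/-- `B ⊗_A B → B' ⊗_{A'} B'`. -/
noncomputable def theta : B ⊗[A] B →ₐ[A] B' ⊗[A'] B' :=
  Algebra.TensorProduct.lift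
    (((Algebra.TensorProduct.includeLeft : B' →ₐ[A'] B' ⊗[A'] B').restrictScalars A).comp
      (IsScalarTower.toAlgHom A B B'))
    (((Algebra.TensorProduct.includeRight : B' →ₐ[A'] B' ⊗[A'] B').restrictScalars A).comp
      (IsScalarTower.toAlgHom A B B'))
    (fun _ _ => Commute.all _ _)

@[simp] theorem theta_tmul (b₁ b₂ : B) :
    theta (A := A) (A' := A') (B' := B') (b₁ ⊗ₜ b₂) = algebraMap B B' b₁ ⊗ₜ algebraMap B B' b₂ := by
  simp [theta]

theorem lmul_theta (t : B ⊗[A] B) :
    Algebra.TensorProduct.lmul' (S := B') A' (theta (A := A) (A' := A') (B' := B') t) =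
      algebraMap B B' (Algebra.TensorProduct.lmul' (S := B) A t) := by
  induction t using TensorProduct.induction_on with
  | zero => simp
  | tmul x y => simp
  | add x y hx hy => simp only [map_add, hx, hy]

/-- `A' ⊗_A (B ⊗_A B) → B' ⊗_{A'} B'`. -/
noncomputable def xi : A' ⊗[A] (B ⊗[A] B) →ₗ[A'] B' ⊗[A'] B' :=
  (theta (A := A) (A' := A') (B' := B')).toLinearMap.liftBaseChange A'

@[simp] theorem xi_tmul (a : A') (t : B ⊗[A] B) :
    xi (A := A) (A' := A') (B' := B') (a ⊗ₜ t) = a • theta (A := A) (A' := A') (B' := B') t := by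
  simp [xi]

variable [Algebra.IsPushout A B A' B']

theorem xi_bijective : Function.Bijective (xi (A := A) (B := B) (A' := A') (B' := B')) := by
  haveI : Algebra.IsPushout A A' B B' := Algebra.IsPushout.symm inferInstance
  let e' : A' ⊗[A] B ≃ₐ[A'] B' := Algebra.IsPushout.equiv A A' B B'
  let Ψ : A' ⊗[A] (B ⊗[A] B) ≃ₗ[A'] B' ⊗[A'] B' :=
    (TensorProduct.AlgebraTensorModule.distribBaseChange A A' B B) ≪≫ₗ
      (TensorProduct.congr e'.toLinearEquiv e'.toLinearEquiv)
  have h : xi (A := A) (B := B) (A' := A') (B' := B') = Ψ.toLinearMap := by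
    apply TensorProduct.AlgebraTensorModule.ext
    intro a t
    induction t using TensorProduct.induction_on with
    | zero => simp
    | tmul x y =>
      simp only [xi_tmul, theta_tmul, LinearEquiv.coe_coe, Ψ, LinearEquiv.trans_apply,
        TensorProduct.AlgebraTensorModule.distribBaseChange_tmul, TensorProduct.congr_tmul,
        AlgEquiv.toLinearEquiv_apply, e', Algebra.IsPushout.equiv_tmul, map_one, one_mul]
      rw [TensorProduct.smul_tmul', Algebra.smul_def]
    | add x y hx hy => simp only [tmul_add, map_add, hx, hy]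
  rw [h]
  exact Ψ.bijective

theorem smul_mem_of_mem (L : Ideal (B' ⊗[A'] B')) (a : A') {x : B' ⊗[A'] B'} (hx : x ∈ L) :
    a • x ∈ L := by
  rw [Algebra.smul_def]
  exact L.mul_mem_left _ hx

theorem ideal_eq_map :
    KaehlerDifferential.ideal A' B' =
      (KaehlerDifferential.ideal A B).map (theta (A := A) (A' := A') (B' := B')) := by
  apply le_antisymm
  · rw [← KaehlerDifferential.span_range_eq_ideal, Ideal.span_le]
    rintro _ ⟨y, rfl⟩
    rw [SetLike.mem_coe]
    haveI : Algebra.IsPushout A A' B B' := Algebra.IsPushout.symm inferInstance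
    have hbc : IsBaseChange A' (IsScalarTower.toAlgHom A B B').toLinearMap :=
      Algebra.IsPushout.out
    refine hbc.inductionOn y
      (motive := fun y => (1 : B') ⊗ₜ[A'] y - y ⊗ₜ[A'] (1 : B') ∈
        (KaehlerDifferential.ideal A B).map (theta (A := A) (A' := A') (B' := B'))) ?_ ?_ ?_ ?_
    · simp
    · intro b
      have : (1 : B') ⊗ₜ[A'] (IsScalarTower.toAlgHom A B B').toLinearMap b -
          (IsScalarTower.toAlgHom A B B').toLinearMap b ⊗ₜ[A'] (1 : B') =
          theta (A := A) (A' := A') (B' := B') ((1 : B) ⊗ₜ[A] b - b ⊗ₜ[A] (1 : B)) := by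
        simp
      rw [this]
      exact Ideal.mem_map_of_mem _ (KaehlerDifferential.one_smul_sub_smul_one_mem_ideal A b)
    · intro a y hy
      have : (1 : B') ⊗ₜ[A'] (a • y) - (a • y) ⊗ₜ[A'] (1 : B') =
          a • ((1 : B') ⊗ₜ[A'] y - y ⊗ₜ[A'] (1 : B')) := by
        rw [smul_sub, TensorProduct.tmul_smul, TensorProduct.smul_tmul' a y]
      rw [this]
      exact smul_mem_of_mem _ a hy
    · intro y₁ y₂ h1 h2
      have : (1 : B') ⊗ₜ[A'] (y₁ + y₂) - (y₁ + y₂) ⊗ₜ[A'] (1 : B') =
          ((1 : B') ⊗ₜ[A'] y₁ - y₁ ⊗ₜ[A'] (1 : B')) + ((1 : B') ⊗ₜ[A'] y₂ - y₂ ⊗ₜ[A'] (1 : B')) := by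
        rw [TensorProduct.tmul_add, TensorProduct.add_tmul]; abel
      rw [this]
      exact Ideal.add_mem _ h1 h2
  · rw [Ideal.map_le_iff_le_comap]
    intro t ht
    rw [Ideal.mem_comap]
    change Algebra.TensorProduct.lmul' (S := B') A' _ = 0
    rw [lmul_theta]
    have : Algebra.TensorProduct.lmul' (S := B) A t = 0 := ht
    rw [this, map_zero]

theorem xi_mulRight (g : B ⊗[A] B) (y : A' ⊗[A] (B ⊗[A] B)) :
    xi (A := A) (A' := A') (B' := B')
      (TensorProduct.AlgebraTensorModule.lTensor A' A' (LinearMap.mulRight A g) y) =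
      xi (A := A) (A' := A') (B' := B') y * theta (A := A) (A' := A') (B' := B') g := by
  induction y using TensorProduct.induction_on with
  | zero => simp
  | tmul a t =>
    simp only [TensorProduct.AlgebraTensorModule.lTensor_tmul, LinearMap.mulRight_apply, xi_tmul,
      map_mul, Algebra.smul_mul_assoc]
  | add x y hx hy => simp only [map_add, hx, hy, add_mul]

theorem annihilator_eq_map [Algebra.FiniteType A B] [Module.Flat A A'] :
    Submodule.annihilator (KaehlerDifferential.ideal A' B') =
      (Submodule.annihilator (KaehlerDifferential.ideal A B)).map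
        (theta (A := A) (A' := A') (B' := B')) := by
  classical
  obtain ⟨s, hs⟩ := KaehlerDifferential.ideal_fg A B
  have hmemI : ∀ g ∈ s, g ∈ KaehlerDifferential.ideal A B := fun g hg => by
    rw [← hs]; exact Ideal.subset_span hg
  apply le_antisymm
  · intro x hx
    obtain ⟨y, rfl⟩ := (xi_bijective (A := A) (B := B) (A' := A') (B' := B')).2 x
    set F : B ⊗[A] B →ₗ[A] (s → B ⊗[A] B) :=
      LinearMap.pi (fun g => LinearMap.mulRight A (g : B ⊗[A] B)) with hF
    have h1 : ∀ (y' : A' ⊗[A] (B ⊗[A] B)) (g : s),
        TensorProduct.piRight A A' A' (fun _ : s => B ⊗[A] B)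
          (TensorProduct.AlgebraTensorModule.lTensor A' A' F y') g =
          TensorProduct.AlgebraTensorModule.lTensor A' A'
            (LinearMap.mulRight A (g : B ⊗[A] B)) y' := by
      intro y' g
      induction y' using TensorProduct.induction_on with
      | zero => simp
      | tmul a t => simp [hF]
      | add x y hx hy => simp only [map_add, Pi.add_apply, hx, hy]
    have hy : TensorProduct.AlgebraTensorModule.lTensor A' A' F y = 0 := by
      apply (TensorProduct.piRight A A' A' (fun _ : s => B ⊗[A] B)).injective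
      rw [map_zero]
      funext g
      rw [h1, Pi.zero_apply]
      refine (xi_bijective (A := A) (B := B) (A' := A') (B' := B')).1 ?_
      rw [xi_mulRight, map_zero]
      have h2 : theta (A := A) (A' := A') (B' := B') (g : B ⊗[A] B) ∈
          KaehlerDifferential.ideal A' B' := by
        rw [ideal_eq_map (A := A) (B := B) (A' := A') (B' := B')]
        exact Ideal.mem_map_of_mem _ (hmemI g g.2)
      have h3 := Submodule.mem_annihilator.mp hx _ h2
      rwa [smul_eq_mul] at h3
    have hy' : y ∈ LinearMap.ker (TensorProduct.AlgebraTensorModule.lTensor A' A' F) := hy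
    rw [Module.Flat.ker_lTensor_eq] at hy'
    have key : ∀ w : A' ⊗[A] (LinearMap.ker F),
        xi (A := A) (A' := A') (B' := B')
          (TensorProduct.AlgebraTensorModule.lTensor A' A' (LinearMap.ker F).subtype w) ∈
        (Submodule.annihilator (KaehlerDifferential.ideal A B)).map
          (theta (A := A) (A' := A') (B' := B')) := by
      intro w
      induction w using TensorProduct.induction_on with
      | zero => simp
      | tmul a n =>
        rw [TensorProduct.AlgebraTensorModule.lTensor_tmul, xi_tmul]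
        apply smul_mem_of_mem
        apply Ideal.mem_map_of_mem
        rw [Submodule.coe_subtype, ← hs, Ideal.span, Submodule.mem_annihilator_span]
        rintro ⟨g, hg⟩
        have := congrFun n.2 ⟨g, hg⟩
        simpa [hF, mul_comm] using this
      | add x y hx hy =>
        rw [map_add, map_add]
        exact Ideal.add_mem _ hx hy
    obtain ⟨w, rfl⟩ := hy'
    exact key w
  · rw [Ideal.map_le_iff_le_comap]
    intro n hn
    rw [Ideal.mem_comap, ideal_eq_map (A := A) (B := B) (A' := A') (B' := B'), Ideal.map,
      Ideal.span, Submodule.mem_annihilator_span]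
    rintro ⟨_, i, hi, rfl⟩
    change theta (A := A) (A' := A') (B' := B') n • theta (A := A) (A' := A') (B' := B') i = 0
    rw [smul_eq_mul, ← map_mul]
    have := Submodule.mem_annihilator.mp hn i hi
    rw [smul_eq_mul] at this
    rw [this, map_zero]

theorem noetherDifferent_baseChange [Algebra.FiniteType A B] [Module.Flat A A'] :
    Disc.noetherDifferent A' B' = (Disc.noetherDifferent A B).map (algebraMap B B') := by
  unfold Disc.noetherDifferent
  have h1 : RingHom.ker (Algebra.TensorProduct.lmul' (S := B') A') = KaehlerDifferential.ideal A' B' :=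
    rfl
  have h2 : RingHom.ker (Algebra.TensorProduct.lmul' (S := B) A) = KaehlerDifferential.ideal A B :=
    rfl
  rw [h1, h2, annihilator_eq_map (A := A) (B := B) (A' := A') (B' := B'), ← Ideal.map_coe (Algebra.TensorProduct.lmul' (S := B') A'),
    ← Ideal.map_coe (theta (A := A) (A' := A') (B' := B')), Ideal.map_map,
    ← Ideal.map_coe (Algebra.TensorProduct.lmul' (S := B) A), Ideal.map_map]
  congr 1
  refine RingHom.ext fun t => ?_
  simp only [RingHom.comp_apply, RingHom.coe_coe]
  exact lmul_theta t

end Groth.Agent.Helper7.NoethDiff
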