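import Mathlib

set_option autoImplicit false

namespace Groth.Agent.Helper7.NonNoeth

open Polynomial

/-- Part I: bound on Taylor coefficients. -/
theorem taylor_bound (Z : Subring ℚ) (B : Subring ℚ[X]) (r : ℚ) {m : ℕ} (h : Fin m → ℚ[X])
    (N : ℚ) (hNZ : N ∈ Z) (hN : ∀ i l, (N : ℚ) * (taylor r (h i)).coeff l ∈ Z)
    (hev : ∀ f ∈ B, f.eval r ∈ Z)
    (hdec : ∀ f ∈ B, ∃ a : Fin m → ℚ[X], (∀ i, a i ∈ B) ∧
      f = C (f.eval r) + (X - C r) * ∑ i, a i * h i) :
    ∀ n : ℕ, ∀ f ∈ B, (N : ℚ) ^ n * (taylor r f).coeff n ∈ Z := by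
  intro n
  induction n using Nat.strong_induction_on with
  | _ n ih =>
    intro f hf
    rcases n with _ | n
    · rw [pow_zero, one_mul, taylor_coeff_zero]
      exact hev f hf
    · obtain ⟨a, haB, hfa⟩ := hdec f hf
      have hT : taylor r f = C (f.eval r) + X * ∑ i, taylor r (a i) * taylor r (h i) := by
        conv_lhs => rw [hfa]
        rw [map_add, taylor_C, taylor_mul, map_sub, taylor_X, taylor_C, add_sub_cancel_right,
          map_sum]
        simp only [taylor_mul]
      rw [hT, coeff_add, coeff_C_succ, zero_add, coeff_X_mul, finset_sum_coeff, Finset.mul_sum]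
      apply Subring.sum_mem
      intro i _
      rw [coeff_mul, Finset.mul_sum]
      apply Subring.sum_mem
      rintro ⟨j, l⟩ hjl
      have hjl : j + l = n := by simpa using hjl
      have hj : j < n + 1 := by omega
      have h1 := ih j hj (a i) (haB i)
      have h2 := hN i l
      have h3 : (N : ℚ) ^ l * ((N : ℚ) * (taylor r (h i)).coeff l) ∈ Z :=
        Subring.mul_mem _ (Subring.pow_mem _ hNZ l) h2
      have h4 := Subring.mul_mem _ h1 h3
      have h5 : (N : ℚ) ^ (n + 1) * ((taylor r (a i)).coeff j * (taylor r (h i)).coeff l) =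
          (N : ℚ) ^ j * (taylor r (a i)).coeff j *
            ((N : ℚ) ^ l * ((N : ℚ) * (taylor r (h i)).coeff l)) := by
        rw [← hjl]; ring
      rw [h5]; exact h4

/-- Part II: value at `s` from Taylor coefficients. -/
theorem eval_bound (Z : Subring ℚ) (r s : ℚ) (hs : s - r ∈ Z) (N : ℚ) (hNZ : N ∈ Z) (f : ℚ[X])
    (hf : ∀ n : ℕ, (N : ℚ) ^ n * (taylor r f).coeff n ∈ Z) :
    ∃ D : ℕ, (N : ℚ) ^ D * f.eval s ∈ Z := by
  refine ⟨(taylor r f).natDegree, ?_⟩
  have h1 : f.eval s = (taylor r f).eval (s - r) := by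
    rw [taylor_eval, sub_add_cancel]
  rw [h1, eval_eq_sum_range, Finset.mul_sum]
  apply Subring.sum_mem
  intro n hn
  rw [Finset.mem_range] at hn
  have h2 : (N : ℚ) ^ (taylor r f).natDegree * ((taylor r f).coeff n * (s - r) ^ n) =
      (N : ℚ) ^ ((taylor r f).natDegree - n) * ((N : ℚ) ^ n * (taylor r f).coeff n) * (s - r) ^ n := by
    have : (taylor r f).natDegree = ((taylor r f).natDegree - n) + n := by omega
    conv_lhs => rw [this, pow_add]
    ring
  rw [h2]
  exact Subring.mul_mem _ (Subring.mul_mem _ (Subring.pow_mem _ hNZ _) (hf n)) (Subring.pow_mem _ hs n)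

end Groth.Agent.Helper7.NonNoeth
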