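import Mathlib
import Groth.Agent.Helper7.NonNoeth

set_option autoImplicit false

namespace Groth.Agent.Helper7.NonNoeth

open Polynomial TensorProduct

universe u

/-- Part III: algebraic reduction. -/
theorem setup (A : Type u) [CommRing A] (h2 : IsUnit (2 : A)) (t : A)
    (h1 : Function.Bijective (Polynomial.aeval (R := ℚ) ((1 : ℚ) ⊗ₜ[ℤ] t : ℚ ⊗[ℤ] A)))
    (s : A →+* Localization.Away (2 : ℤ)) (hs : s t = 1) :
    ∃ (φ : A →+* ℚ[X]) (ι : Localization.Away (2 : ℤ) →+* ℚ) (j : Localization.Away (2 : ℤ) →+* A),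
      φ t = X ∧ (∀ a, (φ a).eval 1 = ι (s a)) ∧ (∀ z, s (j z) = z) ∧ (∀ z, φ (j z) = C (ι z)) := by
  let e : ℚ[X] ≃ₐ[ℚ] ℚ ⊗[ℤ] A := AlgEquiv.ofBijective _ h1
  let incl : A →+* ℚ ⊗[ℤ] A := (Algebra.TensorProduct.includeRight : A →ₐ[ℤ] ℚ ⊗[ℤ] A).toRingHom
  let φ : A →+* ℚ[X] := (e.symm : ℚ ⊗[ℤ] A →+* ℚ[X]).comp incl
  have heX : e X = (1 : ℚ) ⊗ₜ[ℤ] t := by
    simp [e]
  have hφt : φ t = X := by
    change e.symm ((1 : ℚ) ⊗ₜ[ℤ] t) = X
    rw [AlgEquiv.symm_apply_eq, heX]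
  have hu : IsUnit (Int.castRingHom ℚ 2) := by
    rw [isUnit_iff_ne_zero]; norm_num
  let ι : Localization.Away (2 : ℤ) →+* ℚ := IsLocalization.Away.lift (2 : ℤ) hu
  have huA : IsUnit (Int.castRingHom A 2) := by
    simpa using h2
  let j : Localization.Away (2 : ℤ) →+* A := IsLocalization.Away.lift (2 : ℤ) huA
  refine ⟨φ, ι, j, hφt, ?_, ?_, ?_⟩
  · let g : A →ₐ[ℤ] ℚ := (ι.comp s).toIntAlgHom
    let ψ₁ : ℚ ⊗[ℤ] A →ₐ[ℚ] ℚ :=
      Algebra.TensorProduct.lift (AlgHom.id ℚ ℚ) g (fun _ _ => Commute.all _ _)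
    let ψ₂ : ℚ ⊗[ℤ] A →ₐ[ℚ] ℚ := (aeval (1 : ℚ)).comp e.symm.toAlgHom
    have h3 : ψ₁.comp e.toAlgHom = ψ₂.comp e.toAlgHom := by
      apply Polynomial.algHom_ext
      change ψ₁ (e X) = ψ₂ (e X)
      rw [heX]
      have h4 : ψ₂ ((1 : ℚ) ⊗ₜ[ℤ] t) = 1 := by
        change aeval (1 : ℚ) (e.symm ((1 : ℚ) ⊗ₜ[ℤ] t)) = 1
        rw [← heX, AlgEquiv.symm_apply_apply, aeval_X]
      rw [h4]
      simp [ψ₁, g, hs]
    have h12 : ∀ x, ψ₁ x = ψ₂ x := by
      intro x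
      have := congr($h3 (e.symm x))
      simpa using this
    intro a
    have h5 := h12 ((1 : ℚ) ⊗ₜ[ℤ] a)
    have h6 : ψ₁ ((1 : ℚ) ⊗ₜ[ℤ] a) = ι (s a) := by
      simp [ψ₁, g]
    have h7 : ψ₂ ((1 : ℚ) ⊗ₜ[ℤ] a) = (φ a).eval 1 := by
      change aeval (1 : ℚ) (e.symm ((1 : ℚ) ⊗ₜ[ℤ] a)) = _
      rw [coe_aeval_eq_eval]
      rfl
    rw [← h7, ← h5, h6]
  · intro z
    have : s.comp j = RingHom.id _ := by
      apply IsLocalization.ringHom_ext (Submonoid.powers (2 : ℤ))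
      exact Subsingleton.elim _ _
    exact congr($this z)
  · intro z
    have : φ.comp j = (C : ℚ →+* ℚ[X]).comp ι := by
      apply IsLocalization.ringHom_ext (Submonoid.powers (2 : ℤ))
      exact Subsingleton.elim _ _
    exact congr($this z)

end Groth.Agent.Helper7.NonNoeth

namespace Groth.Agent.Helper7.NonNoeth

open Polynomial TensorProduct

universe u

theorem main (A : Type u) [CommRing A] (h2 : IsUnit (2 : A)) (t : A)
    (h1 : Function.Bijective (Polynomial.aeval (R := ℚ) ((1 : ℚ) ⊗ₜ[ℤ] t : ℚ ⊗[ℤ] A)))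
    (h0 : ∀ p : ℕ, p.Prime → IsUnit ((p : ℕ) : A ⧸ Ideal.span ({t} : Set A)))
    (s : A →+* Localization.Away (2 : ℤ)) (hs : s t = 1) :
    ¬ IsNoetherianRing A := by
  intro hNoeth
  obtain ⟨φ, ι, j, hφt, hcompat, hsj, hφj⟩ := setup A h2 t h1 s hs
  -- generators of ker s
  have hfg : (RingHom.ker s).FG := IsNoetherian.noetherian _
  obtain ⟨m, g, hg⟩ := Submodule.fg_iff_exists_fin_generating_family.mp hfg
  have hgker : ∀ i, s (g i) = 0 := by
    intro i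
    have : g i ∈ RingHom.ker s := by
      rw [← hg]; exact Submodule.subset_span ⟨i, rfl⟩
    exact this
  have hdvd : ∀ i, ∃ h : ℚ[X], φ (g i) = (X - C 1) * h := by
    intro i
    have : (X - C (1 : ℚ)) ∣ φ (g i) := by
      rw [dvd_iff_isRoot, IsRoot, hcompat, hgker, map_zero]
    exact this
  choose h hh using hdvd
  let B : Subring ℚ[X] := φ.range
  let Z : Subring ℚ := ι.range
  have hev : ∀ f ∈ B, f.eval 1 ∈ Z := by
    rintro _ ⟨a, rfl⟩
    rw [hcompat]; exact ⟨_, rfl⟩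
  have hdec : ∀ f ∈ B, ∃ a : Fin m → ℚ[X], (∀ i, a i ∈ B) ∧
      f = C (f.eval 1) + (X - C 1) * ∑ i, a i * h i := by
    rintro _ ⟨a, rfl⟩
    have hmem : a - j (s a) ∈ Submodule.span A (Set.range g) := by
      rw [hg, RingHom.mem_ker, map_sub, hsj, sub_self]
    obtain ⟨c, hc⟩ := (Submodule.mem_span_range_iff_exists_fun A).mp hmem
    refine ⟨fun i => φ (c i), fun i => ⟨c i, rfl⟩, ?_⟩
    have h3 : a = j (s a) + ∑ i, c i * g i := by
      simp only [smul_eq_mul] at hc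
      rw [hc]; ring
    conv_lhs => rw [h3]
    rw [map_add, hφj, map_sum, hcompat, Finset.mul_sum]
    congr 1
    apply Finset.sum_congr rfl
    intro i _
    rw [map_mul, hh i]; ring
  -- common denominator
  let D : ℕ := Finset.univ.sup (fun i => (taylor 1 (h i)).natDegree)
  obtain ⟨b, hb⟩ := IsLocalization.exist_integer_multiples (nonZeroDivisors ℤ)
    ((Finset.univ : Finset (Fin m)) ×ˢ Finset.range (D + 1))
    (fun il : Fin m × ℕ => (taylor (1 : ℚ) (h il.1)).coeff il.2)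
  have hb0 : (b : ℤ) ≠ 0 := nonZeroDivisors.coe_ne_zero b
  have hintZ : ∀ n : ℤ, (n : ℚ) ∈ Z := fun n => intCast_mem Z n
  let N : ℚ := ((b : ℤ) : ℚ)
  have hNZ : N ∈ Z := hintZ _
  have hN : ∀ i l, N * (taylor 1 (h i)).coeff l ∈ Z := by
    intro i l
    by_cases hl : l ≤ D
    · have hmem : (i, l) ∈ (Finset.univ : Finset (Fin m)) ×ˢ Finset.range (D + 1) := by
        simp; omega
      obtain ⟨n, hn⟩ := hb (i, l) hmem
      have h4 : N * (taylor 1 (h i)).coeff l = (n : ℚ) := by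
        rw [show (algebraMap ℤ ℚ) n = (n : ℚ) from rfl] at hn
        rw [hn]
        change N * _ = (b : ℤ) • _
        rw [zsmul_eq_mul]
      rw [h4]; exact hintZ n
    · have h5 : (taylor 1 (h i)).coeff l = 0 := by
        apply coeff_eq_zero_of_natDegree_lt
        have : (taylor 1 (h i)).natDegree ≤ D :=
          Finset.le_sup (f := fun i => (taylor 1 (h i)).natDegree) (Finset.mem_univ i)
        omega
      rw [h5, mul_zero]; exact zero_mem _
  have hbound := taylor_bound Z B 1 h N hNZ hN hev hdec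
  -- choose a prime
  obtain ⟨p, hpge, hp⟩ := Nat.exists_infinite_primes (max 3 ((b : ℤ).natAbs + 1))
  obtain ⟨q, hq⟩ := (h0 p hp).exists_right_inv
  obtain ⟨a, rfl⟩ := Ideal.Quotient.mk_surjective q
  have h6 : (p : A) * a - 1 ∈ Ideal.span ({t} : Set A) := by
    rw [← Ideal.Quotient.eq_zero_iff_mem, map_sub, map_mul, map_natCast, map_one, hq, sub_self]
  obtain ⟨b', hb'⟩ := Ideal.mem_span_singleton'.mp h6
  have h7 : (p : ℚ) * (φ a).eval 0 = 1 := by
    have := congr(eval 0 (φ $hb'))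
    rw [map_mul, hφt, map_sub, map_mul, map_natCast, map_one] at this
    simp only [eval_mul, eval_X, mul_zero, eval_sub, eval_natCast, eval_one] at this
    linarith
  obtain ⟨E, hE⟩ := eval_bound Z 1 0 (by rw [zero_sub]; exact neg_mem (one_mem _)) N hNZ (φ a)
    (fun n => hbound n (φ a) ⟨a, rfl⟩)
  obtain ⟨z, hz⟩ := hE
  obtain ⟨⟨mm, ⟨_, k, rfl⟩⟩, hmk⟩ := IsLocalization.surj (Submonoid.powers (2 : ℤ)) z
  simp only at hmk
  have h8 : ι z * 2 ^ k = (mm : ℚ) := by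
    have := congr(ι $hmk)
    rw [map_mul] at this
    have e1 : ι (algebraMap ℤ (Localization.Away (2 : ℤ)) ((2 : ℤ) ^ k)) = 2 ^ k := by
      rw [eq_intCast, map_intCast]; norm_num
    have e2 : ι (algebraMap ℤ (Localization.Away (2 : ℤ)) mm) = (mm : ℚ) := by
      rw [eq_intCast, map_intCast]
    rw [e1, e2] at this
    exact this
  have h9 : ((p : ℤ) * mm : ℤ) = (b : ℤ) ^ E * 2 ^ k := by
    have : ((p : ℤ) * mm : ℚ) = ((b : ℤ) : ℚ) ^ E * 2 ^ k := by
      rw [← h8, hz]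
      have : (p : ℚ) * (N ^ E * eval 0 (φ a)) = N ^ E := by
        rw [mul_left_comm, h7, mul_one]
      push_cast
      rw [← mul_assoc, this]
    exact_mod_cast this
  have hpZ : Prime (p : ℤ) := Nat.prime_iff_prime_int.mp hp
  have hdvd : (p : ℤ) ∣ (b : ℤ) ^ E * 2 ^ k := ⟨mm, h9.symm⟩
  rcases hpZ.dvd_or_dvd hdvd with hd | hd
  · have hd' := hpZ.dvd_of_dvd_pow hd
    have : (b : ℤ) = 0 := by
      apply Int.eq_zero_of_abs_lt_dvd hd'
      have : ((b : ℤ).natAbs : ℤ) < p := by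
        have : (b : ℤ).natAbs + 1 ≤ p := le_trans (le_max_right _ _) hpge
        exact_mod_cast this
      rwa [Int.natCast_natAbs] at this
    exact hb0 this
  · have hd' := hpZ.dvd_of_dvd_pow hd
    have h3p : 3 ≤ p := le_trans (le_max_left _ _) hpge
    have : (p : ℤ) ≤ 2 := Int.le_of_dvd (by norm_num) hd'
    omega

end Groth.Agent.Helper7.NonNoeth
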