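import Mathlib

set_option autoImplicit false
set_option maxSynthPendingDepth 3
set_option linter.style.haveILetI false
universe u v

namespace Groth.Agent.Helper7.NormLen

variable {A : Type u} [CommRing A]

/-- length of `A ⧸ J`. -/
noncomputable def ell (J : Ideal A) : ℕ∞ := Module.length A (A ⧸ J)

theorem ell_top : ell (⊤ : Ideal A) = 0 := by
  rw [ell, Module.length_eq_zero_iff]
  exact Ideal.Quotient.subsingleton_iff.2 rfl

/-- subadditivity for a product. -/
theorem ell_mul_le (I : Ideal A) (y z : A) :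
    ell (I ⊔ Ideal.span {y * z}) ≤ ell (I ⊔ Ideal.span {y}) + ell (I ⊔ Ideal.span {z}) := by
  set J := I ⊔ Ideal.span {y * z} with hJ
  set J₁ := I ⊔ Ideal.span {y} with hJ₁
  set J₂ := I ⊔ Ideal.span {z} with hJ₂
  have hJJ₁ : J ≤ J₁ := by
    refine sup_le le_sup_left ?_
    rw [Ideal.span_singleton_le_iff_mem]
    exact Ideal.mem_sup_right (Ideal.mul_mem_right _ _ (Ideal.mem_span_singleton_self y))
  have hyJ₂ : J₂ ≤ Submodule.comap (LinearMap.lsmul A A y) J := by
    intro a ha
    rw [Submodule.mem_comap, LinearMap.lsmul_apply, smul_eq_mul]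
    obtain ⟨i, hi, c, hc, rfl⟩ := Submodule.mem_sup.1 ha
    obtain ⟨c', rfl⟩ := Ideal.mem_span_singleton'.1 hc
    rw [mul_add]
    refine add_mem (Ideal.mem_sup_left (Ideal.mul_mem_left _ _ hi)) (Ideal.mem_sup_right ?_)
    rw [Ideal.mem_span_singleton']
    exact ⟨c', by ring⟩
  let f : (A ⧸ J₂) →ₗ[A] (A ⧸ J) := Submodule.mapQ J₂ J (LinearMap.lsmul A A y) hyJ₂
  let g : (A ⧸ J) →ₗ[A] (A ⧸ J₁) := Submodule.mapQ J J₁ LinearMap.id hJJ₁
  have hg : Function.Surjective g := by
    intro x
    obtain ⟨a, rfl⟩ := Submodule.Quotient.mk_surjective _ x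
    exact ⟨Submodule.Quotient.mk a, rfl⟩
  have h1 := Module.length_eq_add_of_exact (LinearMap.ker g).subtype g
    (Submodule.subtype_injective _) hg (LinearMap.exact_subtype_ker_map g)
  have hker : LinearMap.ker g ≤ LinearMap.range f := by
    intro x hx
    obtain ⟨a, rfl⟩ := Submodule.Quotient.mk_surjective _ x
    rw [LinearMap.mem_ker] at hx
    have ha : a ∈ J₁ := by
      have : g (Submodule.Quotient.mk a) = Submodule.Quotient.mk a := rfl
      rw [this, Submodule.Quotient.mk_eq_zero] at hx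
      exact hx
    obtain ⟨i, hi, c, hc, rfl⟩ := Submodule.mem_sup.1 ha
    obtain ⟨c', rfl⟩ := Ideal.mem_span_singleton'.1 hc
    refine ⟨Submodule.Quotient.mk c', ?_⟩
    change Submodule.Quotient.mk (y • c') = _
    rw [eq_comm, ← sub_eq_zero, ← Submodule.Quotient.mk_sub, Submodule.Quotient.mk_eq_zero]
    have : i + c' * y - y • c' = i := by rw [smul_eq_mul]; ring
    rw [this]
    exact Ideal.mem_sup_left hi
  have h2 : Module.length A (LinearMap.ker g) ≤ Module.length A (LinearMap.range f) :=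
    Module.length_le_of_injective (Submodule.inclusion hker) (Submodule.inclusion_injective hker)
  have h3 : Module.length A (LinearMap.range f) ≤ Module.length A (A ⧸ J₂) :=
    Module.length_le_of_surjective f.rangeRestrict f.surjective_rangeRestrict
  rw [ell, ell, ell, h1, add_comm]
  exact add_le_add le_rfl (h2.trans h3)

/-- subadditivity for a finite product. -/
theorem ell_prod_le {G : Type v} (I : Ideal A) (y : G → A) (s : Finset G) :
    ell (I ⊔ Ideal.span {∏ σ ∈ s, y σ}) ≤ ∑ σ ∈ s, ell (I ⊔ Ideal.span {y σ}) := by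
  classical
  induction s using Finset.induction_on with
  | empty =>
    rw [Finset.prod_empty, Ideal.span_singleton_one, sup_top_eq, ell_top]
    simp
  | insert a s ha ih =>
    rw [Finset.prod_insert ha, Finset.sum_insert ha]
    exact (ell_mul_le I _ _).trans (add_le_add le_rfl ih)

/-- the multi-variable bound. -/
theorem ell_norms_le {G : Type v} [Fintype G] (n : ℕ) :
    ∀ (I : Ideal A) (Y : Fin n → G → A),
      ell (I ⊔ Ideal.span (Set.range fun i => ∏ σ, Y i σ)) ≤
        ∑ τ : Fin n → G, ell (I ⊔ Ideal.span (Set.range fun i => Y i (τ i))) := by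
  classical
  induction n with
  | zero =>
    intro I Y
    simp
  | succ n ih =>
    intro I Y
    have hL : I ⊔ Ideal.span (Set.range fun i => ∏ σ, Y i σ) =
        (I ⊔ Ideal.span (Set.range fun i : Fin n => ∏ σ, Y i.succ σ)) ⊔
          Ideal.span {∏ σ, Y 0 σ} := by
      rw [Fin.range_fin_succ, Ideal.span_insert, sup_assoc, sup_comm (Ideal.span (Set.range _))]
      rfl
    rw [hL]
    refine (ell_prod_le _ (Y 0) Finset.univ).trans ?_
    have hstep : ∀ σ₀ : G,
        ell ((I ⊔ Ideal.span (Set.range fun i : Fin n => ∏ σ, Y i.succ σ)) ⊔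
          Ideal.span {Y 0 σ₀}) ≤
        ∑ τ' : Fin n → G, ell (I ⊔ Ideal.span (Set.range fun i : Fin (n + 1) =>
          Y i ((Fin.cons σ₀ τ' : Fin (n + 1) → G) i))) := by
      intro σ₀
      have h1 : (I ⊔ Ideal.span (Set.range fun i : Fin n => ∏ σ, Y i.succ σ)) ⊔
          Ideal.span {Y 0 σ₀} =
          (I ⊔ Ideal.span {Y 0 σ₀}) ⊔
            Ideal.span (Set.range fun i : Fin n => ∏ σ, Y i.succ σ) := by
        rw [sup_assoc, sup_assoc, sup_comm (Ideal.span {Y 0 σ₀})]
      rw [h1]
      refine (ih (I ⊔ Ideal.span {Y 0 σ₀}) (fun i => Y i.succ)).trans (le_of_eq ?_)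
      refine Finset.sum_congr rfl fun τ' _ => ?_
      congr 1
      rw [Fin.range_fin_succ, Ideal.span_insert, sup_assoc]
      simp only [Fin.cons_zero]
      congr 2
    refine (Finset.sum_le_sum fun σ₀ _ => hstep σ₀).trans (le_of_eq ?_)
    rw [← Finset.sum_product', Finset.univ_product_univ]
    exact Fintype.sum_equiv (Fin.consEquiv fun _ => G) _ _ fun ⟨σ₀, τ'⟩ => rfl

end Groth.Agent.Helper7.NormLen
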