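import Mathlib
import Groth.Agent.Helper7.TightCM1
import Groth.Agent.Helper7.NormLen
import Groth.Agent.Helper2.RegCM

set_option autoImplicit false
set_option linter.style.haveILetI false
universe u v
open IsLocalRing Module

namespace Groth.Agent.Helper7.NormLenGe

open Groth.Agent.Helper7.NormLen

section add
variable {A : Type u} [CommRing A]

/-- additivity for a product with a regular factor. -/
theorem ell_mul_eq (I : Ideal A) (y z : A) (hy : ∀ w, y * w ∈ I → w ∈ I) :
    ell (I ⊔ Ideal.span {y * z}) = ell (I ⊔ Ideal.span {y}) + ell (I ⊔ Ideal.span {z}) := by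
  set J := I ⊔ Ideal.span {y * z} with hJ
  set J₁ := I ⊔ Ideal.span {y} with hJ₁
  set J₂ := I ⊔ Ideal.span {z} with hJ₂
  have hJJ₁ : J ≤ J₁ := by
    refine sup_le le_sup_left ?_
    rw [Ideal.span_singleton_le_iff_mem]
    exact Ideal.mem_sup_right (Ideal.mul_mem_right _ _ (Ideal.mem_span_singleton_self y))
  have hyJ₂ : J₂ ≤ Submodule.comap (LinearMap.lsmul A A y) J := by
    intro a ha
    rw [Submodule.mem_comap, LinearMap.lsmul_apply, smul_eq_mul]
    obtain ⟨i, hi, c, hc, rfl⟩ := Submodule.mem_sup.1 ha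
    obtain ⟨c', rfl⟩ := Ideal.mem_span_singleton'.1 hc
    rw [mul_add]
    refine add_mem (Ideal.mem_sup_left (Ideal.mul_mem_left _ _ hi)) (Ideal.mem_sup_right ?_)
    rw [Ideal.mem_span_singleton']
    exact ⟨c', by ring⟩
  let f : (A ⧸ J₂) →ₗ[A] (A ⧸ J) := Submodule.mapQ J₂ J (LinearMap.lsmul A A y) hyJ₂
  let g : (A ⧸ J) →ₗ[A] (A ⧸ J₁) := Submodule.mapQ J J₁ LinearMap.id hJJ₁
  have hf : ∀ a : A, f (Submodule.Quotient.mk a) = Submodule.Quotient.mk (y * a) := fun a => rfl
  have hg' : ∀ a : A, g (Submodule.Quotient.mk a) = Submodule.Quotient.mk a := fun a => rfl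
  have hg : Function.Surjective g := by
    intro x
    obtain ⟨a, rfl⟩ := Submodule.Quotient.mk_surjective _ x
    exact ⟨Submodule.Quotient.mk a, rfl⟩
  have hfinj : Function.Injective f := by
    rw [injective_iff_map_eq_zero]
    intro x hx
    obtain ⟨a, rfl⟩ := Submodule.Quotient.mk_surjective _ x
    rw [hf, Submodule.Quotient.mk_eq_zero] at hx
    rw [Submodule.Quotient.mk_eq_zero]
    obtain ⟨i, hi, c, hc, hic⟩ := Submodule.mem_sup.1 hx
    obtain ⟨c', rfl⟩ := Ideal.mem_span_singleton'.1 hc
    have h1 : y * (a - c' * z) ∈ I := by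
      have : y * (a - c' * z) = i := by rw [mul_sub, ← hic]; ring
      rw [this]; exact hi
    have h2 := hy _ h1
    have : a = (a - c' * z) + c' * z := by ring
    rw [this]
    exact add_mem (Ideal.mem_sup_left h2)
      (Ideal.mem_sup_right (Ideal.mul_mem_left _ _ (Ideal.mem_span_singleton_self z)))
  have hex : Function.Exact f g := by
    intro x
    obtain ⟨a, rfl⟩ := Submodule.Quotient.mk_surjective _ x
    rw [hg', Submodule.Quotient.mk_eq_zero]
    constructor
    · intro ha
      obtain ⟨i, hi, c, hc, rfl⟩ := Submodule.mem_sup.1 ha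
      obtain ⟨c', rfl⟩ := Ideal.mem_span_singleton'.1 hc
      refine ⟨Submodule.Quotient.mk c', ?_⟩
      rw [hf, eq_comm, ← sub_eq_zero, ← Submodule.Quotient.mk_sub, Submodule.Quotient.mk_eq_zero]
      have : i + c' * y - y * c' = i := by ring
      rw [this]
      exact Ideal.mem_sup_left hi
    · rintro ⟨w, hw⟩
      obtain ⟨c, rfl⟩ := Submodule.Quotient.mk_surjective _ w
      rw [hf] at hw
      have h5 : a - y * c ∈ J := by
        rw [← Submodule.Quotient.mk_eq_zero, Submodule.Quotient.mk_sub, hw, sub_self]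
      have : a = (a - y * c) + y * c := by ring
      rw [this]
      exact add_mem (hJJ₁ h5)
        (Ideal.mem_sup_right (Ideal.mul_mem_right _ _ (Ideal.mem_span_singleton_self y)))
  rw [ell, ell, ell, Module.length_eq_add_of_exact f g hfinj hg hex, add_comm]

/-- additivity for a finite product of regular elements. -/
theorem ell_prod_eq {G : Type v} (I : Ideal A) (y : G → A)
    (hy : ∀ σ w, y σ * w ∈ I → w ∈ I) (s : Finset G) :
    ell (I ⊔ Ideal.span {∏ σ ∈ s, y σ}) = ∑ σ ∈ s, ell (I ⊔ Ideal.span {y σ}) := by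
  classical
  induction s using Finset.induction_on with
  | empty =>
    rw [Finset.prod_empty, Ideal.span_singleton_one, sup_top_eq, ell_top]
    simp
  | insert a s ha ih =>
    rw [Finset.prod_insert ha, Finset.sum_insert ha, ell_mul_eq I _ _ (hy a), ih]

end add

section main
variable {A : Type u} [CommRing A] [LocCoh.IsCohenMacaulayLocalRing A]
  {G : Type v} [Group G] [Fintype G] [MulSemiringAction G A] {n : ℕ}

omit [Fintype G] in
theorem smul_mem_maximalIdeal (σ : G) (a : A) (ha : a ∈ maximalIdeal A) :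
    σ • a ∈ maximalIdeal A := by
  rw [mem_maximalIdeal, mem_nonunits_iff] at ha ⊢
  intro h
  apply ha
  have := h.map (MulSemiringAction.toRingHom G A σ⁻¹)
  simpa using this

open Classical in
/-- mixed family: norms on `S`, translates elsewhere -/
noncomputable def cc (u : Fin n → A) (S : Finset (Fin n)) (τ : Fin n → G) (i : Fin n) : A :=
  if i ∈ S then ∏ σ : G, σ • u i else τ i • u i

theorem cc_mem (u : Fin n → A) (hu : ∀ i, u i ∈ maximalIdeal A) (S : Finset (Fin n))
    (τ : Fin n → G) (i : Fin n) : cc u S τ i ∈ maximalIdeal A := by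
  unfold cc
  split_ifs with h
  · refine Ideal.prod_mem _ (Finset.mem_univ (1 : G)) ?_
    rw [one_smul]; exact hu i
  · exact smul_mem_maximalIdeal _ _ (hu i)

theorem le_radical_cc (u : Fin n → A)
    (hwa : ∀ τ : Fin n → G,
      maximalIdeal A ≤ (Ideal.span (Set.range fun i => τ i • u i)).radical)
    (S : Finset (Fin n)) (τ : Fin n → G) :
    maximalIdeal A ≤ (Ideal.span (Set.range (cc u S τ))).radical := by
  classical
  rw [Ideal.radical_eq_sInf]
  refine le_sInf ?_
  rintro P ⟨hP, hPp⟩
  have h1 : ∀ i, ∃ σ : G, σ • u i ∈ P := by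
    intro i
    have hi : cc u S τ i ∈ P := hP (Ideal.subset_span ⟨i, rfl⟩)
    unfold cc at hi
    split_ifs at hi with h
    · obtain ⟨σ, -, hσ⟩ := (Ideal.IsPrime.prod_mem_iff (hp := hPp)).1 hi
      exact ⟨σ, hσ⟩
    · exact ⟨τ i, hi⟩
  choose τ' hτ' using h1
  refine (hwa τ').trans ?_
  rw [Ideal.IsPrime.radical_le_iff hPp, Ideal.span_le]
  rintro _ ⟨i, rfl⟩
  exact hτ' i

theorem radical_cc (u : Fin n → A) (hu : ∀ i, u i ∈ maximalIdeal A)
    (hwa : ∀ τ : Fin n → G,
      maximalIdeal A ≤ (Ideal.span (Set.range fun i => τ i • u i)).radical)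
    (S : Finset (Fin n)) (τ : Fin n → G) :
    (Ideal.span (Set.range (cc u S τ))).radical = maximalIdeal A := by
  refine le_antisymm ?_ (le_radical_cc u hwa S τ)
  rw [Ideal.IsPrime.radical_le_iff (inferInstance : (maximalIdeal A).IsPrime), Ideal.span_le]
  rintro _ ⟨i, rfl⟩
  exact cc_mem u hu S τ i

theorem cc_image_eq (u : Fin n → A) (S : Finset (Fin n)) (τ : Fin n → G) (i : Fin n)
    (hi : i ∉ S) (σ : G) :
    cc u (insert i S) τ '' {j | j ≠ i} = cc u S (Function.update τ i σ) '' {j | j ≠ i} := by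
  classical
  apply Set.image_congr
  intro j hj
  have hj' : j ≠ i := hj
  unfold cc
  rw [Function.update_of_ne hj']
  simp [Finset.mem_insert, hj']

theorem cc_insert_self (u : Fin n → A) (S : Finset (Fin n)) (τ : Fin n → G) (i : Fin n) :
    cc u (insert i S) τ i = ∏ σ : G, σ • u i := by
  classical
  unfold cc
  simp

theorem cc_update_self (u : Fin n → A) (S : Finset (Fin n)) (τ : Fin n → G) (i : Fin n)
    (hi : i ∉ S) (σ : G) :
    cc u S (Function.update τ i σ) i = σ • u i := by
  classical
  unfold cc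
  simp [hi]

theorem step (hn : ringKrullDim A = n) (u : Fin n → A) (hu : ∀ i, u i ∈ maximalIdeal A)
    (hwa : ∀ τ : Fin n → G,
      maximalIdeal A ≤ (Ideal.span (Set.range fun i => τ i • u i)).radical)
    (S : Finset (Fin n)) (τ : Fin n → G) (i : Fin n) (hi : i ∉ S) :
    ell (Ideal.span (Set.range (cc u (insert i S) τ))) =
      ∑ σ : G, ell (Ideal.span (Set.range (cc u S (Function.update τ i σ)))) := by
  classical
  set J : Ideal A := Ideal.span (cc u (insert i S) τ '' {j | j ≠ i}) with hJ
  have hJσ : ∀ σ : G, Ideal.span (cc u S (Function.update τ i σ) '' {j | j ≠ i}) = J := by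
    intro σ
    rw [hJ, cc_image_eq u S τ i hi σ]
  have hreg : ∀ (σ : G) (w : A), σ • u i * w ∈ J → w ∈ J := by
    intro σ w hw
    have := TightCM.nzd_of_sop hn (cc u S (Function.update τ i σ))
      (radical_cc u hu hwa S _) i w
    rw [hJσ σ, cc_update_self u S τ i hi σ] at this
    exact this hw
  rw [TightCM.span_range_eq (cc u (insert i S) τ) i, cc_insert_self, ← hJ, sup_comm,
    ell_prod_eq J (fun σ => σ • u i) hreg Finset.univ]
  refine Finset.sum_congr rfl fun σ _ => ?_
  rw [TightCM.span_range_eq (cc u S (Function.update τ i σ)) i, hJσ σ,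
    cc_update_self u S τ i hi σ, sup_comm]

theorem main_aux (hn : ringKrullDim A = n) (u : Fin n → A) (hu : ∀ i, u i ∈ maximalIdeal A)
    (hwa : ∀ τ : Fin n → G,
      maximalIdeal A ≤ (Ideal.span (Set.range fun i => τ i • u i)).radical)
    (S : Finset (Fin n)) :
    ∀ τ : Fin n → G, ((Fintype.card G ^ S.card : ℕ) : ℕ∞) ≤
      ell (Ideal.span (Set.range (cc u S τ))) := by
  classical
  induction S using Finset.induction_on with
  | empty =>
    intro τ
    rw [Finset.card_empty, pow_zero, Nat.cast_one, ell, Order.one_le_iff_ne_zero, Ne,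
      Module.length_eq_zero_iff, not_subsingleton_iff_nontrivial, Ideal.Quotient.nontrivial_iff]
    intro h
    have h1 : Ideal.span (Set.range (cc u ∅ τ)) ≤ maximalIdeal A := by
      rw [Ideal.span_le]
      rintro _ ⟨i, rfl⟩
      exact cc_mem u hu ∅ τ i
    rw [h] at h1
    exact (maximalIdeal.isMaximal A).ne_top (top_le_iff.1 h1)
  | insert i S hi ih =>
    intro τ
    rw [step hn u hu hwa S τ i hi, Finset.card_insert_of_notMem hi, pow_succ]
    calc ((Fintype.card G ^ S.card * Fintype.card G : ℕ) : ℕ∞)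
        = ∑ _σ : G, ((Fintype.card G ^ S.card : ℕ) : ℕ∞) := by
          rw [Finset.sum_const, Finset.card_univ, nsmul_eq_mul]
          push_cast
          ring
      _ ≤ _ := Finset.sum_le_sum fun σ _ => ih _

theorem main (hn : ringKrullDim A = n) (u : Fin n → A)
    (hu : Ideal.span (Set.range u) = maximalIdeal A)
    (hwa : ∀ τ : Fin n → G,
      maximalIdeal A ≤ (Ideal.span (Set.range fun i => τ i • u i)).radical) :
    ((Fintype.card G ^ n : ℕ) : ℕ∞) ≤
      Module.length A (A ⧸ Ideal.span (Set.range fun i => ∏ σ : G, σ • u i)) := by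
  classical
  have hu' : ∀ i, u i ∈ maximalIdeal A := fun i => hu ▸ Ideal.subset_span ⟨i, rfl⟩
  have h := main_aux hn u hu' hwa Finset.univ (fun _ => 1)
  rw [Finset.card_univ, Fintype.card_fin] at h
  have hcc : cc u Finset.univ (fun _ => (1 : G)) = fun i => ∏ σ : G, σ • u i := by
    funext i
    unfold cc
    simp
  rw [hcc] at h
  exact h

end main

end Groth.Agent.Helper7.NormLenGe
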