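import Mathlib

set_option autoImplicit false
universe u v w x

namespace Groth.Agent.Helper7.NrdH

open Module

/-- A module over a finite-dimensional simple algebra with the same dimension as the algebra is
free of rank one. -/
theorem exists_bijective_smul (k : Type u) [Field k] (A : Type w) [Ring A] [Algebra k A]
    [IsSimpleRing A] [FiniteDimensional k A]
    (W : Type x) [AddCommGroup W] [Module A W] [Module k W] [IsScalarTower k A W]
    (h : finrank k W = finrank k A) : ∃ w₀ : W, Function.Bijective (fun a : A => a • w₀) := by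
  classical
  haveI : IsArtinianRing A := IsArtinianRing.of_finite k A
  have hApos : 0 < finrank k A := Module.finrank_pos
  haveI : FiniteDimensional k W := Module.finite_of_finrank_pos (by omega)
  haveI : Module.Finite A W := Module.Finite.of_restrictScalars_finite k A W
  obtain ⟨S₀, hS₀⟩ := IsAtomic.exists_atom (Submodule A A)
  rw [← isSimpleModule_iff_isAtom] at hS₀
  have hR : IsIsotypicOfType A A S₀ := IsSimpleRing.isIsotypic A A S₀
  have hW : IsIsotypicOfType A W S₀ := by
    intro m _
    obtain ⟨I, ⟨e⟩⟩ := IsSemisimpleRing.exists_linearEquiv_ideal_of_isSimpleModule A m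
    haveI : IsSimpleModule A I := IsSimpleModule.congr e.symm
    exact ⟨e.trans (hR I).some⟩
  obtain ⟨r, ⟨eW⟩⟩ := hW.linearEquiv_fun
  obtain ⟨n, ⟨eA⟩⟩ := hR.linearEquiv_fun
  have h1 : finrank k W = r * finrank k S₀ := by
    rw [(eW.restrictScalars k).finrank_eq, Module.finrank_pi_fintype]
    simp
  have h2 : finrank k A = n * finrank k S₀ := by
    rw [(eA.restrictScalars k).finrank_eq, Module.finrank_pi_fintype]
    simp
  haveI : Nontrivial S₀ := IsSimpleModule.nontrivial A S₀
  have hd : 0 < finrank k S₀ := Module.finrank_pos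
  have hrn : r = n := by
    rw [h1, h2] at h
    exact Nat.eq_of_mul_eq_mul_right hd h
  subst hrn
  let e : W ≃ₗ[A] A := eW.trans eA.symm
  refine ⟨e.symm 1, ?_⟩
  have : (fun a : A => a • e.symm 1) = e.symm := by
    funext a
    rw [← map_smul, smul_eq_mul, mul_one]
  rw [this]
  exact e.symm.bijective

/-- In a finite-dimensional algebra, an element with a right inverse is a unit. -/
theorem isUnit_of_mul_eq_one (K : Type u) [Field K] (T : Type w) [Ring T] [Algebra K T]
    [FiniteDimensional K T] (x y : T) (h : x * y = 1) : IsUnit x := by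
  have hsurj : Function.Surjective (LinearMap.mulLeft K x) := by
    intro z
    exact ⟨y * z, by rw [LinearMap.mulLeft_apply, ← mul_assoc, h, one_mul]⟩
  have hinj : Function.Injective (LinearMap.mulLeft K x) :=
    LinearMap.injective_iff_surjective.2 hsurj
  have h2 : y * x = 1 := by
    apply hinj
    rw [LinearMap.mulLeft_apply, LinearMap.mulLeft_apply, ← mul_assoc, h, one_mul, mul_one]
  exact ⟨⟨x, y, h, h2⟩, rfl⟩

end Groth.Agent.Helper7.NrdH
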