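import Mathlib
import Groth.Prelude.Def_GSzCSA
import Groth.Agent.Helper7.GalInv
import Groth.Agent.Helper7.GalDescent
import Groth.Agent.Helper7.NrdHA

set_option autoImplicit false
universe u v w

namespace Groth.Agent.Helper7.NrdH

open Module
open scoped TensorProduct

attribute [local instance] CSAGal.tensorAction GpH1.unitsAction

section action

variable {k : Type u} [Field k] {K : Type v} [Field K] [Algebra k K]
  {A : Type w} [Ring A] [Algebra k A]

theorem smul_tmul_eq (σ : K ≃ₐ[k] K) (c : K) (a : A) :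
    σ • (c ⊗ₜ[k] a) = σ c ⊗ₜ[k] a := by
  rw [TensorProduct.smul_tmul', AlgEquiv.smul_def]

theorem smul_one_tmul (σ : K ≃ₐ[k] K) (a : A) :
    σ • ((1 : K) ⊗ₜ[k] a) = (1 : K) ⊗ₜ[k] a := by
  rw [smul_tmul_eq, map_one]

theorem smul_smul_eq (σ : K ≃ₐ[k] K) (c : K) (x : K ⊗[k] A) :
    σ • (c • x) = σ c • σ • x := by
  induction x using TensorProduct.induction_on with
  | zero => rw [smul_zero, smul_zero, smul_zero]
  | tmul d a =>
    rw [TensorProduct.smul_tmul', smul_tmul_eq, smul_tmul_eq, TensorProduct.smul_tmul', smul_eq_mul,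
      smul_eq_mul, map_mul]
  | add x y hx hy => rw [smul_add, smul_add, hx, hy, smul_add, smul_add]

theorem units_smul_val (σ : K ≃ₐ[k] K) (u : (K ⊗[k] A)ˣ) :
    ((σ • u : (K ⊗[k] A)ˣ) : K ⊗[k] A) = σ • (u : K ⊗[k] A) := rfl

theorem cocycle_one (a : GpH1.OneCocycle (K ≃ₐ[k] K) (K ⊗[k] A)ˣ) : a 1 = 1 := by
  have h := a.2 1 1
  rw [one_smul, mul_one] at h
  exact (mul_eq_left.1 h.symm)

end action

section H90

variable {k : Type u} [Field k] {K : Type v} [Field K] [Algebra k K] [FiniteDimensional k K]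
  [IsGalois k K] {A : Type w} [Ring A] [Algebra k A] [IsSimpleRing A] [FiniteDimensional k A]

/-- the twisted action. -/
noncomputable def rho (a : GpH1.OneCocycle (K ≃ₐ[k] K) (K ⊗[k] A)ˣ) (σ : K ≃ₐ[k] K)
    (x : K ⊗[k] A) : K ⊗[k] A :=
  σ • x * (((a σ)⁻¹ : (K ⊗[k] A)ˣ) : K ⊗[k] A)

omit [FiniteDimensional k K] [IsGalois k K] [IsSimpleRing A] [FiniteDimensional k A] in
theorem rho_isSemiAction (a : GpH1.OneCocycle (K ≃ₐ[k] K) (K ⊗[k] A)ˣ) :
    GalDescent.IsSemiAction (k := k) (K := K) (M := K ⊗[k] A) (rho a) where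
  add σ x y := by
    unfold rho
    rw [smul_add, add_mul]
  smul σ c x := by
    unfold rho
    rw [smul_smul_eq, smul_mul_assoc]
  mul σ τ x := by
    unfold rho
    rw [a.2 σ τ, mul_inv_rev, Units.val_mul, smul_mul', mul_smul, ← smul_inv', units_smul_val,
      mul_assoc]
  one x := by
    unfold rho
    rw [cocycle_one, one_smul, inv_one, Units.val_one, mul_one]

/-- Hilbert 90 for the units of `K ⊗ A`, `A` simple. -/
theorem hilbert90 (a : GpH1.OneCocycle (K ≃ₐ[k] K) (K ⊗[k] A)ˣ) :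
    ∃ b : (K ⊗[k] A)ˣ, ∀ σ, a σ = b⁻¹ * σ • b := by
  classical
  letI modA : Module A (K ⊗[k] A) :=
    Module.compHom (K ⊗[k] A) (Algebra.TensorProduct.includeRight : A →ₐ[k] K ⊗[k] A).toRingHom
  have hsm : ∀ (a' : A) (x : K ⊗[k] A), a' • x = ((1 : K) ⊗ₜ[k] a') * x := fun _ _ => rfl
  haveI : IsScalarTower k A (K ⊗[k] A) := ⟨fun c a' x => by
    rw [hsm, hsm, TensorProduct.tmul_smul, smul_mul_assoc]⟩
  have hρ := rho_isSemiAction a
  let W : Submodule A (K ⊗[k] A) :=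
    { carrier := {x | ∀ σ, rho a σ x = x}
      add_mem' := by
        intro x y hx hy σ
        rw [hρ.add, hx σ, hy σ]
      zero_mem' := fun σ => hρ.zero σ
      smul_mem' := by
        intro a' x hx σ
        have h1 := hx σ
        unfold rho at h1 ⊢
        rw [hsm, smul_mul', smul_one_tmul, mul_assoc, h1] }
  have hW : ∀ x, x ∈ W ↔ ∀ σ, rho a σ x = x := fun x => Iff.rfl
  let Wk : Submodule k (K ⊗[k] A) := W.restrictScalars k
  have hbij := hρ.lift_bijective Wk.subtype Wk.subtype_injective (by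
    intro y
    rw [Submodule.range_subtype]
    exact hW y)
  -- dimension count
  have hdim : finrank k W = finrank k A := by
    have e1 : (K ⊗[k] Wk) ≃ₗ[K] (K ⊗[k] A) := LinearEquiv.ofBijective _ hbij
    have h1 := e1.finrank_eq
    rw [Module.finrank_baseChange, Module.finrank_baseChange] at h1
    exact h1
  obtain ⟨w₀, hw₀⟩ := exists_bijective_smul k A W hdim
  -- w₀ is a unit
  have hrange : ∀ z : K ⊗[k] Wk, LinearMap.liftBaseChange K Wk.subtype z ∈
      LinearMap.range (LinearMap.mulRight K (w₀ : K ⊗[k] A)) := by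
    intro z
    induction z using TensorProduct.induction_on with
    | zero => rw [map_zero]; exact Submodule.zero_mem _
    | tmul c w =>
      obtain ⟨a', ha'⟩ := hw₀.2 ⟨w.1, w.2⟩
      rw [LinearMap.liftBaseChange_tmul]
      refine ⟨c ⊗ₜ[k] a', ?_⟩
      have h2 : (w : K ⊗[k] A) = ((1 : K) ⊗ₜ[k] a') * (w₀ : K ⊗[k] A) := by
        have := congrArg Subtype.val ha'
        exact this.symm
      rw [LinearMap.mulRight_apply, Submodule.subtype_apply, h2, ← smul_mul_assoc,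
        TensorProduct.smul_tmul', smul_eq_mul, mul_one]
    | add x y hx hy => rw [map_add]; exact Submodule.add_mem _ hx hy
  obtain ⟨z, hz⟩ := hbij.2 1
  obtain ⟨y, hy⟩ := hrange z
  rw [hz, LinearMap.mulRight_apply] at hy
  have hyu : IsUnit y := isUnit_of_mul_eq_one K (K ⊗[k] A) y w₀ hy
  have hwu : IsUnit (w₀ : K ⊗[k] A) := by
    have : (w₀ : K ⊗[k] A) = ((hyu.unit⁻¹ : (K ⊗[k] A)ˣ) : K ⊗[k] A) := by
      rw [← one_mul (w₀ : K ⊗[k] A), ← hyu.val_inv_mul, mul_assoc, hy, mul_one]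
    rw [this]
    exact Units.isUnit _
  refine ⟨hwu.unit, fun σ => ?_⟩
  have h3 := (hW w₀).1 w₀.2 σ
  unfold rho at h3
  rw [eq_inv_mul_iff_mul_eq]
  apply Units.ext
  rw [Units.val_mul, units_smul_val, IsUnit.unit_spec]
  calc (w₀ : K ⊗[k] A) * ((a σ : (K ⊗[k] A)ˣ) : K ⊗[k] A)
      = (σ • (w₀ : K ⊗[k] A) * (((a σ)⁻¹ : (K ⊗[k] A)ˣ) : K ⊗[k] A)) *
          ((a σ : (K ⊗[k] A)ˣ) : K ⊗[k] A) := by rw [h3]
    _ = σ • (w₀ : K ⊗[k] A) := by rw [mul_assoc, Units.inv_mul, mul_one]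

end H90

end Groth.Agent.Helper7.NrdH
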