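import Mathlib
import Groth.Prelude.Def_GSzCSA
import Groth.Agent.Helper7.RedChar
import Groth.Agent.Helper7.NrdHB

set_option autoImplicit false
set_option linter.unusedSectionVars false
universe u v w

namespace Groth.Agent.Helper7.NrdH

open Module
open scoped TensorProduct

attribute [local instance] CSAGal.tensorAction GpH1.unitsAction

section norm

variable {k : Type u} [Field k] {K : Type v} [Field K] [Algebra k K]
  {A : Type w} [Ring A] [Algebra k A] [Algebra.IsCentral k A] [IsSimpleRing A]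
  [FiniteDimensional k A]
  {n : ℕ} (φ : K ⊗[k] A ≃ₐ[K] Matrix (Fin n) (Fin n) K)
  (NK : (K ⊗[k] A) →* K) (hNK : CSAGal.IsRedNorm K (K ⊗[k] A) NK)

include φ in
theorem finrank_T : finrank K (K ⊗[k] A) = n * n := by
  rw [φ.toLinearEquiv.finrank_eq, Module.finrank_matrix]
  simp

include φ hNK in
theorem NK_eq_det_of_algHom (ψ : K ⊗[k] A →ₐ[K] Matrix (Fin n) (Fin n) K) (z : K ⊗[k] A) :
    NK z = Matrix.det (ψ z) := by
  haveI : Algebra.IsCentral K (K ⊗[k] A) := Groth.Agent.Helper5.CSA.isCentral_baseChange k K A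
  haveI : NeZero n :=
    ⟨RedChar.ne_zero_of_finrank k A n (RedChar.finrank_of_equiv k A K n φ)⟩
  haveI : IsSimpleRing (K ⊗[k] A) := IsSimpleRing.of_ringEquiv φ.symm.toRingEquiv inferInstance
  have h := RedChar.algebraMap_redNorm K (K ⊗[k] A) K n (finrank_T φ) ψ z
  rw [RedChar.eq_redNorm K (K ⊗[k] A) NK hNK]
  rw [← h]
  rfl

include hNK in
theorem NK_eq_det (z : K ⊗[k] A) : NK z = Matrix.det (φ z) :=
  NK_eq_det_of_algHom φ NK hNK φ.toAlgHom z

include φ hNK in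
theorem NK_one_tmul (N : A →* k) (hN : CSAGal.IsRedNorm k A N) (a : A) :
    NK ((1 : K) ⊗ₜ[k] a) = algebraMap k K (N a) := by
  rw [NK_eq_det φ NK hNK, RedChar.eq_redNorm k A N hN,
    RedChar.algebraMap_redNorm k A K n (RedChar.finrank_of_equiv k A K n φ)
      (RedChar.repOfEquiv k A K n φ) a, RedChar.repOfEquiv_apply]

/-- the conjugate representation. -/
noncomputable def conjRep (σ : K ≃ₐ[k] K) : K ⊗[k] A →ₐ[K] Matrix (Fin n) (Fin n) K :=
  { ((σ : K →+* K).mapMatrix).comp ((φ : K ⊗[k] A →+* Matrix (Fin n) (Fin n) K).comp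
      (MulSemiringAction.toRingHom (K ≃ₐ[k] K) (K ⊗[k] A) σ⁻¹)) with
    commutes' := by
      intro c
      show ((σ : K →+* K).mapMatrix) (φ (σ⁻¹ • algebraMap K (K ⊗[k] A) c)) = _
      have h1 : algebraMap K (K ⊗[k] A) c = c ⊗ₜ[k] (1 : A) := by
        rw [Algebra.TensorProduct.algebraMap_apply]; rfl
      have h2 : (σ⁻¹ c) ⊗ₜ[k] (1 : A) = algebraMap K (K ⊗[k] A) (σ⁻¹ c) := by
        rw [Algebra.TensorProduct.algebraMap_apply]; rfl
      rw [h1, smul_tmul_eq, h2,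
        AlgEquiv.commutes, Matrix.algebraMap_eq_diagonal, Matrix.algebraMap_eq_diagonal,
        RingHom.mapMatrix_apply, Matrix.diagonal_map (map_zero _)]
      congr 1
      funext i
      simp }

theorem conjRep_apply (σ : K ≃ₐ[k] K) (z : K ⊗[k] A) :
    conjRep φ σ z = ((σ : K →+* K).mapMatrix) (φ (σ⁻¹ • z)) := rfl

include φ hNK in
theorem NK_smul (σ : K ≃ₐ[k] K) (z : K ⊗[k] A) : NK (σ • z) = σ (NK z) := by
  rw [NK_eq_det_of_algHom φ NK hNK (conjRep φ σ) (σ • z), conjRep_apply, inv_smul_smul,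
    ← RingHom.map_det, NK_eq_det φ NK hNK z]
  rfl

end norm

section main

variable {k : Type u} [Field k] {K : Type v} [Field K] [Algebra k K] [FiniteDimensional k K]
  [IsGalois k K]
  {A : Type w} [Ring A] [Algebra k A] [Algebra.IsCentral k A] [IsSimpleRing A]
  [FiniteDimensional k A]

/-- the unit `1 ⊗ x`. -/
noncomputable def oneTmulUnit (x : Aˣ) : (K ⊗[k] A)ˣ :=
  Units.map ((Algebra.TensorProduct.includeRight : A →ₐ[k] K ⊗[k] A) : A →* K ⊗[k] A) x

theorem oneTmulUnit_val (x : Aˣ) :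
    ((oneTmulUnit x : (K ⊗[k] A)ˣ) : K ⊗[k] A) = (1 : K) ⊗ₜ[k] (x : A) := rfl

theorem smul_oneTmulUnit (σ : K ≃ₐ[k] K) (x : Aˣ) :
    σ • (oneTmulUnit x : (K ⊗[k] A)ˣ) = oneTmulUnit x := by
  apply Units.ext
  rw [units_smul_val, oneTmulUnit_val, smul_one_tmul]

/-- an invariant unit comes from a unit of `A`. -/
theorem exists_unit_of_invariant (y : (K ⊗[k] A)ˣ) (hy : ∀ σ : K ≃ₐ[k] K, σ • y = y) :
    ∃ x : Aˣ, y = oneTmulUnit x := by
  have h1 : ∀ σ : K ≃ₐ[k] K, σ • (y : K ⊗[k] A) = y := fun σ => by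
    rw [← units_smul_val, hy σ]
  have h2 : ∀ σ : K ≃ₐ[k] K, σ • ((y⁻¹ : (K ⊗[k] A)ˣ) : K ⊗[k] A) = (y⁻¹ : (K ⊗[k] A)ˣ) :=
    fun σ => by rw [← units_smul_val, smul_inv', hy σ]
  obtain ⟨x₀, hx₀⟩ := GalInv.inv_exists (k := k) (K := K) (y : K ⊗[k] A) h1
  obtain ⟨x₁, hx₁⟩ := GalInv.inv_exists (k := k) (K := K)
    ((y⁻¹ : (K ⊗[k] A)ˣ) : K ⊗[k] A) h2
  have h3 : x₀ * x₁ = 1 := by
    apply GalInv.tmul_one_injective (k := k) (K := K)
    show (1 : K) ⊗ₜ[k] (x₀ * x₁) = (1 : K) ⊗ₜ[k] (1 : A)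
    have := y.mul_inv
    rw [hx₀, hx₁, Algebra.TensorProduct.tmul_mul_tmul, mul_one] at this
    rw [this, Algebra.TensorProduct.one_def]
  have h4 : x₁ * x₀ = 1 := by
    apply GalInv.tmul_one_injective (k := k) (K := K)
    show (1 : K) ⊗ₜ[k] (x₁ * x₀) = (1 : K) ⊗ₜ[k] (1 : A)
    have := y.inv_mul
    rw [hx₀, hx₁, Algebra.TensorProduct.tmul_mul_tmul, mul_one] at this
    rw [this, Algebra.TensorProduct.one_def]
  refine ⟨⟨x₀, x₁, h3, h4⟩, ?_⟩
  apply Units.ext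
  rw [oneTmulUnit_val, hx₀]

theorem main (hA : Curves.Splits k A K)
    (N : A →* k) (hN : CSAGal.IsRedNorm k A N)
    (NK : (K ⊗[k] A) →* K) (hNK : CSAGal.IsRedNorm K (K ⊗[k] A) NK) :
    (∀ a : GpH1.OneCocycle (K ≃ₐ[k] K) (K ⊗[k] A)ˣ, (∀ σ, NK (a σ : K ⊗[k] A) = 1) →
        ∃ (c : kˣ) (b : (K ⊗[k] A)ˣ), NK (b : K ⊗[k] A) = algebraMap k K (c : k) ∧
          ∀ σ : K ≃ₐ[k] K, a σ = b⁻¹ * σ • b) ∧
    (∀ (c c' : kˣ) (b b' : (K ⊗[k] A)ˣ),
        NK (b : K ⊗[k] A) = algebraMap k K (c : k) → NK (b' : K ⊗[k] A) = algebraMap k K (c' : k) →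
        ((∃ s : (K ⊗[k] A)ˣ, NK (s : K ⊗[k] A) = 1 ∧
            ∀ σ : K ≃ₐ[k] K, b'⁻¹ * σ • b' = s⁻¹ * (b⁻¹ * σ • b) * σ • s) ↔
          ∃ x : Aˣ, (c' : k) = N (x : A) * (c : k))) := by
  obtain ⟨n, hn, ⟨φ⟩⟩ := hA
  have hsm := NK_smul φ NK hNK
  have hone := NK_one_tmul φ NK hNK N hN
  -- NK on units
  have hNKu : ∀ u : (K ⊗[k] A)ˣ, NK (u : K ⊗[k] A) ≠ 0 := by
    intro u h0
    have := congrArg NK u.mul_inv
    rw [map_mul, h0, zero_mul, map_one] at this
    exact zero_ne_one this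
  have hNKinv : ∀ u : (K ⊗[k] A)ˣ, NK ((u⁻¹ : (K ⊗[k] A)ˣ) : K ⊗[k] A) = (NK (u : K ⊗[k] A))⁻¹ := by
    intro u
    have := congrArg NK u.inv_mul
    rw [map_mul, map_one] at this
    exact eq_inv_of_mul_eq_one_left this
  constructor
  · intro a ha
    obtain ⟨b, hb⟩ := hilbert90 a
    have hfix : ∀ σ : K ≃ₐ[k] K, σ (NK (b : K ⊗[k] A)) = NK (b : K ⊗[k] A) := by
      intro σ
      have h1 := ha σ
      rw [hb σ, Units.val_mul, map_mul, hNKinv, units_smul_val, hsm] at h1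
      have h2 := hNKu b
      field_simp at h1
      exact h1
    have hmem : NK (b : K ⊗[k] A) ∈ Set.range (algebraMap k K) := by
      rw [IsGalois.mem_range_algebraMap_iff_fixed]
      exact hfix
    obtain ⟨c, hc⟩ := hmem
    have hc0 : c ≠ 0 := by
      rintro rfl
      rw [map_zero] at hc
      exact hNKu b hc.symm
    exact ⟨Units.mk0 c hc0, b, hc.symm, hb⟩
  · intro c c' b b' hb hb'
    have hc0 : algebraMap k K (c : k) ≠ 0 := by
      rw [← hb]; exact hNKu b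
    constructor
    · rintro ⟨s, hs1, hs⟩
      -- y = b' (b s)⁻¹ is invariant
      have hinv : ∀ σ : K ≃ₐ[k] K, σ • (b' * (b * s)⁻¹) = b' * (b * s)⁻¹ := by
        intro σ
        have h1 := hs σ
        rw [smul_mul', smul_inv', smul_mul']
        have h2 : σ • b' = b' * (s⁻¹ * (b⁻¹ * σ • b) * σ • s) := by
          rw [← h1, mul_inv_cancel_left]
        rw [h2]
        group
      obtain ⟨x, hx⟩ := exists_unit_of_invariant (b' * (b * s)⁻¹) hinv
      refine ⟨x, ?_⟩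
      apply (algebraMap k K).injective
      rw [map_mul, ← hone, ← oneTmulUnit_val, ← hx, ← hb, ← hb', Units.val_mul, map_mul, hNKinv,
        Units.val_mul, map_mul, hs1, mul_one]
      have := hNKu b
      field_simp
    · rintro ⟨x, hx⟩
      refine ⟨b⁻¹ * (oneTmulUnit x)⁻¹ * b', ?_, ?_⟩
      · rw [Units.val_mul, Units.val_mul, map_mul, map_mul, hNKinv, hNKinv, oneTmulUnit_val, hone,
          hb, hb', hx, map_mul]
        have hx0 : algebraMap k K (N (x : A)) ≠ 0 := by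
          intro h0
          have h1 := hNKu (oneTmulUnit x)
          rw [oneTmulUnit_val, hone] at h1
          exact h1 h0
        field_simp
      · intro σ
        rw [smul_mul', smul_mul', smul_inv', smul_inv', smul_oneTmulUnit]
        group

end main

end Groth.Agent.Helper7.NrdH
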