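import Mathlib

set_option autoImplicit false
universe u v w x

namespace Groth.Agent.Helper7.NrdH

open Module

section lovasz

variable {A : Type w} [Ring A]

/-- maps with a given kernel correspond to injective maps from the quotient. -/
noncomputable def kerEquiv (P : Type w) [AddCommGroup P] [Module A P]
    (M : Type x) [AddCommGroup M] [Module A M] (N : Submodule A P) :
    {f : P →ₗ[A] M // LinearMap.ker f = N} ≃ {g : (P ⧸ N) →ₗ[A] M // Function.Injective g} where
  toFun f := ⟨N.liftQ f.1 (le_of_eq f.2.symm), by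
    rw [← LinearMap.ker_eq_bot, Submodule.ker_liftQ, f.2, Submodule.mkQ_map_self]⟩
  invFun g := ⟨g.1.comp N.mkQ, by
    rw [LinearMap.ker_comp, LinearMap.ker_eq_bot.2 g.2, Submodule.comap_bot, Submodule.ker_mkQ]⟩
  left_inv f := by
    apply Subtype.ext
    ext p
    simp
  right_inv g := by
    apply Subtype.ext
    apply LinearMap.ext
    intro q
    obtain ⟨p, rfl⟩ := N.mkQ_surjective q
    simp

theorem card_hom_eq_sum (P : Type w) [AddCommGroup P] [Module A P] [Finite P]
    (M : Type x) [AddCommGroup M] [Module A M] [Finite M] [Fintype (Submodule A P)] :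
    Nat.card (P →ₗ[A] M) = ∑ N : Submodule A P, Nat.card {f : P →ₗ[A] M // LinearMap.ker f = N} := by
  haveI : Finite (P →ₗ[A] M) := Finite.of_injective (fun f => (f : P → M)) DFunLike.coe_injective
  rw [← Nat.card_sigma]
  exact Nat.card_congr (Equiv.sigmaFiberEquiv (fun f : P →ₗ[A] M => LinearMap.ker f)).symm

theorem card_quotient_lt (P : Type w) [AddCommGroup P] [Module A P] [Finite P]
    (N : Submodule A P) (hN : N ≠ ⊥) : Nat.card (P ⧸ N) < Nat.card P := by
  rw [Submodule.card_eq_card_quotient_mul_card N]
  have h1 : 1 < Nat.card N := by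
    haveI : Nontrivial N := Submodule.nontrivial_iff_ne_bot.2 hN
    exact Finite.one_lt_card
  haveI : Finite (P ⧸ N) := Finite.of_surjective _ N.mkQ_surjective
  have h2 : 0 < Nat.card (P ⧸ N) := Nat.card_pos
  nlinarith

/-- Lovász-type counting: equal numbers of homomorphisms give equal numbers of injective
homomorphisms. -/
theorem card_injective_eq {M : Type u} [AddCommGroup M] [Module A M] [Finite M]
    {M' : Type v} [AddCommGroup M'] [Module A M'] [Finite M']
    (h : ∀ (P : Type w) [AddCommGroup P] [Module A P] [Finite P],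
      Nat.card (P →ₗ[A] M) = Nat.card (P →ₗ[A] M')) :
    ∀ (n : ℕ) (P : Type w) [AddCommGroup P] [Module A P] [Finite P], Nat.card P = n →
      Nat.card {f : P →ₗ[A] M // Function.Injective f} =
        Nat.card {f : P →ₗ[A] M' // Function.Injective f} := by
  intro n
  induction n using Nat.strong_induction_on with
  | _ n ih =>
    intro P _ _ _ hP
    classical
    haveI : Finite (Submodule A P) := Finite.of_injective (fun N => (N : Set P)) SetLike.coe_injective
    haveI : Fintype (Submodule A P) := Fintype.ofFinite _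
    have h1 := card_hom_eq_sum (A := A) P M
    have h2 := card_hom_eq_sum (A := A) P M'
    rw [h P, h2] at h1
    rw [← Finset.add_sum_erase _ _ (Finset.mem_univ (⊥ : Submodule A P)),
      ← Finset.add_sum_erase _ _ (Finset.mem_univ (⊥ : Submodule A P))] at h1
    have h3 : ∑ N ∈ Finset.univ.erase (⊥ : Submodule A P),
        Nat.card {f : P →ₗ[A] M' // LinearMap.ker f = N} =
        ∑ N ∈ Finset.univ.erase (⊥ : Submodule A P),
          Nat.card {f : P →ₗ[A] M // LinearMap.ker f = N} := by
      refine Finset.sum_congr rfl fun N hN => ?_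
      have hN' : N ≠ ⊥ := Finset.ne_of_mem_erase hN
      haveI : Finite (P ⧸ N) := Finite.of_surjective _ N.mkQ_surjective
      rw [Nat.card_congr (kerEquiv P M' N), Nat.card_congr (kerEquiv P M N)]
      exact (ih (Nat.card (P ⧸ N)) (hP ▸ card_quotient_lt P N hN') (P ⧸ N) rfl).symm
    rw [h3] at h1
    have h4 := Nat.add_right_cancel h1
    have e1 : {f : P →ₗ[A] M // Function.Injective f} ≃ {f : P →ₗ[A] M // LinearMap.ker f = ⊥} :=
      Equiv.subtypeEquivRight fun f => LinearMap.ker_eq_bot.symm
    have e2 : {f : P →ₗ[A] M' // Function.Injective f} ≃ {f : P →ₗ[A] M' // LinearMap.ker f = ⊥} :=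
      Equiv.subtypeEquivRight fun f => LinearMap.ker_eq_bot.symm
    rw [Nat.card_congr e1, Nat.card_congr e2]
    exact h4.symm

/-- cancellation: if `W^d ≅ A^d` (as counted by homomorphisms) then `W` is free of rank one. -/
theorem exists_bijective_smul_of_card [Finite A] (W : Type x) [AddCommGroup W] [Module A W]
    [Finite W] (hcard : Nat.card W = Nat.card A)
    (h : ∀ (P : Type w) [AddCommGroup P] [Module A P] [Finite P],
      Nat.card (P →ₗ[A] W) = Nat.card (P →ₗ[A] A)) :
    ∃ w₀ : W, Function.Bijective (fun a : A => a • w₀) := by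
  have h1 := card_injective_eq h (Nat.card A) A rfl
  haveI : Finite (A →ₗ[A] A) := Finite.of_injective (fun f => (f : A → A)) DFunLike.coe_injective
  haveI : Finite (A →ₗ[A] W) := Finite.of_injective (fun f => (f : A → W)) DFunLike.coe_injective
  have h2 : 0 < Nat.card {f : A →ₗ[A] A // Function.Injective f} := by
    haveI : Nonempty {f : A →ₗ[A] A // Function.Injective f} :=
      ⟨⟨LinearMap.id, Function.injective_id⟩⟩
    exact Nat.card_pos
  rw [← h1] at h2
  obtain ⟨⟨f, hf⟩⟩ := (Nat.card_pos_iff.1 h2).1
  refine ⟨f 1, ?_⟩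
  have hfun : (fun a : A => a • f 1) = f := by
    funext a
    rw [← map_smul, smul_eq_mul, mul_one]
  rw [hfun]
  exact (Nat.bijective_iff_injective_and_card f).2 ⟨hf, hcard.symm⟩

end lovasz

end Groth.Agent.Helper7.NrdH
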