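import Mathlib
import Groth.Agent.Helper7.NrdHA

set_option autoImplicit false
universe u v w x

namespace Groth.Agent.Helper7.NrdH

open Module

section density

variable {k : Type u} [Field k] {K : Type v} [Field K] [Algebra k K]

/-- a nonzero polynomial over an extension of an infinite field has a non-root with coordinates in
the small field. -/
theorem exists_small_point [Infinite k] {J : Type} [Fintype J] (G : MvPolynomial J K) (hG : G ≠ 0) :
    ∃ x₀ : J → k, MvPolynomial.eval (fun j => algebraMap k K (x₀ j)) G ≠ 0 := by
  by_contra hcon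
  push Not at hcon
  apply hG
  refine MvPolynomial.funext_set (fun _ => Set.range (algebraMap k K))
    (fun _ => Set.infinite_range_of_injective (algebraMap k K).injective) fun x hx => ?_
  choose x₀ hx₀ using fun j => hx j (Set.mem_univ j)
  have : x = fun j => algebraMap k K (x₀ j) := funext fun j => (hx₀ j).symm
  rw [this, hcon, map_zero]

variable {T : Type w} [Ring T] [Algebra K T] [FiniteDimensional K T]

/-- nonzero determinant of left multiplication means unit. -/
theorem isUnit_of_det_leftMul {ι : Type*} [Fintype ι] [DecidableEq ι] (b : Basis ι K T) (w : T)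
    (h : (Algebra.leftMulMatrix b w).det ≠ 0) : IsUnit w := by
  have h1 : LinearMap.det (LinearMap.mulLeft K w) ≠ 0 := by
    rw [← LinearMap.det_toMatrix b]
    exact h
  have hsurj := (LinearMap.equivOfDetNeZero _ h1).surjective
  obtain ⟨y, hy⟩ := hsurj 1
  exact isUnit_of_mul_eq_one K T w y hy

variable [Module k T] [IsScalarTower k K T]

/-- a `k`-subspace of a finite-dimensional `K`-algebra whose `K`-span contains `1` contains a unit,
for infinite `k`. -/
theorem exists_isUnit_mem [Infinite k] (W : Submodule k T)
    (h1 : (1 : T) ∈ Submodule.span K (W : Set T)) : ∃ w ∈ W, IsUnit w := by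
  classical
  obtain ⟨m, c, g, hg⟩ := Submodule.mem_span_set'.1 h1
  let b := Module.finBasis K T
  let L : Fin m → Matrix (Fin (finrank K T)) (Fin (finrank K T)) K :=
    fun i => Algebra.leftMulMatrix b (g i : T)
  let MX : Matrix (Fin (finrank K T)) (Fin (finrank K T)) (MvPolynomial (Fin m) K) :=
    ∑ i, (MvPolynomial.X i : MvPolynomial (Fin m) K) • (L i).map MvPolynomial.C
  have hev : ∀ x : Fin m → K, MvPolynomial.eval x MX.det =
      (Algebra.leftMulMatrix b (∑ i, x i • (g i : T))).det := by
    intro x
    rw [RingHom.map_det]
    congr 1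
    rw [map_sum]
    ext p q
    simp only [MX, L, RingHom.mapMatrix_apply, Matrix.map_apply, Matrix.sum_apply, map_sum,
      Matrix.smul_apply, smul_eq_mul, map_mul, MvPolynomial.eval_X, MvPolynomial.eval_C, map_smul]
  have hP : MX.det ≠ 0 := by
    intro h0
    have := hev c
    rw [h0, map_zero, hg, map_one, Matrix.det_one] at this
    exact zero_ne_one this
  obtain ⟨t, ht⟩ := exists_small_point (k := k) MX.det hP
  rw [hev] at ht
  have hw : (∑ i, algebraMap k K (t i) • (g i : T)) ∈ W := by
    refine Submodule.sum_mem _ fun i _ => ?_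
    rw [algebraMap_smul]
    exact W.smul_mem _ (g i).2
  exact ⟨_, hw, isUnit_of_det_leftMul b _ ht⟩

end density

end Groth.Agent.Helper7.NrdH
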