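import Mathlib
import Groth.Prelude.Def_GSzCSA
import Groth.Agent.Helper7.NrdHB
import Groth.Agent.Helper7.NrdHD
import Groth.Agent.Helper7.NrdHE

set_option autoImplicit false
set_option linter.unusedSectionVars false
universe u v w x y

namespace Groth.Agent.Helper7.NrdH

open Module
open scoped TensorProduct

attribute [local instance] CSAGal.tensorAction GpH1.unitsAction

section homcard

variable {A : Type w} [Ring A]

theorem card_hom_congr (P : Type x) [AddCommGroup P] [Module A P]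
    {X : Type u} [AddCommGroup X] [Module A X] {Y : Type v} [AddCommGroup Y] [Module A Y]
    (e : X ≃ₗ[A] Y) : Nat.card (P →ₗ[A] X) = Nat.card (P →ₗ[A] Y) := by
  refine Nat.card_congr
    { toFun := fun f => e.toLinearMap.comp f
      invFun := fun g => e.symm.toLinearMap.comp g
      left_inv := fun f => by ext p; simp
      right_inv := fun g => by ext p; simp }

theorem card_hom_pi (P : Type x) [AddCommGroup P] [Module A P]
    (X : Type u) [AddCommGroup X] [Module A X] (d : ℕ) :
    Nat.card (P →ₗ[A] (Fin d → X)) = Nat.card (P →ₗ[A] X) ^ d := by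
  have e : (P →ₗ[A] (Fin d → X)) ≃ (Fin d → (P →ₗ[A] X)) :=
    { toFun := fun f i => (LinearMap.proj i).comp f
      invFun := fun g => LinearMap.pi g
      left_inv := fun f => by ext p i; simp
      right_inv := fun g => by ext i p; simp }
  rw [Nat.card_congr e, Nat.card_fun, Nat.card_fin]

end homcard

section basis

variable {k : Type u} [Field k] {K : Type v} [Field K] [Algebra k K]

theorem sumBasis_bijective {d : ℕ} (b : Basis (Fin d) k K) (N : Type x) [AddCommGroup N]
    [Module k N] :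
    Function.Bijective (fun u : Fin d → N => (∑ i, b i ⊗ₜ[k] u i : K ⊗[k] N)) := by
  classical
  have h : (fun u : Fin d → N => (∑ i, b i ⊗ₜ[k] u i : K ⊗[k] N)) =
      (TensorProduct.equivFinsuppOfBasisLeft b).symm ∘ (Finsupp.equivFunOnFinite).symm := by
    funext u
    rw [Function.comp_apply, TensorProduct.equivFinsuppOfBasisLeft_symm_apply,
      Finsupp.sum_fintype _ _ (fun i => TensorProduct.tmul_zero _ _)]
    rfl
  rw [h]
  exact (TensorProduct.equivFinsuppOfBasisLeft b).symm.bijective.comp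
    (Finsupp.equivFunOnFinite).symm.bijective

end basis

section general

variable {k : Type u} [Field k] {K : Type v} [Field K] [Algebra k K] [FiniteDimensional k K]
  [IsGalois k K] {A : Type w} [Ring A] [Algebra k A] [FiniteDimensional k A]

/-- the fixed space of the twisted action. -/
noncomputable def fixedSub (a : GpH1.OneCocycle (K ≃ₐ[k] K) (K ⊗[k] A)ˣ) :
    Submodule k (K ⊗[k] A) where
  carrier := {x | ∀ σ, rho a σ x = x}
  add_mem' := by
    intro x y hx hy σ
    rw [(rho_isSemiAction a).add, hx σ, hy σ]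
  zero_mem' := fun σ => (rho_isSemiAction a).zero σ
  smul_mem' := by
    intro c x hx σ
    rw [← algebraMap_smul K c x, (rho_isSemiAction a).smul, AlgEquiv.commutes, hx σ]

theorem mem_fixedSub (a : GpH1.OneCocycle (K ≃ₐ[k] K) (K ⊗[k] A)ˣ) (x : K ⊗[k] A) :
    x ∈ fixedSub a ↔ ∀ σ, rho a σ x = x := Iff.rfl

theorem one_tmul_mul_mem (a : GpH1.OneCocycle (K ≃ₐ[k] K) (K ⊗[k] A)ˣ) (a' : A) (x : K ⊗[k] A)
    (hx : x ∈ fixedSub a) : ((1 : K) ⊗ₜ[k] a') * x ∈ fixedSub a := by
  intro σ
  have h1 := hx σ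
  unfold rho at h1 ⊢
  rw [smul_mul', smul_one_tmul, mul_assoc, h1]

theorem fixedSub_lift_bijective (a : GpH1.OneCocycle (K ≃ₐ[k] K) (K ⊗[k] A)ˣ) :
    Function.Bijective (LinearMap.liftBaseChange K (fixedSub a).subtype) :=
  (rho_isSemiAction a).lift_bijective (fixedSub a).subtype (fixedSub a).subtype_injective (by
    intro y
    rw [Submodule.range_subtype]
    exact mem_fixedSub a y)

theorem finrank_fixedSub (a : GpH1.OneCocycle (K ≃ₐ[k] K) (K ⊗[k] A)ˣ) :
    finrank k (fixedSub a) = finrank k A := by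
  have e1 : (K ⊗[k] (fixedSub a)) ≃ₗ[K] (K ⊗[k] A) :=
    LinearEquiv.ofBijective _ (fixedSub_lift_bijective a)
  have h1 := e1.finrank_eq
  rw [Module.finrank_baseChange, Module.finrank_baseChange] at h1
  exact h1

/-- a fixed unit trivialises the cocycle. -/
theorem coboundary_of_fixed_unit (a : GpH1.OneCocycle (K ≃ₐ[k] K) (K ⊗[k] A)ˣ) (w : K ⊗[k] A)
    (hw : w ∈ fixedSub a) (hwu : IsUnit w) : ∃ b : (K ⊗[k] A)ˣ, ∀ σ, a σ = b⁻¹ * σ • b := by
  refine ⟨hwu.unit, fun σ => ?_⟩
  have h3 := hw σ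
  unfold rho at h3
  rw [eq_inv_mul_iff_mul_eq]
  apply Units.ext
  rw [Units.val_mul, units_smul_val, IsUnit.unit_spec]
  calc w * ((a σ : (K ⊗[k] A)ˣ) : K ⊗[k] A)
      = (σ • w * (((a σ)⁻¹ : (K ⊗[k] A)ˣ) : K ⊗[k] A)) *
          ((a σ : (K ⊗[k] A)ˣ) : K ⊗[k] A) := by rw [h3]
    _ = σ • w := by rw [mul_assoc, Units.inv_mul, mul_one]

/-- a generator of the fixed space is a unit. -/
theorem isUnit_of_generator (a : GpH1.OneCocycle (K ≃ₐ[k] K) (K ⊗[k] A)ˣ) (w₀ : K ⊗[k] A)
    (hgen : ∀ w ∈ fixedSub a, ∃ a' : A, w = ((1 : K) ⊗ₜ[k] a') * w₀) : IsUnit w₀ := by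
  have hbij := fixedSub_lift_bijective a
  have hrange : ∀ z : K ⊗[k] (fixedSub a), LinearMap.liftBaseChange K (fixedSub a).subtype z ∈
      LinearMap.range (LinearMap.mulRight K w₀) := by
    intro z
    induction z using TensorProduct.induction_on with
    | zero => rw [map_zero]; exact Submodule.zero_mem _
    | tmul c w =>
      obtain ⟨a', ha'⟩ := hgen w.1 w.2
      rw [LinearMap.liftBaseChange_tmul]
      refine ⟨c ⊗ₜ[k] a', ?_⟩
      rw [LinearMap.mulRight_apply, Submodule.subtype_apply, ha', ← smul_mul_assoc,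
        TensorProduct.smul_tmul', smul_eq_mul, mul_one]
    | add x y hx hy => rw [map_add]; exact Submodule.add_mem _ hx hy
  obtain ⟨z, hz⟩ := hbij.2 1
  obtain ⟨y, hy⟩ := hrange z
  rw [hz, LinearMap.mulRight_apply] at hy
  have hyu : IsUnit y := isUnit_of_mul_eq_one K (K ⊗[k] A) y w₀ hy
  have : w₀ = ((hyu.unit⁻¹ : (K ⊗[k] A)ˣ) : K ⊗[k] A) := by
    rw [← one_mul w₀, ← hyu.val_inv_mul, mul_assoc, hy, mul_one]
  rw [this]
  exact Units.isUnit _

theorem exists_fixed_unit_infinite [Infinite k]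
    (a : GpH1.OneCocycle (K ≃ₐ[k] K) (K ⊗[k] A)ˣ) :
    ∃ w ∈ fixedSub a, IsUnit w := by
  apply exists_isUnit_mem (k := k) (K := K) (fixedSub a)
  exact (rho_isSemiAction a).mem_span_fixed 1

end general

end Groth.Agent.Helper7.NrdH
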