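import Mathlib
import Groth.Prelude.Def_GSzCSA
import Groth.Agent.Helper7.NrdHF

set_option autoImplicit false
set_option linter.unusedSectionVars false
universe u v w x y

namespace Groth.Agent.Helper7.NrdH

open Module
open scoped TensorProduct

attribute [local instance] CSAGal.tensorAction GpH1.unitsAction

section general

variable {k : Type u} [Field k] {K : Type v} [Field K] [Algebra k K] [FiniteDimensional k K]
  [IsGalois k K] {A : Type w} [Ring A] [Algebra k A] [FiniteDimensional k A]

theorem exists_fixed_unit_finite [Finite k]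
    (a : GpH1.OneCocycle (K ≃ₐ[k] K) (K ⊗[k] A)ˣ) :
    ∃ w ∈ fixedSub a, IsUnit w := by
  classical
  letI modA : Module A (K ⊗[k] A) :=
    Module.compHom (K ⊗[k] A) (Algebra.TensorProduct.includeRight : A →ₐ[k] K ⊗[k] A).toRingHom
  have hsm : ∀ (a' : A) (x : K ⊗[k] A), a' • x = ((1 : K) ⊗ₜ[k] a') * x := fun _ _ => rfl
  let W : Submodule A (K ⊗[k] A) :=
    { carrier := fixedSub a
      add_mem' := (fixedSub a).add_mem
      zero_mem' := (fixedSub a).zero_mem
      smul_mem' := fun a' x hx => one_tmul_mul_mem a a' x hx }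
  have hWmem : ∀ x, x ∈ W ↔ x ∈ fixedSub a := fun x => Iff.rfl
  haveI : Finite K := Module.finite_of_finite k
  haveI : Finite A := Module.finite_of_finite k
  haveI : Finite (K ⊗[k] A) := Module.finite_of_finite K
  haveI : Finite W := Subtype.finite
  have hcard : Nat.card W = Nat.card A := by
    rw [Nat.card_congr (Equiv.subtypeEquivRight hWmem), Module.natCard_eq_pow_finrank (K := k),
      finrank_fixedSub, ← Module.natCard_eq_pow_finrank]
  let b : Basis (Fin (finrank k K)) k K := Module.finBasis k K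
  let Ψ : (Fin (finrank k K) → A) →ₗ[A] (K ⊗[k] A) :=
    { toFun := fun u => ∑ i, b i ⊗ₜ[k] u i
      map_add' := fun u v => by
        simp only [Pi.add_apply, TensorProduct.tmul_add, Finset.sum_add_distrib]
      map_smul' := fun a' u => by
        simp only [Pi.smul_apply, RingHom.id_apply, Finset.smul_sum]
        refine Finset.sum_congr rfl fun i _ => ?_
        rw [hsm, Algebra.TensorProduct.tmul_mul_tmul, one_mul, smul_eq_mul] }
  let Φ : (Fin (finrank k K) → W) →ₗ[A] (K ⊗[k] A) :=
    { toFun := fun v => ∑ i, b i • (v i : K ⊗[k] A)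
      map_add' := fun u v => by
        simp only [Pi.add_apply, Submodule.coe_add, smul_add, Finset.sum_add_distrib]
      map_smul' := fun a' u => by
        simp only [Pi.smul_apply, RingHom.id_apply, Finset.smul_sum, Submodule.coe_smul]
        refine Finset.sum_congr rfl fun i _ => ?_
        rw [hsm, hsm, mul_smul_comm] }
  have hΨ : Function.Bijective Ψ := sumBasis_bijective b A
  have hΦ : Function.Bijective Φ := by
    have h1 := (fixedSub_lift_bijective a).comp (sumBasis_bijective b (fixedSub a))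
    let e : (Fin (finrank k K) → W) ≃ (Fin (finrank k K) → fixedSub a) :=
      Equiv.piCongrRight fun _ => Equiv.subtypeEquivRight hWmem
    have h2 := h1.comp e.bijective
    convert h2 using 1
    funext v
    show ∑ i, b i • (v i : K ⊗[k] A) = LinearMap.liftBaseChange K (fixedSub a).subtype
      (∑ i, b i ⊗ₜ[k] e v i)
    rw [map_sum]
    refine Finset.sum_congr rfl fun i _ => ?_
    rw [LinearMap.liftBaseChange_tmul]
    rfl
  have hd : finrank k K ≠ 0 := (Module.finrank_pos).ne'
  have hcount : ∀ (P : Type w) [AddCommGroup P] [Module A P] [Finite P],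
      Nat.card (P →ₗ[A] W) = Nat.card (P →ₗ[A] A) := by
    intro P _ _ _
    have h1 := card_hom_pi (A := A) P W (finrank k K)
    have h2 := card_hom_pi (A := A) P A (finrank k K)
    have h3 := card_hom_congr P (LinearEquiv.ofBijective Φ hΦ)
    have h4 := card_hom_congr P (LinearEquiv.ofBijective Ψ hΨ)
    have h5 : Nat.card (P →ₗ[A] W) ^ finrank k K = Nat.card (P →ₗ[A] A) ^ finrank k K := by
      rw [← h1, ← h2, h3, h4]
    exact Nat.pow_left_injective hd h5
  obtain ⟨w₀, hw₀⟩ := exists_bijective_smul_of_card W hcard hcount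
  refine ⟨w₀, w₀.2, isUnit_of_generator a w₀ ?_⟩
  intro w hw
  obtain ⟨a', ha'⟩ := hw₀.2 ⟨w, hw⟩
  exact ⟨a', (congrArg Subtype.val ha').symm⟩

/-- Hilbert 90 for the units of `K ⊗ A`, `A` any finite-dimensional algebra. -/
theorem hilbert90_general (a : GpH1.OneCocycle (K ≃ₐ[k] K) (K ⊗[k] A)ˣ) :
    ∃ b : (K ⊗[k] A)ˣ, ∀ σ, a σ = b⁻¹ * σ • b := by
  rcases finite_or_infinite k with hk | hk
  · obtain ⟨w, hw, hu⟩ := exists_fixed_unit_finite a
    exact coboundary_of_fixed_unit a w hw hu
  · obtain ⟨w, hw, hu⟩ := exists_fixed_unit_infinite a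
    exact coboundary_of_fixed_unit a w hw hu

theorem h1_trivial : GpH1.H1.IsTrivial (K ≃ₐ[k] K) (K ⊗[k] A)ˣ := by
  intro x
  obtain ⟨a, rfl⟩ := GpH1.OneCocycle.cl_surjective x
  obtain ⟨b, hb⟩ := hilbert90_general a
  unfold GpH1.H1.pt
  rw [GpH1.OneCocycle.cl_eq_cl_iff]
  refine ⟨b, fun σ => ?_⟩
  rw [hb σ]
  show _ = b⁻¹ * 1 * σ • b
  rw [mul_one]

end general

end Groth.Agent.Helper7.NrdH
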