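import Mathlib
import Groth.Prelude.Def_CartDual2
import Groth.Prelude.Def_SGA3b

set_option autoImplicit false
universe u v

namespace Groth.Agent.Helper7.OTa

open TensorProduct WithConv

variable (R : Type u) [CommRing R] (A : Type v) [CommRing A] [HopfAlgebra R A]
  [Module.Finite R A] [Module.Projective R A]

theorem mul'_map_transpose (F G : A →ₗ[R] A) (t : CartDual.D R A ⊗[R] CartDual.D R A) (a : A) :
    (LinearMap.mul' R (CartDual.D R A)
      (TensorProduct.map (CartDual.transposeLin R F) (CartDual.transposeLin R G) t)).ofConv a =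
      CartDual.ev₂ R A t (TensorProduct.map F G (Coalgebra.comul (R := R) a)) := by
  induction t using TensorProduct.induction_on with
  | zero => simp
  | add t t' ht ht' => simp only [map_add, WithConv.ofConv_add, LinearMap.add_apply, ht, ht']
  | tmul y y' =>
    rw [TensorProduct.map_tmul, LinearMap.mul'_apply, ← CartDual.coe_apply, LinearMap.convMul_apply]
    generalize (Coalgebra.comul (R := R) a : A ⊗[R] A) = s
    induction s using TensorProduct.induction_on with
    | zero => simp
    | add s s' hs hs' => simp only [map_add, hs, hs']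
    | tmul b c => simp [CartDual.coe_apply]

/-- Transposition is multiplicative for the convolution products. -/
theorem transpose_convMul (F G : WithConv (A →ₗ[R] A)) :
    (toConv (CartDual.transposeLin R F.ofConv) : WithConv (CartDual.D R A →ₗ[R] CartDual.D R A)) *
      toConv (CartDual.transposeLin R G.ofConv) = toConv (CartDual.transposeLin R (F * G).ofConv) := by
  apply WithConv.ofConv_injective
  ext x : 1
  apply WithConv.ofConv_injective
  ext a
  show ((toConv (CartDual.transposeLin R F.ofConv) * toConv (CartDual.transposeLin R G.ofConv) :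
      WithConv (CartDual.D R A →ₗ[R] CartDual.D R A)) x).ofConv a = x ((F * G) a)
  rw [LinearMap.convMul_apply, WithConv.ofConv_toConv, WithConv.ofConv_toConv, mul'_map_transpose,
    CartDual.comul_def, CartDual.ev₂_comul, LinearMap.convMul_apply]
  rfl

theorem transpose_convOne :
    (toConv (CartDual.transposeLin R (1 : WithConv (A →ₗ[R] A)).ofConv) :
      WithConv (CartDual.D R A →ₗ[R] CartDual.D R A)) = 1 := by
  apply WithConv.ofConv_injective
  ext x : 1
  apply WithConv.ofConv_injective
  ext a
  show x ((1 : WithConv (A →ₗ[R] A)) a) = ((1 : WithConv (CartDual.D R A →ₗ[R] CartDual.D R A)) x) a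
  rw [LinearMap.convOne_apply, LinearMap.convOne_apply, Algebra.algebraMap_eq_smul_one,
    CartDual.coe_apply, map_smul, CartDual.coalgebra_counit_apply, Algebra.algebraMap_eq_smul_one,
    CartDual.coe_apply, WithConv.ofConv_smul, LinearMap.smul_apply]
  have h1 : (1 : CartDual.D R A).ofConv a = Coalgebra.counit (R := R) a := by
    rw [← CartDual.coe_apply, LinearMap.convOne_apply]; simp
  simp [h1, mul_comm]

theorem transpose_convPow (F : WithConv (A →ₗ[R] A)) (n : ℕ) :
    (toConv (CartDual.transposeLin R F.ofConv) : WithConv (CartDual.D R A →ₗ[R] CartDual.D R A)) ^ n =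
      toConv (CartDual.transposeLin R (F ^ n).ofConv) := by
  induction n with
  | zero => rw [pow_zero, pow_zero, transpose_convOne]
  | succ n ih => rw [pow_succ, ih, transpose_convMul, ← pow_succ]

end Groth.Agent.Helper7.OTa

namespace Groth.Agent.Helper7.OTa

open TensorProduct WithConv

theorem powConv_dual (R : Type u) [CommRing R] (A : Type u) [CommRing A] [HopfAlgebra R A]
    [Coalgebra.IsCocomm R A] [Module.Finite R A] [Module.Projective R A] (n : ℕ)
    (x : CartDual.D R A) (a : A) :
    SGA3b.powConv R (CartDual.D R A) n x a = x (SGA3b.powConv R A n a) := by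
  have h2 : (toConv (SGA3b.powConv R (CartDual.D R A) n).toLinearMap :
      WithConv (CartDual.D R A →ₗ[R] CartDual.D R A)) = (toConv LinearMap.id) ^ n :=
    AlgHom.toLinearMap_convPow (toConv (AlgHom.id R (CartDual.D R A))) n
  have h3 : (toConv (SGA3b.powConv R A n).toLinearMap : WithConv (A →ₗ[R] A)) =
      (toConv (LinearMap.id : A →ₗ[R] A)) ^ n :=
    AlgHom.toLinearMap_convPow (toConv (AlgHom.id R A)) n
  have h4 : (toConv (LinearMap.id : CartDual.D R A →ₗ[R] CartDual.D R A)) =
      toConv (CartDual.transposeLin R (toConv (LinearMap.id : A →ₗ[R] A)).ofConv) := by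
    apply WithConv.ofConv_injective
    ext y : 1
    apply WithConv.ofConv_injective
    ext b
    rfl
  rw [h4, transpose_convPow, ← h3] at h2
  have h5 := congrArg (fun F : WithConv (CartDual.D R A →ₗ[R] CartDual.D R A) => (F.ofConv x).ofConv a) h2
  exact h5

end Groth.Agent.Helper7.OTa
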