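import Mathlib
import Groth.Agent.Helper7.OTa
import Groth.Agent.S18468

set_option autoImplicit false
universe u

namespace Groth.Agent.Helper7.OTb

open TensorProduct WithConv Groth.Agent.Helper7

variable (p : ℕ) [Fact p.Prime] (R : Type u) [CommRing R] (u : R)
  (χ : (ZMod p)ˣ →* Rˣ) (A : Type u) [CommRing A] [HopfAlgebra R A]

theorem mem_eigenAug (i : ℕ) (f : A) : f ∈ OortTate.eigenAug R A p χ i ↔
    Coalgebra.counit (R := R) f = 0 ∧
      ∀ m : (ZMod p)ˣ, SGA3b.powConv R A (m : ZMod p).val f = (((χ m : Rˣ) : R) ^ i) • f := by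
  unfold OortTate.eigenAug
  rw [Submodule.mem_inf, LinearMap.mem_ker, Submodule.mem_iInf]
  simp only [Module.End.mem_eigenspace_iff]
  rfl

theorem proj_apply (i : ℕ) (a : A) :
    OortTate.proj R A p u χ i a =
      u • ∑ m : (ZMod p)ˣ, (((χ m⁻¹ : Rˣ) : R) ^ i) • SGA3b.powConv R A (m : ZMod p).val a := by
  unfold OortTate.proj
  rw [LinearMap.smul_apply, LinearMap.sum_apply]
  rfl

variable (hu : u * ((p - 1 : ℕ) : R) = 1)
include hu

/-- `proj` fixes eigenvectors. -/
theorem proj_of_mem (i : ℕ) (f : A) (hf : f ∈ OortTate.eigenAug R A p χ i) :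
    OortTate.proj R A p u χ i f = f := by
  obtain ⟨_, hf2⟩ := (mem_eigenAug p R χ A i f).mp hf
  rw [proj_apply]
  have : ∀ m : (ZMod p)ˣ, (((χ m⁻¹ : Rˣ) : R) ^ i) • SGA3b.powConv R A (m : ZMod p).val f = f := by
    intro m
    rw [hf2 m, smul_smul, ← mul_pow, ← Units.val_mul, ← map_mul, inv_mul_cancel, map_one,
      Units.val_one, one_pow, one_smul]
  rw [Finset.sum_congr rfl (fun m _ => this m), Finset.sum_const, Finset.card_univ, ZMod.card_units p,
    ← Nat.cast_smul_eq_nsmul R, smul_smul, hu, one_smul]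

variable (hp : (WithConv.toConv (AlgHom.id R A)) ^ p = 1)
include hp

omit hu in
theorem powConv_proj (i : ℕ) (m : (ZMod p)ˣ) (g : A) :
    SGA3b.powConv R A (m : ZMod p).val (OortTate.proj R A p u χ i g) =
      (((χ m : Rˣ) : R) ^ i) • OortTate.proj R A p u χ i g := by
  have hm : (Groth.Agent.S18468.phi p R A hp m) * OortTate.proj R A p u χ i =
      (((χ m : Rˣ) : R) ^ i) • OortTate.proj R A p u χ i := by
    unfold OortTate.proj
    rw [mul_smul_comm, Finset.mul_sum, smul_comm (((χ m : Rˣ) : R) ^ i) u]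
    congr 1
    rw [Finset.smul_sum]
    rw [← Equiv.sum_comp (Equiv.mulLeft m)
      (fun k => (((χ m : Rˣ) : R) ^ i) • ((((χ k⁻¹ : Rˣ) : R) ^ i) •
        (SGA3b.powConv R A (k : ZMod p).val).toLinearMap))]
    refine Finset.sum_congr rfl fun n _ => ?_
    rw [Equiv.coe_mulLeft, mul_smul_comm, smul_smul, ← mul_pow, ← Units.val_mul, ← map_mul,
      mul_inv_rev, mul_comm m, mul_assoc, inv_mul_cancel, mul_one]
    congr 1
    exact ((Groth.Agent.S18468.phi p R A hp).map_mul m n).symm
  have := congrArg (fun F : Module.End R A => F g) hm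
  exact this

omit hu in
/-- `proj` maps the augmentation ideal into the eigenspace. -/
theorem proj_mem (i : ℕ) (g : A) (hg : Coalgebra.counit (R := R) g = 0) :
    OortTate.proj R A p u χ i g ∈ OortTate.eigenAug R A p χ i := by
  rw [mem_eigenAug]
  constructor
  · rw [proj_apply, map_smul, map_sum]
    have : ∀ m : (ZMod p)ˣ, Coalgebra.counit (R := R) ((((χ m⁻¹ : Rˣ) : R) ^ i) •
        SGA3b.powConv R A (m : ZMod p).val g) = 0 := by
      intro m
      rw [map_smul, Groth.Agent.Helper9.PowConv.counit_powConv, hg, smul_zero]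
    rw [Finset.sum_congr rfl (fun m _ => this m), Finset.sum_const_zero, smul_zero]
  · intro m
    exact powConv_proj p R u χ A hp i m g

omit hu in
theorem powConv_comm_proj (i : ℕ) (m : (ZMod p)ˣ) (g : A) :
    SGA3b.powConv R A (m : ZMod p).val (OortTate.proj R A p u χ i g) =
      OortTate.proj R A p u χ i (SGA3b.powConv R A (m : ZMod p).val g) := by
  rw [proj_apply, proj_apply, map_smul, map_sum]
  congr 1
  refine Finset.sum_congr rfl fun n _ => ?_
  rw [map_smul]
  congr 1
  have h1 := (Groth.Agent.S18468.phi p R A hp).map_mul m n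
  have h2 := (Groth.Agent.S18468.phi p R A hp).map_mul n m
  rw [mul_comm n m, h1] at h2
  have := congrArg (fun F : Module.End R A => F g) h2
  exact this

end Groth.Agent.Helper7.OTb
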