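import Mathlib
import Groth.Prelude.Def_W4c5ffgsreadingcourseOT
import Groth.Agent.Helper7.OTb

set_option autoImplicit false
universe u

namespace Groth.Agent.Helper7.OGa

open WithConv

variable (p : ℕ) [Fact p.Prime] (R : Type u) [CommRing R]

/-- the group-like basis elements `T ^ a` of `R[ℤ/p]`. -/
noncomputable def t (a : ZMod p) : MonoidAlgebra R (Multiplicative (ZMod p)) :=
  MonoidAlgebra.of R (Multiplicative (ZMod p)) (Multiplicative.ofAdd a)

lemma t_def (a : ZMod p) : t p R a = MonoidAlgebra.single (Multiplicative.ofAdd a) 1 := rfl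

lemma t_zero : t p R 0 = 1 := by
  unfold t
  rw [ofAdd_zero, map_one]

lemma t_add (a b : ZMod p) : t p R (a + b) = t p R a * t p R b := by
  unfold t
  rw [ofAdd_add, map_mul]

lemma t_pow (a : ZMod p) (n : ℕ) : t p R a ^ n = t p R ((n : ZMod p) * a) := by
  induction n with
  | zero => simp [t_zero]
  | succ n ih => rw [pow_succ, ih, ← t_add]; congr 1; push_cast; ring

lemma muT_eq : OortTate.muT R p = t p R 1 := rfl

lemma counit_t (a : ZMod p) : Coalgebra.counit (R := R) (t p R a) = 1 := by
  rw [t_def, MonoidAlgebra.counit_single]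
  simp

lemma powConv_t (n : ℕ) (a : ZMod p) :
    SGA3b.powConv R (MonoidAlgebra R (Multiplicative (ZMod p))) n (t p R a) =
      t p R ((n : ZMod p) * a) := by
  rw [← t_pow]
  unfold SGA3b.powConv
  induction n with
  | zero =>
    rw [pow_zero, pow_zero]
    change (1 : WithConv (MonoidAlgebra R (Multiplicative (ZMod p)) →ₐ[R] _)) (t p R a) = 1
    rw [AlgHom.convOne_apply, counit_t, map_one]
  | succ n ih =>
    rw [pow_succ, pow_succ, ← ih]
    exact MonoidAlgebra.convMul_algHom_single_one _ _ _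

variable (u : R) (χ : (ZMod p)ˣ →* Rˣ)

/-- explicit formula for `y_i`. -/
lemma ygen_eq (i : ℕ) :
    OortTate.ygen R p u χ i =
      u • ∑ m : (ZMod p)ˣ, (((χ m⁻¹ : Rˣ) : R) ^ i) • (t p R (m : ZMod p) - 1) := by
  unfold OortTate.ygen
  rw [OTb.proj_apply]
  congr 1
  refine Finset.sum_congr rfl fun m _ => ?_
  congr 1
  rw [map_sub, map_one, muT_eq, powConv_t, mul_one, ZMod.natCast_val, ZMod.cast_id', id]

end Groth.Agent.Helper7.OGa
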