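import Mathlib
import Groth.Agent.Helper7.OGa

set_option autoImplicit false
universe u

namespace Groth.Agent.Helper7.OGb

open Groth.Agent.Helper7.OGa

variable (p : ℕ) [Fact p.Prime] (R : Type u) [CommRing R] (u : R)
  (χ : (ZMod p)ˣ →* Rˣ)

/-- the powers of the character, with integer exponents. -/
noncomputable def c (k : ℤ) (m : (ZMod p)ˣ) : R := (((χ m) ^ k : Rˣ) : R)

variable {p R}

lemma c_mul (k : ℤ) (m n : (ZMod p)ˣ) : c p R χ k (m * n) = c p R χ k m * c p R χ k n := by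
  unfold c
  rw [map_mul, mul_zpow, Units.val_mul]

lemma c_add (k l : ℤ) (m : (ZMod p)ˣ) : c p R χ (k + l) m = c p R χ k m * c p R χ l m := by
  unfold c
  rw [zpow_add, Units.val_mul]

lemma c_zero (m : (ZMod p)ˣ) : c p R χ 0 m = 1 := by
  unfold c
  rw [zpow_zero, Units.val_one]

lemma c_one_right (k : ℤ) : c p R χ k 1 = 1 := by
  unfold c
  rw [map_one, one_zpow, Units.val_one]

lemma c_inv (k : ℤ) (m : (ZMod p)ˣ) : c p R χ k m⁻¹ = c p R χ (-k) m := by
  unfold c
  rw [map_inv, inv_zpow, zpow_neg]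

lemma c_natCast (i : ℕ) (m : (ZMod p)ˣ) : c p R χ (i : ℤ) m = ((χ m : Rˣ) : R) ^ i := by
  unfold c
  rw [zpow_natCast, Units.val_pow_eq_pow_val]

lemma c_neg_natCast (i : ℕ) (m : (ZMod p)ˣ) : c p R χ (-(i : ℤ)) m = ((χ m⁻¹ : Rˣ) : R) ^ i := by
  rw [← c_inv, c_natCast]

lemma pow_card_sub_one (m : (ZMod p)ˣ) : m ^ (p - 1) = 1 := by
  have := ZMod.card_units p
  rw [← this]
  exact pow_card_eq_one

lemma c_of_dvd (k : ℤ) (hk : ((p - 1 : ℕ) : ℤ) ∣ k) (m : (ZMod p)ˣ) : c p R χ k m = 1 := by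
  obtain ⟨l, rfl⟩ := hk
  unfold c
  rw [zpow_mul, zpow_natCast, ← map_pow, pow_card_sub_one, map_one, one_zpow, Units.val_one]

lemma c_congr (k l : ℤ) (h : ((p - 1 : ℕ) : ℤ) ∣ k - l) (m : (ZMod p)ˣ) :
    c p R χ k m = c p R χ l m := by
  have : k = (k - l) + l := by ring
  rw [this, c_add, c_of_dvd χ _ h, one_mul]

variable (hχ : ∀ m : (ZMod p)ˣ, m ≠ 1 → IsUnit ((χ m : R) - 1))
include hχ

lemma char_sum_zero (k : ℤ) (hk : ¬ ((p - 1 : ℕ) : ℤ) ∣ k) : ∑ m : (ZMod p)ˣ, c p R χ k m = 0 := by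
  obtain ⟨g, hg⟩ := IsCyclic.exists_generator (α := (ZMod p)ˣ)
  have hord : orderOf g = p - 1 := by
    rw [orderOf_eq_card_of_forall_mem_zpowers hg, Nat.card_eq_fintype_card, ZMod.card_units p]
  have hgk : g ^ k ≠ 1 := by
    intro h
    rw [← orderOf_dvd_iff_zpow_eq_one, hord] at h
    exact hk h
  have hunit : IsUnit (c p R χ k g - 1) := by
    have := hχ (g ^ k) hgk
    rw [map_zpow] at this
    exact this
  have h1 : ∑ m, c p R χ k m = c p R χ k g * ∑ m, c p R χ k m := by
    rw [Finset.mul_sum, ← Equiv.sum_comp (Equiv.mulLeft g) (c p R χ k)]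
    refine Finset.sum_congr rfl fun m _ => ?_
    rw [Equiv.coe_mulLeft, c_mul]
  have h2 : (c p R χ k g - 1) * ∑ m, c p R χ k m = 0 := by
    rw [sub_mul, one_mul, ← h1, sub_self]
  exact (hunit.mul_right_eq_zero).mp h2

/-- orthogonality in the exponent. -/
lemma exp_sum (g : (ZMod p)ˣ) :
    ∑ i : Fin (p - 1), c p R χ (i : ℕ) g = if g = 1 then ((p - 1 : ℕ) : R) else 0 := by
  split_ifs with h
  · subst h
    simp [c_one_right]
  · have hunit := hχ g h
    have h1 : ∑ i : Fin (p - 1), c p R χ (i : ℕ) g = ∑ i ∈ Finset.range (p - 1), ((χ g : Rˣ) : R) ^ i := by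
      rw [Finset.sum_range]
      refine Finset.sum_congr rfl fun i _ => ?_
      rw [c_natCast]
    rw [h1]
    have h2 : (∑ i ∈ Finset.range (p - 1), ((χ g : Rˣ) : R) ^ i) * (((χ g : Rˣ) : R) - 1) = 0 := by
      rw [geom_sum_mul, ← Units.val_pow_eq_pow_val, ← map_pow, pow_card_sub_one, map_one,
        Units.val_one, sub_self]
    exact (hunit.mul_left_eq_zero).mp h2


variable (hu : u * ((p - 1 : ℕ) : R) = 1)

omit hχ in
lemma ygen_eq' (i : ℕ) :
    OortTate.ygen R p u χ i =
      u • ∑ m : (ZMod p)ˣ, c p R χ (-(i : ℤ)) m • (t p R (m : ZMod p) - 1) := by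
  rw [ygen_eq]
  congr 1
  refine Finset.sum_congr rfl fun m _ => ?_
  rw [c_neg_natCast]

include hu in
/-- the inversion formula. -/
lemma inversion (n : (ZMod p)ˣ) :
    ∑ i : Fin (p - 1), c p R χ (i : ℕ) n • OortTate.ygen R p u χ (i : ℕ) = t p R (n : ZMod p) - 1 := by
  have h1 : ∀ i : Fin (p - 1), c p R χ (i : ℕ) n • OortTate.ygen R p u χ (i : ℕ) =
      u • ∑ m : (ZMod p)ˣ, c p R χ (i : ℕ) (n * m⁻¹) • (t p R (m : ZMod p) - 1) := by
    intro i
    rw [ygen_eq', smul_comm, Finset.smul_sum]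
    congr 1
    refine Finset.sum_congr rfl fun m _ => ?_
    rw [smul_smul, c_mul, c_inv]
  rw [Finset.sum_congr rfl (fun i _ => h1 i), ← Finset.smul_sum, Finset.sum_comm]
  have h2 : ∀ m : (ZMod p)ˣ, ∑ i : Fin (p - 1), c p R χ (i : ℕ) (n * m⁻¹) • (t p R (m : ZMod p) - 1)
      = (if m = n then ((p - 1 : ℕ) : R) else 0) • (t p R (m : ZMod p) - 1) := by
    intro m
    rw [← Finset.sum_smul, exp_sum χ hχ]
    congr 2
    rw [mul_inv_eq_one]
    exact propext eq_comm
  rw [Finset.sum_congr rfl (fun m _ => h2 m)]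
  simp only [ite_smul, zero_smul]
  rw [Finset.sum_ite_eq' Finset.univ n, if_pos (Finset.mem_univ n), smul_smul, hu, one_smul]

omit hχ in
lemma counit_ygen (i : ℕ) : Coalgebra.counit (R := R) (OortTate.ygen R p u χ i) = 0 := by
  rw [ygen_eq', map_smul, map_sum]
  have : ∀ m : (ZMod p)ˣ, Coalgebra.counit (R := R)
      (c p R χ (-(i : ℤ)) m • (t p R (m : ZMod p) - 1)) = 0 := by
    intro m
    rw [map_smul, map_sub, counit_t, Bialgebra.counit_one, sub_self, smul_zero]
  rw [Finset.sum_congr rfl (fun m _ => this m), Finset.sum_const_zero, smul_zero]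

include hu in
theorem span_eq :
    Submodule.span R (Set.range (fun i : Fin (p - 1) => OortTate.ygen R p u χ (i : ℕ))) =
      LinearMap.ker (Bialgebra.counitAlgHom R
        (MonoidAlgebra R (Multiplicative (ZMod p)))).toLinearMap := by
  apply le_antisymm
  · rw [Submodule.span_le]
    rintro _ ⟨i, rfl⟩
    rw [SetLike.mem_coe, LinearMap.mem_ker]
    exact counit_ygen u χ i
  · intro z hz
    rw [LinearMap.mem_ker] at hz
    have hz' : Coalgebra.counit (R := R) z = 0 := hz
    -- decompose z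
    have hdec : z = ∑ a : ZMod p, z.coeff (Multiplicative.ofAdd a) • t p R a := by
      conv_lhs => rw [← MonoidAlgebra.sum_coeff_single z]
      rw [Finsupp.sum_fintype _ _ (fun g => by simp), ← Equiv.sum_comp Multiplicative.ofAdd]
      refine Finset.sum_congr rfl fun a _ => ?_
      rw [t_def, MonoidAlgebra.smul_single, smul_eq_mul, mul_one]
    have hsum : ∑ a : ZMod p, z.coeff (Multiplicative.ofAdd a) = 0 := by
      rw [← hz']
      conv_rhs => rw [hdec]
      rw [map_sum]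
      refine Finset.sum_congr rfl fun a _ => ?_
      rw [map_smul, counit_t, smul_eq_mul, mul_one]
    have hdec2 : z = ∑ a : ZMod p, z.coeff (Multiplicative.ofAdd a) • (t p R a - 1) := by
      have : ∑ a : ZMod p, z.coeff (Multiplicative.ofAdd a) • (t p R a - 1) =
          ∑ a : ZMod p, z.coeff (Multiplicative.ofAdd a) • t p R a -
            (∑ a : ZMod p, z.coeff (Multiplicative.ofAdd a)) • 1 := by
        rw [Finset.sum_smul, ← Finset.sum_sub_distrib]
        refine Finset.sum_congr rfl fun a _ => ?_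
        rw [smul_sub]
      rw [this, hsum, zero_smul, sub_zero, ← hdec]
    rw [hdec2]
    refine Submodule.sum_mem _ fun a _ => Submodule.smul_mem _ _ ?_
    by_cases ha : a = 0
    · rw [ha, t_zero, sub_self]; exact Submodule.zero_mem _
    · have : a = ((Units.mk0 a ha : (ZMod p)ˣ) : ZMod p) := rfl
      rw [this, ← inversion u χ hχ hu]
      refine Submodule.sum_mem _ fun i _ => Submodule.smul_mem _ _ (Submodule.subset_span ⟨i, rfl⟩)


omit hχ in
lemma coeff_t (a b : ZMod p) :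
    (t p R a).coeff (Multiplicative.ofAdd b) = if a = b then 1 else 0 := by
  classical
  rw [t_def, MonoidAlgebra.coeff_single, Finsupp.single_apply]
  simp

omit hχ in
lemma coeff_one_unit (n : (ZMod p)ˣ) :
    (1 : MonoidAlgebra R (Multiplicative (ZMod p))).coeff (Multiplicative.ofAdd (n : ZMod p)) = 0 := by
  rw [← t_zero, coeff_t, if_neg]
  exact fun h => n.ne_zero h.symm

omit hχ in
lemma coeff_ygen (i : ℕ) (n : (ZMod p)ˣ) :
    (OortTate.ygen R p u χ i).coeff (Multiplicative.ofAdd (n : ZMod p)) =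
      u * c p R χ (-(i : ℤ)) n := by
  classical
  rw [ygen_eq', MonoidAlgebra.coeff_smul, Finsupp.smul_apply, smul_eq_mul, MonoidAlgebra.coeff_sum,
    Finsupp.finsetSum_apply]
  congr 1
  have : ∀ m : (ZMod p)ˣ, (c p R χ (-(i : ℤ)) m • (t p R (m : ZMod p) - 1)).coeff
      (Multiplicative.ofAdd (n : ZMod p)) = if m = n then c p R χ (-(i : ℤ)) m else 0 := by
    intro m
    rw [MonoidAlgebra.coeff_smul, Finsupp.smul_apply, smul_eq_mul, MonoidAlgebra.coeff_sub,
      Finsupp.sub_apply, coeff_t, coeff_one_unit, sub_zero]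
    by_cases h : m = n
    · rw [if_pos h, if_pos (by rw [h]), mul_one]
    · rw [if_neg h, if_neg (fun h' => h (Units.ext h')), mul_zero]
  rw [Finset.sum_congr rfl (fun m _ => this m), Finset.sum_ite_eq' Finset.univ n,
    if_pos (Finset.mem_univ n)]

include hu in
theorem linearIndependent :
    LinearIndependent R (fun i : Fin (p - 1) => OortTate.ygen R p u χ (i : ℕ)) := by
  rw [Fintype.linearIndependent_iff]
  intro g hg j
  have hp1 : ∀ x : R, ((p - 1 : ℕ) : R) * x = 0 → x = 0 := by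
    intro x hx
    have := congrArg (fun y => u * y) hx
    simp only [← mul_assoc, hu, one_mul, mul_zero] at this
    exact this
  -- coefficients
  have h1 : ∀ n : (ZMod p)ˣ, ∑ i : Fin (p - 1), g i * c p R χ (-((i : ℕ) : ℤ)) n = 0 := by
    intro n
    have := congrArg (fun z : MonoidAlgebra R (Multiplicative (ZMod p)) =>
      z.coeff (Multiplicative.ofAdd (n : ZMod p))) hg
    simp only [MonoidAlgebra.coeff_sum, Finsupp.finsetSum_apply, MonoidAlgebra.coeff_smul,
      Finsupp.smul_apply, coeff_ygen, smul_eq_mul, MonoidAlgebra.coeff_zero,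
      Finsupp.zero_apply] at this
    apply hp1
    have h2 : ((p - 1 : ℕ) : R) * ∑ i : Fin (p - 1), g i * c p R χ (-((i : ℕ) : ℤ)) n =
        ((p - 1 : ℕ) : R) * ((p - 1 : ℕ) : R) *
          ∑ i : Fin (p - 1), g i * (u * c p R χ (-((i : ℕ) : ℤ)) n) := by
      rw [Finset.mul_sum, Finset.mul_sum]
      refine Finset.sum_congr rfl fun i _ => ?_
      have : ((p - 1 : ℕ) : R) * ((p - 1 : ℕ) : R) * (g i * (u * c p R χ (-((i : ℕ) : ℤ)) n)) =
          (u * ((p - 1 : ℕ) : R)) * (((p - 1 : ℕ) : R) * (g i * c p R χ (-((i : ℕ) : ℤ)) n)) := by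
        ring
      rw [this, hu, one_mul]
    rw [h2, this, mul_zero]
  -- orthogonality
  have h3 : ∑ n : (ZMod p)ˣ, c p R χ ((j : ℕ) : ℤ) n *
      ∑ i : Fin (p - 1), g i * c p R χ (-((i : ℕ) : ℤ)) n = 0 := by
    refine Finset.sum_eq_zero fun n _ => ?_
    rw [h1 n, mul_zero]
  have h4 : ∑ n : (ZMod p)ˣ, c p R χ ((j : ℕ) : ℤ) n *
      ∑ i : Fin (p - 1), g i * c p R χ (-((i : ℕ) : ℤ)) n = ((p - 1 : ℕ) : R) * g j := by
    simp_rw [Finset.mul_sum]
    rw [Finset.sum_comm]
    have h5 : ∀ i : Fin (p - 1), ∑ n : (ZMod p)ˣ,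
        c p R χ ((j : ℕ) : ℤ) n * (g i * c p R χ (-((i : ℕ) : ℤ)) n) =
        if i = j then ((p - 1 : ℕ) : R) * g j else 0 := by
      intro i
      have h6 : ∀ n : (ZMod p)ˣ, c p R χ ((j : ℕ) : ℤ) n * (g i * c p R χ (-((i : ℕ) : ℤ)) n) =
          g i * c p R χ (((j : ℕ) : ℤ) + -((i : ℕ) : ℤ)) n := by
        intro n
        rw [c_add]; ring
      rw [Finset.sum_congr rfl (fun n _ => h6 n), ← Finset.mul_sum]
      split_ifs with h
      · subst h
        rw [add_neg_cancel]
        simp only [c_zero, Finset.sum_const, Finset.card_univ, ZMod.card_units p, nsmul_eq_mul,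
          mul_one]
        ring
      · rw [char_sum_zero χ hχ, mul_zero]
        intro hdvd
        have hi := i.2
        have hj := j.2
        have h7 : ((j : ℕ) : ℤ) + -((i : ℕ) : ℤ) = 0 := by
          apply Int.eq_zero_of_abs_lt_dvd hdvd
          rw [abs_lt]
          constructor <;> omega
        apply h
        apply Fin.ext
        omega
    rw [Finset.sum_congr rfl (fun i _ => h5 i), Finset.sum_ite_eq' Finset.univ j,
      if_pos (Finset.mem_univ j)]
  rw [h4] at h3
  exact hp1 _ h3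

end Groth.Agent.Helper7.OGb
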