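import Mathlib

set_option autoImplicit false
universe u v

/-! Gauss and Jacobi sums over a finite field with values in a commutative ring which need not be a
domain: the vanishing of the relevant character sums is taken as a hypothesis. -/

namespace Groth.Agent.Helper7.OGc

open Finset

variable {F : Type u} {R : Type v} [Field F] [Fintype F] [CommRing R]

/-- `J(χ, χ⁻¹) = -χ(-1)` when the sum of `χ` vanishes. -/
theorem jacobiSum_inv {χ : MulChar F R} (hχ : ∑ x, χ x = 0) : jacobiSum χ χ⁻¹ = -χ (-1) := by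
  classical
  rw [jacobiSum]
  conv => enter [1, 2, x]; rw [MulChar.inv_apply', ← map_mul, ← div_eq_mul_inv]
  rw [sum_eq_sum_sdiff_singleton_add (mem_univ (1 : F)), sub_self, div_zero, χ.map_zero, add_zero]
  have : ∑ x ∈ univ \ {1}, χ (x / (1 - x)) = ∑ x ∈ univ \ {-1}, χ x := by
    refine sum_bij' (fun a _ ↦ a / (1 - a)) (fun b _ ↦ b / (1 + b)) (fun x hx ↦ ?_)
      (fun y hy ↦ ?_) (fun x hx ↦ ?_) (fun y hy ↦ ?_) (fun _ _ ↦ rfl)
    · simp only [mem_sdiff, mem_univ, mem_singleton, true_and] at hx ⊢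
      rw [div_eq_iff <| sub_ne_zero.mpr ((ne_eq ..).symm ▸ hx).symm, mul_sub, mul_one,
        neg_one_mul, sub_neg_eq_add, right_eq_add, neg_eq_zero]
      exact one_ne_zero
    · simp only [mem_sdiff, mem_univ, mem_singleton, true_and] at hy ⊢
      rw [div_eq_iff fun h ↦ hy <| eq_neg_of_add_eq_zero_right h, one_mul, right_eq_add]
      exact one_ne_zero
    · simp only [mem_sdiff, mem_univ, mem_singleton, true_and] at hx
      rw [eq_comm, ← sub_eq_zero] at hx
      simp [field]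
    · simp only [mem_sdiff, mem_univ, mem_singleton, true_and] at hy
      rw [eq_comm, neg_eq_iff_eq_neg, ← sub_eq_zero, sub_neg_eq_add] at hy
      simp [field]
  rw [this, ← add_eq_zero_iff_eq_neg, ← sum_eq_sum_sdiff_singleton_add (mem_univ (-1 : F))]
  exact hχ

/-- `g(χφ) J(χ,φ) = g(χ) g(φ)` when the sum of `χφ` vanishes. -/
theorem jacobiSum_mul {χ φ : MulChar F R} (h : ∑ x, (χ * φ) x = 0) (ψ : AddChar F R) :
    gaussSum (χ * φ) ψ * jacobiSum χ φ = gaussSum χ ψ * gaussSum φ ψ := by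
  classical
  rw [gaussSum_mul _ _ ψ, sum_eq_sum_sdiff_singleton_add (mem_univ (0 : F))]
  conv =>
    enter [2, 2, 2, x]
    rw [zero_sub, neg_eq_neg_one_mul x, map_mul, mul_left_comm (χ x) (φ (-1)),
      ← MulChar.mul_apply, ψ.map_zero_eq_one, mul_one]
  rw [← mul_sum _ _ (φ (-1)), h, mul_zero, add_zero]
  have sum_eq : ∀ t ∈ univ \ {0}, (∑ x : F, χ x * φ (t - x)) * ψ t =
      (∑ y : F, χ (t * y) * φ (t - (t * y))) * ψ t := by
    intro t ht
    simp only [mem_sdiff, mem_univ, mem_singleton, true_and] at ht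
    exact congrArg (· * ψ t) (Equiv.sum_comp (Equiv.mulLeft₀ t ht) _).symm
  simp_rw [← sum_mul, sum_congr rfl sum_eq, ← mul_one_sub, map_mul, mul_assoc]
  conv => enter [2, 2, t, 1, 2, x, 2]; rw [← mul_assoc, mul_comm (χ x) (φ t)]
  simp_rw [← mul_assoc, ← MulChar.mul_apply, mul_assoc, ← mul_sum, mul_right_comm]
  rw [← jacobiSum, ← sum_mul, gaussSum, sum_eq_sum_sdiff_singleton_add (mem_univ (0 : F)),
    (χ * φ).map_zero, zero_mul, add_zero]


/-- `g(χ) g(χ⁻¹) = χ(-1) (q - Σ ψ)` when the sum of `χ` vanishes. -/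
theorem gaussSum_mul_inv {χ : MulChar F R} (hχ : ∑ x, χ x = 0) (ψ : AddChar F R) :
    gaussSum χ ψ * gaussSum χ⁻¹ ψ = χ (-1) * ((Fintype.card F : R) - ∑ t, ψ t) := by
  classical
  have hinv : χ⁻¹ (-1) = χ (-1) := by
    rw [MulChar.inv_apply', inv_neg, inv_one]
  rw [gaussSum_mul _ _ ψ, sum_eq_sum_sdiff_singleton_add (mem_univ (0 : F))]
  -- the term `t = 0`
  have h0 : (∑ x : F, χ x * χ⁻¹ (0 - x)) * ψ 0 = χ (-1) * ((Fintype.card F : R) - 1) := by
    rw [ψ.map_zero_eq_one, mul_one]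
    have : ∀ x : F, χ x * χ⁻¹ (0 - x) = χ (-1) * (1 : MulChar F R) x := by
      intro x
      rw [zero_sub, neg_eq_neg_one_mul x, map_mul, hinv, mul_left_comm, ← MulChar.mul_apply,
        mul_inv_cancel]
    rw [sum_congr rfl (fun x _ => this x), ← mul_sum, MulChar.sum_one_eq_card_units,
      Fintype.card_eq_card_units_add_one (α := F)]
    push_cast
    ring
  -- the terms `t ≠ 0`
  have h1 : ∀ t ∈ univ \ {(0 : F)}, (∑ x : F, χ x * χ⁻¹ (t - x)) * ψ t = -χ (-1) * ψ t := by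
    intro t ht
    simp only [mem_sdiff, mem_univ, mem_singleton, true_and] at ht
    congr 1
    rw [← jacobiSum_inv hχ, jacobiSum, ← Equiv.sum_comp (Equiv.mulLeft₀ t ht)]
    refine sum_congr rfl fun y _ => ?_
    rw [Equiv.mulLeft₀_apply]
    have : t - t * y = t * (1 - y) := by ring
    rw [this, map_mul, map_mul, mul_mul_mul_comm, ← MulChar.mul_apply, mul_inv_cancel,
      MulChar.one_apply (isUnit_iff_ne_zero.mpr ht), one_mul]
  simp_rw [← sum_mul]
  rw [sum_congr rfl h1, h0, ← mul_sum]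
  have h2 : ∑ t ∈ univ \ {(0 : F)}, ψ t = ∑ t, ψ t - 1 := by
    rw [sum_eq_sum_sdiff_singleton_add (mem_univ (0 : F)) ψ, ψ.map_zero_eq_one]
    ring
  rw [h2]
  ring

end Groth.Agent.Helper7.OGc
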