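import Mathlib
import Groth.Agent.Helper7.OGb
import Groth.Agent.Helper7.OGc

set_option autoImplicit false
universe u

namespace Groth.Agent.Helper7.OGd

open Groth.Agent.Helper7.OGa Groth.Agent.Helper7.OGb

/-- a sum over a field of a function vanishing at zero is a sum over the units. -/
lemma sum_units_eq {F M : Type*} [Field F] [Fintype F] [Fintype Fˣ] [AddCommMonoid M] (g : F → M) (h0 : g 0 = 0) :
    ∑ m : Fˣ, g (m : F) = ∑ x : F, g x := by
  classical
  rw [← Fintype.sum_subtype_add_sum_subtype (fun x : F => x ≠ 0) g]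
  have h1 : ∑ i : {x : F // ¬ x ≠ 0}, g i = 0 := by
    refine Finset.sum_eq_zero fun i _ => ?_
    have := i.2
    rw [not_not] at this
    rw [this, h0]
  rw [h1, add_zero]
  exact Fintype.sum_equiv unitsEquivNeZero (fun m : Fˣ => g (m : F))
    (fun a : {a : F // a ≠ 0} => g a.1) (fun m => rfl)

variable (p : ℕ) [Fact p.Prime] (R : Type u) [CommRing R] (u : R)
  (χ : (ZMod p)ˣ →* Rˣ)

/-- the characters `χ ^ k` as multiplicative characters of `ZMod p`. -/
noncomputable def X (k : ℤ) : MulChar (ZMod p) R :=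
  MulChar.ofUnitHom
    { toFun := fun m => (χ m) ^ k
      map_one' := by rw [map_one, one_zpow]
      map_mul' := fun m n => by rw [map_mul, mul_zpow] }

variable {p R}

lemma X_coe (k : ℤ) (m : (ZMod p)ˣ) : X p R χ k (m : ZMod p) = c p R χ k m := by
  unfold X
  rw [MulChar.ofUnitHom_coe]
  rfl

lemma X_add (k l : ℤ) : X p R χ k * X p R χ l = X p R χ (k + l) := by
  ext m
  rw [MulChar.mul_apply, X_coe, X_coe, X_coe, c_add]

lemma X_zero : X p R χ 0 = 1 := by
  ext m
  rw [X_coe, c_zero, MulChar.one_apply_coe]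

lemma X_neg (k : ℤ) : X p R χ (-k) = (X p R χ k)⁻¹ := by
  apply eq_inv_of_mul_eq_one_left
  rw [X_add, neg_add_cancel, X_zero]

lemma X_congr (k l : ℤ) (h : ((p - 1 : ℕ) : ℤ) ∣ k - l) : X p R χ k = X p R χ l := by
  ext m
  rw [X_coe, X_coe, c_congr χ k l h]

lemma sum_X (k : ℤ) : ∑ x : ZMod p, X p R χ k x = ∑ m : (ZMod p)ˣ, c p R χ k m := by
  rw [← sum_units_eq (fun x => X p R χ k x) (MulChar.map_zero _)]
  refine Finset.sum_congr rfl fun m _ => ?_
  rw [X_coe]

lemma sum_X_eq_zero (hχ : ∀ m : (ZMod p)ˣ, m ≠ 1 → IsUnit ((χ m : R) - 1)) (k : ℤ)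
    (hk : ¬ ((p - 1 : ℕ) : ℤ) ∣ k) : ∑ x : ZMod p, X p R χ k x = 0 := by
  rw [sum_X, char_sum_zero χ hχ k hk]


variable (p R)

/-- the tautological additive character with values in the group algebra. -/
noncomputable def psi : AddChar (ZMod p) (MonoidAlgebra R (Multiplicative (ZMod p))) where
  toFun := t p R
  map_zero_eq_one' := t_zero p R
  map_add_eq_mul' := t_add p R

/-- the norm element. -/
noncomputable def NN : MonoidAlgebra R (Multiplicative (ZMod p)) := ∑ a : ZMod p, t p R a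

/-- the characters with values in the group algebra. -/
noncomputable def XB (k : ℤ) : MulChar (ZMod p) (MonoidAlgebra R (Multiplicative (ZMod p))) :=
  (X p R χ k).ringHomComp (algebraMap R (MonoidAlgebra R (Multiplicative (ZMod p))))

/-- the Gauss sums. -/
noncomputable def G (k : ℤ) : MonoidAlgebra R (Multiplicative (ZMod p)) :=
  gaussSum (XB p R χ k) (psi p R)

/-- the Jacobi sums. -/
noncomputable def J (k l : ℤ) : R := jacobiSum (X p R χ k) (X p R χ l)

variable {p R}

lemma psi_apply (a : ZMod p) : psi p R a = t p R a := rfl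

lemma XB_apply (k : ℤ) (x : ZMod p) :
    XB p R χ k x = algebraMap R (MonoidAlgebra R (Multiplicative (ZMod p))) (X p R χ k x) := rfl

lemma G_eq (k : ℤ) : G p R χ k = ∑ m : (ZMod p)ˣ, c p R χ k m • t p R (m : ZMod p) := by
  unfold G gaussSum
  rw [← sum_units_eq (fun x => XB p R χ k x * psi p R x) (by rw [MulChar.map_zero, zero_mul])]
  refine Finset.sum_congr rfl fun m _ => ?_
  rw [XB_apply, X_coe, psi_apply, Algebra.smul_def]

lemma ygen_eq_G (i : ℕ) :
    OortTate.ygen R p u χ i =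
      u • (G p R χ (-(i : ℤ)) - (∑ m : (ZMod p)ˣ, c p R χ (-(i : ℤ)) m) •
        (1 : MonoidAlgebra R (Multiplicative (ZMod p)))) := by
  rw [ygen_eq', G_eq, Finset.sum_smul, ← Finset.sum_sub_distrib]
  congr 1
  refine Finset.sum_congr rfl fun m _ => ?_
  rw [smul_sub]

lemma ygen_of_not_dvd (hχ : ∀ m : (ZMod p)ˣ, m ≠ 1 → IsUnit ((χ m : R) - 1)) (i : ℕ)
    (hi : ¬ ((p - 1 : ℕ) : ℤ) ∣ (i : ℤ)) :
    OortTate.ygen R p u χ i = u • G p R χ (-(i : ℤ)) := by
  rw [ygen_eq_G, char_sum_zero χ hχ, zero_smul, sub_zero]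
  rwa [dvd_neg]

lemma sum_units_t : ∑ m : (ZMod p)ˣ, t p R (m : ZMod p) = NN p R - 1 := by
  classical
  have h := sum_units_eq (F := ZMod p) (fun x => if x = 0 then 0 else t p R x) (by simp)
  have h1 : ∑ m : (ZMod p)ˣ, t p R (m : ZMod p) =
      ∑ m : (ZMod p)ˣ, (fun x : ZMod p => if x = 0 then 0 else t p R x) (m : ZMod p) := by
    refine Finset.sum_congr rfl fun m _ => ?_
    simp only
    rw [if_neg m.ne_zero]
  rw [h1, h]
  unfold NN
  rw [Finset.sum_ite, Finset.sum_const_zero, zero_add]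
  rw [← Finset.sum_filter_add_sum_filter_not Finset.univ (fun x : ZMod p => x = 0) (t p R)]
  rw [Finset.filter_eq' Finset.univ (0 : ZMod p), if_pos (Finset.mem_univ _), Finset.sum_singleton,
    t_zero]
  ring

lemma ygen_of_dvd (i : ℕ) (hi : ((p - 1 : ℕ) : ℤ) ∣ (i : ℤ)) :
    OortTate.ygen R p u χ i = u • (NN p R - (p : MonoidAlgebra R (Multiplicative (ZMod p)))) := by
  rw [ygen_eq']
  congr 1
  have h1 : ∀ m : (ZMod p)ˣ, c p R χ (-(i : ℤ)) m • (t p R (m : ZMod p) - 1) =
      t p R (m : ZMod p) - 1 := by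
    intro m
    rw [c_of_dvd χ _ ((dvd_neg).mpr hi), one_smul]
  rw [Finset.sum_congr rfl (fun m _ => h1 m), Finset.sum_sub_distrib, sum_units_t,
    Finset.sum_const, Finset.card_univ, ZMod.card_units p, nsmul_eq_mul, mul_one]
  have hp : 1 ≤ p := (Fact.out : p.Prime).one_lt.le
  rw [Nat.cast_sub hp]
  push_cast
  ring


lemma t_mul_NN (a : ZMod p) : t p R a * NN p R = NN p R := by
  unfold NN
  rw [Finset.mul_sum, ← Equiv.sum_comp (Equiv.addLeft a) (t p R)]
  refine Finset.sum_congr rfl fun b _ => ?_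
  rw [Equiv.coe_addLeft, t_add]

lemma NN_mul_NN : NN p R * NN p R = (p : MonoidAlgebra R (Multiplicative (ZMod p))) * NN p R := by
  have h : NN p R * NN p R = (∑ a : ZMod p, t p R a) * NN p R := rfl
  rw [h, Finset.sum_mul, Finset.sum_congr rfl (fun a _ => t_mul_NN a), Finset.sum_const,
    Finset.card_univ, ZMod.card, nsmul_eq_mul]

lemma sum_psi : ∑ a : ZMod p, psi p R a = NN p R := rfl

lemma mul_NN_of_counit (z : MonoidAlgebra R (Multiplicative (ZMod p)))
    (hz : Coalgebra.counit (R := R) z = 0) : z * NN p R = 0 := by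
  have hdec : z = ∑ a : ZMod p, z.coeff (Multiplicative.ofAdd a) • t p R a := by
    conv_lhs => rw [← MonoidAlgebra.sum_coeff_single z]
    rw [Finsupp.sum_fintype _ _ (fun g => by simp), ← Equiv.sum_comp Multiplicative.ofAdd]
    refine Finset.sum_congr rfl fun a _ => ?_
    rw [t_def, MonoidAlgebra.smul_single, smul_eq_mul, mul_one]
  have hsum : ∑ a : ZMod p, z.coeff (Multiplicative.ofAdd a) = 0 := by
    rw [← hz]
    conv_rhs => rw [hdec]
    rw [map_sum]
    refine Finset.sum_congr rfl fun a _ => ?_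
    rw [map_smul, counit_t, smul_eq_mul, mul_one]
  rw [hdec, Finset.sum_mul]
  simp_rw [smul_mul_assoc, t_mul_NN]
  rw [← Finset.sum_smul, hsum, zero_smul]

/-- the product formula for Gauss sums. -/
lemma G_mul_G (hχ : ∀ m : (ZMod p)ˣ, m ≠ 1 → IsUnit ((χ m : R) - 1)) (k l : ℤ)
    (hkl : ¬ ((p - 1 : ℕ) : ℤ) ∣ k + l) :
    G p R χ k * G p R χ l = J p R χ k l • G p R χ (k + l) := by
  have hmul : XB p R χ k * XB p R χ l = XB p R χ (k + l) := by
    unfold XB
    rw [← MulChar.ringHomComp_mul, X_add]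
  have hsum : ∑ x : ZMod p, (XB p R χ k * XB p R χ l) x = 0 := by
    rw [hmul]
    simp_rw [XB_apply]
    rw [← map_sum, sum_X_eq_zero χ hχ _ hkl, map_zero]
  have h := OGc.jacobiSum_mul hsum (psi p R)
  unfold G
  rw [← h, hmul]
  have hJ : jacobiSum (XB p R χ k) (XB p R χ l) =
      algebraMap R (MonoidAlgebra R (Multiplicative (ZMod p))) (J p R χ k l) := by
    unfold XB J
    rw [jacobiSum_ringHomComp]
  rw [hJ, Algebra.smul_def, mul_comm]

/-- the product of a Gauss sum with its conjugate. -/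
lemma G_mul_G_neg (hχ : ∀ m : (ZMod p)ˣ, m ≠ 1 → IsUnit ((χ m : R) - 1)) (k : ℤ)
    (hk : ¬ ((p - 1 : ℕ) : ℤ) ∣ k) :
    G p R χ k * G p R χ (-k) =
      X p R χ k (-1) • ((p : MonoidAlgebra R (Multiplicative (ZMod p))) - NN p R) := by
  have hsum : ∑ x : ZMod p, (XB p R χ k) x = 0 := by
    simp_rw [XB_apply]
    rw [← map_sum, sum_X_eq_zero χ hχ _ hk, map_zero]
  have h := OGc.gaussSum_mul_inv hsum (psi p R)
  have hinv : (XB p R χ k)⁻¹ = XB p R χ (-k) := by
    unfold XB
    rw [MulChar.ringHomComp_inv, X_neg]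
  rw [hinv, sum_psi, ZMod.card] at h
  unfold G
  rw [h, XB_apply, Algebra.smul_def]

end Groth.Agent.Helper7.OGd
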