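import Mathlib
import Groth.Agent.Helper7.OGd

set_option autoImplicit false
universe u

namespace Groth.Agent.Helper7.OGe

open Groth.Agent.Helper7.OGa Groth.Agent.Helper7.OGb Groth.Agent.Helper7.OGd

variable {p : ℕ} [Fact p.Prime] {R : Type u} [CommRing R] (u : R)
  (χ : (ZMod p)ˣ →* Rˣ)

lemma X_neg_one_mul (k : ℤ) : X p R χ k (-1) * X p R χ (-k) (-1) = 1 := by
  rw [← MulChar.mul_apply, X_add, add_neg_cancel, X_zero,
    MulChar.one_apply (isUnit_one.neg)]

lemma coeff_natCast_one :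
    ((p : MonoidAlgebra R (Multiplicative (ZMod p)))).coeff (Multiplicative.ofAdd (1 : ZMod p)) = 0 := by
  have h : (p : MonoidAlgebra R (Multiplicative (ZMod p))) =
      (p : R) • (1 : MonoidAlgebra R (Multiplicative (ZMod p))) := by
    rw [Nat.cast_smul_eq_nsmul, nsmul_eq_mul, mul_one]
  have h1 := coeff_one_unit (p := p) (R := R) (1 : (ZMod p)ˣ)
  rw [Units.val_one] at h1
  rw [h, MonoidAlgebra.coeff_smul, Finsupp.smul_apply, h1, smul_zero]

lemma coeff_NN_one : (NN p R).coeff (Multiplicative.ofAdd (1 : ZMod p)) = 1 := by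
  classical
  unfold NN
  rw [MonoidAlgebra.coeff_sum, Finsupp.finsetSum_apply]
  simp_rw [coeff_t]
  rw [Finset.sum_ite_eq' Finset.univ (1 : ZMod p), if_pos (Finset.mem_univ _)]

variable (hχ : ∀ m : (ZMod p)ˣ, m ≠ 1 → IsUnit ((χ m : R) - 1))
include hχ

/-- the product of a Jacobi sum with its conjugate is `p`. -/
theorem J_mul_J (k l : ℤ) (hk : ¬ ((p - 1 : ℕ) : ℤ) ∣ k) (hl : ¬ ((p - 1 : ℕ) : ℤ) ∣ l)
    (hkl : ¬ ((p - 1 : ℕ) : ℤ) ∣ k + l) : J p R χ k l * J p R χ (-k) (-l) = (p : R) := by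
  have hkl' : ¬ ((p - 1 : ℕ) : ℤ) ∣ -k + -l := by
    rw [← neg_add, dvd_neg]; exact hkl
  have h1 := G_mul_G χ hχ k l hkl
  have h2 := G_mul_G χ hχ (-k) (-l) hkl'
  have h3 := G_mul_G_neg χ hχ k hk
  have h4 := G_mul_G_neg χ hχ l hl
  have h5 := G_mul_G_neg χ hχ (k + l) hkl
  rw [← neg_add] at h2
  set P : MonoidAlgebra R (Multiplicative (ZMod p)) :=
    (p : MonoidAlgebra R (Multiplicative (ZMod p))) - NN p R with hP
  have hPP : P * P = (p : R) • P := by
    rw [hP, Nat.cast_smul_eq_nsmul, nsmul_eq_mul]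
    have := NN_mul_NN (p := p) (R := R)
    linear_combination this
  -- the product of all four Gauss sums, computed in two ways
  have e1 : (G p R χ k * G p R χ (-k)) * (G p R χ l * G p R χ (-l)) =
      (G p R χ k * G p R χ l) * (G p R χ (-k) * G p R χ (-l)) := by ring
  rw [h1, h2, h3, h4, smul_mul_smul_comm, smul_mul_smul_comm, h5, hPP, smul_smul, smul_smul] at e1
  have hs : X p R χ (k + l) (-1) = X p R χ k (-1) * X p R χ l (-1) := by
    rw [← X_add, MulChar.mul_apply]
  rw [hs] at e1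
  -- cancel the sign
  have e2 := congrArg (fun z => (X p R χ (-k) (-1) * X p R χ (-l) (-1)) • z) e1
  simp only [smul_smul] at e2
  have hc1 : X p R χ (-k) (-1) * X p R χ (-l) (-1) * (X p R χ k (-1) * X p R χ l (-1) * (p : R)) =
      (p : R) := by
    have a1 := X_neg_one_mul χ k
    have a2 := X_neg_one_mul χ l
    linear_combination ((p : R) * X p R χ l (-1) * X p R χ (-l) (-1)) * a1 + (p : R) * a2
  have hc2 : X p R χ (-k) (-1) * X p R χ (-l) (-1) *
      (J p R χ k l * J p R χ (-k) (-l) * (X p R χ k (-1) * X p R χ l (-1))) =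
      J p R χ k l * J p R χ (-k) (-l) := by
    have a1 := X_neg_one_mul χ k
    have a2 := X_neg_one_mul χ l
    linear_combination (J p R χ k l * J p R χ (-k) (-l) * X p R χ l (-1) * X p R χ (-l) (-1)) * a1 +
      (J p R χ k l * J p R χ (-k) (-l)) * a2
  rw [hc1, hc2] at e2
  -- take the coefficient at `T`
  have e3 := congrArg (fun z : MonoidAlgebra R (Multiplicative (ZMod p)) =>
    z.coeff (Multiplicative.ofAdd (1 : ZMod p))) e2
  simp only [MonoidAlgebra.coeff_smul, Finsupp.smul_apply, hP, MonoidAlgebra.coeff_sub,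
    Finsupp.sub_apply, coeff_natCast_one, coeff_NN_one, smul_eq_mul] at e3
  linear_combination e3

end Groth.Agent.Helper7.OGe
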