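import Mathlib

set_option autoImplicit false

namespace Groth.Agent.Helper7.OGf

variable (p : ℕ) [Fact p.Prime]

/-- the sum of the `i`-th powers of the inverses. -/
lemma sum_inv_pow (i : ℕ) (hi1 : 1 ≤ i) (hi : i < p - 1) : ∑ x : ZMod p, (x⁻¹) ^ i = 0 := by
  have h := FiniteField.sum_pow_lt_card_sub_one (K := ZMod p) i (by rw [ZMod.card]; exact hi)
  rw [← h]
  exact Fintype.sum_equiv (Equiv.inv (ZMod p)) _ _ (fun x => rfl)

lemma sum_one_sub_inv_pow (i : ℕ) (hi1 : 1 ≤ i) (hi : i < p - 1) :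
    ∑ x : ZMod p, ((1 - x)⁻¹) ^ i = 0 := by
  rw [← sum_inv_pow p i hi1 hi]
  exact Fintype.sum_equiv (Equiv.subLeft (1 : ZMod p)) _ _ (fun x => rfl)

/-- the reduction modulo `p` of the Jacobi sums. -/
def T (i : ℕ) : ZMod p := ∑ x : ZMod p, x⁻¹ * ((1 - x)⁻¹) ^ i

lemma T_one (hp : 3 ≤ p) : T p 1 = -2 := by
  classical
  unfold T
  have h1 : ∀ x : ZMod p, x⁻¹ * ((1 - x)⁻¹) ^ 1 =
      x⁻¹ ^ 1 + ((1 - x)⁻¹) ^ 1 - (if x = 0 then 1 else 0) - (if x = 1 then 1 else 0) := by
    intro x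
    by_cases h0 : x = 0
    · subst h0; simp
    · by_cases h1 : x = 1
      · subst h1; simp
      · have h1' : (1 : ZMod p) - x ≠ 0 := sub_ne_zero.mpr (Ne.symm h1)
        rw [if_neg h0, if_neg h1]
        field_simp
        ring
  rw [Finset.sum_congr rfl (fun x _ => h1 x), Finset.sum_sub_distrib, Finset.sum_sub_distrib,
    Finset.sum_add_distrib, sum_inv_pow p 1 le_rfl (by omega),
    sum_one_sub_inv_pow p 1 le_rfl (by omega), Finset.sum_ite_eq' Finset.univ (0 : ZMod p),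
    Finset.sum_ite_eq' Finset.univ (1 : ZMod p)]
  simp
  norm_num

lemma T_succ (i : ℕ) (hi1 : 1 ≤ i) (hi : i + 1 < p - 1) : T p (i + 1) = T p i - 1 := by
  classical
  unfold T
  have h1 : ∀ x : ZMod p, x⁻¹ * ((1 - x)⁻¹) ^ (i + 1) =
      x⁻¹ * ((1 - x)⁻¹) ^ i + ((1 - x)⁻¹) ^ (i + 1) - (if x = 0 then 1 else 0) := by
    intro x
    by_cases h0 : x = 0
    · subst h0; simp
    · by_cases h1 : x = 1
      · subst h1
        have : i ≠ 0 := by omega
        simp [this]
      · have h1' : (1 : ZMod p) - x ≠ 0 := sub_ne_zero.mpr (Ne.symm h1)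
        rw [if_neg h0, sub_zero, pow_succ]
        field_simp
        ring
  rw [Finset.sum_congr rfl (fun x _ => h1 x), Finset.sum_sub_distrib, Finset.sum_add_distrib,
    sum_one_sub_inv_pow p (i + 1) (by omega) hi, Finset.sum_ite_eq' Finset.univ (0 : ZMod p)]
  simp

theorem T_eq (hp : 3 ≤ p) (i : ℕ) (hi1 : 1 ≤ i) (hi : i < p - 1) : T p i = -((i : ZMod p) + 1) := by
  induction i with
  | zero => omega
  | succ i ih =>
    by_cases h0 : i = 0
    · subst h0
      rw [T_one p hp]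
      push_cast
      ring
    · rw [T_succ p i (by omega) hi, ih (by omega) (by omega)]
      push_cast
      ring

end Groth.Agent.Helper7.OGf
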