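import Mathlib
import Groth.Agent.Helper7.OGe
import Groth.Agent.Helper7.OGf

set_option autoImplicit false
universe u

namespace Groth.Agent.Helper7.OGg

open Groth.Agent.Helper7.OGa Groth.Agent.Helper7.OGb Groth.Agent.Helper7.OGd

variable {p : ℕ} [Fact p.Prime] {R : Type u} [CommRing R] (χ : (ZMod p)ˣ →* Rˣ)
  (hχp : ∀ m : (ZMod p)ˣ, ((χ m : Rˣ) : R) - (((m : ZMod p).val : ℕ) : R) ∈
    Ideal.span ({(p : R)} : Set R))
include hχp

/-- reduction of the values of `χ⁻¹` modulo `p`. -/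
lemma mk_X_neg_one (x : ZMod p) :
    Ideal.Quotient.mk (Ideal.span ({(p : R)} : Set R)) (X p R χ (-1) x) =
      (((x⁻¹).val : ℕ) : R ⧸ Ideal.span ({(p : R)} : Set R)) := by
  by_cases hx : x = 0
  · subst hx
    rw [MulChar.map_zero, map_zero, inv_zero, ZMod.val_zero, Nat.cast_zero]
  · obtain ⟨m, rfl⟩ : ∃ m : (ZMod p)ˣ, (m : ZMod p) = x := ⟨Units.mk0 x hx, rfl⟩
    rw [X_coe, ← c_inv]
    have h1 : c p R χ 1 m⁻¹ = ((χ m⁻¹ : Rˣ) : R) := by
      unfold c; rw [zpow_one]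
    rw [h1, ← Units.val_inv_eq_inv_val, ← map_natCast (Ideal.Quotient.mk _), Ideal.Quotient.eq]
    exact hχp m⁻¹

lemma mk_X_neg (i : ℕ) (hi : 1 ≤ i) (x : ZMod p) :
    Ideal.Quotient.mk (Ideal.span ({(p : R)} : Set R)) (X p R χ (-(i : ℤ)) x) =
      (((x⁻¹).val : ℕ) : R ⧸ Ideal.span ({(p : R)} : Set R)) ^ i := by
  by_cases hx : x = 0
  · subst hx
    rw [MulChar.map_zero, map_zero, inv_zero, ZMod.val_zero, Nat.cast_zero, zero_pow (by omega)]
  · obtain ⟨m, rfl⟩ : ∃ m : (ZMod p)ˣ, (m : ZMod p) = x := ⟨Units.mk0 x hx, rfl⟩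
    rw [X_coe, c_neg_natCast, map_pow]
    congr 1
    rw [← Units.val_inv_eq_inv_val, ← map_natCast (Ideal.Quotient.mk _), Ideal.Quotient.eq]
    exact hχp m⁻¹

/-- the congruence for the Jacobi sums. -/
theorem J_congr (hp : 3 ≤ p) (i : ℕ) (hi1 : 1 ≤ i) (hi : i < p - 1) :
    J p R χ (-1) (-(i : ℤ)) + ((i : R) + 1) ∈ Ideal.span ({(p : R)} : Set R) := by
  rw [← Ideal.Quotient.eq_zero_iff_mem]
  set n : ℕ := ∑ x : ZMod p, (x⁻¹).val * ((1 - x)⁻¹).val ^ i with hn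
  have h1 : Ideal.Quotient.mk (Ideal.span ({(p : R)} : Set R)) (J p R χ (-1) (-(i : ℤ))) =
      ((n : ℕ) : R ⧸ Ideal.span ({(p : R)} : Set R)) := by
    unfold J jacobiSum
    rw [map_sum, hn, Nat.cast_sum]
    refine Finset.sum_congr rfl fun x _ => ?_
    rw [map_mul, mk_X_neg_one χ hχp, mk_X_neg χ hχp i hi1]
    push_cast
    rfl
  have h2 : ((n : ℕ) : ZMod p) = OGf.T p i := by
    rw [hn, Nat.cast_sum]
    unfold OGf.T
    refine Finset.sum_congr rfl fun x _ => ?_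
    push_cast
    rw [ZMod.natCast_val, ZMod.natCast_val, ZMod.cast_id']
    rfl
  have h3 : p ∣ n + i + 1 := by
    rw [← ZMod.natCast_eq_zero_iff]
    push_cast
    rw [h2, OGf.T_eq p hp i hi1 hi]
    ring
  obtain ⟨d, hd⟩ := h3
  have h4 : Ideal.Quotient.mk (Ideal.span ({(p : R)} : Set R)) (p : R) = 0 := by
    rw [Ideal.Quotient.eq_zero_iff_mem]; exact Ideal.mem_span_singleton_self _
  have h5 : ((n : ℕ) : R ⧸ Ideal.span ({(p : R)} : Set R)) + ((i : ℕ) : R ⧸ _) + 1 = 0 := by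
    have : (((n + i + 1 : ℕ)) : R ⧸ Ideal.span ({(p : R)} : Set R)) = 0 := by
      rw [hd, Nat.cast_mul, ← map_natCast (Ideal.Quotient.mk (Ideal.span ({(p : R)} : Set R))) p,
        h4, zero_mul]
    push_cast at this
    exact this
  rw [map_add, map_add, h1, map_one, map_natCast]
  linear_combination h5

end Groth.Agent.Helper7.OGg
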