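import Mathlib
import Groth.Agent.Helper7.OGg

set_option autoImplicit false
universe u

namespace Groth.Agent.Helper7.OGh

open Groth.Agent.Helper7.OGa Groth.Agent.Helper7.OGb Groth.Agent.Helper7.OGd

variable {p : ℕ} [Fact p.Prime] {R : Type u} [CommRing R] (u : R)
  (χ : (ZMod p)ˣ →* Rˣ)
  (hχ : ∀ m : (ZMod p)ˣ, m ≠ 1 → IsUnit ((χ m : R) - 1))
  (hχp : ∀ m : (ZMod p)ˣ, ((χ m : Rˣ) : R) - (((m : ZMod p).val : ℕ) : R) ∈
    Ideal.span ({(p : R)} : Set R))

omit [Fact p.Prime] in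
lemma not_dvd_neg_of_lt (i : ℕ) (hi1 : 1 ≤ i) (hi : i < p - 1) :
    ¬ ((p - 1 : ℕ) : ℤ) ∣ (-(i : ℤ)) := by
  rw [dvd_neg, Int.natCast_dvd_natCast]
  exact Nat.not_dvd_of_pos_of_lt hi1 hi

include hχ hχp in
/-- the Jacobi sums are units. -/
theorem isUnit_J (i : ℕ) (hi1 : 1 ≤ i) (hi : i + 1 < p - 1) : IsUnit (J p R χ (-1) (-(i : ℤ))) := by
  have hp3 : 3 ≤ p := by omega
  have hk : ¬ ((p - 1 : ℕ) : ℤ) ∣ (-1 : ℤ) := by
    have := not_dvd_neg_of_lt (p := p) 1 le_rfl (by omega)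
    simpa using this
  have hl := not_dvd_neg_of_lt (p := p) i hi1 (by omega)
  have hkl : ¬ ((p - 1 : ℕ) : ℤ) ∣ (-1 : ℤ) + -(i : ℤ) := by
    have := not_dvd_neg_of_lt (p := p) (i + 1) (by omega) hi
    rw [← neg_add]
    push_cast at this
    rwa [add_comm]
  have h1 := OGe.J_mul_J χ hχ (-1) (-(i : ℤ)) hk hl hkl
  have h2 := OGg.J_congr χ hχp hp3 i hi1 (by omega)
  obtain ⟨r, hr⟩ := Ideal.mem_span_singleton'.mp h2
  -- Bezout
  have hcop : Nat.Coprime (i + 1) p := by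
    apply Nat.Coprime.symm
    rw [(Fact.out : p.Prime).coprime_iff_not_dvd]
    exact Nat.not_dvd_of_pos_of_lt (by omega) (by omega)
  have hb := Nat.gcd_eq_gcd_ab (i + 1) p
  rw [hcop.gcd_eq_one] at hb
  have hb' : (1 : R) = ((i : R) + 1) * ((Nat.gcdA (i + 1) p : ℤ) : R) +
      (p : R) * ((Nat.gcdB (i + 1) p : ℤ) : R) := by
    have := congrArg (fun z : ℤ => (z : R)) hb
    push_cast at this
    exact this
  set s : R := ((Nat.gcdA (i + 1) p : ℤ) : R)
  set tt : R := ((Nat.gcdB (i + 1) p : ℤ) : R)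
  set j := J p R χ (-1) (-(i : ℤ))
  set j' := J p R χ (- -1) (- -(i : ℤ))
  refine IsUnit.of_mul_eq_one (j' * (s * r + tt) - s) ?_
  linear_combination (s * r + tt) * h1 + s * hr - hb'


lemma ygen_congr (i j : ℕ) (h : ((p - 1 : ℕ) : ℤ) ∣ (i : ℤ) - (j : ℤ)) :
    OortTate.ygen R p u χ i = OortTate.ygen R p u χ j := by
  rw [ygen_eq', ygen_eq']
  congr 1
  refine Finset.sum_congr rfl fun m _ => ?_
  rw [c_congr χ (-(i : ℤ)) (-(j : ℤ)) (by rw [← neg_add', ← sub_eq_add_neg, dvd_neg]; exact h)]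

lemma G_congr (k l : ℤ) (h : ((p - 1 : ℕ) : ℤ) ∣ k - l) : G p R χ k = G p R χ l := by
  unfold G XB
  rw [X_congr χ k l h]

variable (hu : u * ((p - 1 : ℕ) : R) = 1)

include hu hχ hχp in
/-- the multiplication step `y_1 y_j = c y_{j+1}` with `c` a unit. -/
theorem step (j : ℕ) (hj1 : 1 ≤ j) (hj : j + 1 ≤ p - 1) :
    ∃ v : Rˣ, OortTate.ygen R p u χ 1 * OortTate.ygen R p u χ j =
      (v : R) • OortTate.ygen R p u χ (j + 1) := by
  have hp3 : 3 ≤ p := by omega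
  have huu : IsUnit u := IsUnit.of_mul_eq_one _ hu
  have h1 : OortTate.ygen R p u χ 1 = u • G p R χ (-1) := by
    have := ygen_of_not_dvd u χ hχ 1 (by
      have := not_dvd_neg_of_lt (p := p) 1 le_rfl (by omega)
      rwa [dvd_neg] at this)
    simpa using this
  have hjj : OortTate.ygen R p u χ j = u • G p R χ (-(j : ℤ)) :=
    ygen_of_not_dvd u χ hχ j (by
      have := not_dvd_neg_of_lt (p := p) j hj1 (by omega)
      rwa [dvd_neg] at this)
  rw [h1, hjj, smul_mul_smul_comm]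
  by_cases hlast : j + 1 = p - 1
  · -- the last step
    have hG : G p R χ (-(j : ℤ)) = G p R χ (-(-1 : ℤ)) := by
      apply G_congr
      have : ((j : ℤ)) = ((p - 1 : ℕ) : ℤ) - 1 := by
        rw [← hlast]; push_cast; ring
      rw [this]
      exact ⟨-1, by ring⟩
    have hk : ¬ ((p - 1 : ℕ) : ℤ) ∣ (-1 : ℤ) := by
      have := not_dvd_neg_of_lt (p := p) 1 le_rfl (by omega)
      simpa using this
    rw [hG, G_mul_G_neg χ hχ (-1) hk, ygen_of_dvd u χ (j + 1) (by rw [hlast])]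
    have hx : IsUnit (X p R χ (-1) (-1)) := IsUnit.of_mul_eq_one _ (OGe.X_neg_one_mul χ (-1))
    obtain ⟨v, hv⟩ : IsUnit (-(u * X p R χ (-1) (-1))) := (huu.mul hx).neg
    refine ⟨v, ?_⟩
    rw [hv, smul_smul, smul_smul]
    have : ((p : MonoidAlgebra R (Multiplicative (ZMod p))) - NN p R) = -(NN p R - (p : MonoidAlgebra R (Multiplicative (ZMod p)))) := by
      ring
    rw [this, smul_neg, ← neg_smul]
    congr 1
    ring
  · -- a generic step
    have hkl : ¬ ((p - 1 : ℕ) : ℤ) ∣ (-1 : ℤ) + -(j : ℤ) := by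
      have := not_dvd_neg_of_lt (p := p) (j + 1) (by omega) (by omega)
      rw [← neg_add]
      push_cast at this
      rwa [add_comm]
    rw [G_mul_G χ hχ (-1) (-(j : ℤ)) hkl]
    have hjn : OortTate.ygen R p u χ (j + 1) = u • G p R χ (-1 + -(j : ℤ)) := by
      have := ygen_of_not_dvd u χ hχ (j + 1) (by
        have := not_dvd_neg_of_lt (p := p) (j + 1) (by omega) (by omega)
        rwa [dvd_neg] at this)
      rw [this]
      congr 2
      push_cast
      ring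
    rw [hjn]
    obtain ⟨v, hv⟩ : IsUnit (u * J p R χ (-1) (-(j : ℤ))) :=
      huu.mul (isUnit_J χ hχ hχp j hj1 (by omega))
    refine ⟨v, ?_⟩
    rw [hv, smul_smul, smul_smul]
    congr 1
    ring

include hu hχ hχp in
/-- `y_1 ^ j` is a unit multiple of `y_j` for `1 ≤ j ≤ p - 1`. -/
theorem pow_eq (j : ℕ) (hj1 : 1 ≤ j) (hj : j ≤ p - 1) :
    ∃ v : Rˣ, OortTate.ygen R p u χ 1 ^ j = (v : R) • OortTate.ygen R p u χ j := by
  induction j with
  | zero => omega
  | succ j ih =>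
    by_cases h0 : j = 0
    · subst h0
      exact ⟨1, by simp⟩
    · obtain ⟨v, hv⟩ := ih (by omega) (by omega)
      obtain ⟨w, hw⟩ := step u χ hχ hχp hu j (by omega) hj
      refine ⟨v * w, ?_⟩
      rw [pow_succ, hv, smul_mul_assoc, mul_comm, hw, smul_smul, Units.val_mul]

end Groth.Agent.Helper7.OGh
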