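import Mathlib
import Groth.Agent.Helper7.OGh

set_option autoImplicit false
universe u

namespace Groth.Agent.Helper7.OGi

open Groth.Agent.Helper7.OGa Groth.Agent.Helper7.OGb Groth.Agent.Helper7.OGd
  Groth.Agent.Helper7.OGh

variable {p : ℕ} [Fact p.Prime] {R : Type u} [CommRing R] (u : R)
  (χ : (ZMod p)ˣ →* Rˣ)
  (hχ : ∀ m : (ZMod p)ˣ, m ≠ 1 → IsUnit ((χ m : R) - 1))
  (hχp : ∀ m : (ZMod p)ˣ, ((χ m : Rˣ) : R) - (((m : ZMod p).val : ℕ) : R) ∈
    Ideal.span ({(p : R)} : Set R))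
  (hu : u * ((p - 1 : ℕ) : R) = 1)

include hχ hχp hu

/-- every `y_i` lies in the subalgebra generated by `y_1`. -/
lemma ygen_mem_adjoin (i : ℕ) :
    OortTate.ygen R p u χ i ∈ Algebra.adjoin R
      ({OortTate.ygen R p u χ 1} : Set (MonoidAlgebra R (Multiplicative (ZMod p)))) := by
  have hp2 : 2 ≤ p := (Fact.out : p.Prime).two_le
  -- reduce to `1 ≤ j ≤ p - 1`
  obtain ⟨j, hj1, hj, hij⟩ : ∃ j : ℕ, 1 ≤ j ∧ j ≤ p - 1 ∧
      ((p - 1 : ℕ) : ℤ) ∣ (i : ℤ) - (j : ℤ) := by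
    by_cases h0 : i % (p - 1) = 0
    · refine ⟨p - 1, by omega, le_rfl, ?_⟩
      have : (p - 1) ∣ i := Nat.dvd_of_mod_eq_zero h0
      exact dvd_sub (Int.natCast_dvd_natCast.mpr this) (dvd_refl _)
    · refine ⟨i % (p - 1), by omega, (Nat.mod_lt _ (by omega)).le, ?_⟩
      have : (i : ℤ) - ((i % (p - 1) : ℕ) : ℤ) = ((p - 1 : ℕ) : ℤ) * ((i / (p - 1) : ℕ) : ℤ) := by
        have h' : (i : ℤ) = ((p - 1 : ℕ) : ℤ) * ((i / (p - 1) : ℕ) : ℤ) + ((i % (p - 1) : ℕ) : ℤ) := by
          exact_mod_cast (Nat.div_add_mod i (p - 1)).symm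
        linarith
      rw [this]
      exact dvd_mul_right _ _
  rw [ygen_congr u χ i j hij]
  obtain ⟨v, hv⟩ := pow_eq u χ hχ hχp hu j hj1 hj
  have : OortTate.ygen R p u χ j = ((v⁻¹ : Rˣ) : R) • OortTate.ygen R p u χ 1 ^ j := by
    rw [hv, smul_smul, ← Units.val_mul, inv_mul_cancel, Units.val_one, one_smul]
  rw [this]
  exact Subalgebra.smul_mem _ (Subalgebra.pow_mem _ (Algebra.subset_adjoin (Set.mem_singleton _)) j) _

theorem adjoin_eq_top :
    Algebra.adjoin R ({OortTate.ygen R p u χ 1} :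
      Set (MonoidAlgebra R (Multiplicative (ZMod p)))) = ⊤ := by
  rw [eq_top_iff]
  intro z _
  set S := Algebra.adjoin R ({OortTate.ygen R p u χ 1} :
      Set (MonoidAlgebra R (Multiplicative (ZMod p)))) with hS
  -- `T - 1` lies in the subalgebra
  have h1 : t p R 1 - 1 ∈ S := by
    have hmem : t p R 1 - 1 ∈ LinearMap.ker (Bialgebra.counitAlgHom R
        (MonoidAlgebra R (Multiplicative (ZMod p)))).toLinearMap := by
      rw [LinearMap.mem_ker]
      change Coalgebra.counit (R := R) (t p R 1 - 1) = 0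
      rw [map_sub, counit_t, Bialgebra.counit_one, sub_self]
    rw [← span_eq u χ hχ hu] at hmem
    refine Submodule.span_le (p := Subalgebra.toSubmodule S) |>.mpr ?_ hmem
    rintro _ ⟨i, rfl⟩
    exact ygen_mem_adjoin u χ hχ hχp hu i
  have h2 : t p R 1 ∈ S := by
    have := S.add_mem h1 S.one_mem
    simpa using this
  have h3 : ∀ a : ZMod p, t p R a ∈ S := by
    intro a
    have : t p R a = t p R 1 ^ a.val := by
      rw [t_pow, mul_one, ZMod.natCast_val, ZMod.cast_id', id]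
    rw [this]
    exact S.pow_mem h2 _
  have hdec : z = ∑ a : ZMod p, z.coeff (Multiplicative.ofAdd a) • t p R a := by
    conv_lhs => rw [← MonoidAlgebra.sum_coeff_single z]
    rw [Finsupp.sum_fintype _ _ (fun g => by simp), ← Equiv.sum_comp Multiplicative.ofAdd]
    refine Finset.sum_congr rfl fun a _ => ?_
    rw [t_def, MonoidAlgebra.smul_single, smul_eq_mul, mul_one]
  rw [hdec]
  exact S.sum_mem fun a _ => S.smul_mem (h3 a) _

theorem existsUnique_pow :
    ∃! w : R, OortTate.ygen R p u χ 1 ^ p = w • OortTate.ygen R p u χ 1 := by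
  have hp2 : 2 ≤ p := (Fact.out : p.Prime).two_le
  obtain ⟨v, hv⟩ := pow_eq u χ hχ hχp hu (p - 1) (by omega) le_rfl
  have hpow : OortTate.ygen R p u χ 1 ^ p =
      (-((v : R) * u * (p : R))) • OortTate.ygen R p u χ 1 := by
    have e : OortTate.ygen R p u χ 1 ^ p =
        OortTate.ygen R p u χ 1 ^ (p - 1) * OortTate.ygen R p u χ 1 := by
      rw [← pow_succ]; congr 1; omega
    rw [e, hv, ygen_of_dvd u χ (p - 1) (dvd_refl _)]
    rw [smul_mul_assoc, smul_mul_assoc, sub_mul, mul_comm (NN p R),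
      mul_NN_of_counit _ (counit_ygen u χ 1), zero_sub, smul_neg, smul_neg, smul_smul, neg_smul]
    congr 1
    have e2 : (u * (p : R)) • OortTate.ygen R p u χ 1 =
        u • ((p : MonoidAlgebra R (Multiplicative (ZMod p))) * OortTate.ygen R p u χ 1) := by
      rw [mul_smul, Nat.cast_smul_eq_nsmul, nsmul_eq_mul]
    rw [mul_assoc, mul_smul (v : R) (u * (p : R)), e2, mul_smul]
  refine ⟨_, hpow, ?_⟩
  intro w hw
  rw [hpow] at hw
  -- linear independence
  have hli := linearIndependent u χ hχ hu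
  have hlt : 1 % (p - 1) < p - 1 := Nat.mod_lt _ (by omega)
  have hy : OortTate.ygen R p u χ 1 = OortTate.ygen R p u χ (1 % (p - 1)) := by
    apply ygen_congr
    have : ((1 : ℕ) : ℤ) - ((1 % (p - 1) : ℕ) : ℤ) = ((p - 1 : ℕ) : ℤ) * ((1 / (p - 1) : ℕ) : ℤ) := by
      have h' : ((1 : ℕ) : ℤ) = ((p - 1 : ℕ) : ℤ) * ((1 / (p - 1) : ℕ) : ℤ) + ((1 % (p - 1) : ℕ) : ℤ) := by
        exact_mod_cast (Nat.div_add_mod 1 (p - 1)).symm
      linarith
    rw [this]
    exact dvd_mul_right _ _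
  have hzero : (w - -((v : R) * u * (p : R))) • OortTate.ygen R p u χ (1 % (p - 1)) = 0 := by
    rw [← hy, sub_smul, ← hw, sub_self]
  have := (Fintype.linearIndependent_iff.mp hli)
    (Pi.single (⟨1 % (p - 1), hlt⟩ : Fin (p - 1)) (w - -((v : R) * u * (p : R)))) (by
      rw [Finset.sum_eq_single (⟨1 % (p - 1), hlt⟩ : Fin (p - 1))]
      · rw [Pi.single_eq_same]; exact hzero
      · intro b _ hb
        rw [Pi.single_eq_of_ne hb, zero_smul]
      · intro h; exact absurd (Finset.mem_univ _) h) ⟨1 % (p - 1), hlt⟩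
  rw [Pi.single_eq_same] at this
  exact sub_eq_zero.mp this

theorem main :
    LinearIndependent R (fun i : Fin (p - 1) => OortTate.ygen R p u χ (i : ℕ)) ∧
      Submodule.span R (Set.range (fun i : Fin (p - 1) => OortTate.ygen R p u χ (i : ℕ))) =
        LinearMap.ker (Bialgebra.counitAlgHom R (MonoidAlgebra R (Multiplicative (ZMod p)))).toLinearMap ∧
      Algebra.adjoin R ({OortTate.ygen R p u χ 1} : Set (MonoidAlgebra R (Multiplicative (ZMod p)))) = ⊤ ∧
      ∃! w : R, OortTate.ygen R p u χ 1 ^ p = w • OortTate.ygen R p u χ 1 :=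
  ⟨linearIndependent u χ hχ hu, span_eq u χ hχ hu, adjoin_eq_top u χ hχ hχp hu,
    existsUnique_pow u χ hχ hχp hu⟩

end Groth.Agent.Helper7.OGi
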