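import Mathlib
import Groth.Agent.Helper7.OTb

set_option autoImplicit false
universe u

namespace Groth.Agent.Helper7.OTc

open TensorProduct WithConv Groth.Agent.Helper7

variable (p : ℕ) [Fact p.Prime] (R : Type u) [CommRing R] (u : R)
  (χ : (ZMod p)ˣ →* Rˣ) (A : Type u) [CommRing A] [HopfAlgebra R A] [Coalgebra.IsCocomm R A]
  [Module.Finite R A] [Module.Projective R A]

/-- A form in the dual eigenspace is invariant under the averaging operator of `A`. -/
theorem form_proj (hu : u * ((p - 1 : ℕ) : R) = 1) (i : ℕ) (y : CartDual.D R A)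
    (hy : y ∈ OortTate.eigenAug R (CartDual.D R A) p χ i) (a : A) :
    y (OortTate.proj R A p u χ i a) = y a := by
  obtain ⟨_, hy2⟩ := (OTb.mem_eigenAug p R χ (CartDual.D R A) i y).mp hy
  rw [OTb.proj_apply, CartDual.coe_apply, map_smul, map_sum]
  have : ∀ m : (ZMod p)ˣ, y.ofConv ((((χ m⁻¹ : Rˣ) : R) ^ i) • SGA3b.powConv R A (m : ZMod p).val a) =
      y a := by
    intro m
    rw [map_smul, ← CartDual.coe_apply, ← OTa.powConv_dual, hy2 m, CartDual.coe_apply,
      WithConv.ofConv_smul, LinearMap.smul_apply, smul_smul, ← mul_pow, ← Units.val_mul, ← map_mul,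
      inv_mul_cancel, map_one, Units.val_one, one_pow, one_smul]
  rw [Finset.sum_congr rfl (fun m _ => this m), Finset.sum_const, Finset.card_univ, ZMod.card_units p,
    ← Nat.cast_smul_eq_nsmul R, smul_smul, hu, one_smul]

theorem main (hu : u * ((p - 1 : ℕ) : R) = 1)
    (hp : (WithConv.toConv (AlgHom.id R A)) ^ p = 1) (i : ℕ) :
    Function.Bijective (fun f : OortTate.eigenAug R (CartDual.D R A) p χ i =>
      ((CartDual.toDual R A) (f : CartDual.D R A)).comp (OortTate.eigenAug R A p χ i).subtype) := by
  classical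
  -- π₀ a = proj (a - ε a • 1)
  let π₀ : A →ₗ[R] A := (OortTate.proj R A p u χ i) ∘ₗ
    ((LinearMap.id : A →ₗ[R] A) - (Algebra.linearMap R A).comp (Bialgebra.counitAlgHom R A).toLinearMap)
  have hπ₀ : ∀ a, π₀ a = OortTate.proj R A p u χ i (a - (Coalgebra.counit (R := R) a) • (1 : A)) := by
    intro a
    show OortTate.proj R A p u χ i (a - algebraMap R A (Bialgebra.counitAlgHom R A a)) = _
    rw [Algebra.algebraMap_eq_smul_one]
    rfl
  have hε1 : Coalgebra.counit (R := R) (1 : A) = 1 := Bialgebra.counit_one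
  have hdec : ∀ a : A, Coalgebra.counit (R := R) (a - (Coalgebra.counit (R := R) a) • (1 : A)) = 0 := by
    intro a
    rw [map_sub, map_smul, hε1, smul_eq_mul, mul_one, sub_self]
  have hπ₀mem : ∀ a, π₀ a ∈ OortTate.eigenAug R A p χ i := by
    intro a
    rw [hπ₀]
    exact OTb.proj_mem p R u χ A hp i _ (hdec a)
  have hπ₀fix : ∀ a ∈ OortTate.eigenAug R A p χ i, π₀ a = a := by
    intro a ha
    have h0 := ((OTb.mem_eigenAug p R χ A i a).mp ha).1
    rw [hπ₀, h0, zero_smul, sub_zero]
    exact OTb.proj_of_mem p R u χ A hu i a ha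
  constructor
  · intro f g hfg
    apply Subtype.ext
    apply WithConv.ext
    apply LinearMap.ext
    intro a
    have hf := f.2
    have hg := g.2
    have hf1 : (f : CartDual.D R A) 1 = 0 := ((OTb.mem_eigenAug p R χ (CartDual.D R A) i _).mp hf).1
    have hg1 : (g : CartDual.D R A) 1 = 0 := ((OTb.mem_eigenAug p R χ (CartDual.D R A) i _).mp hg).1
    have hI : ∀ b ∈ OortTate.eigenAug R A p χ i, (f : CartDual.D R A) b = (g : CartDual.D R A) b := by
      intro b hb
      have := congrArg (fun φ => φ ⟨b, hb⟩) hfg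
      exact this
    have key : ∀ (y : CartDual.D R A), y ∈ OortTate.eigenAug R (CartDual.D R A) p χ i → y 1 = 0 →
        y a = y (π₀ a) := by
      intro y hy hy1
      have h1 := form_proj p R u χ A hu i y hy a
      have h2 := form_proj p R u χ A hu i y hy 1
      rw [hπ₀, map_sub, map_smul, CartDual.coe_apply, map_sub, map_smul, ← CartDual.coe_apply,
        ← CartDual.coe_apply, h1, h2, hy1, smul_zero, sub_zero]
    show (f : CartDual.D R A) a = (g : CartDual.D R A) a
    rw [key _ hf hf1, key _ hg hg1]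
    exact hI _ (hπ₀mem a)
  · intro φ
    let π : A →ₗ[R] OortTate.eigenAug R A p χ i := LinearMap.codRestrict _ π₀ hπ₀mem
    have hπ : ∀ a, ((π a : OortTate.eigenAug R A p χ i) : A) = π₀ a := fun a => rfl
    let x : CartDual.D R A := WithConv.toConv (φ.comp π)
    have hx : ∀ a, x a = φ (π a) := fun a => rfl
    have hπcomm : ∀ (m : (ZMod p)ˣ) (a : A), π₀ (SGA3b.powConv R A (m : ZMod p).val a) =
        (((χ m : Rˣ) : R) ^ i) • π₀ a := by
      intro m a
      rw [hπ₀, hπ₀, Groth.Agent.Helper9.PowConv.counit_powConv]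
      have h1 : SGA3b.powConv R A (m : ZMod p).val a - (Coalgebra.counit (R := R) a) • (1 : A) =
          SGA3b.powConv R A (m : ZMod p).val (a - (Coalgebra.counit (R := R) a) • (1 : A)) := by
        rw [map_sub, map_smul, map_one]
      rw [h1, ← OTb.powConv_comm_proj p R u χ A hp, OTb.powConv_proj p R u χ A hp]
    have hxmem : x ∈ OortTate.eigenAug R (CartDual.D R A) p χ i := by
      rw [OTb.mem_eigenAug]
      constructor
      · show x 1 = 0
        rw [hx]
        have : π 1 = 0 := by
          apply Subtype.ext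
          rw [hπ, hπ₀, hε1, one_smul, sub_self, map_zero]
          rfl
        rw [this, map_zero]
      · intro m
        apply WithConv.ext
        apply LinearMap.ext
        intro a
        show SGA3b.powConv R (CartDual.D R A) (m : ZMod p).val x a = ((((χ m : Rˣ) : R) ^ i) • x) a
        rw [OTa.powConv_dual, hx]
        have : π (SGA3b.powConv R A (m : ZMod p).val a) = (((χ m : Rˣ) : R) ^ i) • π a := by
          apply Subtype.ext
          rw [hπ, hπcomm]
          rfl
        rw [this, map_smul]
        rfl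
    refine ⟨⟨x, hxmem⟩, ?_⟩
    apply LinearMap.ext
    intro b
    show x (b : A) = φ b
    rw [hx]
    congr 1
    apply Subtype.ext
    rw [hπ]
    exact hπ₀fix _ b.2

end Groth.Agent.Helper7.OTc
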