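import Mathlib
import Groth.Agent.Helper7.FGK24
import Groth.Agent.Helper7.OTb

set_option autoImplicit false
universe u

namespace Groth.Agent.Helper7.OTd

open TensorProduct WithConv Groth.Agent.Helper7

section Der

variable {k : Type u} [Field k] {A : Type u} [CommRing A] [HopfAlgebra k A]

/-- an `ε`-derivation is additive on convolution products of augmentation-preserving maps -/
theorem isDer_convMul {l : A →ₗ[k] k} (hl : FGK.IsDer l) (φ ψ : WithConv (A →ₐ[k] A))
    (hφ : ∀ a, Coalgebra.counit (R := k) (φ.ofConv a) = Coalgebra.counit (R := k) a)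
    (hψ : ∀ a, Coalgebra.counit (R := k) (ψ.ofConv a) = Coalgebra.counit (R := k) a) (a : A) :
    l ((φ * ψ).ofConv a) = l (φ.ofConv a) + l (ψ.ofConv a) := by
  have key : ∀ z : A ⊗[k] A,
      l (Algebra.TensorProduct.lift φ.ofConv ψ.ofConv (fun _ _ => Commute.all _ _) z) =
        l (ψ.ofConv (TensorProduct.lid k A
          ((Coalgebra.counit (R := k) : A →ₗ[k] k).rTensor A z))) +
        l (φ.ofConv (TensorProduct.rid k A
          ((Coalgebra.counit (R := k) : A →ₗ[k] k).lTensor A z))) := by
    intro z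
    induction z using TensorProduct.induction_on with
    | zero => simp
    | tmul x y =>
      simp only [Algebra.TensorProduct.lift_tmul,
        LinearMap.rTensor_tmul, LinearMap.lTensor_tmul, TensorProduct.lid_tmul,
        TensorProduct.rid_tmul, map_smul, smul_eq_mul]
      rw [hl, hφ, hψ]
    | add x y hx hy => simp only [map_add, hx, hy]; ring
  have h1 : (φ * ψ).ofConv a = Algebra.TensorProduct.lift φ.ofConv ψ.ofConv
      (fun _ _ => Commute.all _ _) (Coalgebra.comul (R := k) a) :=
    AlgHom.convMul_apply φ ψ a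
  rw [h1, key, Coalgebra.rTensor_counit_comul, Coalgebra.lTensor_counit_comul]
  simp only [TensorProduct.lid_tmul, TensorProduct.rid_tmul, one_smul]
  ring

theorem isDer_powConv {l : A →ₗ[k] k} (hl : FGK.IsDer l) (n : ℕ) (a : A) :
    l (SGA3b.powConv k A n a) = (n : k) * l a := by
  induction n with
  | zero =>
    rw [Groth.Agent.Helper9.PowConv.powConv_zero]
    simp only [AlgHom.comp_apply, Nat.cast_zero, zero_mul]
    change l (algebraMap k A _) = 0
    rw [Algebra.algebraMap_eq_smul_one, map_smul, hl.map_one, smul_zero]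
  | succ n ih =>
    have h1 : SGA3b.powConv k A (n + 1) a =
        ((toConv (AlgHom.id k A)) ^ n * toConv (AlgHom.id k A)).ofConv a := by
      unfold SGA3b.powConv
      rw [pow_succ]
    rw [h1, isDer_convMul hl]
    · have h2 : ((toConv (AlgHom.id k A)) ^ n).ofConv a = SGA3b.powConv k A n a := rfl
      rw [h2, ih]
      simp only [WithConv.ofConv_toConv, AlgHom.id_apply, Nat.cast_succ]
      ring
    · intro b
      exact Groth.Agent.Helper9.PowConv.counit_powConv k A n b
    · intro b
      rfl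

end Der

section Field

variable (p : ℕ) [Fact p.Prime] (K : Type u) [Field K] (u : K)
  (χ : (ZMod p)ˣ →* Kˣ) (B : Type u) [CommRing B] [HopfAlgebra K B] [Module.Finite K B]
  (hu : u * ((p - 1 : ℕ) : K) = 1)
  (hχp : ∀ m : (ZMod p)ˣ, ((χ m : Kˣ) : K) - (((m : ZMod p).val : ℕ) : K) ∈
    Ideal.span ({(p : K)} : Set K))
  (hB : Module.finrank K B = p)
  (hp : (toConv (AlgHom.id K B)) ^ p = 1)

include hu hχp hB hp in
theorem exists_gen_local [IsLocalRing B] [CharP K p] :
    ∃ x ∈ OortTate.eigenAug K B p χ 1, ∀ t : ℕ, t < p → x ^ t ≠ 0 := by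
  have hp2 := (Fact.out : p.Prime).two_le
  obtain ⟨x₀, l, hx₀, hl, hlx₀⟩ := FGK.exists_coord_isDer (k := K) (A := B) (by rw [hB]; exact hp2)
  have hχm : ∀ m : (ZMod p)ˣ, ((χ m : Kˣ) : K) = (((m : ZMod p).val : ℕ) : K) := by
    intro m
    have h := hχp m
    rw [CharP.cast_eq_zero K p, Ideal.mem_span_singleton, zero_dvd_iff, sub_eq_zero] at h
    exact h
  have hxmem : OortTate.proj K B p u χ 1 x₀ ∈ OortTate.eigenAug K B p χ 1 :=
    OTb.proj_mem p K u χ B hp 1 x₀ hx₀
  have hlx : l (OortTate.proj K B p u χ 1 x₀) = 1 := by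
    rw [OTb.proj_apply, map_smul, map_sum]
    have : ∀ m : (ZMod p)ˣ, l ((((χ m⁻¹ : Kˣ) : K) ^ 1) •
        SGA3b.powConv K B (m : ZMod p).val x₀) = 1 := by
      intro m
      rw [map_smul, isDer_powConv hl, hlx₀, mul_one, ← hχm m, pow_one, smul_eq_mul,
        ← Units.val_mul, ← map_mul, inv_mul_cancel, map_one, Units.val_one]
    rw [Finset.sum_congr rfl (fun m _ => this m), Finset.sum_const, Finset.card_univ,
      ZMod.card_units p, nsmul_eq_mul, mul_one, smul_eq_mul]
    exact hu
  refine ⟨_, hxmem, ?_⟩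
  have hx0 := ((OTb.mem_eigenAug p K χ B 1 _).mp hxmem).1
  have hli := FGK.linearIndependent_pow_of_isDer l hl p hx0 (by rw [hlx]; exact one_ne_zero)
  intro t ht
  exact hli.ne_zero ⟨t, ht⟩

/-- the extension by zero of `χ` to `ZMod p` -/
noncomputable def cext (a : ZMod p) : K := by
  classical
  exact if h : IsUnit a then ((χ h.unit : Kˣ) : K) else 0

lemma cext_zero : cext p K χ 0 = 0 := by
  classical
  unfold cext
  rw [dif_neg]
  exact not_isUnit_zero

lemma cext_one : cext p K χ 1 = 1 := by
  classical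
  unfold cext
  rw [dif_pos isUnit_one]
  have : (isUnit_one : IsUnit (1 : ZMod p)).unit = 1 := by
    ext; rfl
  rw [this, map_one, Units.val_one]

lemma cext_mul (a : ZMod p) (m : (ZMod p)ˣ) :
    cext p K χ (a * (m : ZMod p)) = ((χ m : Kˣ) : K) * cext p K χ a := by
  classical
  unfold cext
  by_cases ha : IsUnit a
  · have ham : IsUnit (a * (m : ZMod p)) := ha.mul m.isUnit
    rw [dif_pos ha, dif_pos ham]
    have : ham.unit = ha.unit * m := by
      ext; rfl
    rw [this, map_mul, Units.val_mul, mul_comm]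
  · have ham : ¬ IsUnit (a * (m : ZMod p)) := by
      intro h
      apply ha
      have := h.mul (m⁻¹).isUnit
      rwa [mul_assoc, ← Units.val_mul, mul_inv_cancel, Units.val_one, mul_one] at this
    rw [dif_neg ha, dif_neg ham, mul_zero]

include hB in
theorem exists_gen_etale [IsAlgClosed K] (hcard : Nat.card (WithConv (B →ₐ[K] K)) = p) :
    ∃ x ∈ OortTate.eigenAug K B p χ 1, ∀ t : ℕ, t < p → x ^ t ≠ 0 := by
  classical
  have hpp := (Fact.out : p.Prime)
  have hp2 := hpp.two_le
  haveI : Nontrivial (WithConv (B →ₐ[K] K)) := by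
    rw [← Finite.one_lt_card_iff_nontrivial, hcard]
    omega
  obtain ⟨γ₀, hγ₀⟩ := exists_ne (1 : WithConv (B →ₐ[K] K))
  have hord : orderOf γ₀ = p := by
    have h1 : orderOf γ₀ ∣ p := hcard ▸ orderOf_dvd_natCard γ₀
    rcases (Nat.dvd_prime hpp).mp h1 with h | h
    · exact absurd (orderOf_eq_one_iff.mp h) hγ₀
    · exact h
  have hγp : γ₀ ^ p = 1 := hord ▸ pow_orderOf_eq_one γ₀
  let q : ZMod p → WithConv (B →ₐ[K] K) := fun a => γ₀ ^ a.val
  have hq_inj : Function.Injective q := by
    intro a b hab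
    apply ZMod.val_injective p
    refine pow_injOn_Iio_orderOf ?_ ?_ hab
    · rw [Set.mem_Iio, hord]; exact ZMod.val_lt a
    · rw [Set.mem_Iio, hord]; exact ZMod.val_lt b
  have hq_pow : ∀ (a : ZMod p) (n : ℕ), q a ^ n = q (a * (n : ZMod p)) := by
    intro a n
    change (γ₀ ^ a.val) ^ n = γ₀ ^ (a * (n : ZMod p)).val
    rw [← pow_mul, ← pow_mod_orderOf, hord, ZMod.val_mul, ZMod.val_natCast]
    congr 1
    rw [Nat.mul_mod a.val (n % p), Nat.mod_mod, ← Nat.mul_mod]
  let e : Fin p ≃ ZMod p := (ZMod.finEquiv p).toEquiv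
  let v : Fin p → WithConv (B →ₗ[K] K) := fun i => toConv (q (e i)).ofConv.toLinearMap
  have hv : LinearIndependent K v := by
    refine FGK.linearIndependent_points (R := K) (A := B) (K := K) (fun i => (q (e i)).ofConv) ?_
    intro i j hij
    apply e.injective
    apply hq_inj
    exact WithConv.ofConv_injective hij
  obtain ⟨x, hx⟩ := FGK.exists_of_dual_coords v hv hB (fun i => cext p K χ (e i))
  have hx' : ∀ a : ZMod p, (q a).ofConv x = cext p K χ a := by
    intro a
    have h := hx (e.symm a)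
    simp only [Equiv.apply_symm_apply] at h
    have h' : (v (e.symm a)).ofConv x = (q (e (e.symm a))).ofConv x := rfl
    rw [h', Equiv.apply_symm_apply] at h
    exact h
  have hcounit : Coalgebra.counit (R := K) x = 0 := by
    have h0 := hx' 0
    rw [cext_zero] at h0
    have : q 0 = 1 := by
      change γ₀ ^ (0 : ZMod p).val = 1
      rw [ZMod.val_zero, pow_zero]
    rw [this] at h0
    exact h0
  refine ⟨x, ?_, ?_⟩
  · rw [OTb.mem_eigenAug]
    refine ⟨hcounit, fun m => ?_⟩
    refine FGK.eq_of_forall_dual_eq v hv hB fun i => ?_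
    change (q (e i)).ofConv (SGA3b.powConv K B (m : ZMod p).val x) =
      (q (e i)).ofConv ((((χ m : Kˣ) : K) ^ 1) • x)
    have h1 := Groth.Agent.Helper9.PowConv.comp_convPow K B (q (e i)).ofConv
      (toConv (AlgHom.id K B)) (m : ZMod p).val
    have h2 : (q (e i)).ofConv (SGA3b.powConv K B (m : ZMod p).val x) =
        ((q (e i)) ^ (m : ZMod p).val).ofConv x := by
      have := congrArg (fun F : B →ₐ[K] K => F x) h1
      simpa [SGA3b.powConv] using this
    rw [h2, hq_pow, ZMod.natCast_zmod_val, hx', cext_mul, map_smul, hx', pow_one, smul_eq_mul]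
  · intro t _ hxt
    have h1 := hx' 1
    rw [cext_one] at h1
    have h2 : (q 1).ofConv (x ^ t) = 1 := by
      rw [map_pow, h1, one_pow]
    rw [hxt, map_zero] at h2
    exact zero_ne_one h2

include hu hχp hB hp in
/-- over an algebraically closed field there is an element of `I_1` whose first `p - 1` powers are
nonzero -/
theorem exists_gen [IsAlgClosed K] :
    ∃ x ∈ OortTate.eigenAug K B p χ 1, ∀ t : ℕ, t < p → x ^ t ≠ 0 := by
  rcases FGK.card_points_eq_or_isLocalRing K B p (Fact.out : p.Prime) hB with hcard | ⟨hloc, hchar⟩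
  · exact exists_gen_etale p K χ B hB hcard
  · exact exists_gen_local p K u χ B hu hχp hB hp

end Field

end Groth.Agent.Helper7.OTd
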