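import Mathlib
import Groth.Agent.Helper7.OTd

set_option autoImplicit false
universe u

namespace Groth.Agent.Helper7.OTe

open TensorProduct WithConv Groth.Agent.Helper7

section General

variable (p : ℕ) [Fact p.Prime] (R : Type u) [CommRing R]
  (χ : (ZMod p)ˣ →* Rˣ) (A : Type u) [CommRing A] [HopfAlgebra R A]

lemma chi_pow_card (m : (ZMod p)ˣ) : ((χ m : Rˣ) : R) ^ (p - 1) = 1 := by
  have h1 : m ^ (p - 1) = 1 := by
    have := ZMod.card_units p
    rw [← this]
    exact pow_card_eq_one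
  rw [← Units.val_pow_eq_pow_val, ← map_pow, h1, map_one, Units.val_one]

theorem eigenAug_congr (i j : ℕ) (h : i % (p - 1) = j % (p - 1)) :
    OortTate.eigenAug R A p χ i = OortTate.eigenAug R A p χ j := by
  ext f
  rw [OTb.mem_eigenAug, OTb.mem_eigenAug]
  have : ∀ m : (ZMod p)ˣ, ((χ m : Rˣ) : R) ^ i = ((χ m : Rˣ) : R) ^ j := by
    intro m
    rw [pow_eq_pow_mod i (chi_pow_card p R χ m), pow_eq_pow_mod j (chi_pow_card p R χ m), h]
  simp only [this]

theorem pow_mem_eigenAug {x : A} (hx : x ∈ OortTate.eigenAug R A p χ 1) (t : ℕ) (ht : 1 ≤ t) :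
    x ^ t ∈ OortTate.eigenAug R A p χ t := by
  rw [OTb.mem_eigenAug] at hx ⊢
  obtain ⟨h1, h2⟩ := hx
  constructor
  · change Bialgebra.counitAlgHom R A (x ^ t) = 0
    rw [map_pow]
    change (Coalgebra.counit (R := R) x) ^ t = 0
    rw [h1, zero_pow (by omega)]
  · intro m
    rw [map_pow, h2 m, smul_pow, pow_one]

theorem mul_mem_eigenAug {x y : A} (i j : ℕ) (hx : x ∈ OortTate.eigenAug R A p χ i)
    (hy : y ∈ OortTate.eigenAug R A p χ j) : x * y ∈ OortTate.eigenAug R A p χ (i + j) := by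
  rw [OTb.mem_eigenAug] at hx hy ⊢
  obtain ⟨h1, h2⟩ := hx
  obtain ⟨h3, h4⟩ := hy
  constructor
  · change Bialgebra.counitAlgHom R A (x * y) = 0
    rw [map_mul]
    change (Coalgebra.counit (R := R) x) * _ = 0
    rw [h1, zero_mul]
  · intro m
    rw [map_mul, h2 m, h4 m, smul_mul_smul_comm, pow_add]

end General

section Field

variable (p : ℕ) [Fact p.Prime] (K : Type u) [Field K] (u : K)
  (χ : (ZMod p)ˣ →* Kˣ) (B : Type u) [CommRing B] [HopfAlgebra K B] [Module.Finite K B]
  (hu : u * ((p - 1 : ℕ) : K) = 1)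
  (hχ : ∀ m : (ZMod p)ˣ, m ≠ 1 → IsUnit ((χ m : K) - 1))
  (hB : Module.finrank K B = p)
  (hp : (toConv (AlgHom.id K B)) ^ p = 1)

/-- the exponent attached to an index `j < p - 1` -/
def expo (j : ℕ) : ℕ := if j = 0 then p - 1 else j

lemma expo_mod (t : ℕ) (ht1 : 1 ≤ t) (ht : t ≤ p - 1) : expo p (t % (p - 1)) = t := by
  unfold expo
  rcases Nat.lt_or_ge t (p - 1) with h | h
  · rw [Nat.mod_eq_of_lt h, if_neg (by omega)]
  · have : t = p - 1 := le_antisymm ht h
    rw [this, Nat.mod_self, if_pos rfl]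

lemma expo_pos (j : ℕ) (hj : j < p - 1) : 1 ≤ expo p j ∧ expo p j < p ∧
    expo p j % (p - 1) = j % (p - 1) := by
  unfold expo
  split_ifs with h
  · subst h
    refine ⟨by omega, by omega, ?_⟩
    rw [Nat.mod_self, Nat.zero_mod]
  · exact ⟨by omega, by omega, rfl⟩

include hu hχ hB hp in
/-- given a generator, each eigenspace is a line -/
theorem eigenAug_eq_span {x : B} (hx : x ∈ OortTate.eigenAug K B p χ 1)
    (hxt : ∀ t : ℕ, t < p → x ^ t ≠ 0) (j : Fin (p - 1)) :
    OortTate.eigenAug K B p χ (j : ℕ) = Submodule.span K {x ^ expo p (j : ℕ)} := by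
  classical
  obtain ⟨hind, hsup, -⟩ := Groth.Agent.S18468.result p K u hu χ hχ B hp
  let w : Fin (p - 1) → B := fun j => x ^ expo p (j : ℕ)
  have hw_mem : ∀ j : Fin (p - 1), w j ∈ OortTate.eigenAug K B p χ (j : ℕ) := by
    intro j
    obtain ⟨h1, h2, h3⟩ := expo_pos p (j : ℕ) j.2
    rw [eigenAug_congr p K χ B (j : ℕ) (expo p (j : ℕ)) h3.symm]
    exact pow_mem_eigenAug p K χ B hx _ h1
  have hw_ne : ∀ j : Fin (p - 1), w j ≠ 0 := fun j => hxt _ (expo_pos p (j : ℕ) j.2).2.1
  have hli : LinearIndependent K w := hind.linearIndependent _ hw_mem hw_ne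
  have hker : Module.finrank K (LinearMap.ker (Bialgebra.counitAlgHom K B).toLinearMap) = p - 1 := by
    have h1 := LinearMap.finrank_range_add_finrank_ker (Bialgebra.counitAlgHom K B).toLinearMap
    have h2 : LinearMap.range (Bialgebra.counitAlgHom K B).toLinearMap = ⊤ := by
      rw [LinearMap.range_eq_top]
      intro c
      exact ⟨algebraMap K B c, by simp⟩
    rw [h2, finrank_top, Module.finrank_self, hB] at h1
    omega
  have hspan : Submodule.span K (Set.range w) =
      LinearMap.ker (Bialgebra.counitAlgHom K B).toLinearMap := by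
    apply Submodule.eq_of_le_of_finrank_eq
    · rw [Submodule.span_le]
      rintro _ ⟨i, rfl⟩
      rw [← hsup]
      exact Submodule.mem_iSup_of_mem i (hw_mem i)
    · rw [finrank_span_eq_card hli, Fintype.card_fin, hker]
  apply le_antisymm
  · intro f hf
    have hfk : f ∈ Submodule.span K (Set.range w) := by
      rw [hspan, ← hsup]
      exact Submodule.mem_iSup_of_mem j hf
    obtain ⟨c, hc⟩ := (Submodule.mem_span_range_iff_exists_fun K).mp hfk
    have hsplit : f - c j • w j = ∑ i ∈ Finset.univ.erase j, c i • w i := by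
      rw [← hc, ← Finset.add_sum_erase _ _ (Finset.mem_univ j)]
      abel
    have h1 : f - c j • w j ∈ OortTate.eigenAug K B p χ (j : ℕ) :=
      Submodule.sub_mem _ hf (Submodule.smul_mem _ _ (hw_mem j))
    have h2 : f - c j • w j ∈ ⨆ (i : Fin (p - 1)) (_ : i ≠ j), OortTate.eigenAug K B p χ (i : ℕ) := by
      rw [hsplit]
      refine Submodule.sum_mem _ fun i hi => ?_
      have hij : i ≠ j := (Finset.mem_erase.mp hi).1
      exact Submodule.smul_mem _ _
        (Submodule.mem_iSup_of_mem i (Submodule.mem_iSup_of_mem hij (hw_mem i)))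
    have h3 := (Submodule.disjoint_def.mp (hind j)) _ h1 h2
    rw [sub_eq_zero] at h3
    rw [h3]
    exact Submodule.smul_mem _ _ (Submodule.mem_span_singleton_self _)
  · rw [Submodule.span_le, Set.singleton_subset_iff]
    exact hw_mem j

include hu hχ hB hp in
theorem eigenAug_eq_span' {x : B} (hx : x ∈ OortTate.eigenAug K B p χ 1)
    (hxt : ∀ t : ℕ, t < p → x ^ t ≠ 0) (t : ℕ) (ht1 : 1 ≤ t) (ht : t ≤ p - 1) :
    OortTate.eigenAug K B p χ t = Submodule.span K {x ^ t} := by
  have hp2 := (Fact.out : p.Prime).two_le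
  have hlt : t % (p - 1) < p - 1 := Nat.mod_lt _ (by omega)
  have h1 := eigenAug_eq_span p K u χ B hu hχ hB hp hx hxt ⟨t % (p - 1), hlt⟩
  rw [eigenAug_congr p K χ B t (t % (p - 1)) (Nat.mod_mod _ _).symm]
  change OortTate.eigenAug K B p χ (t % (p - 1)) = _ at h1
  rw [h1]
  change Submodule.span K {x ^ expo p (t % (p - 1))} = _
  rw [expo_mod p t ht1 ht]

variable (hχp : ∀ m : (ZMod p)ˣ, ((χ m : Kˣ) : K) - (((m : ZMod p).val : ℕ) : K) ∈
    Ideal.span ({(p : K)} : Set K))

include hu hχ hχp hB hp in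
/-- **Field case**: over an algebraically closed field every eigenspace is a line and
`I_1 ^ t = I_t`. -/
theorem field_main [IsAlgClosed K] :
    (∀ i : ℕ, Module.finrank K (OortTate.eigenAug K B p χ i) = 1) ∧
      ∀ t : ℕ, 1 ≤ t → t ≤ p - 1 →
        (OortTate.eigenAug K B p χ 1) ^ t = OortTate.eigenAug K B p χ t := by
  have hp2 := (Fact.out : p.Prime).two_le
  obtain ⟨x, hx, hxt⟩ := OTd.exists_gen p K u χ B hu hχp hB hp
  constructor
  · intro i
    have hlt : i % (p - 1) < p - 1 := Nat.mod_lt _ (by omega)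
    have h1 := eigenAug_eq_span p K u χ B hu hχ hB hp hx hxt ⟨i % (p - 1), hlt⟩
    rw [eigenAug_congr p K χ B i (i % (p - 1)) (Nat.mod_mod _ _).symm]
    change OortTate.eigenAug K B p χ (i % (p - 1)) = _ at h1
    rw [h1]
    exact finrank_span_singleton (hxt _ (expo_pos p _ hlt).2.1)
  · intro t ht1 ht
    rw [eigenAug_eq_span' p K u χ B hu hχ hB hp hx hxt t ht1 ht,
      eigenAug_eq_span' p K u χ B hu hχ hB hp hx hxt 1 le_rfl (by omega), pow_one,
      Submodule.span_pow, Set.singleton_pow]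

end Field

end Groth.Agent.Helper7.OTe
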