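import Mathlib
import Groth.Agent.Helper7.OTe
import Groth.Agent.Helper7.Deligne3

set_option autoImplicit false
universe u

namespace Groth.Agent.Helper7.OTf

open TensorProduct WithConv Groth.Agent.Helper7

section Pi0

variable (p : ℕ) [Fact p.Prime] (R : Type u) [CommRing R] (u : R)
  (χ : (ZMod p)ˣ →* Rˣ) (A : Type u) [CommRing A] [HopfAlgebra R A]

/-- removing the constant term -/
noncomputable def aug : A →ₗ[R] A :=
  LinearMap.id - (Algebra.linearMap R A) ∘ₗ (Coalgebra.counit (R := R) : A →ₗ[R] R)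

lemma aug_apply (a : A) : aug R A a = a - algebraMap R A (Coalgebra.counit (R := R) a) := rfl

lemma counit_aug (a : A) : Coalgebra.counit (R := R) (aug R A a) = 0 := by
  rw [aug_apply, map_sub]
  change _ - Bialgebra.counitAlgHom R A (algebraMap R A _) = 0
  rw [AlgHom.commutes]
  simp

lemma aug_of_counit {a : A} (ha : Coalgebra.counit (R := R) a = 0) : aug R A a = a := by
  rw [aug_apply, ha, map_zero, sub_zero]

/-- the projector onto the eigenspace `I_i` -/
noncomputable def pi0 (i : ℕ) : A →ₗ[R] A := (OortTate.proj R A p u χ i) ∘ₗ aug R A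

variable (hu : u * ((p - 1 : ℕ) : R) = 1)
variable (hp : (WithConv.toConv (AlgHom.id R A)) ^ p = 1)

include hp in
lemma pi0_mem (i : ℕ) (a : A) : pi0 p R u χ A i a ∈ OortTate.eigenAug R A p χ i :=
  OTb.proj_mem p R u χ A hp i _ (counit_aug R A a)

include hu in
lemma pi0_of_mem (i : ℕ) {f : A} (hf : f ∈ OortTate.eigenAug R A p χ i) :
    pi0 p R u χ A i f = f := by
  have h0 := ((OTb.mem_eigenAug p R χ A i f).mp hf).1
  change OortTate.proj R A p u χ i (aug R A f) = f
  rw [aug_of_counit R A h0]
  exact OTb.proj_of_mem p R u χ A hu i f hf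

/-- corestriction of the projector -/
noncomputable def pi0' (i : ℕ) : A →ₗ[R] OortTate.eigenAug R A p χ i :=
  LinearMap.codRestrict _ (pi0 p R u χ A i) (pi0_mem p R u χ A hp i)

include hu in
lemma pi0'_comp_subtype (i : ℕ) :
    (pi0' p R u χ A hp i) ∘ₗ (OortTate.eigenAug R A p χ i).subtype = LinearMap.id := by
  apply LinearMap.ext
  intro f
  apply Subtype.ext
  change pi0 p R u χ A i (f : A) = f
  exact pi0_of_mem p R u χ A hu i f.2

lemma subtype_comp_pi0' (i : ℕ) :
    (OortTate.eigenAug R A p χ i).subtype ∘ₗ (pi0' p R u χ A hp i) = pi0 p R u χ A i := rfl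

include hu hp in
theorem finite_eigenAug [Module.Finite R A] (i : ℕ) :
    Module.Finite R (OortTate.eigenAug R A p χ i) := by
  refine Module.Finite.of_surjective (pi0' p R u χ A hp i) ?_
  intro f
  refine ⟨f, ?_⟩
  have := LinearMap.congr_fun (pi0'_comp_subtype p R u χ A hu hp i) f
  exact this

include hu hp in
theorem projective_eigenAug [Module.Projective R A] (i : ℕ) :
    Module.Projective R (OortTate.eigenAug R A p χ i) :=
  Module.Projective.of_split _ _ (pi0'_comp_subtype p R u χ A hu hp i)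

end Pi0

section BC

variable (p : ℕ) [Fact p.Prime] (R : Type u) [CommRing R] (u : R)
  (χ : (ZMod p)ˣ →* Rˣ) (A : Type u) [CommRing A] [HopfAlgebra R A]
  (K : Type u) [CommRing K] [Algebra R K]

/-- the base-changed character -/
noncomputable def chiK : (ZMod p)ˣ →* Kˣ := (Units.map (algebraMap R K).toMonoidHom).comp χ

lemma chiK_apply (m : (ZMod p)ˣ) :
    ((chiK p R χ K m : Kˣ) : K) = algebraMap R K ((χ m : Rˣ) : R) := rfl

theorem powConv_lin (n : ℕ) :
    (SGA3b.powConv R A n).toLinearMap = ((toConv (LinearMap.id : A →ₗ[R] A)) ^ n).ofConv := by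
  unfold SGA3b.powConv
  apply WithConv.toConv_injective
  rw [AlgHom.toLinearMap_convPow]
  rfl

theorem powConv_baseChange (n : ℕ) :
    (SGA3b.powConv K (K ⊗[R] A) n).toLinearMap = (SGA3b.powConv R A n).toLinearMap.baseChange K := by
  rw [powConv_lin, powConv_lin]
  have h := map_pow (Deligne.bcHom (R := R) (A := A) K) (toConv (LinearMap.id : A →ₗ[R] A)) n
  rw [Deligne.bcHom_id] at h
  have h2 := congrArg WithConv.ofConv h
  exact h2.symm

theorem powConv_tmul (n : ℕ) (c : K) (a : A) :
    SGA3b.powConv K (K ⊗[R] A) n (c ⊗ₜ[R] a) = c ⊗ₜ[R] SGA3b.powConv R A n a := by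
  have := LinearMap.congr_fun (powConv_baseChange R A K n) (c ⊗ₜ[R] a)
  exact this

theorem counit_tmul' (c : K) (a : A) :
    Coalgebra.counit (R := K) (c ⊗ₜ[R] a) = c * algebraMap R K (Coalgebra.counit (R := R) a) := by
  rw [TensorProduct.counit_tmul, CommSemiring.counit_apply, Algebra.smul_def, mul_comm]

theorem hpK (hp : (WithConv.toConv (AlgHom.id R A)) ^ p = 1) :
    (WithConv.toConv (AlgHom.id K (K ⊗[R] A))) ^ p = 1 := by
  have h0 : SGA3b.powConv R A p = (1 : WithConv (A →ₐ[R] A)).ofConv := by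
    unfold SGA3b.powConv
    rw [hp]
  apply WithConv.ofConv_injective
  apply AlgHom.toLinearMap_injective
  change (SGA3b.powConv K (K ⊗[R] A) p).toLinearMap = _
  rw [powConv_baseChange, h0]
  apply TensorProduct.AlgebraTensorModule.ext
  intro c a
  rw [LinearMap.baseChange_tmul]
  change c ⊗ₜ[R] (algebraMap R A (Coalgebra.counit (R := R) a)) =
    algebraMap K (K ⊗[R] A) (Coalgebra.counit (R := K) (c ⊗ₜ[R] a))
  rw [counit_tmul', Algebra.TensorProduct.algebraMap_apply, Algebra.algebraMap_eq_smul_one,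
    TensorProduct.tmul_smul, TensorProduct.smul_tmul', Algebra.smul_def, Algebra.algebraMap_self,
    RingHom.id_apply, mul_comm]

lemma tmul_smul_R (r : R) (c : K) (b : A) :
    c ⊗ₜ[R] (r • b) = (algebraMap R K r * c) ⊗ₜ[R] b := by
  rw [TensorProduct.tmul_smul, TensorProduct.smul_tmul', Algebra.smul_def]

lemma smul_tmul_K (k c : K) (b : A) : k • (c ⊗ₜ[R] b) = (k * c) ⊗ₜ[R] b := by
  rw [TensorProduct.smul_tmul', smul_eq_mul]

theorem proj_baseChange (i : ℕ) :
    OortTate.proj K (K ⊗[R] A) p (algebraMap R K u) (chiK p R χ K) i =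
      (OortTate.proj R A p u χ i).baseChange K := by
  apply TensorProduct.AlgebraTensorModule.ext
  intro c a
  rw [LinearMap.baseChange_tmul, OTb.proj_apply, OTb.proj_apply, tmul_smul_R,
    Finset.smul_sum]
  have : ∀ m : (ZMod p)ˣ, (algebraMap R K u * c) ⊗ₜ[R]
      ((((χ m⁻¹ : Rˣ) : R) ^ i) • SGA3b.powConv R A (m : ZMod p).val a) =
      algebraMap R K u • ((((chiK p R χ K m⁻¹ : Kˣ) : K) ^ i) •
        SGA3b.powConv K (K ⊗[R] A) (m : ZMod p).val (c ⊗ₜ[R] a)) := by
    intro m
    rw [powConv_tmul, chiK_apply, ← map_pow, tmul_smul_R, smul_tmul_K, smul_tmul_K]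
    congr 1
    ring
  rw [TensorProduct.tmul_sum, Finset.sum_congr rfl (fun m _ => this m)]

theorem aug_baseChange : aug K (K ⊗[R] A) = (aug R A).baseChange K := by
  apply TensorProduct.AlgebraTensorModule.ext
  intro c a
  rw [LinearMap.baseChange_tmul, aug_apply, aug_apply, counit_tmul', TensorProduct.tmul_sub,
    Algebra.TensorProduct.algebraMap_apply, Algebra.algebraMap_self, RingHom.id_apply,
    Algebra.algebraMap_eq_smul_one (A := A), TensorProduct.tmul_smul, TensorProduct.smul_tmul',
    Algebra.smul_def, mul_comm]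

theorem pi0_baseChange (i : ℕ) :
    pi0 p K (algebraMap R K u) (chiK p R χ K) (K ⊗[R] A) i = (pi0 p R u χ A i).baseChange K := by
  unfold pi0
  rw [proj_baseChange, aug_baseChange, LinearMap.baseChange_comp]

theorem tmul_mem_eigenAug (i : ℕ) (c : K) {f : A} (hf : f ∈ OortTate.eigenAug R A p χ i) :
    c ⊗ₜ[R] f ∈ OortTate.eigenAug K (K ⊗[R] A) p (chiK p R χ K) i := by
  rw [OTb.mem_eigenAug] at hf ⊢
  obtain ⟨h1, h2⟩ := hf
  constructor
  · rw [counit_tmul', h1, map_zero, mul_zero]
  · intro m
    rw [powConv_tmul, h2 m, chiK_apply, ← map_pow, tmul_smul_R, smul_tmul_K]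

variable (hu : u * ((p - 1 : ℕ) : R) = 1)
variable (hp : (WithConv.toConv (AlgHom.id R A)) ^ p = 1)

include hu in
lemma huK : algebraMap R K u * ((p - 1 : ℕ) : K) = 1 := by
  rw [← map_natCast (algebraMap R K), ← map_mul, hu, map_one]

include hu hp in
/-- the eigenspace of the base change is the image of the base change of the eigenspace -/
theorem range_baseChange (i : ℕ) :
    LinearMap.range ((OortTate.eigenAug R A p χ i).subtype.baseChange K) =
      OortTate.eigenAug K (K ⊗[R] A) p (chiK p R χ K) i := by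
  apply le_antisymm
  · rintro _ ⟨z, rfl⟩
    induction z using TensorProduct.induction_on with
    | zero => simp
    | tmul c f =>
      rw [LinearMap.baseChange_tmul]
      exact tmul_mem_eigenAug p R χ A K i c f.2
    | add x y hx hy =>
      rw [map_add]
      exact Submodule.add_mem _ hx hy
  · intro z hz
    have h1 := pi0_of_mem p K (algebraMap R K u) (chiK p R χ K) (K ⊗[R] A) (huK p R u K hu) i hz
    rw [pi0_baseChange, ← subtype_comp_pi0' p R u χ A hp i, LinearMap.baseChange_comp] at h1
    exact ⟨_, h1⟩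

include hu hp in
theorem baseChange_subtype_injective (i : ℕ) :
    Function.Injective ((OortTate.eigenAug R A p χ i).subtype.baseChange K) := by
  have h := pi0'_comp_subtype p R u χ A hu hp i
  have h2 : ((pi0' p R u χ A hp i).baseChange K) ∘ₗ
      ((OortTate.eigenAug R A p χ i).subtype.baseChange K) = LinearMap.id := by
    rw [← LinearMap.baseChange_comp, h, LinearMap.baseChange_id]
  intro x y hxy
  have := congrArg ((pi0' p R u χ A hp i).baseChange K) hxy
  rw [← LinearMap.comp_apply, ← LinearMap.comp_apply, h2] at this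
  exact this

include hu hp in
/-- base change of the eigenspace -/
noncomputable def eigenEquiv (i : ℕ) :
    (K ⊗[R] OortTate.eigenAug R A p χ i) ≃ₗ[K]
      OortTate.eigenAug K (K ⊗[R] A) p (chiK p R χ K) i :=
  (LinearEquiv.ofInjective _ (baseChange_subtype_injective p R u χ A K hu hp i)).trans
    (LinearEquiv.ofEq _ _ (range_baseChange p R u χ A K hu hp i))

end BC

end Groth.Agent.Helper7.OTf
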