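import Mathlib
import Groth.Agent.Helper7.OTf
import Groth.Agent.Helper7.FGK17

set_option autoImplicit false
universe u

namespace Groth.Agent.Helper7.OTg

open TensorProduct WithConv Groth.Agent.Helper7

section BCspan

variable (R : Type u) [CommRing R] (A : Type u) [CommRing A] [Algebra R A]
  (K : Type u) [CommRing K] [Algebra R K]

/-- the `K`-span of the image of a submodule in the base change -/
def bc (N : Submodule R A) : Submodule K (K ⊗[R] A) :=
  Submodule.span K ((fun a : A => (1 : K) ⊗ₜ[R] a) '' (N : Set A))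

theorem range_baseChange_subtype (N : Submodule R A) :
    LinearMap.range (N.subtype.baseChange K) = bc R A K N := by
  apply le_antisymm
  · rintro _ ⟨z, rfl⟩
    induction z using TensorProduct.induction_on with
    | zero => simp
    | tmul c f =>
      rw [LinearMap.baseChange_tmul]
      have : c ⊗ₜ[R] (N.subtype f) = c • ((1 : K) ⊗ₜ[R] (f : A)) := by
        rw [TensorProduct.smul_tmul', smul_eq_mul, mul_one]
        rfl
      rw [this]
      exact Submodule.smul_mem _ _ (Submodule.subset_span ⟨f, f.2, rfl⟩)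
    | add x y hx hy =>
      rw [map_add]
      exact Submodule.add_mem _ hx hy
  · unfold bc
    rw [Submodule.span_le]
    rintro _ ⟨a, ha, rfl⟩
    exact ⟨(1 : K) ⊗ₜ[R] (⟨a, ha⟩ : N), by rw [LinearMap.baseChange_tmul]; rfl⟩

theorem bc_mul_le (N₁ N₂ : Submodule R A) : bc R A K N₁ * bc R A K N₂ ≤ bc R A K (N₁ * N₂) := by
  unfold bc
  rw [Submodule.span_mul_span, Submodule.span_le]
  rintro _ ⟨_, ⟨a, ha, rfl⟩, _, ⟨b, hb, rfl⟩, rfl⟩
  refine Submodule.subset_span ⟨a * b, Submodule.mul_mem_mul ha hb, ?_⟩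
  change (1 : K) ⊗ₜ[R] (a * b) = (1 ⊗ₜ[R] a) * (1 ⊗ₜ[R] b)
  rw [Algebra.TensorProduct.tmul_mul_tmul, one_mul]

theorem bc_pow_le (N : Submodule R A) (t : ℕ) (ht : 1 ≤ t) : bc R A K N ^ t ≤ bc R A K (N ^ t) := by
  induction t with
  | zero => omega
  | succ t ih =>
    by_cases h0 : t = 0
    · subst h0
      rw [zero_add, pow_one, pow_one]
    · rw [pow_succ, pow_succ]
      exact le_trans (mul_le_mul' (ih (by omega)) le_rfl) (bc_mul_le R A K _ _)

end BCspan

section Geom

variable (p : ℕ) [Fact p.Prime] (R : Type u) [CommRing R] (u : R)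
  (χ : (ZMod p)ˣ →* Rˣ) (A : Type u) [CommRing A] [HopfAlgebra R A]
  [Module.Finite R A] [Module.Projective R A]
  (hu : u * ((p - 1 : ℕ) : R) = 1)
  (hχ : ∀ m : (ZMod p)ˣ, m ≠ 1 → IsUnit ((χ m : R) - 1))
  (hχp : ∀ m : (ZMod p)ˣ, ((χ m : Rˣ) : R) - (((m : ZMod p).val : ℕ) : R) ∈
    Ideal.span ({(p : R)} : Set R))
  (hrk : ∀ q : PrimeSpectrum R, Module.rankAtStalk A q = p)

lemma comap_bot (q : PrimeSpectrum R) :
    PrimeSpectrum.comap (algebraMap R (AlgebraicClosure q.asIdeal.ResidueField))
      (⟨⊥, Ideal.isPrime_bot⟩ : PrimeSpectrum (AlgebraicClosure q.asIdeal.ResidueField)) = q := by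
  ext x
  change algebraMap R (AlgebraicClosure q.asIdeal.ResidueField) x ∈ (⊥ : Ideal _) ↔ _
  rw [Ideal.mem_bot, IsScalarTower.algebraMap_apply R q.asIdeal.ResidueField,
    map_eq_zero_iff _ (algebraMap q.asIdeal.ResidueField
      (AlgebraicClosure q.asIdeal.ResidueField)).injective,
    Ideal.algebraMap_residueField_eq_zero]

include hu hχ hχp hrk in
/-- the field case at a geometric point -/
theorem geom_point (q : PrimeSpectrum R) (hp : (WithConv.toConv (AlgHom.id R A)) ^ p = 1) :
    (∀ i : ℕ, Module.finrank (AlgebraicClosure q.asIdeal.ResidueField)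
      (OortTate.eigenAug (AlgebraicClosure q.asIdeal.ResidueField)
        (AlgebraicClosure q.asIdeal.ResidueField ⊗[R] A) p
        (OTf.chiK p R χ (AlgebraicClosure q.asIdeal.ResidueField)) i) = 1) ∧
      ∀ t : ℕ, 1 ≤ t → t ≤ p - 1 →
        (OortTate.eigenAug (AlgebraicClosure q.asIdeal.ResidueField)
          (AlgebraicClosure q.asIdeal.ResidueField ⊗[R] A) p
          (OTf.chiK p R χ (AlgebraicClosure q.asIdeal.ResidueField)) 1) ^ t =
        OortTate.eigenAug (AlgebraicClosure q.asIdeal.ResidueField)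
          (AlgebraicClosure q.asIdeal.ResidueField ⊗[R] A) p
          (OTf.chiK p R χ (AlgebraicClosure q.asIdeal.ResidueField)) t := by
  set K := AlgebraicClosure q.asIdeal.ResidueField with hK
  have hB : Module.finrank K (K ⊗[R] A) = p := by
    have h1 := Module.rankAtStalk_baseChange (R := R) (M := A) (S := K) ⟨⊥, Ideal.isPrime_bot⟩
    rw [comap_bot R q, hrk q] at h1
    rw [← h1]
    exact (congrFun (Module.rankAtStalk_eq_finrank_of_free (R := K) (M := K ⊗[R] A)) _).symm
  refine OTe.field_main p K (algebraMap R K u) (OTf.chiK p R χ K) (K ⊗[R] A)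
    (OTf.huK p R u K hu) ?_ hB (OTf.hpK p R A K hp) ?_
  · intro m hm
    rw [OTf.chiK_apply]
    have := (hχ m hm).map (algebraMap R K)
    rwa [map_sub, map_one] at this
  · intro m
    rw [OTf.chiK_apply]
    have h := hχp m
    rw [Ideal.mem_span_singleton] at h ⊢
    obtain ⟨c, hc⟩ := h
    refine ⟨algebraMap R K c, ?_⟩
    rw [← map_natCast (algebraMap R K), ← map_natCast (algebraMap R K) p, ← map_sub, hc, map_mul]

include hu hχ hχp hrk in
theorem rank_eigenAug (hp : (WithConv.toConv (AlgHom.id R A)) ^ p = 1) (i : ℕ)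
    (q : PrimeSpectrum R) :
    haveI := OTf.finite_eigenAug p R u χ A hu hp i
    haveI := OTf.projective_eigenAug p R u χ A hu hp i
    Module.rankAtStalk (↥(OortTate.eigenAug R A p χ i)) q = 1 := by
  haveI := OTf.finite_eigenAug p R u χ A hu hp i
  haveI := OTf.projective_eigenAug p R u χ A hu hp i
  set K := AlgebraicClosure q.asIdeal.ResidueField with hK
  have h1 := Module.rankAtStalk_baseChange (R := R) (M := ↥(OortTate.eigenAug R A p χ i)) (S := K)
    ⟨⊥, Ideal.isPrime_bot⟩
  rw [comap_bot R q] at h1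
  change Module.rankAtStalk (↥(OortTate.eigenAug R A p χ i)) q = 1
  rw [← h1]
  have h2 := congrFun (Module.rankAtStalk_eq_finrank_of_free (R := K)
    (M := K ⊗[R] ↥(OortTate.eigenAug R A p χ i))) ⟨⊥, Ideal.isPrime_bot⟩
  rw [h2]
  have h3 := (OTf.eigenEquiv p R u χ A K hu hp i).finrank_eq
  have h4 := (geom_point p R u χ A hu hχ hχp hrk q hp).1 i
  change Module.finrank K (K ⊗[R] ↥(OortTate.eigenAug R A p χ i)) = 1
  rw [h3]
  exact h4

omit [Module.Finite R A] [Module.Projective R A] in
theorem pow_le (t : ℕ) (ht : 1 ≤ t) :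
    (OortTate.eigenAug R A p χ 1) ^ t ≤ OortTate.eigenAug R A p χ t := by
  induction t with
  | zero => omega
  | succ t ih =>
    by_cases h0 : t = 0
    · subst h0
      rw [zero_add, pow_one]
    · rw [pow_succ, Submodule.mul_le]
      intro a ha b hb
      exact OTe.mul_mem_eigenAug p R χ A t 1 (ih (by omega) ha) hb

include hu hχ hχp hrk in
theorem le_pow (hp : (WithConv.toConv (AlgHom.id R A)) ^ p = 1) (t : ℕ) (ht1 : 1 ≤ t)
    (ht : t ≤ p - 1) :
    OortTate.eigenAug R A p χ t ≤ (OortTate.eigenAug R A p χ 1) ^ t := by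
  haveI := OTf.finite_eigenAug p R u χ A hu hp t
  have hNM := pow_le p R χ A t ht1
  set M := OortTate.eigenAug R A p χ t with hM
  set N := (OortTate.eigenAug R A p χ 1) ^ t with hN
  let j' : ↥N →ₗ[R] ↥M := Submodule.inclusion hNM
  have hsub : Subsingleton (↥M ⧸ LinearMap.range j') := by
    by_contra hns
    rw [not_subsingleton_iff_nontrivial] at hns
    obtain ⟨q, hq⟩ := Module.nonempty_support_of_nontrivial (R := R) (M := ↥M ⧸ LinearMap.range j')
    have hnt := (Module.mem_support_iff_nontrivial_residueField_tensorProduct q).mp hq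
    set K := AlgebraicClosure q.asIdeal.ResidueField with hK
    haveI := Module.FaithfullyFlat.lTensor_nontrivial q.asIdeal.ResidueField K
      (q.asIdeal.ResidueField ⊗[R] (↥M ⧸ LinearMap.range j'))
    have e := TensorProduct.AlgebraTensorModule.cancelBaseChange R q.asIdeal.ResidueField K K
      (↥M ⧸ LinearMap.range j')
    haveI hntK : Nontrivial (K ⊗[R] (↥M ⧸ LinearMap.range j')) := e.symm.toEquiv.nontrivial
    obtain ⟨z, hz⟩ := exists_ne (0 : K ⊗[R] (↥M ⧸ LinearMap.range j'))
    apply hz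
    have hsurj : Function.Surjective ((LinearMap.range j').mkQ.baseChange K) := by
      rw [LinearMap.baseChange_eq_ltensor]
      exact LinearMap.lTensor_surjective K (Submodule.mkQ_surjective _)
    obtain ⟨z', rfl⟩ := hsurj z
    -- z' comes from N
    have hinj := OTf.baseChange_subtype_injective p R u χ A K hu hp t
    have hmem : (M.subtype.baseChange K) z' ∈ LinearMap.range (N.subtype.baseChange K) := by
      have h1 : (M.subtype.baseChange K) z' ∈ LinearMap.range (M.subtype.baseChange K) := ⟨z', rfl⟩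
      rw [OTf.range_baseChange p R u χ A K hu hp t,
        ← (geom_point p R u χ A hu hχ hχp hrk q hp).2 t ht1 ht,
        ← OTf.range_baseChange p R u χ A K hu hp 1, range_baseChange_subtype] at h1
      rw [range_baseChange_subtype]
      exact bc_pow_le R A K _ t ht1 h1
    obtain ⟨w, hw⟩ := hmem
    have hcomp : N.subtype = M.subtype ∘ₗ j' := rfl
    rw [hcomp, LinearMap.baseChange_comp, LinearMap.comp_apply] at hw
    have hzw : j'.baseChange K w = z' := hinj hw
    rw [← hzw, ← LinearMap.comp_apply, ← LinearMap.baseChange_comp, LinearMap.range_mkQ_comp,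
      LinearMap.baseChange_zero, LinearMap.zero_apply]
  intro y hy
  have h0 : (LinearMap.range j').mkQ ⟨y, hy⟩ = 0 := Subsingleton.elim _ _
  rw [Submodule.mkQ_apply, Submodule.Quotient.mk_eq_zero] at h0
  obtain ⟨n, hn⟩ := h0
  have : (n : A) = y := congrArg Subtype.val hn
  rw [← this]
  exact n.2

include hu hχ hχp hrk in
/-- **S18469** -/
theorem main :
    (∀ i : ℕ, Module.Finite R (OortTate.eigenAug R A p χ i) ∧
        Module.Projective R (OortTate.eigenAug R A p χ i) ∧
        ∀ q : PrimeSpectrum R, Module.rankAtStalk (↥(OortTate.eigenAug R A p χ i)) q = 1) ∧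
      ∀ t : ℕ, 1 ≤ t → t ≤ p - 1 →
        (OortTate.eigenAug R A p χ 1) ^ t = OortTate.eigenAug R A p χ t := by
  haveI : Coalgebra.IsCocomm R A := FGK.isCocomm_of_rankAtStalk_eq_prime p hrk
  have hp : (WithConv.toConv (AlgHom.id R A)) ^ p = 1 := Deligne.pow_rank_eq_one p hrk
  refine ⟨fun i => ⟨OTf.finite_eigenAug p R u χ A hu hp i, OTf.projective_eigenAug p R u χ A hu hp i,
    fun q => rank_eigenAug p R u χ A hu hχ hχp hrk hp i q⟩, fun t ht1 ht => ?_⟩
  exact le_antisymm (pow_le p R χ A t ht1) (le_pow p R u χ A hu hχ hχp hrk hp t ht1 ht)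

end Geom

end Groth.Agent.Helper7.OTg
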