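import Mathlib
import Groth.Agent.Helper7.OTg
import Groth.Agent.Helper7.OTc
import Groth.Agent.Helper7.OGa
import Groth.Agent.Helper7.ExtTopA

set_option autoImplicit false
universe u

namespace Groth.Agent.Helper7.OTh

open TensorProduct WithConv Groth.Agent.Helper7

section Inv

theorem invertible_of_rank_one (R : Type u) [CommRing R] (M : Type u) [AddCommGroup M] [Module R M]
    [Module.Finite R M] [Module.Projective R M]
    (h : ∀ q : PrimeSpectrum R, Module.rankAtStalk M q = 1) : Module.Invertible R M := by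
  obtain ⟨s, hs, hb⟩ := ExtTop.exists_cover R M 1 h
  refine Groth.Agent.Helper6.InvLoc.main R M s hs (fun f hf => ?_)
  obtain ⟨b⟩ := hb f hf
  exact ⟨b.equivFun ≪≫ₗ LinearEquiv.funUnique _ _ _⟩

end Inv

section Theta

variable (R : Type u) [CommRing R] (A : Type u) [CommRing A] [HopfAlgebra R A]

instance instRightDistribClassTensor : RightDistribClass (A ⊗[R] CartDual.D R A) := by
  let _ : Semiring (A ⊗[R] CartDual.D R A) := inferInstance
  infer_instance

instance instLeftDistribClassTensor : LeftDistribClass (A ⊗[R] CartDual.D R A) := by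
  let _ : Semiring (A ⊗[R] CartDual.D R A) := inferInstance
  infer_instance

noncomputable instance instMulZeroClassTensor : MulZeroClass (A ⊗[R] CartDual.D R A) := by
  let _ : Semiring (A ⊗[R] CartDual.D R A) := inferInstance
  infer_instance

/-- the comparison map `A ⊗ A^D → End A` -/
noncomputable def Theta : A ⊗[R] CartDual.D R A →ₗ[R] (A →ₗ[R] A) :=
  (dualTensorHom R A A) ∘ₗ
    (TensorProduct.congr (CartDual.toDual R A) (LinearEquiv.refl R A)).toLinearMap ∘ₗ
    (TensorProduct.comm R A (CartDual.D R A)).toLinearMap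

lemma Theta_tmul (b : A) (ξ : CartDual.D R A) (a : A) :
    Theta R A (b ⊗ₜ[R] ξ) a = ξ a • b := by
  simp [Theta, CartDual.coe_apply]

theorem Theta_bijective [Module.Finite R A] [Module.Projective R A] :
    Function.Bijective (Theta R A) := by
  unfold Theta
  rw [LinearMap.coe_comp, LinearMap.coe_comp]
  exact (dualTensorHom_bijective (R := R) (M := A) (N := A)).comp
    ((LinearEquiv.bijective _).comp (LinearEquiv.bijective _))

lemma Theta_eq_rid (z : A ⊗[R] CartDual.D R A) (a : A) :
    TensorProduct.rid R A (LinearMap.lTensor A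
      ((Module.Dual.eval R A a) ∘ₗ (CartDual.toDual R A).toLinearMap) z) = Theta R A z a := by
  induction z using TensorProduct.induction_on with
  | zero => simp
  | tmul b ξ =>
    rw [Theta_tmul]
    simp [CartDual.coe_apply]
  | add x y hx hy => simp only [map_add, hx, hy, LinearMap.add_apply]

theorem Theta_one : toConv (Theta R A 1) = (1 : WithConv (A →ₗ[R] A)) := by
  apply WithConv.ofConv_injective
  apply LinearMap.ext
  intro a
  rw [Algebra.TensorProduct.one_def]
  change Theta R A (1 ⊗ₜ[R] 1) a = _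
  rw [Theta_tmul]
  simp [CartDual.coe_apply, Algebra.algebraMap_eq_smul_one]

theorem Theta_mul (z w : A ⊗[R] CartDual.D R A) :
    toConv (Theta R A (z * w)) = toConv (Theta R A z) * toConv (Theta R A w) := by
  induction z using TensorProduct.induction_on with
  | zero => rw [zero_mul, map_zero, WithConv.toConv_zero, zero_mul]
  | add x y hx hy => rw [add_mul, map_add, map_add, WithConv.toConv_add, WithConv.toConv_add, add_mul, hx, hy]
  | tmul b ξ =>
    induction w using TensorProduct.induction_on with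
    | zero => rw [mul_zero, map_zero, WithConv.toConv_zero, mul_zero]
    | add x y hx hy => rw [mul_add, map_add, map_add, WithConv.toConv_add, WithConv.toConv_add, mul_add, hx, hy]
    | tmul b' ξ' =>
      apply WithConv.ofConv_injective
      apply LinearMap.ext
      intro a
      rw [Algebra.TensorProduct.tmul_mul_tmul]
      change Theta R A ((b * b') ⊗ₜ[R] (ξ * ξ')) a =
        (toConv (Theta R A (b ⊗ₜ[R] ξ)) * toConv (Theta R A (b' ⊗ₜ[R] ξ'))).ofConv a
      rw [Theta_tmul, LinearMap.convMul_apply, CartDual.coe_apply, LinearMap.convMul_apply]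
      simp only [WithConv.ofConv_toConv]
      generalize Coalgebra.comul (R := R) a = t
      induction t using TensorProduct.induction_on with
      | zero => simp
      | tmul x y =>
        simp only [TensorProduct.map_tmul, LinearMap.mul'_apply, Theta_tmul, CartDual.coe_apply]
        rw [smul_mul_smul_comm]
      | add x y hx hy => simp only [map_add, add_smul, hx, hy]

/-- `Θ` as a monoid hom into the convolution monoid -/
noncomputable def ThetaM : A ⊗[R] CartDual.D R A →* WithConv (A →ₗ[R] A) where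
  toFun z := toConv (Theta R A z)
  map_one' := Theta_one R A
  map_mul' := Theta_mul R A

lemma ThetaM_apply (z : A ⊗[R] CartDual.D R A) : (ThetaM R A z).ofConv = Theta R A z := rfl

end Theta

section Main

variable (p : ℕ) [Fact p.Prime] (R : Type u) [CommRing R] (u : R)
  (χ : (ZMod p)ˣ →* Rˣ) (A : Type u) [CommRing A] [HopfAlgebra R A]
  (δ : A ⊗[R] CartDual.D R A)
  (hδ : ∀ a : A, TensorProduct.rid R A
    (LinearMap.lTensor A ((Module.Dual.eval R A a) ∘ₗ (CartDual.toDual R A).toLinearMap) δ) = a)
  (ϕ : MonoidAlgebra R (Multiplicative (ZMod p)) →ₐ[R] A ⊗[R] CartDual.D R A)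
  (hϕ : ϕ (OortTate.muT R p) = δ)

include hδ in
theorem Theta_delta : Theta R A δ = LinearMap.id := by
  apply LinearMap.ext
  intro a
  rw [← Theta_eq_rid, hδ a]
  rfl

include hδ in
theorem Theta_pow (n : ℕ) : Theta R A (δ ^ n) = (SGA3b.powConv R A n).toLinearMap := by
  rw [OTf.powConv_lin, ← ThetaM_apply, map_pow]
  have : ThetaM R A δ = toConv (LinearMap.id : A →ₗ[R] A) := by
    apply WithConv.ofConv_injective
    exact Theta_delta R A δ hδ
  rw [this]

include hδ hϕ in
theorem Theta_phi_ygen :
    Theta R A (ϕ (OortTate.ygen R p u χ 1)) = OTf.pi0 p R u χ A 1 := by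
  have ht : ∀ m : (ZMod p)ˣ, ϕ (OGa.t p R (m : ZMod p)) = δ ^ (m : ZMod p).val := by
    intro m
    have h1 := ϕ.toRingHom.map_pow (OortTate.muT R p) (m : ZMod p).val
    change ϕ (OortTate.muT R p ^ (m : ZMod p).val) = ϕ (OortTate.muT R p) ^ (m : ZMod p).val at h1
    rw [← hϕ, ← h1, OGa.muT_eq, OGa.t_pow, mul_one, ZMod.natCast_zmod_val]
  apply LinearMap.ext
  intro a
  rw [OGa.ygen_eq, map_smul, map_sum, map_smul, map_sum, LinearMap.smul_apply, LinearMap.sum_apply]
  change _ = OortTate.proj R A p u χ 1 (OTf.aug R A a)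
  rw [OTb.proj_apply]
  congr 1
  refine Finset.sum_congr rfl fun m _ => ?_
  have h1 : ϕ 1 = 1 := ϕ.toRingHom.map_one
  rw [map_smul, map_smul, LinearMap.smul_apply, map_sub, map_sub, ht m, h1,
    LinearMap.sub_apply, Theta_pow R A δ hδ]
  congr 1
  rw [OTf.aug_apply, map_sub, AlgHom.commutes]
  congr 1
  have := congrArg (fun F : WithConv (A →ₗ[R] A) => F.ofConv a) (Theta_one R A)
  exact this

variable [Coalgebra.IsCocomm R A] [Module.Finite R A] [Module.Projective R A]
  (hu : u * ((p - 1 : ℕ) : R) = 1)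
  (hχ : ∀ m : (ZMod p)ˣ, m ≠ 1 → IsUnit ((χ m : R) - 1))
  (hχp : ∀ m : (ZMod p)ˣ, ((χ m : Rˣ) : R) - (((m : ZMod p).val : ℕ) : R) ∈
    Ideal.span ({(p : R)} : Set R))
  (hrk : ∀ q : PrimeSpectrum R, Module.rankAtStalk A q = p)

include hu in
/-- forms in the dual eigenspace see only the `I_1`-component -/
theorem form_pi0 (ξ : CartDual.D R A) (hξ : ξ ∈ OortTate.eigenAug R (CartDual.D R A) p χ 1) (a : A) :
    ξ (OTf.pi0 p R u χ A 1 a) = ξ a := by
  change ξ (OortTate.proj R A p u χ 1 (OTf.aug R A a)) = ξ a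
  rw [OTc.form_proj p R u χ A hu 1 ξ hξ, OTf.aug_apply, CartDual.coe_apply, map_sub,
    Algebra.algebraMap_eq_smul_one, map_smul]
  have h0 := ((OTb.mem_eigenAug p R χ (CartDual.D R A) 1 ξ).mp hξ).1
  rw [CartDual.coalgebra_counit_apply, CartDual.coe_apply] at h0
  rw [h0, smul_zero, sub_zero]

include hδ hϕ hu hχ hχp hrk in
/-- **S18477** -/
theorem main :
    Submodule.span R {ϕ (OortTate.ygen R p u χ 1)} =
        LinearMap.range (TensorProduct.map (OortTate.eigenAug R A p χ 1).subtype
          (OortTate.eigenAug R (CartDual.D R A) p χ 1).subtype) ∧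
      ∀ r : R, r • ϕ (OortTate.ygen R p u χ 1) = 0 → r = 0 := by
  classical
  have hp : (WithConv.toConv (AlgHom.id R A)) ^ p = 1 := Deligne.pow_rank_eq_one p hrk
  obtain ⟨hS, -⟩ := OTg.main p R u χ A hu hχ hχp hrk
  obtain ⟨hfin, hproj, hrank⟩ := hS 1
  haveI := hfin
  haveI := hproj
  haveI hinv : Module.Invertible R (OortTate.eigenAug R A p χ 1) :=
    invertible_of_rank_one R _ hrank
  have hΘy := Theta_phi_ygen p R u χ A δ hδ ϕ hϕ
  have hinj := (Theta_bijective R A).1
  set I := OortTate.eigenAug R A p χ 1 with hI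
  set I' := OortTate.eigenAug R (CartDual.D R A) p χ 1 with hI'
  set y := ϕ (OortTate.ygen R p u χ 1) with hy
  set π := OTf.pi0 p R u χ A 1 with hπ
  have hπmem : ∀ a, π a ∈ I := OTf.pi0_mem p R u χ A hp 1
  have hπfix : ∀ b ∈ I, π b = b := fun b hb => OTf.pi0_of_mem p R u χ A hu 1 hb
  refine ⟨le_antisymm ?_ ?_, ?_⟩
  · -- y lies in the image
    rw [Submodule.span_le, Set.singleton_subset_iff]
    obtain ⟨n, f, g, -, -, hfg⟩ := Module.Finite.exists_comp_eq_id_of_projective R ↥I
    have hsurj := (OTc.main p R u χ A hu hp 1).2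
    choose ξ hξ using fun k : Fin n => hsurj ((LinearMap.proj k) ∘ₗ g)
    refine ⟨∑ k : Fin n, (f (Pi.single k 1)) ⊗ₜ[R] ξ k, ?_⟩
    apply hinj
    rw [hΘy]
    apply LinearMap.ext
    intro a
    rw [map_sum, map_sum, LinearMap.sum_apply]
    have hk : ∀ k : Fin n, Theta R A ((TensorProduct.map I.subtype I'.subtype)
        ((f (Pi.single k 1)) ⊗ₜ[R] ξ k)) a = (g ⟨π a, hπmem a⟩ k) • ((f (Pi.single k 1) : I) : A) := by
      intro k
      rw [TensorProduct.map_tmul, Theta_tmul]
      congr 1
      change (ξ k : CartDual.D R A) a = _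
      rw [← form_pi0 p R u χ A hu (ξ k : CartDual.D R A) (ξ k).2 a]
      have := LinearMap.congr_fun (hξ k) ⟨π a, hπmem a⟩
      exact this
    rw [Finset.sum_congr rfl (fun k _ => hk k)]
    set w : ↥I := ⟨π a, hπmem a⟩ with hw
    have h1 : f (g w) = w := LinearMap.congr_fun hfg w
    have h2 : g w = ∑ k : Fin n, (g w k) • (Pi.single k (1 : R) : Fin n → R) := by
      funext j
      simp [Finset.sum_apply, Pi.single_apply]
    have h4 : ∑ k : Fin n, (g w k) • f (Pi.single k (1 : R)) = w := by
      conv_rhs => rw [← h1, h2, map_sum]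
      refine Finset.sum_congr rfl fun k _ => ?_
      rw [map_smul]
    have h5 := congrArg (fun x : ↥I => (x : A)) h4
    simp only [AddSubmonoidClass.coe_finsetSum] at h5
    exact h5
  · -- the image is contained in the span
    rintro _ ⟨z, rfl⟩
    induction z using TensorProduct.induction_on with
    | zero => simp
    | add x y hx hy =>
      rw [map_add]
      exact Submodule.add_mem _ hx hy
    | tmul b ξ =>
      rw [TensorProduct.map_tmul]
      -- the endomorphism x ↦ ξ x • b of I
      let g : ↥I →ₗ[R] ↥I :=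
        ((CartDual.toDual R A (ξ : CartDual.D R A)).comp I.subtype).smulRight b
      obtain ⟨r, hr⟩ := (Module.Invertible.toModuleEnd_bijective R ↥I).2 g
      rw [Submodule.mem_span_singleton]
      refine ⟨r, ?_⟩
      apply hinj
      rw [map_smul, hΘy]
      apply LinearMap.ext
      intro a
      rw [LinearMap.smul_apply, Theta_tmul]
      have h1 := LinearMap.congr_fun hr ⟨π a, hπmem a⟩
      have h2 : ((g ⟨π a, hπmem a⟩ : I) : A) = (ξ : CartDual.D R A) (π a) • (b : A) := rfl
      have h3 : (((Module.toModuleEnd R (S := R) ↥I r) ⟨π a, hπmem a⟩ : I) : A) = r • π a := rfl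
      have h4 := congrArg (fun x : I => (x : A)) h1
      simp only [h2, h3] at h4
      rw [form_pi0 p R u χ A hu (ξ : CartDual.D R A) ξ.2 a] at h4
      rw [h4]
      rfl
  · intro r hr
    have h1 := congrArg (Theta R A) hr
    rw [map_smul, map_zero, hΘy] at h1
    have h2 : ∀ x : ↥I, r • x = (0 : R) • x := by
      intro x
      apply Subtype.ext
      have := LinearMap.congr_fun h1 (x : A)
      rw [LinearMap.smul_apply, hπfix _ x.2] at this
      rw [zero_smul]
      exact this
    exact FaithfulSMul.eq_of_smul_eq_smul h2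

end Main


end Groth.Agent.Helper7.OTh
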