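import Mathlib

set_option autoImplicit false
universe u

namespace Groth.Agent.Helper7.OTi

open TensorProduct

section Inv

variable (R : Type u) [CommRing R] (M : Type u) [AddCommGroup M] [Module R M]

theorem invertible_tensorPower [Module.Invertible R M] (n : ℕ) :
    Module.Invertible R (⨂[R]^n M) := by
  induction n with
  | zero => exact Module.Invertible.congr (TensorPower.algebraMap₀ (R := R) (M := M))
  | succ n ih =>
    haveI := ih
    let e1 : (⨂[R]^1 M) ≃ₗ[R] M := PiTensorProduct.subsingletonEquiv (0 : Fin 1)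
    exact Module.Invertible.congr
      ((TensorProduct.congr (LinearEquiv.refl R (⨂[R]^n M)) e1.symm).trans TensorPower.mulEquiv)

end Inv

section TA

variable (R : Type u) [CommRing R] (A : Type u) [CommRing A] [Algebra R A] (I : Submodule R A)
  (p : ℕ)

/-- the relations `ι f_1 ⋯ ι f_p - ι g` -/
def rel : Set (TensorAlgebra R I) :=
  {x | ∃ (f : Fin p → I) (g : I), (g : A) = ∏ i, (f i : A) ∧
    x = (List.ofFn fun i => TensorAlgebra.ι R (f i)).prod - TensorAlgebra.ι R g}

/-- the sum of the low-degree pieces -/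
noncomputable def Phi : (Π t : Fin p, ⨂[R]^(t : ℕ) I) →ₗ[R] TensorAlgebra R I :=
  LinearMap.lsum R _ R (fun _ => TensorPower.toTensorAlgebra)

lemma Phi_apply (w : Π t : Fin p, ⨂[R]^(t : ℕ) I) :
    Phi R A I p w = ∑ t : Fin p, TensorPower.toTensorAlgebra (w t) := by
  simp [Phi, LinearMap.lsum_apply]

/-- low-degree part plus the relation ideal -/
noncomputable def Sgood : Submodule R (TensorAlgebra R I) :=
  LinearMap.range (Phi R A I p) ⊔ (Ideal.span (rel R A I p)).restrictScalars R

lemma toTA_mem (t : ℕ) (ht : t < p) (w : ⨂[R]^t I) :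
    TensorPower.toTensorAlgebra w ∈ Sgood R A I p := by
  classical
  refine Submodule.mem_sup_left ⟨Pi.single (⟨t, ht⟩ : Fin p) w, ?_⟩
  rw [Phi_apply, Finset.sum_eq_single (⟨t, ht⟩ : Fin p)]
  · rw [Pi.single_eq_same]
  · intro b _ hb
    rw [Pi.single_eq_of_ne hb, map_zero]
  · intro h
    exact absurd (Finset.mem_univ _) h

variable (hp : 2 ≤ p) (hprod : ∀ f : Fin p → I, ∏ i, (f i : A) ∈ I)

include hp hprod in
lemma top_mem (n : ℕ) (hn : n = p) (w : ⨂[R]^n I) :
    TensorPower.toTensorAlgebra w ∈ Sgood R A I p := by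
  subst hn
  induction w using PiTensorProduct.induction_on with
  | smul_tprod r f =>
    rw [map_smul]
    refine Submodule.smul_mem _ _ ?_
    rw [TensorPower.toTensorAlgebra_tprod, TensorAlgebra.tprod_apply]
    have h1 : (List.ofFn fun i => TensorAlgebra.ι R (f i)).prod =
        ((List.ofFn fun i => TensorAlgebra.ι R (f i)).prod -
          TensorAlgebra.ι R (⟨∏ i, (f i : A), hprod f⟩ : I)) +
        TensorAlgebra.ι R (⟨∏ i, (f i : A), hprod f⟩ : I) := by abel
    rw [h1]
    refine Submodule.add_mem _ (Submodule.mem_sup_right ?_) ?_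
    · exact Ideal.subset_span ⟨f, ⟨∏ i, (f i : A), hprod f⟩, rfl, rfl⟩
    · have h2 : TensorAlgebra.ι R (⟨∏ i, (f i : A), hprod f⟩ : I) =
          TensorPower.toTensorAlgebra (PiTensorProduct.tprod R
            (fun _ : Fin 1 => (⟨∏ i, (f i : A), hprod f⟩ : I))) := by
        rw [TensorPower.toTensorAlgebra_tprod, TensorAlgebra.tprod_apply]
        simp
      rw [h2]
      exact toTA_mem R A I _ 1 (by omega) _
  | add x y hx hy =>
    rw [map_add]
    exact Submodule.add_mem _ hx hy

include hp hprod in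
lemma iota_mul_mem (m : I) (s : TensorAlgebra R I) (hs : s ∈ Sgood R A I p) :
    TensorAlgebra.ι R m * s ∈ Sgood R A I p := by
  obtain ⟨a, ⟨w, rfl⟩, j, hj, rfl⟩ := Submodule.mem_sup.mp hs
  rw [mul_add]
  refine Submodule.add_mem _ ?_ (Submodule.mem_sup_right ?_)
  · rw [Phi_apply, Finset.mul_sum]
    refine Submodule.sum_mem _ fun t _ => ?_
    have h1 : TensorAlgebra.ι R m = TensorPower.toTensorAlgebra (PiTensorProduct.tprod R
        (fun _ : Fin 1 => m)) := by
      rw [TensorPower.toTensorAlgebra_tprod, TensorAlgebra.tprod_apply]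
      simp
    rw [h1, ← TensorPower.toTensorAlgebra_gMul]
    by_cases ht : 1 + (t : ℕ) < p
    · exact toTA_mem R A I p _ ht _
    · exact top_mem R A I p hp hprod _ (by have := t.2; omega) _
  · exact Ideal.mul_mem_left _ _ hj

include hp hprod in
theorem Sgood_eq_top : Sgood R A I p = ⊤ := by
  rw [eq_top_iff]
  intro z _
  have h1 : (1 : TensorAlgebra R I) ∈ Sgood R A I p := by
    have : (1 : TensorAlgebra R I) = TensorPower.toTensorAlgebra
        (@GradedMonoid.GOne.one _ (fun n => ⨂[R]^n I) _ _) := by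
      rw [TensorPower.toTensorAlgebra_gOne]
    rw [this]
    exact toTA_mem R A I p 0 (by omega) _
  have key : ∀ z : TensorAlgebra R I, ∀ s ∈ Sgood R A I p, z * s ∈ Sgood R A I p := by
    intro z
    induction z using TensorAlgebra.induction with
    | algebraMap r =>
      intro s hs
      rw [← Algebra.smul_def]
      exact Submodule.smul_mem _ _ hs
    | ι m => exact fun s hs => iota_mul_mem R A I p hp hprod m s hs
    | mul a b ha hb =>
      intro s hs
      rw [mul_assoc]
      exact ha _ (hb _ hs)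
    | add a b ha hb =>
      intro s hs
      rw [add_mul]
      exact Submodule.add_mem _ (ha _ hs) (hb _ hs)
  have := key z 1 h1
  rwa [mul_one] at this

end TA

section Mu

variable (R : Type u) [CommRing R] (A : Type u) [CommRing A] [Algebra R A] (I : Submodule R A)

/-- multiplication `I^{⊗t} → A` -/
noncomputable def mu (t : ℕ) : ⨂[R]^t I →ₗ[R] A :=
  (TensorAlgebra.lift R I.subtype).toLinearMap ∘ₗ TensorPower.toTensorAlgebra

lemma mu_apply (t : ℕ) (w : ⨂[R]^t I) :
    mu R A I t w = TensorAlgebra.lift R I.subtype (TensorPower.toTensorAlgebra w) := rfl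

lemma mu_tprod (t : ℕ) (f : Fin t → I) :
    mu R A I t (PiTensorProduct.tprod R f) = ∏ i, (f i : A) := by
  rw [mu_apply, TensorPower.toTensorAlgebra_tprod, TensorAlgebra.tprod_apply, map_list_prod,
    List.map_ofFn, List.prod_ofFn]
  refine Finset.prod_congr rfl fun i _ => ?_
  simp

lemma prod_mem_pow (t : ℕ) (f : Fin t → I) : ∏ i, (f i : A) ∈ I ^ t := by
  induction t with
  | zero =>
    simp only [Finset.univ_eq_empty, Finset.prod_empty, pow_zero]
    exact Submodule.one_le.mp le_rfl
  | succ t ih =>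
    rw [Fin.prod_univ_succ, pow_succ']
    exact Submodule.mul_mem_mul (f 0).2 (ih (fun i => f i.succ))

lemma mu_mem_pow (t : ℕ) (w : ⨂[R]^t I) : mu R A I t w ∈ I ^ t := by
  induction w using PiTensorProduct.induction_on with
  | smul_tprod r f =>
    rw [map_smul, mu_tprod]
    exact Submodule.smul_mem _ _ (prod_mem_pow R A I t f)
  | add x y hx hy =>
    rw [map_add]
    exact Submodule.add_mem _ hx hy

lemma pow_le_range_mu (t : ℕ) : I ^ t ≤ LinearMap.range (mu R A I t) := by
  intro x hx
  induction hx using Submodule.pow_induction_on_right' with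
  | algebraMap r =>
    refine ⟨r • @GradedMonoid.GOne.one _ (fun n => ⨂[R]^n I) _ _, ?_⟩
    rw [map_smul, mu_apply, TensorPower.toTensorAlgebra_gOne, map_one, Algebra.algebraMap_eq_smul_one]
  | add x y i hx hy ihx ihy => exact Submodule.add_mem _ ihx ihy
  | mul_mem i x hx ih m hm =>
    obtain ⟨w, rfl⟩ := ih
    have h := TensorPower.toTensorAlgebra_gMul (R := R) (M := I) w
      (PiTensorProduct.tprod R (fun _ : Fin 1 => (⟨m, hm⟩ : I)))
    refine ⟨@GradedMonoid.GMul.mul ℕ (fun n => ⨂[R]^n I) _ TensorPower.gMul i 1 w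
        (PiTensorProduct.tprod R (fun _ : Fin 1 => (⟨m, hm⟩ : I))), ?_⟩
    rw [mu_apply, h, map_mul, ← mu_apply, ← mu_apply, mu_tprod]
    simp

end Mu

end Groth.Agent.Helper7.OTi
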