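import Mathlib
import Groth.Agent.Helper7.OTh
import Groth.Agent.Helper7.OTi
import Groth.Agent.Helper7.OGb

set_option autoImplicit false
universe u

namespace Groth.Agent.Helper7.OTj

open TensorProduct WithConv Groth.Agent.Helper7

section A

variable (p : ℕ) [Fact p.Prime] (R : Type u) [CommRing R] (u : R)
  (χ : (ZMod p)ˣ →* Rˣ) (A : Type u) [CommRing A] [HopfAlgebra R A]
  (hχ : ∀ m : (ZMod p)ˣ, m ≠ 1 → IsUnit ((χ m : R) - 1))

include hχ in
/-- the projector onto `I_s` kills `I_t` for `t ≢ s` -/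
theorem pi0_of_mem_other (s t : ℕ) (hst : ¬ ((p - 1 : ℕ) : ℤ) ∣ (t : ℤ) - (s : ℤ)) {b : A}
    (hb : b ∈ OortTate.eigenAug R A p χ t) : OTf.pi0 p R u χ A s b = 0 := by
  obtain ⟨h0, h1⟩ := (OTb.mem_eigenAug p R χ A t b).mp hb
  change OortTate.proj R A p u χ s (OTf.aug R A b) = 0
  rw [OTf.aug_of_counit R A h0, OTb.proj_apply]
  have : ∀ m : (ZMod p)ˣ, (((χ m⁻¹ : Rˣ) : R) ^ s) • SGA3b.powConv R A (m : ZMod p).val b =
      (OGb.c p R χ ((t : ℤ) - (s : ℤ)) m) • b := by
    intro m
    rw [h1 m, smul_smul, sub_eq_add_neg, OGb.c_add, OGb.c_natCast, OGb.c_neg_natCast, mul_comm]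
  rw [Finset.sum_congr rfl (fun m _ => this m), ← Finset.sum_smul,
    OGb.char_sum_zero χ hχ _ hst, zero_smul, smul_zero]

theorem pi0_algebraMap (s : ℕ) (r : R) : OTf.pi0 p R u χ A s (algebraMap R A r) = 0 := by
  change OortTate.proj R A p u χ s (OTf.aug R A (algebraMap R A r)) = 0
  have : OTf.aug R A (algebraMap R A r) = 0 := by
    rw [OTf.aug_apply]
    have : Coalgebra.counit (R := R) (algebraMap R A r) = r := by
      change Bialgebra.counitAlgHom R A (algebraMap R A r) = r
      rw [AlgHom.commutes]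
      rfl
    rw [this, sub_self]
  rw [this, map_zero]

theorem prod_mem (f : Fin p → OortTate.eigenAug R A p χ 1) :
    ∏ i, (f i : A) ∈ OortTate.eigenAug R A p χ 1 := by
  have hp2 := (Fact.out : p.Prime).two_le
  have h1 := OTg.pow_le p R χ A p (by omega) (OTi.prod_mem_pow R A _ p f)
  rw [OTe.eigenAug_congr p R χ A p 1] at h1
  · exact h1
  · obtain ⟨k, hk⟩ : ∃ k, p = k + 2 := ⟨p - 2, by omega⟩
    have h2 : p - 1 = k + 1 := by omega
    rw [h2, hk, show k + 2 = (k + 1) + 1 by ring, Nat.add_mod_left]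

end A

lemma mu_zero_eq (R : Type u) [CommRing R] (A : Type u) [CommRing A] [Algebra R A]
    (I : Submodule R A) (t : ℕ) (h0 : t = 0) (w : ⨂[R]^t I) :
    ∃ r : R, OTi.mu R A I t w = algebraMap R A r := by
  subst h0
  have hm := OTi.mu_mem_pow R A I 0 w
  rw [pow_zero] at hm
  obtain ⟨r, hr⟩ := Submodule.mem_one.mp hm
  exact ⟨r, hr.symm⟩

section Main

variable (p : ℕ) [Fact p.Prime] (R : Type u) [CommRing R] (u : R)
  (χ : (ZMod p)ˣ →* Rˣ) (A : Type u) [CommRing A] [HopfAlgebra R A]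
  [Module.Finite R A] [Module.Projective R A]
  (hu : u * ((p - 1 : ℕ) : R) = 1)
  (hχ : ∀ m : (ZMod p)ˣ, m ≠ 1 → IsUnit ((χ m : R) - 1))
  (hχp : ∀ m : (ZMod p)ˣ, ((χ m : Rˣ) : R) - (((m : ZMod p).val : ℕ) : R) ∈
    Ideal.span ({(p : R)} : Set R))
  (hrk : ∀ q : PrimeSpectrum R, Module.rankAtStalk A q = p)

include hu hχ hχp hrk in
theorem surj :
    Function.Surjective (TensorAlgebra.lift R (OortTate.eigenAug R A p χ 1).subtype) := by
  have hp2 := (Fact.out : p.Prime).two_le
  haveI : Coalgebra.IsCocomm R A := FGK.isCocomm_of_rankAtStalk_eq_prime p hrk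
  have hp : (WithConv.toConv (AlgHom.id R A)) ^ p = 1 := Deligne.pow_rank_eq_one p hrk
  obtain ⟨-, hpow⟩ := OTg.main p R u χ A hu hχ hχp hrk
  obtain ⟨-, hsup, -⟩ := Groth.Agent.S18468.result p R u hu χ hχ A hp
  set L := TensorAlgebra.lift R (OortTate.eigenAug R A p χ 1).subtype with hL
  -- the range contains every I_t
  have hI1 : OortTate.eigenAug R A p χ 1 ≤ Subalgebra.toSubmodule L.range := by
    intro x hx
    exact ⟨TensorAlgebra.ι R (⟨x, hx⟩ : OortTate.eigenAug R A p χ 1), by simp [hL]⟩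
  have hIt : ∀ t : ℕ, 1 ≤ t → t ≤ p - 1 →
      OortTate.eigenAug R A p χ t ≤ Subalgebra.toSubmodule L.range := by
    intro t ht1 ht
    rw [← hpow t ht1 ht]
    intro x hx
    refine Submodule.pow_induction_on_left (M := OortTate.eigenAug R A p χ 1)
      (C := fun x => x ∈ Subalgebra.toSubmodule L.range) ?_ ?_ ?_ hx
    · exact fun r => Subalgebra.algebraMap_mem _ r
    · exact fun x y hx hy => Subalgebra.add_mem _ hx hy
    · exact fun m hm x hx => Subalgebra.mul_mem _ (hI1 hm) hx
  have hker : LinearMap.ker (Bialgebra.counitAlgHom R A).toLinearMap ≤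
      Subalgebra.toSubmodule L.range := by
    rw [← hsup, iSup_le_iff]
    intro i
    obtain ⟨h1, h2, h3⟩ := OTe.expo_pos p (i : ℕ) i.2
    rw [OTe.eigenAug_congr p R χ A (i : ℕ) (OTe.expo p (i : ℕ)) h3.symm]
    exact hIt _ h1 (by omega)
  intro a
  have h1 : a = algebraMap R A (Coalgebra.counit (R := R) a) + OTf.aug R A a := by
    rw [OTf.aug_apply]; ring
  have h2 : OTf.aug R A a ∈ Subalgebra.toSubmodule L.range :=
    hker (by
      rw [LinearMap.mem_ker]
      exact OTf.counit_aug R A a)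
  have h3 : a ∈ L.range := by
    rw [h1]
    exact Subalgebra.add_mem _ (Subalgebra.algebraMap_mem _ _) h2
  exact h3

include hu hχ hχp hrk in
theorem mu_injective (t : ℕ) (ht : t < p) :
    Function.Injective (OTi.mu R A (OortTate.eigenAug R A p χ 1) t) := by
  have hp2 := (Fact.out : p.Prime).two_le
  obtain ⟨hS, hpow⟩ := OTg.main p R u χ A hu hχ hχp hrk
  set I := OortTate.eigenAug R A p χ 1 with hI
  rcases Nat.eq_zero_or_pos t with h0 | hpos
  · subst h0
    rw [injective_iff_map_eq_zero]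
    intro w hw
    obtain ⟨r, rfl⟩ := (TensorPower.algebraMap₀ (R := R) (M := ↥I)).surjective w
    rw [TensorPower.algebraMap₀_eq_smul_one, map_smul, OTi.mu_apply,
      TensorPower.toTensorAlgebra_gOne, map_one] at hw
    have h1 := congrArg (Coalgebra.counit (R := R)) hw
    rw [map_smul, map_zero, Bialgebra.counit_one, smul_eq_mul, mul_one] at h1
    rw [h1, map_zero]
  · obtain ⟨hfin1, hproj1, hrank1⟩ := hS 1
    obtain ⟨hfint, hprojt, hrankt⟩ := hS t
    haveI := hfin1
    haveI := hproj1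
    haveI := hfint
    haveI := hprojt
    haveI : Module.Invertible R ↥I := OTh.invertible_of_rank_one R _ hrank1
    haveI : Module.Invertible R (⨂[R]^t ↥I) := OTi.invertible_tensorPower R ↥I t
    haveI : Module.Invertible R ↥(OortTate.eigenAug R A p χ t) :=
      OTh.invertible_of_rank_one R _ hrankt
    have hmem : ∀ w, OTi.mu R A I t w ∈ OortTate.eigenAug R A p χ t := by
      intro w
      rw [← hpow t hpos (by omega)]
      exact OTi.mu_mem_pow R A I t w
    let μ' : (⨂[R]^t ↥I) →ₗ[R] ↥(OortTate.eigenAug R A p χ t) :=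
      LinearMap.codRestrict _ (OTi.mu R A I t) hmem
    have hsurj : Function.Surjective μ' := by
      intro y
      have hy : (y : A) ∈ I ^ t := by
        rw [hpow t hpos (by omega)]
        exact y.2
      obtain ⟨w, hw⟩ := OTi.pow_le_range_mu R A I t hy
      exact ⟨w, Subtype.ext hw⟩
    have hbij := Module.Invertible.bijective_of_surjective hsurj
    intro a b hab
    apply hbij.1
    exact Subtype.ext hab

include hu hχ hχp hrk in
theorem ker_eq :
    RingHom.ker (TensorAlgebra.lift R (OortTate.eigenAug R A p χ 1).subtype) =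
      Ideal.span (OTi.rel R A (OortTate.eigenAug R A p χ 1) p) := by
  classical
  have hp2 := (Fact.out : p.Prime).two_le
  haveI : Coalgebra.IsCocomm R A := FGK.isCocomm_of_rankAtStalk_eq_prime p hrk
  have hp : (WithConv.toConv (AlgHom.id R A)) ^ p = 1 := Deligne.pow_rank_eq_one p hrk
  set I := OortTate.eigenAug R A p χ 1 with hI
  set L := TensorAlgebra.lift R I.subtype with hL
  have hle : Ideal.span (OTi.rel R A I p) ≤ RingHom.ker L := by
    rw [Ideal.span_le]
    rintro _ ⟨f, g, hg, rfl⟩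
    rw [SetLike.mem_coe, RingHom.mem_ker, map_sub, map_list_prod, List.map_ofFn, List.prod_ofFn]
    simp only [Function.comp_apply, hL, TensorAlgebra.lift_ι_apply, Submodule.subtype_apply]
    rw [hg, sub_self]
  apply le_antisymm _ hle
  intro z hz
  rw [RingHom.mem_ker] at hz
  have hz' : z ∈ OTi.Sgood R A I p := by
    rw [OTi.Sgood_eq_top R A I p hp2 (prod_mem p R χ A)]
    trivial
  obtain ⟨a, ⟨w, rfl⟩, j, hj, rfl⟩ := Submodule.mem_sup.mp hz'
  have hj' : j ∈ Ideal.span (OTi.rel R A I p) := hj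
  have hLj : L j = 0 := hle hj'
  rw [map_add, hLj, add_zero, OTi.Phi_apply, map_sum] at hz
  have hz2 : ∑ t : Fin p, OTi.mu R A I (t : ℕ) (w t) = 0 := hz
  -- each component vanishes
  have hpos : ∀ s : Fin p, 1 ≤ (s : ℕ) → OTi.mu R A I (s : ℕ) (w s) = 0 := by
    intro s hs1
    have h1 := congrArg (OTf.pi0 p R u χ A (s : ℕ)) hz2
    rw [map_sum, map_zero, Finset.sum_eq_single s] at h1
    · have hmem : OTi.mu R A I (s : ℕ) (w s) ∈ OortTate.eigenAug R A p χ (s : ℕ) :=
        OTg.pow_le p R χ A _ hs1 (OTi.mu_mem_pow R A I _ (w s))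
      rwa [OTf.pi0_of_mem p R u χ A hu (s : ℕ) hmem] at h1
    · intro t _ hts
      rcases Nat.eq_zero_or_pos (t : ℕ) with h0 | htpos
      · obtain ⟨r, hr⟩ := mu_zero_eq R A I (t : ℕ) h0 (w t)
        rw [hr, pi0_algebraMap]
      · have hmem : OTi.mu R A I (t : ℕ) (w t) ∈ OortTate.eigenAug R A p χ (t : ℕ) :=
          OTg.pow_le p R χ A _ htpos (OTi.mu_mem_pow R A I _ (w t))
        refine pi0_of_mem_other p R u χ A hχ (s : ℕ) (t : ℕ) ?_ hmem
        intro hdvd
        have hne : (t : ℕ) ≠ (s : ℕ) := fun h => hts (Fin.ext h)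
        have h1 := t.2
        have h2 := s.2
        obtain ⟨c, hc⟩ := hdvd
        have hpc : ((p - 1 : ℕ) : ℤ) = (p : ℤ) - 1 := by
          rw [Nat.cast_sub (by omega)]; simp
        rw [hpc] at hc
        have hc0 : c ≠ 0 := by
          intro h
          rw [h, mul_zero, sub_eq_zero] at hc
          exact hne (by exact_mod_cast hc)
        have : (1 : ℤ) ≤ |c| := Int.one_le_abs hc0
        have habs : |((t : ℕ) : ℤ) - ((s : ℕ) : ℤ)| = ((p : ℤ) - 1) * |c| := by
          rw [hc, abs_mul, abs_of_nonneg (by omega : (0 : ℤ) ≤ (p : ℤ) - 1)]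
        have hlt : |((t : ℕ) : ℤ) - ((s : ℕ) : ℤ)| < (p : ℤ) - 1 := by
          rw [abs_lt]
          constructor <;> omega
        nlinarith
    · intro h
      exact absurd (Finset.mem_univ _) h
  have hall : ∀ t : Fin p, OTi.mu R A I (t : ℕ) (w t) = 0 := by
    intro t
    rcases Nat.eq_zero_or_pos (t : ℕ) with h0 | htpos
    · rw [Finset.sum_eq_single t] at hz2
      · exact hz2
      · intro s _ hst
        refine hpos s ?_
        by_contra hlt
        have : (s : ℕ) = 0 := by omega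
        exact hst (Fin.ext (by rw [this, h0]))
      · intro h
        exact absurd (Finset.mem_univ _) h
    · exact hpos t htpos
  have hw0 : ∀ t : Fin p, w t = 0 := by
    intro t
    apply mu_injective p R u χ A hu hχ hχp hrk (t : ℕ) t.2
    rw [hall t, map_zero]
  have : OTi.Phi R A I p w = 0 := by
    rw [OTi.Phi_apply]
    refine Finset.sum_eq_zero fun t _ => ?_
    rw [hw0 t, map_zero]
  rw [this, zero_add]
  exact hj'

end Main

end Groth.Agent.Helper7.OTj
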