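import Mathlib
import Groth.Prelude.Def_CartDual

set_option autoImplicit false
universe u

namespace Groth.Agent.Helper7.OTk

open TensorProduct

theorem rankAtStalk_dual (R : Type u) [CommRing R] (M : Type u) [AddCommGroup M] [Module R M]
    [Module.Finite R M] [Module.Projective R M] (q : PrimeSpectrum R) :
    Module.rankAtStalk (M →ₗ[R] R) q = Module.rankAtStalk M q := by
  set S := Localization.AtPrime q.asIdeal with hS
  haveI : Module.FinitePresentation R M := Module.finitePresentation_of_projective R M
  have hbc := Module.FinitePresentation.isBaseChange_map R M R S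
  haveI : Module.Free S (S ⊗[R] M) := Module.free_of_flat_of_isLocalRing
  rw [Module.rankAtStalk_eq_finrank_tensorProduct, Module.rankAtStalk_eq_finrank_tensorProduct]
  rw [hbc.equiv.finrank_eq, Module.finrank_linearMap]
  have : Module.finrank S (S ⊗[R] R) = 1 := by
    rw [(TensorProduct.AlgebraTensorModule.rid R S S).finrank_eq, Module.finrank_self]
  rw [this, mul_one]

theorem rankAtStalk_D (R : Type u) [CommRing R] (A : Type u) [CommRing A] [Algebra R A]
    [Coalgebra R A] [Module.Finite R A] [Module.Projective R A] (q : PrimeSpectrum R) :
    Module.rankAtStalk (CartDual.D R A) q = Module.rankAtStalk A q := by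
  rw [← rankAtStalk_dual R A q]
  exact congrFun (Module.rankAtStalk_eq_of_equiv (CartDual.toDual R A)) q

end Groth.Agent.Helper7.OTk
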