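import Mathlib
import Groth.Agent.Helper7.OTj

set_option autoImplicit false
universe u

namespace Groth.Agent.Helper7.OTl

open TensorProduct WithConv Groth.Agent.Helper7

section AlgIso

variable (p : ℕ) [Fact p.Prime] (R : Type u) [CommRing R] (u : R)
  (χ : (ZMod p)ˣ →* Rˣ) (A : Type u) [CommRing A] [HopfAlgebra R A]
  [Module.Finite R A] [Module.Projective R A]
  (A' : Type u) [CommRing A'] [HopfAlgebra R A']
  (hu : u * ((p - 1 : ℕ) : R) = 1)
  (hχ : ∀ m : (ZMod p)ˣ, m ≠ 1 → IsUnit ((χ m : R) - 1))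
  (hχp : ∀ m : (ZMod p)ˣ, ((χ m : Rˣ) : R) - (((m : ZMod p).val : ℕ) : R) ∈
    Ideal.span ({(p : R)} : Set R))
  (hrk : ∀ q : PrimeSpectrum R, Module.rankAtStalk A q = p)
  (θ : OortTate.eigenAug R A p χ 1 →ₗ[R] OortTate.eigenAug R A' p χ 1)
  (hθ : ∀ (f : Fin p → OortTate.eigenAug R A p χ 1) (g : OortTate.eigenAug R A p χ 1),
    (g : A) = ∏ i, (f i : A) → ((θ g : OortTate.eigenAug R A' p χ 1) : A') = ∏ i, ((θ (f i)) : A'))

/-- the map `T(I_1(A)) → A'` induced by `θ` -/
noncomputable def bigF : TensorAlgebra R (OortTate.eigenAug R A p χ 1) →ₐ[R] A' :=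
  TensorAlgebra.lift R ((OortTate.eigenAug R A' p χ 1).subtype ∘ₗ θ)

include hu hχ hχp hrk hθ in
lemma ker_le : RingHom.ker (TensorAlgebra.lift R (OortTate.eigenAug R A p χ 1).subtype).toRingHom ≤
    RingHom.ker (bigF p R χ A A' θ).toRingHom := by
  have h1 : RingHom.ker (TensorAlgebra.lift R (OortTate.eigenAug R A p χ 1).subtype).toRingHom =
      RingHom.ker (TensorAlgebra.lift R (OortTate.eigenAug R A p χ 1).subtype) := rfl
  rw [h1, OTj.ker_eq p R u χ A hu hχ hχp hrk, Ideal.span_le]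
  rintro _ ⟨f, g, hg, rfl⟩
  rw [SetLike.mem_coe, RingHom.mem_ker]
  change bigF p R χ A A' θ _ = 0
  rw [map_sub, map_list_prod, List.map_ofFn, List.prod_ofFn]
  simp only [Function.comp_apply, bigF, TensorAlgebra.lift_ι_apply, LinearMap.comp_apply,
    Submodule.subtype_apply]
  rw [hθ f g hg, sub_self]

/-- the ring map `A → A'` extending `θ` -/
noncomputable def ringHomOfTheta : A →+* A' :=
  (TensorAlgebra.lift R (OortTate.eigenAug R A p χ 1).subtype).toRingHom.liftOfSurjective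
    (OTj.surj p R u χ A hu hχ hχp hrk)
    ⟨(bigF p R χ A A' θ).toRingHom, ker_le p R u χ A A' hu hχ hχp hrk θ hθ⟩

lemma ringHomOfTheta_lift (z : TensorAlgebra R (OortTate.eigenAug R A p χ 1)) :
    ringHomOfTheta p R u χ A A' hu hχ hχp hrk θ hθ
      (TensorAlgebra.lift R (OortTate.eigenAug R A p χ 1).subtype z) = bigF p R χ A A' θ z :=
  RingHom.liftOfRightInverse_comp_apply
    (TensorAlgebra.lift R (OortTate.eigenAug R A p χ 1).subtype).toRingHom _
    (Function.rightInverse_surjInv (OTj.surj p R u χ A hu hχ hχp hrk))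
    ⟨(bigF p R χ A A' θ).toRingHom, ker_le p R u χ A A' hu hχ hχp hrk θ hθ⟩ z

/-- the algebra map `A → A'` extending `θ` -/
noncomputable def algHomOfTheta : A →ₐ[R] A' :=
  { ringHomOfTheta p R u χ A A' hu hχ hχp hrk θ hθ with
    commutes' := by
      intro r
      have h1 : algebraMap R A r = TensorAlgebra.lift R (OortTate.eigenAug R A p χ 1).subtype
          (algebraMap R _ r) := (AlgHom.commutes _ r).symm
      change ringHomOfTheta p R u χ A A' hu hχ hχp hrk θ hθ (algebraMap R A r) = algebraMap R A' r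
      rw [h1, ringHomOfTheta_lift]
      exact AlgHom.commutes (bigF p R χ A A' θ) r }

lemma algHomOfTheta_lift (z : TensorAlgebra R (OortTate.eigenAug R A p χ 1)) :
    algHomOfTheta p R u χ A A' hu hχ hχp hrk θ hθ
      (TensorAlgebra.lift R (OortTate.eigenAug R A p χ 1).subtype z) = bigF p R χ A A' θ z :=
  ringHomOfTheta_lift p R u χ A A' hu hχ hχp hrk θ hθ z

lemma algHomOfTheta_apply (x : OortTate.eigenAug R A p χ 1) :
    algHomOfTheta p R u χ A A' hu hχ hχp hrk θ hθ (x : A) = (θ x : A') := by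
  have h := algHomOfTheta_lift p R u χ A A' hu hχ hχp hrk θ hθ (TensorAlgebra.ι R x)
  simpa [bigF] using h

end AlgIso

section Equiv

variable (p : ℕ) [Fact p.Prime] (R : Type u) [CommRing R] (u : R)
  (χ : (ZMod p)ˣ →* Rˣ) (A : Type u) [CommRing A] [HopfAlgebra R A]
  [Module.Finite R A] [Module.Projective R A]
  (A' : Type u) [CommRing A'] [HopfAlgebra R A'] [Module.Finite R A'] [Module.Projective R A']
  (hu : u * ((p - 1 : ℕ) : R) = 1)
  (hχ : ∀ m : (ZMod p)ˣ, m ≠ 1 → IsUnit ((χ m : R) - 1))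
  (hχp : ∀ m : (ZMod p)ˣ, ((χ m : Rˣ) : R) - (((m : ZMod p).val : ℕ) : R) ∈
    Ideal.span ({(p : R)} : Set R))
  (hrk : ∀ q : PrimeSpectrum R, Module.rankAtStalk A q = p)
  (hrk' : ∀ q : PrimeSpectrum R, Module.rankAtStalk A' q = p)
  (θ : OortTate.eigenAug R A p χ 1 ≃ₗ[R] OortTate.eigenAug R A' p χ 1)
  (hθ : ∀ (f : Fin p → OortTate.eigenAug R A p χ 1) (g : OortTate.eigenAug R A p χ 1),
    (g : A) = ∏ i, (f i : A) → ((θ g : OortTate.eigenAug R A' p χ 1) : A') = ∏ i, ((θ (f i)) : A'))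

include hθ in
omit [Module.Finite R A] [Module.Projective R A] [Module.Finite R A'] [Module.Projective R A'] in
lemma hθ_symm (f' : Fin p → OortTate.eigenAug R A' p χ 1) (g' : OortTate.eigenAug R A' p χ 1)
    (hg' : (g' : A') = ∏ i, (f' i : A')) :
    ((θ.symm g' : OortTate.eigenAug R A p χ 1) : A) = ∏ i, ((θ.symm (f' i)) : A) := by
  set g₀ : OortTate.eigenAug R A p χ 1 :=
    ⟨∏ i, ((θ.symm (f' i)) : A), OTj.prod_mem p R χ A (fun i => θ.symm (f' i))⟩ with hg₀
  have h1 := hθ (fun i => θ.symm (f' i)) g₀ rfl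
  simp only [LinearEquiv.apply_symm_apply] at h1
  have h2 : θ g₀ = g' := Subtype.ext (h1.trans hg'.symm)
  rw [← h2, LinearEquiv.symm_apply_apply]

/-- the algebra isomorphism `A ≃ A'` extending `θ` -/
noncomputable def algEquivOfTheta : A ≃ₐ[R] A' :=
  AlgEquiv.ofAlgHom
    (algHomOfTheta p R u χ A A' hu hχ hχp hrk θ.toLinearMap hθ)
    (algHomOfTheta p R u χ A' A hu hχ hχp hrk' θ.symm.toLinearMap
      (hθ_symm p R χ A A' θ hθ))
    (by
      have hs := OTj.surj p R u χ A' hu hχ hχp hrk'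
      rw [← AlgHom.cancel_right hs]
      apply TensorAlgebra.hom_ext
      apply LinearMap.ext
      intro x'
      simp only [LinearMap.comp_apply, AlgHom.toLinearMap_apply, AlgHom.comp_apply,
        TensorAlgebra.lift_ι_apply, Submodule.subtype_apply, AlgHom.id_apply]
      rw [algHomOfTheta_apply, algHomOfTheta_apply]
      simp)
    (by
      have hs := OTj.surj p R u χ A hu hχ hχp hrk
      rw [← AlgHom.cancel_right hs]
      apply TensorAlgebra.hom_ext
      apply LinearMap.ext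
      intro x
      simp only [LinearMap.comp_apply, AlgHom.toLinearMap_apply, AlgHom.comp_apply,
        TensorAlgebra.lift_ι_apply, Submodule.subtype_apply, AlgHom.id_apply]
      rw [algHomOfTheta_apply, algHomOfTheta_apply]
      simp)

lemma algEquivOfTheta_apply (x : OortTate.eigenAug R A p χ 1) :
    algEquivOfTheta p R u χ A A' hu hχ hχp hrk hrk' θ hθ (x : A) = (θ x : A') :=
  algHomOfTheta_apply p R u χ A A' hu hχ hχp hrk θ.toLinearMap hθ x

lemma algEquivOfTheta_symm_apply (x' : OortTate.eigenAug R A' p χ 1) :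
    (algEquivOfTheta p R u χ A A' hu hχ hχp hrk hrk' θ hθ).symm (x' : A') = (θ.symm x' : A) :=
  algHomOfTheta_apply p R u χ A' A hu hχ hχp hrk' θ.symm.toLinearMap
    (hθ_symm p R χ A A' θ hθ) x'

end Equiv

end Groth.Agent.Helper7.OTl
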