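import Mathlib
import Groth.Agent.Helper7.OTl
import Groth.Agent.Helper7.OTk
import Groth.Agent.Helper7.OGh

set_option autoImplicit false
universe u

namespace Groth.Agent.Helper7.OTm

open TensorProduct WithConv Groth.Agent.Helper7

section Univ

variable (p : ℕ) [Fact p.Prime] (R : Type u) [CommRing R] (u : R)
  (χ : (ZMod p)ˣ →* Rˣ)
  (hu : u * ((p - 1 : ℕ) : R) = 1)
  (hχ : ∀ m : (ZMod p)ˣ, m ≠ 1 → IsUnit ((χ m : R) - 1))
  (hχp : ∀ m : (ZMod p)ˣ, ((χ m : Rˣ) : R) - (((m : ZMod p).val : ℕ) : R) ∈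
    Ideal.span ({(p : R)} : Set R))

include hu hχ hχp in
/-- the universal expression of `T` through powers of `y_1` -/
theorem univ_formula : ∃ coef : Fin (p - 1) → R,
    OortTate.muT R p = 1 + ∑ i : Fin (p - 1),
      coef i • (OortTate.ygen R p u χ 1) ^ (OTe.expo p (i : ℕ)) := by
  have hp2 := (Fact.out : p.Prime).two_le
  have hinv := OGb.inversion u χ hχ hu (1 : (ZMod p)ˣ)
  have hv : ∀ i : Fin (p - 1), ∃ v : Rˣ, (OortTate.ygen R p u χ 1) ^ (OTe.expo p (i : ℕ)) =
      (v : R) • OortTate.ygen R p u χ (i : ℕ) := by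
    intro i
    obtain ⟨h1, h2, h3⟩ := OTe.expo_pos p (i : ℕ) i.2
    obtain ⟨v, hv⟩ := OGh.pow_eq u χ hχ hχp hu (OTe.expo p (i : ℕ)) h1 (by omega)
    refine ⟨v, ?_⟩
    rw [hv]
    congr 1
    apply OGh.ygen_congr
    have : (OTe.expo p (i : ℕ) : ℤ) % ((p - 1 : ℕ) : ℤ) = ((i : ℕ) : ℤ) % ((p - 1 : ℕ) : ℤ) := by
      exact_mod_cast h3
    exact Int.ModEq.dvd this.symm
  choose v hv using hv
  refine ⟨fun i => ((v i)⁻¹ : Rˣ), ?_⟩
  have : ∀ i : Fin (p - 1), (((v i)⁻¹ : Rˣ) : R) • (OortTate.ygen R p u χ 1) ^ (OTe.expo p (i : ℕ)) =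
      OGb.c p R χ (i : ℕ) 1 • OortTate.ygen R p u χ (i : ℕ) := by
    intro i
    rw [hv i, smul_smul, Units.inv_mul, one_smul, OGb.c_one_right, one_smul]
  rw [Finset.sum_congr rfl (fun i _ => this i), hinv, Units.val_one, OGa.muT_eq]
  abel

end Univ

section ConvPhi

variable (p : ℕ) [Fact p.Prime] (R : Type u) [CommRing R] (u : R)
  (χ : (ZMod p)ˣ →* Rˣ) (A : Type u) [CommRing A] [HopfAlgebra R A]

/-- the homomorphism `ℤ/p → M` attached to an element of order dividing `p` -/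
def powHom {M : Type*} [Monoid M] (x : M) (hx : x ^ p = 1) : Multiplicative (ZMod p) →* M where
  toFun a := x ^ (Multiplicative.toAdd a).val
  map_one' := by simp [ZMod.val_zero]
  map_mul' a b := by
    rw [← pow_add, toAdd_mul, ZMod.val_add, ← pow_eq_pow_mod _ hx]

variable (hp : (WithConv.toConv (AlgHom.id R A)) ^ p = 1)

include hp in
lemma hplin : (toConv (LinearMap.id : A →ₗ[R] A)) ^ p = 1 := by
  have h := AlgHom.toLinearMap_convPow (toConv (AlgHom.id R A)) p
  rw [hp] at h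
  rw [← AlgHom.toLinearMap_convOne]
  exact h.symm

/-- the algebra map `R[μ_p] → End(A)` (convolution) sending `T` to the identity -/
noncomputable def phiC : MonoidAlgebra R (Multiplicative (ZMod p)) →ₐ[R] WithConv (A →ₗ[R] A) :=
  MonoidAlgebra.lift R (WithConv (A →ₗ[R] A)) (Multiplicative (ZMod p))
    (powHom p (toConv (LinearMap.id : A →ₗ[R] A)) (hplin p R A hp))

lemma phiC_t (a : ZMod p) :
    phiC p R A hp (OGa.t p R a) = (toConv (LinearMap.id : A →ₗ[R] A)) ^ a.val := by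
  unfold phiC
  rw [OGa.t_def]
  change MonoidAlgebra.lift R _ _ _ (MonoidAlgebra.of R _ (Multiplicative.ofAdd a)) = _
  rw [MonoidAlgebra.lift_of]
  rfl

lemma phiC_ygen : phiC p R A hp (OortTate.ygen R p u χ 1) = toConv (OTf.pi0 p R u χ A 1) := by
  apply WithConv.ofConv_injective
  apply LinearMap.ext
  intro a
  rw [OGa.ygen_eq, map_smul, map_sum]
  change _ = OortTate.proj R A p u χ 1 (OTf.aug R A a)
  rw [OTb.proj_apply, WithConv.ofConv_smul, LinearMap.smul_apply, WithConv.ofConv_sum,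
    LinearMap.sum_apply]
  congr 1
  refine Finset.sum_congr rfl fun m _ => ?_
  rw [map_smul, map_sub, map_one, phiC_t, WithConv.ofConv_smul, LinearMap.smul_apply,
    WithConv.ofConv_sub, LinearMap.sub_apply, ← OTf.powConv_lin]
  congr 1
  rw [OTf.aug_apply, map_sub, AlgHom.commutes]
  rfl

end ConvPhi

section Delta

variable (p : ℕ) [Fact p.Prime] (R : Type u) [CommRing R] (u : R)
  (χ : (ZMod p)ˣ →* Rˣ) (A : Type u) [CommRing A] [HopfAlgebra R A]
  [Coalgebra.IsCocomm R A] [Module.Finite R A] [Module.Projective R A]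
  (hp : (WithConv.toConv (AlgHom.id R A)) ^ p = 1)

/-- `Θ` as an algebra map into the convolution algebra -/
noncomputable def ThetaA : A ⊗[R] CartDual.D R A →ₐ[R] WithConv (A →ₗ[R] A) :=
  AlgHom.ofLinearMap
    ((WithConv.linearEquiv R (A →ₗ[R] A)).symm.toLinearMap ∘ₗ OTh.Theta R A)
    (OTh.Theta_one R A) (OTh.Theta_mul R A)

lemma ThetaA_apply (z : A ⊗[R] CartDual.D R A) : ThetaA R A z = toConv (OTh.Theta R A z) := rfl

lemma ThetaA_injective : Function.Injective (ThetaA R A) := by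
  intro z w hzw
  apply (OTh.Theta_bijective R A).1
  exact WithConv.toConv_injective hzw

/-- the canonical element -/
noncomputable def delta : A ⊗[R] CartDual.D R A :=
  Classical.choose ((OTh.Theta_bijective R A).2 LinearMap.id)

lemma Theta_delta : OTh.Theta R A (delta R A) = LinearMap.id :=
  Classical.choose_spec ((OTh.Theta_bijective R A).2 LinearMap.id)

/-- the canonical element of `I_1 ⊗ I_1^D` -/
noncomputable def cel : A ⊗[R] CartDual.D R A :=
  Classical.choose ((OTh.Theta_bijective R A).2 (OTf.pi0 p R u χ A 1))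

lemma Theta_cel : OTh.Theta R A (cel p R u χ A) = OTf.pi0 p R u χ A 1 :=
  Classical.choose_spec ((OTh.Theta_bijective R A).2 (OTf.pi0 p R u χ A 1))

include hp in
theorem delta_formula (coef : Fin (p - 1) → R)
    (hcoef : OortTate.muT R p = 1 + ∑ i : Fin (p - 1),
      coef i • (OortTate.ygen R p u χ 1) ^ (OTe.expo p (i : ℕ))) :
    delta R A = 1 + ∑ i : Fin (p - 1), coef i • (cel p R u χ A) ^ (OTe.expo p (i : ℕ)) := by
  apply ThetaA_injective R A
  have h1 := congrArg (phiC p R A hp) hcoef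
  rw [map_add, map_one, map_sum] at h1
  have h2 : phiC p R A hp (OortTate.muT R p) = toConv (LinearMap.id : A →ₗ[R] A) := by
    rw [OGa.muT_eq, phiC_t, ZMod.val_one, pow_one]
  rw [h2] at h1
  have h3 : ThetaA R A (delta R A) = toConv (LinearMap.id : A →ₗ[R] A) := by
    rw [ThetaA_apply, Theta_delta]
  rw [h3, h1]
  have h4 : ThetaA R A (1 + ∑ i : Fin (p - 1), coef i • (cel p R u χ A) ^ (OTe.expo p (i : ℕ))) =
      1 + ∑ i : Fin (p - 1), coef i • (ThetaA R A (cel p R u χ A)) ^ (OTe.expo p (i : ℕ)) := by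
    have e1 := (ThetaA R A).toRingHom.map_add (1 : A ⊗[R] CartDual.D R A)
      (∑ i : Fin (p - 1), coef i • (cel p R u χ A) ^ (OTe.expo p (i : ℕ)))
    have e2 : ThetaA R A (1 : A ⊗[R] CartDual.D R A) = 1 := (ThetaA R A).toRingHom.map_one
    refine e1.trans ?_
    change ThetaA R A 1 + ThetaA R A _ = _
    rw [e2]
    congr 1
    have e3 := map_sum (ThetaA R A).toLinearMap
      (fun i : Fin (p - 1) => coef i • (cel p R u χ A) ^ (OTe.expo p (i : ℕ))) Finset.univ
    refine e3.trans ?_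
    refine Finset.sum_congr rfl fun i _ => ?_
    have e4 := (ThetaA R A).toLinearMap.map_smul (coef i) ((cel p R u χ A) ^ (OTe.expo p (i : ℕ)))
    refine e4.trans ?_
    congr 1
    exact (ThetaA R A).toRingHom.map_pow _ _
  rw [h4, ThetaA_apply, Theta_cel]
  refine congrArg _ (Finset.sum_congr rfl fun i _ => ?_)
  rw [map_smul, map_pow, phiC_ygen]

end Delta

end Groth.Agent.Helper7.OTm
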