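import Mathlib
import Groth.Agent.Helper7.OTm

set_option autoImplicit false
universe u

namespace Groth.Agent.Helper7.OTn

open TensorProduct WithConv Groth.Agent.Helper7

section Res

variable (p : ℕ) [Fact p.Prime] (R : Type u) [CommRing R] (u : R)
  (χ : (ZMod p)ˣ →* Rˣ) (A : Type u) [CommRing A] [HopfAlgebra R A]
  [Coalgebra.IsCocomm R A] [Module.Finite R A] [Module.Projective R A]
  (hu : u * ((p - 1 : ℕ) : R) = 1)
  (hp : (WithConv.toConv (AlgHom.id R A)) ^ p = 1)

/-- restriction of forms in the dual eigenspace to the eigenspace -/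
noncomputable def resLin : OortTate.eigenAug R (CartDual.D R A) p χ 1 →ₗ[R]
    Module.Dual R (OortTate.eigenAug R A p χ 1) :=
  (LinearMap.lcomp R R (OortTate.eigenAug R A p χ 1).subtype) ∘ₗ
    (CartDual.toDual R A).toLinearMap ∘ₗ (OortTate.eigenAug R (CartDual.D R A) p χ 1).subtype

lemma resLin_apply (ξ : OortTate.eigenAug R (CartDual.D R A) p χ 1)
    (x : OortTate.eigenAug R A p χ 1) :
    resLin p R χ A ξ x = (ξ : CartDual.D R A) (x : A) := rfl

include hu hp in
lemma resLin_bijective : Function.Bijective (resLin p R χ A) :=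
  OTc.main p R u χ A hu hp 1

/-- restriction as an equivalence -/
noncomputable def resEquiv : OortTate.eigenAug R (CartDual.D R A) p χ 1 ≃ₗ[R]
    Module.Dual R (OortTate.eigenAug R A p χ 1) :=
  LinearEquiv.ofBijective (resLin p R χ A) (resLin_bijective p R u χ A hu hp)

lemma resEquiv_apply (ξ : OortTate.eigenAug R (CartDual.D R A) p χ 1)
    (x : OortTate.eigenAug R A p χ 1) :
    resEquiv p R u χ A hu hp ξ x = (ξ : CartDual.D R A) (x : A) := rfl

end Res

section Cel

variable (p : ℕ) [Fact p.Prime] (R : Type u) [CommRing R] (u : R)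
  (χ : (ZMod p)ˣ →* Rˣ) (A : Type u) [CommRing A] [HopfAlgebra R A]
  [Coalgebra.IsCocomm R A] [Module.Finite R A] [Module.Projective R A]
  (hu : u * ((p - 1 : ℕ) : R) = 1)
  (hχ : ∀ m : (ZMod p)ˣ, m ≠ 1 → IsUnit ((χ m : R) - 1))
  (hχp : ∀ m : (ZMod p)ˣ, ((χ m : Rˣ) : R) - (((m : ZMod p).val : ℕ) : R) ∈
    Ideal.span ({(p : R)} : Set R))
  (hrk : ∀ q : PrimeSpectrum R, Module.rankAtStalk A q = p)

include hu hχ hχp hrk in
/-- the canonical element comes from `I_1 ⊗ I_1^D` -/
theorem exists_tensor_cel :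
    ∃ z₀ : (OortTate.eigenAug R A p χ 1) ⊗[R] (OortTate.eigenAug R (CartDual.D R A) p χ 1),
      TensorProduct.map (OortTate.eigenAug R A p χ 1).subtype
        (OortTate.eigenAug R (CartDual.D R A) p χ 1).subtype z₀ = OTm.cel p R u χ A := by
  classical
  have hp : (WithConv.toConv (AlgHom.id R A)) ^ p = 1 := Deligne.pow_rank_eq_one p hrk
  obtain ⟨hS, -⟩ := OTg.main p R u χ A hu hχ hχp hrk
  obtain ⟨hfin, hproj, hrank⟩ := hS 1
  haveI := hfin
  haveI := hproj
  have hinj := (OTh.Theta_bijective R A).1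
  set I := OortTate.eigenAug R A p χ 1 with hI
  set I' := OortTate.eigenAug R (CartDual.D R A) p χ 1 with hI'
  set π := OTf.pi0 p R u χ A 1 with hπ
  have hπmem : ∀ a, π a ∈ I := OTf.pi0_mem p R u χ A hp 1
  obtain ⟨n, f, g, -, -, hfg⟩ := Module.Finite.exists_comp_eq_id_of_projective R ↥I
  have hsurj := (OTc.main p R u χ A hu hp 1).2
  choose ξ hξ using fun k : Fin n => hsurj ((LinearMap.proj k) ∘ₗ g)
  refine ⟨∑ k : Fin n, (f (Pi.single k 1)) ⊗ₜ[R] ξ k, ?_⟩
  apply hinj
  rw [OTm.Theta_cel]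
  apply LinearMap.ext
  intro a
  rw [map_sum, map_sum, LinearMap.sum_apply]
  have hk : ∀ k : Fin n, OTh.Theta R A ((TensorProduct.map I.subtype I'.subtype)
      ((f (Pi.single k 1)) ⊗ₜ[R] ξ k)) a = (g ⟨π a, hπmem a⟩ k) • ((f (Pi.single k 1) : I) : A) := by
    intro k
    rw [TensorProduct.map_tmul, OTh.Theta_tmul]
    congr 1
    change (ξ k : CartDual.D R A) a = _
    rw [← OTh.form_pi0 p R u χ A hu (ξ k : CartDual.D R A) (ξ k).2 a]
    have := LinearMap.congr_fun (hξ k) ⟨π a, hπmem a⟩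
    exact this
  rw [Finset.sum_congr rfl (fun k _ => hk k)]
  set w : ↥I := ⟨π a, hπmem a⟩ with hw
  have h1 : f (g w) = w := LinearMap.congr_fun hfg w
  have h2 : g w = ∑ k : Fin n, (g w k) • (Pi.single k (1 : R) : Fin n → R) := by
    funext j
    simp [Finset.sum_apply, Pi.single_apply]
  have h4 : ∑ k : Fin n, (g w k) • f (Pi.single k (1 : R)) = w := by
    conv_rhs => rw [← h1, h2, map_sum]
    refine Finset.sum_congr rfl fun k _ => ?_
    rw [map_smul]
  have h5 := congrArg (fun x : ↥I => (x : A)) h4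
  simp only [AddSubmonoidClass.coe_finsetSum] at h5
  exact h5

end Cel

section ThetaT

variable (p : ℕ) [Fact p.Prime] (R : Type u) [CommRing R] (u : R)
  (χ : (ZMod p)ˣ →* Rˣ) (A : Type u) [CommRing A] [HopfAlgebra R A]
  [Coalgebra.IsCocomm R A] [Module.Finite R A] [Module.Projective R A]
  (A' : Type u) [CommRing A'] [HopfAlgebra R A']
  [Coalgebra.IsCocomm R A'] [Module.Finite R A'] [Module.Projective R A']
  (hu : u * ((p - 1 : ℕ) : R) = 1)
  (hp : (WithConv.toConv (AlgHom.id R A)) ^ p = 1)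
  (hp' : (WithConv.toConv (AlgHom.id R A')) ^ p = 1)
  (θ : OortTate.eigenAug R A p χ 1 ≃ₗ[R] OortTate.eigenAug R A' p χ 1)

/-- the transpose of `θ` on the dual eigenspaces -/
noncomputable def thetaT : OortTate.eigenAug R (CartDual.D R A') p χ 1 ≃ₗ[R]
    OortTate.eigenAug R (CartDual.D R A) p χ 1 :=
  (resEquiv p R u χ A' hu hp').trans (θ.dualMap.trans (resEquiv p R u χ A hu hp).symm)

lemma thetaT_apply (η' : OortTate.eigenAug R (CartDual.D R A') p χ 1)
    (x : OortTate.eigenAug R A p χ 1) :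
    ((thetaT p R u χ A A' hu hp hp' θ η' : OortTate.eigenAug R (CartDual.D R A) p χ 1) :
      CartDual.D R A) (x : A) = (η' : CartDual.D R A') ((θ x : OortTate.eigenAug R A' p χ 1) : A') := by
  have h1 : resEquiv p R u χ A hu hp (thetaT p R u χ A A' hu hp hp' θ η') =
      θ.dualMap (resEquiv p R u χ A' hu hp' η') := by
    unfold thetaT
    simp
  have h2 := LinearMap.congr_fun h1 x
  rw [resEquiv_apply] at h2
  rw [h2]
  rfl

end ThetaT

end Groth.Agent.Helper7.OTn
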