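import Mathlib
import Groth.Agent.Helper7.OTn

set_option autoImplicit false
set_option maxHeartbeats 1000000
universe u

namespace Groth.Agent.Helper7.OTo

open TensorProduct WithConv Groth.Agent.Helper7

section Main

variable (p : ℕ) [Fact p.Prime] (R : Type u) [CommRing R] (u : R)
  (χ : (ZMod p)ˣ →* Rˣ) (A : Type u) [CommRing A] [HopfAlgebra R A]
  [Coalgebra.IsCocomm R A] [Module.Finite R A] [Module.Projective R A]
  (A' : Type u) [CommRing A'] [HopfAlgebra R A']
  [Coalgebra.IsCocomm R A'] [Module.Finite R A'] [Module.Projective R A']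
  (hu : u * ((p - 1 : ℕ) : R) = 1)
  (hχ : ∀ m : (ZMod p)ˣ, m ≠ 1 → IsUnit ((χ m : R) - 1))
  (hχp : ∀ m : (ZMod p)ˣ, ((χ m : Rˣ) : R) - (((m : ZMod p).val : ℕ) : R) ∈
    Ideal.span ({(p : R)} : Set R))
  (hrk : ∀ q : PrimeSpectrum R, Module.rankAtStalk A q = p)
  (hrk' : ∀ q : PrimeSpectrum R, Module.rankAtStalk A' q = p)
  (θ : OortTate.eigenAug R A p χ 1 ≃ₗ[R] OortTate.eigenAug R A' p χ 1)
  (hθ : ∀ (f : Fin p → OortTate.eigenAug R A p χ 1) (g : OortTate.eigenAug R A p χ 1),
    (g : A) = ∏ i, (f i : A) → ((θ g : OortTate.eigenAug R A' p χ 1) : A') = ∏ i, ((θ (f i)) : A'))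
  (hθD : ∀ (φ : Fin p → OortTate.eigenAug R (CartDual.D R A) p χ 1)
    (φ' : Fin p → OortTate.eigenAug R (CartDual.D R A') p χ 1)
    (ψ : OortTate.eigenAug R (CartDual.D R A) p χ 1) (ψ' : OortTate.eigenAug R (CartDual.D R A') p χ 1),
    (∀ i, ∀ x : OortTate.eigenAug R A p χ 1,
      CartDual.toDual R A (φ i : CartDual.D R A) (x : A) =
        CartDual.toDual R A' (φ' i : CartDual.D R A') ((θ x : OortTate.eigenAug R A' p χ 1) : A')) →
    (ψ : CartDual.D R A) = ∏ i, (φ i : CartDual.D R A) →
    (ψ' : CartDual.D R A') = ∏ i, (φ' i : CartDual.D R A') →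
    ∀ x : OortTate.eigenAug R A p χ 1,
      CartDual.toDual R A (ψ : CartDual.D R A) (x : A) =
        CartDual.toDual R A' (ψ' : CartDual.D R A') ((θ x : OortTate.eigenAug R A' p χ 1) : A'))

include hθD in
/-- the transpose of `θ` is compatible with `p`-fold products -/
theorem hθT (hp : (WithConv.toConv (AlgHom.id R A)) ^ p = 1)
    (hp' : (WithConv.toConv (AlgHom.id R A')) ^ p = 1)
    (φ' : Fin p → OortTate.eigenAug R (CartDual.D R A') p χ 1)
    (ψ' : OortTate.eigenAug R (CartDual.D R A') p χ 1)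
    (hψ' : (ψ' : CartDual.D R A') = ∏ i, (φ' i : CartDual.D R A')) :
    ((OTn.thetaT p R u χ A A' hu hp hp' θ ψ' : OortTate.eigenAug R (CartDual.D R A) p χ 1) :
      CartDual.D R A) = ∏ i, ((OTn.thetaT p R u χ A A' hu hp hp' θ (φ' i) :
        OortTate.eigenAug R (CartDual.D R A) p χ 1) : CartDual.D R A) := by
  set θT := OTn.thetaT p R u χ A A' hu hp hp' θ with hθTdef
  set ψ : OortTate.eigenAug R (CartDual.D R A) p χ 1 :=
    ⟨∏ i, ((θT (φ' i) : OortTate.eigenAug R (CartDual.D R A) p χ 1) : CartDual.D R A),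
      OTj.prod_mem p R χ (CartDual.D R A) (fun i => θT (φ' i))⟩ with hψ
  have h1 := hθD (fun i => θT (φ' i)) φ' ψ ψ'
    (fun i x => OTn.thetaT_apply p R u χ A A' hu hp hp' θ (φ' i) x) rfl hψ'
  have h2 : OTn.resEquiv p R u χ A hu hp ψ = OTn.resEquiv p R u χ A hu hp (θT ψ') := by
    apply LinearMap.ext
    intro x
    rw [OTn.resEquiv_apply, OTn.resEquiv_apply]
    have := h1 x
    rw [CartDual.toDual_apply, CartDual.toDual_apply] at this
    change (ψ : CartDual.D R A).ofConv (x : A) = _
    rw [this]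
    exact (OTn.thetaT_apply p R u χ A A' hu hp hp' θ ψ' x).symm
  have h3 := (OTn.resEquiv p R u χ A hu hp).injective h2
  rw [← h3]

variable (f : A ≃ₐ[R] A') (h : CartDual.D R A' ≃ₐ[R] CartDual.D R A)

omit hθ hθD in
include hu hχ hχp hrk hrk' in
/-- transport of the canonical element of `I_1 ⊗ I_1^D` -/
theorem G_cel (hp : (WithConv.toConv (AlgHom.id R A)) ^ p = 1)
    (hp' : (WithConv.toConv (AlgHom.id R A')) ^ p = 1)
    (Hf' : ∀ x' : OortTate.eigenAug R A' p χ 1, f.symm (x' : A') = (θ.symm x' : A))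
    (Hf : ∀ x : OortTate.eigenAug R A p χ 1, f (x : A) = (θ x : A'))
    (Hh' : ∀ ξ : OortTate.eigenAug R (CartDual.D R A) p χ 1,
      h.symm (ξ : CartDual.D R A) = ((OTn.thetaT p R u χ A A' hu hp hp' θ).symm ξ : CartDual.D R A')) :
    Algebra.TensorProduct.map (f : A →ₐ[R] A') (h.symm : CartDual.D R A →ₐ[R] CartDual.D R A')
      (OTm.cel p R u χ A) = OTm.cel p R u χ A' := by
  obtain ⟨z₀, hz₀⟩ := OTn.exists_tensor_cel p R u χ A hu hχ hχp hrk
  set θT := OTn.thetaT p R u χ A A' hu hp hp' θ with hθTdef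
  set π := OTf.pi0 p R u χ A 1 with hπ
  set π' := OTf.pi0 p R u χ A' 1 with hπ'
  have hπ'mem : ∀ a', π' a' ∈ OortTate.eigenAug R A' p χ 1 := OTf.pi0_mem p R u χ A' hp' 1
  have key : ∀ (z : (OortTate.eigenAug R A p χ 1) ⊗[R]
      (OortTate.eigenAug R (CartDual.D R A) p χ 1)) (a' : A'),
      OTh.Theta R A' (Algebra.TensorProduct.map (f : A →ₐ[R] A')
        (h.symm : CartDual.D R A →ₐ[R] CartDual.D R A')
        (TensorProduct.map (OortTate.eigenAug R A p χ 1).subtype
          (OortTate.eigenAug R (CartDual.D R A) p χ 1).subtype z)) a' =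
      f (OTh.Theta R A (TensorProduct.map (OortTate.eigenAug R A p χ 1).subtype
          (OortTate.eigenAug R (CartDual.D R A) p χ 1).subtype z) (f.symm (π' a'))) := by
    intro z a'
    induction z using TensorProduct.induction_on with
    | zero => simp
    | add x y hx hy => simp only [map_add, LinearMap.add_apply, hx, hy]
    | tmul b ξ =>
      rw [TensorProduct.map_tmul, Algebra.TensorProduct.map_tmul, OTh.Theta_tmul, OTh.Theta_tmul,
        map_smul]
      simp only [Submodule.subtype_apply, AlgEquiv.coe_toAlgHom]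
      congr 1
      rw [Hh' ξ, ← OTh.form_pi0 p R u χ A' hu _ (θT.symm ξ).2 a']
      have h1 := OTn.thetaT_apply p R u χ A A' hu hp hp' θ (θT.symm ξ)
        (θ.symm ⟨π' a', hπ'mem a'⟩)
      rw [LinearEquiv.apply_symm_apply, LinearEquiv.apply_symm_apply] at h1
      rw [← Hf' ⟨π' a', hπ'mem a'⟩] at h1
      exact h1.symm
  apply (OTh.Theta_bijective R A').1
  rw [OTm.Theta_cel]
  apply LinearMap.ext
  intro a'
  rw [← hz₀, key z₀ a', hz₀, OTm.Theta_cel]
  have h2 : f.symm (π' a') ∈ OortTate.eigenAug R A p χ 1 := by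
    have := Hf' ⟨π' a', hπ'mem a'⟩
    change f.symm (π' a') = _ at this
    rw [this]
    exact (θ.symm ⟨π' a', hπ'mem a'⟩).2
  rw [OTf.pi0_of_mem p R u χ A hu 1 h2, AlgEquiv.apply_symm_apply]

omit hθ hθD in
include hu hχ hχp in
/-- transport of the canonical element -/
theorem G_delta (hp : (WithConv.toConv (AlgHom.id R A)) ^ p = 1)
    (hp' : (WithConv.toConv (AlgHom.id R A')) ^ p = 1)
    (hcel : Algebra.TensorProduct.map (f : A →ₐ[R] A')
      (h.symm : CartDual.D R A →ₐ[R] CartDual.D R A') (OTm.cel p R u χ A) = OTm.cel p R u χ A') :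
    Algebra.TensorProduct.map (f : A →ₐ[R] A') (h.symm : CartDual.D R A →ₐ[R] CartDual.D R A')
      (OTm.delta R A) = OTm.delta R A' := by
  obtain ⟨coef, hcoef⟩ := OTm.univ_formula p R u χ hu hχ hχp
  rw [OTm.delta_formula p R u χ A hp coef hcoef, OTm.delta_formula p R u χ A' hp' coef hcoef]
  set G := Algebra.TensorProduct.map (f : A →ₐ[R] A')
    (h.symm : CartDual.D R A →ₐ[R] CartDual.D R A') with hG
  have e1 := G.toRingHom.map_add (1 : A ⊗[R] CartDual.D R A)
    (∑ i : Fin (p - 1), coef i • (OTm.cel p R u χ A) ^ (OTe.expo p (i : ℕ)))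
  have e2 : G (1 : A ⊗[R] CartDual.D R A) = 1 := G.toRingHom.map_one
  refine e1.trans ?_
  change G 1 + G _ = _
  rw [e2]
  congr 1
  have e3 := map_sum G.toLinearMap
    (fun i : Fin (p - 1) => coef i • (OTm.cel p R u χ A) ^ (OTe.expo p (i : ℕ))) Finset.univ
  refine e3.trans ?_
  refine Finset.sum_congr rfl fun i _ => ?_
  have e4 := G.toLinearMap.map_smul (coef i) ((OTm.cel p R u χ A) ^ (OTe.expo p (i : ℕ)))
  refine e4.trans ?_
  congr 1
  have e5 := G.toRingHom.map_pow (OTm.cel p R u χ A) (OTe.expo p (i : ℕ))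
  refine e5.trans ?_
  change (G (OTm.cel p R u χ A)) ^ _ = _
  rw [hcel]

omit hθ hθD in
/-- the transpose of `f` is `h` -/
theorem transpose_eq
    (hdelta : Algebra.TensorProduct.map (f : A →ₐ[R] A')
      (h.symm : CartDual.D R A →ₐ[R] CartDual.D R A') (OTm.delta R A) = OTm.delta R A')
    (η' : CartDual.D R A') (a : A) : η' (f a) = (h η') a := by
  let E1 : A ⊗[R] CartDual.D R A →ₗ[R] CartDual.D R A :=
    (TensorProduct.lid R (CartDual.D R A)).toLinearMap ∘ₗ
      LinearMap.rTensor (CartDual.D R A) (η'.ofConv ∘ₗ f.toLinearMap)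
  let E2 : A' ⊗[R] CartDual.D R A' →ₗ[R] CartDual.D R A' :=
    (TensorProduct.lid R (CartDual.D R A')).toLinearMap ∘ₗ
      LinearMap.rTensor (CartDual.D R A') η'.ofConv
  have fact1 : ∀ (z : A ⊗[R] CartDual.D R A) (a : A),
      (E1 z) a = η' (f (OTh.Theta R A z a)) := by
    intro z a
    induction z using TensorProduct.induction_on with
    | zero => simp [CartDual.coe_apply]
    | add x y hx hy =>
      simp only [map_add, LinearMap.add_apply, CartDual.coe_apply] at hx hy ⊢
      rw [WithConv.ofConv_add, LinearMap.add_apply, hx, hy]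
    | tmul b ξ =>
      rw [OTh.Theta_tmul]
      simp only [E1, LinearMap.comp_apply, LinearMap.rTensor_tmul, LinearEquiv.coe_coe,
        TensorProduct.lid_tmul, AlgEquiv.toLinearMap_apply, CartDual.coe_apply, map_smul,
        WithConv.ofConv_smul, LinearMap.smul_apply, smul_eq_mul]
      ring
  have fact2 : ∀ (z' : A' ⊗[R] CartDual.D R A') (a' : A'),
      (E2 z') a' = η' (OTh.Theta R A' z' a') := by
    intro z' a'
    induction z' using TensorProduct.induction_on with
    | zero => simp [CartDual.coe_apply]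
    | add x y hx hy =>
      simp only [map_add, LinearMap.add_apply, CartDual.coe_apply] at hx hy ⊢
      rw [WithConv.ofConv_add, LinearMap.add_apply, hx, hy]
    | tmul b ξ =>
      rw [OTh.Theta_tmul]
      simp only [E2, LinearMap.comp_apply, LinearMap.rTensor_tmul, LinearEquiv.coe_coe,
        TensorProduct.lid_tmul, CartDual.coe_apply, map_smul,
        WithConv.ofConv_smul, LinearMap.smul_apply, smul_eq_mul]
      ring
  have fact3 : ∀ z : A ⊗[R] CartDual.D R A, h.symm (E1 z) =
      E2 (Algebra.TensorProduct.map (f : A →ₐ[R] A')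
        (h.symm : CartDual.D R A →ₐ[R] CartDual.D R A') z) := by
    intro z
    induction z using TensorProduct.induction_on with
    | zero => simp
    | add x y hx hy => simp only [map_add, hx, hy]
    | tmul b ξ =>
      rw [Algebra.TensorProduct.map_tmul]
      simp only [E1, E2, LinearMap.comp_apply, LinearMap.rTensor_tmul, LinearEquiv.coe_coe,
        TensorProduct.lid_tmul, AlgEquiv.toLinearMap_apply, AlgEquiv.coe_toAlgHom, map_smul]
  have h1 : E2 (OTm.delta R A') = η' := by
    apply WithConv.ofConv_injective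
    apply LinearMap.ext
    intro a'
    have := fact2 (OTm.delta R A') a'
    rw [OTm.Theta_delta] at this
    exact this
  have h2 : E1 (OTm.delta R A) = h η' := by
    have := fact3 (OTm.delta R A)
    rw [hdelta, h1] at this
    rw [← this, AlgEquiv.apply_symm_apply]
  have h3 := fact1 (OTm.delta R A) a
  rw [OTm.Theta_delta, h2] at h3
  exact h3.symm

omit hθ hθD in
/-- an algebra isomorphism whose transpose is multiplicative is a bialgebra isomorphism -/
theorem nonempty_bialgEquiv (htr : ∀ (η' : CartDual.D R A') (a : A), η' (f a) = (h η') a) :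
    Nonempty (A ≃ₐc[R] A') := by
  have hcomp : ∀ η' : CartDual.D R A', η'.ofConv ∘ₗ f.toLinearMap = (h η').ofConv := by
    intro η'
    apply LinearMap.ext
    intro a
    exact htr η' a
  have hlid : (TensorProduct.lid R R).toLinearMap = LinearMap.mul' R R := by
    apply TensorProduct.ext'
    intro x y
    simp
  refine ⟨BialgEquiv.ofAlgEquiv f ?_ ?_⟩
  · apply AlgHom.ext
    intro a
    have h1 := htr 1 a
    rw [map_one] at h1
    change Coalgebra.counit (R := R) (f a) = Coalgebra.counit (R := R) a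
    have e1 : (1 : CartDual.D R A') (f a) = Coalgebra.counit (R := R) (f a) := by
      rw [CartDual.coe_apply, LinearMap.convOne_apply]
      rfl
    have e2 : (1 : CartDual.D R A) a = Coalgebra.counit (R := R) a := by
      rw [CartDual.coe_apply, LinearMap.convOne_apply]
      rfl
    rw [← e1, ← e2, h1]
  · apply AlgHom.ext
    intro a
    change Algebra.TensorProduct.map (f : A →ₐ[R] A') (f : A →ₐ[R] A') (Coalgebra.comul (R := R) a) =
      Coalgebra.comul (R := R) (f a)
    rw [← sub_eq_zero, ← Module.forall_dual_apply_eq_zero_iff R]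
    intro φ
    obtain ⟨y, rfl⟩ := (CartDual.ev₂ R A').surjective φ
    rw [map_sub, sub_eq_zero]
    induction y using TensorProduct.induction_on with
    | zero => simp
    | add x y hx hy => simp only [map_add, LinearMap.add_apply, hx, hy]
    | tmul η₁ η₂ =>
      rw [CartDual.ev₂_tmul_eq, hlid, LinearMap.comp_apply, LinearMap.comp_apply]
      have h1 : LinearMap.mul' R R (TensorProduct.map η₁.ofConv η₂.ofConv
          (Coalgebra.comul (R := R) (f a))) = (η₁ * η₂) (f a) := by
        rw [CartDual.coe_apply, LinearMap.convMul_apply]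
      have h2 : ∀ z : A ⊗[R] A, TensorProduct.map η₁.ofConv η₂.ofConv
          (Algebra.TensorProduct.map (f : A →ₐ[R] A') (f : A →ₐ[R] A') z) =
          TensorProduct.map (h η₁).ofConv (h η₂).ofConv z := by
        intro z
        induction z using TensorProduct.induction_on with
        | zero => simp
        | add x y hx hy => simp only [map_add, hx, hy]
        | tmul b c =>
          rw [Algebra.TensorProduct.map_tmul, TensorProduct.map_tmul, TensorProduct.map_tmul,
            ← hcomp η₁, ← hcomp η₂]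
          rfl
      rw [h1, h2, htr, map_mul, CartDual.coe_apply, LinearMap.convMul_apply]

include hu hχ hχp hrk hrk' hθ hθD in
/-- **S18478** -/
theorem main : Nonempty (A ≃ₐc[R] A') := by
  have hp : (WithConv.toConv (AlgHom.id R A)) ^ p = 1 := Deligne.pow_rank_eq_one p hrk
  have hp' : (WithConv.toConv (AlgHom.id R A')) ^ p = 1 := Deligne.pow_rank_eq_one p hrk'
  have hrkD : ∀ q : PrimeSpectrum R, Module.rankAtStalk (CartDual.D R A) q = p := by
    intro q
    rw [OTk.rankAtStalk_D]
    exact hrk q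
  have hrkD' : ∀ q : PrimeSpectrum R, Module.rankAtStalk (CartDual.D R A') q = p := by
    intro q
    rw [OTk.rankAtStalk_D]
    exact hrk' q
  let f : A ≃ₐ[R] A' := OTl.algEquivOfTheta p R u χ A A' hu hχ hχp hrk hrk' θ hθ
  let θT := OTn.thetaT p R u χ A A' hu hp hp' θ
  let h : CartDual.D R A' ≃ₐ[R] CartDual.D R A :=
    OTl.algEquivOfTheta p R u χ (CartDual.D R A') (CartDual.D R A) hu hχ hχp hrkD' hrkD θT
      (fun φ' ψ' hψ' => hθT p R u χ A A' hu θ hθD hp hp' φ' ψ' hψ')
  have Hf : ∀ x : OortTate.eigenAug R A p χ 1, f (x : A) = (θ x : A') :=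
    OTl.algEquivOfTheta_apply p R u χ A A' hu hχ hχp hrk hrk' θ hθ
  have Hf' : ∀ x' : OortTate.eigenAug R A' p χ 1, f.symm (x' : A') = (θ.symm x' : A) :=
    OTl.algEquivOfTheta_symm_apply p R u χ A A' hu hχ hχp hrk hrk' θ hθ
  have Hh' : ∀ ξ : OortTate.eigenAug R (CartDual.D R A) p χ 1,
      h.symm (ξ : CartDual.D R A) = (θT.symm ξ : CartDual.D R A') :=
    OTl.algEquivOfTheta_symm_apply p R u χ (CartDual.D R A') (CartDual.D R A) hu hχ hχp hrkD' hrkD θT
      (fun φ' ψ' hψ' => hθT p R u χ A A' hu θ hθD hp hp' φ' ψ' hψ')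
  have hcel := G_cel p R u χ A A' hu hχ hχp hrk hrk' θ f h hp hp' Hf' Hf Hh'
  have hdelta := G_delta p R u χ A A' hu hχ hχp f h hp hp' hcel
  exact nonempty_bialgEquiv R A A' f h (transpose_eq R A A' f h hdelta)

end Main

end Groth.Agent.Helper7.OTo
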