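import Mathlib
import Groth.Agent.Helper7.OTo

set_option autoImplicit false
set_option maxHeartbeats 1000000
universe u

namespace Groth.Agent.Helper7.OTp

open TensorProduct WithConv Groth.Agent.Helper7

section Gen

variable (p : ℕ) [Fact p.Prime] (R : Type u) [CommRing R]
  (χ : (ZMod p)ˣ →* Rˣ) (A : Type u) [CommRing A] [HopfAlgebra R A]
  [Coalgebra.IsCocomm R A] [Module.Finite R A] [Module.Projective R A]
  (x : A) (hx : Submodule.span R {x} = OortTate.eigenAug R A p χ 1)
  (ξ : CartDual.D R A) (hξ : Submodule.span R {ξ} = OortTate.eigenAug R (CartDual.D R A) p χ 1)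
  (hxξ : CartDual.toDual R A ξ x = 1)

include hx in
lemma x_mem : x ∈ OortTate.eigenAug R A p χ 1 := by
  rw [← hx]
  exact Submodule.mem_span_singleton_self x

include hξ in
lemma ξ_mem : ξ ∈ OortTate.eigenAug R (CartDual.D R A) p χ 1 := by
  rw [← hξ]
  exact Submodule.mem_span_singleton_self ξ

include hx hxξ in
lemma repr_A {y : A} (hy : y ∈ OortTate.eigenAug R A p χ 1) :
    y = (CartDual.toDual R A ξ y) • x := by
  rw [← hx, Submodule.mem_span_singleton] at hy
  obtain ⟨t, rfl⟩ := hy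
  rw [map_smul, hxξ, smul_eq_mul, mul_one]

include hξ hxξ in
lemma repr_D {φ : CartDual.D R A} (hφ : φ ∈ OortTate.eigenAug R (CartDual.D R A) p χ 1) :
    φ = (CartDual.toDual R A φ x) • ξ := by
  rw [← hξ, Submodule.mem_span_singleton] at hφ
  obtain ⟨t, rfl⟩ := hφ
  rw [map_smul, LinearMap.smul_apply, hxξ, smul_eq_mul, mul_one]

lemma prod_smul_const {B : Type*} [CommRing B] [Algebra R B] (r : Fin p → R) (b : B) :
    ∏ i, (r i • b) = (∏ i, r i) • b ^ p := by
  simp only [Algebra.smul_def]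
  rw [Finset.prod_mul_distrib, Finset.prod_const, Finset.card_univ, Fintype.card_fin, map_prod]

end Gen

section Main

variable (p : ℕ) [Fact p.Prime] (R : Type u) [CommRing R] (u : R)
  (χ : (ZMod p)ˣ →* Rˣ) (A : Type u) [CommRing A] [HopfAlgebra R A]
  [Coalgebra.IsCocomm R A] [Module.Finite R A] [Module.Projective R A]
  (A' : Type u) [CommRing A'] [HopfAlgebra R A']
  [Coalgebra.IsCocomm R A'] [Module.Finite R A'] [Module.Projective R A']
  (hu : u * ((p - 1 : ℕ) : R) = 1)
  (hχ : ∀ m : (ZMod p)ˣ, m ≠ 1 → IsUnit ((χ m : R) - 1))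
  (hχp : ∀ m : (ZMod p)ˣ, ((χ m : Rˣ) : R) - (((m : ZMod p).val : ℕ) : R) ∈
    Ideal.span ({(p : R)} : Set R))
  (hrk : ∀ q : PrimeSpectrum R, Module.rankAtStalk A q = p)
  (hrk' : ∀ q : PrimeSpectrum R, Module.rankAtStalk A' q = p)
  (x : A) (hx : Submodule.span R {x} = OortTate.eigenAug R A p χ 1)
  (ξ : CartDual.D R A) (hξ : Submodule.span R {ξ} = OortTate.eigenAug R (CartDual.D R A) p χ 1)
  (hxξ : CartDual.toDual R A ξ x = 1)
  (x' : A') (hx' : Submodule.span R {x'} = OortTate.eigenAug R A' p χ 1)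
  (ξ' : CartDual.D R A') (hξ' : Submodule.span R {ξ'} = OortTate.eigenAug R (CartDual.D R A') p χ 1)
  (hxξ' : CartDual.toDual R A' ξ' x' = 1)
  (α β α' β' : R) (hα : x ^ p = α • x) (hβ : ξ ^ p = β • ξ) (hα' : x' ^ p = α' • x')
  (hβ' : ξ' ^ p = β' • ξ')
  (v : Rˣ) (hαv : α' = ((v ^ (p - 1) : Rˣ) : R) * α) (hβv : β' = ((v⁻¹ ^ (p - 1) : Rˣ) : R) * β)

/-- the comparison of eigenspaces -/
noncomputable def thetaLin : OortTate.eigenAug R A p χ 1 →ₗ[R] OortTate.eigenAug R A' p χ 1 :=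
  ((CartDual.toDual R A ξ) ∘ₗ (OortTate.eigenAug R A p χ 1).subtype).smulRight
    (((v⁻¹ : Rˣ) : R) • (⟨x', x_mem p R χ A' x' hx'⟩ : OortTate.eigenAug R A' p χ 1))

lemma thetaLin_apply (y : OortTate.eigenAug R A p χ 1) :
    ((thetaLin p R χ A A' ξ x' hx' v y : OortTate.eigenAug R A' p χ 1) : A') =
      (CartDual.toDual R A ξ (y : A) * ((v⁻¹ : Rˣ) : R)) • x' := by
  unfold thetaLin
  rw [LinearMap.smulRight_apply, smul_smul]
  rfl

include hx hxξ hx' hxξ' in
/-- the comparison of eigenspaces as an equivalence -/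
noncomputable def theta : OortTate.eigenAug R A p χ 1 ≃ₗ[R] OortTate.eigenAug R A' p χ 1 :=
  LinearEquiv.ofLinearMap (thetaLin p R χ A A' ξ x' hx' v) (thetaLin p R χ A' A ξ' x hx v⁻¹)
    (by
      apply LinearMap.ext
      intro y'
      apply Subtype.ext
      rw [LinearMap.comp_apply, thetaLin_apply, thetaLin_apply, map_smul, hxξ, inv_inv]
      conv_rhs => rw [LinearMap.id_apply, repr_A p R χ A' x' hx' ξ' hxξ' y'.2]
      congr 1
      rw [smul_eq_mul, mul_one, mul_assoc, Units.mul_inv, mul_one])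
    (by
      apply LinearMap.ext
      intro y
      apply Subtype.ext
      rw [LinearMap.comp_apply, thetaLin_apply, thetaLin_apply, map_smul, hxξ', inv_inv]
      conv_rhs => rw [LinearMap.id_apply, repr_A p R χ A x hx ξ hxξ y.2]
      congr 1
      rw [smul_eq_mul, mul_one, mul_assoc, Units.inv_mul, mul_one])

lemma theta_apply (y : OortTate.eigenAug R A p χ 1) :
    ((theta p R χ A A' x hx ξ hxξ x' hx' ξ' hxξ' v y : OortTate.eigenAug R A' p χ 1) : A') =
      (CartDual.toDual R A ξ (y : A) * ((v⁻¹ : Rˣ) : R)) • x' :=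
  thetaLin_apply p R χ A A' ξ x' hx' v y

include hu hχ hχp hrk hrk' hx hξ hxξ hx' hξ' hxξ' hα hβ hα' hβ' hαv hβv in
/-- **S18475** -/
theorem main : Nonempty (A ≃ₐc[R] A') := by
  have hp2 := (Fact.out : p.Prime).two_le
  have hpp : p = (p - 1) + 1 := by omega
  set θ := theta p R χ A A' x hx ξ hxξ x' hx' ξ' hxξ' v with hθdef
  have hθx : ∀ y : OortTate.eigenAug R A p χ 1, ((θ y : OortTate.eigenAug R A' p χ 1) : A') =
      (CartDual.toDual R A ξ (y : A) * ((v⁻¹ : Rˣ) : R)) • x' :=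
    theta_apply p R χ A A' x hx ξ hxξ x' hx' ξ' hxξ' v
  have hvp : ((v⁻¹ : Rˣ) : R) ^ p * ((v ^ (p - 1) : Rˣ) : R) = ((v⁻¹ : Rˣ) : R) := by
    rw [← Units.val_pow_eq_pow_val, ← Units.val_mul]
    congr 1
    obtain ⟨k, hk⟩ : ∃ k, p = k + 1 := ⟨p - 1, hpp⟩
    rw [hk, Nat.add_sub_cancel, pow_succ, mul_assoc, mul_comm (v⁻¹) _, ← mul_assoc, ← mul_pow,
      inv_mul_cancel, one_pow, one_mul]
  have hvp' : ((v⁻¹ : Rˣ) : R) ^ p = ((v⁻¹ ^ (p - 1) : Rˣ) : R) * ((v⁻¹ : Rˣ) : R) := by
    rw [← Units.val_pow_eq_pow_val, ← Units.val_mul]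
    congr 1
    obtain ⟨k, hk⟩ : ∃ k, p = k + 1 := ⟨p - 1, hpp⟩
    rw [hk, Nat.add_sub_cancel, pow_succ]
  refine OTo.main p R u χ A A' hu hχ hχp hrk hrk' θ ?_ ?_
  · -- compatibility with products in A
    intro f g hg
    have hf : ∀ i, (f i : A) = (CartDual.toDual R A ξ (f i : A)) • x :=
      fun i => repr_A p R χ A x hx ξ hxξ (f i).2
    have hg2 : (g : A) = ((∏ i, CartDual.toDual R A ξ (f i : A)) * α) • x := by
      rw [hg, Finset.prod_congr rfl (fun i _ => hf i), prod_smul_const, hα, smul_smul]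
    have hξg : CartDual.toDual R A ξ (g : A) = (∏ i, CartDual.toDual R A ξ (f i : A)) * α := by
      rw [hg2, map_smul, hxξ, smul_eq_mul, mul_one]
    rw [hθx g, hξg, Finset.prod_congr rfl (fun i _ => hθx (f i)), prod_smul_const, hα', smul_smul,
      Finset.prod_mul_distrib, Finset.prod_const, Finset.card_univ, Fintype.card_fin, hαv]
    congr 1
    have := hvp
    linear_combination (-(∏ i, CartDual.toDual R A ξ (f i : A)) * α) * this
  · -- compatibility with products in the duals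
    intro φ φ' ψ ψ' h1 hψ hψ' y
    have hφ : ∀ i, (φ i : CartDual.D R A) = (CartDual.toDual R A (φ i : CartDual.D R A) x) • ξ :=
      fun i => repr_D p R χ A x ξ hξ hxξ (φ i).2
    have hφ' : ∀ i, (φ' i : CartDual.D R A') =
        (CartDual.toDual R A' (φ' i : CartDual.D R A') x') • ξ' :=
      fun i => repr_D p R χ A' x' ξ' hξ' hxξ' (φ' i).2
    have hrel : ∀ i, CartDual.toDual R A (φ i : CartDual.D R A) x =
        CartDual.toDual R A' (φ' i : CartDual.D R A') x' * ((v⁻¹ : Rˣ) : R) := by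
      intro i
      have := h1 i ⟨x, x_mem p R χ A x hx⟩
      rw [hθx] at this
      simp only [hxξ, one_mul] at this
      rw [this, map_smul, smul_eq_mul, mul_comm]
    have hψ2 : (ψ : CartDual.D R A) =
        ((∏ i, CartDual.toDual R A (φ i : CartDual.D R A) x) * β) • ξ := by
      rw [hψ, Finset.prod_congr rfl (fun i _ => hφ i), prod_smul_const, hβ, smul_smul]
    have hψ2' : (ψ' : CartDual.D R A') =
        ((∏ i, CartDual.toDual R A' (φ' i : CartDual.D R A') x') * β') • ξ' := by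
      rw [hψ', Finset.prod_congr rfl (fun i _ => hφ' i), prod_smul_const, hβ', smul_smul]
    rw [hψ2, hψ2', hθx y]
    have e1 : CartDual.toDual R A (((∏ i, CartDual.toDual R A (φ i : CartDual.D R A) x) * β) • ξ)
        (y : A) = ((∏ i, CartDual.toDual R A (φ i : CartDual.D R A) x) * β) *
          CartDual.toDual R A ξ (y : A) := by
      rw [map_smul, LinearMap.smul_apply, smul_eq_mul]
    have e2 : CartDual.toDual R A'
        (((∏ i, CartDual.toDual R A' (φ' i : CartDual.D R A') x') * β') • ξ')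
        ((CartDual.toDual R A ξ (y : A) * ((v⁻¹ : Rˣ) : R)) • x') =
        (CartDual.toDual R A ξ (y : A) * ((v⁻¹ : Rˣ) : R)) *
          ((∏ i, CartDual.toDual R A' (φ' i : CartDual.D R A') x') * β') := by
      rw [map_smul, map_smul, LinearMap.smul_apply, hxξ', smul_eq_mul, smul_eq_mul, mul_one]
    rw [e1, e2, Finset.prod_congr rfl (fun i _ => hrel i), Finset.prod_mul_distrib,
      Finset.prod_const, Finset.card_univ, Fintype.card_fin, hβv]
    have := hvp'
    linear_combination ((∏ i, CartDual.toDual R A' (φ' i : CartDual.D R A') x') * β *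
      CartDual.toDual R A ξ (y : A)) * this

end Main

end Groth.Agent.Helper7.OTp
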