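import Mathlib
import Groth.Agent.Helper7.Fitt10
import Groth.Agent.Helper8.Idx13
import Groth.Agent.Helper5.FtDim5

set_option linter.style.haveILetI false
set_option linter.unusedSectionVars false

namespace Groth.Agent.Helper7.OmFib

open TensorProduct

universe u

/-- Upper semicontinuity of the fibre dimension of a finite module. -/
theorem finrank_fibre_mono {R : Type u} [CommRing R] (M : Type u) [AddCommGroup M] [Module R M]
    [Module.Finite R M] (q P : Ideal R) [q.IsPrime] [P.IsPrime] (hqP : q ≤ P) :
    Module.finrank q.ResidueField (q.ResidueField ⊗[R] M) ≤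
      Module.finrank P.ResidueField (P.ResidueField ⊗[R] M) := by
  have h1 := (Groth.Agent.Helper7.FittLib.fitt_not_le_iff M
    (Module.finrank P.ResidueField (P.ResidueField ⊗[R] M)) P).1
  have h2 := (Groth.Agent.Helper7.FittLib.fitt_not_le_iff M
    (Module.finrank P.ResidueField (P.ResidueField ⊗[R] M)) q).1
  exact h2.mp (fun h => (h1.mpr le_rfl) (h.trans hqP))

theorem s10902 (k : Type u) [Field k]
    (A : Type u) [CommRing A] [Algebra k A] [Algebra.FiniteType k A] (n : ℕ)
    (P : Ideal A) [P.IsPrime] (q : Ideal A) [q.IsPrime] (hqP : q ≤ P)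
    (hq : (n : WithBot ℕ∞) ≤ ringKrullDim (A ⧸ q)) :
    n ≤ Module.finrank P.ResidueField (P.ResidueField ⊗[A] (Ω[A⁄k])) := by
  refine le_trans ?_ (finrank_fibre_mono (Ω[A⁄k]) q P hqP)
  -- the generic point
  haveI : Algebra.EssFiniteType k q.ResidueField := by
    haveI : Algebra.EssFiniteType A q.ResidueField := inferInstance
    exact Algebra.EssFiniteType.comp k A q.ResidueField
  obtain ⟨hfin, -, hc⟩ := Groth.Agent.Helper8.Idx.cartier_h1 (K := k) (L := q.ResidueField)
  obtain ⟨d, hd1, hd2⟩ := Groth.Agent.Helper5.FtDim.dim_eq_trdeg k (A ⧸ q) q.ResidueField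
  have hn : n ≤ d := by
    rw [hd1] at hq
    exact_mod_cast hq
  have h1 : d ≤ Module.finrank q.ResidueField (Ω[q.ResidueField⁄k]) := by
    rw [hd2] at hc
    simp only [Cardinal.toNat_natCast] at hc
    omega
  have hsurj : Function.Surjective (KaehlerDifferential.mapBaseChange k A q.ResidueField) := by
    haveI : Algebra.FormallyUnramified A (Localization.AtPrime q) :=
      Algebra.FormallyUnramified.of_isLocalization q.primeCompl
    haveI : Algebra.FormallyUnramified (Localization.AtPrime q) q.ResidueField :=
      inferInstanceAs (Algebra.FormallyUnramified (Localization.AtPrime q)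
        (IsLocalRing.ResidueField (Localization.AtPrime q)))
    haveI : Algebra.FormallyUnramified A q.ResidueField :=
      Algebra.FormallyUnramified.comp A (Localization.AtPrime q) q.ResidueField
    rw [← LinearMap.range_eq_top, KaehlerDifferential.range_mapBaseChange, LinearMap.ker_eq_top]
    ext x
    exact Subsingleton.elim _ _
  have h2 := LinearMap.finrank_le_finrank_of_surjective hsurj
  omega

end Groth.Agent.Helper7.OmFib
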