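import Mathlib
import Groth.Agent.Helper7.ModAmitsur

/-!
# Coideal subalgebras: the antipode shear and faithfully flat descent (helper7)
-/

set_option autoImplicit false
set_option linter.unusedSectionVars false
set_option linter.style.haveILetI false
universe u

namespace Groth.Agent.Helper7.OrbFin

open TensorProduct

section theta

variable {k : Type u} [Field k] {A : Type u} [CommRing A] [HopfAlgebra k A] (B : Subalgebra k A)

/-- `a ↦ Σ S(a₂) ⊗_B a₁` -/
noncomputable def theta : A →ₐ[k] A ⊗[B] A :=
  (Algebra.TensorProduct.mapOfCompatibleSMul B k k A A).comp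
    ((Algebra.TensorProduct.map (HopfAlgebra.antipodeAlgHom k A) (AlgHom.id k A)).comp
      ((Algebra.TensorProduct.comm k A A).toAlgHom.comp (Bialgebra.comulAlgHom k A)))

theorem theta_apply (a : A) :
    theta B a = (Algebra.TensorProduct.mapOfCompatibleSMul B k k A A)
      ((Algebra.TensorProduct.map (HopfAlgebra.antipodeAlgHom k A) (AlgHom.id k A))
        ((Algebra.TensorProduct.comm k A A) (Coalgebra.comul (R := k) a))) := rfl

theorem theta_groupLike (χ : A) (hχ : IsGroupLikeElem k χ) :
    theta B χ = (HopfAlgebra.antipode k χ) ⊗ₜ[B] χ := by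
  rw [theta_apply, hχ.comul_eq_tmul_self]
  simp

/-- on a right coideal subalgebra the shear is the counit -/
theorem theta_of_mem (b : A)
    (hb : Coalgebra.comul (R := k) b ∈ LinearMap.range (LinearMap.rTensor A B.val.toLinearMap)) :
    theta B b = algebraMap k (A ⊗[B] A) (Coalgebra.counit (R := k) b) := by
  obtain ⟨t, ht⟩ := hb
  rw [theta_apply, ← ht]
  have key : ∀ t : B ⊗[k] A,
      (Algebra.TensorProduct.mapOfCompatibleSMul B k k A A)
        ((Algebra.TensorProduct.map (HopfAlgebra.antipodeAlgHom k A) (AlgHom.id k A))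
          ((Algebra.TensorProduct.comm k A A) (LinearMap.rTensor A B.val.toLinearMap t))) =
        (LinearMap.mul' k A ((HopfAlgebra.antipode k).lTensor A
          (LinearMap.rTensor A B.val.toLinearMap t))) ⊗ₜ[B] (1 : A) := by
    intro t
    induction t using TensorProduct.induction_on with
    | zero => simp
    | tmul b' a =>
      simp only [LinearMap.rTensor_tmul, AlgHom.toLinearMap_apply, Subalgebra.coe_val,
        Algebra.TensorProduct.comm_tmul, Algebra.TensorProduct.map_tmul, AlgHom.coe_id, id_eq,
        Algebra.TensorProduct.mapOfCompatibleSMul_tmul, LinearMap.lTensor_tmul,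
        LinearMap.mul'_apply]
      have h1 : (HopfAlgebra.antipodeAlgHom k A) a ⊗ₜ[B] (b' : A) =
          (b' • (HopfAlgebra.antipodeAlgHom k A) a) ⊗ₜ[B] (1 : A) := by
        rw [TensorProduct.smul_tmul]
        congr 1
        rw [Algebra.smul_def, mul_one]
        rfl
      rw [h1]
      congr 1
    | add t₁ t₂ h₁ h₂ =>
      simp only [map_add, h₁, h₂, TensorProduct.add_tmul]
  rw [key t, ht, HopfAlgebra.mul_antipode_lTensor_comul_apply, Algebra.algebraMap_eq_smul_one,
    Algebra.algebraMap_eq_smul_one, ← TensorProduct.smul_tmul', Algebra.TensorProduct.one_def]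

end theta

section descent

variable {k : Type u} [Field k] {A : Type u} [CommRing A] [Algebra k A] (B : Subalgebra k A)

/-- faithfully flat descent for elements -/
theorem mem_of_tmul_eq [Module.FaithfullyFlat B A] (a : A)
    (h : a ⊗ₜ[B] (1 : A) = (1 : A) ⊗ₜ[B] a) : a ∈ B := by
  have hex := ModAmitsur.amitsur_exact B A B
  have h1 : ModAmitsur.d B A B (a ⊗ₜ[B] (1 : B)) = 0 := by
    rw [ModAmitsur.d_tmul, h, sub_self, TensorProduct.zero_tmul]
  obtain ⟨b, hb⟩ := (hex _).mp h1
  have h2 := congrArg (TensorProduct.rid B A) hb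
  simp only [ModAmitsur.ι, TensorProduct.mk_apply, TensorProduct.rid_tmul, one_smul] at h2
  have h3 : (b : A) = a := by
    rw [← h2, Algebra.smul_def, mul_one]
    rfl
  rw [← h3]
  exact b.2

end descent

end Groth.Agent.Helper7.OrbFin
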