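import Mathlib
import Groth.Agent.Helper7.OrbFinL
import Groth.Agent.Helper7.ComodC

/-!
# Right translations on the coordinate ring of a group and the orbit map (helper7)
-/

set_option autoImplicit false
set_option linter.unusedSectionVars false
set_option linter.style.haveILetI false
universe u

namespace Groth.Agent.Helper7.OrbFin

open PrimeSpectrum Topology TensorProduct Groth.Agent.Helper9

section regular

variable {k : Type u} [Field k] {A : Type u} [CommRing A] [HopfAlgebra k A]

theorem isCoactAlg_regular : GLin.IsCoactAlg k A A :=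
  ⟨Bialgebra.comul_one, fun f g => Bialgebra.comul_mul f g⟩

attribute [local instance] isCoactAlg_regular

/-- right translation by a rational point -/
noncomputable def rho (g : A →ₐ[k] k) : A →ₐ[k] A :=
  (slAlg (R := A) g).comp (Bialgebra.comulAlgHom k A)

theorem rho_apply (g : A →ₐ[k] k) (a : A) : rho g a = HopfRep.Comod.act k A A g a :=
  slAlg_apply g _

theorem rho_rho (g h : A →ₐ[k] k) (a : A) :
    rho g (rho h a) = rho (WithConv.toConv g * WithConv.toConv h).ofConv a := by
  rw [rho_apply, rho_apply, rho_apply]
  have h1 := act_comp (k := k) (C := A) (V := A) g.toLinearMap h.toLinearMap a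
  have h2 : conv g.toLinearMap h.toLinearMap =
      ((WithConv.toConv g * WithConv.toConv h).ofConv).toLinearMap := by
    apply LinearMap.ext
    intro c
    exact (convMul_apply_eq g h c).symm
  rw [h2] at h1
  exact h1

theorem rho_one (a : A) : rho (1 : WithConv (A →ₐ[k] k)).ofConv a = a := by
  rw [rho_apply]
  exact act_counit (k := k) (C := A) (V := A) a

theorem rho_rho_inv (g : A →ₐ[k] k) (a : A) : rho g (rho ((WithConv.toConv g)⁻¹).ofConv a) = a := by
  rw [rho_rho]
  have : WithConv.toConv g * WithConv.toConv ((WithConv.toConv g)⁻¹).ofConv = 1 :=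
    mul_inv_cancel (WithConv.toConv g)
  rw [this, rho_one]

theorem rho_inv_rho (g : A →ₐ[k] k) (a : A) : rho ((WithConv.toConv g)⁻¹).ofConv (rho g a) = a := by
  rw [rho_rho]
  have : WithConv.toConv ((WithConv.toConv g)⁻¹).ofConv * WithConv.toConv g = 1 :=
    inv_mul_cancel (WithConv.toConv g)
  rw [this, rho_one]

/-- right translation as an automorphism -/
noncomputable def rhoEquiv (g : A →ₐ[k] k) : A ≃ₐ[k] A :=
  AlgEquiv.ofAlgHom (rho g) (rho ((WithConv.toConv g)⁻¹).ofConv)
    (AlgHom.ext (rho_rho_inv g)) (AlgHom.ext (rho_inv_rho g))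

theorem comp_rho (h g : A →ₐ[k] k) :
    h.comp (rho g) = (WithConv.toConv h * WithConv.toConv g).ofConv := by
  apply AlgHom.ext
  intro a
  rw [convMul_apply_eq]
  show h (rho g a) = _
  rw [rho_apply]
  show h (TensorProduct.rid k A (g.toLinearMap.lTensor A (Coalgebra.comul (R := k) a))) =
    TensorProduct.lid k k (TensorProduct.map h.toLinearMap g.toLinearMap (Coalgebra.comul (R := k) a))
  generalize Coalgebra.comul (R := k) a = t
  induction t using TensorProduct.induction_on with
  | zero => simp
  | tmul a b => simp [mul_comm]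
  | add x y hx hy => simp only [map_add, hx, hy]

end regular

section orbit

variable {k : Type u} [Field k] {A : Type u} [CommRing A] [HopfAlgebra k A]
variable {R : Type u} [CommRing R] [Algebra k R] [HopfRep.Comod k A R] [GLin.IsCoactAlg k A R]

attribute [local instance] isCoactAlg_regular

theorem comul_orbitHom (x : R →ₐ[k] k) (r : R) :
    CoalgebraStruct.comul (R := k) (GLin.orbitHom k A x r) =
      LinearMap.rTensor A (GLin.orbitHom k A x).toLinearMap
        (HopfRep.Comod.coact (k := k) (A := A) r) := by
  have h := LinearMap.congr_fun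
    (Groth.Agent.Helper7.Comodule.phi_isComodHom (C := A) (V := R) x.toLinearMap) r
  exact h

theorem slAlg_rTensor (φ : R →ₐ[k] A) (g : A →ₐ[k] k) (t : R ⊗[k] A) :
    slAlg (R := A) g (LinearMap.rTensor A φ.toLinearMap t) = φ (slAlg (R := R) g t) := by
  induction t using TensorProduct.induction_on with
  | zero => simp
  | tmul r a => simp [slAlg]
  | add x y hx hy => simp only [map_add, hx, hy]

/-- the orbit map intertwines the action with right translation -/
theorem rho_orbitHom (x : R →ₐ[k] k) (g : A →ₐ[k] k) (f : R) :
    rho g (GLin.orbitHom k A x f) = GLin.orbitHom k A x (HopfRep.Comod.act k A R g f) := by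
  show slAlg (R := A) g (Coalgebra.comul (R := k) (GLin.orbitHom k A x f)) = _
  rw [comul_orbitHom, slAlg_rTensor, slAlg_coact]

theorem comul_mem_range (x : R →ₐ[k] k) (b : A) (hb : b ∈ (GLin.orbitHom k A x).range) :
    Coalgebra.comul (R := k) b ∈
      LinearMap.range (LinearMap.rTensor A (GLin.orbitHom k A x).range.val.toLinearMap) := by
  obtain ⟨f, rfl⟩ := hb
  rw [show Coalgebra.comul (R := k) ((GLin.orbitHom k A x).toRingHom f) =
    CoalgebraStruct.comul (R := k) (GLin.orbitHom k A x f) from rfl, comul_orbitHom]
  have hfac : (GLin.orbitHom k A x).toLinearMap =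
      (GLin.orbitHom k A x).range.val.toLinearMap ∘ₗ (GLin.orbitHom k A x).rangeRestrict.toLinearMap := by
    apply LinearMap.ext; intro r; rfl
  rw [hfac, LinearMap.rTensor_comp]
  exact ⟨_, rfl⟩

end orbit

end Groth.Agent.Helper7.OrbFin
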