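import Mathlib
import Groth.Agent.Helper7.OrbFinN
import Groth.Agent.Helper7.OrbFinM
import Groth.Agent.Helper5.GenFlat1

/-!
# The group is faithfully flat over a closed orbit (helper7)
-/

set_option autoImplicit false
set_option linter.unusedSectionVars false
set_option linter.style.haveILetI false
universe u

namespace Groth.Agent.Helper7.OrbFin

open PrimeSpectrum Topology TensorProduct Groth.Agent.Helper9

section flat

variable {k : Type u} [Field k] [IsAlgClosed k] {A : Type u} [CommRing A] [IsDomain A]
  [HopfAlgebra k A] [Algebra.FiniteType k A]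
variable {R : Type u} [CommRing R] [Algebra k R] [Algebra.FiniteType k R] [HopfRep.Comod k A R]
  [GLin.IsCoactAlg k A R]

/-- translation restricted to the coordinate ring of the orbit -/
noncomputable def trB (x : R →ₐ[k] k) (g : A →ₐ[k] k) :
    (GLin.orbitHom k A x).range →ₐ[k] (GLin.orbitHom k A x).range :=
  ((rho g).comp (GLin.orbitHom k A x).range.val).codRestrict (GLin.orbitHom k A x).range (by
    rintro ⟨b, f, rfl⟩
    exact ⟨HopfRep.Comod.act k A R g f, (rho_orbitHom x g f).symm⟩)

theorem trB_val (x : R →ₐ[k] k) (g : A →ₐ[k] k) (b : (GLin.orbitHom k A x).range) :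
    (trB x g b : A) = rho g (b : A) := rfl

theorem trB_bijective (x : R →ₐ[k] k) (g : A →ₐ[k] k) : Function.Bijective (trB x g) := by
  refine Function.bijective_iff_has_inverse.mpr ⟨trB x ((WithConv.toConv g)⁻¹).ofConv, ?_, ?_⟩
  · intro b
    apply Subtype.ext
    rw [trB_val, trB_val, rho_inv_rho]
  · intro b
    apply Subtype.ext
    rw [trB_val, trB_val, rho_rho_inv]

/-- the coordinate ring of the group is flat over the coordinate ring of an orbit closure -/
theorem flat_orbit (x : R →ₐ[k] k) : Module.Flat (GLin.orbitHom k A x).range A := by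
  classical
  set B := (GLin.orbitHom k A x).range with hB
  haveI : Algebra.FiniteType k B :=
    Algebra.FiniteType.of_surjective (GLin.orbitHom k A x).rangeRestrict
      (GLin.orbitHom k A x).rangeRestrict_surjective
  haveI : Algebra.FiniteType B A := Algebra.FiniteType.of_restrictScalars_finiteType k B A
  obtain ⟨b₀, hb₀, hflat⟩ := Groth.Agent.Helper5.GenFlat.exists_flat_localizations
    (R := B) (A := A) (M := A)
  -- a rational point where `b₀` does not vanish
  obtain ⟨h₀, hh₀⟩ : ∃ h₀ : A →ₐ[k] k, h₀ (b₀ : A) ≠ 0 := by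
    by_contra hcon
    push Not at hcon
    apply hb₀
    apply Subtype.ext
    exact Groth.Agent.Helper2.PtsDense.eq_zero_of_forall_algHom' (k := k) _ hcon
  refine Module.flat_of_isLocalized_maximal A A (fun P _ => Localization.AtPrime P)
    (fun P _ => Algebra.linearMap A (Localization.AtPrime P)) ?_
  intro M hM
  obtain ⟨h, hh⟩ := exists_algHom_ker_eq (k := k) M hM
  set g : A →ₐ[k] k := ((WithConv.toConv h)⁻¹ * WithConv.toConv h₀).ofConv with hg
  have hcomp : h.comp (rho g) = h₀ := by
    rw [comp_rho]
    show (WithConv.toConv h * ((WithConv.toConv h)⁻¹ * WithConv.toConv h₀)).ofConv = h₀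
    rw [mul_inv_cancel_left]
  set M₀ : Ideal A := RingHom.ker h₀ with hM₀
  haveI hM₀prime : M₀.IsPrime := RingHom.ker_isPrime h₀
  have hmem : ∀ a : A, a ∈ M₀ ↔ rho g a ∈ M := by
    intro a
    rw [hM₀, RingHom.mem_ker, ← hh, RingHom.mem_ker, ← hcomp]
    rfl
  have hb₀M₀ : algebraMap B A b₀ ∈ M₀.primeCompl := by
    show (b₀ : A) ∉ M₀
    rw [hM₀, RingHom.mem_ker]
    exact hh₀
  have hfl₀ : Module.Flat B (Localization.AtPrime M₀) :=
    hflat M₀.primeCompl hb₀M₀ (Localization.AtPrime M₀)
      (Algebra.linearMap A (Localization.AtPrime M₀))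
  -- transport along the translation
  let ρ : A ≃+* A := (rhoEquiv g).toRingEquiv
  have hρ : ∀ a, ρ a = rho g a := fun a => rfl
  have H : M₀.primeCompl.map ρ.toMonoidHom = M.primeCompl := by
    ext y
    constructor
    · rintro ⟨a, ha, rfl⟩
      show ρ a ∉ M
      rw [hρ, ← hmem]
      exact ha
    · intro hy
      refine ⟨ρ.symm y, ?_, ρ.apply_symm_apply y⟩
      show ρ.symm y ∉ M₀
      rw [hmem, ← hρ, ρ.apply_symm_apply]
      exact hy
  let e : Localization.AtPrime M₀ ≃+* Localization.AtPrime M :=
    IsLocalization.ringEquivOfRingEquiv (Localization.AtPrime M₀) (Localization.AtPrime M) ρ H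
  have hfac : algebraMap B (Localization.AtPrime M) =
      (e.toRingHom.comp (algebraMap B (Localization.AtPrime M₀))).comp
        (trB x ((WithConv.toConv g)⁻¹).ofConv).toRingHom := by
    apply RingHom.ext
    intro b
    show _ = e (algebraMap B (Localization.AtPrime M₀) (trB x ((WithConv.toConv g)⁻¹).ofConv b))
    rw [IsScalarTower.algebraMap_apply B A (Localization.AtPrime M₀),
      IsScalarTower.algebraMap_apply B A (Localization.AtPrime M)]
    have h1 : algebraMap B A (trB x ((WithConv.toConv g)⁻¹).ofConv b) =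
        rho ((WithConv.toConv g)⁻¹).ofConv (b : A) := rfl
    rw [h1]
    have h2 := IsLocalization.ringEquivOfRingEquiv_eq (S := Localization.AtPrime M₀)
      (Q := Localization.AtPrime M) (j := ρ) H (rho ((WithConv.toConv g)⁻¹).ofConv (b : A))
    rw [show e = IsLocalization.ringEquivOfRingEquiv (Localization.AtPrime M₀)
      (Localization.AtPrime M) ρ H from rfl, h2, hρ, rho_rho_inv]
    rfl
  have hflatM : (algebraMap B (Localization.AtPrime M)).Flat := by
    rw [hfac]
    refine RingHom.Flat.comp (RingHom.Flat.of_bijective (trB_bijective x _)) ?_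
    refine RingHom.Flat.comp ?_ (RingHom.Flat.of_bijective e.bijective)
    exact RingHom.flat_algebraMap_iff.mpr hfl₀
  exact RingHom.flat_algebraMap_iff.mp hflatM

/-- for a closed orbit the coordinate ring of the group is faithfully flat over that of the orbit -/
theorem faithfullyFlat_orbit (x : R →ₐ[k] k) (hcl : PtClosed (A := A) x) :
    Module.FaithfullyFlat (GLin.orbitHom k A x).range A := by
  haveI := flat_orbit (A := A) x
  set B := (GLin.orbitHom k A x).range with hB
  haveI : Algebra.FiniteType k B :=
    Algebra.FiniteType.of_surjective (GLin.orbitHom k A x).rangeRestrict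
      (GLin.orbitHom k A x).rangeRestrict_surjective
  refine ⟨fun m hm => ?_⟩
  obtain ⟨w, hw⟩ := exists_algHom_ker_eq (k := k) m hm
  set z : R →ₐ[k] k := w.comp (GLin.orbitHom k A x).rangeRestrict with hz
  have hzcl : GLin.InOrbitClosure k A x z := by
    intro f hf
    rw [RingHom.mem_ker] at hf ⊢
    show w ((GLin.orbitHom k A x).rangeRestrict f) = 0
    have : (GLin.orbitHom k A x).rangeRestrict f = 0 := Subtype.ext hf
    rw [this, map_zero]
  obtain ⟨g, hg⟩ := hcl z hzcl
  have hwg : ∀ b : B, w b = g (b : A) := by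
    rintro ⟨b, f, rfl⟩
    have := congrArg (fun σ => σ f) hg
    exact this
  have hm' : m = Ideal.comap (algebraMap B A) (RingHom.ker g) := by
    rw [← hw]
    ext b
    rw [RingHom.mem_ker, Ideal.mem_comap, RingHom.mem_ker, hwg]
    rfl
  rw [Ideal.smul_top_eq_map, hm']
  exact (Submodule.restrictScalars_eq_top_iff _ _ _).ne.mpr
    fun top => (RingHom.ker_ne_top g.toRingHom) <| top_le_iff.mp <| top ▸ Ideal.map_comap_le

end flat

end Groth.Agent.Helper7.OrbFin
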