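import Mathlib
import Groth.Agent.Helper7.OrbFinO

/-!
# Characters trivial on the stabiliser of a closed orbit come from semi-invariants (helper7)
-/

set_option autoImplicit false
set_option linter.unusedSectionVars false
set_option linter.style.haveILetI false
universe u

namespace Groth.Agent.Helper7.OrbFin

open PrimeSpectrum Topology TensorProduct Groth.Agent.Helper9

section

variable {k : Type u} [Field k] {A : Type u} [CommRing A] [HopfAlgebra k A]
variable {R : Type u} [CommRing R] [Algebra k R] [HopfRep.Comod k A R] [GLin.IsCoactAlg k A R]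

theorem counit_orbitHom (x : R →ₐ[k] k) (f : R) :
    Coalgebra.counit (R := k) (GLin.orbitHom k A x f) = x f := by
  have h1 : GLin.actPt k (1 : WithConv (A →ₐ[k] k)).ofConv x f = x f := by rw [actPt_one]
  exact h1

/-- the orbit map on a semi-invariant -/
theorem orbitHom_eigen (x : R →ₐ[k] k) (χ : A) (h : R) (hh : h ∈ HopfRep.eigenspace k A R χ) :
    GLin.orbitHom k A x h = x h • χ := by
  have h1 : HopfRep.Comod.coact (k := k) (A := A) h = h ⊗ₜ[k] χ := hh
  show TensorProduct.lid k A (TensorProduct.map x.toLinearMap LinearMap.id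
    (HopfRep.Comod.coact (k := k) (A := A) h)) = _
  rw [h1]
  simp

/-- a semi-invariant not vanishing at `x` forces its weight to be trivial on the stabiliser -/
theorem sub_one_mem_stabIdeal (x : R →ₐ[k] k) (χ : A) (h : R)
    (hh : h ∈ HopfRep.eigenspace k A R χ) (hx : x h ≠ 0) : χ - 1 ∈ GLin.stabIdeal k A x := by
  have hmem : h - algebraMap k R (x h) ∈ RingHom.ker x := by
    rw [RingHom.mem_ker, map_sub, AlgHom.commutes]
    simp
  have h1 : GLin.orbitHom k A x (h - algebraMap k R (x h)) ∈ GLin.stabIdeal k A x :=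
    Ideal.mem_map_of_mem _ hmem
  rw [map_sub, orbitHom_eigen x χ h hh, AlgHom.commutes, Algebra.algebraMap_eq_smul_one,
    ← smul_sub] at h1
  have h2 := (GLin.stabIdeal k A x).mul_mem_left (algebraMap k A (x h)⁻¹) h1
  rw [Algebra.smul_def, ← mul_assoc, ← map_mul, inv_mul_cancel₀ hx, map_one, one_mul] at h2
  exact h2

end

section

variable {k : Type u} [Field k] [IsAlgClosed k] {A : Type u} [CommRing A] [IsDomain A]
  [HopfAlgebra k A] [Algebra.FiniteType k A]
variable {R : Type u} [CommRing R] [Algebra k R] [Algebra.FiniteType k R] [HopfRep.Comod k A R]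
  [GLin.IsCoactAlg k A R]

/-- a character trivial on the (scheme-theoretic) stabiliser of a closed orbit is a regular function
on the orbit -/
theorem groupLike_mem_range (x : R →ₐ[k] k) (hcl : PtClosed (A := A) x) (χ : A)
    (hχ : IsGroupLikeElem k χ) (hχx : χ - 1 ∈ GLin.stabIdeal k A x) :
    χ ∈ (GLin.orbitHom k A x).range := by
  haveI := faithfullyFlat_orbit (A := A) x hcl
  set B := (GLin.orbitHom k A x).range with hB
  have hker : GLin.stabIdeal k A x ≤ RingHom.ker (theta B) := by
    unfold GLin.stabIdeal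
    rw [Ideal.map_le_iff_le_comap]
    intro f hf
    rw [Ideal.mem_comap, RingHom.mem_ker]
    show theta B (GLin.orbitHom k A x f) = 0
    have hmemB : GLin.orbitHom k A x f ∈ (GLin.orbitHom k A x).range := ⟨f, rfl⟩
    rw [theta_of_mem B _ (comul_mem_range x _ hmemB), counit_orbitHom,
      (RingHom.mem_ker).mp hf, map_zero]
  have h1 : theta B χ = 1 := by
    have := hker hχx
    rw [RingHom.mem_ker, map_sub, map_one, sub_eq_zero] at this
    exact this
  rw [theta_groupLike B χ hχ] at h1
  apply mem_of_tmul_eq B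
  have h2 : (χ ⊗ₜ[B] (1 : A)) * ((HopfAlgebra.antipode k χ) ⊗ₜ[B] χ) = (1 : A) ⊗ₜ[B] χ := by
    rw [Algebra.TensorProduct.tmul_mul_tmul, hχ.mul_antipode_cancel, one_mul]
  rw [h1, mul_one] at h2
  exact h2

/-- a character trivial on the stabiliser of a closed orbit is the weight of a semi-invariant not
vanishing on the orbit -/
theorem exists_eigen_of_mem_stabIdeal (hG : HopfRep.IsLinearlyReductive k A) (x : R →ₐ[k] k)
    (hcl : PtClosed (A := A) x) (χ : A) (hχ : IsGroupLikeElem k χ)
    (hχx : χ - 1 ∈ GLin.stabIdeal k A x) :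
    ∃ h ∈ HopfRep.eigenspace k A R χ, x h = 1 := by
  obtain ⟨f, hf⟩ := groupLike_mem_range x hcl χ hχ hχx
  have hf' : GLin.orbitHom k A x f = χ := hf
  have hss : HopfRep.IsSemisimpleComod k A R :=
    fun W hW => Groth.Agent.Helper2.LinRedSplit.exists_compl hG W hW
  obtain ⟨C, hC, hcompl⟩ := hss _ (isSubcomod_ker_orbitHom (A := A) x)
  -- decompose `f`
  have htop : f ∈ (RingHom.ker (GLin.orbitHom k A x)).restrictScalars k ⊔ C := by
    rw [hcompl.sup_eq_top]; trivial
  obtain ⟨j, hj, c, hc, hjc⟩ := Submodule.mem_sup.mp htop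
  have hj' : GLin.orbitHom k A x j = 0 := hj
  have hφc : GLin.orbitHom k A x c = χ := by
    rw [← hf', ← hjc, map_add, hj', zero_add]
  refine ⟨c, ?_, ?_⟩
  · -- `c` is a semi-invariant of weight `χ`
    obtain ⟨t, ht⟩ := hC c hc
    let ψ : C →ₗ[k] A := (GLin.orbitHom k A x).toLinearMap ∘ₗ C.subtype
    have hψ : Function.Injective ψ := by
      rw [← LinearMap.ker_eq_bot, LinearMap.ker_eq_bot']
      intro c' hc'
      have h1 : (c' : R) ∈ (RingHom.ker (GLin.orbitHom k A x)).restrictScalars k := hc'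
      have h2 : (c' : R) ∈ (RingHom.ker (GLin.orbitHom k A x)).restrictScalars k ⊓ C :=
        ⟨h1, c'.2⟩
      rw [hcompl.inf_eq_bot] at h2
      exact Subtype.ext ((Submodule.mem_bot k).mp h2)
    have hψA : Function.Injective (LinearMap.rTensor A ψ) :=
      Module.Flat.rTensor_preserves_injective_linearMap ψ hψ
    have h1 : LinearMap.rTensor A ψ t = LinearMap.rTensor A ψ ((⟨c, hc⟩ : C) ⊗ₜ[k] χ) := by
      have e1 : LinearMap.rTensor A ψ t =
          LinearMap.rTensor A (GLin.orbitHom k A x).toLinearMap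
            (HopfRep.Comod.coact (k := k) (A := A) c) := by
        rw [← ht, ← LinearMap.comp_apply, ← LinearMap.rTensor_comp]
      rw [e1, ← comul_orbitHom, hφc]
      show Coalgebra.comul (R := k) χ = _
      rw [hχ.comul_eq_tmul_self, LinearMap.rTensor_tmul]
      show χ ⊗ₜ[k] χ = (GLin.orbitHom k A x c) ⊗ₜ[k] χ
      rw [hφc]
    have h2 := hψA h1
    show HopfRep.Comod.coact (k := k) (A := A) c = c ⊗ₜ[k] χ
    rw [← ht, h2, LinearMap.rTensor_tmul]
    rfl
  · rw [← counit_orbitHom (A := A), hφc]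
    exact hχ.counit_eq_one

/-- **triviality of a character on the stabilisers of closed orbits is an open condition** -/
theorem exists_invariants_character (hG : HopfRep.IsLinearlyReductive k A) (χ : A)
    (hχ : IsGroupLikeElem k χ) :
    ∃ E : Set R, E ⊆ (GLin.invariants k A R : Set R) ∧
      ∀ x : R →ₐ[k] k, GLin.IsClosedOrbit k A x →
        (χ - 1 ∈ GLin.stabIdeal k A x ↔ ∃ f ∈ E, x f ≠ 0) := by
  refine ⟨{f | ∃ h ∈ HopfRep.eigenspace k A R χ,
    ∃ h' ∈ HopfRep.eigenspace k A R (HopfAlgebra.antipode k χ), f = h * h'}, ?_, ?_⟩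
  · rintro f ⟨h, hh, h', hh', rfl⟩
    have e1 : HopfRep.Comod.coact (k := k) (A := A) h = h ⊗ₜ[k] χ := hh
    have e2 : HopfRep.Comod.coact (k := k) (A := A) h' = h' ⊗ₜ[k] (HopfAlgebra.antipode k χ) := hh'
    show HopfRep.Comod.coact (k := k) (A := A) (h * h') = (h * h') ⊗ₜ[k] (1 : A)
    rw [GLin.IsCoactAlg.coact_mul, e1, e2, Algebra.TensorProduct.tmul_mul_tmul,
      hχ.mul_antipode_cancel]
  · intro x hx
    have hcl : PtClosed (A := A) x := (isClosedOrbit_iff_ptClosed x).mp hx
    constructor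
    · intro hχx
      have hχ' : IsGroupLikeElem k (HopfAlgebra.antipode k χ) := hχ.antipode
      have hχx' : HopfAlgebra.antipode k χ - 1 ∈ GLin.stabIdeal k A x := by
        have h1 := (GLin.stabIdeal k A x).mul_mem_left (-(HopfAlgebra.antipode k χ)) hχx
        have h2 : -(HopfAlgebra.antipode k χ) * (χ - 1) = HopfAlgebra.antipode k χ - 1 := by
          rw [mul_sub, neg_mul, hχ.antipode_mul_cancel]
          ring
        rwa [h2] at h1
      obtain ⟨h, hh, hxh⟩ := exists_eigen_of_mem_stabIdeal hG x hcl χ hχ hχx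
      obtain ⟨h', hh', hxh'⟩ := exists_eigen_of_mem_stabIdeal hG x hcl _ hχ' hχx'
      refine ⟨h * h', ⟨h, hh, h', hh', rfl⟩, ?_⟩
      rw [map_mul, hxh, hxh', mul_one]
      exact one_ne_zero
    · rintro ⟨f, ⟨h, hh, h', -, rfl⟩, hxf⟩
      rw [map_mul] at hxf
      exact sub_one_mem_stabIdeal x χ h hh (left_ne_zero_of_mul hxf)

end

end Groth.Agent.Helper7.OrbFin
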