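import Mathlib
set_option autoImplicit false
universe u v
open CategoryTheory CategoryTheory.Limits

namespace Groth.Agent.Helper7.PBQuot

theorem isPullback (A : Type u) [CommRing A] (M : Type v) [AddCommGroup M] [Module A M]
    (P Q : Submodule A M) :
    IsPullback (ModuleCat.ofHom (Submodule.factor (inf_le_left : P ⊓ Q ≤ P)))
      (ModuleCat.ofHom (Submodule.factor (inf_le_right : P ⊓ Q ≤ Q)))
      (ModuleCat.ofHom (Submodule.factor (le_sup_left : P ≤ P ⊔ Q)))
      (ModuleCat.ofHom (Submodule.factor (le_sup_right : Q ≤ P ⊔ Q))) := by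
  have hw : ModuleCat.ofHom (Submodule.factor (inf_le_left : P ⊓ Q ≤ P)) ≫
      ModuleCat.ofHom (Submodule.factor (le_sup_left : P ≤ P ⊔ Q)) =
      ModuleCat.ofHom (Submodule.factor (inf_le_right : P ⊓ Q ≤ Q)) ≫
      ModuleCat.ofHom (Submodule.factor (le_sup_right : Q ≤ P ⊔ Q)) := by
    ext x
    rfl
  apply IsPullback.of_map (forget (ModuleCat A)) hw
  rw [Types.isPullback_iff]
  refine ⟨?_, ?_, ?_⟩
  · rw [← Functor.map_comp, ← Functor.map_comp, hw]
  · rintro x y ⟨h1, h2⟩
    obtain ⟨m, rfl⟩ := Submodule.Quotient.mk_surjective _ x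
    obtain ⟨m', rfl⟩ := Submodule.Quotient.mk_surjective _ y
    have h1' : (Submodule.Quotient.mk m : M ⧸ P) = Submodule.Quotient.mk m' := h1
    have h2' : (Submodule.Quotient.mk m : M ⧸ Q) = Submodule.Quotient.mk m' := h2
    rw [Submodule.Quotient.eq] at h1' h2' ⊢
    exact ⟨h1', h2'⟩
  · intro x y hxy
    obtain ⟨m1, rfl⟩ := Submodule.Quotient.mk_surjective _ x
    obtain ⟨m2, rfl⟩ := Submodule.Quotient.mk_surjective _ y
    have h' : (Submodule.Quotient.mk m1 : M ⧸ (P ⊔ Q)) = Submodule.Quotient.mk m2 := hxy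
    rw [Submodule.Quotient.eq, Submodule.mem_sup] at h'
    obtain ⟨p, hp, q, hq, hpq⟩ := h'
    refine ⟨Submodule.Quotient.mk (m1 - p), ?_, ?_⟩
    · show (Submodule.Quotient.mk (m1 - p) : M ⧸ P) = Submodule.Quotient.mk m1
      rw [Submodule.Quotient.eq]
      simpa using P.neg_mem hp
    · show (Submodule.Quotient.mk (m1 - p) : M ⧸ Q) = Submodule.Quotient.mk m2
      rw [Submodule.Quotient.eq]
      have : m1 - p - m2 = q := by
        calc m1 - p - m2 = (m1 - m2) - p := by abel
          _ = q := by rw [← hpq]; abel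
      rw [this]; exact hq

end Groth.Agent.Helper7.PBQuot
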