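import Mathlib

/-!
# A special case of Jacobson's formula

In a ring `R` with `p = 0` (`p` prime): if `y` commutes with all `(ad x)^i y`, then
`(x + y)^p = x^p + y^p + (ad x)^(p-1) y`.
-/

namespace Groth.Agent.Helper7.PCa

open Polynomial Finset

section Choose

variable {R : Type*} [Ring R] (p : ℕ) [hp : Fact p.Prime]

theorem choose_pred_eq (hpR : (p : R) = 0) (i : ℕ) (hi : i ≤ p - 1) :
    ((p - 1).choose i : R) = (-1) ^ i := by
  have hp1 : 1 ≤ p := hp.out.one_lt.le
  induction i with
  | zero => simp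
  | succ i ih =>
    have h1 : (p - 1).choose i + (p - 1).choose (i + 1) = p.choose (i + 1) := by
      have := Nat.choose_succ_succ (p - 1) i
      rw [Nat.succ_eq_add_one, Nat.sub_add_cancel hp1] at this
      exact this.symm
    have h2 : (p.choose (i + 1) : R) = 0 := by
      obtain ⟨c, hc⟩ := hp.out.dvd_choose_self (Nat.succ_ne_zero i) (by omega)
      rw [hc]; push_cast; rw [hpR, zero_mul]
    have h3 : ((p - 1).choose i : R) + ((p - 1).choose (i + 1) : R) = 0 := by
      rw [← Nat.cast_add, h1, h2]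
    rw [ih (by omega)] at h3
    rw [pow_succ, mul_neg_one]
    exact (eq_neg_of_add_eq_zero_right h3)

end Choose

section Ad

variable {S : Type*} [Ring S]

/-- `ad a` as an additive endomorphism. -/
def ad (a : S) : AddMonoid.End S := AddMonoid.End.mulLeft a - AddMonoid.End.mulRight a

@[simp] theorem ad_apply (a b : S) : ad a b = a * b - b * a := rfl

theorem mulLeft_pow_apply (a c : S) (n : ℕ) :
    ((AddMonoid.End.mulLeft a : AddMonoid.End S) ^ n) c = a ^ n * c := by
  induction n generalizing c with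
  | zero => simp
  | succ n ih =>
    rw [pow_succ, AddMonoid.End.coe_mul, Function.comp_apply, ih]
    change a ^ n * (a * c) = _
    rw [pow_succ, mul_assoc]

theorem mulRight_pow_apply (a c : S) (n : ℕ) :
    ((AddMonoid.End.mulRight a : AddMonoid.End S) ^ n) c = c * a ^ n := by
  induction n generalizing c with
  | zero => simp
  | succ n ih =>
    rw [pow_succ, AddMonoid.End.coe_mul, Function.comp_apply, ih]
    change (c * a) * a ^ n = _
    rw [pow_succ', mul_assoc]

theorem commute_mulLeft_mulRight (a : S) :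
    Commute (AddMonoid.End.mulLeft a : AddMonoid.End S) (AddMonoid.End.mulRight a) := by
  ext c
  change a * (c * a) = (a * c) * a
  rw [mul_assoc]

theorem end_sum_apply {ι : Type*} (s : Finset ι) (f : ι → AddMonoid.End S) (b : S) :
    (∑ i ∈ s, f i) b = ∑ i ∈ s, f i b := by
  classical
  induction s using Finset.induction_on with
  | empty => simp
  | insert i s hi ih =>
    rw [Finset.sum_insert hi, Finset.sum_insert hi, ← ih]; rfl

theorem ad_pow_apply (a b : S) (n : ℕ) :
    (ad a ^ n) b = ∑ m ∈ range (n + 1), ((-1 : ℤ) ^ (n - m) * (n.choose m : ℤ)) • (a ^ m * b * a ^ (n - m)) := by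
  have hc : Commute (AddMonoid.End.mulLeft a : AddMonoid.End S) (-AddMonoid.End.mulRight a) :=
    (commute_mulLeft_mulRight a).neg_right
  have : ad a = AddMonoid.End.mulLeft a + (-AddMonoid.End.mulRight a) := by
    rw [ad, sub_eq_add_neg]
  rw [this, hc.add_pow]
  rw [end_sum_apply]
  refine Finset.sum_congr rfl fun m _ => ?_
  rw [AddMonoid.End.coe_mul, Function.comp_apply, AddMonoid.End.natCast_apply,
    AddMonoid.End.coe_mul, Function.comp_apply, mulLeft_pow_apply, neg_pow,
    AddMonoid.End.coe_mul, Function.comp_apply, mulRight_pow_apply]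
  have h1 : ((-1 : AddMonoid.End S) ^ (n - m)) (n.choose m • b * a ^ (n - m)) =
      ((-1 : ℤ) ^ (n - m)) • (n.choose m • b * a ^ (n - m)) := by
    generalize (n.choose m • b * a ^ (n - m)) = c
    induction (n - m) generalizing c with
    | zero => simp
    | succ k ih =>
      rw [pow_succ, AddMonoid.End.coe_mul, Function.comp_apply, pow_succ, mul_smul]
      have : ∀ c : S, (-1 : AddMonoid.End S) c = (-1 : ℤ) • c := by
        intro c
        rw [neg_one_zsmul]; rfl
      rw [this, ih, smul_comm]
  rw [h1]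
  simp only [mul_smul, smul_mul_assoc, mul_smul_comm, mul_assoc, natCast_zsmul]

theorem neg_one_pow_pred (p : ℕ) [hp : Fact p.Prime] (hpS : (p : S) = 0) : (-1 : S) ^ (p - 1) = 1 := by
  rcases hp.out.eq_two_or_odd' with h2 | hodd
  · subst h2
    norm_num
    have : (2 : S) = 0 := by exact_mod_cast hpS
    have h : (1 : S) + 1 = 0 := by rw [one_add_one_eq_two, this]
    exact (eq_neg_of_add_eq_zero_left h).symm
  · have : Even (p - 1) := by
      obtain ⟨k, hk⟩ := hodd
      exact ⟨k, by omega⟩
    exact this.neg_one_pow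

/-- In characteristic `p`: `∑_{i<p} a^i b a^(p-1-i) = (ad a)^(p-1) b`. -/
theorem sum_pow_mul_pow_eq_ad (p : ℕ) [hp : Fact p.Prime] (hpS : (p : S) = 0) (a b : S) :
    ∑ i ∈ range p, a ^ i * b * a ^ (p - 1 - i) = (ad a ^ (p - 1)) b := by
  have hp1 : 1 ≤ p := hp.out.one_lt.le
  rw [ad_pow_apply, Nat.sub_add_cancel hp1]
  refine Finset.sum_congr rfl fun m hm => ?_
  have hm' : m ≤ p - 1 := by
    have := Finset.mem_range.mp hm
    omega
  have key : (((-1 : ℤ) ^ (p - 1 - m) * ((p - 1).choose m : ℤ) : ℤ) : S) = 1 := by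
    push_cast
    rw [choose_pred_eq p hpS m hm', ← pow_add, Nat.sub_add_cancel hm', neg_one_pow_pred p hpS]
  rw [← Int.cast_smul_eq_zsmul S, key, one_smul]

end Ad

section Main

variable {R : Type*} [Ring R] (p : ℕ) [hp : Fact p.Prime]

/-- the polynomial `x + t y` -/
noncomputable def W (x y : R) : R[X] := C x + X * C y

theorem derivative_W (x y : R) : derivative (W x y) = C y := by
  rw [W, map_add, derivative_C, zero_add, derivative_mul, derivative_X, one_mul, derivative_C,
    mul_zero, add_zero]

theorem derivative_pow_noncomm (w : R[X]) (n : ℕ) :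
    derivative (w ^ n) = ∑ i ∈ range n, w ^ i * derivative w * w ^ (n - 1 - i) := by
  induction n with
  | zero => simp
  | succ n ih =>
    rw [pow_succ, derivative_mul, ih, Finset.sum_range_succ, Finset.sum_mul]
    congr 1
    · refine Finset.sum_congr rfl fun i hi => ?_
      have hi' := Finset.mem_range.mp hi
      rw [show n + 1 - 1 - i = n - 1 - i + 1 by omega, pow_succ, ← mul_assoc]
    · simp

omit hp in
theorem natCast_poly_eq_zero (hpR : (p : R) = 0) : ((p : ℕ) : R[X]) = 0 := by
  rw [← C_eq_natCast, hpR, C_0]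

theorem ad_W_C (x y g : R) (hg : Commute y g) : ad (W x y) (C g) = C (ad x g) := by
  rw [ad_apply, ad_apply, W, add_mul, mul_add, ← C_mul, ← C_mul, mul_assoc, ← C_mul,
    ← mul_assoc, ← X_mul_C g, mul_assoc, ← C_mul, hg.eq, C_sub]
  abel

theorem ad_W_pow_C (x y : R) (hcomm : ∀ i, Commute y ((ad x ^ i) y)) (k : ℕ) :
    (ad (W x y) ^ k) (C y) = C ((ad x ^ k) y) := by
  induction k with
  | zero => simp
  | succ k ih =>
    rw [pow_succ', AddMonoid.End.coe_mul, Function.comp_apply, ih, ad_W_C _ _ _ (hcomm k),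
      pow_succ', AddMonoid.End.coe_mul, Function.comp_apply]

theorem derivative_W_pow (hpR : (p : R) = 0) (x y : R) (hcomm : ∀ i, Commute y ((ad x ^ i) y)) :
    derivative (W x y ^ p) = C ((ad x ^ (p - 1)) y) := by
  rw [derivative_pow_noncomm, derivative_W, sum_pow_mul_pow_eq_ad p (natCast_poly_eq_zero p hpR),
    ad_W_pow_C x y hcomm]

theorem natDegree_W_le (x y : R) : (W x y).natDegree ≤ 1 := by
  rw [W]
  refine (natDegree_add_le _ _).trans (max_le ?_ ?_)
  · simp
  · refine natDegree_mul_le.trans ?_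
    have h1 : (X : R[X]).natDegree ≤ 1 := natDegree_X_le
    have h2 : (C y : R[X]).natDegree = 0 := natDegree_C y
    omega

theorem coeff_W_one (x y : R) : (W x y).coeff 1 = y := by
  rw [W, coeff_add, coeff_C_succ, zero_add, coeff_X_mul, coeff_C_zero]

theorem coeff_W_zero (x y : R) : (W x y).coeff 0 = x := by
  rw [W, coeff_add, coeff_C_zero, coeff_X_mul_zero, add_zero]

theorem isUnit_natCast_of_lt (hpR : (p : R) = 0) (j : ℕ) (hj0 : 0 < j) (hjp : j < p) :
    ∃ u : R, (j : R) * u = 1 := by
  have hcop : Nat.Coprime j p :=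
    Nat.coprime_comm.mp ((Nat.Prime.coprime_iff_not_dvd hp.out).mpr (Nat.not_dvd_of_pos_of_lt hj0 hjp))
  have h := Nat.gcd_eq_gcd_ab j p
  rw [hcop] at h
  refine ⟨((Nat.gcdA j p : ℤ) : R), ?_⟩
  have h' := congrArg (fun z : ℤ => (z : R)) h
  simp only [Int.cast_add, Int.cast_mul, Int.cast_natCast, Nat.cast_one, Int.cast_one] at h'
  rw [hpR, zero_mul, add_zero] at h'
  exact h'.symm

/-- **Special case of Jacobson's formula.** In a ring with `p = 0`, if `y` commutes with all
`(ad x)^i y`, then `(x + y)^p = x^p + y^p + (ad x)^(p-1) y`. -/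
theorem jacobson_special (hpR : (p : R) = 0) (x y : R) (hcomm : ∀ i, Commute y ((ad x ^ i) y)) :
    (x + y) ^ p = x ^ p + y ^ p + (ad x ^ (p - 1)) y := by
  have hp2 : 2 ≤ p := hp.out.two_le
  set z : R := (ad x ^ (p - 1)) y with hz
  set Q : R[X] := W x y ^ p with hQ
  have hdeg : Q.natDegree ≤ p := by
    have := natDegree_pow_le_of_le p (natDegree_W_le x y)
    simpa using this
  have hder : derivative Q = C z := derivative_W_pow p hpR x y hcomm
  have c0 : Q.coeff 0 = x ^ p := by
    have : Q.coeff 0 = constantCoeff Q := rfl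
    rw [this, hQ, map_pow]
    congr 1
    exact coeff_W_zero x y
  have cp : Q.coeff p = y ^ p := by
    have := coeff_pow_of_natDegree_le (m := p) (natDegree_W_le x y)
    rw [mul_one, coeff_W_one] at this
    exact this
  have c1 : Q.coeff 1 = z := by
    have := coeff_derivative Q 0
    rw [hder, coeff_C_zero] at this
    simpa using this.symm
  have cj : ∀ j, 2 ≤ j → j < p → Q.coeff j = 0 := by
    intro j hj2 hjp
    have h := coeff_derivative Q (j - 1)
    rw [hder, coeff_C, if_neg (by omega), show j - 1 + 1 = j by omega] at h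
    obtain ⟨u, hu⟩ := isUnit_natCast_of_lt p hpR j (by omega) hjp
    have h' : Q.coeff j * (j : R) = 0 := by
      rw [h]; congr 1
      have : ((j - 1 : ℕ) : R) + 1 = ((j - 1 + 1 : ℕ) : R) := by push_cast; rfl
      rw [this, show j - 1 + 1 = j by omega]
    calc Q.coeff j = Q.coeff j * ((j : R) * u) := by rw [hu, mul_one]
      _ = 0 := by rw [← mul_assoc, h', zero_mul]
  let φ : R[X] →+* R := eval₂RingHom' (RingHom.id R) 1 (fun a => Commute.one_right a)
  have hφW : φ (W x y) = x + y := by
    change eval₂ (RingHom.id R) 1 (W x y) = _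
    rw [W, eval₂_add, eval₂_C, X_mul_C, eval₂_mul_X, eval₂_C]
    simp
  have hφQ : φ Q = ∑ i ∈ range (p + 1), Q.coeff i := by
    change eval₂ (RingHom.id R) 1 Q = _
    rw [eval₂_eq_sum_range' (RingHom.id R) (Nat.lt_succ_of_le hdeg)]
    simp
  have hsum : ∑ i ∈ range (p + 1), Q.coeff i = ∑ i ∈ ({0, 1, p} : Finset ℕ), Q.coeff i := by
    symm
    refine Finset.sum_subset ?_ ?_
    · intro i hi
      simp only [Finset.mem_insert, Finset.mem_singleton] at hi
      rw [Finset.mem_range]
      omega
    · intro i hi hi'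
      simp only [Finset.mem_insert, Finset.mem_singleton, not_or] at hi'
      rw [Finset.mem_range] at hi
      exact cj i (by omega) (by omega)
  have h01 : (0 : ℕ) ∉ ({1, p} : Finset ℕ) := by
    simp only [Finset.mem_insert, Finset.mem_singleton, not_or]; omega
  have h1p : (1 : ℕ) ∉ ({p} : Finset ℕ) := by
    simp only [Finset.mem_singleton]; omega
  calc (x + y) ^ p = φ Q := by rw [hQ, map_pow, hφW]
    _ = Q.coeff 0 + (Q.coeff 1 + Q.coeff p) := by
      rw [hφQ, hsum, Finset.sum_insert h01, Finset.sum_insert h1p, Finset.sum_singleton]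
    _ = x ^ p + y ^ p + z := by rw [c0, c1, cp]; abel

end Main

end Groth.Agent.Helper7.PCa
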