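import Mathlib
import Groth.Agent.Helper7.PCa

/-!
# Hochschild's identity

`(f D)^p = f^p D^p + (fθ)^(p-1)(f) D` in a ring of characteristic `p`, where `[D, b] = θ b`.
-/

namespace Groth.Agent.Helper7.PCb

open Finset Groth.Agent.Helper7.PCa

variable {B : Type*} [CommRing B]

/-- `δ = f θ` -/
def del (f : B) (θ : B →+ B) : B →+ B := (AddMonoidHom.mulLeft f).comp θ

@[simp] theorem del_apply (f : B) (θ : B →+ B) (b : B) : del f θ b = f * θ b := rfl

/-- coefficientwise `δ` on `ℕ →₀ B` -/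
noncomputable def xx (f : B) (θ : B →+ B) : AddMonoid.End (ℕ →₀ B) :=
  Finsupp.mapRange.addMonoidHom (del f θ)

/-- `single k b ↦ single (k+1) (g b)` -/
noncomputable def YY (g : B) : AddMonoid.End (ℕ →₀ B) :=
  (Finsupp.mapRange.addMonoidHom (AddMonoidHom.mulLeft g)).comp
    (Finsupp.mapDomain.addMonoidHom (fun k : ℕ => k + 1))

theorem xx_single (f : B) (θ : B →+ B) (k : ℕ) (b : B) :
    xx f θ (Finsupp.single k b) = Finsupp.single k (f * θ b) := by
  change Finsupp.mapRange (del f θ) (map_zero _) (Finsupp.single k b) = _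
  rw [Finsupp.mapRange_single]; rfl

theorem YY_single (g : B) (k : ℕ) (b : B) :
    YY g (Finsupp.single k b) = Finsupp.single (k + 1) (g * b) := by
  change Finsupp.mapRange (AddMonoidHom.mulLeft g) (map_zero _)
    (Finsupp.mapDomain (fun k : ℕ => k + 1) (Finsupp.single k b)) = _
  rw [Finsupp.mapDomain_single, Finsupp.mapRange_single]; rfl

theorem end_ext {u v : AddMonoid.End (ℕ →₀ B)}
    (h : ∀ k b, u (Finsupp.single k b) = v (Finsupp.single k b)) : u = v :=
  Finsupp.addHom_ext h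

theorem YY_commute (g g' : B) : Commute (YY g) (YY g') := by
  apply end_ext
  intro k b
  rw [AddMonoid.End.coe_mul, AddMonoid.End.coe_mul, Function.comp_apply, Function.comp_apply,
    YY_single, YY_single, YY_single, YY_single]
  congr 1
  ring

theorem ad_xx_YY (f : B) (θ : B →+ B) (hθ : ∀ a b, θ (a * b) = a * θ b + b * θ a) (g : B) :
    ad (xx f θ) (YY g) = YY (f * θ g) := by
  apply end_ext
  intro k b
  rw [ad_apply]
  change (xx f θ) ((YY g) (Finsupp.single k b)) - (YY g) ((xx f θ) (Finsupp.single k b)) = _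
  rw [YY_single, xx_single, xx_single, YY_single, YY_single, ← Finsupp.single_sub, hθ]
  congr 1
  ring

theorem ad_pow_xx_YY (f : B) (θ : B →+ B) (hθ : ∀ a b, θ (a * b) = a * θ b + b * θ a) (g : B)
    (i : ℕ) : (ad (xx f θ) ^ i) (YY g) = YY ((del f θ)^[i] g) := by
  induction i with
  | zero => simp
  | succ i ih =>
    rw [pow_succ', AddMonoid.End.coe_mul, Function.comp_apply, ih, ad_xx_YY f θ hθ,
      Function.iterate_succ_apply']
    rfl

theorem natCast_end_eq_zero (p : ℕ) (hpB : (p : B) = 0) : ((p : ℕ) : AddMonoid.End (ℕ →₀ B)) = 0 := by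
  apply end_ext
  intro k b
  rw [AddMonoid.End.natCast_apply]
  have : p • Finsupp.single k b = Finsupp.single k (p • b) := (Finsupp.smul_single p k b)
  rw [this, nsmul_eq_mul, hpB, zero_mul, Finsupp.single_zero]
  rfl

theorem YY_pow_single (g : B) (n k : ℕ) (b : B) :
    (YY g ^ n) (Finsupp.single k b) = Finsupp.single (k + n) (g ^ n * b) := by
  induction n generalizing k b with
  | zero => simp
  | succ n ih =>
    rw [pow_succ, AddMonoid.End.coe_mul, Function.comp_apply, YY_single, ih]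
    congr 1
    · omega
    · ring

theorem xx_pow_single (f : B) (θ : B →+ B) (n k : ℕ) (b : B) :
    (xx f θ ^ n) (Finsupp.single k b) = Finsupp.single k ((del f θ)^[n] b) := by
  induction n generalizing b with
  | zero => simp
  | succ n ih =>
    rw [pow_succ, AddMonoid.End.coe_mul, Function.comp_apply, xx_single, ih,
      Function.iterate_succ_apply]
    rfl

variable {R : Type*} [Ring R]

/-- `Φ (single k b) = ℓ b * D^k` -/
noncomputable def Phi (ℓ : B →+* R) (D : R) : (ℕ →₀ B) →+ R :=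
  Finsupp.liftAddHom (fun k => (AddMonoidHom.mulRight (D ^ k)).comp ℓ.toAddMonoidHom)

theorem Phi_single (ℓ : B →+* R) (D : R) (k : ℕ) (b : B) :
    Phi ℓ D (Finsupp.single k b) = ℓ b * D ^ k := by
  rw [Phi, Finsupp.liftAddHom_apply_single]
  rfl

theorem Phi_step (ℓ : B →+* R) (D : R) (θ : B →+ B) (hD : ∀ b, D * ℓ b = ℓ b * D + ℓ (θ b))
    (f : B) (v : ℕ →₀ B) :
    Phi ℓ D ((xx f θ + YY f) v) = (ℓ f * D) * Phi ℓ D v := by
  induction v using Finsupp.induction_linear with
  | zero => simp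
  | add u v hu hv => rw [map_add, map_add, hu, hv, map_add, mul_add]
  | single k b =>
    have h0 : (xx f θ + YY f) (Finsupp.single k b) =
        xx f θ (Finsupp.single k b) + YY f (Finsupp.single k b) := rfl
    rw [h0, map_add, xx_single, YY_single, Phi_single, Phi_single, Phi_single,
      mul_assoc (ℓ f) D, ← mul_assoc D, hD b, add_mul, mul_add, map_mul, map_mul, pow_succ']
    noncomm_ring

theorem Phi_pow (ℓ : B →+* R) (D : R) (θ : B →+ B) (hD : ∀ b, D * ℓ b = ℓ b * D + ℓ (θ b))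
    (f : B) (n : ℕ) (v : ℕ →₀ B) :
    Phi ℓ D (((xx f θ + YY f) ^ n) v) = (ℓ f * D) ^ n * Phi ℓ D v := by
  induction n with
  | zero => simp
  | succ n ih =>
    rw [pow_succ', AddMonoid.End.coe_mul, Function.comp_apply, Phi_step ℓ D θ hD, ih, pow_succ',
      mul_assoc (ℓ f * D)]

/-- **Hochschild's identity.** -/
theorem hochschild (p : ℕ) [hp : Fact p.Prime] (hpB : (p : B) = 0) (ℓ : B →+* R) (θ : B →+ B)
    (hθ : ∀ a b, θ (a * b) = a * θ b + b * θ a) (D : R)
    (hD : ∀ b, D * ℓ b = ℓ b * D + ℓ (θ b)) (f : B) :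
    (ℓ f * D) ^ p = ℓ (f ^ p) * D ^ p + ℓ ((del f θ)^[p - 1] f) * D := by
  have hcomm : ∀ i, Commute (YY f) ((ad (xx f θ) ^ i) (YY f)) := by
    intro i
    rw [ad_pow_xx_YY f θ hθ]
    exact YY_commute _ _
  have J := jacobson_special p (natCast_end_eq_zero p hpB) (xx f θ) (YY f) hcomm
  have hθ1 : θ 1 = 0 := by
    have := hθ 1 1
    rw [mul_one, one_mul] at this
    exact (add_eq_left.mp this.symm)
  have hp1 : 1 ≤ p := hp.out.one_lt.le
  have hx : (xx f θ ^ p) (Finsupp.single 0 (1 : B)) = 0 := by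
    rw [xx_pow_single, show p = (p - 1) + 1 by omega, Function.iterate_succ_apply, del_apply, hθ1,
      mul_zero, iterate_map_zero, Finsupp.single_zero]
  have J0 := congrArg (fun u : AddMonoid.End (ℕ →₀ B) => Phi ℓ D (u (Finsupp.single 0 (1 : B)))) J
  rw [Phi_pow ℓ D θ hD, Phi_single, map_one, pow_zero, mul_one, mul_one] at J0
  have hsplit : (xx f θ ^ p + YY f ^ p + (ad (xx f θ) ^ (p - 1)) (YY f)) (Finsupp.single 0 (1 : B)) =
      (xx f θ ^ p) (Finsupp.single 0 (1 : B)) + (YY f ^ p) (Finsupp.single 0 (1 : B)) +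
        ((ad (xx f θ) ^ (p - 1)) (YY f)) (Finsupp.single 0 (1 : B)) := rfl
  rw [J0, hsplit, hx, zero_add, map_add, YY_pow_single,
    ad_pow_xx_YY f θ hθ, YY_single, Phi_single, Phi_single, zero_add, mul_one, mul_one, pow_one]

end Groth.Agent.Helper7.PCb
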