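import Mathlib
import Groth.Agent.Helper7.PCa

/-!
# The `p`-th iterate of a derivation in characteristic `p` is a derivation
-/

namespace Groth.Agent.Helper7.PCc

open Finset Groth.Agent.Helper7.PCa

section AdP

variable {S : Type*} [Ring S]

theorem natCast_end_eq_zero (p : ℕ) (hpS : (p : S) = 0) : ((p : ℕ) : AddMonoid.End S) = 0 := by
  ext s
  rw [AddMonoid.End.natCast_apply, nsmul_eq_mul, hpS, zero_mul]
  rfl

theorem neg_one_pow_p (p : ℕ) [hp : Fact p.Prime] (hpS : (p : S) = 0) : (-1 : S) ^ p = -1 := by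
  have hp1 : 1 ≤ p := hp.out.one_lt.le
  have h : (-1 : S) ^ p = (-1 : S) ^ (p - 1) * (-1) := by
    rw [← pow_succ, Nat.sub_add_cancel hp1]
  rw [h, neg_one_pow_pred p hpS, one_mul]

/-- `(ad a)^p b = a^p b - b a^p` in characteristic `p`. -/
theorem ad_pow_p (p : ℕ) [hp : Fact p.Prime] (hpS : (p : S) = 0) (a b : S) :
    (ad a ^ p) b = a ^ p * b - b * a ^ p := by
  have hE : ((p : ℕ) : AddMonoid.End S) = 0 := natCast_end_eq_zero p hpS
  have hc : Commute (AddMonoid.End.mulLeft a : AddMonoid.End S) (-AddMonoid.End.mulRight a) :=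
    (commute_mulLeft_mulRight a).neg_right
  have h1 : ad a = AddMonoid.End.mulLeft a + (-AddMonoid.End.mulRight a) := by
    rw [ad, sub_eq_add_neg]
  have h2 := hc.add_pow_prime_eq' hp.out
  rw [hE, zero_mul, add_zero] at h2
  rw [h1, h2, neg_pow, neg_one_pow_p p hE]
  change (AddMonoid.End.mulLeft a ^ p) b + (-1 * AddMonoid.End.mulRight a ^ p) b = _
  rw [mulLeft_pow_apply, neg_one_mul]
  change a ^ p * b + -((AddMonoid.End.mulRight a ^ p) b) = _
  rw [mulRight_pow_apply, sub_eq_add_neg]

end AdP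

section Iter

variable {B : Type*} [CommRing B]

theorem ad_mulLeft (τ : AddMonoid.End B) (hτ : ∀ a b, τ (a * b) = a * τ b + b * τ a) (a : B) :
    ad τ (AddMonoid.End.mulLeft a) = AddMonoid.End.mulLeft (τ a) := by
  ext b
  rw [ad_apply]
  change τ (a * b) - a * τ b = τ a * b
  rw [hτ]; ring

theorem ad_pow_mulLeft (τ : AddMonoid.End B) (hτ : ∀ a b, τ (a * b) = a * τ b + b * τ a) (a : B)
    (n : ℕ) : (ad τ ^ n) (AddMonoid.End.mulLeft a) = AddMonoid.End.mulLeft (τ^[n] a) := by
  induction n with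
  | zero => simp
  | succ n ih =>
    rw [pow_succ', AddMonoid.End.coe_mul, Function.comp_apply, ih, ad_mulLeft τ hτ,
      Function.iterate_succ_apply']

/-- Leibniz rule for the `p`-th iterate in characteristic `p`. -/
theorem iterate_leibniz (p : ℕ) [hp : Fact p.Prime] (hpB : (p : B) = 0) (τ : AddMonoid.End B)
    (hτ : ∀ a b, τ (a * b) = a * τ b + b * τ a) (a b : B) :
    τ^[p] (a * b) = a * τ^[p] b + b * τ^[p] a := by
  have h := ad_pow_p p (natCast_end_eq_zero p hpB) τ (AddMonoid.End.mulLeft a)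
  rw [ad_pow_mulLeft τ hτ] at h
  have h' := congrArg (fun u : AddMonoid.End B => u b) h
  change τ^[p] a * b = (τ ^ p) (a * b) - a * (τ ^ p) b at h'
  rw [AddMonoid.End.coe_pow] at h'
  rw [eq_sub_iff_add_eq] at h'
  rw [← h']; ring

end Iter

section Der

variable {A : Type*} {B : Type*} [CommRing A] [CommRing B] [Algebra A B]

/-- The `p`-th iterate of a derivation, as a derivation (characteristic `p`). -/
noncomputable def iterDer (p : ℕ) [hp : Fact p.Prime] (hpB : (p : B) = 0) (θ : Derivation A B B) :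
    Derivation A B B :=
  Derivation.mk' ((θ : B →ₗ[A] B) ^ p) (by
    intro a b
    rw [Module.End.pow_apply, Module.End.pow_apply, Module.End.pow_apply]
    have := iterate_leibniz p hpB ((θ : B →ₗ[A] B).toAddMonoidHom)
      (fun a b => by
        change θ (a * b) = a * θ b + b * θ a
        rw [θ.leibniz]; simp [smul_eq_mul]) a b
    simp only [smul_eq_mul]
    exact this)

theorem iterDer_apply (p : ℕ) [hp : Fact p.Prime] (hpB : (p : B) = 0) (θ : Derivation A B B) (b : B) :
    iterDer p hpB θ b = (⇑θ)^[p] b := by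
  change ((θ : B →ₗ[A] B) ^ p) b = _
  rw [Module.End.pow_apply]; rfl

end Der

end Groth.Agent.Helper7.PCc
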