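import Mathlib
import Groth.Prelude.Def_Conn
import Groth.Agent.Helper7.PCb
import Groth.Agent.Helper7.PCc

/-!
# p-curvature for rank one differentials: vanishing on the dual derivation suffices
-/

namespace Groth.Agent.Helper7.PCd

open TensorProduct Groth.Agent.Helper7.PCa Groth.Agent.Helper7.PCb Groth.Agent.Helper7.PCc

universe v u

variable {A : Type v} {B M : Type u} [CommRing A] [CommRing B] [Algebra A B]
  [AddCommGroup M] [Module B M] [Module A M] [IsScalarTower A B M]

theorem lift_smul (f : B) (θ : Derivation A B B) :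
    (f • θ).liftKaehlerDifferential = f • θ.liftKaehlerDifferential :=
  map_smul (KaehlerDifferential.linearMapEquivDerivation A B (M := B)).symm f θ

theorem lift_add (θ₁ θ₂ : Derivation A B B) :
    (θ₁ + θ₂).liftKaehlerDifferential = θ₁.liftKaehlerDifferential + θ₂.liftKaehlerDifferential :=
  map_add (KaehlerDifferential.linearMapEquivDerivation A B (M := B)).symm θ₁ θ₂

theorem alongDer_smul (nabla : M →ₗ[A] M ⊗[B] Ω[B⁄A]) (f : B) (θ : Derivation A B B) (m : M) :
    Conn.alongDer nabla (f • θ) m = f • Conn.alongDer nabla θ m := by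
  rw [Conn.alongDer, Conn.along_apply, lift_smul, TensorProduct.map_smul_right, LinearMap.smul_apply,
    map_smul]
  rfl

theorem alongDer_add (nabla : M →ₗ[A] M ⊗[B] Ω[B⁄A]) (θ₁ θ₂ : Derivation A B B) (m : M) :
    Conn.alongDer nabla (θ₁ + θ₂) m = Conn.alongDer nabla θ₁ m + Conn.alongDer nabla θ₂ m := by
  rw [Conn.alongDer, Conn.along_apply, lift_add, TensorProduct.map_add_right, LinearMap.add_apply,
    map_add]
  rfl

theorem alongDer_leibniz (nabla : M →ₗ[A] M ⊗[B] Ω[B⁄A])
    (hc : Conn.IsConn (KaehlerDifferential.D A B) nabla) (θ : Derivation A B B) (b : B) (m : M) :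
    Conn.alongDer nabla θ (b • m) = b • Conn.alongDer nabla θ m + θ b • m := by
  rw [Conn.alongDer, Conn.along_apply, hc b m, map_add, map_add, map_smul, map_smul,
    TensorProduct.map_tmul, TensorProduct.rid_tmul, Derivation.liftKaehlerDifferential_comp_D]
  rfl

/-- scalar multiplication as a ring hom into `A`-linear endomorphisms -/
noncomputable def ell (A : Type v) {B : Type u} (M : Type u) [CommRing A] [CommRing B] [Algebra A B]
    [AddCommGroup M] [Module B M] [Module A M] [IsScalarTower A B M] : B →+* Module.End A M :=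
  (Algebra.lsmul A A M).toRingHom

omit [IsScalarTower A B M] in
theorem ell_apply [IsScalarTower A B M] (b : B) (m : M) : ell A M b m = b • m := rfl

theorem main (p : ℕ) [hp : Fact p.Prime] [CharP B p]
    (bΩ : Module.Basis (Fin 1) B (KaehlerDifferential A B)) (θ₀ : Derivation A B B)
    (hθ₀ : θ₀.liftKaehlerDifferential (bΩ 0) = 1)
    (nabla : M →ₗ[A] M ⊗[B] KaehlerDifferential A B)
    (hc : Conn.IsConn (KaehlerDifferential.D A B) nabla) :
    (∀ θ θp : Derivation A B B, Conn.IsIterPow θ p θp → Conn.pCurv p nabla θ θp = 0) ↔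
      (∀ θp : Derivation A B B, Conn.IsIterPow θ₀ p θp → Conn.pCurv p nabla θ₀ θp = 0) := by
  constructor
  · intro h θp hθp
    exact h θ₀ θp hθp
  · intro H θ θp hθp
    have hpB : (p : B) = 0 := CharP.cast_eq_zero B p
    set f : B := θ.liftKaehlerDifferential (bΩ 0) with hf
    have hθ : θ = f • θ₀ := by
      apply (KaehlerDifferential.linearMapEquivDerivation A B (M := B)).symm.injective
      change θ.liftKaehlerDifferential = (f • θ₀).liftKaehlerDifferential
      rw [lift_smul]
      apply bΩ.ext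
      intro i
      rw [Subsingleton.elim i 0, LinearMap.smul_apply, hθ₀, smul_eq_mul, mul_one]
    have hθ₀p : Conn.IsIterPow θ₀ p (iterDer p hpB θ₀) := fun b => iterDer_apply p hpB θ₀ b
    have H0 := H (iterDer p hpB θ₀) hθ₀p
    have hleib : ∀ a b : B, (θ₀ : B →ₗ[A] B).toAddMonoidHom (a * b) =
        a * (θ₀ : B →ₗ[A] B).toAddMonoidHom b + b * (θ₀ : B →ₗ[A] B).toAddMonoidHom a := by
      intro a b
      change θ₀ (a * b) = a * θ₀ b + b * θ₀ a
      rw [θ₀.leibniz, smul_eq_mul, smul_eq_mul]
    set c : B := (del f (θ₀ : B →ₗ[A] B).toAddMonoidHom)^[p - 1] f with hc'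
    -- Hochschild in `End_A(B)`
    have hD' : ∀ b : B, (θ₀ : B →ₗ[A] B) * ell A B b =
        ell A B b * (θ₀ : B →ₗ[A] B) + ell A B ((θ₀ : B →ₗ[A] B).toAddMonoidHom b) := by
      intro b
      ext a
      change θ₀ (b • a) = b • θ₀ a + θ₀ b • a
      simp only [smul_eq_mul, θ₀.leibniz]
      ring
    have hB := hochschild (R := Module.End A B) p hpB (ell A B) (θ₀ : B →ₗ[A] B).toAddMonoidHom
      hleib (θ₀ : B →ₗ[A] B) hD' f
    -- Hochschild in `End_A(M)`
    have hD : ∀ b : B, Conn.alongDer nabla θ₀ * ell A M b =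
        ell A M b * Conn.alongDer nabla θ₀ + ell A M ((θ₀ : B →ₗ[A] B).toAddMonoidHom b) := by
      intro b
      ext m
      change Conn.alongDer nabla θ₀ (b • m) = b • Conn.alongDer nabla θ₀ m + θ₀ b • m
      exact alongDer_leibniz nabla hc θ₀ b m
    have hM := hochschild (R := Module.End A M) p hpB (ell A M) (θ₀ : B →ₗ[A] B).toAddMonoidHom
      hleib (Conn.alongDer nabla θ₀) hD f
    -- `θp = f^p • θ₀p + c • θ₀`
    have hθfun : (⇑θ : B → B) = ⇑(ell A B f * (θ₀ : B →ₗ[A] B)) := by
      funext b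
      rw [hθ]
      rfl
    have hθp' : θp = f ^ p • iterDer p hpB θ₀ + c • θ₀ := by
      ext b
      rw [hθp b, hθfun, ← Module.End.pow_apply, hB]
      change f ^ p • (((θ₀ : B →ₗ[A] B) ^ p) b) + c • θ₀ b = f ^ p • iterDer p hpB θ₀ b + c • θ₀ b
      rw [iterDer_apply, Module.End.pow_apply]
      rfl
    have hE : Conn.alongDer nabla θ = ell A M f * Conn.alongDer nabla θ₀ := by
      ext m
      rw [hθ, alongDer_smul]
      rfl
    ext m
    rw [Conn.pCurv, LinearMap.sub_apply, hE, hM, hθp', alongDer_add, alongDer_smul, alongDer_smul,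
      LinearMap.zero_apply]
    change f ^ p • ((Conn.alongDer nabla θ₀ ^ p) m) + c • Conn.alongDer nabla θ₀ m -
      (f ^ p • Conn.alongDer nabla (iterDer p hpB θ₀) m + c • Conn.alongDer nabla θ₀ m) = 0
    have H0m := congrArg (fun u : M →ₗ[A] M => u m) H0
    simp only [Conn.pCurv, LinearMap.sub_apply, LinearMap.zero_apply] at H0m
    rw [add_sub_add_right_eq_sub, ← smul_sub, H0m, smul_zero]

end Groth.Agent.Helper7.PCd
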