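import Mathlib

set_option autoImplicit false
universe u

namespace Groth.Agent.Helper7.PFa

open Matrix

variable {K : Type u} [Field K]

theorem diag_zero (h2 : (2 : K) ≠ 0) {ι : Type} (M : Matrix ι ι K) (hM : Mᵀ = -M) (i : ι) :
    M i i = 0 := by
  have h := congrFun (congrFun hM i) i
  simp only [transpose_apply, Matrix.neg_apply] at h
  have h3 : (2 : K) * M i i = 0 := by linear_combination h
  rcases mul_eq_zero.mp h3 with h4 | h4
  · exact absurd h4 h2
  · exact h4

theorem det_two (h2 : (2 : K) ≠ 0) {ι : Type} [Fintype ι] [DecidableEq ι] (M : Matrix ι ι K)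
    (hM : Mᵀ = -M) (i j : ι) (hij : i ≠ j) (hall : ∀ x : ι, x = i ∨ x = j) :
    M.det = M i j * M i j := by
  let f : Fin 2 → ι := ![i, j]
  have hf : Function.Bijective f := by
    constructor
    · intro a b hab
      fin_cases a <;> fin_cases b <;> simp [f] at hab ⊢
      · exact absurd hab hij
      · exact absurd hab.symm hij
    · intro x
      rcases hall x with rfl | rfl
      · exact ⟨0, rfl⟩
      · exact ⟨1, rfl⟩
  let e : Fin 2 ≃ ι := Equiv.ofBijective f hf
  rw [← det_submatrix_equiv_self e M, det_fin_two]
  have h1 : M j i = - M i j := by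
    have h := congrFun (congrFun hM i) j
    simpa only [transpose_apply, Matrix.neg_apply] using h
  simp only [submatrix_apply]
  change M i i * M j j - M i j * M j i = _
  rw [diag_zero h2 M hM i, h1]
  ring

theorem isSquare_det_aux (h2 : (2 : K) ≠ 0) (n : ℕ) :
    ∀ (ι : Type) [Fintype ι] [DecidableEq ι], Fintype.card ι = n →
      ∀ M : Matrix ι ι K, Mᵀ = -M → IsSquare M.det := by
  induction n using Nat.strong_induction_on with
  | _ n ih =>
    intro ι _ _ hcard M hM
    by_cases h0 : M = 0
    · subst h0
      rcases isEmpty_or_nonempty ι with hι | hι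
      · rw [det_isEmpty]
        exact ⟨1, by simp⟩
      · rw [det_zero]
        exact ⟨0, by simp⟩
    · have h1 : ∃ i j, M i j ≠ 0 := by
        by_contra hcon
        push Not at hcon
        apply h0
        ext i j
        exact hcon i j
      obtain ⟨i, j, hij⟩ := h1
      have hne : i ≠ j := by
        rintro rfl
        exact hij (diag_zero h2 M hM i)
      let q : ι → Prop := fun x => x = i ∨ x = j
      let e : ι ≃ {x // q x} ⊕ {x // ¬ q x} := (Equiv.sumCompl q).symm
      set M' := reindex e e M with hM'
      have hdet : M.det = M'.det := (det_reindex_self e M).symm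
      have hM't : M'ᵀ = -M' := by
        rw [hM', Matrix.transpose_reindex, hM]
        rfl
      set A := M'.toBlocks₁₁ with hA
      set B := M'.toBlocks₁₂ with hB
      set C := M'.toBlocks₂₁ with hC
      set D := M'.toBlocks₂₂ with hD
      have hblocks : M' = fromBlocks A B C D := (fromBlocks_toBlocks M').symm
      rw [hblocks, fromBlocks_transpose, fromBlocks_neg, fromBlocks_inj] at hM't
      obtain ⟨hAt, hCt, hBt, hDt⟩ := hM't
      have hAdet : A.det = M i j * M i j := by
        have := det_two h2 A hAt ⟨i, Or.inl rfl⟩ ⟨j, Or.inr rfl⟩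
          (by intro h; exact hne (congrArg Subtype.val h))
          (by
            rintro ⟨x, hx | hx⟩
            · left; exact Subtype.ext hx
            · right; exact Subtype.ext hx)
        rw [this]
        rfl
      have hAunit : IsUnit A.det := by
        rw [hAdet]
        exact IsUnit.mk0 _ (mul_ne_zero hij hij)
      let _ : Invertible A := Matrix.invertibleOfIsUnitDet A hAunit
      rw [hdet, hblocks, det_fromBlocks₁₁]
      apply IsSquare.mul ⟨M i j, hAdet⟩
      have hcard' : Fintype.card {x // ¬ q x} < n := by
        rw [← hcard]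
        apply Fintype.card_subtype_lt (x := i)
        simp [q]
      apply ih _ hcard' _ rfl
      have hinv : (⅟A)ᵀ = -⅟A := by
        have h3 : (-(⅟A)ᵀ) * A = 1 := by
          have h4 : (-(⅟A)ᵀ) * A = (⅟A)ᵀ * Aᵀ := by
            rw [hAt, Matrix.neg_mul, Matrix.mul_neg]
          rw [h4, ← transpose_mul, mul_invOf_self, transpose_one]
        have h5 := invOf_eq_left_inv h3
        have h6 := congrArg Neg.neg h5
        rw [neg_neg] at h6
        exact h6.symm
      rw [transpose_sub, transpose_mul, transpose_mul, hDt, hBt, hCt, hinv]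
      simp only [Matrix.neg_mul, Matrix.mul_neg, neg_neg, Matrix.mul_assoc]
      abel

theorem isSquare_det (h2 : (2 : K) ≠ 0) {ι : Type} [Fintype ι] [DecidableEq ι]
    (M : Matrix ι ι K) (hM : Mᵀ = -M) : IsSquare M.det :=
  isSquare_det_aux h2 _ ι rfl M hM

end Groth.Agent.Helper7.PFa
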