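import Mathlib
import Groth.Agent.Helper7.PFa

set_option autoImplicit false
universe u

namespace Groth.Agent.Helper7.PFb

open Matrix MvPolynomial Groth.Agent.Helper7

variable (n : Type) [Fintype n] [DecidableEq n]

/-- generic skew-symmetric matrix -/
noncomputable def G : Matrix n n (MvPolynomial (n × n) ℤ) :=
  fun i j => X (i, j) - X (j, i)

omit [Fintype n] [DecidableEq n] in
theorem G_transpose : (G n)ᵀ = - G n := by
  ext i j
  simp [G]

theorem exists_pf : ∃ pf : MvPolynomial (n × n) ℤ, (G n).det = pf * pf := by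
  set K := FractionRing (MvPolynomial (n × n) ℤ)
  have h2 : (2 : K) ≠ 0 := two_ne_zero
  have h1 : ((G n).map (algebraMap (MvPolynomial (n × n) ℤ) K))ᵀ =
      - (G n).map (algebraMap (MvPolynomial (n × n) ℤ) K) := by
    rw [← transpose_map, G_transpose]
    ext i j
    simp
  obtain ⟨q, hq⟩ := PFa.isSquare_det h2 _ h1
  have h3 : ((G n).map (algebraMap (MvPolynomial (n × n) ℤ) K)).det =
      algebraMap (MvPolynomial (n × n) ℤ) K (G n).det := by
    rw [RingHom.map_det]
    rfl
  have h4 : IsIntegral (MvPolynomial (n × n) ℤ) (q ^ 2) := by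
    rw [pow_two, ← hq, h3]
    exact isIntegral_algebraMap
  obtain ⟨pf, hpf⟩ := IsIntegrallyClosed.exists_algebraMap_eq_of_isIntegral_pow (by norm_num) h4
  refine ⟨pf, ?_⟩
  apply IsFractionRing.injective (MvPolynomial (n × n) ℤ) K
  rw [map_mul, hpf, ← hq, h3]

/-- a Pfaffian polynomial -/
noncomputable def pf : MvPolynomial (n × n) ℤ := (exists_pf n).choose

theorem det_G : (G n).det = pf n * pf n := (exists_pf n).choose_spec

variable {n}

theorem det_eq {S : Type u} [CommRing S] (y : n × n → S) :
    (Matrix.of fun i j => y (i, j) - y (j, i)).det =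
      (MvPolynomial.eval₂ (Int.castRingHom S) y (pf n)) * (MvPolynomial.eval₂ (Int.castRingHom S) y (pf n)) := by
  have h1 : (Matrix.of fun i j => y (i, j) - y (j, i)) =
      (G n).map (MvPolynomial.eval₂Hom (Int.castRingHom S) y) := by
    ext i j
    simp [G]
  have h2 : ((G n).map (MvPolynomial.eval₂Hom (Int.castRingHom S) y)).det =
      (MvPolynomial.eval₂Hom (Int.castRingHom S) y) (G n).det := by
    rw [RingHom.map_det]
    rfl
  rw [h1, h2, det_G, map_mul]
  rfl

end Groth.Agent.Helper7.PFb
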