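import Mathlib
import Groth.Agent.Helper7.PFb

set_option autoImplicit false
universe u

namespace Groth.Agent.Helper7.PFc

open Matrix Groth.Agent.Helper7

variable {m : ℕ}

/-- the standard symplectic matrix -/
noncomputable def J (m : ℕ) : Matrix (Fin m ⊕ Fin m) (Fin m ⊕ Fin m) ℂ :=
  Matrix.fromBlocks 0 1 (-1) 0

theorem J_transpose : (J m)ᵀ = - J m := by
  unfold J
  rw [fromBlocks_transpose, fromBlocks_neg]
  simp

theorem J_mul_transpose : J m * (J m)ᵀ = 1 := by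
  unfold J
  rw [fromBlocks_transpose, fromBlocks_multiply]
  simp [← fromBlocks_one]

variable {S : Type u} [CommRing S] (φ : ℂ →+* S)

theorem Jmap_transpose : ((J m).map φ)ᵀ = - (J m).map φ := by
  rw [← transpose_map, J_transpose]
  ext i j
  simp

theorem skew_of_comm (B : Matrix (Fin m ⊕ Fin m) (Fin m ⊕ Fin m) S)
    (hB : Bᵀ * (J m).map φ = (J m).map φ * B) :
    ((J m).map φ * B)ᵀ = - ((J m).map φ * B) := by
  rw [transpose_mul, Jmap_transpose, Matrix.mul_neg, hB]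

theorem half_add (x : S) : φ (1 / 2) * x - φ (1 / 2) * (-x) = x := by
  have : φ (1 / 2) + φ (1 / 2) = 1 := by
    rw [← map_add]
    norm_num
  linear_combination x * this

theorem det_skew (N : Matrix (Fin m ⊕ Fin m) (Fin m ⊕ Fin m) S) (hN : Nᵀ = -N) :
    N.det = (MvPolynomial.eval₂ (Int.castRingHom S) (fun ij => φ (1 / 2) * N ij.1 ij.2)
      (PFb.pf (Fin m ⊕ Fin m))) ^ 2 := by
  rw [pow_two, ← PFb.det_eq]
  congr 1
  ext i j
  rw [Matrix.of_apply]
  have h1 : N j i = - N i j := by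
    have := congrFun (congrFun hN i) j
    simpa only [transpose_apply, Matrix.neg_apply] using this
  dsimp only
  rw [h1, half_add]

/-- `Pf(J)` -/
noncomputable def e (m : ℕ) : ℂ :=
  MvPolynomial.eval₂ (Int.castRingHom ℂ) (fun ij => (1 / 2 : ℂ) * (J m) ij.1 ij.2)
      (PFb.pf (Fin m ⊕ Fin m))

theorem det_J : (J m).det = (e m) ^ 2 := by
  exact det_skew (RingHom.id ℂ) (J m) J_transpose

theorem det_J_mul : (J m).det * (J m).det = 1 := by
  have h := congrArg Matrix.det (J_mul_transpose (m := m))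
  rwa [det_mul, det_transpose, det_one] at h

theorem key (B : Matrix (Fin m ⊕ Fin m) (Fin m ⊕ Fin m) S)
    (hB : Bᵀ * (J m).map φ = (J m).map φ * B) :
    B.det = (φ (e m) * MvPolynomial.eval₂ (Int.castRingHom S)
      (fun ij => φ (1 / 2) * ((J m).map φ * B) ij.1 ij.2) (PFb.pf (Fin m ⊕ Fin m))) ^ 2 := by
  have h1 := det_skew φ _ (skew_of_comm φ B hB)
  rw [det_mul] at h1
  have h2 : ((J m).map φ).det = φ ((J m).det) := by
    rw [RingHom.map_det]
    rfl
  rw [h2] at h1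
  rw [mul_pow, ← h1, ← map_pow, ← det_J, ← mul_assoc, ← map_mul, det_J_mul, map_one, one_mul]

/-- polynomial version -/
theorem exists_poly (𝔅 : Matrix (Fin m ⊕ Fin m) (Fin m ⊕ Fin m)
      (MvPolynomial ((Fin m ⊕ Fin m) × (Fin m ⊕ Fin m)) S)) :
    ∃ Q : MvPolynomial ((Fin m ⊕ Fin m) × (Fin m ⊕ Fin m)) S,
      ∀ a : (Fin m ⊕ Fin m) × (Fin m ⊕ Fin m) → S,
        (𝔅.map (MvPolynomial.eval a))ᵀ * (J m).map φ = (J m).map φ * 𝔅.map (MvPolynomial.eval a) →
        (𝔅.map (MvPolynomial.eval a)).det = (MvPolynomial.eval a Q) ^ 2 := by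
  let JC : Matrix (Fin m ⊕ Fin m) (Fin m ⊕ Fin m)
      (MvPolynomial ((Fin m ⊕ Fin m) × (Fin m ⊕ Fin m)) S) := ((J m).map φ).map MvPolynomial.C
  refine ⟨MvPolynomial.C (φ (e m)) * MvPolynomial.eval₂
    (Int.castRingHom (MvPolynomial ((Fin m ⊕ Fin m) × (Fin m ⊕ Fin m)) S))
    (fun ij => MvPolynomial.C (φ (1 / 2)) * (JC * 𝔅) ij.1 ij.2)
    (PFb.pf (Fin m ⊕ Fin m)), ?_⟩
  intro a ha
  rw [key φ _ ha, map_mul, MvPolynomial.eval_C]
  congr 2
  rw [MvPolynomial.eval₂_comp_left]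
  congr 1
  · exact RingHom.ext_int _ _
  · ext ij
    simp only [Function.comp_apply, map_mul, MvPolynomial.eval_C]
    congr 1
    have h1 : (JC * 𝔅).map (MvPolynomial.eval a) =
        (J m).map φ * 𝔅.map (MvPolynomial.eval a) := by
      rw [Matrix.map_mul]
      congr 1
      ext i j
      simp [JC]
    exact (congrFun (congrFun h1 ij.1) ij.2).symm

end Groth.Agent.Helper7.PFc
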