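import Mathlib
import Groth.Agent.Helper7.PFc

set_option autoImplicit false
universe u

namespace Groth.Agent.Helper7.PFd

open Matrix Groth.Agent.Helper7

variable {m : ℕ}

theorem charmatrix_comm (A : Matrix (Fin m ⊕ Fin m) (Fin m ⊕ Fin m) ℂ)
    (hA : Aᵀ * PFc.J m = PFc.J m * A) :
    (charmatrix A)ᵀ * (PFc.J m).map (Polynomial.C : ℂ →+* Polynomial ℂ) =
      (PFc.J m).map (Polynomial.C : ℂ →+* Polynomial ℂ) * charmatrix A := by
  rw [← charmatrix_transpose]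
  unfold charmatrix
  rw [Matrix.sub_mul, Matrix.mul_sub]
  congr 1
  · exact scalar_comm _ (fun r => Commute.all _ _) _
  · have h1 : (PFc.J m).map (Polynomial.C : ℂ →+* Polynomial ℂ) =
        (Polynomial.C : ℂ →+* Polynomial ℂ).mapMatrix (PFc.J m) := rfl
    rw [h1, ← map_mul, ← map_mul, hA]

theorem part1 (m : ℕ) :
    ∃ P : MvPolynomial ((Fin m ⊕ Fin m) × (Fin m ⊕ Fin m)) (Polynomial ℂ),
      ∀ A : Matrix (Fin m ⊕ Fin m) (Fin m ⊕ Fin m) ℂ,
        A.transpose * Matrix.fromBlocks 0 1 (-1) 0 = Matrix.fromBlocks 0 1 (-1) 0 * A →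
        A.charpoly = (MvPolynomial.eval (fun ij => Polynomial.C (A ij.1 ij.2)) P) ^ 2 := by
  obtain ⟨Q, hQ⟩ := PFc.exists_poly (m := m) (Polynomial.C : ℂ →+* Polynomial ℂ)
    (Matrix.of fun i j => (if i = j then MvPolynomial.C Polynomial.X else 0) - MvPolynomial.X (i, j))
  refine ⟨Q, ?_⟩
  intro A hA
  have h1 : (Matrix.of fun i j => (if i = j then
      (MvPolynomial.C Polynomial.X : MvPolynomial ((Fin m ⊕ Fin m) × (Fin m ⊕ Fin m)) (Polynomial ℂ))
        else 0) - MvPolynomial.X (i, j)).map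
      (MvPolynomial.eval (fun ij => Polynomial.C (A ij.1 ij.2))) = charmatrix A := by
    ext i j
    rw [Matrix.map_apply, Matrix.of_apply, charmatrix_apply, diagonal_apply, map_sub,
      MvPolynomial.eval_X]
    split_ifs <;> simp
  have h2 := hQ (fun ij => Polynomial.C (A ij.1 ij.2))
  rw [h1] at h2
  exact h2 (charmatrix_comm A hA)

theorem part2 (m : ℕ) :
    ∃ Q : MvPolynomial ((Fin m ⊕ Fin m) × (Fin m ⊕ Fin m)) ℂ,
      ∀ A : Matrix (Fin m ⊕ Fin m) (Fin m ⊕ Fin m) ℂ,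
        A.transpose * Matrix.fromBlocks 0 1 (-1) 0 = Matrix.fromBlocks 0 1 (-1) 0 * A →
        A.det = (MvPolynomial.eval (fun ij => A ij.1 ij.2) Q) ^ 2 := by
  obtain ⟨Q, hQ⟩ := PFc.exists_poly (m := m) (RingHom.id ℂ)
    (Matrix.of fun i j => MvPolynomial.X (i, j))
  refine ⟨Q, ?_⟩
  intro A hA
  have h1 : (Matrix.of fun i j =>
      (MvPolynomial.X (i, j) : MvPolynomial ((Fin m ⊕ Fin m) × (Fin m ⊕ Fin m)) ℂ)).map
      (MvPolynomial.eval (fun ij => A ij.1 ij.2)) = A := by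
    ext i j
    rw [Matrix.map_apply, Matrix.of_apply, MvPolynomial.eval_X]
  have h2 := hQ (fun ij => A ij.1 ij.2)
  rw [h1] at h2
  apply h2
  have h3 : (PFc.J m).map (RingHom.id ℂ) = PFc.J m := by
    ext i j
    simp
  rw [h3]
  exact hA

end Groth.Agent.Helper7.PFd
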