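import Mathlib
import Groth.Prelude.Def_EGA41
import Groth.Agent.Helper1.PBasis

set_option linter.style.haveILetI false
set_option linter.unusedSectionVars false

/-!
# `K[T_i]/(T_i^p - a_i)` is a field when the `a_i` are `p`-independent
-/

namespace Groth.Agent.Helper7.PIndQuot

universe u
open MvPolynomial

section red

variable {R : Type u} [CommRing R] (p : ℕ) {ι : Type u} (a : ι → R)

/-- the ideal `(T_i^p - a_i)` -/
noncomputable abbrev JP : Ideal (MvPolynomial ι R) :=
  Ideal.span (Set.range fun i => (X i : MvPolynomial ι R) ^ p - C (a i))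

theorem mk_X_pow (i : ι) :
    (Ideal.Quotient.mk (JP p a) (X i)) ^ p = Ideal.Quotient.mk (JP p a) (C (a i)) := by
  rw [← map_pow, Ideal.Quotient.eq]
  exact Ideal.subset_span ⟨i, rfl⟩

/-- the index type of reduced exponents -/
abbrev RedIdx (p : ℕ) (ι : Type u) : Type u := {e : ι →₀ ℕ // ∀ i, e i < p}

/-- the reduced part of an exponent -/
noncomputable def redPart (hp : 0 < p) (e : ι →₀ ℕ) : RedIdx p ι :=
  ⟨e.mapRange (· % p) (Nat.zero_mod p), fun i => by
    rw [Finsupp.mapRange_apply]; exact Nat.mod_lt _ hp⟩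

/-- the coefficient coming from the `p`-divisible part of an exponent -/
noncomputable def divCoeff (e : ι →₀ ℕ) : R :=
  (e.mapRange (· / p) (Nat.zero_div p)).prod fun i n => a i ^ n

theorem monomial_sub_mem (hp : 0 < p) (e : ι →₀ ℕ) (c : R) :
    monomial e c - monomial (redPart p hp e).1 (c * divCoeff p a e) ∈ JP p a := by
  rw [← Ideal.Quotient.eq, monomial_eq, monomial_eq, map_mul, map_mul, map_finsuppProd,
    map_finsuppProd]
  simp only [map_pow]
  rw [Groth.Agent.Helper1.PBasis.prod_pow_split p (fun i => Ideal.Quotient.mk (JP p a) (X i)) e]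
  simp only [mk_X_pow p a]
  rw [C_mul, map_mul, divCoeff, map_finsuppProd, map_finsuppProd]
  simp only [map_pow, redPart]
  ring

theorem exists_reduced (hp : 0 < p) (f : MvPolynomial ι R) :
    ∃ g : RedIdx p ι →₀ R, f - g.sum (fun e c => monomial e.1 c) ∈ JP p a := by
  induction f using MvPolynomial.induction_on' with
  | monomial e c =>
    refine ⟨Finsupp.single (redPart p hp e) (c * divCoeff p a e), ?_⟩
    rw [Finsupp.sum_single_index (by simp)]
    exact monomial_sub_mem p a hp e c
  | add f₁ f₂ h₁ h₂ =>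
    obtain ⟨g₁, hg₁⟩ := h₁
    obtain ⟨g₂, hg₂⟩ := h₂
    refine ⟨g₁ + g₂, ?_⟩
    rw [Finsupp.sum_add_index' (by simp) (by intro e c₁ c₂; simp)]
    have : f₁ + f₂ - (g₁.sum (fun e c => monomial e.1 c) + g₂.sum (fun e c => monomial e.1 c)) =
        (f₁ - g₁.sum (fun e c => monomial e.1 c)) + (f₂ - g₂.sum (fun e c => monomial e.1 c)) := by
      ring
    rw [this]
    exact Ideal.add_mem _ hg₁ hg₂

theorem isIntegral_quot (hp : 0 < p) [Nontrivial R] :
    Algebra.IsIntegral R (MvPolynomial ι R ⧸ JP p a) := by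
  have hint : ∀ i, IsIntegral R (Ideal.Quotient.mkₐ R (JP p a) (X i)) := by
    intro i
    refine ⟨Polynomial.X ^ p - Polynomial.C (a i), Polynomial.monic_X_pow_sub_C _ hp.ne', ?_⟩
    rw [← Polynomial.aeval_def, Polynomial.aeval_algHom_apply]
    have : Polynomial.aeval (X i : MvPolynomial ι R) (Polynomial.X ^ p - Polynomial.C (a i)) =
        X i ^ p - C (a i) := by
      rw [map_sub, map_pow, Polynomial.aeval_X, Polynomial.aeval_C]
      rfl
    rw [this]
    exact Ideal.Quotient.eq_zero_iff_mem.mpr (Ideal.subset_span ⟨i, rfl⟩)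
  have hadj : Algebra.adjoin R (Set.range fun i => Ideal.Quotient.mkₐ R (JP p a) (X i)) = ⊤ := by
    have h1 := MvPolynomial.adjoin_range_X (R := R) (σ := ι)
    have h2 : (Set.range fun i => Ideal.Quotient.mkₐ R (JP p a) (X i)) =
        (Ideal.Quotient.mkₐ R (JP p a)) '' (Set.range X) := by
      rw [← Set.range_comp]; rfl
    rw [h2, ← AlgHom.map_adjoin, h1, Algebra.map_top, AlgHom.range_eq_top]
    exact Ideal.Quotient.mkₐ_surjective R _
  have hle : (⊤ : Subalgebra R (MvPolynomial ι R ⧸ JP p a)) ≤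
      integralClosure R (MvPolynomial ι R ⧸ JP p a) := by
    rw [← hadj]
    apply Algebra.adjoin_le
    rintro _ ⟨i, rfl⟩
    exact hint i
  exact ⟨fun x => hle Algebra.mem_top⟩

end red

section field

variable {K : Type u} [Field K] (p : ℕ) [hpf : Fact p.Prime] [CharP K p] {ι : Type u} (a : ι → K)

/-- the Frobenius-twisted evaluation `Σ c_e T^e ↦ Σ c_e^p a^e` -/
noncomputable def Psi : MvPolynomial ι K →+* K := eval₂Hom (frobenius K p) a

theorem Psi_monomial (e : ι →₀ ℕ) (c : K) :
    Psi p a (monomial e c) = c ^ p * EGA41.pMonomial a e := by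
  unfold Psi
  rw [coe_eval₂Hom, eval₂_monomial]
  rfl

theorem JP_le_ker : JP p a ≤ RingHom.ker (Psi p a) := by
  rw [Ideal.span_le]
  rintro _ ⟨i, rfl⟩
  rw [SetLike.mem_coe, RingHom.mem_ker]
  unfold Psi
  rw [map_sub, map_pow, coe_eval₂Hom, eval₂_X, eval₂_C, frobenius_def, sub_self]

theorem ker_le_JP
    (hind : LinearIndependent (↥(frobenius K p).fieldRange)
      (fun e : {e : ι →₀ ℕ // ∀ i, e i < p} => EGA41.pMonomial a e.1)) :
    RingHom.ker (Psi p a) ≤ JP p a := by
  intro f hf
  obtain ⟨g, hg⟩ := exists_reduced p a hpf.out.pos f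
  have h1 : Psi p a (g.sum (fun e c => monomial e.1 c)) = 0 := by
    have := JP_le_ker p a hg
    rw [RingHom.mem_ker, map_sub, (RingHom.mem_ker).1 hf, zero_sub, neg_eq_zero] at this
    exact this
  -- the coefficients `c_e^p` as elements of `K^p`
  let g' : RedIdx p ι →₀ (frobenius K p).fieldRange :=
    g.mapRange (fun c => ⟨c ^ p, ⟨c, rfl⟩⟩) (by
      apply Subtype.ext
      exact zero_pow hpf.out.ne_zero)
  have h2 : Psi p a (g.sum (fun e c => monomial e.1 c)) =
      Finsupp.linearCombination (↥(frobenius K p).fieldRange)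
        (fun e : RedIdx p ι => EGA41.pMonomial a e.1) g' := by
    rw [Finsupp.linearCombination_apply, Finsupp.sum, map_sum,
      Finsupp.sum_mapRange_index (by intro e; exact zero_smul _ _), Finsupp.sum]
    apply Finset.sum_congr rfl
    intro e _
    rw [Psi_monomial p a]
    rfl
  rw [h2] at h1
  have hg0 : g' = 0 := (linearIndependent_iff.1 hind) g' h1
  have hg00 : g = 0 := by
    ext e
    have := congrArg (fun h : RedIdx p ι →₀ (frobenius K p).fieldRange => ((h e : _) : K)) hg0
    simp only [g', Finsupp.mapRange_apply, Finsupp.coe_zero, Pi.zero_apply,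
      ZeroMemClass.coe_zero] at this
    rw [Finsupp.coe_zero, Pi.zero_apply]
    exact pow_eq_zero_iff hpf.out.ne_zero |>.mp this
  rw [hg00, Finsupp.sum_zero_index, sub_zero] at hg
  exact hg

/-- `K[T_i]/(T_i^p - a_i)` is a field -/
theorem isMaximal_JP
    (hind : LinearIndependent (↥(frobenius K p).fieldRange)
      (fun e : {e : ι →₀ ℕ // ∀ i, e i < p} => EGA41.pMonomial a e.1)) :
    (JP p a).IsMaximal := by
  have hker : JP p a = RingHom.ker (Psi p a) := le_antisymm (JP_le_ker p a) (ker_le_JP p a hind)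
  haveI hprime : (JP p a).IsPrime := by
    rw [hker]
    exact RingHom.ker_isPrime _
  haveI : IsDomain (MvPolynomial ι K ⧸ JP p a) := Ideal.Quotient.isDomain _
  haveI := isIntegral_quot p a hpf.out.pos
  have hfield : IsField (MvPolynomial ι K ⧸ JP p a) :=
    isField_of_isIntegral_of_isField' (R := K) (Field.toIsField K)
  exact Ideal.Quotient.maximal_of_isField _ hfield

end field

end Groth.Agent.Helper7.PIndQuot
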