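import Mathlib
import Groth.Agent.Helper7.PIndQuot1
import Groth.Agent.Helper7.PPoly1

set_option linter.style.haveILetI false
set_option linter.unusedSectionVars false

/-!
# `A[T_i]/(T_i^p + p(…) - f_i)` over a local ring with `𝔪² = 0` and `p`-independent `f̄_i`
-/

namespace Groth.Agent.Helper7.PIndQuot

universe u
open MvPolynomial IsLocalRing

section gen

variable {R S : Type*} [CommRing R] [CommRing S] {σ : Type*} (φ : R →+* S)

/-- reduction of a quotient of a polynomial ring along a surjection of coefficient rings -/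
theorem exists_red_gen (hφ : Function.Surjective φ) (J : Ideal (MvPolynomial σ R))
    (J' : Ideal (MvPolynomial σ S)) (hJ : J.map (MvPolynomial.map φ) = J') :
    ∃ π : (MvPolynomial σ R ⧸ J) →+* (MvPolynomial σ S ⧸ J'),
      Function.Surjective π ∧
      RingHom.ker π = (RingHom.ker φ).map (algebraMap R (MvPolynomial σ R ⧸ J)) := by
  obtain ⟨π₀, hπ₀⟩ : ∃ π₀ : MvPolynomial σ R →+* (MvPolynomial σ S ⧸ J'),
      ∀ q, π₀ q = Ideal.Quotient.mk J' (MvPolynomial.map φ q) :=
    ⟨(Ideal.Quotient.mk J').comp (MvPolynomial.map φ), fun q => rfl⟩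
  have hker₀ : ∀ q, π₀ q = 0 ↔
      q ∈ J ⊔ (RingHom.ker φ).map (C : R →+* MvPolynomial σ R) := by
    intro q
    rw [hπ₀, Ideal.Quotient.eq_zero_iff_mem, ← hJ,
      Ideal.mem_map_iff_of_surjective _ (MvPolynomial.map_surjective _ hφ)]
    constructor
    · rintro ⟨q', hq', hqq'⟩
      have h1 : q - q' ∈ RingHom.ker (MvPolynomial.map φ :
          MvPolynomial σ R →+* MvPolynomial σ S) := by
        rw [RingHom.mem_ker, map_sub, hqq', sub_self]
      rw [MvPolynomial.ker_map] at h1
      have : q = q' + (q - q') := by ring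
      rw [this]
      exact Submodule.add_mem_sup hq' h1
    · intro hq
      obtain ⟨q', hq', q'', hq'', rfl⟩ := Submodule.mem_sup.mp hq
      refine ⟨q', hq', ?_⟩
      have h1 : q'' ∈ RingHom.ker (MvPolynomial.map φ :
          MvPolynomial σ R →+* MvPolynomial σ S) := by
        rw [MvPolynomial.ker_map]
        exact hq''
      rw [map_add, RingHom.mem_ker.mp h1, add_zero]
  have hle : ∀ q ∈ J, π₀ q = 0 := fun q hq => (hker₀ q).mpr (Ideal.mem_sup_left hq)
  refine ⟨Ideal.Quotient.lift J π₀ hle, ?_, ?_⟩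
  · apply Ideal.Quotient.lift_surjective_of_surjective
    intro b
    obtain ⟨q, rfl⟩ := Ideal.Quotient.mk_surjective b
    obtain ⟨q', rfl⟩ := MvPolynomial.map_surjective _ hφ q
    exact ⟨q', hπ₀ q'⟩
  · ext x
    obtain ⟨q, rfl⟩ := Ideal.Quotient.mk_surjective x
    rw [RingHom.mem_ker, Ideal.Quotient.lift_mk, hker₀]
    have hmapC : (RingHom.ker φ).map (algebraMap R (MvPolynomial σ R ⧸ J)) =
        ((RingHom.ker φ).map (C : R →+* MvPolynomial σ R)).map (Ideal.Quotient.mk J) := by
      rw [Ideal.map_map]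
      rfl
    rw [hmapC]
    constructor
    · intro hq
      obtain ⟨q', hq', q'', hq'', rfl⟩ := Submodule.mem_sup.mp hq
      rw [map_add, Ideal.Quotient.eq_zero_iff_mem.mpr hq', zero_add]
      exact Ideal.mem_map_of_mem _ hq''
    · intro hq
      rw [Ideal.mem_map_iff_of_surjective _ Ideal.Quotient.mk_surjective] at hq
      obtain ⟨q'', hq'', hqq⟩ := hq
      have h1 : q - q'' ∈ J := by
        rw [← Ideal.Quotient.eq]
        exact hqq.symm
      have : q = (q - q'') + q'' := by ring
      rw [this]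
      exact Submodule.add_mem_sup h1 hq''

end gen

section main

variable {A : Type u} [CommRing A] [IsLocalRing A] (p : ℕ) [hpf : Fact p.Prime]
  [CharP (ResidueField A) p] {ι : Type u} (c : ι → Fin p → A) (f : ι → A)

/-- the polynomials `F_i = T_i^p + p Σ_j c_{ij} T_i^{p-j} - f_i` -/
noncomputable def FI (i : ι) : MvPolynomial ι A :=
  X i ^ p + (p : MvPolynomial ι A) * (Finset.univ.sum fun j : Fin p =>
    if (j : ℕ) = 0 then 0 else C (c i j) * X i ^ (p - (j : ℕ))) - C (f i)

theorem map_FI (i : ι) :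
    MvPolynomial.map (residue A) (FI p c f i) = X i ^ p - C (residue A (f i)) := by
  have h0 : ((p : ℕ) : MvPolynomial ι (ResidueField A)) = 0 := by
    rw [← map_natCast (C : ResidueField A →+* MvPolynomial ι (ResidueField A)),
      CharP.cast_eq_zero, map_zero]
  unfold FI
  rw [map_sub, map_add, map_mul, map_pow, map_natCast, MvPolynomial.map_X, MvPolynomial.map_C, h0,
    zero_mul, add_zero]

theorem map_span_FI :
    (Ideal.span (Set.range (FI p c f))).map (MvPolynomial.map (residue A)) =
      JP p (fun i => residue A (f i)) := by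
  rw [Ideal.map_span, ← Set.range_comp]
  congr 2
  funext i
  exact map_FI p c f i

theorem s4605 (hm : maximalIdeal A ^ 2 = ⊥)
    (hind : LinearIndependent (↥(frobenius (ResidueField A) p).fieldRange)
      (fun e : {e : ι →₀ ℕ // ∀ i, e i < p} => EGA41.pMonomial (fun i => residue A (f i)) e.1)) :
    ∃ _ : IsLocalRing (MvPolynomial ι A ⧸ Ideal.span (Set.range (FI p c f))),
      maximalIdeal (MvPolynomial ι A ⧸ Ideal.span (Set.range (FI p c f))) =
        (maximalIdeal A).map (algebraMap A (MvPolynomial ι A ⧸ Ideal.span (Set.range (FI p c f)))) := by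
  obtain ⟨π, hπs, hπk⟩ := exists_red_gen (σ := ι) (residue A) residue_surjective
    (Ideal.span (Set.range (FI p c f))) _ (map_span_FI p c f)
  rw [ker_residue] at hπk
  haveI hmax : (JP p (fun i => residue A (f i))).IsMaximal := isMaximal_JP p _ hind
  letI : Field (MvPolynomial ι (ResidueField A) ⧸ JP p (fun i => residue A (f i))) :=
    Ideal.Quotient.field _
  have hnil : ∀ M : Ideal (MvPolynomial ι A ⧸ Ideal.span (Set.range (FI p c f))), M.IsMaximal →
      RingHom.ker π ≤ M := by
    intro M hM
    rw [hπk]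
    have h1 : ((maximalIdeal A).map (algebraMap A
        (MvPolynomial ι A ⧸ Ideal.span (Set.range (FI p c f))))) ^ 2 ≤ M := by
      rw [← Ideal.map_pow, hm, Ideal.map_bot]
      exact bot_le
    haveI := hM.isPrime
    exact Ideal.IsPrime.le_of_pow_le h1
  haveI hloc : IsLocalRing (MvPolynomial ι A ⧸ Ideal.span (Set.range (FI p c f))) :=
    Groth.Agent.Helper7.PPoly.isLocalRing_of_surjective_of_ker_le π hπs hnil
  refine ⟨hloc, ?_⟩
  rw [← hπk]
  exact (IsLocalRing.eq_maximalIdeal (RingHom.ker_isMaximal_of_surjective π hπs)).symm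

end main

end Groth.Agent.Helper7.PIndQuot
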