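import Groth.Agent.Helper7.PLieNil2

set_option autoImplicit false
universe u v

namespace Groth.Agent.Helper7.PLieKill

open LieAlgebra LieModule Groth.Agent.Helper7.PLieNil2

variable {k : Type u} [Field k] {L : Type v} [LieRing L] [LieAlgebra k L] [Module.Finite k L]

/-- If `U` consists of ad-nilpotent elements and `h` normalizes `U`, then `ad h ∘ ad u` is
nilpotent for `u ∈ U`. -/
theorem ad_comp_nilpotent (U : LieSubalgebra k L)
    (hUnil : ∀ u ∈ U, IsNilpotent (LieAlgebra.ad k L u))
    (h : L) (hh : ∀ u ∈ U, ⁅h, u⁆ ∈ U) (u : L) (hu : u ∈ U) :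
    IsNilpotent (LieAlgebra.ad k L h * LieAlgebra.ad k L u) := by
  have hnilmod : LieModule.IsNilpotent U L := by
    rw [LieModule.isNilpotent_iff_forall' (R := k)]
    intro x
    obtain ⟨n, hn⟩ := hUnil (x : L) x.2
    refine ⟨n, ?_⟩
    have : LieModule.toEnd k U L x = LieAlgebra.ad k L (x : L) := by
      ext m; rfl
    rw [this, hn]
  obtain ⟨n, hn⟩ := (LieModule.isNilpotent_iff k U L).mp hnilmod
  -- stability of the lower central series under `h`
  have hstab : ∀ i : ℕ, ∀ m ∈ LieModule.lowerCentralSeries k U L i,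
      ⁅h, m⁆ ∈ LieModule.lowerCentralSeries k U L i := by
    intro i
    induction i with
    | zero => intro m _; rw [LieModule.lowerCentralSeries_zero]; exact LieSubmodule.mem_top _
    | succ i ih =>
      intro m hm
      rw [LieModule.lowerCentralSeries_succ] at hm ⊢
      rw [← LieSubmodule.mem_toSubmodule, LieSubmodule.lieIdeal_oper_eq_linear_span'] at hm
      refine Submodule.span_induction ?_ ?_ ?_ ?_ hm
      · rintro _ ⟨x, -, m', hm', rfl⟩
        have hxm : ⁅x, m'⁆ = ⁅(x : L), m'⁆ := rfl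
        rw [hxm, leibniz_lie]
        refine add_mem ?_ ?_
        · have : ⁅⁅h, (x : L)⁆, m'⁆ = ⁅(⟨⁅h, (x : L)⁆, hh _ x.2⟩ : U), m'⁆ := rfl
          rw [this]
          exact LieSubmodule.lie_mem_lie (LieSubmodule.mem_top _) hm'
        · have : ⁅(x : L), ⁅h, m'⁆⁆ = ⁅x, ⁅h, m'⁆⁆ := rfl
          rw [this]
          exact LieSubmodule.lie_mem_lie (LieSubmodule.mem_top _) (ih m' hm')
      · rw [lie_zero]; exact zero_mem _
      · intro a b _ _ ha hb; rw [lie_add]; exact add_mem ha hb
      · intro c a _ ha; rw [lie_smul]; exact Submodule.smul_mem _ c ha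
  have hpow : ∀ j : ℕ, ∀ v : L,
      ((LieAlgebra.ad k L h * LieAlgebra.ad k L u) ^ j) v ∈ LieModule.lowerCentralSeries k U L j := by
    intro j
    induction j with
    | zero => intro v; rw [LieModule.lowerCentralSeries_zero]; exact LieSubmodule.mem_top _
    | succ j ih =>
      intro v
      rw [pow_succ', Module.End.mul_apply, Module.End.mul_apply, LieAlgebra.ad_apply,
        LieAlgebra.ad_apply]
      apply hstab
      rw [LieModule.lowerCentralSeries_succ]
      have : ⁅u, ((LieAlgebra.ad k L h * LieAlgebra.ad k L u) ^ j) v⁆ =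
          ⁅(⟨u, hu⟩ : U), ((LieAlgebra.ad k L h * LieAlgebra.ad k L u) ^ j) v⁆ := rfl
      rw [this]
      exact LieSubmodule.lie_mem_lie (LieSubmodule.mem_top _) (ih v)
  refine ⟨n, ?_⟩
  ext v
  have := hpow n v
  rw [hn, LieSubmodule.mem_bot] at this
  rw [this]; rfl

theorem killing_eq_zero (U : LieSubalgebra k L)
    (hUnil : ∀ u ∈ U, IsNilpotent (LieAlgebra.ad k L u))
    (h : L) (hh : ∀ u ∈ U, ⁅h, u⁆ ∈ U) (u : L) (hu : u ∈ U) :
    killingForm k L h u = 0 := by
  rw [killingForm_apply_apply]
  have := LinearMap.isNilpotent_trace_of_isNilpotent (ad_comp_nilpotent U hUnil h hh u hu)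
  exact this.eq_zero

theorem result (k : Type u) [Field k] (p : ℕ) [Fact p.Prime] [CharP k p]
    (L : Type v) [LieRing L] [LieAlgebra k L] [Module.Finite k L]
    (φ : PLie.PMap k p L) (hκ : (killingForm k L).Nondegenerate)
    (U H : LieSubalgebra k L) (hH : H = U.normalizer)
    (hU : ∀ x : L, x ∈ U ↔ ∃ hx : x ∈ H, (⟨x, hx⟩ : ↥H) ∈ LieAlgebra.radical k ↥H ∧ PLie.IsPNilpotent φ x)
    (hperp : ∀ a b : L, (∀ y ∈ U, killingForm k L a y = 0) → (∀ y ∈ U, killingForm k L b y = 0) →
      ∀ y ∈ U, killingForm k L ⁅a, b⁆ y = 0) :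
    ∀ x : L, x ∈ U ↔ ∀ h ∈ H, killingForm k L h x = 0 := by
  have hUnil : ∀ u ∈ U, IsNilpotent (LieAlgebra.ad k L u) := fun u hu =>
    ad_nilpotent_of_pnil φ u ((hU u).mp hu).2.2
  have hsymm : ∀ a b : L, killingForm k L a b = killingForm k L b a :=
    fun a b => LieModule.traceForm_comm k L L a b
  have hrefl : (killingForm k L).IsRefl := (LieModule.traceForm_isSymm k L L).isRefl
  have hUU : (killingForm k L).orthogonal ((killingForm k L).orthogonal U.toSubmodule) =
      U.toSubmodule := LinearMap.BilinForm.orthogonal_orthogonal hκ hrefl _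
  -- (A)
  have hA : ∀ h ∈ H, ∀ u ∈ U, killingForm k L h u = 0 := by
    intro h hh u hu
    rw [hH, LieSubalgebra.mem_normalizer_iff] at hh
    exact killing_eq_zero U hUnil h hh u hu
  -- (C)
  have hC : ∀ a : L, (∀ y ∈ U, killingForm k L a y = 0) → a ∈ H := by
    intro a ha
    rw [hH, LieSubalgebra.mem_normalizer_iff]
    intro u hu
    have : ⁅a, u⁆ ∈ (killingForm k L).orthogonal ((killingForm k L).orthogonal U.toSubmodule) := by
      rw [LinearMap.BilinForm.mem_orthogonal_iff]
      intro b hb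
      rw [LinearMap.BilinForm.mem_orthogonal_iff] at hb
      have hb' : ∀ y ∈ U, killingForm k L b y = 0 := fun y hy => by
        rw [hsymm]; exact hb y hy
      -- κ(b, [a,u]) = κ([b,a],u) = 0
      have h1 : killingForm k L b ⁅a, u⁆ = killingForm k L ⁅b, a⁆ u :=
        (LieModule.traceForm_apply_lie_apply k L L b a u).symm
      rw [h1]
      exact hperp b a hb' ha u hu
    rw [hUU] at this
    exact this
  intro x
  constructor
  · intro hx h hh
    exact hA h hh x hx
  · intro hx
    have : x ∈ (killingForm k L).orthogonal ((killingForm k L).orthogonal U.toSubmodule) := by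
      rw [LinearMap.BilinForm.mem_orthogonal_iff]
      intro b hb
      rw [LinearMap.BilinForm.mem_orthogonal_iff] at hb
      have hb' : ∀ y ∈ U, killingForm k L b y = 0 := fun y hy => by
        rw [hsymm]; exact hb y hy
      exact hx b (hC b hb')
    rw [hUU] at this
    exact this

end Groth.Agent.Helper7.PLieKill
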