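import Groth.Agent.Helper7.PLieRad

set_option autoImplicit false
universe u v

namespace Groth.Agent.Helper7.PLieNil

open LieAlgebra Groth.Agent.Helper7.PLieRad

variable {k : Type u} [Field k] {p : ℕ} [Fact p.Prime] [CharP k p]
  {L : Type v} [LieRing L] [LieAlgebra k L]

/-- membership in the `j`-th term of the lower central series of the ideal `N`, viewed in `L` -/
def InC (N : LieIdeal k L) (j : ℕ) (y : L) : Prop :=
  ∃ h : y ∈ N, (⟨y, h⟩ : N) ∈ LieModule.lowerCentralSeries k N N j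

lemma inC_zero (N : LieIdeal k L) (y : L) (hy : y ∈ N) : InC N 0 y :=
  ⟨hy, by rw [LieModule.lowerCentralSeries_zero]; exact LieSubmodule.mem_top _⟩

lemma inC_mem (N : LieIdeal k L) (j : ℕ) (y : L) (h : InC N j y) : y ∈ N := h.1

lemma inC_lie (N : LieIdeal k L) (j : ℕ) (r y : L) (hr : r ∈ N) (h : InC N j y) :
    InC N (j + 1) ⁅r, y⁆ := by
  obtain ⟨hy, hy'⟩ := h
  refine ⟨lie_mem_right k L N r y hy, ?_⟩
  rw [LieModule.lowerCentralSeries_succ]
  have : (⟨⁅r, y⁆, lie_mem_right k L N r y hy⟩ : N) = ⁅(⟨r, hr⟩ : N), (⟨y, hy⟩ : N)⁆ := rfl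
  rw [this]
  exact LieSubmodule.lie_mem_lie (LieSubmodule.mem_top _) hy'

lemma inC_succ (N : LieIdeal k L) (j : ℕ) (y : L) (h : InC N (j + 1) y) : InC N j y := by
  obtain ⟨hy, hy'⟩ := h
  exact ⟨hy, LieModule.antitone_lowerCentralSeries k N N (Nat.le_succ j) hy'⟩

lemma inC_add (N : LieIdeal k L) (j : ℕ) (y z : L) (hy : InC N j y) (hz : InC N j z) :
    InC N j (y + z) := by
  obtain ⟨hy, hy'⟩ := hy
  obtain ⟨hz, hz'⟩ := hz
  exact ⟨N.add_mem hy hz, (LieModule.lowerCentralSeries k N N j).add_mem hy' hz'⟩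

lemma inC_smul (N : LieIdeal k L) (j : ℕ) (c : k) (y : L) (hy : InC N j y) :
    InC N j (c • y) := by
  obtain ⟨hy, hy'⟩ := hy
  exact ⟨N.smul_mem c hy, (LieModule.lowerCentralSeries k N N j).smul_mem c hy'⟩

lemma inC_eq_zero (N : LieIdeal k L) (j : ℕ) (hj : LieModule.lowerCentralSeries k N N j = ⊥)
    (y : L) (hy : InC N j y) : y = 0 := by
  obtain ⟨hy, hy'⟩ := hy
  rw [hj, LieSubmodule.mem_bot] at hy'
  exact congrArg Subtype.val hy'

lemma inC_ad_pow (N : LieIdeal k L) (j : ℕ) (x y : L) (hx : x ∈ N) (h : InC N j y) (i : ℕ) :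
    InC N j (((LieAlgebra.ad k L x) ^ i) y) := by
  induction i with
  | zero => simpa using h
  | succ i ih =>
    rw [pow_succ', Module.End.mul_apply, LieAlgebra.ad_apply]
    exact inC_succ N j _ (inC_lie N j x _ hx ih)

lemma inC_ad_pow_succ (N : LieIdeal k L) (j : ℕ) (x y : L) (hx : x ∈ N) (h : InC N j y) (i : ℕ)
    (hi : 1 ≤ i) : InC N (j + 1) (((LieAlgebra.ad k L x) ^ i) y) := by
  obtain ⟨m, rfl⟩ : ∃ m, i = m + 1 := ⟨i - 1, by omega⟩
  rw [pow_succ', Module.End.mul_apply, LieAlgebra.ad_apply]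
  exact inC_lie N j x _ hx (inC_ad_pow N j x y hx h m)

lemma inC_lie_ext (φ : PLie.PMap k p L) (N : LieIdeal k L) (x : L) (hx : x ∈ N) (j : ℕ)
    (m y : L) (hm : m ∈ extIdeal φ N x hx) (h : InC N j y) : InC N (j + 1) ⁅m, y⁆ := by
  obtain ⟨r, hr, s, hs, rfl⟩ := Submodule.mem_sup.mp hm
  obtain ⟨c, rfl⟩ := Submodule.mem_span_singleton.mp hs
  rw [add_lie, smul_lie]
  refine inC_add N _ _ _ (inC_lie N j r y hr h) (inC_smul N _ c _ ?_)
  have h1 : ⁅φ x, y⁆ = ((LieAlgebra.ad k L x) ^ p) y := by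
    rw [← LieAlgebra.ad_apply (R := k), ← PLie.PMap.toFun_eq_coe, φ.ad_map]
  rw [h1]
  exact inC_ad_pow_succ N j x y hx h p (Fact.out : p.Prime).one_lt.le

lemma ad_pow_inC (φ : PLie.PMap k p L) (N : LieIdeal k L) (x : L) (hx : x ∈ N)
    (m z : L) (hm : m ∈ extIdeal φ N x hx) (hz : z ∈ extIdeal φ N x hx) (j : ℕ) :
    InC N j (((LieAlgebra.ad k L m) ^ (j + 1)) z) := by
  induction j with
  | zero =>
    rw [zero_add, pow_one, LieAlgebra.ad_apply]
    exact inC_zero N _ (lie_ext_mem φ N x hx m z hz)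
  | succ j ih =>
    rw [pow_succ', Module.End.mul_apply, LieAlgebra.ad_apply]
    exact inC_lie_ext φ N x hx j m _ hm ih

lemma coe_ad_pow (I : LieIdeal k L) (m z : I) (j : ℕ) :
    ((((LieAlgebra.ad k I m) ^ j) z : I) : L) = ((LieAlgebra.ad k L (m : L)) ^ j) (z : L) := by
  induction j with
  | zero => simp
  | succ j ih =>
    rw [pow_succ', Module.End.mul_apply, LieAlgebra.ad_apply, pow_succ', Module.End.mul_apply,
      LieAlgebra.ad_apply, ← ih]
    rfl

theorem nilpotent_ext [Module.Finite k L] (φ : PLie.PMap k p L) (N : LieIdeal k L)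
    (hN : LieRing.IsNilpotent N) (x : L) (hx : x ∈ N) :
    LieRing.IsNilpotent (extIdeal φ N x hx) := by
  obtain ⟨n, hn⟩ := (LieModule.isNilpotent_iff k N N).mp hN
  rw [LieAlgebra.isNilpotent_iff_forall (R := k)]
  intro m
  refine ⟨n + 1, ?_⟩
  ext z
  rw [coe_ad_pow]
  have := ad_pow_inC φ N x hx (m : L) (z : L) m.2 z.2 n
  rw [inC_eq_zero N n hn _ this]
  simp

theorem result (k : Type u) [Field k] (p : ℕ) [Fact p.Prime] [CharP k p]
    (L : Type v) [LieRing L] [LieAlgebra k L] [Module.Finite k L]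
    (φ : PLie.PMap k p L) (N : LieIdeal k L) (hN : LieRing.IsNilpotent N)
    (hmax : ∀ I : LieIdeal k L, LieRing.IsNilpotent I → I ≤ N)
    (x : L) (hx : x ∈ N) : φ x ∈ N :=
  hmax _ (nilpotent_ext φ N hN x hx) (pmap_mem_ext φ N x hx)

end Groth.Agent.Helper7.PLieNil
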