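import Groth.Agent.Helper7.PLieNil

set_option autoImplicit false
universe u v

namespace Groth.Agent.Helper7.PLieNil2

open LieAlgebra Groth.Agent.Helper7.PLieRad Groth.Agent.Helper7.PLieNil

variable {k : Type u} [Field k] {p : ℕ} [Fact p.Prime] [CharP k p]
  {L : Type v} [LieRing L] [LieAlgebra k L]

lemma ad_iterate (φ : PLie.PMap k p L) (x : L) (n : ℕ) :
    LieAlgebra.ad k L (φ.toFun^[n] x) = (LieAlgebra.ad k L x) ^ (p ^ n) := by
  induction n with
  | zero => simp
  | succ n ih =>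
    rw [Function.iterate_succ_apply', φ.ad_map, ih, ← pow_mul, pow_succ]

lemma ad_nilpotent_of_pnil (φ : PLie.PMap k p L) (x : L) (hx : PLie.IsPNilpotent φ x) :
    IsNilpotent (LieAlgebra.ad k L x) := by
  obtain ⟨n, hn⟩ := hx
  refine ⟨p ^ n, ?_⟩
  rw [← ad_iterate φ x n, hn, map_zero]

lemma nilpotent_of_forall_ad [Module.Finite k L] (I : LieIdeal k L)
    (h : ∀ x ∈ I, IsNilpotent (LieAlgebra.ad k L x)) : LieRing.IsNilpotent I := by
  rw [LieAlgebra.isNilpotent_iff_forall (R := k)]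
  intro m
  obtain ⟨n, hn⟩ := h (m : L) m.2
  refine ⟨n, ?_⟩
  ext z
  rw [coe_ad_pow, hn]
  simp

theorem result73 (k : Type u) [Field k] (p : ℕ) [Fact p.Prime] [CharP k p]
    (L : Type v) [LieRing L] [LieAlgebra k L] [Module.Finite k L]
    (φ : PLie.PMap k p L) (I : LieIdeal k L)
    (hnil : ∀ x ∈ I, PLie.IsPNilpotent φ x) : LieRing.IsNilpotent I :=
  nilpotent_of_forall_ad I (fun x hx => ad_nilpotent_of_pnil φ x (hnil x hx))

/-- elements of a nilpotent ideal are ad-nilpotent on `L` -/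
lemma ad_nilpotent_of_mem (N : LieIdeal k L) (hN : LieRing.IsNilpotent N) (x : L) (hx : x ∈ N) :
    IsNilpotent (LieAlgebra.ad k L x) := by
  obtain ⟨n, hn⟩ := LieAlgebra.nilpotent_ad_of_nilpotent_algebra k N
  refine ⟨n + 1, ?_⟩
  ext y
  rw [pow_succ, Module.End.mul_apply, LieAlgebra.ad_apply]
  have hy : ⁅x, y⁆ ∈ N := lie_mem_left k L N x y hx
  have := coe_ad_pow N ⟨x, hx⟩ ⟨⁅x, y⁆, hy⟩ n
  rw [hn ⟨x, hx⟩] at this
  simp only [LinearMap.zero_apply, ZeroMemClass.coe_zero] at this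
  rw [← this]
  simp

theorem result74 (k : Type u) [Field k] (p : ℕ) [Fact p.Prime] [CharP k p]
    (L : Type v) [LieRing L] [LieAlgebra k L] [Module.Finite k L]
    (φ : PLie.PMap k p L)
    (N : LieIdeal k L) (hN : LieRing.IsNilpotent N)
    (hNmax : ∀ I : LieIdeal k L, LieRing.IsNilpotent I → I ≤ N)
    (P : LieIdeal k L) (hPnil : ∀ x ∈ P, PLie.IsPNilpotent φ x)
    (hPmax : ∀ J : LieIdeal k L, (∀ x ∈ J, φ x ∈ J) → (∀ x ∈ J, PLie.IsPNilpotent φ x) → J ≤ P) :
    N = P ↔ LieAlgebra.center k L ≤ P := by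
  have hPN : P ≤ N := hNmax P (result73 k p L φ P hPnil)
  constructor
  · rintro rfl
    apply hNmax
    have : IsLieAbelian (LieAlgebra.center k L) := inferInstance
    infer_instance
  · intro hZ
    refine le_antisymm ?_ hPN
    apply hPmax N
    · intro x hx
      exact PLieNil.result k p L φ N hN hNmax x hx
    · intro x hx
      obtain ⟨n, hn⟩ := ad_nilpotent_of_mem N hN x hx
      -- ad x ^ n = 0, so ad x ^ (p^n) = 0
      have hpn : (LieAlgebra.ad k L x) ^ (p ^ n) = 0 := by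
        have hle : n ≤ p ^ n := (Nat.lt_pow_self (Fact.out : p.Prime).one_lt).le
        rw [← Nat.sub_add_cancel hle, pow_add, hn, mul_zero]
      have hz : φ.toFun^[n] x ∈ LieAlgebra.center k L := by
        rw [LieModule.mem_maxTrivSubmodule]
        intro y
        have := ad_iterate φ x n
        rw [hpn] at this
        have h2 : ⁅φ.toFun^[n] x, y⁆ = 0 := by
          rw [← LieAlgebra.ad_apply (R := k), this]; rfl
        rw [← lie_skew, h2, neg_zero]
      obtain ⟨m, hm⟩ := hPnil _ (hZ hz)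
      exact ⟨m + n, by rw [Function.iterate_add_apply]; exact hm⟩

end Groth.Agent.Helper7.PLieNil2
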