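import Groth.Prelude.Def_PLie
import Mathlib

set_option autoImplicit false
universe u v

namespace Groth.Agent.Helper7.PLieRad

open LieAlgebra

variable (k : Type u) [Field k] (p : ℕ) [Fact p.Prime] [CharP k p]
  (L : Type v) [LieRing L] [LieAlgebra k L]

lemma ad_pow_mem (I : LieIdeal k L) (x : L) (hx : x ∈ I) (y : L) (n : ℕ) (hn : 1 ≤ n) :
    ((LieAlgebra.ad k L x) ^ n) y ∈ I := by
  obtain ⟨m, rfl⟩ : ∃ m, n = m + 1 := ⟨n - 1, by omega⟩
  rw [pow_succ', Module.End.mul_apply, LieAlgebra.ad_apply]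
  exact lie_mem_left k L I _ _ hx

variable {k p L}

lemma lie_pmap_mem (φ : PLie.PMap k p L) (I : LieIdeal k L) (x : L) (hx : x ∈ I) (y : L) :
    ⁅y, φ x⁆ ∈ I := by
  have h1 : ⁅φ x, y⁆ = ((LieAlgebra.ad k L x) ^ p) y := by
    rw [← LieAlgebra.ad_apply (R := k), ← PLie.PMap.toFun_eq_coe, φ.ad_map]
  rw [← lie_skew, h1]
  exact I.neg_mem (ad_pow_mem k L I x hx y p (Fact.out : p.Prime).one_lt.le)

/-- the ideal `I + k φ(x)` -/
def extIdeal (φ : PLie.PMap k p L) (I : LieIdeal k L) (x : L) (hx : x ∈ I) : LieIdeal k L :=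
  { toSubmodule := (I : Submodule k L) ⊔ Submodule.span k {φ x}
    lie_mem := by
      intro y m hm
      obtain ⟨r, hr, s, hs, rfl⟩ := Submodule.mem_sup.mp hm
      obtain ⟨c, rfl⟩ := Submodule.mem_span_singleton.mp hs
      refine Submodule.mem_sup_left ?_
      rw [lie_add, lie_smul]
      exact I.add_mem (lie_mem_right k L I y r hr) (I.smul_mem c (lie_pmap_mem φ I x hx y)) }

lemma lie_ext_mem (φ : PLie.PMap k p L) (I : LieIdeal k L) (x : L) (hx : x ∈ I) (y m : L)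
    (hm : m ∈ extIdeal φ I x hx) : ⁅y, m⁆ ∈ I := by
  obtain ⟨r, hr, s, hs, rfl⟩ := Submodule.mem_sup.mp hm
  obtain ⟨c, rfl⟩ := Submodule.mem_span_singleton.mp hs
  rw [lie_add, lie_smul]
  exact I.add_mem (lie_mem_right k L I y r hr) (I.smul_mem c (lie_pmap_mem φ I x hx y))

lemma le_ext (φ : PLie.PMap k p L) (I : LieIdeal k L) (x : L) (hx : x ∈ I) :
    I ≤ extIdeal φ I x hx := fun _ hm => Submodule.mem_sup_left hm

lemma pmap_mem_ext (φ : PLie.PMap k p L) (I : LieIdeal k L) (x : L) (hx : x ∈ I) :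
    φ x ∈ extIdeal φ I x hx :=
  Submodule.mem_sup_right (Submodule.mem_span_singleton_self _)

lemma derived_ext_le (φ : PLie.PMap k p L) (I : LieIdeal k L) (x : L) (hx : x ∈ I) :
    LieAlgebra.derivedSeriesOfIdeal k L 1 (extIdeal φ I x hx) ≤ I := by
  rw [LieAlgebra.derivedSeriesOfIdeal_succ, LieAlgebra.derivedSeriesOfIdeal_zero,
    LieSubmodule.lie_le_iff]
  intro a _ b hb
  exact lie_ext_mem φ I x hx a b hb

lemma solvable_ext (φ : PLie.PMap k p L) (I : LieIdeal k L) (x : L) (hx : x ∈ I)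
    [hI : LieAlgebra.IsSolvable I] : LieAlgebra.IsSolvable (extIdeal φ I x hx) := by
  obtain ⟨n, hn⟩ := LieAlgebra.IsSolvable.solvable k I
  rw [LieIdeal.derivedSeries_eq_bot_iff] at hn
  refine LieAlgebra.IsSolvable.mk (R := k) (k := n + 1) ?_
  rw [LieIdeal.derivedSeries_eq_bot_iff, LieAlgebra.derivedSeriesOfIdeal_add, eq_bot_iff, ← hn]
  exact LieAlgebra.derivedSeriesOfIdeal_mono (derived_ext_le φ I x hx) n

theorem result (k : Type u) [Field k] (p : ℕ) [Fact p.Prime] [CharP k p]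
    (L : Type v) [LieRing L] [LieAlgebra k L] [Module.Finite k L]
    (φ : PLie.PMap k p L) (x : L) (hx : x ∈ LieAlgebra.radical k L) :
    φ x ∈ LieAlgebra.radical k L := by
  have hs : LieAlgebra.IsSolvable (extIdeal φ (LieAlgebra.radical k L) x hx) :=
    solvable_ext φ _ x hx
  have hle : extIdeal φ (LieAlgebra.radical k L) x hx ≤ LieAlgebra.radical k L := le_sSup hs
  exact hle (pmap_mem_ext φ _ x hx)

end Groth.Agent.Helper7.PLieRad
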