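import Mathlib

set_option autoImplicit false
universe u v

namespace Groth.Agent.Helper7.PLin

open Polynomial Finset

section poly
variable {k : Type u} [Field k] (p : ℕ) [Fact p.Prime] [CharP k p]

/-- the polynomials in `t = x_r` computing the coordinates of a solution. -/
noncomputable def Xpoly (a u : ℕ → k) : ℕ → k[X]
  | 0 => C (a 0) * X ^ p - C (u 0)
  | (i + 1) => (Xpoly a u i) ^ p + C (a (i + 1)) * X ^ p - C (u (i + 1))

theorem derivative_X_pow_p : derivative ((X : k[X]) ^ p) = 0 := by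
  rw [derivative_X_pow, CharP.cast_eq_zero, map_zero, zero_mul]

theorem derivative_pow_p (f : k[X]) : derivative (f ^ p) = 0 := by
  rw [derivative_pow, CharP.cast_eq_zero, map_zero, zero_mul, zero_mul]

theorem derivative_Xpoly (a u : ℕ → k) (i : ℕ) : derivative (Xpoly p a u i) = 0 := by
  cases i with
  | zero => simp [Xpoly, derivative_X_pow_p p]
  | succ i => simp [Xpoly, derivative_X_pow_p p, derivative_pow_p p]

theorem eval_Xpoly_zero (a u : ℕ → k) (t : k) :
    (Xpoly p a u 0).eval t = a 0 * t ^ p - u 0 := by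
  simp [Xpoly]

theorem eval_Xpoly_succ (a u : ℕ → k) (i : ℕ) (t : k) :
    (Xpoly p a u (i + 1)).eval t =
      ((Xpoly p a u i).eval t) ^ p + a (i + 1) * t ^ p - u (i + 1) := by
  simp [Xpoly]

end poly

section roots
variable {k : Type u} [Field k] [IsAlgClosed k] (p : ℕ) [Fact p.Prime] [CharP k p]

theorem derivative_G (a u : ℕ → k) (r : ℕ) : derivative (Xpoly p a u r - X) = -1 := by
  rw [derivative_sub, derivative_Xpoly, derivative_X, zero_sub]

theorem exists_eval_eq (a u : ℕ → k) (r : ℕ) : ∃ t : k, (Xpoly p a u r).eval t = t := by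
  have hdeg : (Xpoly p a u r - X).degree ≠ 0 := by
    intro h
    have h1 := eq_C_of_degree_eq_zero h
    have h2 := derivative_G p a u r
    rw [h1, derivative_C] at h2
    exact one_ne_zero (neg_eq_zero.1 h2.symm)
  obtain ⟨t, ht⟩ := IsAlgClosed.exists_root _ hdeg
  refine ⟨t, ?_⟩
  rw [IsRoot.def, eval_sub, eval_X, sub_eq_zero] at ht
  exact ht

theorem natDegree_Xpoly_ge (a : ℕ → k) (ha : a 0 ≠ 0) (i : ℕ) :
    p ≤ (Xpoly p a (fun _ => 0) i).natDegree := by
  have hp2 : 2 ≤ p := (Fact.out : p.Prime).two_le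
  induction i with
  | zero =>
    simp only [Xpoly, map_zero, sub_zero]
    rw [natDegree_C_mul_X_pow p (a 0) ha]
  | succ i ih =>
    simp only [Xpoly, map_zero, sub_zero]
    have h1 : (C (a (i + 1)) * X ^ p : k[X]).natDegree ≤ p := natDegree_C_mul_X_pow_le _ _
    have h2 : ((Xpoly p a (fun _ => 0) i) ^ p).natDegree =
        p * (Xpoly p a (fun _ => 0) i).natDegree := natDegree_pow _ _
    have h3 : p < ((Xpoly p a (fun _ => 0) i) ^ p).natDegree := by
      rw [h2]
      nlinarith
    rw [natDegree_add_eq_left_of_natDegree_lt (lt_of_le_of_lt h1 h3)]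
    exact h3.le

theorem eval_zero_Xpoly (a : ℕ → k) (i : ℕ) : (Xpoly p a (fun _ => 0) i).eval 0 = 0 := by
  have hp0 : p ≠ 0 := (Fact.out : p.Prime).ne_zero
  induction i with
  | zero => simp [Xpoly, hp0]
  | succ i ih => rw [eval_Xpoly_succ, ih]; simp [hp0]

theorem exists_ne_zero_eval_eq (a : ℕ → k) (ha : a 0 ≠ 0) (r : ℕ) :
    ∃ t : k, t ≠ 0 ∧ (Xpoly p a (fun _ => 0) r).eval t = t := by
  have hp2 : 2 ≤ p := (Fact.out : p.Prime).two_le
  set G : k[X] := Xpoly p a (fun _ => 0) r - X with hG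
  have hG0 : G.eval 0 = 0 := by rw [hG, eval_sub, eval_zero_Xpoly, eval_X, sub_zero]
  have hdvd : X ∣ G := by
    rw [X_dvd_iff, coeff_zero_eq_eval_zero]
    exact hG0
  obtain ⟨H, hH⟩ := hdvd
  have hnat : G.natDegree = (Xpoly p a (fun _ => 0) r).natDegree := by
    rw [hG]
    apply natDegree_sub_eq_left_of_natDegree_lt
    rw [natDegree_X]
    exact lt_of_lt_of_le hp2 (natDegree_Xpoly_ge p a ha r)
  have hGne : G ≠ 0 := by
    intro h
    rw [h, natDegree_zero] at hnat
    have := natDegree_Xpoly_ge p a ha r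
    omega
  have hHne : H ≠ 0 := by
    rintro rfl
    rw [mul_zero] at hH
    exact hGne hH
  have hHdeg : H.degree ≠ 0 := by
    intro h
    have h1 : G.natDegree = 1 + H.natDegree := by
      rw [hH, natDegree_mul X_ne_zero hHne, natDegree_X]
    have h2 : H.natDegree = 0 := natDegree_eq_zero_iff_degree_le_zero.2 h.le
    have := natDegree_Xpoly_ge p a ha r
    omega
  obtain ⟨t, ht⟩ := IsAlgClosed.exists_root H hHdeg
  have hder : derivative G = -1 := derivative_G p a _ r
  have hH0 : H.eval 0 = -1 := by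
    have := congrArg (eval 0) hder
    rw [hH, derivative_mul, derivative_X, one_mul, eval_add, eval_mul, eval_X, zero_mul, add_zero,
      eval_neg, eval_one] at this
    exact this
  refine ⟨t, ?_, ?_⟩
  · rintro rfl
    rw [IsRoot.def, hH0] at ht
    exact one_ne_zero (neg_eq_zero.1 ht)
  · have : G.eval t = 0 := by rw [hH, eval_mul, ht, mul_zero]
    rw [hG, eval_sub, eval_X, sub_eq_zero] at this
    exact this

end roots

section cyclic
variable {k : Type u} [Field k] (p : ℕ) [Fact p.Prime] [CharP k p]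
variable {V : Type v} [AddCommGroup V] [Module k V]

theorem map_smul_pow (φ : V →ₛₗ[frobenius k p] V) (c : k) (x : V) : φ (c • x) = c ^ p • φ x := by
  rw [map_smulₛₗ, frobenius_def]

/-- the key identity in the cyclic situation. -/
theorem cyclic_identity (φ : V →ₛₗ[frobenius k p] V) (v : V) (r : ℕ) (a u : ℕ → k)
    (hrel : φ^[r + 1] v = ∑ i ∈ range (r + 1), a i • φ^[i] v) (t : k)
    (ht : (Xpoly p a u r).eval t = t) :
    φ (∑ i ∈ range (r + 1), (Xpoly p a u i).eval t • φ^[i] v) -
        ∑ i ∈ range (r + 1), (Xpoly p a u i).eval t • φ^[i] v =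
      ∑ i ∈ range (r + 1), u i • φ^[i] v := by
  set x : ℕ → k := fun i => (Xpoly p a u i).eval t with hx
  set e : ℕ → V := fun i => φ^[i] v with he
  have hes : ∀ i, φ (e i) = e (i + 1) := fun i => (Function.iterate_succ_apply' φ i v).symm
  have hxr : x r = t := ht
  have hx0 : x 0 = a 0 * t ^ p - u 0 := eval_Xpoly_zero p a u t
  have hxs : ∀ i, x (i + 1) = x i ^ p + a (i + 1) * t ^ p - u (i + 1) :=
    fun i => eval_Xpoly_succ p a u i t
  have h1 : φ (∑ i ∈ range (r + 1), x i • e i) =
      ∑ i ∈ range r, x i ^ p • e (i + 1) + ∑ i ∈ range (r + 1), (t ^ p * a i) • e i := by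
    rw [map_sum, sum_range_succ]
    congr 1
    · refine sum_congr rfl fun i _ => ?_
      rw [map_smul_pow, hes]
    · rw [map_smul_pow, hes, hxr]
      show t ^ p • φ^[r + 1] v = _
      rw [hrel, smul_sum]
      refine sum_congr rfl fun i _ => ?_
      rw [smul_smul]
  show φ (∑ i ∈ range (r + 1), x i • e i) - ∑ i ∈ range (r + 1), x i • e i =
    ∑ i ∈ range (r + 1), u i • e i
  rw [h1, sum_range_succ' (fun i => (t ^ p * a i) • e i), sum_range_succ' (fun i => x i • e i),
    sum_range_succ' (fun i => u i • e i)]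
  have h2 : ∀ i, x i ^ p • e (i + 1) + (t ^ p * a (i + 1)) • e (i + 1) - x (i + 1) • e (i + 1) =
      u (i + 1) • e (i + 1) := by
    intro i
    rw [← add_smul, ← sub_smul, hxs]
    congr 1
    ring
  have h3 : (t ^ p * a 0) • e 0 - x 0 • e 0 = u 0 • e 0 := by
    rw [← sub_smul, hx0]
    congr 1
    ring
  rw [← h3, ← sum_congr rfl (fun i _ => h2 i), sum_sub_distrib, sum_add_distrib]
  abel

end cyclic

section surj
variable {k : Type u} [Field k] [IsAlgClosed k] (p : ℕ) [Fact p.Prime] [CharP k p]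

/-- the linear map `a ↦ ∑_{i<n} a i • e i`. -/
noncomputable def lin {V : Type v} [AddCommGroup V] [Module k V] (e : ℕ → V) (n : ℕ) :
    (ℕ → k) →ₗ[k] V :=
  ∑ i ∈ range n, (LinearMap.proj i : (ℕ → k) →ₗ[k] k).smulRight (e i)

theorem lin_apply {V : Type v} [AddCommGroup V] [Module k V] (e : ℕ → V) (n : ℕ) (a : ℕ → k) :
    lin e n a = ∑ i ∈ range n, a i • e i := by
  simp [lin, LinearMap.sum_apply]

theorem mem_range_lin {V : Type v} [AddCommGroup V] [Module k V] (e : ℕ → V) (n i : ℕ)
    (hi : i < n) : e i ∈ LinearMap.range (lin (k := k) e n) := by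
  classical
  refine ⟨Pi.single i 1, ?_⟩
  rw [lin_apply, Finset.sum_eq_single i]
  · simp
  · intro j _ hji
    rw [Pi.single_eq_of_ne hji, zero_smul]
  · intro h
    exact absurd (Finset.mem_range.2 hi) h

theorem span_le_range_lin {V : Type v} [AddCommGroup V] [Module k V] (e : ℕ → V) (n : ℕ) :
    Submodule.span k (e '' Set.Iio n) ≤ LinearMap.range (lin (k := k) e n) := by
  rw [Submodule.span_le]
  rintro _ ⟨i, hi, rfl⟩
  exact mem_range_lin e n i hi

theorem range_lin_le_span {V : Type v} [AddCommGroup V] [Module k V] (e : ℕ → V) (n : ℕ) :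
    LinearMap.range (lin (k := k) e n) ≤ Submodule.span k (e '' Set.Iio n) := by
  rintro _ ⟨a, rfl⟩
  rw [lin_apply]
  refine Submodule.sum_mem _ fun i hi => Submodule.smul_mem _ _ (Submodule.subset_span ?_)
  exact ⟨i, Finset.mem_range.1 hi, rfl⟩

/-- existence of a relation among the iterates. -/
theorem exists_relation {V : Type v} [AddCommGroup V] [Module k V] [FiniteDimensional k V]
    (e : ℕ → V) : ∃ n, e n ∈ Submodule.span k (e '' Set.Iio n) := by
  classical
  by_contra hcon
  push Not at hcon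
  have hli : LinearIndependent k e := by
    rw [linearIndependent_iff']
    intro s g hg
    by_contra hne
    push Not at hne
    obtain ⟨i₀, hi₀, hgi₀⟩ := hne
    let s' := s.filter (fun i => g i ≠ 0)
    have hs' : s'.Nonempty := ⟨i₀, Finset.mem_filter.2 ⟨hi₀, hgi₀⟩⟩
    let m := s'.max' hs'
    have hm : m ∈ s' := Finset.max'_mem _ _
    have hgm : g m ≠ 0 := (Finset.mem_filter.1 hm).2
    have hsum : ∑ i ∈ s', g i • e i = 0 := by
      rw [← hg]
      exact Finset.sum_filter_of_ne (fun i _ hne h0 => hne (by rw [h0, zero_smul]))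
    rw [← Finset.add_sum_erase s' _ hm] at hsum
    have h1 : e m = -(g m)⁻¹ • ∑ i ∈ s'.erase m, g i • e i := by
      have := eq_neg_of_add_eq_zero_left hsum
      rw [neg_smul, ← smul_neg, ← this, smul_smul, inv_mul_cancel₀ hgm, one_smul]
    apply hcon m
    rw [h1]
    refine Submodule.smul_mem _ _ (Submodule.sum_mem _ fun i hi => Submodule.smul_mem _ _
      (Submodule.subset_span ⟨i, ?_, rfl⟩))
    have h2 := Finset.le_max' s' i (Finset.mem_of_mem_erase hi)
    exact lt_of_le_of_ne h2 (Finset.ne_of_mem_erase hi)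
  haveI : Finite ℕ := hli.finite
  exact not_finite ℕ

/-- minimal relation data for a nonzero vector. -/
theorem exists_min_relation {V : Type v} [AddCommGroup V] [Module k V] [FiniteDimensional k V]
    (φ : V →ₛₗ[frobenius k p] V) (v : V) (hv : v ≠ 0) :
    ∃ (r : ℕ) (a : ℕ → k), φ^[r + 1] v = ∑ i ∈ range (r + 1), a i • φ^[i] v ∧
      ∀ j ≤ r, φ^[j] v ∉ Submodule.span k ((fun i => φ^[i] v) '' Set.Iio j) := by
  classical
  have hex := exists_relation (k := k) (fun i => φ^[i] v)
  obtain ⟨n₀, hn₀, hmin⟩ : ∃ n₀, (fun i => φ^[i] v) n₀ ∈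
      Submodule.span k ((fun i => φ^[i] v) '' Set.Iio n₀) ∧
      ∀ j < n₀, (fun i => φ^[i] v) j ∉ Submodule.span k ((fun i => φ^[i] v) '' Set.Iio j) :=
    ⟨Nat.find hex, Nat.find_spec hex, fun j hj => Nat.find_min hex hj⟩
  cases n₀ with
  | zero =>
    exfalso
    have h0 : (fun i => φ^[i] v) '' Set.Iio 0 = ∅ := by
      ext x
      simp
    rw [h0, Submodule.span_empty, Submodule.mem_bot] at hn₀
    exact hv hn₀
  | succ r =>
    obtain ⟨a, ha⟩ := span_le_range_lin _ _ hn₀
    rw [lin_apply] at ha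
    exact ⟨r, a, ha.symm, fun j hj => hmin j (by omega)⟩

theorem stable_range {V : Type v} [AddCommGroup V] [Module k V]
    (φ : V →ₛₗ[frobenius k p] V) (v : V) (r : ℕ) (a : ℕ → k)
    (hrel : φ^[r + 1] v = ∑ i ∈ range (r + 1), a i • φ^[i] v) :
    ∀ w ∈ LinearMap.range (lin (k := k) (fun i => φ^[i] v) (r + 1)),
      φ w ∈ LinearMap.range (lin (k := k) (fun i => φ^[i] v) (r + 1)) := by
  rintro _ ⟨x, rfl⟩
  rw [lin_apply, map_sum]
  refine Submodule.sum_mem _ fun i hi => ?_
  rw [map_smul_pow]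
  refine Submodule.smul_mem _ _ ?_
  rw [← Function.iterate_succ_apply' φ i v]
  by_cases h : i + 1 < r + 1
  · exact mem_range_lin (fun i => φ^[i] v) _ _ h
  · have h2 : i + 1 = r + 1 := by
      have := Finset.mem_range.1 hi
      omega
    show φ^[i + 1] v ∈ _
    rw [h2, hrel]
    exact ⟨a, lin_apply _ _ _⟩

/-- `φ - 1` is surjective for a `p`-linear endomorphism of a finite-dimensional space over an
algebraically closed field. -/
theorem sub_id_surjective : ∀ (n : ℕ) {V : Type v} [AddCommGroup V] [Module k V]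
    [FiniteDimensional k V] (φ : V →ₛₗ[frobenius k p] V), Module.finrank k V = n →
    ∀ y : V, ∃ x : V, φ x - x = y := by
  intro n
  induction n using Nat.strong_induction_on with
  | _ n ih =>
    intro V _ _ _ φ hn y
    by_cases hV : ∀ v : V, v = 0
    · exact ⟨0, by rw [hV y, map_zero, sub_zero]⟩
    push Not at hV
    obtain ⟨v, hv⟩ := hV
    obtain ⟨r, a, hrel, -⟩ := exists_min_relation p φ v hv
    let W : Submodule k V := LinearMap.range (lin (k := k) (fun i => φ^[i] v) (r + 1))
    have hW : ∀ w ∈ W, φ w ∈ W := stable_range p φ v r a hrel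
    have hvW : v ∈ W := mem_range_lin (fun i => φ^[i] v) (r + 1) 0 (Nat.succ_pos r)
    have hlt : Module.finrank k (V ⧸ W) < n := by
      have h1 := Submodule.finrank_quotient_add_finrank W
      have h2 : 0 < Module.finrank k W := by
        rw [Module.finrank_pos_iff_exists_ne_zero]
        exact ⟨⟨v, hvW⟩, fun h => hv (congrArg Subtype.val h)⟩
      omega
    let φq : (V ⧸ W) →ₛₗ[frobenius k p] (V ⧸ W) := W.mapQ W φ hW
    obtain ⟨zq, hzq⟩ := ih _ hlt φq rfl (W.mkQ y)
    obtain ⟨z, rfl⟩ := W.mkQ_surjective zq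
    have hmem : φ z - z - y ∈ W := by
      rw [← Submodule.Quotient.mk_eq_zero]
      have : (W.mkQ (φ z) : V ⧸ W) - W.mkQ z = W.mkQ y := hzq
      rw [Submodule.Quotient.mk_sub, Submodule.Quotient.mk_sub]
      exact sub_eq_zero.2 this
    obtain ⟨u, hu⟩ := hmem
    rw [lin_apply] at hu
    obtain ⟨t, ht⟩ := exists_eval_eq p a (fun i => - u i) r
    have hid := cyclic_identity p φ v r a (fun i => - u i) hrel t ht
    refine ⟨z + ∑ i ∈ range (r + 1), (Xpoly p a (fun i => -u i) i).eval t • φ^[i] v, ?_⟩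
    rw [map_add, add_sub_add_comm, hid]
    simp only [neg_smul, Finset.sum_neg_distrib]
    rw [hu]
    abel

/-- an injective `p`-linear endomorphism of a nonzero finite-dimensional space has a nonzero fixed
vector. -/
theorem exists_fixed_ne_zero {V : Type v} [AddCommGroup V] [Module k V] [FiniteDimensional k V]
    (φ : V →ₛₗ[frobenius k p] V) (hinj : Function.Injective φ) (v : V) (hv : v ≠ 0) :
    ∃ w : V, w ≠ 0 ∧ φ w = w := by
  obtain ⟨r, a, hrel, hmin⟩ := exists_min_relation p φ v hv
  have hspan : ∀ x : ℕ → k, ∑ i ∈ range r, x i • φ^[i] v ∈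
      Submodule.span k ((fun i => φ^[i] v) '' Set.Iio r) := fun x =>
    Submodule.sum_mem _ fun i hi => Submodule.smul_mem _ _
      (Submodule.subset_span ⟨i, Finset.mem_range.1 hi, rfl⟩)
  have ha0 : a 0 ≠ 0 := by
    intro h0
    have hroot : ∀ c : k, ∃ b : k, b ^ p = c := fun c =>
      IsAlgClosed.exists_pow_nat_eq c (Fact.out : p.Prime).pos
    choose b hb using hroot
    have h1 : φ (φ^[r] v - ∑ i ∈ range r, b (a (i + 1)) • φ^[i] v) = 0 := by
      rw [map_sub, map_sum, ← Function.iterate_succ_apply' φ r v, hrel, sum_range_succ', h0,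
        zero_smul, add_zero, sub_eq_zero]
      refine sum_congr rfl fun i _ => ?_
      rw [map_smul_pow, hb, ← Function.iterate_succ_apply' φ i v]
    have h2 := hinj (h1.trans (map_zero φ).symm)
    rw [sub_eq_zero] at h2
    apply hmin r le_rfl
    rw [h2]
    exact hspan _
  obtain ⟨t, ht0, ht⟩ := exists_ne_zero_eval_eq p a ha0 r
  have hid := cyclic_identity p φ v r a (fun _ => 0) hrel t ht
  simp only [zero_smul, Finset.sum_const_zero] at hid
  refine ⟨∑ i ∈ range (r + 1), (Xpoly p a (fun _ => 0) i).eval t • φ^[i] v, ?_, sub_eq_zero.1 hid⟩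
  intro hw0
  rw [sum_range_succ, ht] at hw0
  apply hmin r le_rfl
  have h3 : φ^[r] v = -t⁻¹ • ∑ i ∈ range r, (Xpoly p a (fun _ => 0) i).eval t • φ^[i] v := by
    have := eq_neg_of_add_eq_zero_right hw0
    rw [neg_smul, ← smul_neg, ← this, smul_smul, inv_mul_cancel₀ ht0, one_smul]
  rw [h3]
  exact Submodule.smul_mem _ _ (hspan _)

/-- the span of the fixed vectors. -/
def fixedSpan {V : Type v} [AddCommGroup V] [Module k V] (φ : V →ₛₗ[frobenius k p] V) :
    Submodule k V := Submodule.span k {x | φ x = x}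

theorem fixedSpan_stable {V : Type v} [AddCommGroup V] [Module k V]
    (φ : V →ₛₗ[frobenius k p] V) : ∀ w ∈ fixedSpan p φ, φ w ∈ fixedSpan p φ := by
  intro w hw
  unfold fixedSpan at hw ⊢
  induction hw using Submodule.span_induction with
  | mem x hx =>
    have hx' : φ x = x := hx
    rw [hx']
    exact Submodule.subset_span hx
  | zero => rw [map_zero]; exact zero_mem _
  | add x y _ _ hx hy => rw [map_add]; exact add_mem hx hy
  | smul c x _ hx => rw [map_smul_pow]; exact Submodule.smul_mem _ _ hx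

theorem fixedSpan_le_map {V : Type v} [AddCommGroup V] [Module k V]
    (φ : V →ₛₗ[frobenius k p] V) : ∀ w ∈ fixedSpan p φ, ∃ w' ∈ fixedSpan p φ, φ w' = w := by
  intro w hw
  unfold fixedSpan at hw ⊢
  induction hw using Submodule.span_induction with
  | mem x hx => exact ⟨x, Submodule.subset_span hx, hx⟩
  | zero => exact ⟨0, zero_mem _, map_zero _⟩
  | add x y _ _ hx hy =>
    obtain ⟨x', hx', rfl⟩ := hx
    obtain ⟨y', hy', rfl⟩ := hy
    exact ⟨x' + y', add_mem hx' hy', map_add _ _ _⟩
  | smul c x _ hx =>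
    obtain ⟨x', hx', rfl⟩ := hx
    obtain ⟨b, hb⟩ := IsAlgClosed.exists_pow_nat_eq c (Fact.out : p.Prime).pos
    exact ⟨b • x', Submodule.smul_mem _ _ hx', by rw [map_smul_pow, hb]⟩

/-- an injective `p`-linear endomorphism: the fixed vectors span. -/
theorem fixedSpan_eq_top {V : Type v} [AddCommGroup V] [Module k V] [FiniteDimensional k V]
    (φ : V →ₛₗ[frobenius k p] V) (hinj : Function.Injective φ) : fixedSpan p φ = ⊤ := by
  set U := fixedSpan p φ with hU
  by_contra hne
  let φq : (V ⧸ U) →ₛₗ[frobenius k p] (V ⧸ U) := U.mapQ U φ (fixedSpan_stable p φ)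
  have hqinj : Function.Injective φq := by
    rw [injective_iff_map_eq_zero]
    intro xq hxq
    obtain ⟨x, rfl⟩ := U.mkQ_surjective xq
    have h1 : φ x ∈ U := (Submodule.Quotient.mk_eq_zero U).1 hxq
    obtain ⟨u, hu, huφ⟩ := fixedSpan_le_map p φ (φ x) h1
    have := hinj huφ
    rw [← this]
    exact (Submodule.Quotient.mk_eq_zero U).2 hu
  obtain ⟨x, -, hx⟩ := SetLike.exists_of_lt (lt_top_iff_ne_top.2 hne)
  have hxq : (U.mkQ x) ≠ 0 := fun h => hx ((Submodule.Quotient.mk_eq_zero U).1 h)
  obtain ⟨wq, hwq0, hwq⟩ := exists_fixed_ne_zero p φq hqinj _ hxq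
  obtain ⟨w, rfl⟩ := U.mkQ_surjective wq
  have hmem : φ w - w ∈ U := by
    rw [← Submodule.Quotient.mk_eq_zero, Submodule.Quotient.mk_sub]
    exact sub_eq_zero.2 hwq
  let φU : U →ₛₗ[frobenius k p] U :=
    (φ.domRestrict U).codRestrict U (fun c => fixedSpan_stable p φ c c.2)
  obtain ⟨u, hu⟩ := sub_id_surjective p _ φU rfl ⟨φ w - w, hmem⟩
  have hu' : φ (u : V) - (u : V) = φ w - w := congrArg Subtype.val hu
  have hfix : φ (w - (u : V)) = w - (u : V) := by
    rw [map_sub]
    have h3 : φ w - φ (u : V) - (w - (u : V)) = 0 := by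
      have : φ w - φ (u : V) - (w - (u : V)) = (φ w - w) - (φ (u : V) - (u : V)) := by abel
      rw [this, hu', sub_self]
    exact sub_eq_zero.1 h3
  have h2 : w - (u : V) ∈ U := Submodule.subset_span hfix
  apply hwq0
  rw [Submodule.mkQ_apply, Submodule.Quotient.mk_eq_zero]
  have := add_mem h2 u.2
  rwa [sub_add_cancel] at this

end surj

section indep
variable {k : Type u} [Field k] (p : ℕ) [Fact p.Prime] [CharP k p]
variable {V : Type v} [AddCommGroup V] [Module k V]

theorem exists_intCast_eq (a : k) (h : a ^ p = a) : ∃ n : ℤ, (n : k) = a :=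
  (mem_bot_iff_intCast p k).1 ((Subfield.mem_bot_iff_pow_eq_self k p).2 h)

theorem linearIndependent_fixed (φ : V →ₛₗ[frobenius k p] V) (s : Finset V)
    (hs : ∀ v ∈ s, φ v = v)
    (hind : ∀ c : s → ℤ, (∑ v : s, c v • (v : V)) = 0 → ∀ v : s, (p : ℤ) ∣ c v) :
    LinearIndependent k (fun v : s => (v : V)) := by
  classical
  rw [linearIndependent_iff']
  suffices H : ∀ n : ℕ, ∀ t : Finset s, t.card = n → ∀ g : s → k,
      ∑ i ∈ t, g i • (i : V) = 0 → ∀ i ∈ t, g i = 0 from
    fun t g hg i hi => H _ t rfl g hg i hi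
  intro n
  induction n using Nat.strong_induction_on with
  | _ n ih =>
    intro t ht g hg i₀ hi₀
    by_contra hne
    set g' : s → k := fun i => (g i₀)⁻¹ * g i with hg'
    have hg'0 : ∑ i ∈ t, g' i • (i : V) = 0 := by
      simp only [hg', mul_smul]
      rw [← Finset.smul_sum, hg, smul_zero]
    have hg'1 : g' i₀ = 1 := inv_mul_cancel₀ hne
    have h2 : ∑ i ∈ t, (g' i) ^ p • (i : V) = 0 := by
      have := congrArg φ hg'0
      rw [map_sum, map_zero] at this
      rw [← this]
      refine Finset.sum_congr rfl fun i _ => ?_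
      rw [map_smul_pow, hs i i.2]
    have h3 : ∑ i ∈ t.erase i₀, ((g' i) ^ p - g' i) • (i : V) = 0 := by
      have : ∑ i ∈ t, ((g' i) ^ p - g' i) • (i : V) = 0 := by
        simp only [sub_smul, Finset.sum_sub_distrib, h2, hg'0, sub_self]
      rw [← Finset.add_sum_erase _ _ hi₀, hg'1, one_pow, sub_self, zero_smul, zero_add] at this
      exact this
    have h4 : ∀ i ∈ t, (g' i) ^ p = g' i := by
      intro i hi
      by_cases hii : i = i₀
      · rw [hii, hg'1, one_pow]
      · have := ih (t.erase i₀).card (by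
          rw [Finset.card_erase_of_mem hi₀, ← ht]
          exact Nat.sub_lt (Finset.card_pos.2 ⟨i₀, hi₀⟩) one_pos) (t.erase i₀) rfl _ h3 i
          (Finset.mem_erase.2 ⟨hii, hi⟩)
        exact sub_eq_zero.1 this
    have h5 : ∀ i : s, ∃ n : ℤ, i ∈ t → (n : k) = g' i := by
      intro i
      by_cases hi : i ∈ t
      · obtain ⟨n, hn⟩ := exists_intCast_eq p (g' i) (h4 i hi)
        exact ⟨n, fun _ => hn⟩
      · exact ⟨0, fun h => absurd h hi⟩
    choose c hc using h5
    let c' : s → ℤ := fun i => if i ∈ t then c i else 0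
    have h6 : ∑ v : s, c' v • (v : V) = 0 := by
      rw [← hg'0]
      rw [← Finset.sum_subset (Finset.subset_univ t)]
      · refine Finset.sum_congr rfl fun i hi => ?_
        simp only [c', if_pos hi]
        rw [← hc i hi, Int.cast_smul_eq_zsmul]
      · intro i _ hi
        simp only [c', if_neg hi, zero_smul]
    have h7 := hind c' h6 i₀
    simp only [c', if_pos hi₀] at h7
    have h8 : ((c i₀ : ℤ) : k) = 0 := (CharP.intCast_eq_zero_iff k p _).2 h7
    rw [hc i₀ hi₀, hg'1] at h8
    exact one_ne_zero h8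

end indep

section decomp
variable {k : Type u} [Field k] [IsAlgClosed k] (p : ℕ) [Fact p.Prime] [CharP k p]
variable {V : Type v} [AddCommGroup V] [Module k V]

theorem iterate_smul (φ : V →ₛₗ[frobenius k p] V) (m : ℕ) (c : k) (x : V) :
    φ^[m] (c • x) = c ^ p ^ m • φ^[m] x := by
  induction m generalizing c x with
  | zero => simp
  | succ m ih =>
    rw [Function.iterate_succ_apply, map_smul_pow, ih, Function.iterate_succ_apply, ← pow_mul,
      ← pow_succ']

theorem iterate_sum_smul_fixed (φ : V →ₛₗ[frobenius k p] V) (m : ℕ) (t : Finset V) (f : V → k)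
    (ht : ∀ a ∈ t, φ a = a) :
    φ^[m] (∑ a ∈ t, f a • a) = ∑ a ∈ t, (f a) ^ p ^ m • a := by
  induction m with
  | zero => simp
  | succ m ih =>
    rw [Function.iterate_succ_apply', ih, map_sum]
    refine sum_congr rfl fun a ha => ?_
    rw [map_smul_pow, ht a ha, ← pow_mul, ← pow_succ]

/-- the part on which `φ` is nilpotent. -/
def nilSub (φ : V →ₛₗ[frobenius k p] V) : Submodule k V where
  carrier := {v | ∃ m : ℕ, φ^[m] v = 0}
  zero_mem' := ⟨0, rfl⟩
  add_mem' := by
    rintro x y ⟨m, hm⟩ ⟨m', hm'⟩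
    refine ⟨m + m', ?_⟩
    rw [iterate_map_add, Function.iterate_add_apply φ m m' y, hm', iterate_map_zero,
      add_comm m m', Function.iterate_add_apply φ m' m x, hm, iterate_map_zero, add_zero]
  smul_mem' := by
    rintro c x ⟨m, hm⟩
    exact ⟨m, by rw [iterate_smul, hm, smul_zero]⟩

theorem nilSub_stable (φ : V →ₛₗ[frobenius k p] V) : ∀ w ∈ nilSub p φ, φ w ∈ nilSub p φ := by
  rintro w ⟨m, hm⟩
  exact ⟨m, by rw [← Function.iterate_succ_apply, Function.iterate_succ_apply', hm, map_zero]⟩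

theorem isCompl_fixedSpan_nilSub [FiniteDimensional k V] (φ : V →ₛₗ[frobenius k p] V) :
    IsCompl (fixedSpan p φ) (nilSub p φ) := by
  constructor
  · rw [Submodule.disjoint_def]
    intro x hxU hxN
    obtain ⟨b, hbs, hbspan, hbli⟩ := exists_linearIndependent k {x : V | φ x = x}
    unfold fixedSpan at hxU
    rw [← hbspan] at hxU
    obtain ⟨f, t, htb, hft, rfl⟩ := Submodule.mem_span_iff_exists_finset_subset.1 hxU
    obtain ⟨m, hm⟩ := hxN
    rw [iterate_sum_smul_fixed p φ m t f (fun a ha => hbs (htb ha))] at hm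
    have h0 := linearIndepOn_iff'.1 (linearIndependent_subtype_iff.1 hbli) t
      (fun a => f a ^ p ^ m) htb hm
    refine Finset.sum_eq_zero fun a ha => ?_
    have := h0 a ha
    rw [pow_eq_zero_iff (pow_ne_zero _ (Fact.out : p.Prime).ne_zero)] at this
    rw [this, zero_smul]
  · rw [codisjoint_iff, eq_top_iff]
    intro x _
    set N := nilSub p φ with hN
    set U := fixedSpan p φ with hU
    let φq : (V ⧸ N) →ₛₗ[frobenius k p] (V ⧸ N) := N.mapQ N φ (nilSub_stable p φ)
    have hqinj : Function.Injective φq := by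
      rw [injective_iff_map_eq_zero]
      intro xq hxq
      obtain ⟨x, rfl⟩ := N.mkQ_surjective xq
      have h1 : φ x ∈ N := (Submodule.Quotient.mk_eq_zero N).1 hxq
      obtain ⟨m, hm⟩ := h1
      exact (Submodule.Quotient.mk_eq_zero N).2
        ⟨m + 1, by rw [Function.iterate_succ_apply]; exact hm⟩
    have htop := fixedSpan_eq_top p φq hqinj
    let φN : N →ₛₗ[frobenius k p] N :=
      (φ.domRestrict N).codRestrict N (fun c => nilSub_stable p φ c c.2)
    have hle : fixedSpan p φq ≤ (U ⊔ N).map N.mkQ := by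
      unfold fixedSpan
      rw [Submodule.span_le]
      intro wq hwq
      obtain ⟨w, rfl⟩ := N.mkQ_surjective wq
      have hmem : φ w - w ∈ N := by
        rw [← Submodule.Quotient.mk_eq_zero, Submodule.Quotient.mk_sub]
        exact sub_eq_zero.2 hwq
      obtain ⟨u, hu⟩ := sub_id_surjective p _ φN rfl ⟨φ w - w, hmem⟩
      have hu' : φ (u : V) - (u : V) = φ w - w := congrArg Subtype.val hu
      have hfix : φ (w - (u : V)) = w - (u : V) := by
        rw [map_sub]
        have h3 : φ w - φ (u : V) - (w - (u : V)) = 0 := by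
          have : φ w - φ (u : V) - (w - (u : V)) = (φ w - w) - (φ (u : V) - (u : V)) := by abel
          rw [this, hu', sub_self]
        exact sub_eq_zero.1 h3
      have h2 : w - (u : V) ∈ U := Submodule.subset_span hfix
      refine ⟨w, ?_, rfl⟩
      have := add_mem (Submodule.mem_sup_left h2) (Submodule.mem_sup_right u.2 : (u : V) ∈ U ⊔ N)
      rwa [sub_add_cancel] at this
    rw [htop, top_le_iff] at hle
    have hx : N.mkQ x ∈ (U ⊔ N).map N.mkQ := by rw [hle]; trivial
    obtain ⟨y, hy, hyx⟩ := hx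
    have h4 : y - x ∈ N := by
      rw [← Submodule.Quotient.mk_eq_zero, Submodule.Quotient.mk_sub]
      exact sub_eq_zero.2 hyx
    have : x = y - (y - x) := by abel
    rw [this]
    exact sub_mem hy (Submodule.mem_sup_right h4)

end decomp

theorem result8604 (p : ℕ) [Fact p.Prime] (k : Type u) [Field k]
    [IsAlgClosed k] [CharP k p] (V : Type u) [AddCommGroup V] [Module k V] [FiniteDimensional k V]
    (F : V →+ V) (hF : ∀ (a : k) (v : V), F (a • v) = a ^ p • F v) :
    IsCompl (Submodule.span k {v : V | F v = v})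
        (Submodule.span k {v : V | ∃ m : ℕ, (⇑F)^[m] v = 0}) ∧
      ∀ (s : Finset V), (∀ v ∈ s, F v = v) →
        (∀ c : s → ℤ, (∑ v : s, c v • (v : V)) = 0 → ∀ v : s, (p : ℤ) ∣ c v) →
          LinearIndependent k (fun v : s => (v : V)) := by
  let φ : V →ₛₗ[frobenius k p] V :=
    { toFun := F, map_add' := F.map_add, map_smul' := fun a v => by rw [hF]; rfl }
  refine ⟨?_, fun s hs hind => linearIndependent_fixed p φ s hs hind⟩
  have h1 : Submodule.span k {v : V | F v = v} = fixedSpan p φ := rfl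
  have h2 : Submodule.span k {v : V | ∃ m : ℕ, (⇑F)^[m] v = 0} = nilSub p φ := by
    have : {v : V | ∃ m : ℕ, (⇑F)^[m] v = 0} = (nilSub p φ : Set V) := rfl
    rw [this, Submodule.span_eq]
  rw [h1, h2]
  exact isCompl_fixedSpan_nilSub p φ

end Groth.Agent.Helper7.PLin
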