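import Groth.Agent.Helper7.PLin

set_option autoImplicit false
universe u v w

namespace Groth.Agent.Helper7.PLin

open Polynomial Finset

section integral

theorem sub_id_surjective_of_integral (p : ℕ) [Fact p.Prime]
    {L : Type u} [Field L] [IsAlgClosed L] [CharP L p]
    {R : Type v} [CommRing R] [Algebra L R] [Algebra.IsIntegral L R] [ExpChar R p]
    {M : Type w} [AddCommGroup M] [Module R M] [Module.Finite R M]
    (φ : M →ₛₗ[frobenius R p] M) : Function.Surjective fun m : M => φ m - m := by
  intro y
  obtain ⟨n, m, hm⟩ := Module.Finite.exists_fin (R := R) (M := M)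
  have hall : ∀ x : M, ∃ c : Fin n → R, ∑ i, c i • m i = x := fun x =>
    (Submodule.mem_span_range_iff_exists_fun R).1 (hm ▸ Submodule.mem_top)
  choose r hr using fun i => hall (φ (m i))
  obtain ⟨c, hc⟩ := hall y
  let S : Set R := Set.range (fun ij : Fin n × Fin n => r ij.1 ij.2) ∪ Set.range c
  have hS : S.Finite := (Set.finite_range _).union (Set.finite_range _)
  let A : Subalgebra L R := Algebra.adjoin L S
  haveI : Module.Finite L A := Algebra.finite_adjoin_of_finite_of_isIntegral hS
    (fun x _ => Algebra.IsIntegral.isIntegral x)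
  have hrA : ∀ i j, r i j ∈ A := fun i j => Algebra.subset_adjoin (Or.inl ⟨(i, j), rfl⟩)
  have hcA : ∀ i, c i ∈ A := fun i => Algebra.subset_adjoin (Or.inr ⟨i, rfl⟩)
  have hadd : ∀ x y : A, (x + y) ^ p = x ^ p + y ^ p := fun x y =>
    Subtype.ext (by push_cast; exact add_pow_expChar (x : R) (y : R) p)
  let ψ : (Fin n → A) →ₛₗ[frobenius L p] (Fin n → A) :=
    { toFun := fun a j => ∑ i, (a i) ^ p * ⟨r i j, hrA i j⟩
      map_add' := fun a b => by
        funext j
        simp only [Pi.add_apply, hadd, add_mul, Finset.sum_add_distrib]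
      map_smul' := fun l a => by
        funext j
        simp only [Pi.smul_apply, _root_.smul_pow, smul_mul_assoc, ← Finset.smul_sum, frobenius_def] }
  let π : (Fin n → A) → M := fun a => ∑ i, (a i : R) • m i
  have hπψ : ∀ a, π (ψ a) = φ (π a) := by
    intro a
    show ∑ j, ((∑ i, (a i) ^ p * (⟨r i j, hrA i j⟩ : A) : A) : R) • m j =
      φ (∑ i, (a i : R) • m i)
    rw [map_sum]
    have h1 : ∀ i, φ ((a i : R) • m i) = ∑ j, ((a i : R) ^ p * r i j) • m j := by
      intro i
      rw [map_smulₛₗ, frobenius_def, ← hr i, Finset.smul_sum]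
      exact Finset.sum_congr rfl fun j _ => (mul_smul _ _ _).symm
    simp only [h1]
    rw [Finset.sum_comm]
    refine Finset.sum_congr rfl fun j _ => ?_
    rw [← Finset.sum_smul]
    congr 1
    push_cast
    rfl
  have hπsub : ∀ a b, π (a - b) = π a - π b := by
    intro a b
    show ∑ i, ((a - b) i : R) • m i = ∑ i, (a i : R) • m i - ∑ i, (b i : R) • m i
    rw [← Finset.sum_sub_distrib]
    refine Finset.sum_congr rfl fun i _ => ?_
    rw [Pi.sub_apply, ← sub_smul]
    rfl
  obtain ⟨a, ha⟩ := sub_id_surjective p _ ψ rfl (fun i => ⟨c i, hcA i⟩)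
  refine ⟨π a, ?_⟩
  show φ (π a) - π a = y
  rw [← hπψ, ← hπsub, ha]
  exact hc

end integral

theorem result15362 (p : ℕ) [Fact p.Prime]
    (L : Type u) [Field L] [IsAlgClosed L] [CharP L p]
    (R : Type v) [CommRing R] [Algebra L R] [Algebra.IsIntegral L R] [ExpChar R p]
    (M : Type w) [AddCommGroup M] [Module R M] [Module.FinitePresentation R M]
    (φ : M →ₛₗ[frobenius R p] M) :
    Function.Surjective fun m : M => φ m - m :=
  sub_id_surjective_of_integral (L := L) p φ

end Groth.Agent.Helper7.PLin
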