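import Mathlib
set_option autoImplicit false
open Polynomial

namespace Groth.Agent.Helper7.PPLb

universe u
variable {K : Type u} [Field K]

/-- the dehomogenised quadratic -/
noncomputable def q1 (a b c : K) : K[X] := C a * X ^ 2 + C b * X + C c

theorem natDegree_q1_le (a b c : K) : (q1 a b c).natDegree ≤ 2 := by
  unfold q1
  compute_degree

theorem coeff_q1_two (a b c : K) : (q1 a b c).coeff 2 = a := by
  unfold q1; simp

theorem coeff_q1_one (a b c : K) : (q1 a b c).coeff 1 = b := by
  unfold q1; simp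

theorem coeff_q1_zero (a b c : K) : (q1 a b c).coeff 0 = c := by
  unfold q1; simp

theorem homogenize_q1 (a b c : K) :
    (q1 a b c).homogenize 2 =
      MvPolynomial.C a * MvPolynomial.X 0 ^ 2 + MvPolynomial.C b * (MvPolynomial.X 0 * MvPolynomial.X 1)
        + MvPolynomial.C c * MvPolynomial.X 1 ^ 2 := by
  unfold q1
  rw [homogenize_add, homogenize_add, homogenize_C_mul, homogenize_C_mul, homogenize_C,
    homogenize_X_pow (le_refl 2), homogenize_X (by norm_num)]
  simp

/-- a binary quadratic form is the homogenisation of its dehomogenisation -/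
theorem eq_homogenize (q : MvPolynomial (Fin 2) K) (hq : q.IsHomogeneous 2) :
    q = (q1 (q.coeff (Finsupp.single 0 2)) (q.coeff (Finsupp.single 0 1 + Finsupp.single 1 1))
      (q.coeff (Finsupp.single 1 2))).homogenize 2 := by
  ext m
  rw [coeff_homogenize]
  split_ifs with h
  · have hm0 : m 0 ≤ 2 := by omega
    interval_cases hm : m 0
    · have : m = Finsupp.single 1 2 := by
        ext i; fin_cases i
        · simp [hm]
        · simp; omega
      rw [coeff_q1_zero, this]
    · have : m = Finsupp.single 0 1 + Finsupp.single 1 1 := by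
        ext i; fin_cases i
        · simp [hm]
        · simp; omega
      rw [coeff_q1_one, this]
    · have : m = Finsupp.single 0 2 := by
        ext i; fin_cases i
        · simp [hm]
        · simp; omega
      rw [coeff_q1_two, this]
  · apply hq.coeff_eq_zero
    rw [Finsupp.degree_eq_sum, Fin.sum_univ_two]
    exact h

theorem not_isUnit_homogenize {f : K[X]} {n : ℕ} (hf : f ≠ 0) (hd : f.natDegree ≤ n) (hn : n ≠ 0) :
    ¬ IsUnit (f.homogenize n) := by
  intro h
  rw [MvPolynomial.isUnit_iff_eq_C_of_isReduced] at h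
  obtain ⟨r, hr, h⟩ := h
  have h1 : (f.homogenize n).IsHomogeneous n := isHomogeneous_homogenize f
  have h2 : (f.homogenize n).IsHomogeneous 0 := by rw [h]; exact MvPolynomial.isHomogeneous_C _ _
  have h3 : f.homogenize n ≠ 0 := by
    rw [Ne, homogenize_eq_zero_iff hd]; exact hf
  exact hn (MvPolynomial.IsHomogeneous.inj_right h1 h2 h3)

theorem lead_ne_zero (a b c : K) (hirr : Irreducible ((q1 a b c).homogenize 2)) : a ≠ 0 := by
  rintro rfl
  have hp : q1 (0 : K) b c = C b * X + C c := by unfold q1; simp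
  have hd : (q1 (0 : K) b c).natDegree ≤ 1 := by rw [hp]; compute_degree
  have h0 : q1 (0 : K) b c ≠ 0 := by
    intro h
    rw [h, homogenize_zero] at hirr
    exact hirr.ne_zero rfl
  have h1 : (q1 (0 : K) b c).homogenize 2 =
      (q1 (0 : K) b c).homogenize 1 * (1 : K[X]).homogenize 1 := by
    rw [← homogenize_mul _ _ hd (by simp), mul_one]
  rw [h1] at hirr
  rcases hirr.isUnit_or_isUnit rfl with h | h
  · exact not_isUnit_homogenize h0 hd one_ne_zero h
  · exact not_isUnit_homogenize one_ne_zero (by simp) one_ne_zero h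

theorem irreducible_q1 (a b c : K) (hirr : Irreducible ((q1 a b c).homogenize 2)) :
    Irreducible (q1 a b c) := by
  have ha := lead_ne_zero a b c hirr
  have hdeg : (q1 a b c).natDegree = 2 := by
    apply le_antisymm (natDegree_q1_le a b c)
    apply le_natDegree_of_ne_zero
    rw [coeff_q1_two]; exact ha
  have h0 : q1 a b c ≠ 0 := by
    intro h; rw [h] at hdeg; simp at hdeg
  refine ⟨?_, ?_⟩
  · intro hu
    have := natDegree_eq_zero_of_isUnit hu
    omega
  · intro f g hfg
    by_contra hcon
    push Not at hcon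
    obtain ⟨hf, hg⟩ := hcon
    have hf0 : f ≠ 0 := by rintro rfl; rw [zero_mul] at hfg; exact h0 hfg
    have hg0 : g ≠ 0 := by rintro rfl; rw [mul_zero] at hfg; exact h0 hfg
    have hdf : f.natDegree ≠ 0 := by
      intro h
      obtain ⟨r, hr⟩ := natDegree_eq_zero.mp h
      apply hf
      rw [← hr]
      exact isUnit_C.mpr (isUnit_iff_ne_zero.mpr (by rintro rfl; exact hf0 (by rw [← hr, map_zero])))
    have hdg : g.natDegree ≠ 0 := by
      intro h
      obtain ⟨r, hr⟩ := natDegree_eq_zero.mp h
      apply hg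
      rw [← hr]
      exact isUnit_C.mpr (isUnit_iff_ne_zero.mpr (by rintro rfl; exact hg0 (by rw [← hr, map_zero])))
    have hsum : f.natDegree + g.natDegree = 2 := by
      rw [← natDegree_mul hf0 hg0, ← hfg, hdeg]
    have h1 : (q1 a b c).homogenize 2 = f.homogenize 1 * g.homogenize 1 := by
      rw [hfg, ← homogenize_mul _ _ (by omega) (by omega)]
    rw [h1] at hirr
    rcases hirr.isUnit_or_isUnit rfl with h | h
    · exact not_isUnit_homogenize hf0 (by omega) one_ne_zero h
    · exact not_isUnit_homogenize hg0 (by omega) one_ne_zero h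


theorem eval₂_q1 {S : Type*} [CommRing S] (a b c : K) (f : K →+* S) (x : S) :
    (q1 a b c).eval₂ f x = f a * x ^ 2 + f b * x + f c := by
  unfold q1
  simp only [eval₂_add, eval₂_mul, eval₂_pow, eval₂_C, eval₂_X]

theorem quad_aux {L : Type*} [Field L] (A B C' θ : L) (hA : A ≠ 0)
    (hroot : A * θ ^ 2 + B * θ + C' = 0) :
    A * (θ + (-B / A - θ)) = -B ∧ A * (θ * (-B / A - θ)) = C' ∧
      A * (-B / A - θ) ^ 2 + B * (-B / A - θ) + C' = 0 ∧
      A ^ 2 * ((-B / A - θ) - θ) ^ 2 = B ^ 2 - 4 * A * C' := by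
  refine ⟨?_, ?_, ?_, ?_⟩
  · field_simp; ring
  · field_simp; linear_combination (-1 : L) * hroot
  · field_simp; linear_combination A * hroot
  · field_simp; linear_combination (4 * A) * hroot

/-- the quadratic extension with its conjugation -/
theorem exists_quadExt (a b c : K) (ha : a ≠ 0) (hirr : Irreducible (q1 a b c))
    (hdisc : b ^ 2 - 4 * a * c ≠ 0) :
    ∃ (L : Type u) (_ : Field L) (_ : Algebra K L) (θ θ' : L) (σ : L →ₐ[K] L),
      σ θ = θ' ∧ σ θ' = θ ∧ algebraMap K L a * (θ + θ') = - algebraMap K L b ∧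
      algebraMap K L a * (θ * θ') = algebraMap K L c ∧ θ ≠ θ' := by
  have : Fact (Irreducible (q1 a b c)) := ⟨hirr⟩
  have hroot : algebraMap K (AdjoinRoot (q1 a b c)) a * (AdjoinRoot.root (q1 a b c)) ^ 2 +
      algebraMap K (AdjoinRoot (q1 a b c)) b * (AdjoinRoot.root (q1 a b c)) +
      algebraMap K (AdjoinRoot (q1 a b c)) c = 0 := by
    have := AdjoinRoot.eval₂_root (q1 a b c)
    rw [eval₂_q1] at this
    exact this
  have haL : algebraMap K (AdjoinRoot (q1 a b c)) a ≠ 0 := by
    rw [Ne, map_eq_zero_iff _ (algebraMap K (AdjoinRoot (q1 a b c))).injective]; exact ha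
  obtain ⟨h1, h2, h3, h4⟩ := quad_aux _ _ _ _ haL hroot
  have hroot' : (q1 a b c).eval₂ ((Algebra.ofId K (AdjoinRoot (q1 a b c)) : K →+* _))
      (-algebraMap K (AdjoinRoot (q1 a b c)) b / algebraMap K (AdjoinRoot (q1 a b c)) a -
        AdjoinRoot.root (q1 a b c)) = 0 := by
    rw [eval₂_q1]
    exact h3
  refine ⟨AdjoinRoot (q1 a b c), inferInstance, inferInstance, AdjoinRoot.root (q1 a b c),
    -algebraMap K (AdjoinRoot (q1 a b c)) b / algebraMap K (AdjoinRoot (q1 a b c)) a -
        AdjoinRoot.root (q1 a b c),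
    AdjoinRoot.liftAlgHom (q1 a b c) (Algebra.ofId K (AdjoinRoot (q1 a b c))) _ hroot',
    ?_, ?_, h1, h2, ?_⟩
  · exact AdjoinRoot.liftAlgHom_root _ _ _ _
  · rw [map_sub, map_div₀, map_neg, AlgHom.commutes, AlgHom.commutes, AdjoinRoot.liftAlgHom_root]
    ring
  · intro h
    rw [← h, sub_self] at h4
    have : algebraMap K (AdjoinRoot (q1 a b c)) (b ^ 2 - 4 * a * c) = 0 := by
      rw [map_sub, map_pow, map_mul, map_mul, map_ofNat, ← h4]; simp
    rw [map_eq_zero_iff _ (algebraMap K (AdjoinRoot (q1 a b c))).injective] at this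
    exact hdisc this

end Groth.Agent.Helper7.PPLb
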