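import Mathlib
set_option autoImplicit false
open MvPolynomial HomogeneousLocalization

namespace Groth.Agent.Helper7.PPLc

universe u
attribute [local instance] MvPolynomial.gradedAlgebra
variable {K : Type u} [Field K]

local notation "𝒜" => MvPolynomial.homogeneousSubmodule (Fin 2) K

section
variable (q : MvPolynomial (Fin 2) K) (hq : q ∈ MvPolynomial.homogeneousSubmodule (Fin 2) K 2)

theorem X0sq_mem : (X 0 ^ 2 : MvPolynomial (Fin 2) K) ∈ 𝒜 (1 • 2) := by
  rw [mem_homogeneousSubmodule]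
  exact isHomogeneous_X_pow 0 2

theorem X0X1_mem : (X 0 * X 1 : MvPolynomial (Fin 2) K) ∈ 𝒜 (1 • 2) := by
  rw [mem_homogeneousSubmodule]
  exact (isHomogeneous_X K 0).mul (isHomogeneous_X K 1)

theorem X1sq_mem : (X 1 ^ 2 : MvPolynomial (Fin 2) K) ∈ 𝒜 (1 • 2) := by
  rw [mem_homogeneousSubmodule]
  exact isHomogeneous_X_pow 1 2

/-- `x²/q` -/
noncomputable def uu : Away 𝒜 q := Away.mk 𝒜 hq 1 (X 0 ^ 2) X0sq_mem
/-- `xy/q` -/
noncomputable def vv : Away 𝒜 q := Away.mk 𝒜 hq 1 (X 0 * X 1) X0X1_mem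
/-- `y²/q` -/
noncomputable def ww : Away 𝒜 q := Away.mk 𝒜 hq 1 (X 1 ^ 2) X1sq_mem

theorem adjoin_X : Algebra.adjoin (𝒜 0) (Set.range ![(X 0 : MvPolynomial (Fin 2) K), X 1]) = ⊤ := by
  rw [eq_top_iff]
  intro f _
  clear * -
  induction f using MvPolynomial.induction_on with
  | C a =>
    have : (C a : MvPolynomial (Fin 2) K) ∈ 𝒜 0 := by
      rw [mem_homogeneousSubmodule]; exact isHomogeneous_C _ a
    exact Subalgebra.algebraMap_mem _ (⟨C a, this⟩ : 𝒜 0)
  | add p q hp hq => exact add_mem hp hq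
  | mul_X p i hp =>
    refine mul_mem hp (Algebra.subset_adjoin ⟨i, ?_⟩)
    fin_cases i <;> rfl


theorem algebraMap_zero_eq (r : 𝒜 0) :
    ∃ k : K, algebraMap (𝒜 0) (Away 𝒜 q) r = k • (1 : Away 𝒜 q) := by
  have hr : (r : MvPolynomial (Fin 2) K) ∈ (1 : Submodule K (MvPolynomial (Fin 2) K)) := by
    rw [← homogeneousSubmodule_zero]; exact r.2
  rw [Submodule.mem_one] at hr
  obtain ⟨k, hk⟩ := hr
  refine ⟨k, ?_⟩
  apply val_injective
  rw [val_smul, val_one, HomogeneousLocalization.algebraMap_eq]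
  change Localization.mk (r : MvPolynomial (Fin 2) K) 1 = _
  rw [← hk, Localization.mk_one_eq_algebraMap, Algebra.smul_def, mul_one,
    ← IsScalarTower.algebraMap_apply]

include hq in
theorem mk_cases {a : ℕ} {f : MvPolynomial (Fin 2) K} (hf : f ∈ 𝒜 (a • 2)) {i j : ℕ}
    (hfij : f = X 0 ^ i * X 1 ^ j) (hi : i ≤ 2) (hj : j ≤ 2) (hsum : i + j = a * 2) :
    Away.mk 𝒜 hq a f hf ∈ Subring.closure {uu q hq, vv q hq, ww q hq} := by
  have hu : uu q hq ∈ Subring.closure {uu q hq, vv q hq, ww q hq} :=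
    Subring.subset_closure (by simp)
  have hv : vv q hq ∈ Subring.closure {uu q hq, vv q hq, ww q hq} :=
    Subring.subset_closure (by simp)
  have hw : ww q hq ∈ Subring.closure {uu q hq, vv q hq, ww q hq} :=
    Subring.subset_closure (by simp)
  subst hfij
  interval_cases i <;> interval_cases j
  · obtain rfl : a = 0 := by omega
    have : Away.mk 𝒜 hq 0 (X 0 ^ 0 * X 1 ^ 0) hf = 1 := by
      apply val_injective
      rw [Away.val_mk, val_one]
      simp
    rw [this]; exact one_mem _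
  · exfalso; omega
  · obtain rfl : a = 1 := by omega
    have : Away.mk 𝒜 hq 1 (X 0 ^ 0 * X 1 ^ 2) hf = ww q hq := by
      apply val_injective
      rw [ww, Away.val_mk, Away.val_mk]
      simp
    rw [this]; exact hw
  · exfalso; omega
  · obtain rfl : a = 1 := by omega
    have : Away.mk 𝒜 hq 1 (X 0 ^ 1 * X 1 ^ 1) hf = vv q hq := by
      apply val_injective
      rw [vv, Away.val_mk, Away.val_mk]
      simp
    rw [this]; exact hv
  · exfalso; omega
  · obtain rfl : a = 1 := by omega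
    have : Away.mk 𝒜 hq 1 (X 0 ^ 2 * X 1 ^ 0) hf = uu q hq := by
      apply val_injective
      rw [uu, Away.val_mk, Away.val_mk]
      simp
    rw [this]; exact hu
  · exfalso; omega
  · obtain rfl : a = 2 := by omega
    have : Away.mk 𝒜 hq 2 (X 0 ^ 2 * X 1 ^ 2) hf = uu q hq * ww q hq := by
      apply val_injective
      rw [uu, ww, val_mul, Away.val_mk, Away.val_mk, Away.val_mk, Localization.mk_mul]
      congr 1
      · apply Subtype.ext
        change q ^ 2 = q ^ 1 * q ^ 1
        ring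
    rw [this]; exact mul_mem hu hw


include hq in
/-- ring homomorphisms out of `A` are determined by their values on `K`, `u`, `v`, `w` -/
theorem ringHom_ext {S : Type*} [Ring S] (φ ψ : Away 𝒜 q →+* S)
    (hK : ∀ k : K, φ (k • (1 : Away 𝒜 q)) = ψ (k • (1 : Away 𝒜 q)))
    (hu : φ (uu q hq) = ψ (uu q hq)) (hv : φ (vv q hq) = ψ (vv q hq))
    (hw : φ (ww q hq) = ψ (ww q hq)) : φ = ψ := by
  have hxd : ∀ i : Fin 2, ![(X 0 : MvPolynomial (Fin 2) K), X 1] i ∈ 𝒜 (![1, 1] i) := by
    intro i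
    fin_cases i
    · exact (mem_homogeneousSubmodule _ _).mpr (isHomogeneous_X K 0)
    · exact (mem_homogeneousSubmodule _ _).mpr (isHomogeneous_X K 1)
  have key := Away.adjoin_mk_prod_pow_eq_top hq (Fin 2) ![(X 0 : MvPolynomial (Fin 2) K), X 1]
    adjoin_X ![1, 1] hxd
  have hcl : Subring.closure {uu q hq, vv q hq, ww q hq} ≤ RingHom.eqLocus φ ψ := by
    rw [Subring.closure_le]
    rintro z (rfl | rfl | rfl)
    · exact hu
    · exact hv
    · exact hw
  refine RingHom.ext fun z => ?_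
  have hz : z ∈ (⊤ : Subalgebra (𝒜 0) (Away 𝒜 q)) := trivial
  rw [← key] at hz
  induction hz using Algebra.adjoin_induction with
  | mem z hz =>
    obtain ⟨a, ai, hai, hle, rfl⟩ := hz
    apply hcl
    refine mk_cases q hq _ (i := ai 0) (j := ai 1) ?_ (hle 0) (hle 1) ?_
    · rw [Fin.prod_univ_two]; rfl
    · rw [Fin.sum_univ_two] at hai
      simpa [mul_comm] using hai
  | algebraMap r =>
    obtain ⟨k, hk⟩ := algebraMap_zero_eq q r
    rw [hk]
    exact hK k
  | add x y _ _ hx hy => rw [map_add, map_add, hx, hy]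
  | mul x y _ _ hx hy => rw [map_mul, map_mul, hx, hy]

end

end Groth.Agent.Helper7.PPLc
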