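import Mathlib
import Groth.Agent.Helper7.PPLb
import Groth.Agent.Helper7.PPLc
set_option autoImplicit false
open LaurentPolynomial

namespace Groth.Agent.Helper7.PPLd

universe u
attribute [local instance] MvPolynomial.gradedAlgebra
variable {K : Type u} [Field K] {L : Type u} [Field L] [Algebra K L]

section
variable (θ θ' : L)

/-- image of `x` -/
noncomputable def x0 : L[T;T⁻¹] := C θ' * T 1 - C θ
/-- image of `y` -/
noncomputable def y0 : L[T;T⁻¹] := T 1 - 1
/-- constants -/
noncomputable def cK : K →+* L[T;T⁻¹] := (C : L →+* L[T;T⁻¹]).comp (algebraMap K L)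

/-- the evaluation map -/
noncomputable def Psi : MvPolynomial (Fin 2) K →+* L[T;T⁻¹] :=
  MvPolynomial.eval₂Hom (cK (K := K) (L := L)) ![x0 θ θ', y0]

@[simp] theorem Psi_C (k : K) : Psi θ θ' (MvPolynomial.C k) = cK k := by
  simp [Psi]

@[simp] theorem Psi_X0 : Psi (K := K) θ θ' (MvPolynomial.X 0) = x0 θ θ' := by
  simp [Psi]

@[simp] theorem Psi_X1 : Psi (K := K) θ θ' (MvPolynomial.X 1) = y0 := by
  simp [Psi]

/-- the linear substitution -/
noncomputable def Lam : MvPolynomial (Fin 2) L →ₐ[L] MvPolynomial (Fin 2) L :=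
  MvPolynomial.aeval ![MvPolynomial.C θ' * MvPolynomial.X 0 - MvPolynomial.C θ * MvPolynomial.X 1,
    MvPolynomial.X 0 - MvPolynomial.X 1]

/-- its inverse -/
noncomputable def Lam' (d : L) : MvPolynomial (Fin 2) L →ₐ[L] MvPolynomial (Fin 2) L :=
  MvPolynomial.aeval ![MvPolynomial.C d * (MvPolynomial.X 0 - MvPolynomial.C θ * MvPolynomial.X 1),
    MvPolynomial.C d * (MvPolynomial.X 0 - MvPolynomial.C θ' * MvPolynomial.X 1)]

theorem Lam'_comp_Lam (d : L) (hd : d * (θ' - θ) = 1) :
    (Lam' θ θ' d).comp (Lam θ θ') = AlgHom.id L _ := by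
  have hC : (MvPolynomial.C d : MvPolynomial (Fin 2) L) * (MvPolynomial.C θ' - MvPolynomial.C θ) = 1 := by
    rw [← map_sub, ← map_mul, hd, map_one]
  apply MvPolynomial.algHom_ext
  intro i
  fin_cases i
  · simp only [Lam, Lam', AlgHom.comp_apply, MvPolynomial.aeval_X, AlgHom.id_apply,
      Fin.zero_eta, Matrix.cons_val_zero, map_sub, map_mul, MvPolynomial.aeval_C,
      MvPolynomial.algebraMap_eq, Matrix.cons_val_one]
    linear_combination (MvPolynomial.X 0 : MvPolynomial (Fin 2) L) * hC
  · simp only [Lam, Lam', AlgHom.comp_apply, MvPolynomial.aeval_X, AlgHom.id_apply,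
      Fin.mk_one, Matrix.cons_val_zero, map_sub, Matrix.cons_val_one]
    linear_combination (MvPolynomial.X 1 : MvPolynomial (Fin 2) L) * hC

theorem Lam_injective (hne : θ ≠ θ') : Function.Injective (Lam θ θ') := by
  have hd : (θ' - θ)⁻¹ * (θ' - θ) = 1 := inv_mul_cancel₀ (sub_ne_zero.mpr hne.symm)
  intro f g hfg
  have := congrArg (Lam' θ θ' (θ' - θ)⁻¹) hfg
  rw [← AlgHom.comp_apply, ← AlgHom.comp_apply, Lam'_comp_Lam θ θ' _ hd] at this
  exact this

theorem Psi_eq (f : MvPolynomial (Fin 2) K) :
    Psi θ θ' f = Polynomial.toLaurent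
      (MvPolynomial.aeval ![(Polynomial.X : Polynomial L), 1]
        (Lam θ θ' (MvPolynomial.map (algebraMap K L) f))) := by
  have : Psi (K := K) θ θ' = (Polynomial.toLaurent : Polynomial L →+* L[T;T⁻¹]).comp
      ((MvPolynomial.aeval ![(Polynomial.X : Polynomial L), 1] : _ →ₐ[L] _).toRingHom.comp
        ((Lam θ θ').toRingHom.comp (MvPolynomial.map (algebraMap K L)))) := by
    apply MvPolynomial.ringHom_ext
    · intro k
      simp [cK, Lam]
    · intro i
      fin_cases i
      · simp [Lam, x0]
      · simp [Lam, y0]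
  rw [this]
  rfl

theorem eq_zero_of_Psi_eq_zero (hne : θ ≠ θ') {f : MvPolynomial (Fin 2) K} {d : ℕ}
    (hf : f.IsHomogeneous d) (h0 : Psi θ θ' f = 0) : f = 0 := by
  rw [Psi_eq, Polynomial.toLaurent_eq_zero] at h0
  have h1 : (Lam θ θ' (MvPolynomial.map (algebraMap K L) f)).IsHomogeneous d := by
    have := (hf.map (algebraMap K L)).aeval (S := L)
      (![MvPolynomial.C θ' * MvPolynomial.X 0 - MvPolynomial.C θ * MvPolynomial.X 1,
        MvPolynomial.X 0 - MvPolynomial.X 1] : Fin 2 → MvPolynomial (Fin 2) L) (n := 1) (by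
        intro i
        fin_cases i
        · exact ((MvPolynomial.isHomogeneous_X L 0).C_mul θ').sub
            ((MvPolynomial.isHomogeneous_X L 1).C_mul θ)
        · exact (MvPolynomial.isHomogeneous_X L 0).sub (MvPolynomial.isHomogeneous_X L 1))
    rw [one_mul] at this
    unfold Lam
    exact this
  have h2 := Polynomial.homogenize_eq_of_isHomogeneous h1 h0
  rw [Polynomial.homogenize_zero] at h2
  have h3 : MvPolynomial.map (algebraMap K L) f = 0 := by
    apply Lam_injective θ θ' hne
    rw [← h2, map_zero]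
  exact (MvPolynomial.map_injective _ (algebraMap K L).injective) (by rw [h3, map_zero])


section iota

local notation "𝒜" => MvPolynomial.homogeneousSubmodule (Fin 2) K

variable (q : MvPolynomial (Fin 2) K) (hunit : IsUnit (Psi θ θ' q))

/-- the embedding of the coordinate ring into Laurent polynomials -/
noncomputable def iota : HomogeneousLocalization.Away 𝒜 q →+* L[T;T⁻¹] :=
  (IsLocalization.Away.lift (S := Localization.Away q) q hunit).comp
    (algebraMap (HomogeneousLocalization.Away 𝒜 q) (Localization.Away q))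

theorem iota_apply (z : HomogeneousLocalization.Away 𝒜 q) :
    iota θ θ' q hunit z = IsLocalization.Away.lift (S := Localization.Away q) q hunit z.val := rfl

theorem iota_mk (hq : q ∈ MvPolynomial.homogeneousSubmodule (Fin 2) K 2) (n : ℕ)
    (f : MvPolynomial (Fin 2) K) (hf : f ∈ MvPolynomial.homogeneousSubmodule (Fin 2) K (n • 2)) :
    iota θ θ' q hunit (HomogeneousLocalization.Away.mk 𝒜 hq n f hf) * (Psi θ θ' q) ^ n =
      Psi θ θ' f := by
  rw [iota_apply, HomogeneousLocalization.Away.val_mk]
  have h1 : Localization.mk f (⟨q ^ n, n, rfl⟩ : Submonoid.powers q) *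
      algebraMap _ (Localization.Away q) (q ^ n) = algebraMap _ (Localization.Away q) f := by
    rw [Localization.mk_eq_mk']
    exact IsLocalization.mk'_spec _ f (⟨q ^ n, n, rfl⟩ : Submonoid.powers q)
  have h2 := congrArg (IsLocalization.Away.lift (S := Localization.Away q) q hunit) h1
  rw [map_mul, IsLocalization.Away.lift_eq, IsLocalization.Away.lift_eq, map_pow] at h2
  exact h2

theorem iota_smul (k : K) (z : HomogeneousLocalization.Away 𝒜 q) :
    iota θ θ' q hunit (k • z) = cK k * iota θ θ' q hunit z := by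
  rw [iota_apply, iota_apply, HomogeneousLocalization.val_smul, Algebra.smul_def, map_mul,
    IsScalarTower.algebraMap_apply K (MvPolynomial (Fin 2) K) (Localization.Away q),
    IsLocalization.Away.lift_eq, MvPolynomial.algebraMap_eq, Psi_C]

theorem iota_injective (hne : θ ≠ θ') (hq : q ∈ MvPolynomial.homogeneousSubmodule (Fin 2) K 2) :
    Function.Injective (iota θ θ' q hunit) := by
  rw [injective_iff_map_eq_zero]
  intro z hz
  obtain ⟨n, f, hf, rfl⟩ := HomogeneousLocalization.Away.mk_surjective 𝒜 hq z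
  have h1 := iota_mk θ θ' q hunit hq n f hf
  rw [hz, zero_mul] at h1
  have h2 := eq_zero_of_Psi_eq_zero θ θ' hne ((MvPolynomial.mem_homogeneousSubmodule _ _).mp hf) h1.symm
  subst h2
  apply HomogeneousLocalization.val_injective
  rw [HomogeneousLocalization.Away.val_mk, HomogeneousLocalization.val_zero, Localization.mk_zero]

end iota

end

end Groth.Agent.Helper7.PPLd
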