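import Mathlib
import Groth.Agent.Helper7.PPLd
set_option autoImplicit false
open LaurentPolynomial

namespace Groth.Agent.Helper7.PPLe

open Groth.Agent.Helper7.PPLb Groth.Agent.Helper7.PPLc Groth.Agent.Helper7.PPLd

universe u
attribute [local instance] MvPolynomial.gradedAlgebra

section generic
variable {R : Type*} [CommRing R] (A Θ Θ' U V W : R)

theorem alg_a (h1 : A * U - A * (Θ + Θ') * V + A * (Θ * Θ') * W = 1) (h2 : U * W = V * V) :
    (A * (U - 2 * Θ * V + Θ ^ 2 * W)) * (A * (U - 2 * Θ' * V + Θ' ^ 2 * W)) = 1 := by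
  linear_combination (A * U - A * (Θ + Θ') * V + A * (Θ * Θ') * W + 1) * h1 +
    (A ^ 2 * (Θ - Θ') ^ 2) * h2

theorem alg_b (S' S'' : R) (hS' : S' = A * (U - 2 * Θ * V + Θ ^ 2 * W))
    (hS'' : S'' = A * (U - 2 * Θ' * V + Θ' ^ 2 * W)) (ha : S' * S'' = 1)
    (h1 : A * U - A * (Θ + Θ') * V + A * (Θ * Θ') * W = 1) :
    (Θ' * S' - Θ) ^ 2 * S'' = A * (Θ' - Θ) ^ 2 * U := by
  subst hS' hS''
  linear_combination (Θ' ^ 2 * (A * (U - 2 * Θ * V + Θ ^ 2 * W)) - 2 * Θ * Θ') * ha +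
    (2 * Θ * Θ') * h1

theorem alg_c (S' S'' : R) (hS' : S' = A * (U - 2 * Θ * V + Θ ^ 2 * W))
    (hS'' : S'' = A * (U - 2 * Θ' * V + Θ' ^ 2 * W)) (ha : S' * S'' = 1)
    (h1 : A * U - A * (Θ + Θ') * V + A * (Θ * Θ') * W = 1) :
    (Θ' * S' - Θ) * (S' - 1) * S'' = A * (Θ' - Θ) ^ 2 * V := by
  subst hS' hS''
  linear_combination (Θ' * (A * (U - 2 * Θ * V + Θ ^ 2 * W)) - (Θ + Θ')) * ha +
    (Θ + Θ') * h1

theorem alg_d (S' S'' : R) (hS' : S' = A * (U - 2 * Θ * V + Θ ^ 2 * W))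
    (hS'' : S'' = A * (U - 2 * Θ' * V + Θ' ^ 2 * W)) (ha : S' * S'' = 1)
    (h1 : A * U - A * (Θ + Θ') * V + A * (Θ * Θ') * W = 1) :
    (S' - 1) ^ 2 * S'' = A * (Θ' - Θ) ^ 2 * W := by
  subst hS' hS''
  linear_combination ((A * (U - 2 * Θ * V + Θ ^ 2 * W)) - 2) * ha + 2 * h1

end generic

variable {K : Type u} [Field K] {L : Type u} [Field L] [Algebra K L]

section concrete
variable (θ θ' : L) (a b c : K)

/-- the quadratic form -/
noncomputable def qq : MvPolynomial (Fin 2) K := (q1 a b c).homogenize 2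

theorem qq_mem : qq a b c ∈ MvPolynomial.homogeneousSubmodule (Fin 2) K 2 :=
  (MvPolynomial.mem_homogeneousSubmodule _ _).mpr (Polynomial.isHomogeneous_homogenize _)

/-- the leading constant -/
noncomputable def ee : L := algebraMap K L a * (θ' - θ) ^ 2

variable (hsum : algebraMap K L a * (θ + θ') = - algebraMap K L b)
  (hprod : algebraMap K L a * (θ * θ') = algebraMap K L c)

include hsum in
theorem hB : (C (algebraMap K L a) : L[T;T⁻¹]) * (C θ + C θ') = - C (algebraMap K L b) := by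
  rw [← map_add, ← map_mul, hsum, map_neg]

include hprod in
theorem hC : (C (algebraMap K L a) : L[T;T⁻¹]) * (C θ * C θ') = C (algebraMap K L c) := by
  rw [← map_mul, ← map_mul, hprod]

include hsum hprod in
theorem Psi_qq : Psi θ θ' (qq a b c) = C (ee θ θ' a) * T 1 := by
  unfold qq
  rw [homogenize_q1]
  simp only [map_add, map_mul, map_pow, Psi_C, Psi_X0, Psi_X1]
  unfold x0 y0 cK ee
  simp only [RingHom.comp_apply, map_mul, map_pow, map_sub]
  linear_combination ((C θ' * T 1 - C θ) * (T 1 - 1 : L[T;T⁻¹])) * hB θ θ' a b hsum -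
    ((T 1 - 1 : L[T;T⁻¹]) ^ 2) * hC θ θ' a c hprod


theorem ee_ne_zero (ha : a ≠ 0) (hne : θ ≠ θ') : ee θ θ' a ≠ 0 := by
  unfold ee
  refine mul_ne_zero ?_ (pow_ne_zero _ (sub_ne_zero.mpr hne.symm))
  rw [Ne, map_eq_zero_iff _ (algebraMap K L).injective]
  exact ha

theorem isUnit_C_mul_T {e : L} (he : e ≠ 0) (n : ℤ) : IsUnit (C e * T n : L[T;T⁻¹]) :=
  ((isUnit_iff_ne_zero.mpr he).map C).mul (isUnit_T n)

include hsum hprod in
theorem isUnit_Psi_qq (ha : a ≠ 0) (hne : θ ≠ θ') : IsUnit (Psi θ θ' (qq a b c)) := by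
  rw [Psi_qq θ θ' a b c hsum hprod]
  exact isUnit_C_mul_T (ee_ne_zero θ θ' a ha hne) 1

variable (ha : a ≠ 0) (hne : θ ≠ θ')

local notation "𝒜" => MvPolynomial.homogeneousSubmodule (Fin 2) K

/-- the embedding -/
noncomputable def io : HomogeneousLocalization.Away 𝒜 (qq a b c) →+* L[T;T⁻¹] :=
  iota θ θ' (qq a b c) (isUnit_Psi_qq θ θ' a b c hsum hprod ha hne)

theorem io_injective : Function.Injective (io θ θ' a b c hsum hprod ha hne) :=
  iota_injective θ θ' _ _ hne (qq_mem a b c)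

theorem io_smul (k : K) (z : HomogeneousLocalization.Away 𝒜 (qq a b c)) :
    io θ θ' a b c hsum hprod ha hne (k • z) = C (algebraMap K L k) * io θ θ' a b c hsum hprod ha hne z :=
  iota_smul θ θ' _ _ k z

theorem io_u : io θ θ' a b c hsum hprod ha hne (uu (qq a b c) (qq_mem a b c)) * (C (ee θ θ' a) * T 1) =
    x0 θ θ' ^ 2 := by
  have := iota_mk θ θ' (qq a b c) (isUnit_Psi_qq θ θ' a b c hsum hprod ha hne) (qq_mem a b c) 1
    (MvPolynomial.X 0 ^ 2) X0sq_mem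
  rw [pow_one, Psi_qq θ θ' a b c hsum hprod, map_pow, Psi_X0] at this
  exact this

theorem io_v : io θ θ' a b c hsum hprod ha hne (vv (qq a b c) (qq_mem a b c)) * (C (ee θ θ' a) * T 1) =
    x0 θ θ' * y0 := by
  have := iota_mk θ θ' (qq a b c) (isUnit_Psi_qq θ θ' a b c hsum hprod ha hne) (qq_mem a b c) 1
    (MvPolynomial.X 0 * MvPolynomial.X 1) X0X1_mem
  rw [pow_one, Psi_qq θ θ' a b c hsum hprod, map_mul, Psi_X0, Psi_X1] at this
  exact this

theorem io_w : io θ θ' a b c hsum hprod ha hne (ww (qq a b c) (qq_mem a b c)) * (C (ee θ θ' a) * T 1) =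
    y0 ^ 2 := by
  have := iota_mk θ θ' (qq a b c) (isUnit_Psi_qq θ θ' a b c hsum hprod ha hne) (qq_mem a b c) 1
    (MvPolynomial.X 1 ^ 2) X1sq_mem
  rw [pow_one, Psi_qq θ θ' a b c hsum hprod, map_pow, Psi_X1] at this
  exact this

end concrete

end Groth.Agent.Helper7.PPLe
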