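import Mathlib
import Groth.Agent.Helper7.PPLa
import Groth.Agent.Helper7.PPLe
set_option autoImplicit false
open LaurentPolynomial

namespace Groth.Agent.Helper7.PPLf

open Groth.Agent.Helper7.PPLb Groth.Agent.Helper7.PPLc Groth.Agent.Helper7.PPLd
  Groth.Agent.Helper7.PPLe

universe u
attribute [local instance] MvPolynomial.gradedAlgebra

/-- the data of the quadratic extension -/
structure Dat (K L : Type u) [Field K] [Field L] [Algebra K L] where
  θ : L
  θ' : L
  a : K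
  b : K
  c : K
  hsum : algebraMap K L a * (θ + θ') = - algebraMap K L b
  hprod : algebraMap K L a * (θ * θ') = algebraMap K L c
  ha : a ≠ 0
  hne : θ ≠ θ'
  σ : L →ₐ[K] L
  hσ : σ θ = θ'
  hσ' : σ θ' = θ

variable {K L : Type u} [Field K] [Field L] [Algebra K L] (D : Dat K L)

namespace Dat

/-- the quadratic form -/
noncomputable def q : MvPolynomial (Fin 2) K := qq D.a D.b D.c

theorem q_mem : D.q ∈ MvPolynomial.homogeneousSubmodule (Fin 2) K 2 := qq_mem _ _ _

/-- the coordinate ring -/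
abbrev A : Type u :=
  HomogeneousLocalization.Away (MvPolynomial.homogeneousSubmodule (Fin 2) K) D.q

/-- the embedding -/
noncomputable def io : D.A →+* L[T;T⁻¹] :=
  PPLe.io D.θ D.θ' D.a D.b D.c D.hsum D.hprod D.ha D.hne

/-- generators -/
noncomputable def u : D.A := uu D.q D.q_mem
/-- generators -/
noncomputable def v : D.A := vv D.q D.q_mem
/-- generators -/
noncomputable def w : D.A := ww D.q D.q_mem

/-- the unit `a δ² s` -/
noncomputable def E : L[T;T⁻¹] := C (ee D.θ D.θ' D.a) * T 1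

theorem isUnit_E : IsUnit D.E := isUnit_C_mul_T (ee_ne_zero D.θ D.θ' D.a D.ha D.hne) 1

theorem io_injective : Function.Injective D.io := PPLe.io_injective _ _ _ _ _ _ _ _ _

theorem io_smul (k : K) (z : D.A) : D.io (k • z) = C (algebraMap K L k) * D.io z :=
  PPLe.io_smul _ _ _ _ _ _ _ _ _ k z

theorem io_u : D.io D.u * D.E = (C D.θ' * T 1 - C D.θ) ^ 2 := PPLe.io_u _ _ _ _ _ _ _ _ _
theorem io_v : D.io D.v * D.E = (C D.θ' * T 1 - C D.θ) * (T 1 - 1) := PPLe.io_v _ _ _ _ _ _ _ _ _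
theorem io_w : D.io D.w * D.E = (T 1 - 1) ^ 2 := PPLe.io_w _ _ _ _ _ _ _ _ _

theorem hB : (C (algebraMap K L D.a) : L[T;T⁻¹]) * (C D.θ + C D.θ') = - C (algebraMap K L D.b) :=
  PPLe.hB _ _ _ _ D.hsum

theorem hC : (C (algebraMap K L D.a) : L[T;T⁻¹]) * (C D.θ * C D.θ') = C (algebraMap K L D.c) :=
  PPLe.hC _ _ _ _ D.hprod

theorem E_eq : D.E = C (algebraMap K L D.a) * (C D.θ' - C D.θ) ^ 2 * T 1 := by
  unfold E ee
  rw [map_mul, map_pow, map_sub]

theorem ringHom_ext {S : Type*} [Ring S] (φ ψ : D.A →+* S)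
    (hK : ∀ k : K, φ (k • (1 : D.A)) = ψ (k • (1 : D.A)))
    (hu : φ D.u = ψ D.u) (hv : φ D.v = ψ D.v) (hw : φ D.w = ψ D.w) : φ = ψ :=
  PPLc.ringHom_ext D.q D.q_mem φ ψ hK hu hv hw

/-- the linear relation -/
theorem rel1 : D.a • D.u + D.b • D.v + D.c • D.w = 1 := by
  apply D.io_injective
  apply D.isUnit_E.mul_left_injective
  simp only [map_add, map_one, add_mul, D.io_smul, mul_assoc, D.io_u, D.io_v, D.io_w, one_mul]
  rw [D.E_eq]
  linear_combination ((C D.θ' * T 1 - C D.θ) * (T 1 - 1 : L[T;T⁻¹])) * D.hB -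
    ((T 1 - 1 : L[T;T⁻¹]) ^ 2) * D.hC

/-- the quadratic relation -/
theorem rel2 : D.u * D.w = D.v * D.v := by
  apply D.io_injective
  apply (D.isUnit_E.mul D.isUnit_E).mul_left_injective
  simp only [map_mul]
  calc D.io D.u * D.io D.w * (D.E * D.E) = (D.io D.u * D.E) * (D.io D.w * D.E) := by ring
    _ = (D.io D.v * D.E) * (D.io D.v * D.E) := by rw [D.io_u, D.io_v, D.io_w]; ring
    _ = D.io D.v * D.io D.v * (D.E * D.E) := by ring

/-- `s` in terms of the generators -/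
theorem T_one_eq : (T 1 : L[T;T⁻¹]) = C (algebraMap K L D.a) *
    (D.io D.u - 2 * C D.θ * D.io D.v + C D.θ ^ 2 * D.io D.w) := by
  apply D.isUnit_E.mul_left_injective
  simp only [mul_assoc, sub_mul, add_mul, D.io_u, D.io_v, D.io_w]
  rw [D.E_eq]
  ring

/-- `s⁻¹` in terms of the generators -/
theorem T_neg_one_eq : (T (-1) : L[T;T⁻¹]) = C (algebraMap K L D.a) *
    (D.io D.u - 2 * C D.θ' * D.io D.v + C D.θ' ^ 2 * D.io D.w) := by
  apply D.isUnit_E.mul_left_injective
  simp only [mul_assoc, sub_mul, add_mul, D.io_u, D.io_v, D.io_w]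
  rw [D.E_eq]
  have h : (T (-1) : L[T;T⁻¹]) * T 1 = 1 := by rw [← T_add]; simp
  linear_combination (C (algebraMap K L D.a) * (C D.θ' - C D.θ) ^ 2) * h

end Dat

end Groth.Agent.Helper7.PPLf
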