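import Mathlib
import Groth.Agent.Helper7.PPLf
set_option autoImplicit false
open LaurentPolynomial

namespace Groth.Agent.Helper7.PPLf

open Groth.Agent.Helper7.PPLb Groth.Agent.Helper7.PPLc Groth.Agent.Helper7.PPLd
  Groth.Agent.Helper7.PPLe

universe u
attribute [local instance] MvPolynomial.gradedAlgebra

variable {K L : Type u} [Field K] [Field L] [Algebra K L] (D : Dat K L)

namespace Dat

/-- `K`-linearity of a ring hom into the Laurent polynomials -/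
def IsKLin (γ : D.A →+* L[T;T⁻¹]) : Prop :=
  ∀ (k : K) (z : D.A), γ (k • z) = C (algebraMap K L k) * γ z

theorem isKLin_io : D.IsKLin D.io := D.io_smul

variable (γ : D.A →+* L[T;T⁻¹])

/-- the image of `s` -/
noncomputable def Sp : L[T;T⁻¹] :=
  C (algebraMap K L D.a) * (γ D.u - 2 * C D.θ * γ D.v + C D.θ ^ 2 * γ D.w)

/-- the image of `s⁻¹` -/
noncomputable def Sm : L[T;T⁻¹] :=
  C (algebraMap K L D.a) * (γ D.u - 2 * C D.θ' * γ D.v + C D.θ' ^ 2 * γ D.w)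

theorem Sp_io : D.Sp D.io = T 1 := D.T_one_eq.symm
theorem Sm_io : D.Sm D.io = T (-1) := D.T_neg_one_eq.symm

variable {γ} (hγ : D.IsKLin γ)

include hγ in
theorem rel1γ : C (algebraMap K L D.a) * γ D.u - C (algebraMap K L D.a) * (C D.θ + C D.θ') * γ D.v +
    C (algebraMap K L D.a) * (C D.θ * C D.θ') * γ D.w = 1 := by
  have h := congrArg γ D.rel1
  rw [map_add, map_add, hγ, hγ, hγ, map_one] at h
  rw [D.hB, D.hC]
  linear_combination h

theorem rel2γ : γ D.u * γ D.w = γ D.v * γ D.v := by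
  rw [← map_mul, ← map_mul, D.rel2]

include hγ in
theorem Sp_mul_Sm : D.Sp γ * D.Sm γ = 1 :=
  alg_a _ _ _ _ _ _ (D.rel1γ hγ) D.rel2γ

/-- the image of `s` as a unit -/
noncomputable def SpU : (L[T;T⁻¹])ˣ :=
  ⟨D.Sp γ, D.Sm γ, D.Sp_mul_Sm hγ, by rw [mul_comm]; exact D.Sp_mul_Sm hγ⟩

/-- the extension to the Laurent polynomial ring -/
noncomputable def gL : L[T;T⁻¹] →+* L[T;T⁻¹] :=
  LaurentPolynomial.eval₂ (C : L →+* L[T;T⁻¹]) (D.SpU hγ)

@[simp] theorem gL_C (l : L) : D.gL hγ (C l) = C l := eval₂_C _ _ _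

theorem gL_T_one : D.gL hγ (T 1) = D.Sp γ := by
  unfold gL
  rw [eval₂_T, zpow_one]
  rfl

theorem gL_T_neg_one : D.gL hγ (T (-1)) = D.Sm γ := by
  unfold gL
  rw [eval₂_T, zpow_neg, zpow_one]
  rfl

theorem gL_E : D.gL hγ D.E = C (algebraMap K L D.a) * (C D.θ' - C D.θ) ^ 2 * D.Sp γ := by
  rw [D.E_eq]
  simp only [map_mul, map_pow, map_sub, gL_C, D.gL_T_one]

theorem isUnit_Aδ : IsUnit (C (algebraMap K L D.a) * (C D.θ' - C D.θ) ^ 2 : L[T;T⁻¹]) := by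
  have := (isUnit_iff_ne_zero.mpr (ee_ne_zero D.θ D.θ' D.a D.ha D.hne)).map (C : L →+* L[T;T⁻¹])
  unfold ee at this
  rwa [map_mul, map_pow, map_sub] at this

include hγ in
theorem cancel_aux {z y P : L[T;T⁻¹]}
    (h1 : z * (C (algebraMap K L D.a) * (C D.θ' - C D.θ) ^ 2 * D.Sp γ) = P)
    (h2 : P * D.Sm γ = C (algebraMap K L D.a) * (C D.θ' - C D.θ) ^ 2 * y) : z = y := by
  apply D.isUnit_Aδ.mul_left_injective
  have h3 := D.Sp_mul_Sm hγ
  calc z * (C (algebraMap K L D.a) * (C D.θ' - C D.θ) ^ 2)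
      = z * (C (algebraMap K L D.a) * (C D.θ' - C D.θ) ^ 2 * D.Sp γ) * D.Sm γ := by
        linear_combination (-(z * (C (algebraMap K L D.a) * (C D.θ' - C D.θ) ^ 2))) * h3
    _ = y * (C (algebraMap K L D.a) * (C D.θ' - C D.θ) ^ 2) := by rw [h1, h2]; ring

theorem gL_comp_io : (D.gL hγ).comp D.io = γ := by
  have ha := D.Sp_mul_Sm hγ
  have h1 := D.rel1γ hγ
  apply D.ringHom_ext
  · intro k
    rw [RingHom.comp_apply, D.io_smul, hγ, map_one, map_one, mul_one, gL_C]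
  · rw [RingHom.comp_apply]
    refine D.cancel_aux hγ (P := (C D.θ' * D.Sp γ - C D.θ) ^ 2) ?_ ?_
    · rw [← D.gL_E hγ, ← map_mul, D.io_u]
      simp only [map_pow, map_sub, map_mul, gL_C, D.gL_T_one]
    · exact alg_b _ _ _ _ _ _ _ _ rfl rfl ha h1
  · rw [RingHom.comp_apply]
    refine D.cancel_aux hγ (P := (C D.θ' * D.Sp γ - C D.θ) * (D.Sp γ - 1)) ?_ ?_
    · rw [← D.gL_E hγ, ← map_mul, D.io_v]
      simp only [map_sub, map_mul, map_one, gL_C, D.gL_T_one]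
    · exact alg_c _ _ _ _ _ _ _ _ rfl rfl ha h1
  · rw [RingHom.comp_apply]
    refine D.cancel_aux hγ (P := (D.Sp γ - 1) ^ 2) ?_ ?_
    · rw [← D.gL_E hγ, ← map_mul, D.io_w]
      simp only [map_pow, map_sub, map_one, D.gL_T_one]
    · exact alg_d _ _ _ _ _ _ _ _ rfl rfl ha h1

end Dat

end Groth.Agent.Helper7.PPLf
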