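import Mathlib
import Groth.Agent.Helper7.PPLa
set_option autoImplicit false
open LaurentPolynomial

namespace Groth.Agent.Helper7.PPLh

variable {L : Type*} [Field L]

/-- a constant-preserving endomorphism sending `T` to the monomial `c T^n` -/
def IsMon (Φ : L[T;T⁻¹] →+* L[T;T⁻¹]) (c : L) (n : ℤ) : Prop :=
  (∀ l, Φ (C l) = C l) ∧ c ≠ 0 ∧ Φ (T 1) = C c * T n

theorem C_zpow_mul_T_mul (c : L) (hc : c ≠ 0) (n m m' : ℤ) :
    (C (c ^ m) * T (n * m) : L[T;T⁻¹]) * (C (c ^ m') * T (n * m')) =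
      C (c ^ (m + m')) * T (n * (m + m')) := by
  rw [zpow_add₀ hc, mul_add, T_add, map_mul]
  ring

theorem IsMon.map_T_nat {Φ : L[T;T⁻¹] →+* L[T;T⁻¹]} {c : L} {n : ℤ} (h : IsMon Φ c n) (m : ℕ) :
    Φ (T m) = C (c ^ (m : ℤ)) * T (n * m) := by
  induction m with
  | zero => simp
  | succ m ih =>
    have : (T ((m + 1 : ℕ) : ℤ) : L[T;T⁻¹]) = T m * T 1 := by rw [← T_add]; simp
    rw [this, map_mul, ih, h.2.2]
    have := C_zpow_mul_T_mul c h.2.1 n m 1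
    rw [zpow_one, mul_one] at this
    rw [this]
    push_cast
    rfl

theorem IsMon.map_T {Φ : L[T;T⁻¹] →+* L[T;T⁻¹]} {c : L} {n : ℤ} (h : IsMon Φ c n) (m : ℤ) :
    Φ (T m) = C (c ^ m) * T (n * m) := by
  rcases Int.le_total 0 m with hm | hm
  · lift m to ℕ using hm
    exact h.map_T_nat m
  · obtain ⟨m', rfl⟩ := Int.exists_eq_neg_ofNat hm
    have h1 : Φ (T (-(m' : ℤ))) * Φ (T (m' : ℤ)) = 1 := by
      rw [← map_mul, ← T_add]; simp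
    have h2 : (C (c ^ (-(m' : ℤ))) * T (n * (-(m' : ℤ))) : L[T;T⁻¹]) * Φ (T (m' : ℤ)) = 1 := by
      rw [h.map_T_nat, C_zpow_mul_T_mul c h.2.1]
      simp
    calc Φ (T (-(m' : ℤ))) = Φ (T (-(m' : ℤ))) * ((C (c ^ (-(m' : ℤ))) * T (n * (-(m' : ℤ)))) *
          Φ (T (m' : ℤ))) := by rw [h2, mul_one]
      _ = (Φ (T (-(m' : ℤ))) * Φ (T (m' : ℤ))) * (C (c ^ (-(m' : ℤ))) * T (n * (-(m' : ℤ)))) := by
          ring
      _ = _ := by rw [h1, one_mul]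

theorem IsMon.comp {Φ Ψ : L[T;T⁻¹] →+* L[T;T⁻¹]} {c c' : L} {n n' : ℤ}
    (h : IsMon Φ c n) (h' : IsMon Ψ c' n') : IsMon (Φ.comp Ψ) (c' * c ^ n') (n * n') := by
  refine ⟨fun l => by rw [RingHom.comp_apply, h'.1, h.1],
    mul_ne_zero h'.2.1 (zpow_ne_zero _ h.2.1), ?_⟩
  rw [RingHom.comp_apply, h'.2.2, map_mul, h.1, h.map_T, map_mul, mul_assoc]

theorem IsMon.unique {Φ : L[T;T⁻¹] →+* L[T;T⁻¹]} {c c' : L} {n n' : ℤ}
    (h : IsMon Φ c n) (h' : IsMon Φ c' n') : c = c' ∧ n = n' :=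
  PPLa.C_mul_T_injective h.2.1 (h.2.2.symm.trans h'.2.2)

theorem IsMon.ext {Φ Ψ : L[T;T⁻¹] →+* L[T;T⁻¹]} {c : L} {n : ℤ}
    (h : IsMon Φ c n) (h' : IsMon Ψ c n) : Φ = Ψ := by
  apply PPLa.ringHom_ext
  · intro l; rw [h.1, h'.1]
  · rw [h.2.2, h'.2.2]
  · rw [h.map_T, h'.map_T]

theorem isMon_id : IsMon (RingHom.id L[T;T⁻¹]) 1 1 :=
  ⟨fun _ => rfl, one_ne_zero, by simp⟩

theorem exists_isMon {Φ : L[T;T⁻¹] →+* L[T;T⁻¹]} (hC : ∀ l, Φ (C l) = C l) :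
    ∃ c n, IsMon Φ c n := by
  have hu : IsUnit (Φ (T 1)) := (isUnit_T 1).map Φ
  obtain ⟨c, n, hc, h⟩ := PPLa.exists_of_isUnit hu
  exact ⟨c, n, hC, hc, h⟩

end Groth.Agent.Helper7.PPLh
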