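import Mathlib
import Groth.Agent.Helper7.PPLg
import Groth.Agent.Helper7.PPLh
set_option autoImplicit false
open LaurentPolynomial

namespace Groth.Agent.Helper7.PPLf

open Groth.Agent.Helper7.PPLh

universe u
attribute [local instance] MvPolynomial.gradedAlgebra

variable {K L : Type u} [Field K] [Field L] [Algebra K L] (D : Dat K L)

namespace Dat

/-- `K`-linear ring automorphisms -/
def IsKAut (g : D.A ≃+* D.A) : Prop := ∀ (k : K) (z : D.A), g (k • z) = k • g z

theorem isKAut_one : D.IsKAut 1 := fun _ _ => rfl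

variable {D}

theorem IsKAut.mul {g h : D.A ≃+* D.A} (hg : D.IsKAut g) (hh : D.IsKAut h) : D.IsKAut (g * h) := by
  intro k z
  change g (h (k • z)) = k • g (h z)
  rw [hh, hg]

theorem IsKAut.isKLin {g : D.A ≃+* D.A} (hg : D.IsKAut g) :
    D.IsKLin (D.io.comp (g : D.A →+* D.A)) := by
  intro k z
  rw [RingHom.comp_apply, RingHom.comp_apply, RingEquiv.coe_toRingHom, hg, D.io_smul]

/-- the extension of an automorphism to the Laurent polynomial ring -/
noncomputable def GLa {g : D.A ≃+* D.A} (hg : D.IsKAut g) : L[T;T⁻¹] →+* L[T;T⁻¹] :=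
  D.gL hg.isKLin

theorem GLa_C {g : D.A ≃+* D.A} (hg : D.IsKAut g) (l : L) : GLa hg (C l) = C l := D.gL_C _ l

theorem GLa_io {g : D.A ≃+* D.A} (hg : D.IsKAut g) (z : D.A) : GLa hg (D.io z) = D.io (g z) := by
  have := congrArg (fun φ => φ z) (D.gL_comp_io hg.isKLin)
  exact this

theorem GLa_unique {g : D.A ≃+* D.A} (hg : D.IsKAut g) (Φ : L[T;T⁻¹] →+* L[T;T⁻¹])
    (hΦC : ∀ l, Φ (C l) = C l) (hΦ : ∀ z, Φ (D.io z) = D.io (g z)) : Φ = GLa hg := by
  apply PPLa.ringHom_ext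
  · intro l; rw [hΦC, GLa_C]
  · rw [D.T_one_eq]
    simp only [map_mul, map_sub, map_add, map_pow, map_ofNat, hΦC, GLa_C, hΦ, GLa_io]
  · rw [D.T_neg_one_eq]
    simp only [map_mul, map_sub, map_add, map_pow, map_ofNat, hΦC, GLa_C, hΦ, GLa_io]

theorem GLa_mul {g h : D.A ≃+* D.A} (hg : D.IsKAut g) (hh : D.IsKAut h) :
    GLa (hg.mul hh) = (GLa hg).comp (GLa hh) := by
  symm
  apply GLa_unique
  · intro l; rw [RingHom.comp_apply, GLa_C, GLa_C]
  · intro z
    rw [RingHom.comp_apply, GLa_io, GLa_io]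
    rfl

theorem GLa_one : GLa D.isKAut_one = RingHom.id _ := by
  symm
  apply GLa_unique
  · intro l; rfl
  · intro z; rfl

theorem GLa_congr {g h : D.A ≃+* D.A} (hg : D.IsKAut g) (hh : D.IsKAut h) (e : g = h) :
    GLa hg = GLa hh := by
  subst e; rfl

theorem eq_of_GLa_eq {g h : D.A ≃+* D.A} (hg : D.IsKAut g) (hh : D.IsKAut h)
    (e : GLa hg = GLa hh) : g = h := by
  apply RingEquiv.ext
  intro z
  apply D.io_injective
  rw [← GLa_io hg, ← GLa_io hh, e]

theorem exists_isMon_GLa {g : D.A ≃+* D.A} (hg : D.IsKAut g) : ∃ c n, IsMon (GLa hg) c n :=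
  exists_isMon (GLa_C hg)

end Dat

end Groth.Agent.Helper7.PPLf
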