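import Mathlib
import Groth.Agent.Helper7.PPLi
set_option autoImplicit false
open LaurentPolynomial

namespace Groth.Agent.Helper7.PPLf

open Groth.Agent.Helper7.PPLh Groth.Agent.Helper7.PPLe

universe u
attribute [local instance] MvPolynomial.gradedAlgebra

theorem cancel2 {R : Type*} [CommRing R] (y z M s s' P P' : R) (hs : s * s' = 1) (hM : IsUnit M)
    (hy : y * (M * s) = P) (hz : z * (M * s') = P') (hP : P * s' ^ 2 = P') : z = y := by
  have hs' : IsUnit s' := IsUnit.of_mul_eq_one _ (by rw [mul_comm]; exact hs)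
  apply (hM.mul hs').mul_left_injective
  change z * (M * s') = y * (M * s')
  rw [hz, ← hP, ← hy]
  linear_combination (y * M * s') * hs

variable {K L : Type u} [Field K] [Field L] [Algebra K L] (D : Dat K L)

namespace Dat

theorem T_mul_T_neg : (T 1 : L[T;T⁻¹]) * T (-1) = 1 := by rw [← T_add]; simp

/-- the unit `T⁻¹` -/
noncomputable def TinvU : (L[T;T⁻¹])ˣ :=
  ⟨T (-1), T 1, by rw [mul_comm]; exact T_mul_T_neg, T_mul_T_neg⟩

/-- the semilinear conjugation `s ↦ s⁻¹` -/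
noncomputable def tau : L[T;T⁻¹] →+* L[T;T⁻¹] :=
  LaurentPolynomial.eval₂ ((C : L →+* L[T;T⁻¹]).comp (D.σ : L →+* L)) TinvU

@[simp] theorem tau_C (l : L) : D.tau (C l) = C (D.σ l) := by
  unfold tau
  rw [eval₂_C]
  rfl

@[simp] theorem tau_T_one : D.tau (T 1) = T (-1) := by
  unfold tau
  rw [eval₂_T, zpow_one]
  rfl

theorem tau_algebraMap (k : K) : D.tau (C (algebraMap K L k)) = C (algebraMap K L k) := by
  rw [tau_C, AlgHom.commutes]

theorem sigma_ee : D.σ (ee D.θ D.θ' D.a) = ee D.θ D.θ' D.a := by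
  unfold ee
  rw [map_mul, map_pow, map_sub, D.hσ, D.hσ', AlgHom.commutes]
  ring

theorem ee_ne_zero : ee D.θ D.θ' D.a ≠ 0 := PPLe.ee_ne_zero _ _ _ D.ha D.hne

theorem io_u' : D.io D.u * (C (ee D.θ D.θ' D.a) * T 1) = (C D.θ' * T 1 - C D.θ) ^ 2 := D.io_u
theorem io_v' : D.io D.v * (C (ee D.θ D.θ' D.a) * T 1) = (C D.θ' * T 1 - C D.θ) * (T 1 - 1) := D.io_v
theorem io_w' : D.io D.w * (C (ee D.θ D.θ' D.a) * T 1) = (T 1 - 1) ^ 2 := D.io_w

theorem tau_io (z : D.A) : D.tau (D.io z) = D.io z := by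
  have hs : (T 1 : L[T;T⁻¹]) * T (-1) = 1 := T_mul_T_neg
  have hM : IsUnit (C (ee D.θ D.θ' D.a) : L[T;T⁻¹]) :=
    (isUnit_iff_ne_zero.mpr D.ee_ne_zero).map C
  have key : D.tau.comp D.io = D.io := by
    apply D.ringHom_ext
    · intro k
      rw [RingHom.comp_apply, D.io_smul, map_one, mul_one, D.tau_algebraMap]
    · rw [RingHom.comp_apply]
      refine cancel2 _ _ _ _ _ _ ((C D.θ * T (-1) - C D.θ') ^ 2) hs hM D.io_u' ?_ ?_
      · have := congrArg D.tau D.io_u'
        simp only [map_mul, map_pow, map_sub, tau_C, tau_T_one, D.sigma_ee, D.hσ, D.hσ'] at this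
        exact this
      · linear_combination (C D.θ' * (C D.θ' * T 1 * T (-1) - 2 * C D.θ * T (-1) + C D.θ')) * hs
    · rw [RingHom.comp_apply]
      refine cancel2 _ _ _ _ _ _ ((C D.θ * T (-1) - C D.θ') * (T (-1) - 1)) hs hM D.io_v' ?_ ?_
      · have := congrArg D.tau D.io_v'
        simp only [map_mul, map_sub, map_one, tau_C, tau_T_one, D.sigma_ee, D.hσ, D.hσ'] at this
        exact this
      · linear_combination (C D.θ' * T 1 * T (-1) - C D.θ * T (-1) - C D.θ' * T (-1)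
          + C D.θ') * hs
    · rw [RingHom.comp_apply]
      refine cancel2 _ _ _ _ _ _ ((T (-1) - 1) ^ 2) hs hM D.io_w' ?_ ?_
      · have := congrArg D.tau D.io_w'
        simp only [map_mul, map_pow, map_sub, map_one, tau_C, tau_T_one, D.sigma_ee] at this
        exact this
      · linear_combination (T 1 * T (-1) - 2 * T (-1) + 1 : L[T;T⁻¹]) * hs
  exact congrArg (fun φ => φ z) key


variable {D}

theorem T_neg_one_sq_ne_one : (T (-1) : L[T;T⁻¹]) ^ 2 ≠ 1 := by
  intro h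
  rw [T_pow] at h
  have h1 : (C (1 : L) * T (((2 : ℕ) : ℤ) * -1) : L[T;T⁻¹]) = C 1 * T 0 := by
    rw [h, T_zero, map_one, mul_one]
  have := (PPLa.C_mul_T_injective one_ne_zero h1).2
  norm_num at this

/-- rationality: a monomial automorphism of degree one with rational coefficient has `c² = 1` -/
theorem sq_eq_one_of_isMon {g : D.A ≃+* D.A} (hg : D.IsKAut g) {c : L}
    (hmon : IsMon (GLa hg) c 1) (hσc : D.σ c = c) : c * c = 1 := by
  have hs : (T 1 : L[T;T⁻¹]) * T (-1) = 1 := T_mul_T_neg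
  have h1 := congrArg (GLa hg) D.io_w'
  simp only [map_mul, map_pow, map_sub, map_one, GLa_C, GLa_io, hmon.2.2] at h1
  have h2 := congrArg D.tau h1
  simp only [map_mul, map_pow, map_sub, map_one, tau_C, tau_T_one, D.sigma_ee, hσc, D.tau_io] at h2
  have h3 : ((C c : L[T;T⁻¹]) ^ 2 - 1) * (1 - T (-1) ^ 2) = 0 := by
    linear_combination (-(T (-1) : L[T;T⁻¹]) ^ 2) * h1 + h2 +
      (D.io (g D.w) * C (ee D.θ D.θ' D.a) * C c * T (-1) -
        C c * (C c * T 1 * T (-1) + C c - 2 * T (-1))) * hs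
  rcases mul_eq_zero.mp h3 with h4 | h4
  · have h5 : (C (c ^ 2) : L[T;T⁻¹]) = C 1 := by
      rw [map_pow, map_one]; exact sub_eq_zero.mp h4
    have h6 := congrArg (fun f : L[T;T⁻¹] => f.coeff 0) h5
    simp only [C_apply, if_true] at h6
    rw [← h6]; ring
  · exact absurd (sub_eq_zero.mp h4).symm T_neg_one_sq_ne_one

end Dat

end Groth.Agent.Helper7.PPLf
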