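import Mathlib
import Groth.Agent.Helper7.PPLj
set_option autoImplicit false
open LaurentPolynomial

namespace Groth.Agent.Helper7.PPLf

open Groth.Agent.Helper7.PPLh Groth.Agent.Helper7.PPLe Groth.Agent.Helper7.PPLb

universe u
attribute [local instance] MvPolynomial.gradedAlgebra

variable {K L : Type u} [Field K] [Field L] [Algebra K L]

theorem mem_range_of_pow_eq_one
    (hK : ∀ n : ℕ, 0 < n → (Polynomial.X ^ n - 1 : Polynomial K).Splits) {m : ℕ} (hm : 0 < m)
    {x : L} (hx : x ^ m = 1) : ∃ k : K, algebraMap K L k = x := by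
  have h1 := (hK m hm).roots_map_of_injective (algebraMap K L).injective
  have h2 : ((Polynomial.X ^ m - 1 : Polynomial K).map (algebraMap K L)) =
      (Polynomial.X ^ m - 1 : Polynomial L) := by simp
  have h3 : x ∈ ((Polynomial.X ^ m - 1 : Polynomial K).map (algebraMap K L)).roots := by
    have hne : (Polynomial.X ^ m - 1 : Polynomial L) ≠ 0 := by
      have := Polynomial.X_pow_sub_C_ne_zero hm (1 : L)
      rwa [map_one] at this
    rw [h2, Polynomial.mem_roots hne]
    simp [hx]
  rw [h1, Multiset.mem_map] at h3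
  obtain ⟨k, -, hk⟩ := h3
  exact ⟨k, hk⟩

variable {D : Dat K L}

theorem main_D (hK : ∀ n : ℕ, 0 < n → (Polynomial.X ^ n - 1 : Polynomial K).Splits)
    (G : Subgroup (D.A ≃+* D.A)) [Finite G] (hG : ∀ g ∈ G, D.IsKAut g) :
    (∀ g ∈ G, g ^ 2 = 1) ∧ Nat.card G ≤ 4 := by
  classical
  -- the invariants
  have hex : ∀ g : G, ∃ cn : L × ℤ, IsMon (Dat.GLa (hG g.1 g.2)) cn.1 cn.2 := by
    intro g
    obtain ⟨c, n, h⟩ := Dat.exists_isMon_GLa (hG g.1 g.2)
    exact ⟨(c, n), h⟩
  choose cn hcn using hex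
  have hc0 : ∀ g : G, (cn g).1 ≠ 0 := fun g => (hcn g).2.1
  -- multiplicativity
  have hmul : ∀ g h : G, (cn (g * h)).1 = (cn h).1 * (cn g).1 ^ (cn h).2 ∧
      (cn (g * h)).2 = (cn g).2 * (cn h).2 := by
    intro g h
    have h1 : IsMon (Dat.GLa (hG (g * h).1 (g * h).2)) ((cn h).1 * (cn g).1 ^ (cn h).2)
        ((cn g).2 * (cn h).2) := by
      have := (hcn g).comp (hcn h)
      rw [← Dat.GLa_mul] at this
      exact this
    exact (hcn (g * h)).unique h1
  have hone : (cn 1).1 = 1 ∧ (cn 1).2 = 1 := by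
    have h1 : IsMon (Dat.GLa (hG (1 : G).1 (1 : G).2)) 1 1 := by
      have := isMon_id (L := L)
      rw [← Dat.GLa_one (D := D)] at this
      exact this
    exact (hcn 1).unique h1
  -- injectivity
  have hinj : ∀ g h : G, cn g = cn h → g = h := by
    intro g h e
    have h1 := hcn g
    rw [e] at h1
    have := Dat.eq_of_GLa_eq _ _ (h1.ext (hcn h))
    exact Subtype.ext this
  -- degrees are ±1
  have hn : ∀ g : G, (cn g).2 = 1 ∨ (cn g).2 = -1 := by
    intro g
    have := (hmul g g⁻¹).2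
    rw [mul_inv_cancel, hone.2] at this
    exact Int.eq_one_or_neg_one_of_mul_eq_one this.symm
  -- powers
  have hpow : ∀ g : G, (cn g).2 = 1 → ∀ m : ℕ, (cn (g ^ m)).1 = (cn g).1 ^ m ∧ (cn (g ^ m)).2 = 1 := by
    intro g hg m
    induction m with
    | zero => simpa using hone
    | succ m ih =>
      have := hmul (g ^ m) g
      rw [← pow_succ] at this
      rw [this.1, this.2, ih.1, ih.2, hg, zpow_one, pow_succ, mul_comm]
      exact ⟨rfl, rfl⟩
  -- rationality
  have hrat : ∀ g : G, (cn g).2 = 1 → (cn g).1 * (cn g).1 = 1 := by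
    intro g hg
    have hm : 0 < orderOf g := orderOf_pos g
    have h1 := (hpow g hg (orderOf g)).1
    rw [pow_orderOf_eq_one, hone.1] at h1
    obtain ⟨k, hk⟩ := mem_range_of_pow_eq_one (L := L) hK hm h1.symm
    have h2 := hcn g
    rw [hg] at h2
    refine Dat.sq_eq_one_of_isMon _ h2 ?_
    rw [← hk, AlgHom.commutes]
  -- squares
  have hsq : ∀ g : G, g * g = 1 := by
    intro g
    apply hinj
    have h1 := hmul g g
    rcases hn g with h | h
    · refine Prod.ext ?_ ?_
      · rw [h1.1, h, zpow_one, hrat g h, hone.1]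
      · rw [h1.2, h, hone.2]; rfl
    · refine Prod.ext ?_ ?_
      · rw [h1.1, h, zpow_neg, zpow_one, mul_inv_cancel₀ (hc0 g), hone.1]
      · rw [h1.2, h, hone.2]; rfl
  refine ⟨?_, ?_⟩
  · intro g hg
    have := congrArg Subtype.val (hsq ⟨g, hg⟩)
    rw [pow_two]
    exact this
  · -- cardinality
    have hval : ∀ g : G, (cn g).2 = 1 → (cn g).1 = 1 ∨ (cn g).1 = -1 :=
      fun g hg => mul_self_eq_one_iff.mp (hrat g hg)
    -- a reference element of degree -1
    obtain ⟨c₀, hc₀⟩ : ∃ c₀ : L, ∀ g : G, (cn g).2 = -1 → (cn g).1 = c₀ ∨ (cn g).1 = -c₀ := by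
      by_cases hex : ∃ g₀ : G, (cn g₀).2 = -1
      · obtain ⟨g₀, hg₀⟩ := hex
        refine ⟨(cn g₀).1, fun g hg => ?_⟩
        have h1 := hmul g₀ g
        have h2 : (cn (g₀ * g)).2 = 1 := by rw [h1.2, hg₀, hg]; norm_num
        have h3 := hval _ h2
        rw [h1.1, hg, zpow_neg, zpow_one] at h3
        rcases h3 with h3 | h3
        · left
          field_simp [hc0 g₀] at h3
          exact h3
        · right
          field_simp [hc0 g₀] at h3
          linear_combination h3
      · exact ⟨0, fun g hg => absurd ⟨g, hg⟩ hex⟩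
    have : Fintype G := Fintype.ofFinite G
    rw [Nat.card_eq_fintype_card, ← Finset.card_univ]
    let S : Finset (L × ℤ) := {((1 : L), (1 : ℤ)), ((-1 : L), (1 : ℤ)), (c₀, (-1 : ℤ)), (-c₀, (-1 : ℤ))}
    have hS : S.card ≤ 4 := Finset.card_le_four
    refine le_trans (Finset.card_le_card_of_injOn cn ?_ ?_) hS
    · intro g _
      simp only [S, Finset.coe_insert, Finset.coe_singleton, Set.mem_insert_iff,
        Set.mem_singleton_iff]
      rcases hn g with h | h
      · rcases hval g h with h' | h'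
        · left; exact Prod.ext h' h
        · right; left; exact Prod.ext h' h
      · rcases hc₀ g h with h' | h'
        · right; right; left; exact Prod.ext h' h
        · right; right; right; exact Prod.ext h' h
    · intro g _ h _ e
      exact hinj g h e

theorem final (K : Type u) [Field K]
    (hK : ∀ n : ℕ, 0 < n → (Polynomial.X ^ n - 1 : Polynomial K).Splits)
    (q : MvPolynomial (Fin 2) K) (hq : q.IsHomogeneous 2) (hirr : Irreducible q)
    (hdisc : (q.coeff (Finsupp.single 0 1 + Finsupp.single 1 1)) ^ 2 -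
      4 * q.coeff (Finsupp.single 0 2) * q.coeff (Finsupp.single 1 2) ≠ 0)
    (G : Subgroup (HomogeneousLocalization.Away (MvPolynomial.homogeneousSubmodule (Fin 2) K) q ≃+*
      HomogeneousLocalization.Away (MvPolynomial.homogeneousSubmodule (Fin 2) K) q)) [Finite G]
    (hG : ∀ g ∈ G, ∀ (k : K)
      (z : HomogeneousLocalization.Away (MvPolynomial.homogeneousSubmodule (Fin 2) K) q),
      g (k • z) = k • g z) :
    (∀ g ∈ G, g ^ 2 = 1) ∧ Nat.card G ≤ 4 := by
  obtain ⟨a, b, c, hqe, hd⟩ : ∃ a b c : K, q = qq a b c ∧ b ^ 2 - 4 * a * c ≠ 0 :=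
    ⟨_, _, _, eq_homogenize q hq, hdisc⟩
  subst hqe
  have hirr' : Irreducible ((q1 a b c).homogenize 2) := hirr
  have ha := lead_ne_zero a b c hirr'
  have hq1 := irreducible_q1 a b c hirr'
  obtain ⟨L, _, _, θ, θ', σ, hσ, hσ', hsum, hprod, hne⟩ := exists_quadExt a b c ha hq1 hd
  have hfin : Finite G := inferInstance
  exact @main_D K L _ _ _ ⟨θ, θ', a, b, c, hsum, hprod, ha, hne, σ, hσ, hσ'⟩ hK G hfin hG

end Groth.Agent.Helper7.PPLf
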