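import Mathlib
import Groth.Prelude.Def_PP16

set_option linter.style.haveILetI false
set_option linter.unusedSectionVars false
set_option autoImplicit false

universe u

namespace Groth.Agent.Helper7.PPSec

open TensorProduct

section one

variable (R SX : Type u) [CommRing R] [CommRing SX] [Algebra R SX] (σ : SX →ₐ[R] R)

/-- `δ c = 1 ⊗ c - c ⊗ 1` -/
def del (c : SX) : SX ⊗[R] SX := (1 : SX) ⊗ₜ[R] c - c ⊗ₜ[R] (1 : SX)

theorem del_mem (c : SX) : del R SX c ∈ KaehlerDifferential.ideal R SX :=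
  KaehlerDifferential.one_smul_sub_smul_one_mem_ideal R c

theorem del_add (c c' : SX) : del R SX (c + c') = del R SX c + del R SX c' := by
  unfold del
  rw [tmul_add, add_tmul]
  abel

theorem del_mul (a c : SX) :
    del R SX (a * c) = ((1 : SX) ⊗ₜ[R] a) * del R SX c + (c ⊗ₜ[R] (1 : SX)) * del R SX a := by
  unfold del
  simp only [mul_sub, Algebra.TensorProduct.tmul_mul_tmul, one_mul, mul_one]
  rw [mul_comm c a]
  abel

theorem del_algebraMap (r : R) : del R SX (algebraMap R SX r) = 0 := by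
  unfold del
  rw [Algebra.algebraMap_eq_smul_one, tmul_smul, smul_tmul', sub_self]

/-- the map `s ⊗ t ↦ σ(s) t` -/
noncomputable def mu : SX ⊗[R] SX →ₐ[R] SX :=
  Algebra.TensorProduct.lift ((Algebra.ofId R SX).comp σ) (AlgHom.id R SX)
    (fun _ _ => Commute.all _ _)

theorem mu_tmul (s t : SX) : mu R SX σ (s ⊗ₜ[R] t) = algebraMap R SX (σ s) * t := by
  simp [mu, Algebra.TensorProduct.lift_tmul, Algebra.ofId_apply]

theorem mu_del (c : SX) : mu R SX σ (del R SX c) = c - algebraMap R SX (σ c) := by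
  unfold del
  rw [map_sub, mu_tmul, mu_tmul, map_one, map_one, one_mul, mul_one]

theorem sub_mem_ker (c : SX) : c - algebraMap R SX (σ c) ∈ RingHom.ker σ.toRingHom := by
  rw [RingHom.mem_ker]
  change σ (c - algebraMap R SX (σ c)) = 0
  rw [map_sub, AlgHom.commutes, Algebra.algebraMap_self_apply, sub_self]

theorem map_mu_le :
    (KaehlerDifferential.ideal R SX).map (mu R SX σ) ≤ RingHom.ker σ.toRingHom := by
  rw [← KaehlerDifferential.span_range_eq_ideal, Ideal.map_span, Ideal.span_le]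
  rintro _ ⟨_, ⟨s, rfl⟩, rfl⟩
  have := mu_del R SX σ s
  unfold del at this
  rw [SetLike.mem_coe, this]
  exact sub_mem_ker R SX σ s

/-- the induced map `P^n → SX / I^(n+1)` -/
noncomputable def muBar (n : ℕ) :
    PP16.P n R SX →+* SX ⧸ (RingHom.ker σ.toRingHom) ^ (n + 1) :=
  Ideal.Quotient.lift _ ((Ideal.Quotient.mk _).comp (mu R SX σ).toRingHom) (fun x hx => by
    rw [RingHom.comp_apply, Ideal.Quotient.eq_zero_iff_mem]
    have h := Ideal.pow_right_mono (map_mu_le R SX σ) (n + 1)
    rw [← Ideal.map_pow] at h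
    exact h (Ideal.mem_map_of_mem _ hx))

theorem muBar_mk (n : ℕ) (x : SX ⊗[R] SX) :
    muBar R SX σ n (Ideal.Quotient.mk _ x) = Ideal.Quotient.mk _ (mu R SX σ x) := rfl

theorem muBar_smul_mem (n : ℕ) (y : PP16.P n R SX)
    (hy : y ∈ RingHom.ker σ.toRingHom • (PP16.augIdeal n R SX).restrictScalars SX) :
    muBar R SX σ n y = 0 := by
  refine Submodule.smul_induction_on hy ?_ ?_
  · intro r hr t ht
    rw [Algebra.smul_def, map_mul]
    have : algebraMap SX (PP16.P n R SX) r = Ideal.Quotient.mk _ (r ⊗ₜ[R] (1 : SX)) := rfl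
    rw [this, muBar_mk, mu_tmul, mul_one]
    have hr' : σ r = 0 := hr
    rw [hr', map_zero, map_zero, zero_mul]
  · intro x y hx hy
    rw [map_add, hx, hy, add_zero]


/-- the submodule `I • Δ` of `SX ⊗ SX` (left structure) -/
noncomputable def IΔ : Submodule SX (SX ⊗[R] SX) :=
  RingHom.ker σ.toRingHom • (KaehlerDifferential.ideal R SX).restrictScalars SX

theorem smul_mem_IΔ (r : SX) (hr : r ∈ RingHom.ker σ.toRingHom) (d : SX ⊗[R] SX)
    (hd : d ∈ KaehlerDifferential.ideal R SX) : (r ⊗ₜ[R] (1 : SX)) * d ∈ IΔ R SX σ := by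
  have : (r ⊗ₜ[R] (1 : SX)) * d = r • d := by
    rw [Algebra.smul_def]; rfl
  rw [this]
  exact Submodule.smul_mem_smul hr hd

theorem mul_mem_IΔ (z w : SX ⊗[R] SX) (hw : w ∈ IΔ R SX σ) : z * w ∈ IΔ R SX σ := by
  unfold IΔ at hw ⊢
  refine Submodule.smul_induction_on hw ?_ ?_
  · intro r hr d hd
    rw [mul_smul_comm]
    exact Submodule.smul_mem_smul hr ((KaehlerDifferential.ideal R SX).mul_mem_left z hd)
  · intro x y hx hy
    rw [mul_add]
    exact Submodule.add_mem _ hx hy

/-- `W m = I • Δ + Δ^m` -/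
noncomputable def W (m : ℕ) : Submodule SX (SX ⊗[R] SX) :=
  IΔ R SX σ ⊔ ((KaehlerDifferential.ideal R SX) ^ m).restrictScalars SX

theorem one_tmul_mul_mem_W (m : ℕ) (hm : 1 ≤ m) (a : SX) (ha : a ∈ RingHom.ker σ.toRingHom)
    (w : SX ⊗[R] SX) (hw : w ∈ W R SX σ m) :
    ((1 : SX) ⊗ₜ[R] a) * w ∈ W R SX σ (m + 1) := by
  unfold W at hw ⊢
  obtain ⟨u, hu, v, hv, rfl⟩ := Submodule.mem_sup.mp hw
  rw [mul_add]
  refine Submodule.add_mem _ (Submodule.mem_sup_left (mul_mem_IΔ R SX σ _ u hu)) ?_
  have hv' : v ∈ (KaehlerDifferential.ideal R SX) ^ m := hv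
  have h1 : ((1 : SX) ⊗ₜ[R] a) * v = (a ⊗ₜ[R] (1 : SX)) * v + del R SX a * v := by
    unfold del; ring
  rw [h1]
  refine Submodule.add_mem _ (Submodule.mem_sup_left ?_) (Submodule.mem_sup_right ?_)
  · exact smul_mem_IΔ R SX σ a ha v (Ideal.pow_le_self (by omega) hv')
  · change del R SX a * v ∈ (KaehlerDifferential.ideal R SX) ^ (m + 1)
    rw [pow_succ']
    exact Ideal.mul_mem_mul (del_mem R SX a) hv'

theorem del_mem_W (m : ℕ) (hm : 1 ≤ m) (c : SX) (hc : c ∈ (RingHom.ker σ.toRingHom) ^ m) :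
    del R SX c ∈ W R SX σ m := by
  induction m, hm using Nat.le_induction generalizing c with
  | base =>
    unfold W
    refine Submodule.mem_sup_right ?_
    change del R SX c ∈ (KaehlerDifferential.ideal R SX) ^ 1
    rw [pow_one]
    exact del_mem R SX c
  | succ m hm ih =>
    rw [pow_succ'] at hc
    refine Submodule.mul_induction_on hc ?_ ?_
    · intro a ha c' hc'
      rw [del_mul]
      refine Submodule.add_mem _ (one_tmul_mul_mem_W R SX σ m hm a ha _ (ih c' hc')) ?_
      unfold W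
      exact Submodule.mem_sup_left
        (smul_mem_IΔ R SX σ c' (Ideal.pow_le_self (by omega) hc') _ (del_mem R SX a))
    · intro x y hx hy
      rw [del_add]
      exact Submodule.add_mem _ hx hy

/-- the target submodule `I • T^n` of `P^n` -/
noncomputable def IT (n : ℕ) : Submodule SX (PP16.P n R SX) :=
  RingHom.ker σ.toRingHom • (PP16.augIdeal n R SX).restrictScalars SX

theorem mk_mem_IT_of_mem_W (n : ℕ) (w : SX ⊗[R] SX) (hw : w ∈ W R SX σ (n + 1)) :
    (Ideal.Quotient.mk ((KaehlerDifferential.ideal R SX) ^ (n + 1)) w : PP16.P n R SX) ∈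
      IT R SX σ n := by
  unfold W at hw
  obtain ⟨u, hu, v, hv, rfl⟩ := Submodule.mem_sup.mp hw
  have hv' : v ∈ (KaehlerDifferential.ideal R SX) ^ (n + 1) := hv
  rw [map_add, Ideal.Quotient.eq_zero_iff_mem.mpr hv', add_zero]
  unfold IΔ at hu
  refine Submodule.smul_induction_on hu ?_ ?_
  · intro r hr d hd
    have : (Ideal.Quotient.mk ((KaehlerDifferential.ideal R SX) ^ (n + 1)) (r • d) : PP16.P n R SX) =
        r • (Ideal.Quotient.mk ((KaehlerDifferential.ideal R SX) ^ (n + 1)) d : PP16.P n R SX) := rfl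
    rw [this]
    exact Submodule.smul_mem_smul hr (Ideal.mem_map_of_mem _ hd)
  · intro x y hx hy
    rw [map_add]
    exact Submodule.add_mem _ hx hy

theorem mul_mem_IT (n : ℕ) (q t : PP16.P n R SX) (ht : t ∈ IT R SX σ n) :
    q * t ∈ IT R SX σ n := by
  unfold IT at ht ⊢
  refine Submodule.smul_induction_on ht ?_ ?_
  · intro r hr d hd
    rw [mul_smul_comm]
    exact Submodule.smul_mem_smul hr ((PP16.augIdeal n R SX).mul_mem_left q hd)
  · intro x y hx hy
    rw [mul_add]
    exact Submodule.add_mem _ hx hy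

end one

section two

variable (R SY SX : Type u) [CommRing R] [CommRing SY] [CommRing SX] [Algebra R SY] [Algebra R SX]
  [Algebra SY SX] [IsScalarTower R SY SX] (σ : SX →ₐ[R] R)

theorem tensorMap_del (b : SY) :
    PP16.tensorMap R SY R SX (del R SY b) = del R SX (algebraMap SY SX b) := by
  unfold del
  rw [map_sub, PP16.tensorMap_tmul, PP16.tensorMap_tmul, map_one]

theorem main (n : ℕ) :
    (∀ y ∈ PP16.augIdeal n R SY,
        PP16.map n R SY R SX y ∈
          RingHom.ker σ.toRingHom • (PP16.augIdeal n R SX).restrictScalars SX) ↔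
      (∀ b : SY, algebraMap SY SX b ∈ RingHom.ker σ.toRingHom →
        algebraMap SY SX b ∈ RingHom.ker σ.toRingHom ^ (n + 1)) := by
  constructor
  · intro h b hb
    have hy : (Ideal.Quotient.mk _ (del R SY b) : PP16.P n R SY) ∈ PP16.augIdeal n R SY :=
      Ideal.mem_map_of_mem _ (del_mem R SY b)
    have h1 := muBar_smul_mem R SX σ n _ (h _ hy)
    rw [PP16.map_mk, tensorMap_del, muBar_mk, mu_del] at h1
    have hb' : σ (algebraMap SY SX b) = 0 := hb
    rw [hb', map_zero, sub_zero, Ideal.Quotient.eq_zero_iff_mem] at h1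
    exact h1
  · intro h y hy
    change PP16.map n R SY R SX y ∈ IT R SX σ n
    obtain ⟨x, hx, rfl⟩ := (Ideal.mem_map_iff_of_surjective _ Ideal.Quotient.mk_surjective).mp hy
    rw [PP16.map_mk]
    rw [← KaehlerDifferential.span_range_eq_ideal] at hx
    refine Submodule.span_induction ?_ ?_ ?_ ?_ hx
    · rintro _ ⟨b, rfl⟩
      change (Ideal.Quotient.mk _ (PP16.tensorMap R SY R SX (del R SY b)) : PP16.P n R SX) ∈ _
      rw [tensorMap_del]
      set c := algebraMap SY SX b with hc
      have h1 : del R SX c = del R SX (c - algebraMap R SX (σ c)) := by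
        have : c = (c - algebraMap R SX (σ c)) + algebraMap R SX (σ c) := by ring
        conv_lhs => rw [this, del_add, del_algebraMap, add_zero]
      have h2 : c - algebraMap R SX (σ c) = algebraMap SY SX (b - algebraMap R SY (σ c)) := by
        rw [map_sub, ← IsScalarTower.algebraMap_apply]
      have h3 : c - algebraMap R SX (σ c) ∈ RingHom.ker σ.toRingHom ^ (n + 1) := by
        rw [h2]
        apply h
        rw [← h2]
        exact sub_mem_ker R SX σ c
      rw [h1]
      exact mk_mem_IT_of_mem_W R SX σ n _ (del_mem_W R SX σ (n + 1) (by omega) _ h3)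
    · rw [map_zero, map_zero]
      exact Submodule.zero_mem _
    · intro u v _ _ hu hv
      rw [map_add, map_add]
      exact Submodule.add_mem _ hu hv
    · intro z u _ hu
      rw [smul_eq_mul, map_mul, map_mul]
      exact mul_mem_IT R SX σ n _ _ hu

end two

end Groth.Agent.Helper7.PPSec
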