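import Mathlib

set_option autoImplicit false

namespace Groth.Agent.Helper7.PPlane

universe u

open Matrix

section

variable {R : Type*} [CommRing R]

lemma det3 (u v w : Fin 3 → R) :
    Matrix.det (Matrix.of ![u, v, w]) =
      u 0 * v 1 * w 2 - u 0 * v 2 * w 1 - u 1 * v 0 * w 2 + u 1 * v 2 * w 0 + u 2 * v 0 * w 1
        - u 2 * v 1 * w 0 := by
  rw [Matrix.det_fin_three]
  simp [Matrix.of_apply]

lemma eta3 (f : Fin 3 → R) : f = ![f 0, f 1, f 2] := by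
  funext i; fin_cases i <;> rfl

end

variable {p : ℕ} [Fact p.Prime] {A : Type u} [CommRing A] [IsLocalRing A]

lemma vec_ne_zero_of_two {F : Type*} [Zero F] [One F] [NeZero (1 : F)] (a b : F) :
    (![a, b, 1] : Fin 3 → F) ≠ 0 := by
  intro h
  have := congrFun h 2
  simp at this

/-- the normalized case. -/
theorem core (ρ : (Fin 3 → ZMod p) → (Fin 3 → A))
    (hpt : ∀ v : Fin 3 → ZMod p, v ≠ 0 → ∃ i, IsUnit (ρ v i))
    (hdet : ∀ u v w : Fin 3 → ZMod p, u ≠ 0 → v ≠ 0 → w ≠ 0 →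
      Matrix.det (Matrix.of ![u, v, w]) = 0 → Matrix.det (Matrix.of ![ρ u, ρ v, ρ w]) = 0)
    (x₀ y₀ o₀ u₀ : A) (hx₀ : IsUnit x₀) (hy₀ : IsUnit y₀) (ho₀ : IsUnit o₀) (hu₀ : IsUnit u₀)
    (hX : ρ ![1, 0, 0] = ![x₀, 0, 0]) (hY : ρ ![0, 1, 0] = ![0, y₀, 0])
    (hO : ρ ![0, 0, 1] = ![0, 0, o₀]) (hU : ρ ![1, 1, 1] = ![u₀, u₀, u₀]) :
    (p : A) = 0 := by
  have hXne : (![1, 0, 0] : Fin 3 → ZMod p) ≠ 0 := fun h => by
    have := congrFun h 0; simp at this
  have hYne : (![0, 1, 0] : Fin 3 → ZMod p) ≠ 0 := fun h => by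
    have := congrFun h 1; simp at this
  have hOne : (![0, 0, 1] : Fin 3 → ZMod p) ≠ 0 := vec_ne_zero_of_two 0 0
  have hUne : (![1, 1, 1] : Fin 3 → ZMod p) ≠ 0 := vec_ne_zero_of_two 1 1
  have hDne : (![1, 1, 0] : Fin 3 → ZMod p) ≠ 0 := fun h => by
    have := congrFun h 0; simp at this
  -- nonunits form an ideal
  have hnu : ∀ a b : A, ¬ IsUnit b → ¬ IsUnit (a * b) := fun a b hb hab =>
    hb (isUnit_of_mul_isUnit_right hab)
  have h0nu : ¬ IsUnit (0 : A) := not_isUnit_zero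
  -- the point D = (1:1:0)
  obtain ⟨d0, hd0, hD⟩ : ∃ d0 : A, IsUnit d0 ∧ ρ ![1, 1, 0] = ![d0, d0, 0] := by
    have e1 := hdet ![1, 0, 0] ![0, 1, 0] ![1, 1, 0] hXne hYne hDne (by rw [det3]; simp)
    have e2 := hdet ![0, 0, 1] ![1, 1, 1] ![1, 1, 0] hOne hUne hDne (by rw [det3]; simp)
    rw [hX, hY, det3] at e1
    rw [hO, hU, det3] at e2
    simp at e1 e2
    have h2 : ρ ![1, 1, 0] 2 = 0 := by
      have : x₀ * y₀ * ρ ![1, 1, 0] 2 = 0 := by linear_combination e1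
      exact (IsUnit.mul_right_eq_zero (hx₀.mul hy₀)).mp this
    have h1 : ρ ![1, 1, 0] 1 = ρ ![1, 1, 0] 0 := by
      have : (o₀ * u₀) * (ρ ![1, 1, 0] 1 - ρ ![1, 1, 0] 0) = 0 := by linear_combination e2
      have := (IsUnit.mul_right_eq_zero (ho₀.mul hu₀)).mp this
      exact sub_eq_zero.mp this
    refine ⟨ρ ![1, 1, 0] 0, ?_, ?_⟩
    · obtain ⟨i, hi⟩ := hpt _ hDne
      fin_cases i
      · exact hi
      · simpa [h1] using hi
      · simp [h2] at hi
    · conv_lhs => rw [eta3 (ρ ![1, 1, 0])]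
      rw [h1, h2]
  -- induction
  have hind : ∀ m : ℕ, ∃ u : A, IsUnit u ∧
      ρ ![(-(m : ZMod p)), 0, 1] = ![u * (-(m : A)), 0, u] := by
    intro m
    induction m with
    | zero =>
      refine ⟨o₀, ho₀, ?_⟩
      simp only [Nat.cast_zero, neg_zero, mul_zero]
      exact hO
    | succ m ih =>
      obtain ⟨u, hu, hP⟩ := ih
      set t : ZMod p := -(m : ZMod p) with ht
      set τ : A := -(m : A) with hτ
      have hPne : (![t, 0, 1] : Fin 3 → ZMod p) ≠ 0 := vec_ne_zero_of_two t 0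
      have hQne : (![t, 1, 1] : Fin 3 → ZMod p) ≠ 0 := vec_ne_zero_of_two t 1
      have hRne : (![t - 1, 0, 1] : Fin 3 → ZMod p) ≠ 0 := vec_ne_zero_of_two (t - 1) 0
      -- the point Q
      obtain ⟨q2, hq2, hQ⟩ : ∃ q2 : A, IsUnit q2 ∧ ρ ![t, 1, 1] = ![τ * q2, q2, q2] := by
        have e1 := hdet ![t, 0, 1] ![0, 1, 0] ![t, 1, 1] hPne hYne hQne (by rw [det3]; simp)
        have e2 := hdet ![1, 0, 0] ![1, 1, 1] ![t, 1, 1] hXne hUne hQne (by rw [det3]; simp)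
        rw [hP, hY, det3] at e1
        rw [hX, hU, det3] at e2
        simp at e1 e2
        have h0 : ρ ![t, 1, 1] 0 = τ * ρ ![t, 1, 1] 2 := by
          have : (u * y₀) * (τ * ρ ![t, 1, 1] 2 - ρ ![t, 1, 1] 0) = 0 := by linear_combination e1
          have := (IsUnit.mul_right_eq_zero (hu.mul hy₀)).mp this
          exact (sub_eq_zero.mp this).symm
        have h1 : ρ ![t, 1, 1] 1 = ρ ![t, 1, 1] 2 := by
          have : (x₀ * u₀) * (ρ ![t, 1, 1] 2 - ρ ![t, 1, 1] 1) = 0 := by linear_combination e2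
          have := (IsUnit.mul_right_eq_zero (hx₀.mul hu₀)).mp this
          exact (sub_eq_zero.mp this).symm
        refine ⟨ρ ![t, 1, 1] 2, ?_, ?_⟩
        · obtain ⟨i, hi⟩ := hpt _ hQne
          fin_cases i
          · simp only [Fin.zero_eta] at hi
            rw [h0] at hi
            by_contra hn
            exact hnu _ _ hn hi
          · simpa [h1] using hi
          · exact hi
        · conv_lhs => rw [eta3 (ρ ![t, 1, 1])]
          rw [h0, h1]
      -- the point R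
      have e1 := hdet ![0, 0, 1] ![1, 0, 0] ![t - 1, 0, 1] hOne hXne hRne (by rw [det3]; simp)
      have e2 := hdet ![t, 1, 1] ![1, 1, 0] ![t - 1, 0, 1] hQne hDne hRne (by rw [det3]; simp)
      rw [hO, hX, det3] at e1
      rw [hQ, hD, det3] at e2
      simp at e1 e2
      have h1 : ρ ![t - 1, 0, 1] 1 = 0 := by
        have : (o₀ * x₀) * ρ ![t - 1, 0, 1] 1 = 0 := by linear_combination e1
        exact (IsUnit.mul_right_eq_zero (ho₀.mul hx₀)).mp this
      have h0 : ρ ![t - 1, 0, 1] 0 = (τ - 1) * ρ ![t - 1, 0, 1] 2 := by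
        rw [h1] at e2
        have : (q2 * d0) * ((τ - 1) * ρ ![t - 1, 0, 1] 2 - ρ ![t - 1, 0, 1] 0) = 0 := by
          linear_combination e2
        have := (IsUnit.mul_right_eq_zero (hq2.mul hd0)).mp this
        exact (sub_eq_zero.mp this).symm
      refine ⟨ρ ![t - 1, 0, 1] 2, ?_, ?_⟩
      · obtain ⟨i, hi⟩ := hpt _ hRne
        fin_cases i
        · simp only [Fin.zero_eta] at hi
          rw [h0] at hi
          by_contra hn
          exact hnu _ _ hn hi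
        · simp [h1] at hi
        · exact hi
      · have e3 : (-((m + 1 : ℕ) : ZMod p)) = t - 1 := by rw [ht]; push_cast; ring
        have e4 : (-((m + 1 : ℕ) : A)) = τ - 1 := by rw [hτ]; push_cast; ring
        rw [e3, e4]
        conv_lhs => rw [eta3 (ρ ![t - 1, 0, 1])]
        rw [h0, h1, mul_comm]
  obtain ⟨u, hu, hP⟩ := hind p
  have hp0 : ((p : ℕ) : ZMod p) = 0 := ZMod.natCast_self p
  rw [hp0, neg_zero, hO] at hP
  have h0 : (0 : A) = u * (-(p : A)) := by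
    have := congrFun hP 0
    simpa using this
  have h1 : u * (p : A) = 0 := by
    have : u * (p : A) = -(u * (-(p : A))) := by ring
    rw [this, ← h0, neg_zero]
  exact (IsUnit.mul_right_eq_zero hu).mp h1

/-- collinearity gives vanishing determinants. -/
lemma det_eq_zero_of_perp (a b c n : Fin 3 → A) (i : Fin 3) (hn : IsUnit (n i))
    (ha : dotProduct a n = 0) (hb : dotProduct b n = 0) (hc : dotProduct c n = 0) :
    Matrix.det (Matrix.of ![a, b, c]) = 0 := by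
  set M : Matrix (Fin 3) (Fin 3) A := Matrix.of ![a, b, c] with hM
  have h1 : M.mulVec n = 0 := by
    funext j
    fin_cases j
    · exact ha
    · exact hb
    · exact hc
  have h2 : (M.adjugate * M).mulVec n = 0 := by
    rw [← Matrix.mulVec_mulVec, h1, Matrix.mulVec_zero]
  rw [Matrix.adjugate_mul, Matrix.smul_mulVec, Matrix.one_mulVec] at h2
  have h3 := congrFun h2 i
  simp only [Pi.smul_apply, smul_eq_mul, Pi.zero_apply] at h3
  exact (IsUnit.mul_left_eq_zero hn).mp h3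

/-- change of coordinates by an invertible matrix. -/
lemma norm_step (ρ : (Fin 3 → ZMod p) → (Fin 3 → A))
    (hpt : ∀ v : Fin 3 → ZMod p, v ≠ 0 → ∃ i, IsUnit (ρ v i))
    (hdet : ∀ u v w : Fin 3 → ZMod p, u ≠ 0 → v ≠ 0 → w ≠ 0 →
      Matrix.det (Matrix.of ![u, v, w]) = 0 → Matrix.det (Matrix.of ![ρ u, ρ v, ρ w]) = 0)
    (N : Matrix (Fin 3) (Fin 3) A) (hN : IsUnit N.det) :
    (∀ v : Fin 3 → ZMod p, v ≠ 0 → ∃ i, IsUnit (Matrix.vecMul (ρ v) N i)) ∧
    (∀ u v w : Fin 3 → ZMod p, u ≠ 0 → v ≠ 0 → w ≠ 0 →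
      Matrix.det (Matrix.of ![u, v, w]) = 0 →
      Matrix.det (Matrix.of ![Matrix.vecMul (ρ u) N, Matrix.vecMul (ρ v) N, Matrix.vecMul (ρ w) N]) = 0) ∧
    (∀ u v w : Fin 3 → ZMod p,
      Matrix.det (Matrix.of ![Matrix.vecMul (ρ u) N, Matrix.vecMul (ρ v) N, Matrix.vecMul (ρ w) N]) =
        Matrix.det (Matrix.of ![ρ u, ρ v, ρ w]) * N.det) := by
  have hmul : ∀ a b c : Fin 3 → A,
      Matrix.of ![Matrix.vecMul a N, Matrix.vecMul b N, Matrix.vecMul c N] =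
        Matrix.of ![a, b, c] * N := by
    intro a b c
    ext i j
    fin_cases i <;> simp [Matrix.mul_apply, Matrix.vecMul, dotProduct]
  have h3 : ∀ u v w : Fin 3 → ZMod p,
      Matrix.det (Matrix.of ![Matrix.vecMul (ρ u) N, Matrix.vecMul (ρ v) N, Matrix.vecMul (ρ w) N]) =
        Matrix.det (Matrix.of ![ρ u, ρ v, ρ w]) * N.det := by
    intro u v w
    rw [hmul, Matrix.det_mul]
  refine ⟨?_, ?_, h3⟩
  · intro v hv
    by_contra hno
    push Not at hno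
    have hmem : ∀ i, Matrix.vecMul (ρ v) N i ∈ IsLocalRing.maximalIdeal A := fun i =>
      (IsLocalRing.mem_maximalIdeal _).mpr (hno i)
    have hback : Matrix.vecMul (Matrix.vecMul (ρ v) N) N.adjugate = N.det • ρ v := by
      rw [Matrix.vecMul_vecMul, Matrix.mul_adjugate, Matrix.vecMul_smul, Matrix.vecMul_one]
    obtain ⟨j, hj⟩ := hpt v hv
    have hjm : N.det * ρ v j ∈ IsLocalRing.maximalIdeal A := by
      have := congrFun hback j
      simp only [Pi.smul_apply, smul_eq_mul] at this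
      rw [← this]
      unfold Matrix.vecMul dotProduct
      exact Ideal.sum_mem _ (fun i _ => Ideal.mul_mem_right _ _ (hmem i))
    exact (IsLocalRing.mem_maximalIdeal _).mp hjm (hN.mul hj)
  · intro u v w hu hv hw h
    rw [h3, hdet u v w hu hv hw h, zero_mul]

theorem main (ρ : (Fin 3 → ZMod p) → (Fin 3 → A))
    (hpt : ∀ v : Fin 3 → ZMod p, v ≠ 0 → ∃ i, IsUnit (ρ v i))
    (hcol : ∀ u v w : Fin 3 → ZMod p, u ≠ 0 → v ≠ 0 → w ≠ 0 →
      Matrix.det (Matrix.of ![u, v, w]) = 0 →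
      ∃ n : Fin 3 → A, (∃ i, IsUnit (n i)) ∧
        dotProduct (ρ u) n = 0 ∧ dotProduct (ρ v) n = 0 ∧ dotProduct (ρ w) n = 0)
    (hgen : IsUnit (Matrix.det (Matrix.of ![ρ (Pi.single 0 1), ρ (Pi.single 1 1), ρ (Pi.single 2 1)])) ∧
      IsUnit (Matrix.det (Matrix.of ![ρ (Pi.single 0 1), ρ (Pi.single 1 1), ρ (fun _ => 1)])) ∧
      IsUnit (Matrix.det (Matrix.of ![ρ (Pi.single 0 1), ρ (Pi.single 2 1), ρ (fun _ => 1)])) ∧
      IsUnit (Matrix.det (Matrix.of ![ρ (Pi.single 1 1), ρ (Pi.single 2 1), ρ (fun _ => 1)]))) :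
    (p : A) = 0 := by
  have eX : (Pi.single 0 1 : Fin 3 → ZMod p) = ![1, 0, 0] := by
    funext i; fin_cases i <;> simp
  have eY : (Pi.single 1 1 : Fin 3 → ZMod p) = ![0, 1, 0] := by
    funext i; fin_cases i <;> simp
  have eO : (Pi.single 2 1 : Fin 3 → ZMod p) = ![0, 0, 1] := by
    funext i; fin_cases i <;> simp
  have eU : (fun _ => 1 : Fin 3 → ZMod p) = ![1, 1, 1] := by
    funext i; fin_cases i <;> simp
  rw [eX, eY, eO, eU] at hgen
  obtain ⟨g1, g2, g3, g4⟩ := hgen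
  have hdet : ∀ u v w : Fin 3 → ZMod p, u ≠ 0 → v ≠ 0 → w ≠ 0 →
      Matrix.det (Matrix.of ![u, v, w]) = 0 → Matrix.det (Matrix.of ![ρ u, ρ v, ρ w]) = 0 := by
    intro u v w hu hv hw h
    obtain ⟨n, ⟨i, hi⟩, h1, h2, h3⟩ := hcol u v w hu hv hw h
    exact det_eq_zero_of_perp _ _ _ n i hi h1 h2 h3
  -- first normalization
  set M : Matrix (Fin 3) (Fin 3) A := Matrix.of ![ρ ![1, 0, 0], ρ ![0, 1, 0], ρ ![0, 0, 1]] with hM
  set Δ := M.det with hΔ
  have hN1 : IsUnit M.adjugate.det := by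
    rw [Matrix.det_adjugate]
    exact g1.pow _
  obtain ⟨hpt1, hdet1, hd1⟩ := norm_step ρ hpt hdet M.adjugate hN1
  set ρ₁ : (Fin 3 → ZMod p) → (Fin 3 → A) := fun v => Matrix.vecMul (ρ v) M.adjugate with hρ₁
  have hrow : ∀ i : Fin 3, Matrix.vecMul (M i) M.adjugate = (Δ • (1 : Matrix (Fin 3) (Fin 3) A)) i := by
    intro i
    rw [← Matrix.mul_adjugate]
    funext j
    simp [Matrix.mul_apply, Matrix.vecMul, dotProduct]
  have hX1 : ρ₁ ![1, 0, 0] = ![Δ, 0, 0] := by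
    have := hrow 0
    rw [show M 0 = ρ ![1, 0, 0] from rfl] at this
    rw [hρ₁]; simp only; rw [this]
    funext j; fin_cases j <;> simp
  have hY1 : ρ₁ ![0, 1, 0] = ![0, Δ, 0] := by
    have := hrow 1
    rw [show M 1 = ρ ![0, 1, 0] from rfl] at this
    rw [hρ₁]; simp only; rw [this]
    funext j; fin_cases j <;> simp
  have hO1 : ρ₁ ![0, 0, 1] = ![0, 0, Δ] := by
    have := hrow 2
    rw [show M 2 = ρ ![0, 0, 1] from rfl] at this
    rw [hρ₁]; simp only; rw [this]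
    funext j; fin_cases j <;> simp
  set α := ρ₁ ![1, 1, 1] 0 with hα
  set β := ρ₁ ![1, 1, 1] 1 with hβ
  set γ := ρ₁ ![1, 1, 1] 2 with hγ
  have hU1 : ρ₁ ![1, 1, 1] = ![α, β, γ] := eta3 _
  have hγu : IsUnit γ := by
    have h := hd1 ![1, 0, 0] ![0, 1, 0] ![1, 1, 1]
    have hunit : IsUnit (Matrix.det (Matrix.of ![ρ₁ ![1, 0, 0], ρ₁ ![0, 1, 0], ρ₁ ![1, 1, 1]])) := by
      rw [show Matrix.det (Matrix.of ![ρ₁ ![1, 0, 0], ρ₁ ![0, 1, 0], ρ₁ ![1, 1, 1]]) = _ from h]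
      exact g2.mul hN1
    rw [hX1, hY1, hU1, det3] at hunit
    simp at hunit
    exact hunit.2
  have hβu : IsUnit β := by
    have h := hd1 ![1, 0, 0] ![0, 0, 1] ![1, 1, 1]
    have hunit : IsUnit (Matrix.det (Matrix.of ![ρ₁ ![1, 0, 0], ρ₁ ![0, 0, 1], ρ₁ ![1, 1, 1]])) := by
      rw [show Matrix.det (Matrix.of ![ρ₁ ![1, 0, 0], ρ₁ ![0, 0, 1], ρ₁ ![1, 1, 1]]) = _ from h]
      exact g3.mul hN1
    rw [hX1, hO1, hU1, det3] at hunit
    simp at hunit
    exact hunit.2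
  have hαu : IsUnit α := by
    have h := hd1 ![0, 1, 0] ![0, 0, 1] ![1, 1, 1]
    have hunit : IsUnit (Matrix.det (Matrix.of ![ρ₁ ![0, 1, 0], ρ₁ ![0, 0, 1], ρ₁ ![1, 1, 1]])) := by
      rw [show Matrix.det (Matrix.of ![ρ₁ ![0, 1, 0], ρ₁ ![0, 0, 1], ρ₁ ![1, 1, 1]]) = _ from h]
      exact g4.mul hN1
    rw [hY1, hO1, hU1, det3] at hunit
    simp at hunit
    exact hunit.2
  -- second normalization
  set N₂ : Matrix (Fin 3) (Fin 3) A := Matrix.diagonal ![β * γ, α * γ, α * β] with hN₂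
  have hN2 : IsUnit N₂.det := by
    rw [hN₂, Matrix.det_diagonal, Fin.prod_univ_three]
    simp only [Matrix.cons_val_zero, Matrix.cons_val_one, Matrix.cons_val_two, Matrix.head_cons,
      Matrix.tail_cons]
    exact ((hβu.mul hγu).mul (hαu.mul hγu)).mul (hαu.mul hβu)
  obtain ⟨hpt2, hdet2, -⟩ := norm_step ρ₁ hpt1 hdet1 N₂ hN2
  have hdiag : ∀ a b c : A, Matrix.vecMul ![a, b, c] N₂ = ![a * (β * γ), b * (α * γ), c * (α * β)] := by
    intro a b c
    funext j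
    fin_cases j <;> simp [hN₂, Matrix.vecMul_diagonal]
  have hΔu : IsUnit Δ := g1
  exact core (fun v => Matrix.vecMul (ρ₁ v) N₂) hpt2 hdet2
    (Δ * (β * γ)) (Δ * (α * γ)) (Δ * (α * β)) (α * β * γ)
    (hΔu.mul (hβu.mul hγu)) (hΔu.mul (hαu.mul hγu)) (hΔu.mul (hαu.mul hβu)) ((hαu.mul hβu).mul hγu)
    (by show Matrix.vecMul (ρ₁ ![1, 0, 0]) N₂ = _; rw [hX1, hdiag]; simp)
    (by show Matrix.vecMul (ρ₁ ![0, 1, 0]) N₂ = _; rw [hY1, hdiag]; simp)
    (by show Matrix.vecMul (ρ₁ ![0, 0, 1]) N₂ = _; rw [hO1, hdiag]; simp)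
    (by
      show Matrix.vecMul (ρ₁ ![1, 1, 1]) N₂ = _
      rw [hU1, hdiag]
      funext j
      fin_cases j <;> simp <;> ring)

end Groth.Agent.Helper7.PPlane
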