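import Mathlib
import Groth.Agent.Helper7.PPoly1
import Groth.Agent.Helper5.IntegralDim
import Groth.Agent.Lead.RegLocal
import Groth.Agent.S0564

set_option autoImplicit false
set_option linter.style.haveILetI false
set_option linter.unusedSectionVars false
universe u v w

namespace Groth.Agent.Helper7.PPoly

open MvPolynomial IsLocalRing TensorProduct Groth.Agent.Helper8.Cot

section defs

variable {A : Type u} [CommRing A] (p : ℕ) {r : ℕ} (c : Fin r → Fin p → A) (f : Fin r → A)

/-- the polynomials `F_i = T_i^p + p Σ_j c_{ij} T_i^{p-j} - f_i` -/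
noncomputable def FF (i : Fin r) : MvPolynomial (Fin r) A :=
  X i ^ p + (p : MvPolynomial (Fin r) A) * (Finset.univ.sum fun j : Fin p =>
    if (j : ℕ) = 0 then 0 else C (c i j) * X i ^ (p - (j : ℕ))) - C (f i)

/-- the one-variable polynomial `g_i` with `F_i = g_i(T_i)` -/
noncomputable def gg (i : Fin r) : Polynomial A :=
  Polynomial.X ^ p + (Polynomial.C (p : A) * (Finset.univ.sum fun j : Fin p =>
    if (j : ℕ) = 0 then 0 else Polynomial.C (c i j) * Polynomial.X ^ (p - (j : ℕ))) -
      Polynomial.C (f i))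

theorem gg_degree_lt (hp : 0 < p) (i : Fin r) :
    (Polynomial.C (p : A) * (Finset.univ.sum fun j : Fin p =>
      if (j : ℕ) = 0 then 0 else Polynomial.C (c i j) * Polynomial.X ^ (p - (j : ℕ))) -
        Polynomial.C (f i)).degree < p := by
  rw [Polynomial.degree_lt_iff_coeff_zero]
  intro m hm
  rw [Polynomial.coeff_sub, Polynomial.coeff_C_mul, Polynomial.finsetSum_coeff,
    Polynomial.coeff_C, if_neg (by omega), sub_zero]
  have : ∀ j : Fin p, (if (j : ℕ) = 0 then (0 : Polynomial A) else
      Polynomial.C (c i j) * Polynomial.X ^ (p - (j : ℕ))).coeff m = 0 := by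
    intro j
    split_ifs with hj
    · exact Polynomial.coeff_zero m
    · rw [Polynomial.coeff_C_mul, Polynomial.coeff_X_pow, if_neg (by omega), mul_zero]
  rw [Finset.sum_eq_zero (fun j _ => this j), mul_zero]

theorem gg_monic (hp : 0 < p) (i : Fin r) : (gg p c f i).Monic := by
  unfold gg
  exact Polynomial.monic_X_pow_add (gg_degree_lt p c f hp i)

theorem gg_degree_ne_zero [Nontrivial A] (hp : 0 < p) (i : Fin r) : (gg p c f i).degree ≠ 0 := by
  unfold gg
  rw [Polynomial.degree_add_eq_left_of_degree_lt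
    (by rw [Polynomial.degree_X_pow]; exact gg_degree_lt p c f hp i), Polynomial.degree_X_pow]
  exact_mod_cast hp.ne'

theorem aeval_gg {S : Type*} [CommRing S] [Algebra A S] (x : S) (i : Fin r) :
    Polynomial.aeval x (gg p c f i) = x ^ p + (p : S) * (Finset.univ.sum fun j : Fin p =>
      if (j : ℕ) = 0 then 0 else algebraMap A S (c i j) * x ^ (p - (j : ℕ))) -
        algebraMap A S (f i) := by
  unfold gg
  rw [map_add, map_sub, map_mul, map_pow, Polynomial.aeval_X, Polynomial.aeval_C, Polynomial.aeval_C,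
    map_natCast, map_sum, add_sub_assoc]
  congr 3
  refine Finset.sum_congr rfl (fun j _ => ?_)
  split_ifs with hj
  · exact map_zero _
  · rw [map_mul, map_pow, Polynomial.aeval_X, Polynomial.aeval_C]

theorem FF_eq (i : Fin r) : FF p c f i = Polynomial.aeval (X i : MvPolynomial (Fin r) A) (gg p c f i) := by
  rw [aeval_gg]
  unfold FF
  rfl

end defs

section quot

variable {A : Type u} [CommRing A] (p : ℕ) {r : ℕ} (c : Fin r → Fin p → A) (f : Fin r → A)

/-- the ideal `(F_i)` -/
noncomputable abbrev JF : Ideal (MvPolynomial (Fin r) A) := Ideal.span (Set.range (FF p c f))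

theorem isIntegral_quot (hp : 0 < p) :
    Algebra.IsIntegral A (MvPolynomial (Fin r) A ⧸ JF p c f) := by
  have hint : ∀ i, IsIntegral A (Ideal.Quotient.mkₐ A (JF p c f) (X i)) := by
    intro i
    refine ⟨gg p c f i, gg_monic p c f hp i, ?_⟩
    rw [← Polynomial.aeval_def, Polynomial.aeval_algHom_apply, ← FF_eq]
    exact Ideal.Quotient.eq_zero_iff_mem.mpr (Ideal.subset_span ⟨i, rfl⟩)
  have hadj : Algebra.adjoin A (Set.range fun i => Ideal.Quotient.mkₐ A (JF p c f) (X i)) = ⊤ := by
    have h1 := MvPolynomial.adjoin_range_X (R := A) (σ := Fin r)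
    have h2 : (Set.range fun i => Ideal.Quotient.mkₐ A (JF p c f) (X i)) =
        (Ideal.Quotient.mkₐ A (JF p c f)) '' (Set.range X) := by
      rw [← Set.range_comp]; rfl
    rw [h2, ← AlgHom.map_adjoin, h1, Algebra.map_top, AlgHom.range_eq_top]
    exact Ideal.Quotient.mkₐ_surjective A _
  have hle : (⊤ : Subalgebra A (MvPolynomial (Fin r) A ⧸ JF p c f)) ≤
      integralClosure A (MvPolynomial (Fin r) A ⧸ JF p c f) := by
    rw [← hadj]
    apply Algebra.adjoin_le
    rintro _ ⟨i, rfl⟩
    exact hint i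
  exact ⟨fun x => hle Algebra.mem_top⟩

/-- maps out of the quotient -/
theorem exists_lift {S : Type*} [CommRing S] [Algebra A S] (x : Fin r → S)
    (hx : ∀ i, Polynomial.aeval (x i) (gg p c f i) = 0) :
    ∃ φ : (MvPolynomial (Fin r) A ⧸ JF p c f) →ₐ[A] S,
      ∀ q, φ (Ideal.Quotient.mk _ q) = MvPolynomial.aeval x q := by
  refine ⟨Ideal.Quotient.liftₐ (JF p c f) (MvPolynomial.aeval x) ?_, fun q => rfl⟩
  have hle : JF p c f ≤ RingHom.ker (MvPolynomial.aeval x : MvPolynomial (Fin r) A →ₐ[A] S) := by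
    rw [Ideal.span_le]
    rintro _ ⟨i, rfl⟩
    rw [SetLike.mem_coe, RingHom.mem_ker, FF_eq, ← Polynomial.aeval_algHom_apply,
      MvPolynomial.aeval_X]
    exact hx i
  intro a ha
  exact hle ha

/-- over a domain the base ring embeds into the quotient -/
theorem algebraMap_quot_injective [IsDomain A] (hp : 0 < p) :
    Function.Injective (algebraMap A (MvPolynomial (Fin r) A ⧸ JF p c f)) := by
  letI : Algebra A (AlgebraicClosure (FractionRing A)) :=
    ((algebraMap (FractionRing A) (AlgebraicClosure (FractionRing A))).comp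
      (algebraMap A (FractionRing A))).toAlgebra
  have hinj : Function.Injective (algebraMap A (AlgebraicClosure (FractionRing A))) :=
    (algebraMap (FractionRing A) (AlgebraicClosure (FractionRing A))).injective.comp
      (IsFractionRing.injective A (FractionRing A))
  have hroot : ∀ i, ∃ x : AlgebraicClosure (FractionRing A),
      Polynomial.aeval x (gg p c f i) = 0 := fun i =>
    IsAlgClosed.exists_eval₂_eq_zero_of_injective _ hinj _ (gg_degree_ne_zero p c f hp i)
  choose x hx using hroot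
  obtain ⟨φ, hφ⟩ := exists_lift p c f x hx
  intro a b hab
  apply hinj
  have := congrArg φ hab
  rwa [φ.commutes, φ.commutes] at this

end quot

section red

variable {A : Type u} [CommRing A] (p : ℕ) {r : ℕ} (c : Fin r → Fin p → A) (f : Fin r → A)
  (I : Ideal A)

/-- reduction of the defining polynomials modulo an ideal containing `p` -/
theorem map_FF (hpI : (p : A) ∈ I) (i : Fin r) :
    MvPolynomial.map (Ideal.Quotient.mk I) (FF p c f i) =
      X i ^ p - C (Ideal.Quotient.mk I (f i)) := by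
  have h0 : ((p : ℕ) : MvPolynomial (Fin r) (A ⧸ I)) = 0 := by
    have : ((p : ℕ) : A ⧸ I) = 0 := by
      rw [← map_natCast (Ideal.Quotient.mk I)]
      exact Ideal.Quotient.eq_zero_iff_mem.mpr hpI
    rw [← map_natCast (C : (A ⧸ I) →+* MvPolynomial (Fin r) (A ⧸ I)), this, map_zero]
  unfold FF
  rw [map_sub, map_add, map_mul, map_pow, map_natCast, MvPolynomial.map_X, MvPolynomial.map_C, h0,
    zero_mul, add_zero]

theorem map_JF (hpI : (p : A) ∈ I) :
    (JF p c f).map (MvPolynomial.map (Ideal.Quotient.mk I)) =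
      JJ p (fun i => Ideal.Quotient.mk I (f i)) := by
  rw [Ideal.map_span, ← Set.range_comp]
  congr 2
  funext i
  exact map_FF p c f I hpI i

/-- the reduction map onto `(A/I)[T]/(T_i^p - f_i)` -/
theorem exists_red (hpI : (p : A) ∈ I) :
    ∃ π : (MvPolynomial (Fin r) A ⧸ JF p c f) →+* BB p (fun i => Ideal.Quotient.mk I (f i)),
      Function.Surjective π ∧
      RingHom.ker π = I.map (algebraMap A (MvPolynomial (Fin r) A ⧸ JF p c f)) := by
  obtain ⟨π₀, hπ₀⟩ : ∃ π₀ : MvPolynomial (Fin r) A →+* BB p (fun i => Ideal.Quotient.mk I (f i)),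
      ∀ q, π₀ q = mkB p (fun i => Ideal.Quotient.mk I (f i))
        (MvPolynomial.map (Ideal.Quotient.mk I) q) :=
    ⟨((mkB p (fun i => Ideal.Quotient.mk I (f i)) :
      MvPolynomial (Fin r) (A ⧸ I) →ₐ[A ⧸ I] _) : _ →+* _).comp
        (MvPolynomial.map (Ideal.Quotient.mk I)), fun q => rfl⟩
  have hker₀ : ∀ q, π₀ q = 0 ↔ q ∈ JF p c f ⊔ I.map (C : A →+* MvPolynomial (Fin r) A) := by
    intro q
    rw [hπ₀, mkB_eq_zero_iff, ← map_JF p c f I hpI,
      Ideal.mem_map_iff_of_surjective _ (MvPolynomial.map_surjective _ Ideal.Quotient.mk_surjective)]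
    constructor
    · rintro ⟨q', hq', hqq'⟩
      have h1 : q - q' ∈ RingHom.ker (MvPolynomial.map (Ideal.Quotient.mk I) :
          MvPolynomial (Fin r) A →+* MvPolynomial (Fin r) (A ⧸ I)) := by
        rw [RingHom.mem_ker, map_sub, hqq', sub_self]
      rw [MvPolynomial.ker_map, Ideal.mk_ker] at h1
      have : q = q' + (q - q') := by ring
      rw [this]
      exact Submodule.add_mem_sup hq' h1
    · intro hq
      obtain ⟨q', hq', q'', hq'', rfl⟩ := Submodule.mem_sup.mp hq
      refine ⟨q', hq', ?_⟩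
      have h1 : q'' ∈ RingHom.ker (MvPolynomial.map (Ideal.Quotient.mk I) :
          MvPolynomial (Fin r) A →+* MvPolynomial (Fin r) (A ⧸ I)) := by
        rw [MvPolynomial.ker_map, Ideal.mk_ker]
        exact hq''
      rw [map_add, RingHom.mem_ker.mp h1, add_zero]
  have hle : ∀ q ∈ JF p c f, π₀ q = 0 := fun q hq => (hker₀ q).mpr (Ideal.mem_sup_left hq)
  refine ⟨Ideal.Quotient.lift (JF p c f) π₀ hle, ?_, ?_⟩
  · apply Ideal.Quotient.lift_surjective_of_surjective
    intro b
    obtain ⟨q, rfl⟩ := mkB_surjective p _ b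
    obtain ⟨q', rfl⟩ := MvPolynomial.map_surjective _ Ideal.Quotient.mk_surjective q
    exact ⟨q', hπ₀ q'⟩
  · ext x
    obtain ⟨q, rfl⟩ := Ideal.Quotient.mk_surjective x
    rw [RingHom.mem_ker, Ideal.Quotient.lift_mk, hker₀]
    have hmapC : I.map (algebraMap A (MvPolynomial (Fin r) A ⧸ JF p c f)) =
        (I.map (C : A →+* MvPolynomial (Fin r) A)).map (Ideal.Quotient.mk (JF p c f)) := by
      rw [Ideal.map_map]
      rfl
    rw [hmapC]
    constructor
    · intro hq
      obtain ⟨q', hq', q'', hq'', rfl⟩ := Submodule.mem_sup.mp hq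
      rw [map_add, Ideal.Quotient.eq_zero_iff_mem.mpr hq', zero_add]
      exact Ideal.mem_map_of_mem _ hq''
    · intro hq
      rw [Ideal.mem_map_iff_of_surjective _ Ideal.Quotient.mk_surjective] at hq
      obtain ⟨q'', hq'', hqq⟩ := hq
      have h1 : q - q'' ∈ JF p c f := by
        rw [← Ideal.Quotient.eq]
        exact hqq.symm
      have : q = (q - q'') + q'' := by ring
      rw [this]
      exact Submodule.add_mem_sup h1 hq''

end red

section gen

theorem spanFinrank_maximalIdeal_of_surjective {R S : Type*} [CommRing R] [CommRing S]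
    [IsLocalRing R] [IsLocalRing S] [IsNoetherianRing R] (π : R →+* S)
    (hπ : Function.Surjective π) (hker : RingHom.ker π ≤ maximalIdeal R ^ 2) :
    (maximalIdeal S).spanFinrank = (maximalIdeal R).spanFinrank := by
  haveI : IsLocalRing (R ⧸ RingHom.ker π) :=
    (RingHom.quotientKerEquivOfSurjective hπ).symm.isLocalRing
  haveI : IsNoetherianRing S := isNoetherianRing_of_surjective R S π hπ
  rw [← spanFinrank_maximalIdeal_quotient (RingHom.ker π) hker]
  obtain ⟨e, -⟩ : ∃ e : (R ⧸ RingHom.ker π) ≃+* S, True :=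
    ⟨RingHom.quotientKerEquivOfSurjective hπ, trivial⟩
  have h1 : (maximalIdeal (R ⧸ RingHom.ker π)).map (e : (R ⧸ RingHom.ker π) →+* S) =
      maximalIdeal S := IsLocalRing.map_maximalIdeal_of_surjective _ e.surjective
  have h2 : (maximalIdeal S).map (e.symm : S →+* (R ⧸ RingHom.ker π)) =
      maximalIdeal (R ⧸ RingHom.ker π) :=
    IsLocalRing.map_maximalIdeal_of_surjective _ e.symm.surjective
  apply le_antisymm
  · rw [← h1]
    exact Ideal.spanFinrank_map_le_of_fg _ (maximalIdeal _).fg_of_isNoetherianRing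
  · rw [← h2]
    exact Ideal.spanFinrank_map_le_of_fg _ (maximalIdeal _).fg_of_isNoetherianRing

end gen

section main

variable {A : Type u} [CommRing A] [IsRegularLocalRing A] (p : ℕ) [hpf : Fact p.Prime]
  [CharP (ResidueField A) p] {r : ℕ} (c : Fin r → Fin p → A) (f : Fin r → A)

theorem s2473 (hp : (p : A) ∈ maximalIdeal A ^ 2) :
    IsLocalRing (MvPolynomial (Fin r) A ⧸ JF p c f) ∧
      (IsRegularRing (MvPolynomial (Fin r) A ⧸ JF p c f) ↔
        LinearIndependent (ResidueField A)
          (fun i => (1 : ResidueField A) ⊗ₜ[A] KaehlerDifferential.D ℤ A (f i))) := by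
  obtain ⟨I, hI⟩ : ∃ I : Ideal A, I = maximalIdeal A ^ 2 := ⟨_, rfl⟩
  rw [← hI] at hp
  have hIm : I ≤ maximalIdeal A := hI ▸ Ideal.pow_le_self two_ne_zero
  have hItop : I ≠ ⊤ := fun h => (maximalIdeal.isMaximal A).ne_top (top_le_iff.mp (h ▸ hIm))
  haveI : Nontrivial (A ⧸ I) := Ideal.Quotient.nontrivial_iff.mpr hItop
  haveI : IsLocalRing (A ⧸ I) :=
    IsLocalRing.of_surjective' (Ideal.Quotient.mk I) Ideal.Quotient.mk_surjective
  haveI : CharP (A ⧸ I) p := (CharP.charP_iff_prime_eq_zero hpf.out).2 (by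
    rw [← map_natCast (Ideal.Quotient.mk I)]
    exact Ideal.Quotient.eq_zero_iff_mem.mpr hp)
  obtain ⟨π, hπs, hπk⟩ := exists_red p c f I hp
  haveI hint : Algebra.IsIntegral A (MvPolynomial (Fin r) A ⧸ JF p c f) :=
    isIntegral_quot p c f hpf.out.pos
  have hmax : ∀ M : Ideal (MvPolynomial (Fin r) A ⧸ JF p c f), M.IsMaximal →
      (maximalIdeal A).map (algebraMap A (MvPolynomial (Fin r) A ⧸ JF p c f)) ≤ M := by
    intro M hM
    have h1 : (M.comap (algebraMap A (MvPolynomial (Fin r) A ⧸ JF p c f))).IsMaximal :=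
      Ideal.isMaximal_comap_of_isIntegral_of_isMaximal M
    rw [Ideal.map_le_iff_le_comap, IsLocalRing.eq_maximalIdeal h1]
  haveI hloc : IsLocalRing (MvPolynomial (Fin r) A ⧸ JF p c f) :=
    isLocalRing_of_surjective_of_ker_le π hπs (fun M hM => by
      rw [hπk]; exact (Ideal.map_mono hIm).trans (hmax M hM))
  refine ⟨hloc, ?_⟩
  haveI : IsDomain A := Groth.Agent.Lead.RegLocal.isDomain_of_isRegularLocalRing A
  have hdim : ringKrullDim (MvPolynomial (Fin r) A ⧸ JF p c f) = ringKrullDim A :=
    Groth.Agent.Helper5.IntegralDim.ringKrullDim_eq_of_isIntegral_of_injective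
      (algebraMap_quot_injective p c f hpf.out.pos)
  have hmQ : (maximalIdeal A).map (algebraMap A (MvPolynomial (Fin r) A ⧸ JF p c f)) ≤
      maximalIdeal (MvPolynomial (Fin r) A ⧸ JF p c f) := hmax _ (maximalIdeal.isMaximal _)
  have hkersq : RingHom.ker π ≤ maximalIdeal (MvPolynomial (Fin r) A ⧸ JF p c f) ^ 2 := by
    rw [hπk, hI, Ideal.map_pow]
    exact Ideal.pow_right_mono hmQ 2
  have hsQ : (maximalIdeal (BB p (fun i => Ideal.Quotient.mk I (f i)))).spanFinrank =
      (maximalIdeal (MvPolynomial (Fin r) A ⧸ JF p c f)).spanFinrank :=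
    spanFinrank_maximalIdeal_of_surjective π hπs hkersq
  have hsA : (maximalIdeal (A ⧸ I)).spanFinrank = (maximalIdeal A).spanFinrank :=
    spanFinrank_maximalIdeal_quotient I hI.le
  have hmain := Groth.Agent.Helper8.Cot.main (A := A ⧸ I) p (fun i => Ideal.Quotient.mk I (f i))
  rw [← IsLocalRing.spanFinrank_maximalIdeal_eq_finrank_cotangentSpace,
    ← IsLocalRing.spanFinrank_maximalIdeal_eq_finrank_cotangentSpace, hsA, hsQ] at hmain
  refine Iff.trans ?_ (hmain.trans (linearIndependent_iff_quotient I hI.le f).symm)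
  have h2 : (((maximalIdeal A).spanFinrank : ℕ) : WithBot ℕ∞) = ringKrullDim A :=
    IsRegularLocalRing.spanFinrank_maximalIdeal
  constructor
  · intro hreg
    haveI := hreg
    haveI : IsRegularLocalRing (MvPolynomial (Fin r) A ⧸ JF p c f) :=
      IsRegularLocalRing.of_isRegularRing_of_isLocalRing _
    have h1 : (((maximalIdeal (MvPolynomial (Fin r) A ⧸ JF p c f)).spanFinrank : ℕ) : WithBot ℕ∞) =
        ringKrullDim (MvPolynomial (Fin r) A ⧸ JF p c f) :=
      IsRegularLocalRing.spanFinrank_maximalIdeal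
    rw [hdim, ← h2] at h1
    exact_mod_cast h1.symm
  · intro heq
    haveI : IsRegularLocalRing (MvPolynomial (Fin r) A ⧸ JF p c f) := by
      rw [isRegularLocalRing_iff, ← heq, hdim]
      exact h2
    exact { isRegularLocalRing_localization := fun q _ => Groth.Agent.S0564.result _ q }

end main

end Groth.Agent.Helper7.PPoly
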