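import Mathlib

set_option autoImplicit false

namespace Groth.Agent.Helper7.PPow

/-- `p`-adic divisibility of binomial coefficients `C(p^M, i)`. -/
theorem pow_dvd_choose {p : ℕ} (hp : p.Prime) {M n i : ℕ} (hn : n ≤ M) (hi : i ≤ p ^ M)
    (hdvd : ¬ p ^ n ∣ i) : p ^ (M - n + 1) ∣ (p ^ M).choose i := by
  haveI : Fact p.Prime := ⟨hp⟩
  have hi0 : i ≠ 0 := by rintro rfl; exact hdvd (dvd_zero _)
  have hC0 : (p ^ M).choose i ≠ 0 := (Nat.choose_pos hi).ne'
  obtain ⟨i', rfl⟩ := Nat.exists_eq_succ_of_ne_zero hi0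
  simp only [Nat.succ_eq_add_one] at *
  have hN : p ^ M ≠ 0 := pow_ne_zero _ hp.ne_zero
  obtain ⟨N', hN'⟩ := Nat.exists_eq_succ_of_ne_zero hN
  have key := Nat.add_one_mul_choose_eq N' i'
  rw [← Nat.succ_eq_add_one, ← hN'] at key
  have h1 : p ^ M ∣ (p ^ M).choose (i' + 1) * (i' + 1) := ⟨_, key.symm⟩
  have h2 := (padicValNat_dvd_iff_le (mul_ne_zero hC0 hi0)).1 h1
  rw [padicValNat.mul hC0 hi0] at h2
  have h3 : padicValNat p (i' + 1) < n := by
    by_contra hcon
    push Not at hcon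
    exact hdvd ((padicValNat_dvd_iff_le hi0).2 hcon)
  exact (padicValNat_dvd_iff_le hC0).2 (by omega)

/-- Stacks 10.46.5-type statement: `p`-power radical elements with bounded denominators are
closed under addition. -/
theorem add_pow_mem {B : Type*} [CommRing B] (R : Subring B) {p : ℕ} (hp : p.Prime) {n : ℕ}
    {x y : B} (hx1 : (p : B) ^ n * x ∈ R) (hx2 : x ^ (p ^ n) ∈ R) (hy1 : (p : B) ^ n * y ∈ R)
    (hy2 : y ^ (p ^ n) ∈ R) : (x + y) ^ (p ^ (n + 2 * n * p ^ n)) ∈ R := by
  set q := p ^ n with hq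
  set M := n + 2 * n * q with hM
  have hq0 : 0 < q := pow_pos hp.pos n
  rw [add_pow]
  apply Subring.sum_mem
  intro i hi
  rw [Finset.mem_range] at hi
  have hi' : i ≤ p ^ M := Nat.lt_succ_iff.1 hi
  set j := p ^ M - i with hj
  have hij : i + j = p ^ M := by omega
  set r := i % q with hr
  set s := j % q with hs
  have hxi : x ^ i = (x ^ q) ^ (i / q) * x ^ r := by
    rw [← pow_mul, ← pow_add, Nat.div_add_mod]
  have hyj : y ^ j = (y ^ q) ^ (j / q) * y ^ s := by
    rw [← pow_mul, ← pow_add, Nat.div_add_mod]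
  have hmain : x ^ r * y ^ s * ((p ^ M).choose i : B) ∈ R := by
    by_cases hrs : r = 0 ∧ s = 0
    · rw [hrs.1, hrs.2, pow_zero, pow_zero, one_mul, one_mul]
      exact natCast_mem R _
    · have hqM : q ∣ p ^ M := pow_dvd_pow p (by omega)
      have hndvd : ¬ q ∣ i := by
        intro hqi
        apply hrs
        have h1 : r = 0 := Nat.eq_zero_of_dvd_of_lt (by
          rw [hr]; exact (Nat.dvd_mod_iff (dvd_refl q)).2 hqi) (Nat.mod_lt _ hq0)
        have hqj : q ∣ j := by
          have : q ∣ i + j := hij ▸ hqM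
          exact (Nat.dvd_add_right hqi).1 this
        have h2 : s = 0 := Nat.eq_zero_of_dvd_of_lt (by
          rw [hs]; exact (Nat.dvd_mod_iff (dvd_refl q)).2 hqj) (Nat.mod_lt _ hq0)
        exact ⟨h1, h2⟩
      have hdiv := pow_dvd_choose hp (show n ≤ M by omega) hi' hndvd
      have hr_lt : r < q := Nat.mod_lt _ hq0
      have hs_lt : s < q := Nat.mod_lt _ hq0
      have hle : n * r + n * s ≤ M - n + 1 := by
        have : M - n = 2 * n * q := by omega
        rw [this]
        nlinarith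
      obtain ⟨c', hc'⟩ := (pow_dvd_pow p hle).trans hdiv
      rw [hc']
      push_cast
      have : x ^ r * y ^ s * ((p : B) ^ (n * r + n * s) * (c' : B)) =
          ((p : B) ^ n * x) ^ r * ((p : B) ^ n * y) ^ s * (c' : B) := by
        rw [pow_add, pow_mul, pow_mul, mul_pow, mul_pow]
        ring
      rw [this]
      exact R.mul_mem (R.mul_mem (R.pow_mem hx1 r) (R.pow_mem hy1 s)) (natCast_mem R _)
  have : x ^ i * y ^ (p ^ M - i) * ((p ^ M).choose i : B) =
      (x ^ q) ^ (i / q) * (y ^ q) ^ (j / q) * (x ^ r * y ^ s * ((p ^ M).choose i : B)) := by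
    rw [← hj, hxi, hyj]
    ring
  rw [this]
  exact R.mul_mem (R.mul_mem (R.pow_mem hx2 _) (R.pow_mem hy2 _)) hmain

end Groth.Agent.Helper7.PPow
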