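import Groth.Agent.Helper7.UHRing
import Groth.Agent.Helper7.PPow

set_option autoImplicit false
universe u
open AlgebraicGeometry CategoryTheory Polynomial

namespace Groth.Agent.Helper7.PPowUH

open Groth.Agent.Helper7.UHRing Groth.Agent.Helper7.UHTower Groth.Agent.Helper7.UHStep
  Groth.Agent.Helper6.EtaSN Groth.Agent.Helper6.EtaSN2

section Alg

variable {A B : Type u} [CommRing A] [CommRing B] [Algebra A B] (p : ℕ)

/-- `p^n b` and `b^(p^n)` come from `A`. -/
def Good (b : B) (n : ℕ) : Prop :=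
  (p : B) ^ n * b ∈ (algebraMap A B).range ∧ b ^ (p ^ n) ∈ (algebraMap A B).range

variable {p}

theorem Good.mono {b : B} {n m : ℕ} (h : Good (A := A) p b n) (hnm : n ≤ m) :
    Good (A := A) p b m := by
  obtain ⟨k, rfl⟩ := Nat.exists_eq_add_of_le hnm
  constructor
  · rw [pow_add, mul_comm ((p : B) ^ n), mul_assoc]
    exact Subring.mul_mem _ (Subring.pow_mem _ (natCast_mem _ p) k) h.1
  · rw [pow_add, pow_mul]
    exact Subring.pow_mem _ h.2 _

variable (A B p) in
/-- The `p`-radical closure with bounded denominators. -/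
def pSub (hp : p.Prime) : Subalgebra A B where
  carrier := {b | ∃ n, Good (A := A) p b n}
  mul_mem' := by
    rintro b b' ⟨n, hn⟩ ⟨n', hn'⟩
    refine ⟨n + n', ?_, ?_⟩
    · have : (p : B) ^ (n + n') * (b * b') = ((p : B) ^ n * b) * ((p : B) ^ n' * b') := by
        rw [pow_add]; ring
      rw [this]
      exact Subring.mul_mem _ hn.1 hn'.1
    · rw [mul_pow]
      exact Subring.mul_mem _ (hn.mono (Nat.le_add_right n n')).2 (hn'.mono (Nat.le_add_left n' n)).2
  add_mem' := by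
    rintro b b' ⟨n, hn⟩ ⟨n', hn'⟩
    have h1 := hn.mono (le_max_left n n')
    have h2 := hn'.mono (le_max_right n n')
    set m := max n n' with hm
    refine ⟨m + 2 * m * p ^ m, ?_, ?_⟩
    · have h3 := (h1.mono (Nat.le_add_right m (2 * m * p ^ m))).1
      have h4 := (h2.mono (Nat.le_add_right m (2 * m * p ^ m))).1
      rw [mul_add]
      exact Subring.add_mem _ h3 h4
    · exact Groth.Agent.Helper7.PPow.add_pow_mem _ hp h1.1 h1.2 h2.1 h2.2
  algebraMap_mem' := by
    intro a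
    refine ⟨0, ?_, ?_⟩
    · rw [pow_zero, one_mul]; exact ⟨a, rfl⟩
    · rw [pow_zero, pow_one]; exact ⟨a, rfl⟩

theorem mem_pSub (hp : p.Prime) {b : B} : b ∈ pSub A B p hp ↔ ∃ n, Good (A := A) p b n := Iff.rfl

theorem pow_mem_of_sq_cube (C : Subalgebra A B) {b : B} (hb2 : b ^ 2 ∈ C) (hb3 : b ^ 3 ∈ C) :
    ∀ m, 2 ≤ m → b ^ m ∈ C := by
  intro m
  induction m using Nat.strong_induction_on with
  | _ m ih =>
    intro hm
    rcases Nat.lt_or_ge m 4 with h4 | h4
    · interval_cases m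
      · exact hb2
      · exact hb3
    · have := ih (m - 2) (by omega) (by omega)
      have h2 : b ^ m = b ^ (m - 2) * b ^ 2 := by
        rw [← pow_add]; congr 1; omega
      rw [h2]
      exact C.mul_mem this hb2

/-- The main closure statement. -/
theorem pSub_eq_top (hp : p.Prime)
    (hU : FlatMor.IsUnivHomeo (Spec.map (CommRingCat.ofHom (algebraMap A B))))
    (hden : ∀ b : B, ∃ n : ℕ, (p : B) ^ n * b ∈ (algebraMap A B).range) :
    pSub A B p hp = ⊤ := by
  have hint : Algebra.IsIntegral A B := ⟨isIntegral_of_isUnivHomeo _ hU⟩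
  obtain ⟨hbij, hres⟩ := of_isUnivHomeo_SpecMap' (algebraMap A B) hU
  have hPI : ∀ (q : Ideal B) [q.IsPrime] (b : B), ∃ (ℓ n : ℕ) (a t : A),
      (ℓ = 1 ∨ (ℓ.Prime ∧ True ∧ (ℓ : B) ∈ q)) ∧ t ∉ q.comap (algebraMap A B) ∧
        algebraMap A B t * b ^ (ℓ ^ n) - algebraMap A B a ∈ q := by
    intro q hq b
    exact exists_of_isPurelyInseparable (algebraMap A B) q (hres ⟨q, hq⟩) b
  refine subalgebra_eq_top _ (hcomap_of_isUnivHomeo hU) (fun _ => True) hPI ?_ ?_
  · -- sq-cube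
    intro b hb2 hb3
    obtain ⟨n₀, hn₀⟩ := hden b
    have hpow := pow_mem_of_sq_cube _ hb2 hb3
    by_cases h0 : n₀ = 0
    · subst h0
      rw [pow_zero, one_mul] at hn₀
      obtain ⟨a, rfl⟩ := hn₀
      exact Subalgebra.algebraMap_mem _ a
    · have h2 : 2 ≤ p ^ n₀ := by
        calc 2 ≤ p := hp.two_le
          _ = p ^ 1 := (pow_one p).symm
          _ ≤ p ^ n₀ := Nat.pow_le_pow_right hp.pos (Nat.one_le_iff_ne_zero.2 h0)
      obtain ⟨n', hn'⟩ := hpow (p ^ n₀) h2
      refine ⟨n₀ + n', ?_, ?_⟩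
      · rw [pow_add, mul_comm ((p : B) ^ n₀), mul_assoc]
        exact Subring.mul_mem _ (Subring.pow_mem _ (natCast_mem _ p) n') hn₀
      · rw [pow_add, pow_mul]
        exact hn'.2
  · -- prime step
    intro ℓ b hℓ _ hb1 hb2
    obtain ⟨n₀, hn₀⟩ := hden b
    by_cases hℓp : ℓ = p
    · subst hℓp
      obtain ⟨n', hn'⟩ := hb2
      have h1 : Good (A := A) ℓ b n₀ ∨ True := Or.inr trivial
      refine ⟨max n₀ (n' + 1), ?_, ?_⟩
      · obtain ⟨k, hk⟩ := Nat.exists_eq_add_of_le (le_max_left n₀ (n' + 1))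
        rw [hk, pow_add, mul_comm ((ℓ : B) ^ n₀), mul_assoc]
        exact Subring.mul_mem _ (Subring.pow_mem _ (natCast_mem _ ℓ) k) hn₀
      · obtain ⟨k, hk⟩ := Nat.exists_eq_add_of_le (le_max_right n₀ (n' + 1))
        rw [hk, pow_add, pow_mul, pow_succ', pow_mul]
        exact Subring.pow_mem _ hn'.2 _
    · have hcop : IsCoprime (ℓ : ℤ) ((p ^ n₀ : ℕ) : ℤ) := by
        rw [Int.isCoprime_iff_gcd_eq_one, Int.gcd_natCast_natCast]
        exact Nat.Coprime.pow_right n₀ ((Nat.coprime_primes hℓ hp).2 hℓp)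
      obtain ⟨u, v, huv⟩ := hcop
      have hb : b = (u : B) * ((ℓ : B) * b) + (v : B) * ((p : B) ^ n₀ * b) := by
        have h1 : ((u * (ℓ : ℤ) + v * ((p ^ n₀ : ℕ) : ℤ) : ℤ) : B) = 1 := by
          rw [huv]; simp
        push_cast at h1
        calc b = 1 * b := (one_mul b).symm
          _ = ((u : B) * (ℓ : B) + (v : B) * (p : B) ^ n₀) * b := by rw [h1]
          _ = _ := by ring
      rw [hb]
      refine Subalgebra.add_mem _ (Subalgebra.mul_mem _ (intCast_mem _ u) hb1)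
        (Subalgebra.mul_mem _ (intCast_mem _ v) ?_)
      obtain ⟨a, ha⟩ := hn₀
      rw [← ha]
      exact Subalgebra.algebraMap_mem _ a

end Alg

section Main

variable {A B : Type u} [CommRing A] [CommRing B]

theorem isUH_of_good (φ : A →+* B) (p : ℕ) (hp : p.Prime)
    (hnil : ∀ a ∈ RingHom.ker φ, IsNilpotent a)
    (hgood : ∀ b : B, ∃ n : ℕ, (p ^ n : B) * b ∈ φ.range ∧ b ^ (p ^ n) ∈ φ.range) : IsUH φ := by
  refine ⟨?_, ?_, fun a ha => hnil a ha⟩
  · intro b
    obtain ⟨n, -, ⟨a, ha⟩⟩ := hgood b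
    refine ⟨X ^ (p ^ n) - C a, monic_X_pow_sub_C a (pow_ne_zero _ hp.ne_zero), ?_⟩
    rw [eval₂_sub, eval₂_X_pow, eval₂_C, ha, sub_self]
  · intro K _ h₁ h₂ heq
    ext b
    obtain ⟨n, ⟨a₁, ha₁⟩, ⟨a₂, ha₂⟩⟩ := hgood b
    by_cases hp0 : (p : K) = 0
    · haveI : Fact p.Prime := ⟨hp⟩
      haveI : CharP K p := (CharP.charP_iff_prime_eq_zero hp).2 hp0
      apply iterateFrobenius_inj K p n
      rw [iterateFrobenius_def, iterateFrobenius_def, ← map_pow, ← map_pow, ← ha₂]
      exact RingHom.congr_fun heq a₂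
    · have h1 : (p : K) ^ n * h₁ b = (p : K) ^ n * h₂ b := by
        have e1 : h₁ ((p ^ n : B) * b) = (p : K) ^ n * h₁ b := by
          rw [map_mul, map_pow, map_natCast]
        have e2 : h₂ ((p ^ n : B) * b) = (p : K) ^ n * h₂ b := by
          rw [map_mul, map_pow, map_natCast]
        rw [← e1, ← e2, ← ha₁]
        exact RingHom.congr_fun heq a₁
      exact mul_left_cancel₀ (pow_ne_zero n hp0) h1

theorem s0418 (φ : A →+* B) (p : ℕ) (hp : p.Prime)
    (h : Function.Bijective (Localization.awayMap φ (p : A))) :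
    FlatMor.IsUnivHomeo (Spec.map (CommRingCat.ofHom φ)) ↔
      (∀ a ∈ RingHom.ker φ, IsNilpotent a) ∧
        ∀ b : B, ∃ n : ℕ, (p ^ n : B) * b ∈ φ.range ∧ b ^ (p ^ n) ∈ φ.range := by
  constructor
  · intro hU
    refine ⟨fun a ha => isNilpotent_of_mem_ker_of_isUnivHomeo φ hU a ha, ?_⟩
    letI := φ.toAlgebra
    have hden : ∀ b : B, ∃ n : ℕ, (p : B) ^ n * b ∈ (algebraMap A B).range := by
      intro b
      obtain ⟨a, m, ham⟩ := Localization.awayMap_surjective_iff.1 h.2 b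
      refine ⟨m, a, ?_⟩
      rw [map_natCast] at ham
      exact ham
    have htop := pSub_eq_top (A := A) (B := B) hp hU hden
    intro b
    have hb : b ∈ pSub A B p hp := by rw [htop]; trivial
    obtain ⟨n, hn⟩ := hb
    exact ⟨n, hn.1, hn.2⟩
  · rintro ⟨hnil, hgood⟩
    exact (isUH_iff φ).1 (isUH_of_good φ p hp hnil hgood)

end Main

end Groth.Agent.Helper7.PPowUH
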