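import Mathlib
import Groth.Agent.Helper7.PSCanD
import Groth.Agent.S15009

set_option autoImplicit false
universe u

/-!
# Normal form of rank-one torsion-free modules over `A ⊆ k⟦X⟧`
-/

namespace Groth.Agent.Helper7.PSCan

open PowerSeries Function
open Groth.Agent.Helper6.TFC Groth.Agent.Helper7.CanDu

variable {k : Type u} [Field k] {A : Subalgebra k (PowerSeries k)}

/-- the combinatorial bound on the conductor of a semimodule -/
theorem conductor_le (Γ S : Set ℕ) [DecidablePred (· ∈ Γ)] [DecidablePred (· ∈ S)]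
    (hΓS : ∀ a ∈ Γ, ∀ s ∈ S, a + s ∈ S) (c' : ℕ) (hc'0 : c' ≠ 0)
    (hc'1 : c' - 1 ∉ S) :
    c' ≤ ((Finset.range c').filter (fun i => i ∉ Γ)).card +
      ((Finset.range c').filter (fun i => i ∉ S)).card := by
  have h1 := Finset.card_filter_add_card_filter_not (s := Finset.range c') (fun i => i ∈ Γ)
  rw [Finset.card_range] at h1
  have h2 : ((Finset.range c').filter (fun i => i ∈ Γ)).card ≤
      ((Finset.range c').filter (fun i => i ∉ S)).card := by
    apply Finset.card_le_card_of_injOn (fun i => c' - 1 - i)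
    · intro i hi
      rw [Finset.mem_coe, Finset.mem_filter, Finset.mem_range] at hi
      show c' - 1 - i ∈ _
      rw [Finset.mem_coe, Finset.mem_filter, Finset.mem_range]
      refine ⟨by omega, fun hS => hc'1 ?_⟩
      have := hΓS i hi.2 _ hS
      have e : i + (c' - 1 - i) = c' - 1 := by omega
      rwa [e] at this
    · intro i hi j hj hij
      rw [Finset.mem_coe, Finset.mem_filter, Finset.mem_range] at hi hj
      simp only at hij
      omega
  omega

/-- `finrank` from `rl` -/
theorem finrank_eq_of_rl (N : Submodule ↥A (PowerSeries k)) (n : ℕ)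
    (h : rl (N.restrictScalars k) ⊤ = (n : ℕ∞)) :
    Module.finrank k (PowerSeries k ⧸ N.restrictScalars k) = n := by
  rw [rl_top_eq_length, Module.length_eq_rank] at h
  rw [Module.finrank]
  have := congrArg ENat.toNat h
  simpa using this

theorem ordGE_eq_map (j : ℕ) :
    (ordGE A j).restrictScalars k =
      (⊤ : Submodule k (PowerSeries k)).map
        ((LinearMap.mulLeft ↥A ((X : PowerSeries k) ^ j)).restrictScalars k) := by
  ext f
  rw [Submodule.restrictScalars_mem, mem_ordGE, Submodule.mem_map]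
  constructor
  · intro hf
    obtain ⟨g, rfl⟩ := exists_eq_X_pow_mul hf
    exact ⟨g, trivial, rfl⟩
  · rintro ⟨g, -, rfl⟩
    show (j : ℕ∞) ≤ order ((X : PowerSeries k) ^ j * g)
    rw [order_mul, order_X_pow]
    exact le_self_add

theorem mulLeft_injective (j : ℕ) :
    Injective ((LinearMap.mulLeft ↥A ((X : PowerSeries k) ^ j)).restrictScalars k) := by
  intro a b hab
  have h : (X : PowerSeries k) ^ j * a = (X : PowerSeries k) ^ j * b := hab
  exact mul_left_cancel₀ (pow_ne_zero _ X_ne_zero) h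

/-- the colength of a shifted module -/
theorem rl_shift (N : Submodule ↥A (PowerSeries k)) (c' : ℕ) (hX : ordGE A c' ≤ N) (j : ℕ) :
    rl ((N.map (LinearMap.mulLeft ↥A ((X : PowerSeries k) ^ j))).restrictScalars k) ⊤ =
      ((gaps N c' + j : ℕ) : ℕ∞) := by
  have hle1 : (N.map (LinearMap.mulLeft ↥A ((X : PowerSeries k) ^ j))).restrictScalars k ≤
      (ordGE A j).restrictScalars k := by
    rw [ordGE_eq_map, Submodule.restrictScalars_map]
    exact Submodule.map_mono le_top
  rw [rl_add hle1 le_top, rl_k_top_eq_gaps (ordGE A j) j le_rfl, gaps_ordGE, ordGE_eq_map,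
    Submodule.restrictScalars_map, rl_map _ (mulLeft_injective j), rl_k_top_eq_gaps N c' hX]
  push_cast
  rfl


/-- S15023 -/
theorem s15023 (k : Type u) [Field k] [IsAlgClosed k] (A : Subalgebra k (PowerSeries k))
    (hA : Module.Finite ↥A (PowerSeries k))
    (hbir : ∀ f : PowerSeries k, ∃ a ∈ A, a ≠ 0 ∧ a * f ∈ A) (Γ : Set ℕ)
    (hΓ : ∀ n : ℕ, n ∈ Γ ↔ ∃ f ∈ A, PowerSeries.order f = n)
    (M : Type u) [AddCommGroup M] [Module ↥A M] [Module.Finite ↥A M] [NoZeroSMulDivisors ↥A M]
    (hrk : Module.finrank (FractionRing ↥A) (TensorProduct ↥A (FractionRing ↥A) M) = 1) :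
    ∃ M' : Submodule ↥A (PowerSeries k),
      (Ideal.span {(PowerSeries.X : PowerSeries k) ^ (2 * Γᶜ.ncard)}).restrictScalars ↥A ≤ M' ∧
      Nonempty (M ≃ₗ[↥A] ↥M') ∧
      Module.finrank k (PowerSeries k ⧸ M'.restrictScalars k) = Γᶜ.ncard := by
  classical
  haveI := isNoetherianRing A hA
  haveI := isLocalRing A hA
  have hdim := ringKrullDim_eq_one A hA
  haveI := isAlgClosed_residueField (A := A) hA
  obtain ⟨c, hcond⟩ := exists_conductor hA hbir
  haveI : IsFractionRing ↥A (FractionRing (PowerSeries k)) := isFractionRing A c hcond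
  have hfin : Module.Finite ↥A ↥(integralClosure ↥A (FractionRing (PowerSeries k))) :=
    finite_integralClosure hA
  have hn : Module.finrank (FractionRing (PowerSeries k))
      (TensorProduct ↥A (FractionRing (PowerSeries k)) M) = 1 := by
    rw [(TensorProduct.isBaseChange ↥A M (FractionRing (PowerSeries k))).finrank_eq, ← hrk,
      (TensorProduct.isBaseChange ↥A M (FractionRing ↥A)).finrank_eq]
  obtain ⟨M1, h1, h2, ⟨e⟩⟩ := Groth.Agent.S15009.result ↥A hdim
    (FractionRing (PowerSeries k)) hfin M 1 hn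
  -- pull back to `k⟦X⟧`
  let ι : PowerSeries k →ₗ[↥A] (Fin 1 → FractionRing (PowerSeries k)) :=
    LinearMap.pi (fun _ => (Algebra.linearMap (PowerSeries k)
      (FractionRing (PowerSeries k))).restrictScalars ↥A)
  have hιapp : ∀ (f : PowerSeries k) (i : Fin 1),
      ι f i = algebraMap (PowerSeries k) (FractionRing (PowerSeries k)) f := fun f i => rfl
  have hι : Injective ι := by
    intro a b hab
    have := congrFun hab 0
    rw [hιapp, hιapp] at this
    exact IsFractionRing.injective _ _ this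
  have hrange : M1 ≤ LinearMap.range ι := by
    intro v hv
    have hv2 := h2 hv
    rw [Submodule.mem_pi] at hv2
    obtain ⟨g, hg⟩ := exists_of_mem_integralClosure (v 0) (hv2 0 trivial)
    refine ⟨g, ?_⟩
    funext i
    rw [hιapp, hg, Subsingleton.elim i 0]
  have h1M0 : (1 : PowerSeries k) ∈ M1.comap ι := by
    rw [Submodule.mem_comap]
    apply h1
    rw [Submodule.mem_pi]
    intro i _
    rw [hιapp, map_one]
    exact Submodule.one_le.1 le_rfl
  obtain ⟨M0, hM0⟩ : ∃ M0 : Submodule ↥A (PowerSeries k), M0 = M1.comap ι := ⟨_, rfl⟩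
  have e0 : ↥M0 ≃ₗ[↥A] ↥M1 := by
    rw [hM0]
    exact Submodule.comap_equiv_self_of_inj_of_le hι hrange
  rw [← hM0] at h1M0
  have hAM0 : ∀ f ∈ A, f ∈ M0 := by
    intro f hf
    have : f = (⟨f, hf⟩ : ↥A) • (1 : PowerSeries k) := by
      rw [Subalgebra.smul_def, smul_eq_mul, mul_one]
    rw [this]
    exact M0.smul_mem _ h1M0
  have hXn : ∀ n, c ≤ n → (X : PowerSeries k) ^ n ∈ A := by
    intro n hn
    apply hcond
    rw [order_X_pow]
    exact_mod_cast hn
  have hΓS : ∀ n ∈ Γ, n ∈ vset M0 := by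
    intro n hn
    obtain ⟨f, hf, hfo⟩ := (hΓ n).1 hn
    exact ⟨f, hAM0 f hf, hfo⟩
  have hall : ∃ c', ∀ n, c' ≤ n → n ∈ vset M0 :=
    ⟨c, fun n hn => ⟨X ^ n, hAM0 _ (hXn n hn), order_X_pow n⟩⟩
  obtain ⟨c', hc'def⟩ : ∃ c', c' = Nat.find hall := ⟨_, rfl⟩
  have hc' : ∀ n, c' ≤ n → n ∈ vset M0 := by
    rw [hc'def]; exact Nat.find_spec hall
  have hc'min : c' ≠ 0 → c' - 1 ∉ vset M0 := by
    intro h0 hmem
    have : c' ≤ c' - 1 := by
      rw [hc'def]
      apply Nat.find_min' hall
      intro n hn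
      rw [← hc'def] at hn
      rcases Nat.eq_or_lt_of_le hn with h | h
      · rw [← h]; exact hmem
      · exact hc' n (by omega)
    omega
  have hsemi : ∀ a ∈ Γ, ∀ s ∈ vset M0, a + s ∈ vset M0 := by
    intro a ha s hs
    obtain ⟨f, hf, hfo⟩ := (hΓ a).1 ha
    obtain ⟨m, hm, hmo⟩ := hs
    refine ⟨(⟨f, hf⟩ : ↥A) • m, M0.smul_mem _ hm, ?_⟩
    rw [Subalgebra.smul_def, smul_eq_mul, order_mul]
    show order f + order m = _
    rw [hfo, hmo]
    push_cast
    rfl
  have hord : ordGE A c' ≤ M0 := ordGE_le_of_orders hA M0 c' hc'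
  -- counting
  have hΓc : Γᶜ ⊆ ↑(Finset.range c) := by
    intro n hn
    rw [Finset.coe_range, Set.mem_Iio]
    by_contra hcn
    push Not at hcn
    exact hn ((hΓ n).2 ⟨X ^ n, hXn n hcn, order_X_pow n⟩)
  have hΓfin : Γᶜ.Finite := (Finset.range c).finite_toSet.subset hΓc
  have hG1 : ((Finset.range c').filter (fun i => i ∉ Γ)).card ≤ Γᶜ.ncard := by
    rw [← Set.ncard_coe_finset]
    apply Set.ncard_le_ncard _ hΓfin
    intro i hi
    rw [Finset.mem_coe, Finset.mem_filter] at hi
    exact hi.2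
  have hG2 : gaps M0 c' ≤ ((Finset.range c').filter (fun i => i ∉ Γ)).card := by
    unfold gaps
    apply Finset.card_le_card
    intro i hi
    rw [Finset.mem_filter] at hi ⊢
    exact ⟨hi.1, fun h => hi.2 (hΓS i h)⟩
  have hG3 : c' ≤ ((Finset.range c').filter (fun i => i ∉ Γ)).card + gaps M0 c' := by
    by_cases h0 : c' = 0
    · omega
    · have := conductor_le Γ (vset M0) hsemi c' h0 (hc'min h0)
      unfold gaps
      convert this
  obtain ⟨j, hj⟩ : ∃ j, j = Γᶜ.ncard - gaps M0 c' := ⟨_, rfl⟩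
  have hjd : gaps M0 c' + j = Γᶜ.ncard := by omega
  have hjc : j + c' ≤ 2 * Γᶜ.ncard := by omega
  have hinj : Injective (LinearMap.mulLeft ↥A ((X : PowerSeries k) ^ j)) := by
    intro a b hab
    have h : (X : PowerSeries k) ^ j * a = (X : PowerSeries k) ^ j * b := hab
    exact mul_left_cancel₀ (pow_ne_zero _ X_ne_zero) h
  refine ⟨M0.map (LinearMap.mulLeft ↥A ((X : PowerSeries k) ^ j)), ?_, ?_, ?_⟩
  · intro f hf
    rw [Submodule.restrictScalars_mem, Ideal.mem_span_singleton'] at hf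
    obtain ⟨a, rfl⟩ := hf
    rw [Submodule.mem_map]
    refine ⟨(X : PowerSeries k) ^ (2 * Γᶜ.ncard - j) * a, hord ?_, ?_⟩
    · rw [mem_ordGE, order_mul, order_X_pow]
      refine le_trans ?_ le_self_add
      exact_mod_cast (by omega : c' ≤ 2 * Γᶜ.ncard - j)
    · show (X : PowerSeries k) ^ j * ((X : PowerSeries k) ^ (2 * Γᶜ.ncard - j) * a) = _
      rw [← mul_assoc, ← pow_add, mul_comm]
      congr 2
      omega
  · exact ⟨e.trans (e0.symm.trans (Submodule.equivMapOfInjective _ hinj M0))⟩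
  · apply finrank_eq_of_rl
    rw [rl_shift M0 c' hord j, hjd]

end Groth.Agent.Helper7.PSCan
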