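import Mathlib
import Groth.Agent.Helper7.PSEval

set_option linter.style.haveILetI false
set_option linter.unusedSectionVars false

/-! A ring `A`, complete along a non-zero-divisor `x` with `A/x` formally smooth over a field, is a
power series ring `(A/x)[[T]]`. -/

namespace Groth.Agent.Helper7.PSOne

universe u

section
variable {B A : Type*} [CommRing B] [CommRing A] [Algebra B A] (x : A)
  (π : A →+* B) (hπ : ∀ b, π (algebraMap B A b) = b) (hker : RingHom.ker π = Ideal.span {x})
  (ψ : PowerSeries B →ₐ[B] A) (hψ : ψ PowerSeries.X = x)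

include hπ hker hψ

theorem π_ψ (f : PowerSeries B) : π (ψ f) = PowerSeries.constantCoeff f := by
  have hx0 : π x = 0 := by
    rw [← RingHom.mem_ker, hker]; exact Ideal.mem_span_singleton_self x
  conv_lhs => rw [PowerSeries.eq_X_mul_shift_add_const f]
  rw [map_add, map_mul, hψ, map_add, map_mul, hx0, zero_mul, zero_add]
  have : ψ (PowerSeries.C (PowerSeries.constantCoeff f)) =
      algebraMap B A (PowerSeries.constantCoeff f) := by
    rw [← ψ.commutes]; rfl
  rw [this, hπ]

theorem coeff_eq_zero (hx : x ∈ nonZeroDivisors A) :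
    ∀ (n : ℕ) (f : PowerSeries B), ψ f = 0 → PowerSeries.coeff n f = 0 := by
  intro n
  induction n with
  | zero =>
    intro f hf
    rw [PowerSeries.coeff_zero_eq_constantCoeff_apply, ← π_ψ x π hπ hker ψ hψ f, hf, map_zero]
  | succ n ih =>
    intro f hf
    have h0 : PowerSeries.constantCoeff f = 0 := by
      rw [← π_ψ x π hπ hker ψ hψ f, hf, map_zero]
    have hf' := PowerSeries.eq_X_mul_shift_add_const f
    rw [h0, map_zero, add_zero] at hf'
    have h1 : x * ψ (PowerSeries.mk fun p => PowerSeries.coeff (p + 1) f) = 0 := by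
      rw [← hψ, ← map_mul, ← hf', hf]
    have h2 : ψ (PowerSeries.mk fun p => PowerSeries.coeff (p + 1) f) = 0 :=
      (mem_nonZeroDivisors_iff.mp hx).1 _ h1
    have := ih _ h2
    rwa [PowerSeries.coeff_mk] at this

theorem injective (hx : x ∈ nonZeroDivisors A) : Function.Injective ψ := by
  rw [injective_iff_map_eq_zero]
  intro f hf
  ext n
  rw [coeff_eq_zero x π hπ hker ψ hψ hx n f hf, map_zero]

theorem exists_step (a : A) : ∃ a' : A, a - algebraMap B A (π a) = x * a' := by
  have : a - algebraMap B A (π a) ∈ RingHom.ker π := by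
    rw [RingHom.mem_ker, map_sub, hπ, sub_self]
  rw [hker, Ideal.mem_span_singleton'] at this
  obtain ⟨a', ha'⟩ := this
  exact ⟨a', by rw [← ha', mul_comm]⟩

theorem surjective [IsHausdorff (Ideal.span {x}) A] : Function.Surjective ψ := by
  classical
  choose step hstep using exists_step x π hπ hker ψ hψ
  have key : ∀ (n : ℕ) (a : A),
      ψ (PowerSeries.mk fun i => π (step^[i] a)) - a ∈ Ideal.span {x} ^ n := by
    intro n
    induction n with
    | zero => intro a; rw [pow_zero, Ideal.one_eq_top]; trivial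
    | succ n ih =>
      intro a
      have h1 : (PowerSeries.mk fun i => π (step^[i] a)) =
          PowerSeries.X * (PowerSeries.mk fun i => π (step^[i] (step a))) +
            PowerSeries.C (π a) := by
        have := PowerSeries.eq_X_mul_shift_add_const (PowerSeries.mk fun i => π (step^[i] a))
        rw [this]
        congr 2
        ext p
        simp only [PowerSeries.coeff_mk, Function.iterate_succ_apply]
      have h2 : ψ (PowerSeries.C (π a)) = algebraMap B A (π a) := by
        rw [← ψ.commutes]; rfl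
      have h3 : ψ (PowerSeries.mk fun i => π (step^[i] a)) - a =
          x * (ψ (PowerSeries.mk fun i => π (step^[i] (step a))) - step a) := by
        rw [h1, map_add, map_mul, hψ, h2, mul_sub, ← hstep a]
        ring
      rw [h3, pow_succ']
      exact Ideal.mul_mem_mul (Ideal.mem_span_singleton_self x) (ih (step a))
  intro a
  refine ⟨PowerSeries.mk fun i => π (step^[i] a), ?_⟩
  rw [← sub_eq_zero]
  apply IsHausdorff.haus (I := Ideal.span {x}) inferInstance
  intro n
  rw [SModEq.zero, smul_eq_mul, Ideal.mul_top]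
  exact key n a

end

theorem s15298 (k A : Type u) [Field k]
    [CommRing A] [Algebra k A] [IsNoetherianRing A] (x : A) (hx : x ∈ nonZeroDivisors A)
    [IsAdicComplete (Ideal.span {x}) A] [Algebra.FormallySmooth k (A ⧸ Ideal.span {x})] :
    ∃ e : PowerSeries (A ⧸ Ideal.span {x}) ≃ₐ[k] A,
      e PowerSeries.X = x ∧
      ∀ f : PowerSeries (A ⧸ Ideal.span {x}),
        Ideal.Quotient.mk (Ideal.span {x}) (e f) = PowerSeries.constantCoeff f := by
  obtain ⟨σ, hσ⟩ := Algebra.FormallySmooth.exists_mkₐ_comp_eq_of_isAdicComplete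
    (I := Ideal.span {x}) (AlgHom.id k (A ⧸ Ideal.span {x}))
  letI : Algebra (A ⧸ Ideal.span {x}) A := σ.toRingHom.toAlgebra
  haveI : IsScalarTower k (A ⧸ Ideal.span {x}) A :=
    IsScalarTower.of_algebraMap_eq fun c => (σ.commutes c).symm
  obtain ⟨ψ', hψ'⟩ := Groth.Agent.Helper7.PSEval.exists_algHom_X (k := A ⧸ Ideal.span {x})
    (Ideal.span {x}) (σ := Unit) (fun _ => x) (fun _ => Ideal.mem_span_singleton_self x)
  let ψ : PowerSeries (A ⧸ Ideal.span {x}) →ₐ[A ⧸ Ideal.span {x}] A := ψ'
  have hψ : ψ PowerSeries.X = x := hψ' ()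
  have hπ : ∀ b, Ideal.Quotient.mk (Ideal.span {x}) (algebraMap (A ⧸ Ideal.span {x}) A b) = b := by
    intro b
    exact congr($hσ b)
  have hker : RingHom.ker (Ideal.Quotient.mk (Ideal.span {x})) = Ideal.span {x} :=
    Ideal.mk_ker
  have hinj := injective x (Ideal.Quotient.mk (Ideal.span {x})) hπ hker ψ hψ hx
  have hsurj := surjective x (Ideal.Quotient.mk (Ideal.span {x})) hπ hker ψ hψ
  refine ⟨AlgEquiv.ofBijective (ψ.restrictScalars k) ⟨hinj, hsurj⟩, hψ, fun f => ?_⟩
  exact π_ψ x (Ideal.Quotient.mk (Ideal.span {x})) hπ hker ψ hψ f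

end Groth.Agent.Helper7.PSOne
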