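import Mathlib
import Groth.Prelude.Def_GLin2

/-!
# Restriction of a comodule structure to a sub-bialgebra

`ι : C → H` an injective bialgebra map over a field, `V` an `H`-comodule, `j : V' → V` an injective
linear map such that the coaction of `V` maps `j V'` into `j V' ⊗ ι C`.  Then `V'` carries a unique
`C`-comodule structure compatible with `j` and `ι`.
-/

set_option autoImplicit false

namespace Groth.Agent.Helper7.PUni

open TensorProduct HopfRep

universe u v v' w w'

section Restrict

variable {k : Type u} [Field k] {H : Type v} [CommRing H] [Bialgebra k H]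
  {C : Type v'} [CommRing C] [Bialgebra k C] (ι : C →ₐc[k] H) (hι : Function.Injective ι)
  {V : Type w} [AddCommGroup V] [Module k V] [Comod k H V]
  {V' : Type w'} [AddCommGroup V'] [Module k V'] (j : V' →ₗ[k] V) (hj : Function.Injective j)

/-- the linear map underlying `ι` -/
abbrev ιL : C →ₗ[k] H := (ι : C →ₗ[k] H)

omit [Comod k H V] in
include hι hj in
lemma map_injective : Function.Injective (TensorProduct.map j (ιL ι)) :=
  TensorProduct.map_injective_of_flat_flat j (ιL ι) hj hι

omit [Comod k H V] in
include hι hj in
lemma map_map_injective :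
    Function.Injective (TensorProduct.map j (TensorProduct.map (ιL ι) (ιL ι))) :=
  TensorProduct.map_injective_of_flat_flat j _ hj
    (TensorProduct.map_injective_of_flat_flat (ιL ι) (ιL ι) hι hι)

variable (hres : ∀ v', Comod.coact (k := k) (A := H) (j v') ∈
  LinearMap.range (TensorProduct.map j (ιL ι)))

/-- the restricted coaction -/
noncomputable def resCoact : V' →ₗ[k] V' ⊗[k] C :=
  (LinearEquiv.ofInjective _ (map_injective ι hι j hj)).symm.toLinearMap ∘ₗ
    ((Comod.coact (k := k) (A := H)) ∘ₗ j).codRestrict _ (fun v' => hres v')

lemma map_resCoact (v' : V') :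
    TensorProduct.map j (ιL ι) (resCoact ι hι j hj hres v') =
      Comod.coact (k := k) (A := H) (j v') := by
  unfold resCoact
  simp only [LinearMap.coe_comp, LinearEquiv.coe_coe, Function.comp_apply]
  have := LinearEquiv.apply_symm_apply (LinearEquiv.ofInjective _ (map_injective ι hι j hj))
    (((Comod.coact (k := k) (A := H)) ∘ₗ j).codRestrict _ (fun v' => hres v') v')
  have h2 := congrArg Subtype.val this
  simpa using h2

omit [Comod k H V] in
lemma auxR1 (g : V' →ₗ[k] V' ⊗[k] C) (gH : V →ₗ[k] V ⊗[k] H)
    (hg : ∀ v', TensorProduct.map j (ιL ι) (g v') = gH (j v')) (y : V' ⊗[k] C) :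
    TensorProduct.map j (TensorProduct.map (ιL ι) (ιL ι))
      ((TensorProduct.assoc k V' C C) (LinearMap.rTensor C g y)) =
    (TensorProduct.assoc k V H H) (LinearMap.rTensor H gH (TensorProduct.map j (ιL ι) y)) := by
  induction y using TensorProduct.induction_on with
  | zero => simp
  | tmul v' c =>
    rw [LinearMap.rTensor_tmul, TensorProduct.map_tmul, LinearMap.rTensor_tmul, ← hg]
    generalize g v' = z
    induction z using TensorProduct.induction_on with
    | zero => simp
    | tmul v'' d => simp
    | add a b ha hb => simp only [map_add, TensorProduct.add_tmul, ha, hb]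
  | add a b ha hb => simp only [map_add, ha, hb]

omit [Comod k H V] in
lemma auxR2 (y : V' ⊗[k] C) :
    TensorProduct.map j (TensorProduct.map (ιL ι) (ιL ι))
      (LinearMap.lTensor V' (CoalgebraStruct.comul (R := k) (A := C)) y) =
    LinearMap.lTensor V (CoalgebraStruct.comul (R := k) (A := H))
      (TensorProduct.map j (ιL ι) y) := by
  have hφ : TensorProduct.map (ιL ι) (ιL ι) ∘ₗ CoalgebraStruct.comul =
      CoalgebraStruct.comul ∘ₗ (ιL ι) := CoalgHomClass.map_comp_comul ι
  induction y using TensorProduct.induction_on with
  | zero => simp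
  | tmul v' c =>
    simp only [LinearMap.lTensor_tmul, TensorProduct.map_tmul]
    congr 1
    exact LinearMap.congr_fun hφ c
  | add a b ha hb => simp only [map_add, ha, hb]

omit [Comod k H V] in
lemma auxR3 (y : V' ⊗[k] C) :
    LinearMap.rTensor k j
      (LinearMap.lTensor V' (CoalgebraStruct.counit (R := k) (A := C)) y) =
    LinearMap.lTensor V (CoalgebraStruct.counit (R := k) (A := H))
      (TensorProduct.map j (ιL ι) y) := by
  have hφ : CoalgebraStruct.counit ∘ₗ (ιL ι) = CoalgebraStruct.counit (R := k) (A := C) :=
    CoalgHomClass.counit_comp ι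
  induction y using TensorProduct.induction_on with
  | zero => simp
  | tmul v' c =>
    simp only [LinearMap.lTensor_tmul, TensorProduct.map_tmul, LinearMap.rTensor_tmul]
    congr 1
    exact (LinearMap.congr_fun hφ c).symm
  | add a b ha hb => simp only [map_add, ha, hb]

/-- the restricted comodule structure -/
@[reducible] noncomputable def resComod : Comod k C V' where
  coact := resCoact ι hι j hj hres
  coassoc := by
    apply LinearMap.ext
    intro v'
    apply map_map_injective ι hι j hj
    simp only [LinearMap.coe_comp, Function.comp_apply, LinearEquiv.coe_coe]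
    rw [auxR1 ι j (resCoact ι hι j hj hres) (Comod.coact (k := k) (A := H))
      (map_resCoact ι hι j hj hres), auxR2, map_resCoact]
    have h := LinearMap.congr_fun (Comod.coassoc (k := k) (A := H) (V := V)) (j v')
    simpa using h
  counit_comp := by
    apply LinearMap.ext
    intro v'
    have hinj : Function.Injective (LinearMap.rTensor k j) :=
      Module.Flat.rTensor_preserves_injective_linearMap _ hj
    apply hinj
    simp only [LinearMap.coe_comp, Function.comp_apply]
    rw [auxR3 ι, map_resCoact]
    have h := LinearMap.congr_fun (Comod.counit_comp (k := k) (A := H) (V := V)) (j v')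
    simp only [LinearMap.coe_comp, Function.comp_apply, LinearMap.flip_apply,
      TensorProduct.mk_apply] at h
    rw [h]
    simp

lemma resComod_coact (v' : V') :
    TensorProduct.map j (ιL ι) ((resComod ι hι j hj hres).coact v') =
      Comod.coact (k := k) (A := H) (j v') :=
  map_resCoact ι hι j hj hres v'

end Restrict

section RestrictAlg

variable {k : Type u} [Field k] {H : Type v} [CommRing H] [Bialgebra k H]
  {C : Type v'} [CommRing C] [Bialgebra k C] (ι : C →ₐc[k] H) (hι : Function.Injective ι)
  {R : Type w} [CommRing R] [Algebra k R] [Comod k H R] [GLin.IsCoactAlg k H R]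
  {R' : Type w'} [CommRing R'] [Algebra k R'] (j : R' →ₐ[k] R) (hj : Function.Injective j)
  (hres : ∀ v', Comod.coact (k := k) (A := H) (j.toLinearMap v') ∈
    LinearMap.range (TensorProduct.map j.toLinearMap (ιL ι)))

theorem isCoactAlg_resComod :
    @GLin.IsCoactAlg k _ C _ _ R' _ _ (resComod ι hι j.toLinearMap hj hres) := by
  have hinj := map_injective ι hι j.toLinearMap hj
  have hmap : ∀ z : R' ⊗[k] C, TensorProduct.map j.toLinearMap (ιL ι) z =
      Algebra.TensorProduct.map j (ι : C →ₐ[k] H) z := fun z => rfl
  have hco : ∀ f : R', TensorProduct.map j.toLinearMap (ιL ι)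
      ((resComod ι hι j.toLinearMap hj hres).coact f) = Comod.coact (k := k) (A := H) (j f) :=
    fun f => resComod_coact ι hι j.toLinearMap hj hres f
  refine @GLin.IsCoactAlg.mk k _ C _ _ R' _ _ (resComod ι hι j.toLinearMap hj hres) ?_ ?_
  · apply hinj
    rw [hco, hmap]
    have h1 : (Algebra.TensorProduct.map j (ι : C →ₐ[k] H)) (1 : R' ⊗[k] C) = 1 := map_one _
    have h2 : j (1 : R') = 1 := map_one j
    rw [h1, h2]
    exact GLin.IsCoactAlg.coact_one (k := k) (A := H) (R := R)
  · intro f g
    apply hinj
    rw [hco]
    have h1 : TensorProduct.map j.toLinearMap (ιL ι)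
        ((resComod ι hι j.toLinearMap hj hres).coact f * (resComod ι hι j.toLinearMap hj hres).coact g) =
        TensorProduct.map j.toLinearMap (ιL ι) ((resComod ι hι j.toLinearMap hj hres).coact f) *
        TensorProduct.map j.toLinearMap (ιL ι) ((resComod ι hι j.toLinearMap hj hres).coact g) := by
      rw [hmap, hmap, hmap]; exact map_mul _ _ _
    have h2 : j (f * g) = j f * j g := map_mul j f g
    rw [h1, hco, hco, h2]
    exact GLin.IsCoactAlg.coact_mul (k := k) (A := H) (R := R) _ _

end RestrictAlg

end Groth.Agent.Helper7.PUni
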