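import Mathlib
import Groth.Agent.Helper7.OrbFinC
import Groth.Agent.Helper7.ComodM
import Groth.Agent.Helper7.ComodB
import Groth.Agent.Helper9.LocFin

/-!
# Kostant–Rosenlicht: orbits of a unipotent group on an affine scheme are closed
-/

set_option autoImplicit false
set_option linter.unusedSectionVars false

namespace Groth.Agent.Helper7.PUni

open TensorProduct HopfRep Groth.Agent.Helper9

universe u

section ActHom

variable {k : Type u} [Field k] {C : Type*} [AddCommGroup C] [Module k C] [Coalgebra k C]
  {V V' : Type*} [AddCommGroup V] [Module k V] [Comod k C V]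
  [AddCommGroup V'] [Module k V'] [Comod k C V']

lemma act_map (g : V →ₗ[k] V')
    (hg : ∀ v, Comod.coact (k := k) (A := C) (g v) =
      LinearMap.rTensor C g (Comod.coact (k := k) (A := C) v))
    (φ : C →ₗ[k] k) (v : V) : act k C V' φ (g v) = g (act k C V φ v) := by
  rw [act_apply, act_apply, hg]
  generalize Comod.coact (k := k) (A := C) v = y
  induction y using TensorProduct.induction_on with
  | zero => simp
  | tmul a b => simp
  | add a b ha hb => simp only [map_add, ha, hb]

lemma act_of_fixed (φ : C →ₗ[k] k) (c : C) (v : V)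
    (hv : Comod.coact (k := k) (A := C) v = v ⊗ₜ[k] c) : act k C V φ v = φ c • v := by
  rw [act_apply, hv]
  simp

end ActHom

section KR

variable {k : Type u} [Field k] {C : Type u} [CommRing C] [HopfAlgebra k C]
  {R : Type u} [CommRing R] [Algebra k R] [Comod k C R] [GLin.IsCoactAlg k C R]

theorem ker_orbitHom_le_of_unipotent (hU : IsUnipotent k C) (x p : R →ₐ[k] k)
    (h : GLin.InOrbitClosure k C x p) :
    RingHom.ker (GLin.orbitHom k C p) ≤ RingHom.ker (GLin.orbitHom k C x) := by
  classical
  haveI : Nontrivial C := (Bialgebra.counitAlgHom k C).toRingHom.domain_nontrivial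
  by_contra hcon
  obtain ⟨f, hfp, hfx⟩ := Set.not_subset.mp hcon
  set I : Submodule k R := (RingHom.ker (GLin.orbitHom k C x)).restrictScalars k with hI
  set I' : Submodule k R := (RingHom.ker (GLin.orbitHom k C p)).restrictScalars k with hI'
  have hIsub : IsSubcomod (k := k) (A := C) I := isSubcomod_ker_orbitHom x
  have hI'sub : IsSubcomod (k := k) (A := C) I' := isSubcomod_ker_orbitHom p
  have hII' : I ≤ I' := OrbFin.ker_orbitHom_le x p h
  letI cQ : Comod k C (R ⧸ I) := Comodule.quotComod I hIsub
  have hmk : ∀ v : R, Comod.coact (k := k) (A := C) (I.mkQ v) =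
      LinearMap.rTensor C I.mkQ (Comod.coact (k := k) (A := C) v) := fun v => rfl
  set fb : R ⧸ I := I.mkQ f with hfb
  have hfb0 : fb ≠ 0 := by
    intro h0
    apply hfx
    have : f ∈ I := (Submodule.Quotient.mk_eq_zero I).mp h0
    exact this
  set W : Submodule k (R ⧸ I) := gen k C fb with hW
  have hWsub : IsSubcomod (k := k) (A := C) W := isSubcomod_gen fb
  haveI hWfin : Module.Finite k W := finite_gen fb
  have hfbW : fb ∈ W := mem_gen fb
  haveI : Nontrivial W := ⟨⟨⟨fb, hfbW⟩, 0, fun h0 => hfb0 (congrArg Subtype.val h0)⟩⟩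
  letI cW : Comod k C W := Comodule.subComod W hWsub
  have hfix := hU W hWfin inferInstance
  obtain ⟨w, hwfix, hw0⟩ := Submodule.exists_mem_ne_zero_of_ne_bot hfix
  -- `w.1` is fixed in the quotient
  have hw1 : Comod.coact (k := k) (A := C) (w.1 : R ⧸ I) = (w.1 : R ⧸ I) ⊗ₜ[k] (1 : C) := by
    have h1 := Comodule.rTensor_subCoact W hWsub w
    have h2 : Comodule.subCoact W hWsub w = w ⊗ₜ[k] (1 : C) := hwfix
    rw [h2, LinearMap.rTensor_tmul] at h1
    exact h1.symm
  -- `w.1` is the class of an element of `I'`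
  have hWle : W ≤ Submodule.map I.mkQ I' := by
    rw [hW]
    unfold gen
    rw [Submodule.span_le]
    rintro _ ⟨φ, rfl⟩
    refine ⟨act k C R φ f, ?_, ?_⟩
    · exact (isSubcomod_iff_act I').mp hI'sub φ f hfp
    · exact (act_map I.mkQ hmk φ f).symm
  obtain ⟨v, hvI', hvw⟩ := hWle w.2
  -- the orbit map of `x` is constant at `v`
  have hact : ∀ φ : C →ₗ[k] k, act k C R φ v - φ 1 • v ∈ I := by
    intro φ
    rw [← Submodule.Quotient.mk_eq_zero I]
    show I.mkQ (act k C R φ v - φ 1 • v) = 0
    rw [map_sub, map_smul, ← act_map I.mkQ hmk φ v, hvw, act_of_fixed φ 1 _ hw1, sub_self]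
  have hIx : ∀ g ∈ I, x g = 0 := by
    intro g hg
    have h1 : GLin.orbitHom k C x g = 0 := hg
    have h2 := apply_orbitHom x (Coalgebra.counit (R := k) (A := C)) g
    rw [h1, map_zero, act_counit] at h2
    exact h2.symm
  have hov : GLin.orbitHom k C x v = algebraMap k C (x v) := by
    rw [← sub_eq_zero, ← Module.forall_dual_apply_eq_zero_iff k]
    intro φ
    rw [map_sub, apply_orbitHom]
    have h1 := hIx _ (hact φ)
    rw [map_sub, map_smul, sub_eq_zero] at h1
    rw [h1, Algebra.algebraMap_eq_smul_one, map_smul, smul_eq_mul, smul_eq_mul, mul_comm, sub_self]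
  have hvI : v - algebraMap k R (x v) ∈ I := by
    show GLin.orbitHom k C x (v - algebraMap k R (x v)) = 0
    rw [map_sub, hov, AlgHom.commutes, sub_self]
  have hc : algebraMap k R (x v) ∈ I' := by
    have := I'.sub_mem hvI' (hII' hvI)
    simpa using this
  have hxv : x v = 0 := by
    have h1 : GLin.orbitHom k C p (algebraMap k R (x v)) = 0 := hc
    rw [AlgHom.commutes] at h1
    exact (map_eq_zero_iff _ (algebraMap k C).injective).mp h1
  apply hw0
  apply Subtype.ext
  rw [← hvw]
  show I.mkQ v = 0
  rw [Submodule.mkQ_apply, Submodule.Quotient.mk_eq_zero]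
  have := hvI
  rwa [hxv, map_zero, sub_zero] at this

/-- **Kostant–Rosenlicht**: the orbits of a unipotent algebraic group acting on an affine scheme
of finite type over an algebraically closed field are closed. -/
theorem isClosedOrbit_of_unipotent [IsAlgClosed k] [Algebra.FiniteType k C]
    [Algebra.FiniteType k R] (hU : IsUnipotent k C) (x : R →ₐ[k] k) :
    GLin.IsClosedOrbit k C x := by
  by_contra hncl
  obtain ⟨p, hp, hnot⟩ := OrbFin.exists_point_closure_not_range (GLin.orbitHom k C x) hncl
  have h1 := ker_orbitHom_le_of_unipotent hU x p hp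
  have h2 := OrbFin.ker_orbitHom_le x p hp
  obtain ⟨g, hg⟩ := OrbFin.exists_actPt_of_ker_eq x p (le_antisymm h2 h1)
  exact hnot g hg.symm

end KR

end Groth.Agent.Helper7.PUni
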