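import Mathlib
import Groth.Agent.Helper7.PUniA
import Groth.Agent.Helper7.PUniB
import Groth.Agent.Helper7.FGK2

/-!
# Closed orbits of pro-unipotent groups
-/

set_option autoImplicit false
set_option linter.unusedSectionVars false

namespace Groth.Agent.Helper7.PUni

open TensorProduct HopfRep Groth.Agent.Helper9

universe u

section Unip

variable {k : Type u} [Field k] {H : Type u} [CommRing H] [Bialgebra k H]
  {C : Type u} [CommRing C] [Bialgebra k C]

theorem isUnipotent_of_injective (ι : C →ₐc[k] H) (hι : Function.Injective ι)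
    (hU : IsUnipotent k H) : IsUnipotent k C := by
  intro V _ _ cV hfin hnt
  letI cH : Comod k H V := GLin.comodAlong ι cV
  have h1 := hU V hfin hnt
  obtain ⟨v, hv, hv0⟩ := Submodule.exists_mem_ne_zero_of_ne_bot h1
  intro hbot
  apply hv0
  have hmem : v ∈ fixedPts k C V := by
    show cV.coact v = v ⊗ₜ[k] (1 : C)
    have h2 : TensorProduct.map LinearMap.id (ι : C →ₗ[k] H) (cV.coact v) = v ⊗ₜ[k] (1 : H) := hv
    have hinj : Function.Injective (TensorProduct.map (LinearMap.id : V →ₗ[k] V) (ι : C →ₗ[k] H)) :=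
      TensorProduct.map_injective_of_flat_flat _ _ (fun _ _ h => h) hι
    apply hinj
    rw [h2, TensorProduct.map_tmul]
    simp
  rw [hbot] at hmem
  exact (Submodule.mem_bot k).mp hmem

end Unip

section Inter

variable {k : Type u} [Field k] {V V' H C : Type*} [AddCommGroup V] [Module k V]
  [AddCommGroup V'] [Module k V'] [AddCommGroup H] [Module k H] [AddCommGroup C] [Module k C]

lemma mem_range_map_of_mem (j : V' →ₗ[k] V) (ι : C →ₗ[k] H) (hι : Function.Injective ι)
    (y : V ⊗[k] H) (h1 : y ∈ LinearMap.range (LinearMap.rTensor H j))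
    (h2 : y ∈ LinearMap.range (LinearMap.lTensor V ι)) :
    y ∈ LinearMap.range (TensorProduct.map j ι) := by
  obtain ⟨g, hg⟩ := LinearMap.exists_leftInverse_of_injective ι (LinearMap.ker_eq_bot.mpr hι)
  obtain ⟨y1, rfl⟩ := h1
  obtain ⟨y2, hy2⟩ := h2
  refine ⟨LinearMap.lTensor V' g y1, ?_⟩
  have e1 : ∀ z : V' ⊗[k] H, TensorProduct.map j ι (LinearMap.lTensor V' g z) =
      LinearMap.lTensor V (ι ∘ₗ g) (LinearMap.rTensor H j z) := by
    intro z
    induction z using TensorProduct.induction_on with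
    | zero => simp
    | tmul a b => simp
    | add a b ha hb => simp only [map_add, ha, hb]
  rw [e1, ← hy2]
  have e2 : ∀ z : V ⊗[k] C, LinearMap.lTensor V (ι ∘ₗ g) (LinearMap.lTensor V ι z) =
      LinearMap.lTensor V ι z := by
    intro z
    induction z using TensorProduct.induction_on with
    | zero => simp
    | tmul a b =>
      simp only [LinearMap.lTensor_tmul, LinearMap.comp_apply]
      have := LinearMap.congr_fun hg b
      simp only [LinearMap.comp_apply, LinearMap.id_apply] at this
      rw [this]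
    | add a b ha hb => simp only [map_add, ha, hb]
  exact e2 y2

end Inter

section Good

variable {k : Type u} [Field k] {H : Type u} [CommRing H] [HopfAlgebra k H]
  (B : ℕ → Subalgebra k H) (hmono : Monotone B) (hcov : ∀ h : H, ∃ i, h ∈ B i)
  {A : Type u} [CommRing A] [Algebra k A] [Comod k H A] [GLin.IsCoactAlg k H A]

/-- tensors with right-hand coefficients in `B i` -/
noncomputable def Rg (i : ℕ) : Subalgebra k (A ⊗[k] H) :=
  AlgHom.range (Algebra.TensorProduct.map (AlgHom.id k A) (B i).val)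

/-- tensors with left-hand coefficients in the subalgebra `A'` -/
noncomputable def Lg (A' : Subalgebra k A) : Subalgebra k (A ⊗[k] H) :=
  AlgHom.range (Algebra.TensorProduct.map A'.val (AlgHom.id k H))

include hmono in
lemma Rg_mono {i j : ℕ} (hij : i ≤ j) : Rg B (A := A) i ≤ Rg B j := by
  rintro _ ⟨y, rfl⟩
  refine ⟨Algebra.TensorProduct.map (AlgHom.id k A) (Subalgebra.inclusion (hmono hij)) y, ?_⟩
  induction y using TensorProduct.induction_on with
  | zero => simp
  | tmul a b => simp
  | add a b ha hb => simp only [map_add, ha, hb]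

lemma Lg_mono {A₁ A₂ : Subalgebra k A} (h : A₁ ≤ A₂) : Lg (H := H) A₁ ≤ Lg A₂ := by
  rintro _ ⟨y, rfl⟩
  refine ⟨Algebra.TensorProduct.map (Subalgebra.inclusion h) (AlgHom.id k H) y, ?_⟩
  induction y using TensorProduct.induction_on with
  | zero => simp
  | tmul a b => simp
  | add a b ha hb => simp only [map_add, ha, hb]

include hmono hcov in
lemma Rg_cover (y : A ⊗[k] H) : ∃ i, y ∈ Rg B (A := A) i := by
  induction y using TensorProduct.induction_on with
  | zero => exact ⟨0, zero_mem _⟩
  | tmul a h =>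
    obtain ⟨i, hi⟩ := hcov h
    exact ⟨i, a ⊗ₜ[k] (⟨h, hi⟩ : B i), by simp⟩
  | add y₁ y₂ h₁ h₂ =>
    obtain ⟨i₁, hi₁⟩ := h₁
    obtain ⟨i₂, hi₂⟩ := h₂
    exact ⟨max i₁ i₂, add_mem (Rg_mono B hmono (le_max_left _ _) hi₁)
      (Rg_mono B hmono (le_max_right _ _) hi₂)⟩

/-- elements whose coaction has coefficients in `B i` -/
noncomputable def P (i : ℕ) : Subalgebra k A :=
  Subalgebra.comap (GLin.coactAlgHom k H A) (Rg B i)

/-- elements whose coaction has left-hand coefficients in `A'` -/
noncomputable def Q (A' : Subalgebra k A) : Subalgebra k A :=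
  Subalgebra.comap (GLin.coactAlgHom k H A) (Lg A')

include hmono in
lemma P_mono {i j : ℕ} (hij : i ≤ j) : P B (A := A) i ≤ P B j :=
  fun _ ha => Rg_mono B hmono hij ha

lemma Q_mono {A₁ A₂ : Subalgebra k A} (h : A₁ ≤ A₂) : Q (H := H) A₁ ≤ Q (H := H) A₂ :=
  fun _ ha => Lg_mono h ha

include hmono hcov in
lemma P_cover (a : A) : ∃ i, a ∈ P B i := Rg_cover B hmono hcov _

include hmono hcov in
lemma exists_le_P (W : Submodule k A) (hW : W.FG) : ∃ i, W ≤ Subalgebra.toSubmodule (P B i) := by
  induction W, hW using Submodule.fg_induction with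
  | singleton x =>
    obtain ⟨i, hi⟩ := P_cover B hmono hcov x
    refine ⟨i, ?_⟩
    rw [Submodule.span_le]
    intro y hy
    rw [Set.mem_singleton_iff.mp hy]
    exact hi
  | sup M₁ M₂ _ _ h₁ h₂ =>
    obtain ⟨i₁, hi₁⟩ := h₁
    obtain ⟨i₂, hi₂⟩ := h₂
    refine ⟨max i₁ i₂, sup_le ?_ ?_⟩
    · exact fun x hx => P_mono B hmono (le_max_left _ _) (hi₁ hx)
    · exact fun x hx => P_mono B hmono (le_max_right _ _) (hi₂ hx)

/-- a finitely generated subalgebra, stable under the coaction, with coefficients in some `B i` -/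
def Good (A' : Subalgebra k A) : Prop :=
  A'.FG ∧ A' ≤ Q (H := H) A' ∧ ∃ i, A' ≤ P B i

lemma range_rTensor_le_Lg (W : Submodule k A) (A' : Subalgebra k A)
    (hle : W ≤ Subalgebra.toSubmodule A') (y : A ⊗[k] H)
    (hy : y ∈ LinearMap.range (LinearMap.rTensor H W.subtype)) : y ∈ Lg A' := by
  obtain ⟨z, rfl⟩ := hy
  induction z using TensorProduct.induction_on with
  | zero => simp
  | tmul w h =>
    refine ⟨(⟨w.1, hle w.2⟩ : A') ⊗ₜ[k] h, ?_⟩
    simp
  | add a b ha hb =>
    rw [map_add]
    exact add_mem ha hb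

include hmono hcov in
lemma good_single (a : A) : ∃ A' : Subalgebra k A, Good B A' ∧ a ∈ A' := by
  classical
  set W : Submodule k A := gen k H a with hW
  have hWsub : IsSubcomod (k := k) (A := H) W := isSubcomod_gen a
  haveI hWfin : Module.Finite k W := finite_gen a
  have hWfg : W.FG := Module.Finite.iff_fg.mp hWfin
  obtain ⟨S, hS⟩ := hWfg
  obtain ⟨i, hi⟩ := exists_le_P B hmono hcov W ⟨S, hS⟩
  set A' : Subalgebra k A := Algebra.adjoin k (S : Set A) with hA'
  have hWA' : W ≤ Subalgebra.toSubmodule A' := by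
    rw [← hS]
    exact Algebra.span_le_adjoin k _
  have hSW : (S : Set A) ⊆ W := by
    rw [← hS]; exact Submodule.subset_span
  refine ⟨A', ⟨Subalgebra.fg_adjoin_finset S, ?_, i, ?_⟩, hWA' (mem_gen a)⟩
  · apply Algebra.adjoin_le
    intro s hs
    exact range_rTensor_le_Lg W A' hWA' _ (hWsub s (hSW hs))
  · apply Algebra.adjoin_le
    intro s hs
    exact hi (hSW hs)

include hmono in
lemma good_sup {A₁ A₂ : Subalgebra k A} (h₁ : Good B A₁) (h₂ : Good B A₂) : Good B (A₁ ⊔ A₂) := by
  obtain ⟨f₁, s₁, i₁, hi₁⟩ := h₁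
  obtain ⟨f₂, s₂, i₂, hi₂⟩ := h₂
  refine ⟨f₁.sup f₂, sup_le ?_ ?_, max i₁ i₂, sup_le ?_ ?_⟩
  · exact s₁.trans (Q_mono le_sup_left)
  · exact s₂.trans (Q_mono le_sup_right)
  · exact hi₁.trans (P_mono B hmono (le_max_left _ _))
  · exact hi₂.trans (P_mono B hmono (le_max_right _ _))

include hmono hcov in
lemma good_finset (F : Finset A) : ∃ A' : Subalgebra k A, Good B A' ∧ (F : Set A) ⊆ A' := by
  classical
  induction F using Finset.induction_on with
  | empty =>
    obtain ⟨A', h, -⟩ := good_single B hmono hcov (0 : A)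
    exact ⟨A', h, by simp⟩
  | insert a F _ ih =>
    obtain ⟨A₁, h₁, ha⟩ := good_single B hmono hcov a
    obtain ⟨A₂, h₂, hF⟩ := ih
    refine ⟨A₁ ⊔ A₂, good_sup B hmono h₁ h₂, ?_⟩
    intro y hy
    rw [Finset.coe_insert, Set.mem_insert_iff] at hy
    rcases hy with rfl | hy
    · exact (le_sup_left : A₁ ≤ A₁ ⊔ A₂) ha
    · exact (le_sup_right : A₂ ≤ A₁ ⊔ A₂) (hF hy)

end Good

section OrbRes

variable {k : Type u} [Field k] {H : Type u} [CommRing H] [Bialgebra k H]
  {C : Type u} [CommRing C] [Bialgebra k C] (ι : C →ₐc[k] H) (hι : Function.Injective ι)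
  {R : Type u} [CommRing R] [Algebra k R] [Comod k H R] [GLin.IsCoactAlg k H R]
  {R' : Type u} [CommRing R'] [Algebra k R'] (j : R' →ₐ[k] R) (hj : Function.Injective j)
  (hres : ∀ v', Comod.coact (k := k) (A := H) (j.toLinearMap v') ∈
    LinearMap.range (TensorProduct.map j.toLinearMap (ιL ι)))

theorem orbitHom_res (x : R →ₐ[k] k) (r' : R') :
    letI := resComod ι hι j.toLinearMap hj hres
    haveI := isCoactAlg_resComod ι hι j hj hres
    ι (GLin.orbitHom k C (x.comp j) r') = GLin.orbitHom k H x (j r') := by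
  letI := resComod ι hι j.toLinearMap hj hres
  haveI := isCoactAlg_resComod ι hι j hj hres
  have h1 := resComod_coact ι hι j.toLinearMap hj hres r'
  show ι (TensorProduct.lid k C (TensorProduct.map (x.comp j).toLinearMap LinearMap.id
    (Comod.coact (k := k) (A := C) r'))) =
    TensorProduct.lid k H (TensorProduct.map x.toLinearMap LinearMap.id
      (Comod.coact (k := k) (A := H) (j r')))
  have h2 : Comod.coact (k := k) (A := H) (j r') =
      TensorProduct.map j.toLinearMap (ιL ι) (Comod.coact (k := k) (A := C) r') := h1.symm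
  rw [h2]
  generalize Comod.coact (k := k) (A := C) r' = z
  induction z using TensorProduct.induction_on with
  | zero => simp
  | tmul a b => simp
  | add a b ha hb => simp only [map_add, ha, hb]

end OrbRes

section Main

variable {k : Type u} [Field k] [IsAlgClosed k] {H : Type u} [CommRing H] [HopfAlgebra k H]
  {A : Type u} [CommRing A] [Algebra k A] [Comod k H A] [GLin.IsCoactAlg k H A]

theorem main (hU : IsUnipotent k H)
    (B : ℕ → Subalgebra k H) (hmono : Monotone B) (hcov : ∀ h : H, ∃ i, h ∈ B i)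
    (hfg : ∀ i, (B i).FG)
    (hcomul : ∀ i, ∀ b ∈ B i, CoalgebraStruct.comul (R := k) (A := H) b ∈
      LinearMap.range (TensorProduct.map (B i).val.toLinearMap (B i).val.toLinearMap))
    (hanti : ∀ i, ∀ b ∈ B i, HopfAlgebraStruct.antipode (R := k) (A := H) b ∈ B i)
    (hfree : ∀ i, Module.Free (B i) H)
    (x : A →ₐ[k] k) : GLin.IsClosedOrbit k H x := by
  classical
  haveI : Nontrivial H := (Bialgebra.counitAlgHom k H).toRingHom.domain_nontrivial
  set o := GLin.orbitHom k H x with ho
  have key : ∀ p : PrimeSpectrum A, RingHom.ker o.toRingHom ≤ p.asIdeal →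
      p ∈ Set.range (PrimeSpectrum.comap o.toRingHom) := by
    intro p hp
    rw [PrimeSpectrum.mem_range_comap_iff]
    refine le_antisymm ?_ Ideal.le_comap_map
    intro a ha
    rw [Ideal.mem_comap] at ha
    have ha' : o a ∈ Submodule.span H (o '' (p.asIdeal : Set A)) := ha
    obtain ⟨t, htp, c, hc⟩ := (Submodule.mem_span_image_iff_exists_fun H).mp ha'
    obtain ⟨A', ⟨hA'fg, hA'Q, i, hA'P⟩, hF⟩ := good_finset B hmono hcov (insert a t)
    have haA' : a ∈ A' := hF (by simp)
    have htA' : ∀ l ∈ t, l ∈ A' := fun l hl => hF (by simp [hl])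
    -- the Hopf algebra `B i`
    have hsub : FGK.IsSubHopf (B i).val :=
      ⟨Subtype.val_injective, fun c => hcomul i c c.2, fun c => ⟨⟨_, hanti i c c.2⟩, rfl⟩⟩
    letI : HopfAlgebra k ↥(B i) := FGK.subHopf hsub
    haveI : Algebra.FiniteType k ↥(B i) := (Subalgebra.fg_iff_finiteType (B i)).1 (hfg i)
    haveI : Algebra.FiniteType k ↥A' := (Subalgebra.fg_iff_finiteType A').1 hA'fg
    let ιc : ↥(B i) →ₐc[k] H := BialgHom.ofAlgHom (B i).val (by ext c; rfl)
      (by ext c; exact FGK.subHopf_comul hsub c)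
    have hιc : Function.Injective ιc := Subtype.val_injective
    have hres : ∀ v' : A', Comod.coact (k := k) (A := H) (A'.val.toLinearMap v') ∈
        LinearMap.range (TensorProduct.map A'.val.toLinearMap (ιL ιc)) := by
      intro v'
      refine mem_range_map_of_mem A'.val.toLinearMap (ιL ιc) hιc _ ?_ ?_
      · obtain ⟨y, hy⟩ := hA'Q v'.2
        exact ⟨y, hy⟩
      · obtain ⟨y, hy⟩ := hA'P v'.2
        exact ⟨y, hy⟩
    letI cA' : Comod k ↥(B i) ↥A' := resComod ιc hιc A'.val.toLinearMap Subtype.val_injective hres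
    haveI : GLin.IsCoactAlg k ↥(B i) ↥A' :=
      isCoactAlg_resComod ιc hιc A'.val Subtype.val_injective hres
    have hUB : IsUnipotent k ↥(B i) := isUnipotent_of_injective ιc hιc hU
    set x' : ↥A' →ₐ[k] k := x.comp A'.val with hx'
    have hcl : GLin.IsClosedOrbit k ↥(B i) x' := isClosedOrbit_of_unipotent hUB x'
    set o' := GLin.orbitHom k ↥(B i) x' with ho'
    have hcompat : ∀ a' : A', ((o' a' : ↥(B i)) : H) = o (a' : A) :=
      fun a' => orbitHom_res ιc hιc A'.val Subtype.val_injective hres x a'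
    -- the prime of `A'`
    set p' : PrimeSpectrum ↥A' := PrimeSpectrum.comap A'.val.toRingHom p with hp'
    have hp'mem : ∀ a' : A', a' ∈ p'.asIdeal ↔ (a' : A) ∈ p.asIdeal := fun a' => Iff.rfl
    have hker' : RingHom.ker o'.toRingHom ≤ p'.asIdeal := by
      intro a' ha'
      rw [hp'mem]
      apply hp
      rw [RingHom.mem_ker] at ha' ⊢
      have h1 := hcompat a'
      have h2 : o' a' = 0 := ha'
      rw [h2] at h1
      exact h1.symm
    have hrange : p' ∈ Set.range (PrimeSpectrum.comap o'.toRingHom) := by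
      have h1 : closure (Set.range (PrimeSpectrum.comap o'.toRingHom)) =
          PrimeSpectrum.zeroLocus (RingHom.ker o'.toRingHom) :=
        PrimeSpectrum.closure_range_comap _
      have h2 : IsClosed (Set.range (PrimeSpectrum.comap o'.toRingHom)) := hcl
      rw [h2.closure_eq] at h1
      rw [h1]
      exact hker'
    rw [PrimeSpectrum.mem_range_comap_iff] at hrange
    -- faithful flatness
    haveI : Module.Free ↥(B i) H := hfree i
    have hff : ∀ J : Ideal ↥(B i), (J.map (algebraMap ↥(B i) H)).comap (algebraMap ↥(B i) H) = J :=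
      fun J => Ideal.comap_map_eq_self_of_faithfullyFlat J
    set J : Ideal ↥(B i) := p'.asIdeal.map o'.toRingHom with hJ
    have haJ : o' ⟨a, haA'⟩ ∈ J := by
      rw [← hff J, Ideal.mem_comap]
      have h1 : algebraMap ↥(B i) H (o' ⟨a, haA'⟩) = o a := hcompat ⟨a, haA'⟩
      rw [h1, ← hc]
      refine Ideal.sum_mem _ fun l _ => ?_
      rw [smul_eq_mul]
      apply Ideal.mul_mem_left
      have h2 : o (l : A) = algebraMap ↥(B i) H (o' ⟨l, htA' l l.2⟩) :=
        (hcompat ⟨l, htA' l l.2⟩).symm
      rw [h2]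
      apply Ideal.mem_map_of_mem
      apply Ideal.mem_map_of_mem
      rw [hp'mem]
      exact htp l.2
    have : (⟨a, haA'⟩ : A') ∈ (p'.asIdeal.map o'.toRingHom).comap o'.toRingHom := haJ
    rw [hrange, hp'mem] at this
    exact this
  unfold GLin.IsClosedOrbit
  have hEq : Set.range (PrimeSpectrum.comap o.toRingHom) =
      PrimeSpectrum.zeroLocus (RingHom.ker o.toRingHom) := by
    apply Set.Subset.antisymm
    · rintro _ ⟨q, rfl⟩ a ha
      rw [SetLike.mem_coe, RingHom.mem_ker] at ha
      show o.toRingHom a ∈ q.asIdeal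
      rw [ha]
      exact q.asIdeal.zero_mem
    · intro p hp
      exact key p hp
  rw [hEq]
  exact PrimeSpectrum.isClosed_zeroLocus _

end Main

end Groth.Agent.Helper7.PUni
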