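import Mathlib
import Groth.Prelude.Def_Frob

set_option autoImplicit false
set_option linter.unusedSectionVars false
universe u
open CategoryTheory CategoryTheory.Limits AlgebraicGeometry TopologicalSpace MorphismProperty

namespace Groth.Agent.Helper7.Perf

open FrobSch

variable (p : ℕ) [Fact p.Prime]

/-- On a perfect scheme, the `p`-th power map on sections over any open is bijective. -/
theorem bijective_pow_app (Y : Scheme.{u}) [IsCharP Y p] (hY : IsPerfect Y p) (U : Y.Opens) :
    Function.Bijective (fun s : Γ(Y, U) => s ^ p) := by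
  have : IsIso (frob Y p) := hY
  have h : IsIso ((frob Y p).app U) := inferInstance
  have := ConcreteCategory.bijective_of_isIso ((frob Y p).app U)
  exact this

/-- The spectrum of a ring in which `p = 0`. -/
theorem isCharP_Spec_of (R : CommRingCat.{u}) (h : (p : R) = 0) : IsCharP (Spec R) p where
  natCast_eq_zero := by
    apply (Scheme.ΓSpecIso R).commRingCatIsoToRingEquiv.injective
    rw [map_natCast, map_zero]
    exact h

theorem natCast_eq_zero_of_isCharP_Spec (R : CommRingCat.{u}) [IsCharP (Spec R) p] : (p : R) = 0 := by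
  have h := IsCharP.natCast_eq_zero (X := Spec R) (p := p)
  have := congrArg (Scheme.ΓSpecIso R).hom.hom h
  simpa using this

/-- The absolute Frobenius of an affine scheme is `Spec` of the `p`-th power map. -/
theorem frob_Spec (R : CommRingCat.{u}) [IsCharP (Spec R) p] :
    frob (Spec R) p =
      Spec.map (CommRingCat.ofHom (powHom p R (natCast_eq_zero_of_isCharP_Spec p R))) := by
  apply ext_of_isAffine
  rw [← cancel_mono (Scheme.ΓSpecIso R).hom, Scheme.ΓSpecIso_naturality]
  ext s
  simp [map_pow]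
  rfl

/-- The spectrum of a ring with bijective `p`-th power map is a perfect scheme. -/
theorem isPerfect_Spec (R : CommRingCat.{u}) [IsCharP (Spec R) p]
    (hR : Function.Bijective (fun r : R => r ^ p)) : IsPerfect (Spec R) p := by
  show IsIso (frob (Spec R) p)
  rw [frob_Spec]
  have : IsIso (CommRingCat.ofHom (powHom p R (natCast_eq_zero_of_isCharP_Spec p R))) := by
    rw [ConcreteCategory.isIso_iff_bijective]
    exact hR
  infer_instance

instance isCharP_opens (X : Scheme.{u}) [IsCharP X p] (U : X.Opens) : IsCharP (U : Scheme.{u}) p :=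
  IsCharP.of_hom U.ι p

/-- Open subschemes of perfect schemes are perfect. -/
theorem isPerfect_opens (X : Scheme.{u}) [IsCharP X p] (hX : IsPerfect X p) (U : X.Opens) :
    IsPerfect (U : Scheme.{u}) p := by
  have : IsIso (frob X p) := hX
  have h1 : IsIso (frob X p ∣_ U) := inferInstance
  have h2 : frob (U : Scheme.{u}) p = (frob X p ∣_ U) := by
    rw [← cancel_mono U.ι]
    rw [frob_comp]
    exact (morphismRestrict_ι (frob X p) U).symm
  show IsIso (frob (U : Scheme.{u}) p)
  rw [h2]
  exact h1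

/-- The restriction of a perfection to an open subscheme of the target is a perfection. -/
theorem IsPerfection.restrict {XP X : Scheme.{u}} [IsCharP XP p] (π : XP ⟶ X)
    (hπ : IsPerfection π p) (U : X.Opens) : IsPerfection (π ∣_ U) p := by
  refine ⟨isPerfect_opens p XP hπ.1 _, ?_⟩
  intro Y _ hY
  constructor
  · intro g₁ g₂ h
    dsimp only at h
    have h' : (g₁ ≫ (π ⁻¹ᵁ U).ι) ≫ π = (g₂ ≫ (π ⁻¹ᵁ U).ι) ≫ π := by
      rw [Category.assoc, Category.assoc, ← morphismRestrict_ι, ← Category.assoc, h,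
        Category.assoc]
    have := (hπ.2 Y hY).1 h'
    exact (cancel_mono _).1 this
  · intro h
    obtain ⟨g, hg⟩ := (hπ.2 Y hY).2 (h ≫ U.ι)
    dsimp only at hg
    have hr : Set.range g.base ⊆ Set.range (π ⁻¹ᵁ U).ι.base := by
      rintro _ ⟨y, rfl⟩
      rw [Scheme.Opens.range_ι]
      show π (g y) ∈ U
      have : π (g y) = (h ≫ U.ι) y := by
        rw [← hg]; rfl
      rw [this]
      exact (h y).2
    refine ⟨IsOpenImmersion.lift (π ⁻¹ᵁ U).ι g hr, ?_⟩
    dsimp only
    rw [← cancel_mono U.ι, Category.assoc, morphismRestrict_ι, ← Category.assoc,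
      IsOpenImmersion.lift_fac, hg]

section GammaSpec

variable {Y : Scheme.{u}} {A A' : CommRingCat.{u}}

/-- The ring map attached to a morphism to an affine scheme. -/
noncomputable def toΓ (g : Y ⟶ Spec A) : A ⟶ Γ(Y, ⊤) := (Scheme.ΓSpecIso A).inv ≫ g.appTop

/-- The morphism to an affine scheme attached to a ring map. -/
noncomputable def ofΓ (ψ : A ⟶ Γ(Y, ⊤)) : Y ⟶ Spec A := Y.toSpecΓ ≫ Spec.map ψ

theorem ofΓ_toΓ (g : Y ⟶ Spec A) : ofΓ (toΓ g) = g := by
  unfold ofΓ toΓ
  rw [Spec.map_comp, ← Scheme.toSpecΓ_naturality_assoc, toSpecΓ_SpecMap_ΓSpecIso_inv,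
    Category.comp_id]

theorem toΓ_ofΓ (ψ : A ⟶ Γ(Y, ⊤)) : toΓ (ofΓ ψ) = ψ := by
  unfold ofΓ toΓ
  rw [Scheme.Hom.comp_appTop, Scheme.toSpecΓ_appTop, Scheme.ΓSpecIso_naturality,
    Iso.inv_hom_id_assoc]

theorem toΓ_comp_SpecMap (g : Y ⟶ Spec A') (j : A ⟶ A') : toΓ (g ≫ Spec.map j) = j ≫ toΓ g := by
  unfold toΓ
  rw [Scheme.Hom.comp_appTop, ← Category.assoc, ← Category.assoc, Scheme.ΓSpecIso_inv_naturality]

theorem ofΓ_comp (ψ : A' ⟶ Γ(Y, ⊤)) (j : A ⟶ A') : ofΓ (j ≫ ψ) = ofΓ ψ ≫ Spec.map j := by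
  unfold ofΓ
  rw [Spec.map_comp, Category.assoc]

end GammaSpec

/-- Morphisms out of an empty scheme. -/
theorem bijective_of_isEmpty {Y Z Z' : Scheme.{u}} [IsEmpty Y] (π : Z ⟶ Z') :
    Function.Bijective (fun g : Y ⟶ Z => g ≫ π) := by
  have h : IsInitial Y := isInitialOfIsEmpty
  constructor
  · intro g₁ g₂ _
    exact h.hom_ext _ _
  · intro g
    exact ⟨h.to _, h.hom_ext _ _⟩

theorem nontrivial_Γ_of_nonempty (Y : Scheme.{u}) [Nonempty Y] : Nontrivial Γ(Y, ⊤) := by
  by_contra h
  rw [not_nontrivial_iff_subsingleton] at h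
  have : IsEmpty Y := by
    have h1 : IsEmpty (Spec Γ(Y, ⊤)) := by
      show IsEmpty (PrimeSpectrum Γ(Y, ⊤))
      infer_instance
    exact Function.isEmpty Y.toSpecΓ
  exact (not_isEmpty_of_nonempty Y) this

/-- The universal property of the perfect closure, for schemes. -/
theorem isPerfection_Spec (R : Type u) [CommRing R] [CharP R p] :
    IsPerfection (Spec.map (CommRingCat.ofHom (PerfectClosure.of R p))) p := by
  refine ⟨isPerfect_Spec p _ ?_, ?_⟩
  · exact (PerfectRing.bijective_frobenius (R := PerfectClosure R p) (p := p))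
  · intro Y _ hY
    rcases isEmpty_or_nonempty Y with hE | hN
    · exact bijective_of_isEmpty _
    · have hnt := nontrivial_Γ_of_nonempty Y
      have hchar : CharP Γ(Y, ⊤) p :=
        (CharP.charP_iff_prime_eq_zero (Fact.out : p.Prime)).2 IsCharP.natCast_eq_zero
      have : ExpChar Γ(Y, ⊤) p := ExpChar.prime (Fact.out : p.Prime)
      have hperf : PerfectRing Γ(Y, ⊤) p := ⟨bijective_pow_app p Y hY ⊤⟩
      let E := PerfectRing.liftEquiv Γ(Y, ⊤) (PerfectClosure.of R p) p
      constructor
      · intro g₁ g₂ h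
        dsimp only at h
        have h1 : toΓ (g₁ ≫ Spec.map (CommRingCat.ofHom (PerfectClosure.of R p))) =
            toΓ (g₂ ≫ Spec.map (CommRingCat.ofHom (PerfectClosure.of R p))) := by rw [h]
        rw [toΓ_comp_SpecMap, toΓ_comp_SpecMap] at h1
        have h2 : E.symm (toΓ g₁).hom = E.symm (toΓ g₂).hom := by
          have := congrArg CommRingCat.Hom.hom h1
          simpa [E, PerfectRing.liftEquiv_symm_apply] using this
        have h3 : toΓ g₁ = toΓ g₂ := CommRingCat.hom_ext (E.symm.injective h2)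
        rw [← ofΓ_toΓ g₁, ← ofΓ_toΓ g₂, h3]
      · intro h
        refine ⟨ofΓ (CommRingCat.ofHom (E (toΓ h).hom)), ?_⟩
        dsimp only
        rw [← ofΓ_comp]
        have : CommRingCat.ofHom (PerfectClosure.of R p) ≫ CommRingCat.ofHom (E (toΓ h).hom) =
            toΓ h := by
          apply CommRingCat.hom_ext
          have := E.symm_apply_apply (toΓ h).hom
          rw [PerfectRing.liftEquiv_symm_apply] at this
          simpa using this
        rw [this, ofΓ_toΓ]

/-- A perfection followed by an isomorphism is a perfection. -/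
theorem IsPerfection.comp_iso {XP X X' : Scheme.{u}} [IsCharP XP p] (π : XP ⟶ X)
    (hπ : IsPerfection π p) (e : X ⟶ X') [IsIso e] : IsPerfection (π ≫ e) p := by
  refine ⟨hπ.1, ?_⟩
  intro Y _ hY
  constructor
  · intro g₁ g₂ h
    dsimp only at h
    rw [← Category.assoc, ← Category.assoc, cancel_mono] at h
    exact (hπ.2 Y hY).1 h
  · intro h
    obtain ⟨g, hg⟩ := (hπ.2 Y hY).2 (h ≫ inv e)
    refine ⟨g, ?_⟩
    dsimp only at hg ⊢
    rw [← Category.assoc, hg, Category.assoc, IsIso.inv_hom_id, Category.comp_id]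

/-- Two perfections of the same scheme are isomorphic over it. -/
theorem IsPerfection.exists_iso {XP XP' X : Scheme.{u}} [IsCharP XP p] [IsCharP XP' p]
    (π : XP ⟶ X) (π' : XP' ⟶ X) (h : IsPerfection π p) (h' : IsPerfection π' p) :
    ∃ e : XP ≅ XP', e.hom ≫ π' = π := by
  obtain ⟨a, ha⟩ := (h'.2 XP h.1).2 π
  obtain ⟨b, hb⟩ := (h.2 XP' h'.1).2 π'
  dsimp only at ha hb
  have hab : a ≫ b = 𝟙 XP := by
    apply (h.2 XP h.1).1
    dsimp only
    rw [Category.assoc, hb, ha, Category.id_comp]
  have hba : b ≫ a = 𝟙 XP' := by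
    apply (h'.2 XP' h'.1).1
    dsimp only
    rw [Category.assoc, ha, hb, Category.id_comp]
  exact ⟨⟨a, b, hab, hba⟩, ha⟩

/-- An isomorphism from a perfect scheme followed by a perfection is a perfection. -/
theorem IsPerfection.iso_comp {XP' XP X : Scheme.{u}} [IsCharP XP p] [IsCharP XP' p] (π : XP ⟶ X)
    (hπ : IsPerfection π p) (e : XP' ⟶ XP) [IsIso e] (hP : IsPerfect XP' p) :
    IsPerfection (e ≫ π) p := by
  refine ⟨hP, ?_⟩
  intro Y _ hY
  constructor
  · intro g₁ g₂ h
    dsimp only at h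
    rw [← Category.assoc, ← Category.assoc] at h
    have := (hπ.2 Y hY).1 h
    exact (cancel_mono e).1 this
  · intro h
    obtain ⟨g, hg⟩ := (hπ.2 Y hY).2 h
    refine ⟨g ≫ inv e, ?_⟩
    dsimp only at hg ⊢
    rw [Category.assoc, IsIso.inv_hom_id_assoc, hg]

section Structure

variable {XP X : Scheme.{u}} [IsCharP XP p] [IsCharP X p] (π : XP ⟶ X) (hπ : IsPerfection π p)
include hπ

/-- The preimage of an affine open under a perfection is affine. -/
theorem IsPerfection.isAffineOpen_preimage {U : X.Opens} (hU : IsAffineOpen U) :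
    IsAffineOpen (π ⁻¹ᵁ U) := by
  rcases subsingleton_or_nontrivial Γ(X, U) with hs | hn
  · have hE : IsEmpty U := by
      have h1 : IsEmpty (Spec Γ(X, U)) := by
        show IsEmpty (PrimeSpectrum Γ(X, U))
        infer_instance
      exact Function.isEmpty hU.isoSpec.hom
    have : π ⁻¹ᵁ U = ⊥ := by
      ext x
      simp only [Scheme.Hom.coe_preimage, Set.mem_preimage, SetLike.mem_coe, Opens.coe_bot,
        Set.mem_empty_iff_false, iff_false]
      intro hx
      exact hE.false ⟨π x, hx⟩
    rw [this]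
    exact isAffineOpen_bot XP
  · have hchar : CharP Γ(X, U) p :=
      (CharP.charP_iff_prime_eq_zero (Fact.out : p.Prime)).2 (natCast_eq_zero_app X p U)
    have h1 := IsPerfection.comp_iso p _ (isPerfection_Spec p Γ(X, U)) hU.isoSpec.inv
    have h2 := IsPerfection.restrict p π hπ U
    obtain ⟨e, -⟩ := IsPerfection.exists_iso p _ _ h2 h1
    exact IsAffine.of_isIso e.hom

theorem IsPerfection.isAffineHom : IsAffineHom π :=
  ⟨fun _ hU => IsPerfection.isAffineOpen_preimage p π hπ hU⟩

/-- For a perfection, the map on sections over an affine open is a perfection of affine schemes. -/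
theorem IsPerfection.isPerfection_SpecMap_app {U : X.Opens} (hU : IsAffineOpen U) :
    haveI : IsCharP (Spec Γ(XP, π ⁻¹ᵁ U)) p := isCharP_Spec_of p _ (natCast_eq_zero_app XP p _)
    IsPerfection (Spec.map (π.app U)) p := by
  have : IsCharP (Spec Γ(XP, π ⁻¹ᵁ U)) p := isCharP_Spec_of p _ (natCast_eq_zero_app XP p _)
  have hV := IsPerfection.isAffineOpen_preimage p π hπ hU
  have h2 := IsPerfection.restrict p π hπ U
  have hP : IsPerfect (Spec Γ(XP, π ⁻¹ᵁ U)) p :=
    isPerfect_Spec p _ (bijective_pow_app p XP hπ.1 _)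
  have h3 := IsPerfection.iso_comp p _ (IsPerfection.comp_iso p _ h2 hU.isoSpec.hom) hV.isoSpec.inv hP
  have : hV.isoSpec.inv ≫ π ∣_ U ≫ hU.isoSpec.hom = Spec.map (π.app U) := by
    rw [← cancel_mono hU.fromSpec, Category.assoc, Category.assoc, hU.isoSpec_hom_fromSpec,
      morphismRestrict_ι, hV.isoSpec_inv_ι_assoc, Scheme.Hom.app_eq_appLE,
      IsAffineOpen.SpecMap_appLE_fromSpec π hU hV]
  rw [this] at h3
  exact h3

/-- Ring-level form: the map on sections over an affine open factors as the perfect closure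
followed by an isomorphism. -/
theorem IsPerfection.exists_ringEquiv {U : X.Opens} (hU : IsAffineOpen U)
    [CharP Γ(X, U) p] :
    ∃ β : PerfectClosure Γ(X, U) p ≃+* Γ(XP, π ⁻¹ᵁ U),
      ∀ r : Γ(X, U), β (PerfectClosure.of Γ(X, U) p r) = π.app U r := by
  have : IsCharP (Spec Γ(XP, π ⁻¹ᵁ U)) p := isCharP_Spec_of p _ (natCast_eq_zero_app XP p _)
  have h1 := IsPerfection.isPerfection_SpecMap_app p π hπ hU
  have h2 := isPerfection_Spec p Γ(X, U)
  obtain ⟨e, he⟩ := IsPerfection.exists_iso p _ _ h1 h2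
  let β := Spec.preimage e.hom
  let γ := Spec.preimage e.inv
  have hβγ : β ≫ γ = 𝟙 _ := by
    apply Spec.map_injective
    rw [Spec.map_comp, Spec.map_preimage, Spec.map_preimage, e.inv_hom_id, Spec.map_id]
  have hγβ : γ ≫ β = 𝟙 _ := by
    apply Spec.map_injective
    rw [Spec.map_comp, Spec.map_preimage, Spec.map_preimage, e.hom_inv_id, Spec.map_id]
  have hi : CommRingCat.ofHom (PerfectClosure.of Γ(X, U) p) ≫ β = π.app U := by
    apply Spec.map_injective
    rw [Spec.map_comp, Spec.map_preimage, he]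
  refine ⟨RingEquiv.ofRingHom β.hom γ.hom ?_ ?_, ?_⟩
  · have := congrArg CommRingCat.Hom.hom hγβ
    simpa using this
  · have := congrArg CommRingCat.Hom.hom hβγ
    simpa using this
  · intro r
    have := congrArg (fun φ => φ.hom r) hi
    simpa using this

theorem IsPerfection.exists_pow_eq {U : X.Opens} (hU : IsAffineOpen U) (s : Γ(XP, π ⁻¹ᵁ U)) :
    ∃ (n : ℕ) (r : Γ(X, U)), π.app U r = s ^ p ^ n := by
  rcases subsingleton_or_nontrivial Γ(X, U) with hs | hn
  · have : Subsingleton Γ(XP, π ⁻¹ᵁ U) := by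
      have h01 : (0 : Γ(X, U)) = 1 := Subsingleton.elim _ _
      have := congrArg (π.app U).hom h01
      rw [map_zero, map_one] at this
      exact subsingleton_of_zero_eq_one this
    exact ⟨0, 0, Subsingleton.elim _ _⟩
  · have hchar : CharP Γ(X, U) p :=
      (CharP.charP_iff_prime_eq_zero (Fact.out : p.Prime)).2 (natCast_eq_zero_app X p U)
    obtain ⟨β, hβ⟩ := IsPerfection.exists_ringEquiv p π hπ hU
    obtain ⟨n, r, hr⟩ := IsPRadical.pow_mem (PerfectClosure.of Γ(X, U) p) p (β.symm s)
    refine ⟨n, r, ?_⟩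
    rw [← hβ, hr, map_pow, RingEquiv.apply_symm_apply]

theorem IsPerfection.isNilpotent_of_app_eq_zero {U : X.Opens} (hU : IsAffineOpen U) (r : Γ(X, U))
    (h : π.app U r = 0) : IsNilpotent r := by
  rcases subsingleton_or_nontrivial Γ(X, U) with hs | hn
  · rw [Subsingleton.elim r 0]
    exact IsNilpotent.zero
  · have hchar : CharP Γ(X, U) p :=
      (CharP.charP_iff_prime_eq_zero (Fact.out : p.Prime)).2 (natCast_eq_zero_app X p U)
    obtain ⟨β, hβ⟩ := IsPerfection.exists_ringEquiv p π hπ hU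
    rw [← hβ] at h
    have h0 : PerfectClosure.of Γ(X, U) p r = 0 := by
      apply β.injective
      rw [h, map_zero]
    have := IsPRadical.ker_le (PerfectClosure.of Γ(X, U) p) p ((RingHom.mem_ker).2 h0)
    rw [pNilradical_prime (Fact.out : p.Prime)] at this
    exact this

end Structure

end Groth.Agent.Helper7.Perf
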