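import Groth.Agent.Helper7.Perf9
import Groth.Agent.Helper5.FrobUH1

set_option autoImplicit false
set_option linter.unusedSectionVars false
universe u
open CategoryTheory CategoryTheory.Limits AlgebraicGeometry TopologicalSpace MorphismProperty

namespace Groth.Agent.Helper7.Perf

open FrobSch

/-- An étale, universally injective, surjective morphism is an isomorphism. -/
theorem isIso_of_etale_of_universallyInjective {X Y : Scheme.{u}} (h : X ⟶ Y) [Etale h]
    [UniversallyInjective h] [Surjective h] : IsIso h := by
  have h1 : Surjective (pullback.diagonal h) := (UniversallyInjective.iff_diagonal h).1 ‹_›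
  have h2 : IsOpenImmersion (pullback.diagonal h) := inferInstance
  have h3 : IsIso (pullback.diagonal h) :=
    (isIso_iff_isOpenImmersion_and_surjective _).2 ⟨h2, h1⟩
  have h4 : Mono h := (pullback.isIso_diagonal_iff h).1 h3
  have h5 : IsOpenImmersion h := IsOpenImmersion.of_flat_of_mono h
  exact (isIso_iff_isOpenImmersion_and_surjective _).2 ⟨h5, ‹_›⟩

variable (p : ℕ) [Fact p.Prime]

/-- A scheme étale over a perfect scheme is perfect. -/
theorem isPerfect_of_etale {P Z : Scheme.{u}} [IsCharP P p] [IsCharP Z p] (g : P ⟶ Z) [Etale g]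
    (hZ : IsPerfect Z p) : IsPerfect P p := by
  have : IsIso (frob Z p) := hZ
  have h1 : Etale (frob P p ≫ g) := by
    rw [frob_comp]; infer_instance
  have h2 : Etale (frob P p) :=
    MorphismProperty.of_postcomp (W := @Etale) (W' := @Etale) (frob P p) g ‹_› h1
  have h3 := (Groth.Agent.Helper5.FrobUH.s14929 p P).1
  rw [Groth.Agent.Helper5.UnivHomeo.isUnivHomeo_iff] at h3
  obtain ⟨-, h4, h5⟩ := h3
  exact isIso_of_etale_of_universallyInjective (frob P p)

section

variable {X Y XP YP : Scheme.{u}}
  [IsCharP X p] [IsCharP Y p] [IsCharP XP p] [IsCharP YP p]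
  (πX : XP ⟶ X) (πY : YP ⟶ Y) (hX : IsPerfection πX p) (hY : IsPerfection πY p)
  (f : X ⟶ Y) (fP : XP ⟶ YP) (w : fP ≫ πY = πX ≫ f)

include hX hY w in
theorem isPullback_perfection_of_etale [Etale f] : IsPullback fP πX πY f := by
  have hc : IsCharP (pullback f πY) p := IsCharP.of_hom (pullback.snd f πY) p
  have hP : IsPerfect (pullback f πY) p := isPerfect_of_etale p (pullback.snd f πY) hY.1
  have hfst : IsPerfection (pullback.fst f πY) p := by
    refine ⟨hP, ?_⟩
    intro T _ hT
    constructor
    · intro g₁ g₂ h
      dsimp only at h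
      have h2 : g₁ ≫ pullback.snd f πY = g₂ ≫ pullback.snd f πY := by
        apply (hY.2 T hT).1
        dsimp only
        rw [Category.assoc, Category.assoc, ← pullback.condition, ← Category.assoc, h,
          Category.assoc]
      exact pullback.hom_ext h h2
    · intro h
      obtain ⟨k, hk⟩ := (hY.2 T hT).2 (h ≫ f)
      dsimp only at hk
      exact ⟨pullback.lift h k hk.symm, pullback.lift_fst _ _ _⟩
  obtain ⟨a, ha⟩ := IsPerfection.exists_iso p _ _ hX hfst
  have ha2 : a.hom ≫ pullback.snd f πY = fP := by
    apply (hY.2 XP hX.1).1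
    dsimp only
    rw [Category.assoc, ← pullback.condition, ← Category.assoc, ha, w]
  exact (IsPullback.of_iso_pullback ⟨w.symm⟩ a ha ha2).flip

end

end Groth.Agent.Helper7.Perf
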