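import Groth.Agent.Helper7.UHStep3

set_option autoImplicit false
universe u
open AlgebraicGeometry CategoryTheory MorphismProperty

namespace Groth.Agent.Helper7.UHStep

section CharP

variable {A B : Type*} [CommRing A] [CommRing B] [Algebra A B] (p : ℕ) [Fact p.Prime] [CharP B p]

/-- The `p`-radical closure of `A` in `B`. -/
def pClosure : Subalgebra A B where
  carrier := {b | ∃ n : ℕ, b ^ p ^ n ∈ (algebraMap A B).range}
  mul_mem' := by
    rintro b b' ⟨n, hn⟩ ⟨n', hn'⟩
    refine ⟨n + n', ?_⟩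
    rw [mul_pow]
    refine Subring.mul_mem _ ?_ ?_
    · rw [pow_add, pow_mul]; exact Subring.pow_mem _ hn _
    · rw [add_comm, pow_add, pow_mul]; exact Subring.pow_mem _ hn' _
  add_mem' := by
    rintro b b' ⟨n, hn⟩ ⟨n', hn'⟩
    refine ⟨n + n', ?_⟩
    rw [add_pow_char_pow]
    refine Subring.add_mem _ ?_ ?_
    · rw [pow_add, pow_mul]; exact Subring.pow_mem _ hn _
    · rw [add_comm, pow_add, pow_mul]; exact Subring.pow_mem _ hn' _
  algebraMap_mem' := by
    intro a
    exact ⟨0, by simp⟩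

theorem mem_pClosure {b : B} : b ∈ pClosure (A := A) p ↔ ∃ n : ℕ, b ^ p ^ n ∈ (algebraMap A B).range :=
  Iff.rfl

theorem mem_pClosure_of_pow_mem {b : B} (h : b ^ p ∈ pClosure (A := A) p) : b ∈ pClosure (A := A) p := by
  obtain ⟨n, hn⟩ := h
  refine ⟨n + 1, ?_⟩
  rw [pow_succ', pow_mul]
  exact hn

theorem pClosure_eq_top [Algebra.IsIntegral A B]
    (hcomap : ∀ (q q' : Ideal B) [q.IsPrime] [q'.IsPrime],
      q.comap (algebraMap A B) = q'.comap (algebraMap A B) → q = q')
    (hPI : ∀ (q : Ideal B) [q.IsPrime] (b : B), ∃ (ℓ n : ℕ) (a t : A),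
      (ℓ = 1 ∨ (ℓ.Prime ∧ True ∧ (ℓ : B) ∈ q)) ∧ t ∉ q.comap (algebraMap A B) ∧
        algebraMap A B t * b ^ (ℓ ^ n) - algebraMap A B a ∈ q) :
    pClosure (A := A) (B := B) p = ⊤ := by
  by_contra hne
  set C := pClosure (A := A) (B := B) p with hC
  have hinjC : Function.Injective (algebraMap C B) := Subtype.val_injective
  have hnsC : ¬ Function.Surjective (algebraMap C B) := by
    intro h
    apply hne
    rw [eq_top_iff]
    intro b _
    obtain ⟨c, rfl⟩ := h b
    exact c.2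
  have hintCB : Algebra.IsIntegral C B := Algebra.IsIntegral.tower_top (R := A)
  have hcc : ∀ Q : Ideal B, (Q.comap (algebraMap C B)).comap (algebraMap A C) =
      Q.comap (algebraMap A B) := by
    intro Q
    rw [Ideal.comap_comap]
    rfl
  have hcomapC : ∀ (q q' : Ideal B) [q.IsPrime] [q'.IsPrime],
      q.comap (algebraMap C B) = q'.comap (algebraMap C B) → q = q' := by
    intro q q' _ _ h
    apply hcomap
    rw [← hcc, ← hcc, h]
  have hPIC : ∀ (q : Ideal B) [q.IsPrime] (b : B), ∃ (ℓ n : ℕ) (a t : C),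
      (ℓ = 1 ∨ (ℓ.Prime ∧ True ∧ (ℓ : B) ∈ q)) ∧ t ∉ q.comap (algebraMap C B) ∧
        algebraMap C B t * b ^ (ℓ ^ n) - algebraMap C B a ∈ q := by
    intro q _ b
    obtain ⟨ℓ, n, a, t, hℓ, ht, hmem⟩ := hPI q b
    refine ⟨ℓ, n, algebraMap A C a, algebraMap A C t, hℓ, ?_, hmem⟩
    rw [← hcc] at ht
    exact ht
  have hrange : ∀ b : B, b ∈ (algebraMap C B).range ↔ b ∈ C := by
    intro b
    constructor
    · rintro ⟨c, rfl⟩; exact c.2
    · intro h; exact ⟨⟨b, h⟩, rfl⟩
  have hp := (Fact.out : p.Prime)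
  rcases integral_step hinjC hnsC hcomapC (fun _ => True) hPIC with
    ⟨b, hb, hb2, hb3⟩ | ⟨ℓ, b, hℓ, -, hb, hb2, hb3⟩
  · rw [hrange] at hb hb2 hb3
    apply hb
    apply mem_pClosure_of_pow_mem
    have : ∀ m, 2 ≤ m → b ^ m ∈ C := by
      intro m
      induction m using Nat.strong_induction_on with
      | _ m ih =>
        intro hm
        rcases Nat.lt_or_ge m 4 with h4 | h4
        · interval_cases m
          · exact hb2
          · exact hb3
        · have := ih (m - 2) (by omega) (by omega)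
          have h2 : b ^ m = b ^ (m - 2) * b ^ 2 := by
            rw [← pow_add]; congr 1; omega
          rw [h2]
          exact C.mul_mem this hb2
    exact this p hp.two_le
  · rw [hrange] at hb hb2 hb3
    apply hb
    by_cases hℓp : ℓ = p
    · apply mem_pClosure_of_pow_mem
      subst hℓp
      exact hb3
    · have hcop : Nat.Coprime ℓ p := (Nat.coprime_primes hℓ hp).2 hℓp
      obtain ⟨m, -, hm⟩ := Nat.exists_mul_mod_eq_one_of_coprime hcop hp.one_lt
      have h1 : ((ℓ * m : ℕ) : B) = 1 := by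
        have := Nat.div_add_mod (ℓ * m) p
        rw [hm] at this
        rw [← this]
        push_cast
        rw [CharP.cast_eq_zero B p]
        ring
      have h2 : b = (m : B) * ((ℓ : B) * b) := by
        rw [← mul_assoc, ← Nat.cast_mul, mul_comm m ℓ, h1, one_mul]
      rw [h2]
      exact C.mul_mem (natCast_mem C m) hb2

end CharP

open Groth.Agent.Helper6.EtaSN Groth.Agent.Helper6.EtaSN2

/-- A universal homeomorphism of rings of characteristic `p` is `p`-radical. -/
theorem exists_pow_mem_range_of_isUnivHomeo (p : ℕ) [Fact p.Prime] {A B : Type u} [CommRing A]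
    [CommRing B] [CharP B p] (φ : A →+* B)
    (hU : FlatMor.IsUnivHomeo (Spec.map (CommRingCat.ofHom φ))) (b : B) :
    ∃ n : ℕ, b ^ p ^ n ∈ φ.range := by
  let _ := φ.toAlgebra
  have hint : Algebra.IsIntegral A B := ⟨isIntegral_of_isUnivHomeo φ hU⟩
  obtain ⟨hbij, hres⟩ := of_isUnivHomeo_SpecMap' φ hU
  have hcomap : ∀ (q q' : Ideal B) [q.IsPrime] [q'.IsPrime],
      q.comap (algebraMap A B) = q'.comap (algebraMap A B) → q = q' := by
    intro q q' hq hq' h
    have := hbij.1 (a₁ := ⟨q, hq⟩) (a₂ := ⟨q', hq'⟩) (PrimeSpectrum.ext h)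
    exact congrArg PrimeSpectrum.asIdeal this
  have hPI : ∀ (q : Ideal B) [q.IsPrime] (b : B), ∃ (ℓ n : ℕ) (a t : A),
      (ℓ = 1 ∨ (ℓ.Prime ∧ True ∧ (ℓ : B) ∈ q)) ∧ t ∉ q.comap (algebraMap A B) ∧
        algebraMap A B t * b ^ (ℓ ^ n) - algebraMap A B a ∈ q := by
    intro q hq b
    exact exists_of_isPurelyInseparable φ q (hres ⟨q, hq⟩) b
  have h := pClosure_eq_top (A := A) (B := B) p hcomap hPI
  have hb : b ∈ pClosure (A := A) (B := B) p := by rw [h]; trivial
  exact hb

theorem isNilpotent_of_mem_ker_of_isUnivHomeo {A B : Type u} [CommRing A]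
    [CommRing B] (φ : A →+* B)
    (hU : FlatMor.IsUnivHomeo (Spec.map (CommRingCat.ofHom φ))) (a : A) (ha : φ a = 0) :
    IsNilpotent a := by
  obtain ⟨hbij, -⟩ := of_isUnivHomeo_SpecMap' φ hU
  rw [← mem_nilradical, nilradical_eq_sInf, Ideal.mem_sInf]
  intro 𝔭 h𝔭
  obtain ⟨Q, hQ⟩ := hbij.2 ⟨𝔭, h𝔭⟩
  have : 𝔭 = Q.asIdeal.comap φ := by
    have := congrArg PrimeSpectrum.asIdeal hQ
    exact this.symm
  rw [this, Ideal.mem_comap, ha]
  exact Q.asIdeal.zero_mem

/-- A universal homeomorphism between perfect rings is bijective. -/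
theorem bijective_of_isUnivHomeo_of_perfect (p : ℕ) [Fact p.Prime] {A B : Type u} [CommRing A]
    [CommRing B] [CharP A p] [CharP B p] [PerfectRing A p] [PerfectRing B p] (φ : A →+* B)
    (hU : FlatMor.IsUnivHomeo (Spec.map (CommRingCat.ofHom φ))) : Function.Bijective φ := by
  constructor
  · rw [injective_iff_map_eq_zero]
    intro a ha
    obtain ⟨k, hk⟩ := isNilpotent_of_mem_ker_of_isUnivHomeo φ hU a ha
    apply (iterateFrobeniusEquiv A p k).injective
    show a ^ p ^ k = (0 : A) ^ p ^ k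
    rw [zero_pow (pow_ne_zero _ (Fact.out : p.Prime).ne_zero)]
    exact pow_eq_zero_of_le (Nat.lt_pow_self (Fact.out : p.Prime).one_lt).le hk
  · intro b
    obtain ⟨n, a, ha⟩ := exists_pow_mem_range_of_isUnivHomeo p φ hU b
    refine ⟨(iterateFrobeniusEquiv A p n).symm a, ?_⟩
    apply (iterateFrobeniusEquiv B p n).injective
    show (φ _) ^ p ^ n = b ^ p ^ n
    rw [← map_pow, ← ha]
    congr 1
    exact (iterateFrobeniusEquiv A p n).apply_symm_apply a

end Groth.Agent.Helper7.UHStep
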