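import Groth.Agent.Helper7.Perf10
import Groth.Agent.Helper7.UHStep4

set_option autoImplicit false
set_option linter.unusedSectionVars false
universe u
open CategoryTheory CategoryTheory.Limits AlgebraicGeometry TopologicalSpace MorphismProperty

namespace Groth.Agent.Helper7.Perf

open FrobSch

variable (p : ℕ) [Fact p.Prime]

/-- The universal property of a perfect closure, for schemes. -/
theorem isPerfection_SpecMap {K L : Type u} [CommRing K] [CommRing L] [CharP K p] [CharP L p]
    [PerfectRing L p] (i : K →+* L) [IsPRadical i p] :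
    IsPerfection (Spec.map (CommRingCat.ofHom i)) p := by
  refine ⟨isPerfect_Spec p _ ?_, ?_⟩
  · exact (PerfectRing.bijective_frobenius (R := L) (p := p))
  · intro Y _ hY
    rcases isEmpty_or_nonempty Y with hE | hN
    · exact bijective_of_isEmpty _
    · have hnt := nontrivial_Γ_of_nonempty Y
      have hchar : CharP Γ(Y, ⊤) p :=
        (CharP.charP_iff_prime_eq_zero (Fact.out : p.Prime)).2 IsCharP.natCast_eq_zero
      have : ExpChar Γ(Y, ⊤) p := ExpChar.prime (Fact.out : p.Prime)
      have hperf : PerfectRing Γ(Y, ⊤) p := ⟨bijective_pow_app p Y hY ⊤⟩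
      let E := PerfectRing.liftEquiv Γ(Y, ⊤) i p
      constructor
      · intro g₁ g₂ h
        dsimp only at h
        have h1 : toΓ (g₁ ≫ Spec.map (CommRingCat.ofHom i)) =
            toΓ (g₂ ≫ Spec.map (CommRingCat.ofHom i)) := by rw [h]
        rw [toΓ_comp_SpecMap, toΓ_comp_SpecMap] at h1
        have h2 : E.symm (toΓ g₁).hom = E.symm (toΓ g₂).hom := by
          have := congrArg CommRingCat.Hom.hom h1
          simpa [E, PerfectRing.liftEquiv_symm_apply] using this
        have h3 : toΓ g₁ = toΓ g₂ := CommRingCat.hom_ext (E.symm.injective h2)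
        rw [← ofΓ_toΓ g₁, ← ofΓ_toΓ g₂, h3]
      · intro h
        refine ⟨ofΓ (CommRingCat.ofHom (E (toΓ h).hom)), ?_⟩
        dsimp only
        rw [← ofΓ_comp]
        have : CommRingCat.ofHom i ≫ CommRingCat.ofHom (E (toΓ h).hom) = toΓ h := by
          apply CommRingCat.hom_ext
          have := E.symm_apply_apply (toΓ h).hom
          rw [PerfectRing.liftEquiv_symm_apply] at this
          simpa using this
        rw [this, ofΓ_toΓ]

theorem isUnivHomeo_of_isIso {X Y : Scheme.{u}} (f : X ⟶ Y) [IsIso f] : FlatMor.IsUnivHomeo f := by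
  intro X' Y' i₁ i₂ f' H
  have : IsIso f' := by
    have := H.flip
    exact MorphismProperty.of_isPullback (P := MorphismProperty.isomorphisms Scheme.{u}) this
      (inferInstanceAs (IsIso f))
  exact (TopCat.homeoOfIso (asIso f'.base)).isHomeomorph

theorem s14254 {A B A' B' : Type u} [CommRing A] [CommRing B] [CommRing A'] [CommRing B']
    [CharP A p] [CharP B p] [CharP A' p] [CharP B' p] [PerfectRing A' p] [PerfectRing B' p]
    (φ : A →+* B) (i : A →+* A') (j : B →+* B') [IsPerfectClosure i p] [IsPerfectClosure j p]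
    (φ' : A' →+* B') (hφ : φ'.comp i = j.comp φ) :
    FlatMor.IsUnivHomeo (Spec.map (CommRingCat.ofHom φ)) ↔ Function.Bijective φ' := by
  have hX := isPerfection_SpecMap p j
  have hY := isPerfection_SpecMap p i
  have w : Spec.map (CommRingCat.ofHom φ') ≫ Spec.map (CommRingCat.ofHom i) =
      Spec.map (CommRingCat.ofHom j) ≫ Spec.map (CommRingCat.ofHom φ) := by
    rw [← Spec.map_comp, ← Spec.map_comp, ← CommRingCat.ofHom_comp, ← CommRingCat.ofHom_comp, hφ]
  rw [isUnivHomeo_iff p _ _ hX hY _ _ w]
  constructor
  · intro h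
    exact Groth.Agent.Helper7.UHStep.bijective_of_isUnivHomeo_of_perfect p φ' h
  · intro h
    have : IsIso (CommRingCat.ofHom φ') := by
      rw [ConcreteCategory.isIso_iff_bijective]
      exact h
    exact isUnivHomeo_of_isIso _

end Groth.Agent.Helper7.Perf
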