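import Groth.Agent.Helper7.Perf11
import Groth.Prelude.Def_W4c1perfhdescPerf

set_option autoImplicit false
set_option linter.unusedSectionVars false
universe u
open CategoryTheory CategoryTheory.Limits AlgebraicGeometry TopologicalSpace MorphismProperty

namespace Groth.Agent.Helper7.Perf

open FrobSch

variable (p : ℕ) [Fact p.Prime]

/-- Version without `CharP` instances (the rings may be trivial). -/
theorem bijective_of_isUnivHomeo_of_perfect' {A B : Type u} [CommRing A] [CommRing B]
    (hA0 : (p : A) = 0) (hB0 : (p : B) = 0)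
    (hA : Function.Bijective fun a : A => a ^ p) (hB : Function.Bijective fun b : B => b ^ p)
    (φ : A →+* B) (hU : FlatMor.IsUnivHomeo (Spec.map (CommRingCat.ofHom φ))) :
    Function.Bijective φ := by
  rcases subsingleton_or_nontrivial B with hs | hn
  · have hA' : Subsingleton A := by
      by_contra h
      rw [not_subsingleton_iff_nontrivial] at h
      obtain ⟨𝔭⟩ := (inferInstance : Nonempty (PrimeSpectrum A))
      have hsurj := (hU (𝟙 _) (𝟙 _) _ IsPullback.of_id_snd).surjective
      obtain ⟨Q, -⟩ := hsurj 𝔭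
      exact (inferInstance : IsEmpty (PrimeSpectrum B)).false Q
    exact ⟨fun a a' _ => Subsingleton.elim _ _, fun b => ⟨0, Subsingleton.elim _ _⟩⟩
  · have hnA : Nontrivial A := φ.domain_nontrivial
    have c1 : CharP A p := (CharP.charP_iff_prime_eq_zero (Fact.out : p.Prime)).2 hA0
    have c2 : CharP B p := (CharP.charP_iff_prime_eq_zero (Fact.out : p.Prime)).2 hB0
    have e1 : ExpChar A p := ExpChar.prime (Fact.out : p.Prime)
    have e2 : ExpChar B p := ExpChar.prime (Fact.out : p.Prime)
    have p1 : PerfectRing A p := ⟨hA⟩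
    have p2 : PerfectRing B p := ⟨hB⟩
    exact Groth.Agent.Helper7.UHStep.bijective_of_isUnivHomeo_of_perfect p φ hU

theorem isUnivHomeo_respectsIso : (FlatMor.IsUnivHomeo : MorphismProperty Scheme.{u}).RespectsIso := by
  unfold FlatMor.IsUnivHomeo
  infer_instance

theorem s14253 {X Y : Scheme.{u}} (f : X ⟶ Y)
    (hX : PerfSch.IsPerfect p X) (hY : PerfSch.IsPerfect p Y) (hf : FlatMor.IsUnivHomeo f) :
    IsIso f := by
  have hhomeo : IsHomeomorph f.base := hf _ _ _ .of_id_snd
  have haff : IsAffineHom f := Groth.Agent.Helper5.UnivHomeo.isAffineHom_of_isHomeomorph f hhomeo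
  show (isomorphisms Scheme.{u}) f
  rw [HasAffineProperty.iff_of_iSup_eq_top (P := isomorphisms Scheme.{u})
    (fun V : Y.affineOpens => V) (iSup_affineOpens_eq_top Y)]
  intro V
  have hV : IsAffine (V : Y.Opens).toScheme := V.2
  have hU' : IsAffine (f ⁻¹ᵁ (V : Y.Opens)).toScheme := V.2.preimage f
  refine ⟨hU', ?_⟩
  have hg : FlatMor.IsUnivHomeo (f ∣_ (V : Y.Opens)) := by
    have : (FlatMor.IsUnivHomeo : MorphismProperty Scheme.{u}).IsStableUnderBaseChange := by
      unfold FlatMor.IsUnivHomeo; infer_instance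
    exact MorphismProperty.of_isPullback (isPullback_morphismRestrict f V).flip hf
  have hg' : FlatMor.IsUnivHomeo (Spec.map (f ∣_ (V : Y.Opens)).appTop) := by
    have := isUnivHomeo_respectsIso
    exact (MorphismProperty.arrow_mk_iso_iff _ (arrowIsoSpecΓOfIsAffine (f ∣_ (V : Y.Opens)))).1 hg
  rw [ConcreteCategory.isIso_iff_bijective]
  have h1 := hY ((V : Y.Opens).ι ''ᵁ ⊤)
  have h2 := hX ((f ⁻¹ᵁ (V : Y.Opens)).ι ''ᵁ ⊤)
  exact bijective_of_isUnivHomeo_of_perfect' p h1.1 h2.1 h1.2 h2.2
    (f ∣_ (V : Y.Opens)).appTop.hom hg'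

end Groth.Agent.Helper7.Perf
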