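import Groth.Agent.Helper7.Perf1
import Groth.Agent.Helper5.UnivHomeo1

set_option autoImplicit false
set_option linter.unusedSectionVars false
universe u
open CategoryTheory CategoryTheory.Limits AlgebraicGeometry TopologicalSpace MorphismProperty

namespace Groth.Agent.Helper7.Perf

open FrobSch

variable (p : ℕ) [Fact p.Prime]

/-- The perfect closure of a field of characteristic `p`, as a perfect scheme with an
epimorphism to the spectrum of the field. -/
theorem exists_perfect_cover_field (K : Type u) [Field K] [CharP K p] :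
    ∃ (Z : Scheme.{u}) (_ : IsCharP Z p) (c : Z ⟶ Spec (CommRingCat.of K)),
      IsPerfect Z p ∧ Epi c ∧ Nonempty Z := by
  refine ⟨Spec (CommRingCat.of (PerfectClosure K p)), inferInstance,
    Spec.map (CommRingCat.ofHom (PerfectClosure.of K p)), ?_, ?_, ?_⟩
  · exact isPerfect_Spec p _ (PerfectRing.bijective_frobenius (R := PerfectClosure K p) (p := p))
  · have hflat : Flat (Spec.map (CommRingCat.ofHom (PerfectClosure.of K p))) := by
      rw [Flat.SpecMap_iff]
      simp only [CommRingCat.hom_ofHom]
      unfold RingHom.Flat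
      let _ := (PerfectClosure.of K p).toAlgebra
      infer_instance
    have hsurj : Surjective (Spec.map (CommRingCat.ofHom (PerfectClosure.of K p))) := by
      constructor
      intro y
      refine ⟨⟨⊥, Ideal.isPrime_bot⟩, ?_⟩
      exact Subsingleton.elim (α := PrimeSpectrum K) _ _
    exact Flat.epi_of_flat_of_surjective _
  · exact ⟨⟨⊥, Ideal.isPrime_bot⟩⟩

section

variable {XP X : Scheme.{u}} [IsCharP XP p] [IsCharP X p] (π : XP ⟶ X) (hπ : IsPerfection π p)
include hπ

theorem IsPerfection.surjective : Surjective π := by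
  constructor
  intro x
  have h0 : IsCharP (Spec (X.residueField x)) p := IsCharP.of_hom (X.fromSpecResidueField x) p
  have hchar : CharP (X.residueField x) p :=
    (CharP.charP_iff_prime_eq_zero (Fact.out : p.Prime)).2
      (natCast_eq_zero_of_isCharP_Spec p (X.residueField x))
  obtain ⟨Z, _, c, hZ, -, ⟨z⟩⟩ := exists_perfect_cover_field p (X.residueField x)
  obtain ⟨g, hg⟩ := (hπ.2 Z hZ).2 (c ≫ X.fromSpecResidueField x)
  dsimp only at hg
  refine ⟨g z, ?_⟩
  have : π (g z) = (c ≫ X.fromSpecResidueField x) z := by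
    rw [← hg]; rfl
  rw [this]
  exact Scheme.fromSpecResidueField_apply x _

theorem IsPerfection.universallyInjective : UniversallyInjective π := by
  have hiff := (tfae_universallyInjective π).out 0 1
  rw [hiff]
  intro K _ g₁ g₂ h
  dsimp only at h
  have h0 : IsCharP (Spec (CommRingCat.of K)) p := IsCharP.of_hom g₁ p
  have hchar : CharP K p :=
    (CharP.charP_iff_prime_eq_zero (Fact.out : p.Prime)).2
      (natCast_eq_zero_of_isCharP_Spec p (CommRingCat.of K))
  obtain ⟨Z, _, c, hZ, hc, -⟩ := exists_perfect_cover_field p K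
  have : c ≫ g₁ = c ≫ g₂ := by
    apply (hπ.2 Z hZ).1
    dsimp only
    rw [Category.assoc, Category.assoc, h]
  exact (cancel_epi c).1 this

theorem IsPerfection.isIntegralHom : IsIntegralHom π := by
  have := IsPerfection.isAffineHom p π hπ
  refine ⟨fun U hU (s : Γ(XP, π ⁻¹ᵁ U)) => ?_⟩
  show ∃ P : Polynomial Γ(X, U), P.Monic ∧ Polynomial.eval₂ (π.app U).hom s P = 0
  obtain ⟨n, r, hr⟩ := IsPerfection.exists_pow_eq p π hπ hU s
  refine ⟨Polynomial.X ^ p ^ n - Polynomial.C r,
    Polynomial.monic_X_pow_sub_C r (pow_ne_zero _ (Fact.out : p.Prime).ne_zero), ?_⟩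
  rw [Polynomial.eval₂_sub, Polynomial.eval₂_pow, Polynomial.eval₂_X, Polynomial.eval₂_C]
  have : (π.app U).hom r = s ^ p ^ n := hr
  rw [this]
  exact sub_self _

theorem IsPerfection.isUnivHomeo : FlatMor.IsUnivHomeo π := by
  rw [Groth.Agent.Helper5.UnivHomeo.isUnivHomeo_iff]
  exact ⟨IsPerfection.isIntegralHom p π hπ, IsPerfection.universallyInjective p π hπ,
    IsPerfection.surjective p π hπ⟩

theorem IsPerfection.isHomeomorph : IsHomeomorph π.base :=
  (IsPerfection.isUnivHomeo p π hπ) _ _ _ .of_id_snd

end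

end Groth.Agent.Helper7.Perf
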