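import Groth.Agent.Helper7.Perf2

set_option autoImplicit false
set_option linter.unusedSectionVars false
universe u
open CategoryTheory CategoryTheory.Limits AlgebraicGeometry TopologicalSpace MorphismProperty

namespace Groth.Agent.Helper7.Perf

open FrobSch

section Topological

variable {X Y XP YP : Scheme.{u}} (πX : XP ⟶ X) (πY : YP ⟶ Y)
  (hX : IsHomeomorph πX.base) (hY : IsHomeomorph πY.base)
  (f : X ⟶ Y) (fP : XP ⟶ YP) (w : fP ≫ πY = πX ≫ f)
include hX hY w

theorem preimage_comm (U : Set Y) : fP ⁻¹' (πY ⁻¹' U) = πX ⁻¹' (f ⁻¹' U) := by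
  ext x
  simp only [Set.mem_preimage]
  have : πY (fP x) = f (πX x) := by
    have := congrArg (fun g => g.base x) w
    exact this
  rw [this]

theorem quasiCompact_iff_of_homeo : QuasiCompact f ↔ QuasiCompact fP := by
  constructor
  · intro h
    constructor
    intro W hW hWc
    have hW' : W = πY ⁻¹' (πY '' W) := (Set.preimage_image_eq W hY.injective).symm
    rw [hW', preimage_comm πX πY hX hY f fP w]
    have h1 : IsCompact (f ⁻¹' (πY '' W)) :=
      h.isCompact_preimage _ (hY.isOpenMap _ hW) (hWc.image hY.continuous)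
    exact (hX.homeomorph.isCompact_preimage).2 h1
  · intro h
    constructor
    intro U hU hUc
    have h1 : IsCompact (fP ⁻¹' (πY ⁻¹' U)) :=
      h.isCompact_preimage _ (hU.preimage hY.continuous) ((hY.homeomorph.isCompact_preimage).2 hUc)
    rw [preimage_comm πX πY hX hY f fP w] at h1
    exact (hX.homeomorph.isCompact_preimage).1 h1

end Topological

end Groth.Agent.Helper7.Perf
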