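import Groth.Agent.Helper7.Perf3

set_option autoImplicit false
set_option linter.unusedSectionVars false
universe u
open CategoryTheory CategoryTheory.Limits AlgebraicGeometry TopologicalSpace MorphismProperty

namespace Groth.Agent.Helper7.Perf

open FrobSch

/-- Separatedness descends along a surjective universally closed morphism of the source. -/
theorem isSeparated_of_comp_of_surjective {X' X Y : Scheme.{u}} (q : X' ⟶ X) (f : X ⟶ Y)
    [Surjective q] [UniversallyClosed q] [IsSeparated (q ≫ f)] : IsSeparated f := by
  let m : pullback (q ≫ f) (q ≫ f) ⟶ pullback f f :=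
    pullback.map (q ≫ f) (q ≫ f) f f q q (𝟙 Y) ((Category.comp_id _).trans rfl)
      ((Category.comp_id _).trans rfl)
  have hm : UniversallyClosed m :=
    MorphismProperty.pullbackMap (P := @UniversallyClosed) ‹_› ‹_› rfl rfl
  have hcomm : pullback.diagonal (q ≫ f) ≫ m = q ≫ pullback.diagonal f := by
    apply pullback.hom_ext
    · simp only [m, Category.assoc, pullback.lift_fst, pullback.diagonal_fst_assoc,
        pullback.diagonal_fst, Category.comp_id, pullback.map]
    · simp only [m, Category.assoc, pullback.lift_snd, pullback.diagonal_snd_assoc,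
        pullback.diagonal_snd, Category.comp_id, pullback.map]
  have hrange : Set.range (pullback.diagonal f) = m '' Set.range (pullback.diagonal (q ≫ f)) := by
    ext z
    constructor
    · rintro ⟨x, rfl⟩
      obtain ⟨x', rfl⟩ := q.surjective x
      refine ⟨pullback.diagonal (q ≫ f) x', ⟨x', rfl⟩, ?_⟩
      have := congrArg (fun g => g.base x') hcomm
      exact this
    · rintro ⟨_, ⟨x', rfl⟩, rfl⟩
      refine ⟨q x', ?_⟩
      have := congrArg (fun g => g.base x') hcomm
      exact this.symm
  have hclosed : IsClosed (Set.range (pullback.diagonal f)) := by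
    rw [hrange]
    exact m.isClosedMap _ (pullback.diagonal (q ≫ f)).isClosedEmbedding.isClosed_range
  exact ⟨IsClosedImmersion.of_isPreimmersion _ hclosed⟩

variable (p : ℕ) [Fact p.Prime]

section

variable {X Y XP YP : Scheme.{u}}
  [IsCharP X p] [IsCharP Y p] [IsCharP XP p] [IsCharP YP p]
  (πX : XP ⟶ X) (πY : YP ⟶ Y) (hX : IsPerfection πX p) (hY : IsPerfection πY p)
  (f : X ⟶ Y) (fP : XP ⟶ YP) (w : fP ≫ πY = πX ≫ f)
include hX hY w

theorem universallyClosed_iff : UniversallyClosed f ↔ UniversallyClosed fP := by
  have h1 : IsIntegralHom πX := IsPerfection.isIntegralHom p πX hX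
  have h2 : IsIntegralHom πY := IsPerfection.isIntegralHom p πY hY
  have h3 : Surjective πX := IsPerfection.surjective p πX hX
  constructor
  · intro h
    have : UniversallyClosed (fP ≫ πY) := by rw [w]; infer_instance
    exact UniversallyClosed.of_comp_of_isSeparated fP πY
  · intro h
    have : UniversallyClosed (πX ≫ f) := by rw [← w]; infer_instance
    exact UniversallyClosed.of_comp_surjective πX f

theorem isSeparated_iff : IsSeparated f ↔ IsSeparated fP := by
  have h1 : IsIntegralHom πX := IsPerfection.isIntegralHom p πX hX
  have h2 : IsIntegralHom πY := IsPerfection.isIntegralHom p πY hY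
  have h3 : Surjective πX := IsPerfection.surjective p πX hX
  constructor
  · intro h
    have : IsSeparated (fP ≫ πY) := by rw [w]; infer_instance
    exact IsSeparated.of_comp fP πY
  · intro h
    have : IsSeparated (πX ≫ f) := by rw [← w]; infer_instance
    exact isSeparated_of_comp_of_surjective πX f

end

end Groth.Agent.Helper7.Perf
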