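import Groth.Agent.Helper7.Perf4

set_option autoImplicit false
set_option linter.unusedSectionVars false
universe u
open CategoryTheory CategoryTheory.Limits AlgebraicGeometry TopologicalSpace MorphismProperty

namespace Groth.Agent.Helper7.Perf

open FrobSch

theorem universallyInjective_of_comp' {X Y Z : Scheme.{u}} (f : X ⟶ Y) (g : Y ⟶ Z)
    [UniversallyInjective (f ≫ g)] : UniversallyInjective f := by
  have h1 := (tfae_universallyInjective f).out 0 1
  have h2 := (tfae_universallyInjective (f ≫ g)).out 0 1
  rw [h1]
  intro K _ g₁ g₂ h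
  dsimp only at h
  apply (h2.1 ‹_›) K
  dsimp only
  rw [← Category.assoc, ← Category.assoc, h]

/-- Universal injectivity descends along a surjection of the source. -/
theorem universallyInjective_of_comp_of_surjective {X' X Y : Scheme.{u}} (q : X' ⟶ X) (f : X ⟶ Y)
    [Surjective q] [UniversallyInjective (q ≫ f)] : UniversallyInjective f := by
  have h1 := (tfae_universallyInjective f).out 0 3
  have h2 := (tfae_universallyInjective (q ≫ f)).out 0 3
  rw [h1]
  have hd : Surjective (pullback.diagonal (q ≫ f)) := h2.1 ‹_›
  let m : pullback (q ≫ f) (q ≫ f) ⟶ pullback f f :=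
    pullback.map (q ≫ f) (q ≫ f) f f q q (𝟙 Y) ((Category.comp_id _).trans rfl)
      ((Category.comp_id _).trans rfl)
  have hm : Surjective m :=
    MorphismProperty.pullbackMap (P := @Surjective) ‹_› ‹_› rfl rfl
  have hcomm : pullback.diagonal (q ≫ f) ≫ m = q ≫ pullback.diagonal f := by
    apply pullback.hom_ext
    · simp only [m, Category.assoc, pullback.lift_fst, pullback.diagonal_fst_assoc,
        pullback.diagonal_fst, Category.comp_id, pullback.map]
    · simp only [m, Category.assoc, pullback.lift_snd, pullback.diagonal_snd_assoc,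
        pullback.diagonal_snd, Category.comp_id, pullback.map]
  constructor
  intro z
  obtain ⟨z', rfl⟩ := m.surjective z
  obtain ⟨x', rfl⟩ := (pullback.diagonal (q ≫ f)).surjective z'
  refine ⟨q x', ?_⟩
  have := congrArg (fun g => g.base x') hcomm
  exact this.symm

variable (p : ℕ) [Fact p.Prime]

section

variable {X Y XP YP : Scheme.{u}}
  [IsCharP X p] [IsCharP Y p] [IsCharP XP p] [IsCharP YP p]
  (πX : XP ⟶ X) (πY : YP ⟶ Y) (hX : IsPerfection πX p) (hY : IsPerfection πY p)
  (f : X ⟶ Y) (fP : XP ⟶ YP) (w : fP ≫ πY = πX ≫ f)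
include hX hY w

theorem isUnivHomeo_iff : FlatMor.IsUnivHomeo f ↔ FlatMor.IsUnivHomeo fP := by
  have h1 : IsIntegralHom πX := IsPerfection.isIntegralHom p πX hX
  have h2 : IsIntegralHom πY := IsPerfection.isIntegralHom p πY hY
  have h3 : Surjective πX := IsPerfection.surjective p πX hX
  have h4 : Surjective πY := IsPerfection.surjective p πY hY
  have h5 : UniversallyInjective πX := IsPerfection.universallyInjective p πX hX
  have h6 : UniversallyInjective πY := IsPerfection.universallyInjective p πY hY
  rw [Groth.Agent.Helper5.UnivHomeo.isUnivHomeo_iff, Groth.Agent.Helper5.UnivHomeo.isUnivHomeo_iff]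
  constructor
  · rintro ⟨hi, hj, hs⟩
    have a1 : IsIntegralHom (fP ≫ πY) := by rw [w]; infer_instance
    have a2 : UniversallyInjective (fP ≫ πY) := by
      rw [w]; exact MorphismProperty.comp_mem (W := @UniversallyInjective) _ _ h5 hj
    have a3 : Surjective (fP ≫ πY) := by rw [w]; infer_instance
    refine ⟨IsIntegralHom.of_comp fP πY, universallyInjective_of_comp' fP πY, ?_⟩
    constructor
    intro y'
    obtain ⟨x', hx'⟩ := (fP ≫ πY).surjective (πY y')
    exact ⟨x', πY.injective hx'⟩
  · rintro ⟨hi, hj, hs⟩
    have a1 : IsIntegralHom (πX ≫ f) := by rw [← w]; infer_instance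
    have a2 : UniversallyInjective (πX ≫ f) := by
      rw [← w]; exact MorphismProperty.comp_mem (W := @UniversallyInjective) _ _ hj h6
    have a3 : Surjective (πX ≫ f) := by rw [← w]; infer_instance
    have b1 : UniversallyInjective f := universallyInjective_of_comp_of_surjective πX f
    have b2 : Surjective f := by
      constructor
      intro y
      obtain ⟨x', hx'⟩ := (πX ≫ f).surjective y
      exact ⟨πX x', hx'⟩
    have b3 : UniversallyClosed f := UniversallyClosed.of_comp_surjective πX f
    refine ⟨?_, b1, b2⟩
    rw [IsIntegralHom.iff_universallyClosed_and_isAffineHom]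
    refine ⟨b3, Groth.Agent.Helper5.UnivHomeo.isAffineHom_of_isHomeomorph f ?_⟩
    rw [isHomeomorph_iff_continuous_isClosedMap_bijective]
    exact ⟨f.continuous, f.isClosedMap, f.injective, f.surjective⟩

end

end Groth.Agent.Helper7.Perf
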