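import Groth.Agent.Helper7.Perf5

set_option autoImplicit false
set_option linter.unusedSectionVars false
universe u
open CategoryTheory CategoryTheory.Limits AlgebraicGeometry TopologicalSpace MorphismProperty

namespace Groth.Agent.Helper7.Perf

open FrobSch

set_option backward.isDefEq.respectTransparency false in
/-- Checking an "affine and `Q`" property on an affine open cover of the target. -/
theorem of_affine_cover {P : MorphismProperty Scheme.{u}}
    {Q : ∀ {R S : Type u} [CommRing R] [CommRing S], (R →+* S) → Prop}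
    (hP : HasAffineProperty P (affineAnd Q)) (hQi : RingHom.RespectsIso Q)
    {X Y : Scheme.{u}} (g : X ⟶ Y) {ι : Type*} (U : ι → Y.affineOpens)
    (hU : ⨆ i, (U i : Y.Opens) = ⊤)
    (h : ∀ i, IsAffineOpen (g ⁻¹ᵁ (U i : Y.Opens)) ∧ Q (g.app (U i)).hom) : P g := by
  rw [HasAffineProperty.iff_of_iSup_eq_top (P := P) U hU]
  intro i
  simp only [affineAnd_apply, morphismRestrict_app, CommRingCat.hom_comp, hQi.cancel_right_isIso]
  refine ⟨(h i).1, ?_⟩
  change Q (Scheme.Hom.app g ((U i : Y.Opens).ι ''ᵁ ⊤)).hom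
  rw [Scheme.Opens.ι_image_top]
  exact (h i).2

variable (p : ℕ) [Fact p.Prime]

section

variable {X Y XP YP : Scheme.{u}}
  [IsCharP X p] [IsCharP Y p] [IsCharP XP p] [IsCharP YP p]
  (πX : XP ⟶ X) (πY : YP ⟶ Y) (hX : IsPerfection πX p) (hY : IsPerfection πY p)
  (f : X ⟶ Y) (fP : XP ⟶ YP) (w : fP ≫ πY = πX ≫ f)

include w in
theorem preimage_eq (V : Y.Opens) : fP ⁻¹ᵁ πY ⁻¹ᵁ V = πX ⁻¹ᵁ f ⁻¹ᵁ V := by
  have := congrArg (fun g => g ⁻¹ᵁ V) w
  exact this

include w in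
theorem app_square (V : Y.Opens) :
    πY.app V ≫ fP.appLE (πY ⁻¹ᵁ V) (πX ⁻¹ᵁ f ⁻¹ᵁ V) (preimage_eq πX πY f fP w V).ge =
      f.app V ≫ πX.app (f ⁻¹ᵁ V) := by
  have h1 : (fP ≫ πY).appLE V (πX ⁻¹ᵁ f ⁻¹ᵁ V) (preimage_eq πX πY f fP w V).ge =
      πY.app V ≫ fP.appLE (πY ⁻¹ᵁ V) (πX ⁻¹ᵁ f ⁻¹ᵁ V) (preimage_eq πX πY f fP w V).ge :=
    Scheme.Hom.comp_appLE _ _ _ _ _
  have h2 : (πX ≫ f).appLE V (πX ⁻¹ᵁ f ⁻¹ᵁ V) le_rfl =
      f.app V ≫ πX.appLE (f ⁻¹ᵁ V) (πX ⁻¹ᵁ f ⁻¹ᵁ V) le_rfl :=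
    Scheme.Hom.comp_appLE _ _ _ _ _
  rw [← h1, Scheme.Hom.app_eq_appLE (f := πX), ← h2]
  congr 1

/-- The affine opens `πY ⁻¹ᵁ V` cover the perfection. -/
noncomputable def coverP (hY : IsPerfection πY p) : Y.affineOpens → YP.affineOpens :=
  fun V => ⟨πY ⁻¹ᵁ V, IsPerfection.isAffineOpen_preimage p πY hY V.2⟩

theorem iSup_coverP : ⨆ V : Y.affineOpens, (coverP p πY hY V : YP.Opens) = ⊤ := by
  have h := iSup_affineOpens_eq_top Y
  have h2 := congrArg (fun W => πY ⁻¹ᵁ W) h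
  simp only [Scheme.Hom.preimage_iSup, Scheme.Hom.preimage_top] at h2
  exact h2

/-- `p^n`-th powers are injective on sections of a perfect scheme. -/
theorem pow_injective_of_isPerfect (Z : Scheme.{u}) [IsCharP Z p] (hZ : IsPerfect Z p) (U : Z.Opens)
    (n : ℕ) : Function.Injective (fun s : Γ(Z, U) => s ^ p ^ n) := by
  induction n with
  | zero => intro a b h; simpa using h
  | succ n ih =>
    intro a b h
    simp only [pow_succ, pow_mul] at h
    exact ih ((bijective_pow_app p Z hZ U).1 h)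

theorem pow_surjective_of_isPerfect (Z : Scheme.{u}) [IsCharP Z p] (hZ : IsPerfect Z p) (U : Z.Opens)
    (n : ℕ) : Function.Surjective (fun s : Γ(Z, U) => s ^ p ^ n) := by
  induction n with
  | zero => intro a; exact ⟨a, by simp⟩
  | succ n ih =>
    intro a
    obtain ⟨b, hb⟩ := (bijective_pow_app p Z hZ U).2 a
    obtain ⟨c, hc⟩ := ih b
    refine ⟨c, ?_⟩
    simp only [pow_succ, pow_mul] at hc hb ⊢
    rw [hc, hb]

include hX hY w in
theorem isClosedImmersion_perfection [IsClosedImmersion f] : IsClosedImmersion fP := by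
  refine of_affine_cover (Q := fun f => Function.Surjective f) IsClosedImmersion.hasAffineProperty
    RingHom.surjective_respectsIso fP (coverP p πY hY) (iSup_coverP p πY hY) ?_
  intro V
  have hfV : IsAffineOpen (f ⁻¹ᵁ (V : Y.Opens)) := V.2.preimage f
  have hW : IsAffineOpen (πX ⁻¹ᵁ f ⁻¹ᵁ (V : Y.Opens)) :=
    IsPerfection.isAffineOpen_preimage p πX hX hfV
  have heq := preimage_eq πX πY f fP w V
  have hsurj : Function.Surjective
      (fP.appLE (πY ⁻¹ᵁ V) (πX ⁻¹ᵁ f ⁻¹ᵁ V) heq.ge) := by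
    intro t
    obtain ⟨n, r, hr⟩ := IsPerfection.exists_pow_eq p πX hX hfV t
    obtain ⟨a, rfl⟩ := f.app_surjective V V.2 r
    obtain ⟨c, hc⟩ := pow_surjective_of_isPerfect p YP hY.1 (πY ⁻¹ᵁ V) n (πY.app V a)
    dsimp only at hc
    refine ⟨c, ?_⟩
    apply pow_injective_of_isPerfect p XP hX.1 _ n
    dsimp only
    rw [← map_pow, hc, ← hr]
    have := congrArg (fun φ => φ.hom a) (app_square πX πY f fP w V)
    simpa using this
  refine ⟨?_, ?_⟩
  · show IsAffineOpen (fP ⁻¹ᵁ πY ⁻¹ᵁ (V : Y.Opens))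
    rw [heq]
    exact hW
  · show Function.Surjective (fP.app (πY ⁻¹ᵁ (V : Y.Opens))).hom
    rw [Scheme.Hom.app_eq_appLE]
    have := (Scheme.Hom.appLE_congr fP heq.ge rfl heq.symm
      (fun φ => Function.Surjective φ.hom)).1 hsurj
    exact this

end

end Groth.Agent.Helper7.Perf
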