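import Groth.Agent.Helper7.Perf6

set_option autoImplicit false
set_option linter.unusedSectionVars false
universe u
open CategoryTheory CategoryTheory.Limits AlgebraicGeometry TopologicalSpace MorphismProperty

namespace Groth.Agent.Helper7.Perf

open FrobSch

variable (p : ℕ) [Fact p.Prime]

section

variable {X Y XP YP : Scheme.{u}}
  [IsCharP X p] [IsCharP Y p] [IsCharP XP p] [IsCharP YP p]
  (πX : XP ⟶ X) (πY : YP ⟶ Y) (hX : IsPerfection πX p) (hY : IsPerfection πY p)
  (f : X ⟶ Y) (fP : XP ⟶ YP) (w : fP ≫ πY = πX ≫ f)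
include hX hY w

/-- If `f` factors through an open `U` of `Y`, the induced map of perfections factors through
`πY ⁻¹ᵁ U`, compatibly. -/
theorem exists_factor_open (U : Y.Opens) (c : X ⟶ U) (hc : c ≫ U.ι = f) :
    ∃ cP : XP ⟶ (πY ⁻¹ᵁ U : YP.Opens), cP ≫ (πY ∣_ U) = πX ≫ c ∧ cP ≫ (πY ⁻¹ᵁ U).ι = fP := by
  have hU := IsPerfection.restrict p πY hY U
  obtain ⟨cP, hcP⟩ := (hU.2 XP hX.1).2 (πX ≫ c)
  dsimp only at hcP
  refine ⟨cP, hcP, ?_⟩
  apply (hY.2 XP hX.1).1
  dsimp only
  rw [Category.assoc, ← morphismRestrict_ι, ← Category.assoc, hcP, Category.assoc, hc, w]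

theorem isOpenImmersion_perfection [IsOpenImmersion f] : IsOpenImmersion fP := by
  let U : Y.Opens := f.opensRange
  let e : X ≅ U := f.isoOpensRange
  have he : e.hom ≫ U.ι = f := f.isoOpensRange_hom_ι
  obtain ⟨cP, h1, h2⟩ := exists_factor_open p πX πY hX hY f fP w U e.hom he
  have hU := IsPerfection.restrict p πY hY U
  have hX' := IsPerfection.comp_iso p πX hX e.hom
  obtain ⟨a, ha⟩ := IsPerfection.exists_iso p _ _ hX' hU
  have : cP = a.hom := by
    apply (hU.2 XP hX.1).1
    dsimp only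
    rw [h1, ha]
  have hiso : IsIso cP := by rw [this]; infer_instance
  rw [← h2]
  infer_instance

theorem isImmersion_perfection [IsImmersion f] : IsImmersion fP := by
  let U : Y.Opens := f.coborderRange
  obtain ⟨cP, h1, h2⟩ :=
    exists_factor_open p πX πY hX hY f fP w U f.liftCoborder f.liftCoborder_ι
  have hU := IsPerfection.restrict p πY hY U
  have : IsClosedImmersion cP :=
    isClosedImmersion_perfection p πX (πY ∣_ U) hX hU f.liftCoborder cP h1
  rw [← h2]
  infer_instance

end

end Groth.Agent.Helper7.Perf
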