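import Groth.Agent.Helper7.Perf7

set_option autoImplicit false
set_option linter.unusedSectionVars false
universe u
open CategoryTheory CategoryTheory.Limits AlgebraicGeometry TopologicalSpace MorphismProperty

namespace Groth.Agent.Helper7.Perf

open FrobSch

variable (p : ℕ) [Fact p.Prime]

theorem quasiSeparatedSpace_iff_of_isHomeomorph {α β : Type*} [TopologicalSpace α]
    [TopologicalSpace β] (g : α → β) (hg : IsHomeomorph g) :
    QuasiSeparatedSpace α ↔ QuasiSeparatedSpace β := by
  constructor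
  · intro h
    exact (hg.homeomorph.symm.isOpenEmbedding).quasiSeparatedSpace
  · intro h
    exact (hg.homeomorph.isOpenEmbedding).quasiSeparatedSpace

section

variable {X Y XP YP : Scheme.{u}}
  [IsCharP X p] [IsCharP Y p] [IsCharP XP p] [IsCharP YP p]
  (πX : XP ⟶ X) (πY : YP ⟶ Y) (hX : IsPerfection πX p) (hY : IsPerfection πY p)
  (f : X ⟶ Y) (fP : XP ⟶ YP) (w : fP ≫ πY = πX ≫ f)
include hX hY w

theorem quasiSeparated_iff : QuasiSeparated f ↔ QuasiSeparated fP := by
  rw [HasAffineProperty.iff_of_iSup_eq_top (P := @QuasiSeparated) (fun V : Y.affineOpens => V)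
      (iSup_affineOpens_eq_top Y),
    HasAffineProperty.iff_of_iSup_eq_top (P := @QuasiSeparated) (coverP p πY hY)
      (iSup_coverP p πY hY)]
  refine forall_congr' fun V => ?_
  show QuasiSeparatedSpace ↑(f ⁻¹ᵁ (V : Y.Opens)) ↔
    QuasiSeparatedSpace ↑(fP ⁻¹ᵁ πY ⁻¹ᵁ (V : Y.Opens))
  rw [preimage_eq πX πY f fP w V]
  have h := IsPerfection.isHomeomorph p _ (IsPerfection.restrict p πX hX (f ⁻¹ᵁ (V : Y.Opens)))
  exact (quasiSeparatedSpace_iff_of_isHomeomorph _ h).symm

end

end Groth.Agent.Helper7.Perf
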