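import Groth.Agent.Helper7.PerfInt

set_option autoImplicit false
universe u
open Polynomial

namespace Groth.Agent.Helper7.PerfInt

variable (p : ℕ) [Fact p.Prime]
  {A B A' B' : Type u} [CommRing A] [CommRing B] [CommRing A'] [CommRing B']
  [CharP A p] [CharP B p] [CharP A' p] [CharP B' p] [PerfectRing A' p] [PerfectRing B' p]

theorem exists_common_pow_fun (i : A →+* A') [IsPerfectClosure i p] {l : ℕ} (f : Fin l → A') :
    ∃ N : ℕ, ∀ M, N ≤ M → ∀ k, ∃ a : A, i a = f k ^ p ^ M := by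
  classical
  obtain ⟨N, hN⟩ := exists_common_pow p i (Finset.univ.image f)
  refine ⟨N, fun M hM k => ?_⟩
  obtain ⟨a, ha⟩ := hN (f k) (Finset.mem_image_of_mem f (Finset.mem_univ k))
  refine ⟨a ^ p ^ (M - N), ?_⟩
  rw [map_pow, ha, ← pow_mul, ← pow_add, Nat.add_sub_cancel' hM]

theorem frob_sum {R : Type u} [CommRing R] [CharP R p] {l : ℕ} (g : Fin l → R) (N : ℕ) :
    (∑ k, g k) ^ p ^ N = ∑ k, g k ^ p ^ N := by
  have := map_sum (iterateFrobenius R p N) g Finset.univ
  simp only [iterateFrobenius_def] at this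
  exact this

theorem pow_inj {R : Type u} [CommRing R] [CharP R p] [PerfectRing R p] (N : ℕ) {x y : R}
    (h : x ^ p ^ N = y ^ p ^ N) : x = y :=
  (iterateFrobeniusEquiv R p N).injective h

theorem symm_pow {R : Type u} [CommRing R] [CharP R p] [PerfectRing R p] (N : ℕ) (x : R) :
    ((iterateFrobeniusEquiv R p N).symm x) ^ p ^ N = x :=
  (iterateFrobeniusEquiv R p N).apply_symm_apply x

theorem flat_of_flat (φ : A →+* B) (hflat : φ.Flat) (i : A →+* A') (j : B →+* B')
    [IsPerfectClosure i p] [IsPerfectClosure j p]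
    (φ' : A' →+* B') (hφ : φ'.comp i = j.comp φ) : φ'.Flat := by
  let _ := φ.toAlgebra
  let _ := φ'.toAlgebra
  have hflat' : Module.Flat A B := hflat
  show Module.Flat A' B'
  have hp := (Fact.out : p.Prime)
  have hφ' : ∀ a, φ' (i a) = j (φ a) := fun a => congrFun (congrArg DFunLike.coe hφ) a
  refine Module.Flat.of_forall_isTrivialRelation ?_
  intro l f x hfx
  have hfx' : ∑ k, φ' (f k) * x k = 0 := hfx
  obtain ⟨N₁, hN₁⟩ := exists_common_pow_fun p i f
  obtain ⟨N₂, hN₂⟩ := exists_common_pow_fun p j x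
  set N := N₁ + N₂ with hN
  choose a₀ ha₀ using hN₁ N (by omega)
  choose b₀ hb₀ using hN₂ N (by omega)
  -- the relation maps to zero under `j`
  have hr : j (∑ k, φ (a₀ k) * b₀ k) = 0 := by
    rw [map_sum]
    have h1 : ∀ k, j (φ (a₀ k) * b₀ k) = (φ' (f k) * x k) ^ p ^ N := by
      intro k
      rw [map_mul, ← hφ', ha₀, hb₀, map_pow, mul_pow]
    rw [Finset.sum_congr rfl (fun k _ => h1 k), ← frob_sum, hfx',
      zero_pow (pow_ne_zero _ hp.ne_zero)]
  have hr' : (∑ k, φ (a₀ k) * b₀ k) ∈ RingHom.ker j := hr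
  have hnil := IsPRadical.ker_le j p hr'
  rw [pNilradical_eq_nilradical hp.one_lt] at hnil
  obtain ⟨M, hM⟩ := hnil
  obtain ⟨t, ht⟩ : ∃ t, M ≤ p ^ t := ⟨M, (Nat.lt_pow_self hp.one_lt).le⟩
  have hzero : (∑ k, φ (a₀ k) * b₀ k) ^ p ^ t = 0 := pow_eq_zero_of_le ht hM
  rw [frob_sum] at hzero
  set a : Fin l → A := fun k => a₀ k ^ p ^ t with ha
  set b : Fin l → B := fun k => b₀ k ^ p ^ t with hb
  have hrel : ∑ k, φ (a k) * b k = 0 := by
    rw [← hzero]
    refine Finset.sum_congr rfl fun k _ => ?_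
    show φ (a₀ k ^ p ^ t) * b₀ k ^ p ^ t = _
    rw [map_pow, mul_pow]
  have hia : ∀ k, i (a k) = f k ^ p ^ (N + t) := by
    intro k
    rw [ha, map_pow, ha₀, ← pow_mul, ← pow_add]
  have hjb : ∀ k, j (b k) = x k ^ p ^ (N + t) := by
    intro k
    rw [hb, map_pow, hb₀, ← pow_mul, ← pow_add]
  obtain ⟨K, c, y, hc1, hc2⟩ :=
    Module.Flat.isTrivialRelation_of_sum_smul_eq_zero (R := A) (M := B) (f := a) (x := b) hrel
  refine ⟨K, fun k s => (iterateFrobeniusEquiv A' p (N + t)).symm (i (c k s)),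
    fun s => (iterateFrobeniusEquiv B' p (N + t)).symm (j (y s)), ?_, ?_⟩
  · intro k
    apply pow_inj p (N + t)
    rw [← hjb, hc1 k, frob_sum, map_sum]
    refine Finset.sum_congr rfl fun s _ => ?_
    show j (φ (c k s) * y s) = (φ' _ * _) ^ p ^ (N + t)
    rw [mul_pow, ← map_pow, symm_pow, symm_pow, map_mul, hφ']
  · intro s
    apply pow_inj p (N + t)
    rw [frob_sum, zero_pow (pow_ne_zero _ hp.ne_zero)]
    have h2 : ∀ k, (f k * (iterateFrobeniusEquiv A' p (N + t)).symm (i (c k s))) ^ p ^ (N + t)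
        = i (a k * c k s) := by
      intro k
      rw [mul_pow, symm_pow, map_mul, hia]
    rw [Finset.sum_congr rfl (fun k _ => h2 k), ← map_sum, hc2 s, map_zero]

end Groth.Agent.Helper7.PerfInt
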