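import Mathlib
import Groth.Agent.Helper7.PerfFlatOld

set_option autoImplicit false
set_option linter.unusedSectionVars false
universe u

namespace Groth.Agent.Helper7.PerfFlat

variable (p : ℕ) [Fact p.Prime]

/-- Uniform exponent for a finite family. -/
theorem exists_uniform {R R' : Type*} [CommRing R] [CommRing R'] (i : R →+* R')
    (hi : ∀ x : R', ∃ (n : ℕ) (r : R), i r = x ^ p ^ n) {l : ℕ} (x : Fin l → R') :
    ∃ (N : ℕ) (r : Fin l → R), ∀ k, i (r k) = x k ^ p ^ N := by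
  choose n r hr using fun k => hi (x k)
  refine ⟨∑ k, n k, fun k => r k ^ p ^ (∑ k, n k - n k), fun k => ?_⟩
  have hle : n k ≤ ∑ k, n k := Finset.single_le_sum (f := n) (fun _ _ => Nat.zero_le _) (Finset.mem_univ k)
  rw [map_pow, hr, ← pow_mul, ← pow_add, Nat.add_sub_cancel' hle]

theorem flat_of_pRadical {R S R' S' : Type u} [CommRing R] [CommRing S] [CommRing R']
    [CommRing S'] [ExpChar R p] [ExpChar S p] [ExpChar R' p] [ExpChar S' p]
    (φ : R →+* S) (i : R →+* R') (j : S →+* S') (φ' : R' →+* S')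
    (hcomm : φ'.comp i = j.comp φ) (hφ : φ.Flat)
    [PerfectRing R' p] [PerfectRing S' p]
    (hi : ∀ x : R', ∃ (n : ℕ) (r : R), i r = x ^ p ^ n)
    (hj : ∀ x : S', ∃ (n : ℕ) (s : S), j s = x ^ p ^ n)
    (hker : ∀ s : S, j s = 0 → IsNilpotent s) : φ'.Flat := by
  unfold RingHom.Flat at hφ ⊢
  let _ := φ.toAlgebra
  let _ := φ'.toAlgebra
  have hcomm' : ∀ r, φ' (i r) = j (φ r) := fun r => congrArg (fun g => g r) hcomm
  apply Module.Flat.of_forall_isTrivialRelation
  intro l f x hfx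
  have hfx' : ∑ k, φ' (f k) * x k = 0 := hfx
  obtain ⟨N1, r, hr⟩ := exists_uniform p i hi f
  obtain ⟨N2, s, hs⟩ := exists_uniform p j hj x
  -- the relation in `S`, up to nilpotents
  have hz : j (∑ k, φ (r k ^ p ^ N2) * s k ^ p ^ N1) = 0 := by
    rw [map_sum]
    have : ∀ k, j (φ (r k ^ p ^ N2) * s k ^ p ^ N1) =
        iterateFrobenius S' p (N1 + N2) (φ' (f k) * x k) := by
      intro k
      rw [map_mul, ← hcomm', map_pow, map_pow, map_pow, hr, hs, iterateFrobenius_def, mul_pow,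
        map_pow]
      congr 1
      · rw [← pow_mul, ← pow_add]
      · rw [← pow_mul, ← pow_add, add_comm N2 N1]
    simp_rw [this]
    rw [← map_sum, hfx', map_zero]
  obtain ⟨M0, hM0⟩ := hker _ hz
  obtain ⟨M, hM⟩ : ∃ M, M0 ≤ p ^ M := ⟨M0, (Nat.lt_pow_self (Fact.out : p.Prime).one_lt).le⟩
  have hz2 : ∑ k, (r k ^ p ^ N2) ^ p ^ M • (s k ^ p ^ N1) ^ p ^ M = (0 : S) := by
    have h0 : (∑ k, φ (r k ^ p ^ N2) * s k ^ p ^ N1) ^ p ^ M = 0 := pow_eq_zero_of_le hM hM0
    rw [← iterateFrobenius_def, map_sum] at h0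
    rw [← h0]
    refine Finset.sum_congr rfl fun k _ => ?_
    rw [iterateFrobenius_def, mul_pow, ← map_pow]
    rfl
  obtain ⟨k, a, y, hy, ha⟩ := Module.Flat.isTrivialRelation_of_sum_smul_eq_zero (R := R) (M := S)
    (f := fun k => (r k ^ p ^ N2) ^ p ^ M) (x := fun k => (s k ^ p ^ N1) ^ p ^ M) hz2
  have hy' : ∀ u, (s u ^ p ^ N1) ^ p ^ M = ∑ v, a u v • y v := hy
  have ha' : ∀ v, ∑ u, (r u ^ p ^ N2) ^ p ^ M * a u v = 0 := ha
  set T := N1 + N2 + M with hT
  let eR := iterateFrobeniusEquiv R' p T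
  let eS := iterateFrobeniusEquiv S' p T
  refine ⟨k, fun u v => eR.symm (i (a u v)), fun v => eS.symm (j (y v)), ?_, ?_⟩
  · intro u
    apply eS.injective
    rw [map_sum]
    have h1 : eS (x u) = j ((s u ^ p ^ N1) ^ p ^ M) := by
      rw [map_pow, map_pow, hs]
      show x u ^ p ^ T = _
      rw [hT, ← pow_mul, ← pow_mul, ← pow_add, ← pow_add]
      congr 2
      omega
    rw [h1, hy' u, map_sum]
    refine Finset.sum_congr rfl fun v _ => ?_
    have h2 : eS (eR.symm (i (a u v)) • eS.symm (j (y v))) =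
        eS (φ' (eR.symm (i (a u v)))) * eS (eS.symm (j (y v))) := by
      rw [← map_mul]; rfl
    rw [h2, RingEquiv.apply_symm_apply]
    have h3 : eS (φ' (eR.symm (i (a u v)))) = φ' (eR (eR.symm (i (a u v)))) := by
      show (φ' _) ^ p ^ T = φ' (_ ^ p ^ T)
      rw [map_pow]
    rw [h3, RingEquiv.apply_symm_apply, hcomm']
    have h4 : (a u v • y v : S) = φ (a u v) * y v := rfl
    rw [h4, map_mul]
  · intro v
    apply eR.injective
    rw [map_sum, map_zero]
    have h1 : ∀ u, eR (f u * eR.symm (i (a u v))) = i ((r u ^ p ^ N2) ^ p ^ M * a u v) := by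
      intro u
      rw [map_mul, RingEquiv.apply_symm_apply, map_mul, map_pow, map_pow, hr]
      congr 1
      show f u ^ p ^ T = _
      rw [hT, ← pow_mul, ← pow_mul, ← pow_add, ← pow_add, add_assoc]
    simp_rw [h1]
    rw [← map_sum, ha' v, map_zero]

end Groth.Agent.Helper7.PerfFlat
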