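import Groth.Agent.Helper7.Perf8
import Groth.Agent.Helper7.PerfFlat

set_option autoImplicit false
set_option linter.unusedSectionVars false
universe u
open CategoryTheory CategoryTheory.Limits AlgebraicGeometry TopologicalSpace MorphismProperty

namespace Groth.Agent.Helper7.Perf

open FrobSch

variable (p : ℕ) [Fact p.Prime]

section

variable {X Y XP YP : Scheme.{u}}
  [IsCharP X p] [IsCharP Y p] [IsCharP XP p] [IsCharP YP p]
  (πX : XP ⟶ X) (πY : YP ⟶ Y) (hX : IsPerfection πX p) (hY : IsPerfection πY p)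
  (f : X ⟶ Y) (fP : XP ⟶ YP) (w : fP ≫ πY = πX ≫ f)

include w in
theorem le_preimage (V : Y.Opens) (U : X.Opens) (e : U ≤ f ⁻¹ᵁ V) :
    πX ⁻¹ᵁ U ≤ fP ⁻¹ᵁ πY ⁻¹ᵁ V := by
  rw [preimage_eq πX πY f fP w V]
  exact πX.preimage_mono e

include w in
theorem appLE_square (V : Y.Opens) (U : X.Opens) (e : U ≤ f ⁻¹ᵁ V) :
    πY.app V ≫ fP.appLE (πY ⁻¹ᵁ V) (πX ⁻¹ᵁ U) (le_preimage πX πY f fP w V U e) =
      f.appLE V U e ≫ πX.app U := by
  have h1 : (fP ≫ πY).appLE V (πX ⁻¹ᵁ U) (le_preimage πX πY f fP w V U e) =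
      πY.app V ≫ fP.appLE (πY ⁻¹ᵁ V) (πX ⁻¹ᵁ U) (le_preimage πX πY f fP w V U e) :=
    Scheme.Hom.comp_appLE _ _ _ _ _
  have h2 : (πX ≫ f).appLE V (πX ⁻¹ᵁ U) (πX.preimage_mono e) =
      f.app V ≫ πX.appLE (f ⁻¹ᵁ V) (πX ⁻¹ᵁ U) (πX.preimage_mono e) :=
    Scheme.Hom.comp_appLE _ _ _ _ _
  have h3 : f.appLE V U e ≫ πX.app U =
      f.app V ≫ πX.appLE (f ⁻¹ᵁ V) (πX ⁻¹ᵁ U) (πX.preimage_mono e) := by
    rw [Scheme.Hom.appLE, Category.assoc, Scheme.Hom.app_eq_appLE (f := πX),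
      Scheme.Hom.map_appLE]
  rw [← h1, h3, ← h2]
  congr 1

include hX hY w in
theorem flat_perfection [Flat f] : Flat fP := by
  have hQ : RingHom.StableUnderCompositionWithLocalizationAwaySource RingHom.Flat :=
    (RingHom.Flat.stableUnderComposition.stableUnderCompositionWithLocalizationAway
      RingHom.Flat.holdsForLocalizationAway).1
  rw [HasRingHomProperty.iff_exists_appLE (P := @Flat) hQ]
  intro x'
  obtain ⟨V, hV, hyV, -⟩ := Opens.isBasis_iff_nbhd.mp Y.isBasis_affineOpens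
    (Opens.mem_top <| f (πX x'))
  obtain ⟨U, hU, hxU, e⟩ := Opens.isBasis_iff_nbhd.mp X.isBasis_affineOpens
    (show πX x' ∈ f ⁻¹ᵁ V from hyV)
  refine ⟨⟨πY ⁻¹ᵁ V, IsPerfection.isAffineOpen_preimage p πY hY hV⟩,
    ⟨πX ⁻¹ᵁ U, IsPerfection.isAffineOpen_preimage p πX hX hU⟩, hxU,
    le_preimage πX πY f fP w V U e, ?_⟩
  have hf : (f.appLE V U e).hom.Flat := HasRingHomProperty.appLE @Flat f ‹_› ⟨V, hV⟩ ⟨U, hU⟩ e
  have hsq := appLE_square πX πY f fP w V U e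
  rcases subsingleton_or_nontrivial Γ(XP, πX ⁻¹ᵁ U) with hs | hn
  · show (fP.appLE (πY ⁻¹ᵁ V) (πX ⁻¹ᵁ U) _).hom.Flat
    unfold RingHom.Flat
    let _ := (fP.appLE (πY ⁻¹ᵁ V) (πX ⁻¹ᵁ U) (le_preimage πX πY f fP w V U e)).hom.toAlgebra
    infer_instance
  · have n1 : Nontrivial Γ(X, U) := (πX.app U).hom.domain_nontrivial
    have n2 : Nontrivial Γ(YP, πY ⁻¹ᵁ V) :=
      (fP.appLE (πY ⁻¹ᵁ V) (πX ⁻¹ᵁ U) (le_preimage πX πY f fP w V U e)).hom.domain_nontrivial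
    have n3 : Nontrivial Γ(Y, V) := (πY.app V).hom.domain_nontrivial
    have c1 : CharP Γ(X, U) p :=
      (CharP.charP_iff_prime_eq_zero (Fact.out : p.Prime)).2 (natCast_eq_zero_app X p U)
    have c2 : CharP Γ(Y, V) p :=
      (CharP.charP_iff_prime_eq_zero (Fact.out : p.Prime)).2 (natCast_eq_zero_app Y p V)
    have c3 : CharP Γ(XP, πX ⁻¹ᵁ U) p :=
      (CharP.charP_iff_prime_eq_zero (Fact.out : p.Prime)).2 (natCast_eq_zero_app XP p _)
    have c4 : CharP Γ(YP, πY ⁻¹ᵁ V) p :=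
      (CharP.charP_iff_prime_eq_zero (Fact.out : p.Prime)).2 (natCast_eq_zero_app YP p _)
    have e1 : ExpChar Γ(X, U) p := ExpChar.prime (Fact.out : p.Prime)
    have e2 : ExpChar Γ(Y, V) p := ExpChar.prime (Fact.out : p.Prime)
    have e3 : ExpChar Γ(XP, πX ⁻¹ᵁ U) p := ExpChar.prime (Fact.out : p.Prime)
    have e4 : ExpChar Γ(YP, πY ⁻¹ᵁ V) p := ExpChar.prime (Fact.out : p.Prime)
    have p3 : PerfectRing Γ(XP, πX ⁻¹ᵁ U) p := ⟨bijective_pow_app p XP hX.1 _⟩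
    have p4 : PerfectRing Γ(YP, πY ⁻¹ᵁ V) p := ⟨bijective_pow_app p YP hY.1 _⟩
    refine Groth.Agent.Helper7.PerfFlat.flat_of_pRadical p (f.appLE V U e).hom (πY.app V).hom
      (πX.app U).hom _ ?_ hf ?_ ?_ ?_
    · have := congrArg CommRingCat.Hom.hom hsq
      simpa using this
    · exact fun x => IsPerfection.exists_pow_eq p πY hY hV x
    · exact fun x => IsPerfection.exists_pow_eq p πX hX hU x
    · exact fun s hs => IsPerfection.isNilpotent_of_app_eq_zero p πX hX hU s hs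

include hX hY w in
theorem surjective_perfection [Surjective f] : Surjective fP := by
  have h3 : Surjective πX := IsPerfection.surjective p πX hX
  have a3 : Surjective (fP ≫ πY) := by rw [w]; infer_instance
  constructor
  intro y'
  obtain ⟨x', hx'⟩ := (fP ≫ πY).surjective (πY y')
  exact ⟨x', (IsPerfection.isHomeomorph p πY hY).injective hx'⟩

end

end Groth.Agent.Helper7.Perf
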