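import Mathlib
import Groth.Prelude.Def_FrobAlg
import Groth.Agent.Helper7.FrobEtale

set_option autoImplicit false
set_option linter.style.haveILetI false
set_option linter.unusedSectionVars false

/-! S14257: the perfect closure of an étale algebra is the base change of the perfect closure. -/

namespace Groth.Agent.Helper7.PerfEtale

open TensorProduct

universe u

section ker
variable (p : ℕ) [Fact p.Prime] {A B A' : Type u} [CommRing A] [CommRing B] [CommRing A']
  [Algebra A B] [Algebra A A'] [Module.Flat A B]

/-- if `A → A'` has nil kernel and `B` is flat over `A`, then `B → A' ⊗ B` has nil kernel -/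
theorem isNilpotent_of_tmul_eq_zero (hker : ∀ a : A, algebraMap A A' a = 0 → IsNilpotent a)
    (b : B) (hb : (1 : A') ⊗ₜ[A] b = 0) : IsNilpotent b := by
  let N : Submodule A A := LinearMap.ker (Algebra.linearMap A A')
  have hex : Function.Exact N.subtype (Algebra.linearMap A A') := by
    rw [LinearMap.exact_iff]
    simp [N]
  have hex' := Module.Flat.rTensor_exact B hex
  have h1 : (Algebra.linearMap A A').rTensor B ((1 : A) ⊗ₜ[A] b) = 0 := by
    rw [LinearMap.rTensor_tmul, Algebra.linearMap_apply, map_one, hb]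
  obtain ⟨z, hz⟩ := (hex' _).mp h1
  have key : ∀ z : N ⊗[A] B, TensorProduct.lid A B (N.subtype.rTensor B z) ∈ nilradical B := by
    intro z
    induction z using TensorProduct.induction_on with
    | zero => simp
    | tmul n b' =>
      rw [LinearMap.rTensor_tmul, TensorProduct.lid_tmul, Submodule.subtype_apply,
        mem_nilradical, Algebra.smul_def]
      have hn : IsNilpotent (n : A) := hker _ n.2
      exact (Commute.all _ _).isNilpotent_mul_right (hn.map (algebraMap A B))
    | add x y hx hy =>
      rw [map_add, map_add]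
      exact add_mem hx hy
  have := key z
  rw [hz, TensorProduct.lid_tmul, one_smul] at this
  exact this

end ker

section main
variable (p : ℕ) [hp : Fact p.Prime]
    (A B A' : Type u) [CommRing A] [CommRing B] [CommRing A']
    [cA : CharP A p] [cB : CharP B p] [cA' : CharP A' p] [pA' : PerfectRing A' p]
    [Algebra A B] [eB : Algebra.Etale A B] [Algebra A A']
    [pc : IsPerfectClosure (algebraMap A A') p]

/-- the inclusion `B → A' ⊗ B` -/
noncomputable abbrev j : B →+* A' ⊗[A] B :=
  (Algebra.TensorProduct.includeRight : B →ₐ[A] A' ⊗[A] B).toRingHom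

include p hp cA cA' pA' pc in
theorem ker_algebraMap_nil (a : A) (ha : algebraMap A A' a = 0) : IsNilpotent a := by
  have h := IsPRadical.ker_le (algebraMap A A') p
  have : a ∈ pNilradical A p := h ha
  rw [pNilradical_prime Fact.out] at this
  exact this

include p hp cA cA' pA' pc eB in
theorem ker_j_nil (b : B) (hb : j A B A' b = 0) : IsNilpotent b :=
  isNilpotent_of_tmul_eq_zero (ker_algebraMap_nil p A A') b hb

include p hp cA cA' pA' pc eB cB in
theorem nontrivial_D : Nontrivial (A' ⊗[A] B) := by
  haveI : Nontrivial B := CharP.nontrivial_of_char_ne_one (R := B)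
    (Fact.out : p.Prime).ne_one
  by_contra h
  rw [not_nontrivial_iff_subsingleton] at h
  have h1 : IsNilpotent (1 : B) := ker_j_nil p A B A' 1 (Subsingleton.elim _ _)
  exact (not_isNilpotent_one (R := B)) h1

include p hp cA cA' pA' pc eB cB in
theorem charP_D : CharP (A' ⊗[A] B) p := by
  haveI := nontrivial_D p A B A'
  rw [CharP.charP_iff_prime_eq_zero Fact.out]
  rw [← map_natCast (algebraMap A' (A' ⊗[A] B)), CharP.cast_eq_zero, map_zero]

include p hp cA cA' pA' pc eB cB in
theorem bijective_frobenius_D (hD : CharP (A' ⊗[A] B) p) :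
    Function.Bijective (frobenius (A' ⊗[A] B) p) := by
  haveI := hD
  have h1 : Function.Bijective (FrobAlg.relFrob p A' (A' ⊗[A] B)) :=
    Groth.Agent.Helper7.FrobEtale.bijective_of_etale p A' (A' ⊗[A] B)
  let f₀ : A' ≃ₗ[A'] FrobAlg.Twist p A' :=
    LinearEquiv.ofBijective (Algebra.linearMap A' (FrobAlg.Twist p A')) (by
      change Function.Bijective (algebraMap A' (FrobAlg.Twist p A'))
      exact (FrobAlg.toTwist p A').bijective.comp (bijective_frobenius A' p))
  let ι : (A' ⊗[A] B) ≃ₗ[A'] (A' ⊗[A] B) ⊗[A'] FrobAlg.Twist p A' :=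
    (TensorProduct.rid A' _).symm ≪≫ₗ (LinearEquiv.lTensor _ f₀)
  have h2 : ∀ x, frobenius (A' ⊗[A] B) p x = FrobAlg.relFrob p A' (A' ⊗[A] B) (ι x) := by
    intro x
    have : ι x = x ⊗ₜ[A'] (1 : FrobAlg.Twist p A') := by
      simp [ι, f₀]
    rw [this, Groth.Agent.Helper7.FrobEtale.relFrob_tmul', frobenius_def, map_one, map_one,
      mul_one]
  have : frobenius (A' ⊗[A] B) p = (FrobAlg.relFrob p A' (A' ⊗[A] B)) ∘ ι := funext h2
  rw [this]
  exact h1.comp ι.bijective

include p hp cA cA' pA' pc eB cB in
theorem isPRadical_j (hD : CharP (A' ⊗[A] B) p) : IsPRadical (j A B A') p := by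
  haveI := hD
  refine ⟨fun x => ?_, fun b hb => ?_⟩
  · induction x using TensorProduct.induction_on with
    | zero => exact ⟨0, 0, by simp⟩
    | tmul a' b =>
      obtain ⟨n, a, ha⟩ := IsPRadical.pow_mem (algebraMap A A') p a'
      refine ⟨n, a • b ^ p ^ n, ?_⟩
      change (1 : A') ⊗ₜ[A] (a • b ^ p ^ n) = _
      rw [Algebra.TensorProduct.tmul_pow, ← ha, TensorProduct.tmul_smul,
        TensorProduct.smul_tmul', Algebra.smul_def, mul_one]
    | add x y hx hy =>
      obtain ⟨n, u, hu⟩ := hx
      obtain ⟨m, v, hv⟩ := hy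
      refine ⟨n + m, u ^ p ^ m + v ^ p ^ n, ?_⟩
      rw [map_add, map_pow, map_pow, hu, hv, add_pow_char_pow, ← pow_mul, ← pow_mul, ← pow_add,
        ← pow_add, add_comm m n]
  · rw [pNilradical_prime Fact.out, mem_nilradical]
    exact ker_j_nil p A B A' b hb

end main

section final
variable (p : ℕ) [hp : Fact p.Prime]
    (A B A' B' : Type u) [CommRing A] [CommRing B] [CommRing A'] [CommRing B']
    [cA : CharP A p] [cB : CharP B p] [cA' : CharP A' p] [cB' : CharP B' p]
    [pA' : PerfectRing A' p] [pB' : PerfectRing B' p]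
    [Algebra A B] [Algebra.Etale A B] [Algebra A A'] [Algebra B B'] [Algebra A B']
    [IsScalarTower A B B']
    [pcA : IsPerfectClosure (algebraMap A A') p] [pcB : IsPerfectClosure (algebraMap B B') p]
    (φ' : A' →ₐ[A] B')

include p hp cA cB cA' cB' pA' pB' pcA pcB in
theorem s14257 :
    Function.Bijective (Algebra.TensorProduct.lift φ' (IsScalarTower.toAlgHom A B B')
      (fun a b => Commute.all (φ' a) (IsScalarTower.toAlgHom A B B' b))) := by
  haveI hD : CharP (A' ⊗[A] B) p := charP_D p A B A'
  haveI : PerfectRing (A' ⊗[A] B) p := ⟨bijective_frobenius_D p A B A' hD⟩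
  haveI : IsPRadical (j A B A') p := isPRadical_j p A B A' hD
  set g := Algebra.TensorProduct.lift φ' (IsScalarTower.toAlgHom A B B')
      (fun a b => Commute.all (φ' a) (IsScalarTower.toAlgHom A B B' b)) with hg
  have hcomp : (g : A' ⊗[A] B →+* B').comp (j A B A') = algebraMap B B' := by
    ext b
    simp [g, j]
  have h1 : PerfectRing.lift (j A B A') (algebraMap B B') p = (g : A' ⊗[A] B →+* B') := by
    rw [← hcomp]
    exact PerfectRing.comp_lift (j A B A') (g : A' ⊗[A] B →+* B') p
  have h2 : Function.Bijective (PerfectRing.lift (j A B A') (algebraMap B B') p) :=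
    (IsPerfectClosure.equiv (j A B A') (algebraMap B B') p).bijective
  rw [h1] at h2
  exact h2

end final

end Groth.Agent.Helper7.PerfEtale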