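import Groth.Agent.Helper7.PerfFlat

set_option autoImplicit false
universe u

namespace Groth.Agent.Helper7.PerfInt

variable (p : ℕ) [Fact p.Prime]
  {A B A' B' : Type u} [CommRing A] [CommRing B] [CommRing A'] [CommRing B']
  [CharP A p] [CharP B p] [CharP A' p] [CharP B' p] [PerfectRing A' p] [PerfectRing B' p]

theorem exists_pow_mem_map (φ : A →+* B) (i : A →+* A') (j : B →+* B')
    [IsPerfectClosure i p] [IsPerfectClosure j p]
    (φ' : A' →+* B') (hφ : φ'.comp i = j.comp φ) (I' : Ideal A') (b' : B')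
    (hb' : b' ∈ I'.map φ') :
    ∃ (N : ℕ) (b : B), b ∈ (I'.comap i).map φ ∧ j b = b' ^ p ^ N := by
  have hp := (Fact.out : p.Prime)
  have hφ' : ∀ a, φ' (i a) = j (φ a) := fun a => congrFun (congrArg DFunLike.coe hφ) a
  unfold Ideal.map at hb'
  induction hb' using Submodule.span_induction with
  | mem x hx =>
    obtain ⟨a', ha', rfl⟩ := hx
    obtain ⟨N, a, ha⟩ := IsPRadical.pow_mem i p a'
    refine ⟨N, φ a, Ideal.mem_map_of_mem φ ?_, ?_⟩
    · rw [Ideal.mem_comap, ha]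
      exact Ideal.pow_mem_of_mem _ ha' _ (pow_pos hp.pos N)
    · rw [← hφ', ha, map_pow]
  | zero => exact ⟨0, 0, zero_mem _, by simp⟩
  | add x y _ _ hx hy =>
    obtain ⟨N₁, b₁, hb₁, h1⟩ := hx
    obtain ⟨N₂, b₂, hb₂, h2⟩ := hy
    refine ⟨N₁ + N₂, b₁ ^ p ^ N₂ + b₂ ^ p ^ N₁, add_mem
      (Ideal.pow_mem_of_mem _ hb₁ _ (pow_pos hp.pos _)) (Ideal.pow_mem_of_mem _ hb₂ _ (pow_pos hp.pos _)), ?_⟩
    rw [add_pow_char_pow, map_add, map_pow, map_pow, h1, h2, ← pow_mul, ← pow_mul, ← pow_add, ← pow_add,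
      add_comm N₂ N₁]
  | smul c x _ hx =>
    obtain ⟨N, b, hb, h1⟩ := hx
    obtain ⟨n, c₀, hc₀⟩ := IsPRadical.pow_mem j p c
    refine ⟨N + n, c₀ ^ p ^ N * b ^ p ^ n, Ideal.mul_mem_left _ _
      (Ideal.pow_mem_of_mem _ hb _ (pow_pos hp.pos _)), ?_⟩
    rw [smul_eq_mul, mul_pow, map_mul, map_pow, map_pow, hc₀, h1, ← pow_mul, ← pow_mul, ← pow_add, ← pow_add,
      add_comm n N]

theorem faithfullyFlat_of_faithfullyFlat (φ : A →+* B) (hflat : φ.FaithfullyFlat) (i : A →+* A')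
    (j : B →+* B') [IsPerfectClosure i p] [IsPerfectClosure j p]
    (φ' : A' →+* B') (hφ : φ'.comp i = j.comp φ) : φ'.FaithfullyFlat := by
  have hp := (Fact.out : p.Prime)
  have hfl : φ'.Flat := by
    refine flat_of_flat p φ ?_ i j φ' hφ
    let _ := φ.toAlgebra
    have : Module.FaithfullyFlat A B := hflat
    show Module.Flat A B
    infer_instance
  let _ := φ.toAlgebra
  let _ := φ'.toAlgebra
  have hff : Module.FaithfullyFlat A B := hflat
  show Module.FaithfullyFlat A' B'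
  rw [Module.FaithfullyFlat.iff_flat_and_ideal_smul_eq_top]
  refine ⟨hfl, fun I' hI' => ?_⟩
  have h1 : (1 : B') ∈ I'.map φ' := by
    have : I'.map (algebraMap A' B') = ⊤ := by
      rw [Ideal.smul_top_eq_map] at hI'
      exact (Submodule.restrictScalars_eq_top_iff _ _ _).mp hI'
    show (1 : B') ∈ I'.map (algebraMap A' B')
    rw [this]; trivial
  obtain ⟨N, b, hb, hb1⟩ := exists_pow_mem_map p φ i j φ' hφ I' 1 h1
  rw [one_pow] at hb1
  have h2 : b - 1 ∈ RingHom.ker j := by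
    rw [RingHom.mem_ker, map_sub, hb1, map_one, sub_self]
  have h3 := IsPRadical.ker_le j p h2
  rw [pNilradical_eq_nilradical hp.one_lt] at h3
  have h4 : IsUnit b := by
    have : IsNilpotent (b - 1) := h3
    have := this.isUnit_add_one
    rwa [sub_add_cancel] at this
  have h5 : (I'.comap i).map (algebraMap A B) = ⊤ := Ideal.eq_top_of_isUnit_mem _ hb h4
  have h6 : (I'.comap i) • (⊤ : Submodule A B) = ⊤ := by
    rw [Ideal.smul_top_eq_map, h5]
    rfl
  have h7 := ((Module.FaithfullyFlat.iff_flat_and_ideal_smul_eq_top A B).mp hff).2 _ h6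
  have h8 : (1 : A) ∈ I'.comap i := by rw [h7]; trivial
  rw [Ideal.mem_comap, map_one] at h8
  exact (Ideal.eq_top_iff_one _).mpr h8

end Groth.Agent.Helper7.PerfInt
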