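import Mathlib

set_option autoImplicit false
universe u
open Polynomial

namespace Groth.Agent.Helper7.PerfInt

variable (p : ℕ) [Fact p.Prime]
  {A B A' B' : Type u} [CommRing A] [CommRing B] [CommRing A'] [CommRing B']
  [CharP A p] [CharP B p] [CharP A' p] [CharP B' p] [PerfectRing A' p] [PerfectRing B' p]

/-- common exponent for a finite set -/
theorem exists_common_pow (i : A →+* A') [IsPerfectClosure i p] (s : Finset A') :
    ∃ N : ℕ, ∀ x ∈ s, ∃ a : A, i a = x ^ p ^ N := by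
  classical
  induction s using Finset.induction_on with
  | empty => exact ⟨0, fun x hx => absurd hx (Finset.notMem_empty x)⟩
  | insert x s _ ih =>
    obtain ⟨N₁, h1⟩ := ih
    obtain ⟨n, a, ha⟩ := IsPRadical.pow_mem i p x
    refine ⟨N₁ + n, fun y hy => ?_⟩
    rcases Finset.mem_insert.mp hy with rfl | hy
    · refine ⟨a ^ p ^ N₁, ?_⟩
      rw [map_pow, ha, ← pow_mul, ← pow_add, add_comm]
    · obtain ⟨b, hb⟩ := h1 y hy
      refine ⟨b ^ p ^ n, ?_⟩
      rw [map_pow, hb, ← pow_mul, ← pow_add]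

theorem isIntegral_of_isIntegral (φ : A →+* B) (i : A →+* A') (j : B →+* B')
    [IsPerfectClosure i p] [IsPerfectClosure j p]
    (φ' : A' →+* B') (hφ : φ'.comp i = j.comp φ) (h : φ.IsIntegral) : φ'.IsIntegral := by
  intro b'
  obtain ⟨n, b, hb⟩ := IsPRadical.pow_mem j p b'
  obtain ⟨q, hq, hq0⟩ := h b
  have h1 : φ'.IsIntegralElem (b' ^ p ^ n) := by
    refine ⟨q.map i, hq.map i, ?_⟩
    rw [eval₂_map, hφ, ← hb, ← hom_eval₂, hq0, map_zero]
  letI := φ'.toAlgebra
  exact IsIntegral.of_pow (pow_pos (Fact.out : p.Prime).pos n) h1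

theorem isIntegral_of_isIntegral' (φ : A →+* B) (i : A →+* A') (j : B →+* B')
    [IsPerfectClosure i p] [IsPerfectClosure j p]
    (φ' : A' →+* B') (hφ : φ'.comp i = j.comp φ) (h : φ'.IsIntegral) : φ.IsIntegral := by
  classical
  intro b
  obtain ⟨Q, hQ, hQ0⟩ := h (j b)
  obtain ⟨N, hN⟩ := exists_common_pow p i Q.coeffs
  -- apply Frobenius^N
  set QN : A'[X] := Q.map (iterateFrobenius A' p N) with hQN
  have hQNmonic : QN.Monic := hQ.map _
  have hlift : QN ∈ lifts i := by
    rw [lifts_iff_coeff_lifts]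
    intro k
    rw [hQN, coeff_map, iterateFrobenius_def]
    by_cases hk : Q.coeff k = 0
    · rw [hk, zero_pow (pow_ne_zero _ (Fact.out : p.Prime).ne_zero)]
      exact ⟨0, map_zero i⟩
    · obtain ⟨a, ha⟩ := hN _ (coeff_mem_coeffs hk)
      exact ⟨a, ha⟩
  obtain ⟨q, hq, -, hqm⟩ := lifts_and_natDegree_eq_and_monic hlift hQNmonic
  have h2 : eval₂ φ' (j (b ^ p ^ N)) QN = 0 := by
    have := congrArg (iterateFrobenius B' p N) hQ0
    rw [map_zero, hom_eval₂] at this
    rw [hQN, eval₂_map, map_pow]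
    have hcomp : (iterateFrobenius B' p N).comp φ' = φ'.comp (iterateFrobenius A' p N) := by
      ext x
      simp [iterateFrobenius_def]
    rw [← hcomp]
    exact this
  rw [← hq, eval₂_map, hφ, ← hom_eval₂] at h2
  have h3 : eval₂ φ (b ^ p ^ N) q ∈ RingHom.ker j := h2
  have h4 := IsPRadical.ker_le j p h3
  rw [pNilradical_eq_nilradical (Fact.out : p.Prime).one_lt] at h4
  obtain ⟨M, hM⟩ := h4
  have h5 : φ.IsIntegralElem (b ^ p ^ N) := by
    refine ⟨q ^ M, hqm.pow M, ?_⟩
    rw [eval₂_pow, hM]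
  letI := φ.toAlgebra
  exact IsIntegral.of_pow (pow_pos (Fact.out : p.Prime).pos N) h5

end Groth.Agent.Helper7.PerfInt
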