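import Groth.Agent.Helper7.PerfFlat

set_option autoImplicit false
universe u

namespace Groth.Agent.Helper7.PerfInt

variable (p : ℕ) [Fact p.Prime] (A : Type u) [CommRing A] [CharP A p] [PerfectRing A p]

theorem exists_common_pow_mem {l : ℕ} (f : A) (x : Fin l → (Ideal.span {f}).radical) :
    ∃ N : ℕ, ∀ k, ((x k : A)) ^ p ^ N ∈ Ideal.span {f} := by
  have hp := (Fact.out : p.Prime)
  have h1 : ∀ k, ∃ n : ℕ, ((x k : A)) ^ p ^ n ∈ Ideal.span {f} := by
    intro k
    obtain ⟨n, hn⟩ := (x k).2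
    exact ⟨n, Ideal.pow_mem_of_pow_mem _ hn (Nat.lt_pow_self hp.one_lt).le⟩
  choose n hn using h1
  refine ⟨∑ k, n k, fun k => ?_⟩
  have h2 : n k ≤ ∑ k, n k := Finset.single_le_sum (fun _ _ => Nat.zero_le _) (Finset.mem_univ k)
  obtain ⟨d, hd⟩ := Nat.exists_eq_add_of_le h2
  rw [hd, pow_add, pow_mul]
  exact Ideal.pow_mem_of_mem _ (hn k) _ (pow_pos hp.pos d)

include p in
theorem flat_radical (f : A) : Module.Flat A ((Ideal.span {f}).radical) := by
  have hp := (Fact.out : p.Prime)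
  refine Module.Flat.of_forall_isTrivialRelation ?_
  intro l a x hax
  obtain ⟨N, hN⟩ := exists_common_pow_mem p A f x
  have hN' : ∀ k, ∃ c₀ : A, (x k : A) ^ p ^ N = f * c₀ := fun k => Ideal.mem_span_singleton'.mp (hN k) |>.imp
    fun c hc => by rw [← hc, mul_comm]
  choose c₀ hc₀ using hN'
  set g : A := (iterateFrobeniusEquiv A p N).symm f with hg
  set c : Fin l → A := fun k => (iterateFrobeniusEquiv A p N).symm (c₀ k) with hc
  have hxk : ∀ k, (x k : A) = g * c k := by
    intro k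
    apply pow_inj p N
    rw [hc₀, mul_pow, symm_pow, symm_pow]
  set h : A := (iterateFrobeniusEquiv A p 1).symm g with hh
  have hhp : h ^ p = g := by
    have := symm_pow p 1 g
    rwa [pow_one] at this
  have hmem : h ∈ (Ideal.span {f}).radical := by
    refine ⟨p ^ (N + 1), ?_⟩
    rw [pow_succ, pow_mul', hhp, symm_pow]
    exact Ideal.subset_span rfl
  have hsum : (∑ k, a k * c k) * g = 0 := by
    have h1 := congrArg (Submodule.subtype _) hax
    rw [map_sum, map_zero] at h1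
    rw [Finset.sum_mul, ← h1]
    refine Finset.sum_congr rfl fun k _ => ?_
    show a k * c k * g = a k * (x k : A)
    rw [hxk]
    ring
  have hsum' : (∑ k, a k * c k) * h = 0 := by
    apply pow_inj p 1
    rw [pow_one, zero_pow hp.ne_zero, mul_pow, hhp]
    obtain ⟨q, hq⟩ : ∃ q, p = q + 1 := ⟨p - 1, (Nat.succ_pred_eq_of_pos hp.pos).symm⟩
    rw [hq, pow_succ, mul_assoc, hsum, mul_zero]
  obtain ⟨q, hq⟩ : ∃ q, p = q + 2 := ⟨p - 2, by have := hp.two_le; omega⟩
  refine ⟨1, fun k _ => c k * h ^ (q + 1), fun _ => ⟨h, hmem⟩, ?_, ?_⟩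
  · intro k
    apply Subtype.ext
    rw [Fin.sum_univ_one]
    show (x k : A) = c k * h ^ (q + 1) * h
    rw [hxk, ← hhp, hq]
    ring
  · intro _
    have : ∑ k, a k * (c k * h ^ (q + 1)) = ((∑ k, a k * c k) * h) * h ^ q := by
      rw [Finset.sum_mul, Finset.sum_mul]
      refine Finset.sum_congr rfl fun k _ => ?_
      ring
    rw [this, hsum', zero_mul]

end Groth.Agent.Helper7.PerfInt
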