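import Mathlib
import Groth.Prelude.Def_W4c3degenlocivbPfaff

set_option autoImplicit false

namespace Groth.Agent.Helper7.Pfaf1

open W4c3degenlocivb

/-- `pf` commutes with ring homomorphisms. -/
theorem map_pf {R S : Type*} [CommRing R] [CommRing S] (f : R →+* S) :
    ∀ (n : ℕ) (T : Matrix (Fin n) (Fin n) R), f (pf n T) = pf n (T.map f)
  | 0, _ => by simp [pf]
  | 1, _ => by simp [pf]
  | n + 2, T => by
      simp only [pf, map_sum, map_mul, map_pow, map_neg, map_one]
      refine Finset.sum_congr rfl fun j _ => ?_
      rw [map_pf f n]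
      rfl

/-- Pfaffian of a matrix of linear forms is homogeneous of degree `n / 2`. -/
theorem isHomogeneous_pf {σ R : Type*} [CommRing R] :
    ∀ (n : ℕ) (T : Matrix (Fin n) (Fin n) (MvPolynomial σ R)),
      (∀ p q, (T p q).IsHomogeneous 1) → (pf n T).IsHomogeneous (n / 2)
  | 0, _, _ => by simpa [pf] using MvPolynomial.isHomogeneous_one σ R
  | 1, _, _ => by simpa [pf] using MvPolynomial.isHomogeneous_zero σ R 0
  | n + 2, T, h => by
      simp only [pf]
      apply MvPolynomial.IsHomogeneous.sum
      intro j _
      have h1 : ((-1 : MvPolynomial σ R) ^ ((j : ℕ) + 1)).IsHomogeneous 0 := by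
        have := (MvPolynomial.isHomogeneous_one σ R).neg.pow ((j : ℕ) + 1)
        simpa using this
      have h2 := isHomogeneous_pf n
        (T.submatrix (Fin.castSucc ∘ j.succAbove) (Fin.castSucc ∘ j.succAbove))
        (fun p q => h _ _)
      have h3 := (h1.mul (h (Fin.last (n + 1)) (Fin.castSucc j))).mul h2
      have e : (n + 2) / 2 = 0 + 1 + n / 2 := by omega
      rw [e]
      exact h3

/-- Pfaffian of a "lower Hessenberg" matrix (zero strictly below the subdiagonal). -/
theorem pf_hessenberg {R : Type*} [CommRing R] (Tn : ℕ → ℕ → R)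
    (h0 : ∀ p q, q + 1 < p → Tn p q = 0) :
    ∀ (n : ℕ), pf n (Matrix.of fun (p q : Fin n) => Tn p q) =
      if Even n then ∏ l ∈ Finset.range (n / 2), (-Tn (2 * l + 1) (2 * l)) else 0
  | 0 => by simp [pf]
  | 1 => by simp [pf]
  | n + 2 => by
      simp only [pf]
      rw [Fin.sum_univ_castSucc]
      have hz : ∀ j : Fin n, (-1 : R) ^ ((Fin.castSucc j : ℕ) + 1) *
          (Matrix.of fun (p q : Fin (n + 2)) => Tn p q) (Fin.last (n + 1))
            (Fin.castSucc (Fin.castSucc j)) *
          pf n ((Matrix.of fun (p q : Fin (n + 2)) => Tn p q).submatrix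
            (Fin.castSucc ∘ (Fin.castSucc j).succAbove)
            (Fin.castSucc ∘ (Fin.castSucc j).succAbove)) = 0 := by
        intro j
        have : Tn (n + 1) j = 0 := h0 _ _ (by have := j.2; omega)
        simp [this]
      rw [Finset.sum_eq_zero (fun j _ => hz j), zero_add]
      have hs : (Matrix.of fun (p q : Fin (n + 2)) => Tn p q).submatrix
            (Fin.castSucc ∘ (Fin.last n).succAbove)
            (Fin.castSucc ∘ (Fin.last n).succAbove) = Matrix.of fun (p q : Fin n) => Tn p q := by
        ext p q
        simp [Fin.succAbove_last]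
      rw [hs, pf_hessenberg Tn h0 n]
      by_cases he : Even n
      · have he2 : Even (n + 2) := by
          rcases he with ⟨m, hm⟩; exact ⟨m + 1, by omega⟩
        rw [if_pos he, if_pos he2]
        have e : (n + 2) / 2 = n / 2 + 1 := by omega
        rw [e, Finset.prod_range_succ]
        have e2 : 2 * (n / 2) = n := by rcases he with ⟨m, hm⟩; omega
        rw [e2]
        have e3 : (-1 : R) ^ (((Fin.last n : Fin (n + 1)) : ℕ) + 1) = -1 := by
          simp only [Fin.val_last]
          exact Odd.neg_one_pow (Even.add_one he)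
        rw [e3]
        simp
        ring
      · have he2 : ¬ Even (n + 2) := by
          intro ⟨m, hm⟩; exact he ⟨m - 1, by omega⟩
        rw [if_neg he, if_neg he2]
        simp

end Groth.Agent.Helper7.Pfaf1
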