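import Mathlib
import Groth.Prelude.Def_W4c3degenlocivbPfaff
import Groth.Agent.Helper7.Pfaf1

set_option autoImplicit false

namespace Groth.Agent.Helper7.Pfaf2

open W4c3degenlocivb MvPolynomial

/-- exponent `y₀^t y₁^(r-t)` -/
noncomputable def e (r t : ℕ) : Fin 2 →₀ ℕ := Finsupp.single 0 t + Finsupp.single 1 (r - t)

theorem e_zero (r t : ℕ) : e r t 0 = t := by simp [e]
theorem e_one (r t : ℕ) : e r t 1 = r - t := by simp [e]

theorem e_degree (r t : ℕ) (ht : t ≤ r) : (e r t).degree = r := by
  rw [Finsupp.degree_eq_sum, Fin.sum_univ_two, e_zero, e_one]; omega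

theorem e_eq_of_degree (r : ℕ) (d : Fin 2 →₀ ℕ) (hd : d.degree = r) : e r (d 0) = d := by
  rw [Finsupp.degree_eq_sum, Fin.sum_univ_two] at hd
  ext i
  fin_cases i
  · exact e_zero _ _
  · show e r (d 0) 1 = d 1
    rw [e_one]; omega

theorem monomial_e (k : Type*) [CommSemiring k] (r t : ℕ) :
    monomial (e r t) (1 : k) = X 0 ^ t * X 1 ^ (r - t) := by
  rw [X_pow_eq_monomial, X_pow_eq_monomial, monomial_mul, mul_one]; rfl

variable {k : Type*} [Field k]

theorem hom_expand (r : ℕ) (φ : MvPolynomial (Fin 2) k) (hφ : φ.IsHomogeneous r) :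
    φ = ∑ t : Fin (r + 1), coeff (e r t) φ • monomial (e r t) (1 : k) := by
  classical
  ext d
  rw [coeff_sum]
  simp only [coeff_smul, coeff_monomial, smul_eq_mul, mul_ite, mul_one, mul_zero]
  by_cases hd : d.degree = r
  · have hd0 : d 0 < r + 1 := by
      have := hd
      rw [Finsupp.degree_eq_sum, Fin.sum_univ_two] at this; omega
    rw [Finset.sum_eq_single (⟨d 0, hd0⟩ : Fin (r + 1))]
    · rw [if_pos (e_eq_of_degree r d hd), e_eq_of_degree r d hd]
    · intro t _ ht
      rw [if_neg]
      intro h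
      apply ht
      ext
      show (t : ℕ) = d 0
      rw [← h, e_zero]
    · intro h; exact absurd (Finset.mem_univ _) h
  · rw [hφ.coeff_eq_zero hd]
    symm
    apply Finset.sum_eq_zero
    intro t _
    rw [if_neg]
    intro h
    apply hd
    rw [← h]
    exact e_degree r t (by have := t.2; omega)

theorem span_eq_of_det_ne_zero (r : ℕ) {ι : Type*} (P : ι → MvPolynomial (Fin 2) k)
    (hP : ∀ i, (P i).IsHomogeneous r) (sel : Fin (r + 1) → ι)
    (hdet : (Matrix.of fun s t : Fin (r + 1) => coeff (e r t) (P (sel s))).det ≠ 0) :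
    Submodule.span k (Set.range P) = homogeneousSubmodule (Fin 2) k r := by
  classical
  apply le_antisymm
  · rw [Submodule.span_le]
    rintro _ ⟨i, rfl⟩
    exact hP i
  · intro φ hφ
    rw [hom_expand r φ hφ]
    apply Submodule.sum_mem
    intro t _
    apply Submodule.smul_mem
    set M : Matrix (Fin (r + 1)) (Fin (r + 1)) k :=
      Matrix.of fun s t : Fin (r + 1) => coeff (e r t) (P (sel s)) with hM
    have hinv : M⁻¹ * M = 1 := Matrix.nonsing_inv_mul M (isUnit_iff_ne_zero.2 hdet)
    have key : monomial (e r t) (1 : k) = ∑ s, M⁻¹ t s • P (sel s) := by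
      have h1 : ∀ s, P (sel s) = ∑ u : Fin (r + 1), M s u • monomial (e r u) (1 : k) :=
        fun s => hom_expand r _ (hP _)
      calc monomial (e r t) (1 : k)
          = ∑ u : Fin (r + 1), (1 : Matrix (Fin (r + 1)) (Fin (r + 1)) k) t u •
              monomial (e r u) (1 : k) := by
            simp [Matrix.one_apply]
        _ = ∑ u : Fin (r + 1), (∑ s, M⁻¹ t s * M s u) • monomial (e r u) (1 : k) := by
            rw [← hinv]; rfl
        _ = ∑ s, M⁻¹ t s • ∑ u : Fin (r + 1), M s u • monomial (e r u) (1 : k) := by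
            simp only [Finset.sum_smul, Finset.smul_sum, mul_smul]
            rw [Finset.sum_comm]
        _ = ∑ s, M⁻¹ t s • P (sel s) := by
            refine Finset.sum_congr rfl fun s _ => ?_
            rw [← h1 s]
    rw [key]
    apply Submodule.sum_mem
    intro s _
    apply Submodule.smul_mem
    exact Submodule.subset_span ⟨sel s, rfl⟩

end Groth.Agent.Helper7.Pfaf2
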