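import Mathlib
import Groth.Prelude.Def_W4c3degenlocivbPfaff
import Groth.Agent.Helper7.Pfaf1
import Groth.Agent.Helper7.Pfaf2

set_option autoImplicit false

namespace Groth.Agent.Helper7.Pfaf3

open W4c3degenlocivb MvPolynomial Groth.Agent.Helper7

/-- matrix of linear forms in `y₀, y₁` attached to a coefficient array -/
noncomputable def Nmat {R : Type*} [CommRing R] (n : ℕ) (c : Fin n → Fin n → Fin 2 → R) :
    Matrix (Fin n) (Fin n) (MvPolynomial (Fin 2) R) :=
  Matrix.of fun a b => ∑ l : Fin 2, C (c a b l) * X l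

theorem Nmat_isHomogeneous {R : Type*} [CommRing R] (n : ℕ) (c : Fin n → Fin n → Fin 2 → R)
    (a b : Fin n) : (Nmat n c a b).IsHomogeneous 1 := by
  unfold Nmat
  simp only [Matrix.of_apply]
  apply IsHomogeneous.sum
  intro l _
  exact isHomogeneous_C_mul_X _ _

theorem Nmat_map {R S : Type*} [CommRing R] [CommRing S] (f : R →+* S) (n : ℕ)
    (c : Fin n → Fin n → Fin 2 → R) :
    (Nmat n c).map (MvPolynomial.map f) = Nmat n (fun a b l => f (c a b l)) := by
  ext a b : 1
  simp [Nmat]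

/-- the sub-Pfaffian obtained by deleting row and column `i` -/
noncomputable def subPf {R : Type*} [CommRing R] (m : ℕ) (c : Fin (m + 1) → Fin (m + 1) → Fin 2 → R)
    (i : Fin (m + 1)) : MvPolynomial (Fin 2) R :=
  pf m ((Nmat (m + 1) c).submatrix i.succAbove i.succAbove)

theorem subPf_isHomogeneous {R : Type*} [CommRing R] (m : ℕ)
    (c : Fin (m + 1) → Fin (m + 1) → Fin 2 → R) (i : Fin (m + 1)) :
    (subPf m c i).IsHomogeneous (m / 2) :=
  Pfaf1.isHomogeneous_pf m _ (fun _ _ => Nmat_isHomogeneous _ _ _ _)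

theorem subPf_map {R S : Type*} [CommRing R] [CommRing S] (f : R →+* S) (m : ℕ)
    (c : Fin (m + 1) → Fin (m + 1) → Fin 2 → R) (i : Fin (m + 1)) :
    MvPolynomial.map f (subPf m c i) = subPf m (fun a b l => f (c a b l)) i := by
  unfold subPf
  rw [Pfaf1.map_pf, ← Nmat_map]
  rfl

variable (k : Type*) [Field k] (r : ℕ)

/-- generic coefficient array -/
noncomputable def cgen : Fin (2 * r + 1) → Fin (2 * r + 1) → Fin 2 →
    MvPolynomial (Fin (2 * r + 1) × Fin (2 * r + 1) × Fin 2) k :=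
  fun a b l => X (a, b, l)

/-- the even indices -/
def sel (s : Fin (r + 1)) : Fin (2 * r + 1) := ⟨2 * s, by have := s.2; omega⟩

/-- coefficient matrix -/
noncomputable def Cm {R : Type*} [CommRing R] (c : Fin (2 * r + 1) → Fin (2 * r + 1) → Fin 2 → R) :
    Matrix (Fin (r + 1)) (Fin (r + 1)) R :=
  Matrix.of fun s t : Fin (r + 1) => coeff (Pfaf2.e r t) (subPf (2 * r) c (sel r s))

noncomputable def Phi : MvPolynomial (Fin (2 * r + 1) × Fin (2 * r + 1) × Fin 2) k :=
  (Cm r (cgen k r)).det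

theorem eval_Phi (c : Fin (2 * r + 1) → Fin (2 * r + 1) → Fin 2 → k) :
    eval (fun p => c p.1 p.2.1 p.2.2) (Phi k r) = (Cm r c).det := by
  unfold Phi
  rw [RingHom.map_det]
  congr 1
  ext s t
  simp only [Cm, RingHom.mapMatrix_apply, Matrix.map_apply, Matrix.of_apply]
  rw [← coeff_map, subPf_map]
  simp [cgen]

theorem span_of_eval_ne_zero (c : Fin (2 * r + 1) → Fin (2 * r + 1) → Fin 2 → k)
    (h : eval (fun p => c p.1 p.2.1 p.2.2) (Phi k r) ≠ 0) :
    Submodule.span k (Set.range fun i : Fin (2 * r + 1) => subPf (2 * r) c i) =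
      homogeneousSubmodule (Fin 2) k r := by
  rw [eval_Phi] at h
  refine Pfaf2.span_eq_of_det_ne_zero r _ (fun i => ?_) (sel r) h
  have := subPf_isHomogeneous (2 * r) c i
  rwa [Nat.mul_div_cancel_left r (by norm_num : 0 < 2)] at this

end Groth.Agent.Helper7.Pfaf3
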