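import Mathlib
import Groth.Prelude.Def_W4c3degenlocivbPfaff
import Groth.Agent.Helper7.Pfaf1
import Groth.Agent.Helper7.Pfaf2
import Groth.Agent.Helper7.Pfaf3

set_option autoImplicit false

namespace Groth.Agent.Helper7.Pfaf4

open W4c3degenlocivb MvPolynomial Groth.Agent.Helper7

variable (k : Type*) [Field k]

/-- the tridiagonal coefficient array -/
def c0 (n : ℕ) : Fin n → Fin n → Fin 2 → k := fun a b l =>
  if b.val = a.val + 1 then (if l.val = a.val % 2 then 1 else 0)
  else if a.val = b.val + 1 then -(if l.val = b.val % 2 then 1 else 0) else 0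

theorem c0_antisymm (n : ℕ) (i j : Fin n) (l : Fin 2) : c0 k n j i l = -c0 k n i j l := by
  unfold c0
  by_cases h1 : j.val = i.val + 1
  · have h2 : ¬ i.val = j.val + 1 := by omega
    rw [if_neg h2, if_pos h1, if_pos h1]
  · by_cases h2 : i.val = j.val + 1
    · rw [if_pos h2, if_neg h1, if_pos h2, neg_neg]
    · rw [if_neg h2, if_neg h1, if_neg h1, if_neg h2, neg_zero]

/-- the variable `y_{j mod 2}` -/
noncomputable def A (j : ℕ) : MvPolynomial (Fin 2) k := if j % 2 = 0 then X 0 else X 1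

/-- the tridiagonal matrix on natural numbers -/
noncomputable def Nn (a b : ℕ) : MvPolynomial (Fin 2) k :=
  if b = a + 1 then A k a else if a = b + 1 then -A k b else 0

theorem sum_delta (j : ℕ) :
    ∑ l : Fin 2, C (if l.val = j % 2 then (1 : k) else 0) * X l = A k j := by
  rw [Fin.sum_univ_two]
  unfold A
  rcases Nat.mod_two_eq_zero_or_one j with h | h
  · simp [h]
  · simp [h]

theorem Nmat_c0 (n : ℕ) (a b : Fin n) : Pfaf3.Nmat n (c0 k n) a b = Nn k a.val b.val := by
  unfold Pfaf3.Nmat Nn c0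
  simp only [Matrix.of_apply]
  by_cases h1 : b.val = a.val + 1
  · simp only [if_pos h1]
    exact sum_delta k a.val
  · by_cases h2 : a.val = b.val + 1
    · simp only [if_neg h1, if_pos h2]
      rw [← sum_delta k b.val]
      simp [Finset.sum_neg_distrib]
    · simp [if_neg h1, if_neg h2]

/-- `succAbove` on naturals -/
def sa (i p : ℕ) : ℕ := if p < i then p else p + 1

theorem val_succAbove {n : ℕ} (i : Fin (n + 1)) (p : Fin n) :
    (i.succAbove p).val = sa i.val p.val := by
  unfold sa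
  by_cases h : p.val < i.val
  · rw [if_pos h, Fin.succAbove_of_castSucc_lt _ _ (by simpa [Fin.lt_def] using h)]
    rfl
  · rw [if_neg h, Fin.succAbove_of_le_castSucc _ _ (by simp [Fin.le_def]; omega)]
    rfl

theorem Nn_sa_zero (i p q : ℕ) (h : q + 1 < p) : Nn k (sa i p) (sa i q) = 0 := by
  unfold Nn sa
  split_ifs <;> first | rfl | omega

theorem Nn_sa_sub (s l : ℕ) :
    -Nn k (sa (2 * s) (2 * l + 1)) (sa (2 * s) (2 * l)) = if l < s then X 0 else X 1 := by
  unfold Nn sa
  by_cases h : l < s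
  · have h1 : 2 * l + 1 < 2 * s := by omega
    have h2 : 2 * l < 2 * s := by omega
    rw [if_pos h1, if_pos h2, if_pos h, if_neg (by omega), if_pos rfl]
    unfold A
    simp
  · have h1 : ¬ 2 * l + 1 < 2 * s := by omega
    have h2 : ¬ 2 * l < 2 * s := by omega
    rw [if_neg h1, if_neg h2, if_neg h, if_neg (by omega), if_pos rfl]
    unfold A
    have : (2 * l + 1) % 2 = 1 := by omega
    simp [this]

theorem subPf_c0 (r : ℕ) (s : Fin (r + 1)) :
    Pfaf3.subPf (2 * r) (c0 k (2 * r + 1)) (Pfaf3.sel r s) = monomial (Pfaf2.e r s) (1 : k) := by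
  unfold Pfaf3.subPf
  have hM : (Pfaf3.Nmat (2 * r + 1) (c0 k (2 * r + 1))).submatrix (Pfaf3.sel r s).succAbove
      (Pfaf3.sel r s).succAbove =
      Matrix.of fun (p q : Fin (2 * r)) => Nn k (sa (2 * s) p) (sa (2 * s) q) := by
    ext p q
    simp only [Matrix.submatrix_apply, Matrix.of_apply, Nmat_c0, val_succAbove]
    rfl
  rw [hM, Pfaf1.pf_hessenberg (fun p q => Nn k (sa (2 * s) p) (sa (2 * s) q))
    (fun p q h => Nn_sa_zero k _ p q h) (2 * r)]
  rw [if_pos (even_two_mul r), Nat.mul_div_cancel_left r (by norm_num : 0 < 2)]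
  simp only [Nn_sa_sub]
  have hs : (s : ℕ) ≤ r := by have := s.2; omega
  rw [← Finset.prod_range_mul_prod_Ico _ hs]
  rw [Finset.prod_congr rfl (fun l hl => if_pos (Finset.mem_range.1 hl)),
    Finset.prod_congr rfl (fun l hl => if_neg (not_lt.2 (Finset.mem_Ico.1 hl).1))]
  rw [Finset.prod_const, Finset.prod_const, Finset.card_range, Nat.card_Ico, Pfaf2.monomial_e]

theorem Cm_c0 (r : ℕ) : Pfaf3.Cm r (c0 k (2 * r + 1)) = 1 := by
  classical
  ext s t
  simp only [Pfaf3.Cm, Matrix.of_apply, subPf_c0, coeff_monomial, Matrix.one_apply]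
  by_cases h : s = t
  · subst h; simp
  · rw [if_neg h, if_neg]
    intro h2
    apply h
    ext
    have := congrArg (fun d => d 0) h2
    simpa [Pfaf2.e_zero] using this

theorem eval_Phi_c0 (r : ℕ) :
    eval (fun p => c0 k (2 * r + 1) p.1 p.2.1 p.2.2) (Pfaf3.Phi k r) ≠ 0 := by
  rw [Pfaf3.eval_Phi, Cm_c0, Matrix.det_one]
  exact one_ne_zero

theorem main (r : ℕ) :
    ∃ Φ : MvPolynomial (Fin (2 * r + 1) × Fin (2 * r + 1) × Fin 2) k,
      (∃ c : Fin (2 * r + 1) → Fin (2 * r + 1) → Fin 2 → k, (∀ i j l, c j i l = -c i j l) ∧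
        MvPolynomial.eval (fun p => c p.1 p.2.1 p.2.2) Φ ≠ 0) ∧
      ∀ c : Fin (2 * r + 1) → Fin (2 * r + 1) → Fin 2 → k, (∀ i j l, c j i l = -c i j l) →
        MvPolynomial.eval (fun p => c p.1 p.2.1 p.2.2) Φ ≠ 0 →
        Submodule.span k (Set.range fun i : Fin (2 * r + 1) =>
            W4c3degenlocivb.pf (2 * r) ((Matrix.of fun a b => ∑ l : Fin 2, MvPolynomial.C (c a b l) * MvPolynomial.X l).submatrix i.succAbove i.succAbove)) =
          MvPolynomial.homogeneousSubmodule (Fin 2) k r :=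
  ⟨Pfaf3.Phi k r, ⟨c0 k (2 * r + 1), c0_antisymm k _, eval_Phi_c0 k r⟩,
    fun c _ h => Pfaf3.span_of_eval_ne_zero k r c h⟩

end Groth.Agent.Helper7.Pfaf4
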