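import Mathlib
import Groth.Prelude.Def_W4c5modbuncurvesppStab
import Groth.Agent.Helper7.LorP

/-!
# Sides of an edge in a tree and tree coordinates
-/

set_option autoImplicit false
set_option linter.unusedSectionVars false
universe u
open Finset

namespace Groth.Agent.Helper7.PhiA

open LabGraph Groth.Agent.Helper7.LorC Groth.Agent.Helper7.LorT
  Groth.Agent.Helper7.LorP

variable {V E : Type u} [Fintype V] [Fintype E] [DecidableEq V] [DecidableEq E]

theorem mem_side (ends : E → V × V) (e : E) (v : V) :
    v ∈ PhiStab.side ends e ↔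
      Relation.ReflTransGen (Adj (PhiStab.spanEnds ends (Finset.univ.erase e))) (ends e).1 v := by
  classical
  unfold PhiStab.side
  constructor
  · intro h
    exact (Finset.mem_filter.mp h).2
  · intro h
    exact Finset.mem_filter.mpr ⟨Finset.mem_univ _, h⟩

theorem fst_mem_side (ends : E → V × V) (e : E) : (ends e).1 ∈ PhiStab.side ends e :=
  (mem_side ends e _).mpr Relation.ReflTransGen.refl

theorem side_iff_of_ne (ends : E → V × V) (e e' : E) (hne : e' ≠ e) :
    (ends e').1 ∈ PhiStab.side ends e ↔ (ends e').2 ∈ PhiStab.side ends e := by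
  rw [mem_side, mem_side]
  have hmem : e' ∈ Finset.univ.erase e := Finset.mem_erase.mpr ⟨hne, Finset.mem_univ _⟩
  constructor
  · intro h
    exact h.tail ⟨⟨e', hmem⟩, Or.inl rfl⟩
  · intro h
    exact h.tail ⟨⟨e', hmem⟩, Or.inr rfl⟩

theorem snd_notMem_side (ends : E → V × V) (hF : DualGr.IsForest ends) (e : E) :
    (ends e).2 ∉ PhiStab.side ends e := by
  classical
  intro hmem
  rw [mem_side] at hmem
  have hspan := single_sub_mem_of_rtg (ZMod 2) (PhiStab.spanEnds ends (Finset.univ.erase e)) hmem
  obtain ⟨c, hc⟩ := (Submodule.mem_span_range_iff_exists_fun (ZMod 2)).mp hspan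
  let γ : E → ZMod 2 := fun x => if h : x = e then 1 else
    c ⟨x, Finset.mem_erase.mpr ⟨h, Finset.mem_univ _⟩⟩
  have hγ : ∑ x, γ x • inc (ZMod 2) ends x = 0 := by
    rw [← Finset.add_sum_erase Finset.univ _ (Finset.mem_univ e)]
    have h1 : γ e = 1 := by simp [γ]
    have h2 : ∑ x ∈ Finset.univ.erase e, γ x • inc (ZMod 2) ends x =
        ∑ x : {x // x ∈ Finset.univ.erase e},
          c x • inc (ZMod 2) (PhiStab.spanEnds ends (Finset.univ.erase e)) x := by
      rw [← Finset.sum_coe_sort (Finset.univ.erase e)]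
      refine Finset.sum_congr rfl fun x _ => ?_
      have hx : (x : E) ≠ e := (Finset.mem_erase.mp x.2).1
      simp only [γ, dif_neg hx]
      rfl
    rw [h1, h2, hc, one_smul]
    show inc (ZMod 2) ends e + inc (ZMod 2) ends e = 0
    funext v
    exact CharTwo.add_self_eq_zero (R := ZMod 2) _
  have := congrFun (forest_indep ends hF γ hγ) e
  simp [γ] at this

/-- sum over a vertex set of a combination of incidence vectors -/
theorem sumOn_comb (R : Type*) [CommRing R] (ends : E → V × V) (γ : E → R) (S : Finset V) :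
    ∑ v ∈ S, (∑ e, γ e • inc R ends e) v =
      ∑ e, γ e * ((if (ends e).2 ∈ S then 1 else 0) - (if (ends e).1 ∈ S then 1 else 0)) := by
  have h := map_sum (sumOn R S) (fun e => γ e • inc R ends e) Finset.univ
  simp only [map_smul, sumOn_inc, smul_eq_mul] at h
  exact h

/-- the sum over the side of `e` of a combination of incidence vectors of a forest is `-γ e` -/
theorem sideSum_comb (R : Type*) [CommRing R] (ends : E → V × V) (hF : DualGr.IsForest ends)
    (γ : E → R) (e : E) :
    ∑ v ∈ PhiStab.side ends e, (∑ e', γ e' • inc R ends e') v = - γ e := by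
  rw [sumOn_comb, Finset.sum_eq_single e]
  · rw [if_neg (snd_notMem_side ends hF e), if_pos (fst_mem_side ends e)]
    ring
  · intro e' _ hne
    by_cases h : (ends e').1 ∈ PhiStab.side ends e
    · rw [if_pos h, if_pos ((side_iff_of_ne ends e e' hne).mp h), sub_self, mul_zero]
    · rw [if_neg h, if_neg (fun h' => h ((side_iff_of_ne ends e e' hne).mpr h')), sub_self, mul_zero]
  · intro h
    exact absurd (Finset.mem_univ e) h

/-- the sum over the complement of the side -/
theorem complSideSum_comb (R : Type*) [CommRing R] (ends : E → V × V) (hF : DualGr.IsForest ends)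
    (γ : E → R) (e : E) :
    ∑ v ∈ (PhiStab.side ends e)ᶜ, (∑ e', γ e' • inc R ends e') v = γ e := by
  have htot : ∑ v, (∑ e', γ e' • inc R ends e') v = 0 := by
    simp only [Finset.sum_apply, Pi.smul_apply, smul_eq_mul]
    rw [Finset.sum_comm]
    simp only [← Finset.mul_sum, sum_inc, mul_zero, Finset.sum_const_zero]
  have := Finset.sum_add_sum_compl (PhiStab.side ends e) (fun v => (∑ e', γ e' • inc R ends e') v)
  rw [htot, sideSum_comb R ends hF γ e] at this
  linear_combination this

/-- **S18382**: a weighting on a tree is determined by its side sums and its total -/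
theorem existsUnique_sideSum (ends : E → V × V) (hT : DualGr.IsTree ends) (c : E → ℝ) (c₀ : ℝ) :
    ∃! φ : V → ℝ, (∀ e : E, (∑ v ∈ PhiStab.side ends e, φ v) = c e) ∧ (∑ v : V, φ v) = c₀ := by
  classical
  obtain ⟨v₀⟩ := hT.1.1
  have hsingle : ∀ S : Finset V, ∑ v ∈ S, (c₀ • (Pi.single v₀ 1 : V → ℝ)) v =
      if v₀ ∈ S then c₀ else 0 := by
    intro S
    simp only [Pi.smul_apply, Pi.single_apply, smul_eq_mul, mul_ite, mul_one, mul_zero]
    rw [Finset.sum_ite_eq' S v₀]
  refine ⟨∑ e, ((if v₀ ∈ PhiStab.side ends e then c₀ else 0) - c e) • inc ℝ ends e +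
    c₀ • (Pi.single v₀ 1 : V → ℝ), ⟨fun e => ?_, ?_⟩, ?_⟩
  · simp only [Pi.add_apply, Finset.sum_add_distrib]
    rw [sideSum_comb ℝ ends hT.2, hsingle]
    ring
  · simp only [Pi.add_apply, Finset.sum_add_distrib]
    rw [hsingle Finset.univ, if_pos (Finset.mem_univ _)]
    have htot : ∑ v, (∑ e', ((if v₀ ∈ PhiStab.side ends e' then c₀ else 0) - c e') •
        inc ℝ ends e') v = 0 := by
      simp only [Finset.sum_apply, Pi.smul_apply, smul_eq_mul]
      rw [Finset.sum_comm]
      simp only [← Finset.mul_sum, sum_inc, mul_zero, Finset.sum_const_zero]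
    rw [htot, zero_add]
  · rintro φ' ⟨hside, htot⟩
    set φ := ∑ e, ((if v₀ ∈ PhiStab.side ends e then c₀ else 0) - c e) • inc ℝ ends e +
      c₀ • (Pi.single v₀ 1 : V → ℝ) with hφ
    have hφside : ∀ e, ∑ v ∈ PhiStab.side ends e, φ v = c e := by
      intro e
      simp only [hφ, Pi.add_apply, Finset.sum_add_distrib]
      rw [sideSum_comb ℝ ends hT.2, hsingle]
      ring
    have hφtot : ∑ v, φ v = c₀ := by
      simp only [hφ, Pi.add_apply, Finset.sum_add_distrib]
      rw [hsingle Finset.univ, if_pos (Finset.mem_univ _)]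
      have htot' : ∑ v, (∑ e', ((if v₀ ∈ PhiStab.side ends e' then c₀ else 0) - c e') •
          inc ℝ ends e') v = 0 := by
        simp only [Finset.sum_apply, Pi.smul_apply, smul_eq_mul]
        rw [Finset.sum_comm]
        simp only [← Finset.mul_sum, sum_inc, mul_zero, Finset.sum_const_zero]
      rw [htot', zero_add]
    have hdiff : ∑ v, (φ' - φ) v = 0 := by
      simp only [Pi.sub_apply, Finset.sum_sub_distrib, htot, hφtot, sub_self]
    obtain ⟨γ, hγ⟩ := exists_coeff ℝ ends hT.1 (φ' - φ) hdiff
    have hγ0 : γ = 0 := by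
      funext e
      have h1 := sideSum_comb ℝ ends hT.2 γ e
      rw [hγ] at h1
      simp only [Pi.sub_apply, Finset.sum_sub_distrib, hside e, hφside e, sub_self] at h1
      simpa using h1.symm
    rw [hγ0] at hγ
    simp only [Pi.zero_apply, zero_smul, Finset.sum_const_zero] at hγ
    exact (sub_eq_zero.mp hγ.symm)

end Groth.Agent.Helper7.PhiA
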