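import Mathlib
import Groth.Prelude.Def_W4c5modbuncurvesppStab
import Groth.Agent.Helper7.PhiA
import Groth.Agent.Helper8.BasicIneq

/-!
# Stability on a tree in tree coordinates
-/

set_option autoImplicit false
set_option linter.unusedSectionVars false
universe u
open Finset

namespace Groth.Agent.Helper7.PhiB

open LabGraph Groth.Agent.Helper7.LorC Groth.Agent.Helper7.LorT
  Groth.Agent.Helper7.LorP Groth.Agent.Helper7.PhiA Groth.Agent.Helper8

variable {V E : Type u} [Fintype V] [Fintype E] [DecidableEq V] [DecidableEq E]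

/-- the stability function of an additive vertex function on a graph -/
noncomputable def G (ends : E → V × V) (μ : V → ℝ) (S : Finset V) : ℝ :=
  ∑ v ∈ S, μ v + (cut ends S : ℝ) / 2

theorem cut_real (ends : E → V × V) (S : Finset V) :
    (cut ends S : ℝ) = ∑ e : E,
      (if ((ends e).1 ∈ S ∧ (ends e).2 ∉ S) ∨ ((ends e).1 ∉ S ∧ (ends e).2 ∈ S) then (1 : ℝ) else 0) := by
  have := cut_eq_sum ends S
  have h2 : ((cut ends S : ℤ) : ℝ) = (cut ends S : ℝ) := by push_cast; rfl
  rw [← h2, this]
  push_cast
  rfl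

theorem G_comb (ends : E → V × V) (γ : E → ℝ) (S : Finset V) :
    G ends (∑ e, γ e • inc ℝ ends e) S = ∑ e : E,
      (γ e * ((if (ends e).2 ∈ S then 1 else 0) - (if (ends e).1 ∈ S then 1 else 0)) +
        (if ((ends e).1 ∈ S ∧ (ends e).2 ∉ S) ∨ ((ends e).1 ∉ S ∧ (ends e).2 ∈ S) then (1 : ℝ) else 0) / 2) := by
  unfold G
  rw [sumOn_comb, cut_real, Finset.sum_add_distrib, Finset.sum_div]

/-- small tree coordinates give semistability -/
theorem G_nonneg (ends : E → V × V) (γ : E → ℝ) (hγ : ∀ e, |γ e| ≤ 1 / 2) (S : Finset V) :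
    0 ≤ G ends (∑ e, γ e • inc ℝ ends e) S := by
  rw [G_comb]
  refine Finset.sum_nonneg fun e _ => ?_
  have h := abs_le.mp (hγ e)
  by_cases ha : (ends e).1 ∈ S <;> by_cases hb : (ends e).2 ∈ S <;> simp [ha, hb] <;> linarith [h.1, h.2]

/-- the stability function at a side of a tree edge -/
theorem G_side (ends : E → V × V) (hF : DualGr.IsForest ends) (γ : E → ℝ) (e : E) :
    G ends (∑ e', γ e' • inc ℝ ends e') (PhiStab.side ends e) = - γ e + 1 / 2 := by
  rw [G_comb, Finset.sum_eq_single e]
  · have h1 := fst_mem_side ends e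
    have h2 := snd_notMem_side ends hF e
    simp [h1, h2]
  · intro e' _ hne
    have := side_iff_of_ne ends e e' hne
    by_cases ha : (ends e').1 ∈ PhiStab.side ends e
    · have hb := this.mp ha
      simp [ha, hb]
    · have hb : (ends e').2 ∉ PhiStab.side ends e := fun h => ha (this.mpr h)
      simp [ha, hb]
  · intro h
    exact absurd (Finset.mem_univ e) h

theorem G_side_compl (ends : E → V × V) (hF : DualGr.IsForest ends) (γ : E → ℝ) (e : E) :
    G ends (∑ e', γ e' • inc ℝ ends e') (PhiStab.side ends e)ᶜ = γ e + 1 / 2 := by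
  rw [G_comb, Finset.sum_eq_single e]
  · have h1 := fst_mem_side ends e
    have h2 := snd_notMem_side ends hF e
    simp [h1, h2]
  · intro e' _ hne
    have := side_iff_of_ne ends e e' hne
    by_cases ha : (ends e').1 ∈ PhiStab.side ends e
    · have hb := this.mp ha
      simp [ha, hb]
    · have hb : (ends e').2 ∉ PhiStab.side ends e := fun h => ha (this.mpr h)
      simp [ha, hb]
  · intro h
    exact absurd (Finset.mem_univ e) h

/-- stability forces small tree coordinates -/
theorem abs_lt_of_G_pos (ends : E → V × V) (hF : DualGr.IsForest ends) (γ : E → ℝ)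
    (h : ∀ S : Finset V, S.Nonempty → S ≠ Finset.univ → 0 < G ends (∑ e, γ e • inc ℝ ends e) S)
    (e : E) : |γ e| < 1 / 2 := by
  have hne1 : (PhiStab.side ends e).Nonempty := ⟨_, fst_mem_side ends e⟩
  have hne2 : PhiStab.side ends e ≠ Finset.univ := by
    intro heq
    exact snd_notMem_side ends hF e (heq ▸ Finset.mem_univ _)
  have hne3 : (PhiStab.side ends e)ᶜ.Nonempty :=
    ⟨(ends e).2, Finset.mem_compl.mpr (snd_notMem_side ends hF e)⟩
  have hne4 : (PhiStab.side ends e)ᶜ ≠ Finset.univ := by
    intro heq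
    have := heq ▸ Finset.mem_univ (ends e).1
    exact (Finset.mem_compl.mp this) (fst_mem_side ends e)
  have h1 := h _ hne1 hne2
  have h2 := h _ hne3 hne4
  rw [G_side ends hF] at h1
  rw [G_side_compl ends hF] at h2
  rw [abs_lt]
  constructor <;> linarith

end Groth.Agent.Helper7.PhiB
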