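import Mathlib
import Groth.Prelude.Def_W4c5modbuncurvesppStab
import Groth.Agent.Helper7.PhiB1

/-!
# Stability of a sheaf datum through the complementary graph; the stable datum of a spanning tree
-/

set_option autoImplicit false
set_option linter.unusedSectionVars false
universe u
open Finset

namespace Groth.Agent.Helper7.PhiB

open LabGraph PhiStab Groth.Agent.Helper7.LorC Groth.Agent.Helper7.LorT
  Groth.Agent.Helper7.LorP Groth.Agent.Helper7.PhiA Groth.Agent.Helper8

variable {V E : Type u} [Fintype V] [Fintype E] [DecidableEq V] [DecidableEq E]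

theorem sum_endCount (ends : E → V × V) (N : Finset E) (S : Finset V) :
    ∑ v ∈ S, (endCount ends N v : ℤ) =
      ∑ e ∈ N, ((if (ends e).1 ∈ S then 1 else 0) + (if (ends e).2 ∈ S then 1 else 0)) := by
  unfold endCount
  push_cast
  rw [Finset.sum_comm]
  refine Finset.sum_congr rfl fun e _ => ?_
  rw [Finset.sum_add_distrib, Finset.sum_ite_eq, Finset.sum_ite_eq]

theorem inner_card (ends : E → V × V) (N : Finset E) (S : Finset V) :
    ((N ∩ PhiStab.inner ends S).card : ℤ) =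
      ∑ e ∈ N, (if (ends e).1 ∈ S ∧ (ends e).2 ∈ S then 1 else 0) := by
  unfold PhiStab.inner
  rw [Finset.inter_filter, Finset.inter_univ, Finset.card_filter]
  push_cast
  rfl

theorem cut_split (ends : E → V × V) (N : Finset E) (S : Finset V) :
    (cut ends S : ℤ) =
      ∑ e ∈ N, (if ((ends e).1 ∈ S ∧ (ends e).2 ∉ S) ∨ ((ends e).1 ∉ S ∧ (ends e).2 ∈ S) then (1 : ℤ) else 0) +
      ∑ e ∈ Nᶜ, (if ((ends e).1 ∈ S ∧ (ends e).2 ∉ S) ∨ ((ends e).1 ∉ S ∧ (ends e).2 ∈ S) then (1 : ℤ) else 0) := by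
  rw [cut_eq_sum, Finset.sum_add_sum_compl]

/-- the integral form of the key identity -/
theorem key_int (ends : E → V × V) (m : V → ℤ) (N : Finset E) (S : Finset V) :
    2 * degOn ends m N S + (cut ends S : ℤ) =
      2 * ∑ v ∈ S, m v + ∑ v ∈ S, (endCount ends N v : ℤ) +
      ∑ e ∈ Nᶜ, (if ((ends e).1 ∈ S ∧ (ends e).2 ∉ S) ∨ ((ends e).1 ∉ S ∧ (ends e).2 ∈ S) then (1 : ℤ) else 0) := by
  unfold degOn
  rw [inner_card, cut_split ends N, sum_endCount]
  have : 2 * ∑ e ∈ N, (if (ends e).1 ∈ S ∧ (ends e).2 ∈ S then (1 : ℤ) else 0) +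
      ∑ e ∈ N, (if ((ends e).1 ∈ S ∧ (ends e).2 ∉ S) ∨ ((ends e).1 ∉ S ∧ (ends e).2 ∈ S) then (1 : ℤ) else 0) =
      ∑ e ∈ N, ((if (ends e).1 ∈ S then (1 : ℤ) else 0) + (if (ends e).2 ∈ S then 1 else 0)) := by
    rw [Finset.mul_sum, ← Finset.sum_add_distrib]
    refine Finset.sum_congr rfl fun e _ => ?_
    by_cases ha : (ends e).1 ∈ S <;> by_cases hb : (ends e).2 ∈ S <;> simp [ha, hb]
  linarith

/-- the additive vertex function attached to a datum -/
noncomputable def mu (ends : E → V × V) (φ : V → ℝ) (m : V → ℤ) (N : Finset E) (v : V) : ℝ :=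
  (m v : ℝ) - φ v + (endCount ends N v : ℝ) / 2

theorem sum_mu (ends : E → V × V) (φ : V → ℝ) (m : V → ℤ) (N : Finset E) :
    ∑ v, mu ends φ m N v = (totDeg m N : ℝ) - ∑ v, φ v := by
  unfold mu totDeg
  rw [Finset.sum_add_distrib, Finset.sum_sub_distrib, ← Finset.sum_div]
  have h := sum_endCount ends N Finset.univ
  simp only [Finset.mem_univ, if_true] at h
  have h' : ∑ v : V, (endCount ends N v : ℝ) = 2 * (N.card : ℝ) := by
    have h2 : ((∑ v : V, (endCount ends N v : ℤ) : ℤ) : ℝ) = ∑ v : V, (endCount ends N v : ℝ) := by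
      push_cast; rfl
    rw [← h2, h]
    simp
    ring
  rw [h']
  push_cast
  ring

/-- the key identity for the complement of a spanning edge set -/
theorem key_real (ends : E → V × V) (φ : V → ℝ) (m : V → ℤ) (T : Finset E) (S : Finset V) :
    (degOn ends m Tᶜ S : ℝ) - ((∑ v ∈ S, φ v) - (cut ends S : ℝ) / 2) =
      G (spanEnds ends T) (mu ends φ m Tᶜ) S := by
  have h := key_int ends m Tᶜ S
  rw [compl_compl] at h
  have hcut : (cut (spanEnds ends T) S : ℝ) = ((∑ e ∈ T,
      (if ((ends e).1 ∈ S ∧ (ends e).2 ∉ S) ∨ ((ends e).1 ∉ S ∧ (ends e).2 ∈ S) then (1 : ℤ) else 0) : ℤ) : ℝ) := by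
    rw [cut_real, ← Finset.sum_coe_sort T]
    push_cast
    rfl
  unfold G mu
  rw [hcut, Finset.sum_add_distrib, Finset.sum_sub_distrib, ← Finset.sum_div]
  have h1 : ((2 * degOn ends m Tᶜ S + (cut ends S : ℤ) : ℤ) : ℝ) =
      2 * (degOn ends m Tᶜ S : ℝ) + (cut ends S : ℝ) := by push_cast; rfl
  rw [h] at h1
  push_cast at h1 ⊢
  linarith

theorem isStable_iff (ends : E → V × V) (φ : V → ℝ) (m : V → ℤ) (T : Finset E) :
    IsStable ends φ m Tᶜ ↔ ∀ S : Finset V, S.Nonempty → S ≠ Finset.univ →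
      0 < G (spanEnds ends T) (mu ends φ m Tᶜ) S := by
  unfold IsStable
  refine forall_congr' fun S => forall_congr' fun _ => forall_congr' fun _ => ?_
  rw [← key_real, sub_pos]

theorem isSemistable_iff (ends : E → V × V) (φ : V → ℝ) (m : V → ℤ) (T : Finset E) :
    IsSemistable ends φ m Tᶜ ↔ ∀ S : Finset V, S.Nonempty → S ≠ Finset.univ →
      0 ≤ G (spanEnds ends T) (mu ends φ m Tᶜ) S := by
  unfold IsSemistable
  refine forall_congr' fun S => forall_congr' fun _ => forall_congr' fun _ => ?_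
  rw [← key_real, sub_nonneg]

theorem inc_cast (ends : E → V × V) (e : E) (v : V) :
    ((inc ℤ ends e v : ℤ) : ℝ) = inc ℝ ends e v := by
  rw [inc_apply, inc_apply]
  push_cast
  rfl

end Groth.Agent.Helper7.PhiB
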