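import Mathlib
import Groth.Prelude.Def_W4c5modbuncurvesppStab
import Groth.Agent.Helper7.PhiB2

/-!
# The unique stable datum of a spanning tree
-/

set_option autoImplicit false
set_option linter.unusedSectionVars false
universe u
open Finset

namespace Groth.Agent.Helper7.PhiB

open LabGraph PhiStab Groth.Agent.Helper7.LorC Groth.Agent.Helper7.LorT
  Groth.Agent.Helper7.LorP Groth.Agent.Helper7.PhiA Groth.Agent.Helper8

variable {V E : Type u} [Fintype V] [Fintype E] [DecidableEq V] [DecidableEq E]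

/-- existence of a semistable datum for the complement of a spanning tree -/
theorem exists_semistable (ends : E → V × V) (T : Finset E)
    (hT : DualGr.IsTree (spanEnds ends T)) (b : ℤ) (φ : V → ℝ) (hφ : (∑ v : V, φ v) = (b : ℝ)) :
    ∃ m : V → ℤ, totDeg m Tᶜ = b ∧ IsSemistable ends φ m Tᶜ := by
  classical
  obtain ⟨v₀⟩ := hT.1.1
  set N : Finset E := Tᶜ with hN
  set m₀ : V → ℤ := fun v => if v = v₀ then b - (N.card : ℤ) else 0 with hm₀
  have hm₀sum : ∑ v, m₀ v = b - (N.card : ℤ) := by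
    simp only [hm₀]
    rw [Finset.sum_ite_eq' Finset.univ v₀]
    simp
  have htd₀ : totDeg m₀ N = b := by
    unfold totDeg
    rw [hm₀sum]
    ring
  have hsum0 : ∑ v, mu ends φ m₀ N v = 0 := by
    rw [sum_mu, htd₀, hφ, sub_self]
  obtain ⟨c, hc⟩ := exists_coeff ℝ (spanEnds ends T) hT.1 (mu ends φ m₀ N) hsum0
  set m : V → ℤ := fun v => m₀ v - ∑ e, round (c e) * inc ℤ (spanEnds ends T) e v with hm
  have hmsum : ∑ v, m v = b - (N.card : ℤ) := by
    simp only [hm, Finset.sum_sub_distrib, hm₀sum]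
    rw [Finset.sum_comm]
    simp only [← Finset.mul_sum, sum_inc, mul_zero, Finset.sum_const_zero, sub_zero]
  have hmu : mu ends φ m N = ∑ e, (c e - round (c e)) • inc ℝ (spanEnds ends T) e := by
    funext v
    have h1 : mu ends φ m N v = mu ends φ m₀ N v - ∑ e, (round (c e) : ℝ) * inc ℝ (spanEnds ends T) e v := by
      unfold mu
      simp only [hm]
      push_cast
      simp only [inc_cast]
      ring
    rw [h1, ← hc]
    simp only [Finset.sum_apply, Pi.smul_apply, smul_eq_mul, sub_mul, Finset.sum_sub_distrib]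
  refine ⟨m, ?_, ?_⟩
  · unfold totDeg
    rw [hmsum]
    ring
  · rw [isSemistable_iff]
    intro S _ _
    rw [← hN, hmu]
    exact G_nonneg _ _ (fun e => abs_sub_round (c e)) S

/-- **S18375** -/
theorem existsUnique_stable (ends : E → V × V) (T : Finset E)
    (hT : DualGr.IsTree (spanEnds ends T)) (b : ℤ) (φ : V → ℝ) (hφ : (∑ v : V, φ v) = (b : ℝ))
    (hnd : Nondegenerate ends φ) :
    ∃! m : V → ℤ, totDeg m Tᶜ = b ∧ IsStable ends φ m Tᶜ := by
  classical
  obtain ⟨m, hmd, hms⟩ := exists_semistable ends T hT b φ hφ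
  refine ⟨m, ⟨hmd, hnd m Tᶜ (by rw [hφ, hmd]) hms⟩, ?_⟩
  rintro m' ⟨hmd', hms'⟩
  have hst := hnd m Tᶜ (by rw [hφ, hmd]) hms
  -- tree coordinates of both
  have hs : ∑ v, mu ends φ m Tᶜ v = 0 := by rw [sum_mu, hmd, hφ, sub_self]
  have hs' : ∑ v, mu ends φ m' Tᶜ v = 0 := by rw [sum_mu, hmd', hφ, sub_self]
  obtain ⟨γ, hγ⟩ := exists_coeff ℝ (spanEnds ends T) hT.1 _ hs
  obtain ⟨γ', hγ'⟩ := exists_coeff ℝ (spanEnds ends T) hT.1 _ hs'
  have hb : ∀ e, |γ e| < 1 / 2 := by
    apply abs_lt_of_G_pos (spanEnds ends T) hT.2 γ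
    rw [hγ]
    exact (isStable_iff ends φ m T).mp hst
  have hb' : ∀ e, |γ' e| < 1 / 2 := by
    apply abs_lt_of_G_pos (spanEnds ends T) hT.2 γ'
    rw [hγ']
    exact (isStable_iff ends φ m' T).mp hms'
  have hdiff : (fun v => ((m' v - m v : ℤ) : ℝ)) = ∑ e, (γ' e - γ e) • inc ℝ (spanEnds ends T) e := by
    have : (fun v => ((m' v - m v : ℤ) : ℝ)) = mu ends φ m' Tᶜ - mu ends φ m Tᶜ := by
      funext v
      simp only [Pi.sub_apply, mu]
      push_cast
      ring
    rw [this, ← hγ, ← hγ', ← Finset.sum_sub_distrib]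
    refine Finset.sum_congr rfl fun e _ => ?_
    rw [sub_smul]
  have hγeq : ∀ e, γ' e = γ e := by
    intro e
    have h1 := sideSum_comb ℝ (spanEnds ends T) hT.2 (fun e => γ' e - γ e) e
    rw [← hdiff] at h1
    have h2 : ((∑ v ∈ side (spanEnds ends T) e, (m' v - m v) : ℤ) : ℝ) = -(γ' e - γ e) := by
      rw [← h1]
      push_cast
      rfl
    have h3 : |((∑ v ∈ side (spanEnds ends T) e, (m' v - m v) : ℤ) : ℝ)| < 1 := by
      rw [h2, abs_neg]
      have := abs_sub (γ' e) (γ e)
      have h4 := hb e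
      have h5 := hb' e
      linarith
    have h6 : (∑ v ∈ side (spanEnds ends T) e, (m' v - m v) : ℤ) = 0 := by
      have : |(∑ v ∈ side (spanEnds ends T) e, (m' v - m v) : ℤ)| < 1 := by
        exact_mod_cast h3
      exact Int.abs_lt_one_iff.mp this
    rw [h6] at h2
    simp only [Int.cast_zero] at h2
    linarith
  have hzero : (fun v => ((m' v - m v : ℤ) : ℝ)) = 0 := by
    rw [hdiff]
    simp only [hγeq, sub_self, zero_smul, Finset.sum_const_zero]
  funext v
  have := congrFun hzero v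
  simp only [Pi.zero_apply, Int.cast_eq_zero] at this
  omega

end Groth.Agent.Helper7.PhiB
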