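import Mathlib
import Groth.Prelude.Def_W4c5modbuncurvesppStab
import Groth.Agent.Helper7.CapBI2

/-!
# Induced connectedness without subtypes, and the reduction to elementary vertex sets
-/

set_option autoImplicit false
set_option linter.unusedSectionVars false
universe u
open Finset

namespace Groth.Agent.Helper7.PhiC

open LabGraph PhiStab Groth.Agent.Helper7.LorC Groth.Agent.Helper7.CapBI

variable {V E : Type u} [Fintype V] [Fintype E] [DecidableEq V] [DecidableEq E]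

/-- the subgraph induced on `S` is connected: `S` is nonempty and no proper nonempty subset of `S`
is closed under the edges inside `S` -/
def IC (ends : E → V × V) (S : Finset V) : Prop :=
  S.Nonempty ∧ ∀ Q : Finset V, Q ⊆ S → Q.Nonempty → Q ≠ S →
    ∃ e : E, ((ends e).1 ∈ Q ∧ (ends e).2 ∈ S \ Q) ∨ ((ends e).2 ∈ Q ∧ (ends e).1 ∈ S \ Q)

theorem ic_of_connected (ends : E → V × V) (S : Finset V)
    (h : Connected (indEnds ends S)) : IC ends S := by
  classical
  obtain ⟨⟨v₀⟩, _⟩ := id h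
  refine ⟨⟨v₀.1, v₀.2⟩, ?_⟩
  intro Q hQS ⟨q, hq⟩ hne
  obtain ⟨w, hwS, hwQ⟩ : ∃ w, w ∈ S ∧ w ∉ Q := by
    by_contra hcon
    push Not at hcon
    exact hne (Finset.Subset.antisymm hQS hcon)
  set Y : Finset {v : V // v ∈ S} := Finset.univ.filter fun v => v.1 ∈ Q with hY
  have hqY : (⟨q, hQS hq⟩ : {v : V // v ∈ S}) ∈ Y := by
    rw [hY, Finset.mem_filter]
    exact ⟨Finset.mem_univ _, hq⟩
  have hwY : (⟨w, hwS⟩ : {v : V // v ∈ S}) ∉ Y := by
    rw [hY, Finset.mem_filter]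
    rintro ⟨-, h'⟩
    exact hwQ h'
  obtain ⟨e, he⟩ := exists_crossing (indEnds ends S) h Y _ _ hqY hwY
  have hin := (Finset.mem_filter.mp e.2).2
  refine ⟨e.1, ?_⟩
  simp only [hY, Finset.mem_filter, Finset.mem_univ, true_and] at he
  rcases he with ⟨h1, h2⟩ | ⟨h1, h2⟩
  · left
    exact ⟨h1, Finset.mem_sdiff.mpr ⟨hin.2, h2⟩⟩
  · right
    exact ⟨h2, Finset.mem_sdiff.mpr ⟨hin.1, h1⟩⟩

theorem connected_of_ic (ends : E → V × V) (S : Finset V) (h : IC ends S) :
    Connected (indEnds ends S) := by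
  classical
  obtain ⟨⟨v₀, hv₀⟩, hQ⟩ := h
  have : Nonempty {v : V // v ∈ S} := ⟨⟨v₀, hv₀⟩⟩
  by_contra hnot
  obtain ⟨S', ⟨x, hx⟩, ⟨y, hy⟩, hcl⟩ := exists_closed_of_not_connected (indEnds ends S) hnot
  set Q : Finset V := S'.map (Function.Embedding.subtype _) with hQdef
  have hmemQ : ∀ v (hv : v ∈ S), v ∈ Q ↔ (⟨v, hv⟩ : {v : V // v ∈ S}) ∈ S' := by
    intro v hv
    rw [hQdef, Finset.mem_map]
    constructor
    · rintro ⟨z, hz, rfl⟩
      exact hz
    · intro hz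
      exact ⟨⟨v, hv⟩, hz, rfl⟩
  have hQS : Q ⊆ S := by
    intro v hv
    rw [hQdef, Finset.mem_map] at hv
    obtain ⟨z, _, rfl⟩ := hv
    exact z.2
  have hQne : Q.Nonempty := ⟨x.1, (hmemQ x.1 x.2).mpr hx⟩
  have hQneS : Q ≠ S := by
    intro heq
    have : y.1 ∈ Q := by rw [heq]; exact y.2
    exact (Finset.mem_compl.mp hy) ((hmemQ y.1 y.2).mp this)
  obtain ⟨e, he⟩ := hQ Q hQS hQne hQneS
  rcases he with ⟨h1, h2⟩ | ⟨h1, h2⟩
  · have h2' := Finset.mem_sdiff.mp h2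
    have hin : e ∈ PhiStab.inner ends S :=
      Finset.mem_filter.mpr ⟨Finset.mem_univ _, hQS h1, h2'.1⟩
    have := (hcl ⟨e, hin⟩).mp ((hmemQ _ (hQS h1)).mp h1)
    exact h2'.2 ((hmemQ _ h2'.1).mpr this)
  · have h2' := Finset.mem_sdiff.mp h2
    have hin : e ∈ PhiStab.inner ends S :=
      Finset.mem_filter.mpr ⟨Finset.mem_univ _, h2'.1, hQS h1⟩
    have := (hcl ⟨e, hin⟩).mpr ((hmemQ _ (hQS h1)).mp h1)
    exact h2'.2 ((hmemQ _ h2'.1).mpr this)

theorem isElementary_iff (ends : E → V × V) (S : Finset V) :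
    IsElementary ends S ↔ IC ends S ∧ IC ends Sᶜ :=
  ⟨fun h => ⟨ic_of_connected ends S h.1, ic_of_connected ends Sᶜ h.2⟩,
    fun h => ⟨connected_of_ic ends S h.1, connected_of_ic ends Sᶜ h.2⟩⟩

/-- no edge between `A` and `B` -/
def NoEdge (ends : E → V × V) (A B : Finset V) : Prop :=
  ∀ e : E, ¬ ((ends e).1 ∈ A ∧ (ends e).2 ∈ B) ∧ ¬ ((ends e).1 ∈ B ∧ (ends e).2 ∈ A)

/-- a non-connected induced subgraph splits -/
theorem exists_split (ends : E → V × V) (S : Finset V) (hne : S.Nonempty) (h : ¬ IC ends S) :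
    ∃ A B : Finset V, A ∪ B = S ∧ Disjoint A B ∧ A.Nonempty ∧ B.Nonempty ∧ NoEdge ends A B := by
  classical
  unfold IC at h
  push Not at h
  obtain ⟨Q, hQS, hQne, hQneS, hno⟩ := h hne
  refine ⟨Q, S \ Q, Finset.union_sdiff_of_subset hQS, Finset.disjoint_sdiff, hQne, ?_, ?_⟩
  · rw [Finset.nonempty_iff_ne_empty]
    intro h0
    exact hQneS (Finset.Subset.antisymm hQS (Finset.sdiff_eq_empty_iff_subset.mp h0))
  · intro e
    have := hno e
    exact ⟨fun h' => this.1 h'.1 h'.2, fun h' => this.2 h'.2 h'.1⟩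

/-- adding to a connected set a set with no edge to the outside keeps it connected -/
theorem ic_union (ends : E → V × V) (hconn : Connected ends) (W B : Finset V) (hW : IC ends W)
    (hB : NoEdge ends B (W ∪ B)ᶜ) : IC ends (W ∪ B) := by
  classical
  obtain ⟨⟨w₀, hw₀⟩, hWQ⟩ := hW
  refine ⟨⟨w₀, Finset.mem_union_left _ hw₀⟩, ?_⟩
  intro Q hQS hQne hQneS
  -- a vertex of `W ∪ B` outside `Q`
  obtain ⟨z, hzS, hzQ⟩ : ∃ z, z ∈ W ∪ B ∧ z ∉ Q := by
    by_contra hcon
    push Not at hcon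
    exact hQneS (Finset.Subset.antisymm hQS hcon)
  by_cases h1 : (Q ∩ W).Nonempty ∧ Q ∩ W ≠ W
  · -- `Q` cuts `W`
    obtain ⟨e, he⟩ := hWQ (Q ∩ W) Finset.inter_subset_right h1.1 h1.2
    refine ⟨e, ?_⟩
    rcases he with ⟨ha, hb⟩ | ⟨ha, hb⟩
    · left
      have hb' := Finset.mem_sdiff.mp hb
      refine ⟨(Finset.mem_inter.mp ha).1, Finset.mem_sdiff.mpr ⟨Finset.mem_union_left _ hb'.1, ?_⟩⟩
      intro hq
      exact hb'.2 (Finset.mem_inter.mpr ⟨hq, hb'.1⟩)
    · right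
      have hb' := Finset.mem_sdiff.mp hb
      refine ⟨(Finset.mem_inter.mp ha).1, Finset.mem_sdiff.mpr ⟨Finset.mem_union_left _ hb'.1, ?_⟩⟩
      intro hq
      exact hb'.2 (Finset.mem_inter.mpr ⟨hq, hb'.1⟩)
  · -- `W ⊆ Q` or `W ∩ Q = ∅`: take `R` = the part of `Q` or of its complement inside `B`
    rw [not_and_or, Finset.not_nonempty_iff_eq_empty, not_not] at h1
    -- `R`: a nonempty set inside `B`, with `W` disjoint from it, being `Q` or `(W ∪ B) \ Q`
    have key : ∀ R : Finset V, R.Nonempty → R ⊆ B → w₀ ∉ R →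
        (∀ x, x ∈ W ∪ B → x ∉ R → ∀ r ∈ R, (r ∈ Q ↔ x ∉ Q)) →
        ∃ e : E, ((ends e).1 ∈ Q ∧ (ends e).2 ∈ (W ∪ B) \ Q) ∨
          ((ends e).2 ∈ Q ∧ (ends e).1 ∈ (W ∪ B) \ Q) := by
      intro R ⟨r, hr⟩ hRB hw₀R hRQ
      obtain ⟨e, he⟩ := exists_crossing ends hconn R r w₀ hr hw₀R
      refine ⟨e, ?_⟩
      rcases he with ⟨ha, hb⟩ | ⟨ha, hb⟩
      · -- `a ∈ R`, `b ∉ R`
        have hbS : (ends e).2 ∈ W ∪ B := by
          by_contra hout
          exact (hB e).1 ⟨hRB ha, Finset.mem_compl.mpr hout⟩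
        have hiff := hRQ _ hbS hb _ ha
        by_cases haQ : (ends e).1 ∈ Q
        · left
          exact ⟨haQ, Finset.mem_sdiff.mpr ⟨hbS, hiff.mp haQ⟩⟩
        · right
          have hbQ : (ends e).2 ∈ Q := by
            by_contra hbQ
            exact haQ (hiff.mpr hbQ)
          exact ⟨hbQ, Finset.mem_sdiff.mpr ⟨Finset.mem_union_right _ (hRB ha), haQ⟩⟩
      · -- `a ∉ R`, `b ∈ R`
        have haS : (ends e).1 ∈ W ∪ B := by
          by_contra hout
          exact (hB e).2 ⟨Finset.mem_compl.mpr hout, hRB hb⟩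
        have hiff := hRQ _ haS ha _ hb
        by_cases hbQ : (ends e).2 ∈ Q
        · right
          exact ⟨hbQ, Finset.mem_sdiff.mpr ⟨haS, hiff.mp hbQ⟩⟩
        · left
          have haQ : (ends e).1 ∈ Q := by
            by_contra haQ
            exact hbQ (hiff.mpr haQ)
          exact ⟨haQ, Finset.mem_sdiff.mpr ⟨Finset.mem_union_right _ (hRB hb), hbQ⟩⟩
    rcases h1 with h1 | h1
    · -- `Q ∩ W = ∅`: `R = Q`
      have hQB : Q ⊆ B := by
        intro x hx
        rcases Finset.mem_union.mp (hQS hx) with hxW | hxB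
        · exact absurd (Finset.mem_inter.mpr ⟨hx, hxW⟩) (by rw [h1]; exact Finset.notMem_empty _)
        · exact hxB
      apply key Q hQne hQB
      · intro hw
        exact absurd (Finset.mem_inter.mpr ⟨hw, hw₀⟩) (by rw [h1]; exact Finset.notMem_empty _)
      · intro x _ hxQ r hr
        exact ⟨fun _ => hxQ, fun _ => hr⟩
    · -- `Q ∩ W = W`: `R = (W ∪ B) \ Q`
      have hWQ' : W ⊆ Q := by
        intro x hx
        have : x ∈ Q ∩ W := by rw [h1]; exact hx
        exact (Finset.mem_inter.mp this).1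
      apply key ((W ∪ B) \ Q) ⟨z, Finset.mem_sdiff.mpr ⟨hzS, hzQ⟩⟩
      · intro x hx
        have hx' := Finset.mem_sdiff.mp hx
        rcases Finset.mem_union.mp hx'.1 with hxW | hxB
        · exact absurd (hWQ' hxW) hx'.2
        · exact hxB
      · intro hw
        exact (Finset.mem_sdiff.mp hw).2 (hWQ' hw₀)
      · intro x hxS hxR r hr
        have hr' := Finset.mem_sdiff.mp hr
        have hxQ : x ∈ Q := by
          by_contra hxQ
          exact hxR (Finset.mem_sdiff.mpr ⟨hxS, hxQ⟩)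
        exact ⟨fun h => absurd h hr'.2, fun h => absurd hxQ h⟩

end Groth.Agent.Helper7.PhiC
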