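import Mathlib
import Groth.Prelude.Def_W4c5modbuncurvesppStab
import Groth.Agent.Helper7.PhiC1
import Groth.Agent.Helper7.PhiB2

/-!
# Semistability can be tested on elementary vertex sets
-/

set_option autoImplicit false
set_option linter.unusedSectionVars false
universe u
open Finset

namespace Groth.Agent.Helper7.PhiC

open LabGraph PhiStab Groth.Agent.Helper7.LorC Groth.Agent.Helper7.CapBI Groth.Agent.Helper7.PhiB

variable {V E : Type u} [Fintype V] [Fintype E] [DecidableEq V] [DecidableEq E]

section Reduce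

variable (ends : E → V × V) (hconn : Connected ends) (h : Finset V → ℝ)
  (H1 : ∀ A B : Finset V, Disjoint A B → NoEdge ends A B → h (A ∪ B) = h A + h B)
  (H2 : ∀ A B : Finset V, Disjoint A B → NoEdge ends A B → h (A ∪ B)ᶜ = h Aᶜ + h Bᶜ)
  (P : ℝ → Prop) (hP : ∀ x y, P x → P y → P (x + y))
  (hel : ∀ S : Finset V, IC ends S → IC ends Sᶜ → P (h S))

include hconn H1 hP hel in
theorem reduce₁ : ∀ (n : ℕ) (S : Finset V), S.card = n → S.Nonempty → IC ends Sᶜ → P (h S) := by
  intro n
  induction n using Nat.strong_induction_on with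
  | _ n ih =>
    intro S hcard hne hSc
    by_cases hS : IC ends S
    · exact hel S hS hSc
    · obtain ⟨A, B, hAB, hdisj, hAne, hBne, hno⟩ := exists_split ends S hne hS
      have hdl := Finset.disjoint_left.mp hdisj
      have hcardS : A.card + B.card = n := by
        rw [← hcard, ← hAB, Finset.card_union_of_disjoint hdisj]
      have hApos := Finset.card_pos.mpr hAne
      have hBpos := Finset.card_pos.mpr hBne
      have hAc : Aᶜ = Sᶜ ∪ B := by
        ext x
        simp only [Finset.mem_compl, Finset.mem_union, ← hAB]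
        have := @hdl x
        tauto
      have hBc : Bᶜ = Sᶜ ∪ A := by
        ext x
        simp only [Finset.mem_compl, Finset.mem_union, ← hAB]
        have := @hdl x
        tauto
      have hAcc : (Sᶜ ∪ B)ᶜ = A := by rw [← hAc, compl_compl]
      have hBcc : (Sᶜ ∪ A)ᶜ = B := by rw [← hBc, compl_compl]
      have hICA : IC ends Aᶜ := by
        rw [hAc]
        apply ic_union ends hconn Sᶜ B hSc
        rw [hAcc]
        intro e
        exact ⟨(hno e).2, (hno e).1⟩
      have hICB : IC ends Bᶜ := by
        rw [hBc]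
        apply ic_union ends hconn Sᶜ A hSc
        rw [hBcc]
        exact hno
      have hA := ih A.card (by omega) A rfl hAne hICA
      have hB := ih B.card (by omega) B rfl hBne hICB
      rw [← hAB, H1 A B hdisj hno]
      exact hP _ _ hA hB

include hconn H1 H2 hP hel in
theorem reduce₂ : ∀ (n : ℕ) (S : Finset V), Sᶜ.card = n → S.Nonempty → S ≠ Finset.univ →
    P (h S) := by
  intro n
  induction n using Nat.strong_induction_on with
  | _ n ih =>
    intro S hcard hne hnu
    by_cases hSc : IC ends Sᶜ
    · exact reduce₁ ends hconn h H1 P hP hel S.card S rfl hne hSc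
    · have hScne : Sᶜ.Nonempty := by
        rw [Finset.nonempty_iff_ne_empty]
        intro h0
        exact hnu ((Finset.compl_eq_empty_iff S).mp h0)
      obtain ⟨A, B, hAB, hdisj, hAne, hBne, hno⟩ := exists_split ends Sᶜ hScne hSc
      have hcardS : A.card + B.card = n := by
        rw [← hcard, ← hAB, Finset.card_union_of_disjoint hdisj]
      have hApos := Finset.card_pos.mpr hAne
      have hBpos := Finset.card_pos.mpr hBne
      have hS : S = (A ∪ B)ᶜ := by rw [hAB, compl_compl]
      obtain ⟨s, hs⟩ := hne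
      have hsA : s ∈ Aᶜ := by
        rw [Finset.mem_compl]
        intro hsA
        have : s ∈ Sᶜ := hAB ▸ Finset.mem_union_left _ hsA
        exact (Finset.mem_compl.mp this) hs
      have hsB : s ∈ Bᶜ := by
        rw [Finset.mem_compl]
        intro hsB
        have : s ∈ Sᶜ := hAB ▸ Finset.mem_union_right _ hsB
        exact (Finset.mem_compl.mp this) hs
      have hAnu : Aᶜ ≠ Finset.univ := by
        intro h0
        obtain ⟨a, ha⟩ := hAne
        have := h0 ▸ Finset.mem_univ a
        exact (Finset.mem_compl.mp this) ha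
      have hBnu : Bᶜ ≠ Finset.univ := by
        intro h0
        obtain ⟨a, ha⟩ := hBne
        have := h0 ▸ Finset.mem_univ a
        exact (Finset.mem_compl.mp this) ha
      have hA := ih A.card (by omega) Aᶜ (by rw [compl_compl]) ⟨s, hsA⟩ hAnu
      have hB := ih B.card (by omega) Bᶜ (by rw [compl_compl]) ⟨s, hsB⟩ hBnu
      rw [hS, H2 A B hdisj hno]
      exact hP _ _ hA hB

end Reduce

/-- number of edges outside `N` crossing `S`, as a real -/
noncomputable def cc (ends : E → V × V) (N : Finset E) (S : Finset V) : ℝ :=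
  ∑ e ∈ Nᶜ, (if ((ends e).1 ∈ S ∧ (ends e).2 ∉ S) ∨ ((ends e).1 ∉ S ∧ (ends e).2 ∈ S) then (1 : ℝ) else 0)

theorem cc_compl (ends : E → V × V) (N : Finset E) (S : Finset V) : cc ends N Sᶜ = cc ends N S := by
  unfold cc
  refine Finset.sum_congr rfl fun e _ => ?_
  by_cases ha : (ends e).1 ∈ S <;> by_cases hb : (ends e).2 ∈ S <;> simp [ha, hb]

theorem cc_union (ends : E → V × V) (N : Finset E) (A B : Finset V) (hd : Disjoint A B)
    (hno : NoEdge ends A B) : cc ends N (A ∪ B) = cc ends N A + cc ends N B := by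
  unfold cc
  rw [← Finset.sum_add_distrib]
  refine Finset.sum_congr rfl fun e _ => ?_
  have hdl := Finset.disjoint_left.mp hd
  have h1 := (hno e).1
  have h2 := (hno e).2
  have e1 : ¬ ((ends e).1 ∈ A ∧ (ends e).1 ∈ B) := fun h => hdl h.1 h.2
  have e2 : ¬ ((ends e).2 ∈ A ∧ (ends e).2 ∈ B) := fun h => hdl h.1 h.2
  simp only [Finset.mem_union]
  by_cases haA : (ends e).1 ∈ A <;> by_cases haB : (ends e).1 ∈ B <;>
    by_cases hbA : (ends e).2 ∈ A <;> by_cases hbB : (ends e).2 ∈ B <;>
    simp_all

/-- twice the stability function of a datum -/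
noncomputable def hh (ends : E → V × V) (φ : V → ℝ) (m : V → ℤ) (N : Finset E) (S : Finset V) : ℝ :=
  2 * ((degOn ends m N S : ℝ) - ((∑ v ∈ S, φ v) - (cut ends S : ℝ) / 2))

theorem hh_eq (ends : E → V × V) (φ : V → ℝ) (m : V → ℤ) (N : Finset E) (S : Finset V) :
    hh ends φ m N S = ∑ v ∈ S, 2 * mu ends φ m N v + cc ends N S := by
  have h := key_int ends m N S
  have h1 : ((2 * degOn ends m N S + (cut ends S : ℤ) : ℤ) : ℝ) =
      2 * (degOn ends m N S : ℝ) + (cut ends S : ℝ) := by push_cast; rfl
  rw [h] at h1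
  unfold hh cc mu
  rw [← Finset.mul_sum, Finset.sum_add_distrib, Finset.sum_sub_distrib, ← Finset.sum_div]
  push_cast at h1 ⊢
  linarith

theorem hh_union (ends : E → V × V) (φ : V → ℝ) (m : V → ℤ) (N : Finset E) (A B : Finset V)
    (hd : Disjoint A B) (hno : NoEdge ends A B) :
    hh ends φ m N (A ∪ B) = hh ends φ m N A + hh ends φ m N B := by
  rw [hh_eq, hh_eq, hh_eq, Finset.sum_union hd, cc_union ends N A B hd hno]
  ring

theorem hh_compl (ends : E → V × V) (φ : V → ℝ) (m : V → ℤ) (N : Finset E)
    (hdeg : (∑ v : V, φ v) = (totDeg m N : ℝ)) (S : Finset V) :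
    hh ends φ m N Sᶜ = - ∑ v ∈ S, 2 * mu ends φ m N v + cc ends N S := by
  rw [hh_eq, cc_compl]
  have htot : ∑ v, 2 * mu ends φ m N v = 0 := by
    rw [← Finset.mul_sum, sum_mu, hdeg, sub_self, mul_zero]
  have := Finset.sum_add_sum_compl S (fun v => 2 * mu ends φ m N v)
  rw [htot] at this
  linarith

theorem hh_union_compl (ends : E → V × V) (φ : V → ℝ) (m : V → ℤ) (N : Finset E)
    (hdeg : (∑ v : V, φ v) = (totDeg m N : ℝ)) (A B : Finset V)
    (hd : Disjoint A B) (hno : NoEdge ends A B) :
    hh ends φ m N (A ∪ B)ᶜ = hh ends φ m N Aᶜ + hh ends φ m N Bᶜ := by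
  rw [hh_compl ends φ m N hdeg, hh_compl ends φ m N hdeg, hh_compl ends φ m N hdeg,
    Finset.sum_union hd, cc_union ends N A B hd hno]
  ring

theorem elem_ne (ends : E → V × V) (S : Finset V) (hS : IsElementary ends S) :
    S.Nonempty ∧ S ≠ Finset.univ := by
  rw [isElementary_iff] at hS
  refine ⟨hS.1.1, ?_⟩
  intro h0
  obtain ⟨x, hx⟩ := hS.2.1
  rw [h0] at hx
  simp at hx

/-- **S18374** -/
theorem main (ends : E → V × V) (hconn : Connected ends)
    (φ : V → ℝ) (m : V → ℤ) (N : Finset E) (hdeg : (∑ v : V, φ v) = (totDeg m N : ℝ)) :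
    (IsSemistable ends φ m N ↔
      ∀ S : Finset V, IsElementary ends S →
        (∑ v ∈ S, φ v) - (cut ends S : ℝ) / 2 ≤ (degOn ends m N S : ℝ)) ∧
    (IsStable ends φ m N ↔
      ∀ S : Finset V, IsElementary ends S →
        (∑ v ∈ S, φ v) - (cut ends S : ℝ) / 2 < (degOn ends m N S : ℝ)) := by
  constructor
  · constructor
    · intro h S hS
      exact h S (elem_ne ends S hS).1 (elem_ne ends S hS).2
    · intro h S hne hnu
      have := reduce₂ ends hconn (hh ends φ m N) (hh_union ends φ m N)
        (hh_union_compl ends φ m N hdeg) (fun x => 0 ≤ x) (fun x y hx hy => add_nonneg hx hy)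
        (fun S h1 h2 => by
          have := h S ((isElementary_iff ends S).mpr ⟨h1, h2⟩)
          unfold hh
          linarith) Sᶜ.card S rfl hne hnu
      unfold hh at this
      linarith
  · constructor
    · intro h S hS
      exact h S (elem_ne ends S hS).1 (elem_ne ends S hS).2
    · intro h S hne hnu
      have := reduce₂ ends hconn (hh ends φ m N) (hh_union ends φ m N)
        (hh_union_compl ends φ m N hdeg) (fun x => 0 < x) (fun x y hx hy => add_pos hx hy)
        (fun S h1 h2 => by
          have := h S ((isElementary_iff ends S).mpr ⟨h1, h2⟩)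
          unfold hh
          linarith) Sᶜ.card S rfl hne hnu
      unfold hh at this
      linarith

end Groth.Agent.Helper7.PhiC
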