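import Mathlib
import Groth.Prelude.Def_W4c5modbuncurvesppStab
import Groth.Agent.Helper7.PhiC2
import Groth.Agent.Helper7.PhiB3

/-!
# The closed stability polytope
-/

set_option autoImplicit false
set_option linter.unusedSectionVars false
universe u
open Finset

namespace Groth.Agent.Helper7.PhiD

open LabGraph PhiStab Groth.Agent.Helper7.LorC Groth.Agent.Helper7.LorT Groth.Agent.Helper7.CapBI
  Groth.Agent.Helper7.PhiB Groth.Agent.Helper7.PhiC Groth.Agent.Helper8

variable {V E : Type u} [Fintype V] [Fintype E] [DecidableEq V] [DecidableEq E]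

/-- crossing predicate -/
def Cr (ends : E → V × V) (S : Finset V) (e : E) : Prop :=
  ((ends e).1 ∈ S ∧ (ends e).2 ∉ S) ∨ ((ends e).1 ∉ S ∧ (ends e).2 ∈ S)

instance (ends : E → V × V) (S : Finset V) : DecidablePred (Cr ends S) := fun e => by
  unfold Cr; infer_instance

/-- the graph obtained from an elementary set by removing all crossing edges but one is
connected -/
theorem connected_remove (ends : E → V × V) (S : Finset V) (hS : IC ends S) (hSc : IC ends Sᶜ)
    (e₀ : E) (he₀ : Cr ends S e₀) (N₀ : Finset E) (hN₀ : ∀ e ∈ N₀, Cr ends S e ∧ e ≠ e₀) :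
    Connected (spanEnds ends N₀ᶜ) := by
  classical
  obtain ⟨s₀, hs₀⟩ := hS.1
  have : Nonempty V := ⟨s₀⟩
  by_contra hnot
  obtain ⟨Q, hQne, hQcne, hcl⟩ := exists_closed_of_not_connected (spanEnds ends N₀ᶜ) hnot
  have hcl' : ∀ e, e ∉ N₀ → ((ends e).1 ∈ Q ↔ (ends e).2 ∈ Q) := fun e he =>
    hcl ⟨e, Finset.mem_compl.mpr he⟩
  -- inner edges are not removed
  have hinner : ∀ (W : Finset V) (e : E), (W = S ∨ W = Sᶜ) → (ends e).1 ∈ W → (ends e).2 ∈ W →
      e ∉ N₀ := by
    intro W e hW ha hb hN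
    have hcr := (hN₀ e hN).1
    unfold Cr at hcr
    rcases hW with rfl | rfl
    · tauto
    · rw [Finset.mem_compl] at ha hb
      tauto
  -- `Q` meets a connected `W ∈ {S, Sᶜ}` in nothing or everything
  have hsplit : ∀ W : Finset V, (W = S ∨ W = Sᶜ) → IC ends W → Q ∩ W = ∅ ∨ W ⊆ Q := by
    intro W hW hIC
    by_cases h1 : (Q ∩ W).Nonempty
    · right
      by_contra hsub
      have hne : Q ∩ W ≠ W := by
        intro heq
        apply hsub
        intro x hx
        have : x ∈ Q ∩ W := by rw [heq]; exact hx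
        exact (Finset.mem_inter.mp this).1
      obtain ⟨e, he⟩ := hIC.2 (Q ∩ W) Finset.inter_subset_right h1 hne
      rcases he with ⟨ha, hb⟩ | ⟨ha, hb⟩
      · have ha' := Finset.mem_inter.mp ha
        have hb' := Finset.mem_sdiff.mp hb
        have := (hcl' e (hinner W e hW ha'.2 hb'.1)).mp ha'.1
        exact hb'.2 (Finset.mem_inter.mpr ⟨this, hb'.1⟩)
      · have ha' := Finset.mem_inter.mp ha
        have hb' := Finset.mem_sdiff.mp hb
        have := (hcl' e (hinner W e hW hb'.1 ha'.2)).mpr ha'.1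
        exact hb'.2 (Finset.mem_inter.mpr ⟨this, hb'.1⟩)
    · left
      exact Finset.not_nonempty_iff_eq_empty.mp h1
  have he₀N : e₀ ∉ N₀ := fun h => (hN₀ e₀ h).2 rfl
  have hcl₀ := hcl' e₀ he₀N
  have h1 := hsplit S (Or.inl rfl) hS
  have h2 := hsplit Sᶜ (Or.inr rfl) hSc
  obtain ⟨q, hq⟩ := hQne
  obtain ⟨p, hp⟩ := hQcne
  rw [Finset.mem_compl] at hp
  have memS : ∀ x, x ∈ S → (x ∈ Q ↔ S ⊆ Q) := by
    intro x hx
    constructor
    · intro hxQ
      rcases h1 with h1 | h1
      · exact absurd (Finset.mem_inter.mpr ⟨hxQ, hx⟩) (by rw [h1]; exact Finset.notMem_empty _)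
      · exact h1
    · intro h
      exact h hx
  have memSc : ∀ x, x ∉ S → (x ∈ Q ↔ Sᶜ ⊆ Q) := by
    intro x hx
    constructor
    · intro hxQ
      rcases h2 with h2 | h2
      · exact absurd (Finset.mem_inter.mpr ⟨hxQ, Finset.mem_compl.mpr hx⟩)
          (by rw [h2]; exact Finset.notMem_empty _)
      · exact h2
    · intro h
      exact h (Finset.mem_compl.mpr hx)
  -- both or none of `S`, `Sᶜ` lie in `Q`, through the edge `e₀`
  have hboth : S ⊆ Q ↔ Sᶜ ⊆ Q := by
    unfold Cr at he₀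
    rcases he₀ with ⟨ha, hb⟩ | ⟨ha, hb⟩
    · rw [← memS _ ha, ← memSc _ hb]
      exact hcl₀
    · rw [← memS _ hb, ← memSc _ ha]
      exact hcl₀.symm
  by_cases hqS : q ∈ S
  · have hSQ := (memS q hqS).mp hq
    have hScQ := hboth.mp hSQ
    by_cases hpS : p ∈ S
    · exact hp (hSQ hpS)
    · exact hp (hScQ (Finset.mem_compl.mpr hpS))
  · have hScQ := (memSc q hqS).mp hq
    have hSQ := hboth.mpr hScQ
    by_cases hpS : p ∈ S
    · exact hp (hSQ hpS)
    · exact hp (hScQ (Finset.mem_compl.mpr hpS))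

/-- a spanning tree inside the complement of `N₀` when that complement is connected -/
theorem exists_spanningTree_avoiding (ends : E → V × V) (N₀ : Finset E)
    (hconn' : Connected (spanEnds ends N₀ᶜ)) (hconn : Connected ends) :
    ∃ T : Finset E, T ⊆ N₀ᶜ ∧ DualGr.IsTree (spanEnds ends T) := by
  classical
  have hs : LinearIndepOn (ZMod 2) (inc (ZMod 2) ends) (∅ : Set E) := linearIndepOn_empty _ _
  obtain ⟨b, hbt, -, hspan, hind⟩ := exists_linearIndepOn_extension hs
    (Set.empty_subset (↑N₀ᶜ : Set E))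
  refine ⟨b.toFinset, ?_, ?_⟩
  · intro e he
    rw [Set.mem_toFinset] at he
    exact hbt he
  · apply isSpanningTree_of_indep_span ends hconn
    · rw [Set.coe_toFinset]; exact hind
    · intro e
      rw [Set.coe_toFinset]
      have h1 : inc (ZMod 2) ends e ∈ Submodule.span (ZMod 2) (Set.range (inc (ZMod 2) (spanEnds ends N₀ᶜ))) :=
        mem_span_inc (ZMod 2) (spanEnds ends N₀ᶜ) hconn' _ (sum_inc (ZMod 2) ends e)
      have h2 : Set.range (inc (ZMod 2) (spanEnds ends N₀ᶜ)) ⊆
          ↑(Submodule.span (ZMod 2) (inc (ZMod 2) ends '' b)) := by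
        rintro _ ⟨e', rfl⟩
        exact hspan ⟨e'.1, e'.2, rfl⟩
      exact Submodule.span_le.mpr h2 h1

theorem cut_compl (ends : E → V × V) (S : Finset V) : cut ends Sᶜ = cut ends S := by
  unfold cut
  congr 1
  ext e
  simp only [Finset.mem_filter, Finset.mem_univ, true_and, Finset.mem_compl, not_not]
  tauto

/-- a stable datum of small degree on an elementary set -/
theorem exists_stable_le (ends : E → V × V) (hconn : Connected ends) (b : ℤ) (φ₁ : V → ℝ)
    (h₁ : (∑ v : V, φ₁ v) = (b : ℝ)) (hnd : Nondegenerate ends φ₁) (S : Finset V)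
    (hS : IsElementary ends S) (d : ℤ) (hd : 0 < ell ends S d φ₁) :
    ∃ (m : V → ℤ) (N : Finset E), totDeg m N = b ∧ IsStable ends φ₁ m N ∧ degOn ends m N S ≤ d := by
  classical
  have hne := elem_ne ends S hS
  rw [isElementary_iff] at hS
  obtain ⟨hIC, hICc⟩ := hS
  obtain ⟨s, hs⟩ := hIC.1
  obtain ⟨p, hp⟩ := hICc.1
  rw [Finset.mem_compl] at hp
  obtain ⟨e₀, he₀⟩ := exists_crossing ends hconn S s p hs hp
  set N₀ : Finset E := Finset.univ.filter (fun e => Cr ends S e ∧ e ≠ e₀) with hN₀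
  have hconn' := connected_remove ends S hIC hICc e₀ he₀ N₀ (fun e he => (Finset.mem_filter.mp he).2)
  obtain ⟨T, hTsub, hT⟩ := exists_spanningTree_avoiding ends N₀ hconn' hconn
  obtain ⟨m, hmd, hms⟩ := exists_semistable ends T hT b φ₁ h₁
  have hst := hnd m Tᶜ (by rw [h₁, hmd]) hms
  refine ⟨m, Tᶜ, hmd, hst, ?_⟩
  have hG1 := key_real ends φ₁ m T S
  have hScne : Sᶜ.Nonempty := ⟨p, Finset.mem_compl.mpr hp⟩
  have hScnu : Sᶜ ≠ Finset.univ := by
    intro h0
    have := h0 ▸ Finset.mem_univ s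
    exact (Finset.mem_compl.mp this) hs
  have hG2 := (isStable_iff ends φ₁ m T).mp hst Sᶜ hScne hScnu
  unfold G at hG1 hG2
  have hsumμ : ∑ v ∈ Sᶜ, mu ends φ₁ m Tᶜ v = - ∑ v ∈ S, mu ends φ₁ m Tᶜ v := by
    have h0 : ∑ v, mu ends φ₁ m Tᶜ v = 0 := by rw [sum_mu, hmd, h₁, sub_self]
    have := Finset.sum_add_sum_compl S (fun v => mu ends φ₁ m Tᶜ v)
    rw [h0] at this
    linarith
  rw [hsumμ, cut_compl] at hG2
  have hcutT : cut (spanEnds ends T) S ≤ 1 := by
    unfold cut
    rw [Finset.card_le_one]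
    intro x hx y hy
    have key : ∀ z : {e : E // e ∈ T}, z ∈ Finset.univ.filter (fun e : {e : E // e ∈ T} =>
        (((spanEnds ends T) e).1 ∈ S ∧ ((spanEnds ends T) e).2 ∉ S) ∨
          (((spanEnds ends T) e).1 ∉ S ∧ ((spanEnds ends T) e).2 ∈ S)) → z.1 = e₀ := by
      intro z hz
      have hcr : Cr ends S z.1 := (Finset.mem_filter.mp hz).2
      have hz' := Finset.mem_compl.mp (hTsub z.2)
      by_contra hne0
      exact hz' (Finset.mem_filter.mpr ⟨Finset.mem_univ _, hcr, hne0⟩)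
    exact Subtype.ext ((key x hx).trans (key y hy).symm)
  have hcutT' : (cut (spanEnds ends T) S : ℝ) ≤ 1 := by exact_mod_cast hcutT
  unfold ell at hd
  have : (degOn ends m Tᶜ S : ℝ) < (d : ℝ) + 1 := by linarith
  have : degOn ends m Tᶜ S < d + 1 := by exact_mod_cast this
  omega

/-- **S18376** -/
theorem main (ends : E → V × V) (hconn : Connected ends) (b : ℤ) (φ₁ φ₂ : V → ℝ)
    (h₁ : (∑ v : V, φ₁ v) = (b : ℝ)) (h₂ : (∑ v : V, φ₂ v) = (b : ℝ))
    (hnd : Nondegenerate ends φ₁) :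
    (∀ (m : V → ℤ) (N : Finset E), totDeg m N = b → IsStable ends φ₁ m N →
        IsSemistable ends φ₂ m N) ↔ InClosedPolytope ends φ₁ φ₂ := by
  constructor
  · intro H S hS d hd
    obtain ⟨m, N, hmd, hst, hle⟩ := exists_stable_le ends hconn b φ₁ h₁ hnd S hS d hd
    have hss := H m N hmd hst S (elem_ne ends S hS).1 (elem_ne ends S hS).2
    unfold ell
    have : (degOn ends m N S : ℝ) ≤ (d : ℝ) := by exact_mod_cast hle
    linarith
  · intro hpoly m N hmd hst
    rw [(PhiC.main ends hconn φ₂ m N (by rw [h₂, hmd])).1]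
    intro S hS
    have h1 := hst S (elem_ne ends S hS).1 (elem_ne ends S hS).2
    have := hpoly S hS (degOn ends m N S) (by unfold ell; linarith)
    unfold ell at this
    linarith

end Groth.Agent.Helper7.PhiD
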