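import Mathlib

/-!
# The Picard group of a polynomial ring over a product of valuation rings is trivial
-/

set_option autoImplicit false
universe u v

namespace Groth.Agent.Helper7.PicPi

open MvPolynomial TensorProduct

section GCD

theorem isGCDMonoid_of_ringEquiv {α β : Type*} [CommRing α] [IsDomain α] [CommRing β]
    (e : α ≃+* β) [IsGCDMonoid β] : IsGCDMonoid α := by
  rw [isGCDMonoid_iff_exists_gcd]
  refine ⟨inferInstance, fun a b => ?_⟩
  obtain ⟨_, h⟩ := isGCDMonoid_iff_exists_gcd.mp (inferInstance : IsGCDMonoid β)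
  obtain ⟨c, hc⟩ := h (e a) (e b)
  refine ⟨e.symm c, fun d => ?_⟩
  have h1 := hc (e d)
  rw [map_dvd_iff e, map_dvd_iff e] at h1
  rw [h1, ← map_dvd_iff e.symm, e.symm_apply_apply]

theorem isGCDMonoid_mvPolynomial_fin (R : Type*) [CommRing R] [IsDomain R] [IsGCDMonoid R] :
    ∀ n : ℕ, IsGCDMonoid (MvPolynomial (Fin n) R)
  | 0 => isGCDMonoid_of_ringEquiv (MvPolynomial.isEmptyAlgEquiv R (Fin 0)).toRingEquiv
  | n + 1 => by
    haveI := isGCDMonoid_mvPolynomial_fin R n
    exact isGCDMonoid_of_ringEquiv (MvPolynomial.finSuccEquiv R n).toRingEquiv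

end GCD

section Free

variable {S : Type u} [CommRing S] {L : Type v} [AddCommGroup L] [Module S L]
  [Module.Invertible S L]

/-- rank one symmetry -/
theorem apply_smul_comm (f : Module.Dual S L) (x y : L) : f x • y = f y • x := by
  have h := Module.Invertible.tmul_comm (R := S) (m₁ := x) (m₂ := y)
  have h2 := congrArg (fun t => TensorProduct.lid S L (LinearMap.rTensor L f t)) h
  simpa using h2

/-- criterion for freeness of an invertible module -/
theorem free_of_factorization {κ : Type*} [Fintype κ] (lam : κ → Module.Dual S L) (l : κ → L)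
    (μ ν : κ → S) (h : ∀ k k', lam k (l k') = μ k * ν k') (h1 : ∑ k, μ k * ν k = 1) :
    Module.Free S L := by
  let θ : L →ₗ[S] S := ∑ k, ν k • lam k
  have hθ : θ (∑ k', μ k' • l k') = 1 := by
    simp only [θ, LinearMap.sum_apply, LinearMap.smul_apply, map_sum, map_smul, smul_eq_mul, h]
    calc ∑ x, μ x * ∑ x_1, ν x_1 * (μ x_1 * ν x) = (∑ x, μ x * ν x) * ∑ x_1, μ x_1 * ν x_1 := by
          rw [Finset.sum_mul]
          refine Finset.sum_congr rfl fun x _ => ?_
          rw [Finset.mul_sum, Finset.mul_sum]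
          refine Finset.sum_congr rfl fun y _ => ?_
          ring
      _ = 1 := by rw [h1, one_mul]
  have hsurj : Function.Surjective θ := by
    intro s
    exact ⟨s • ∑ k', μ k' • l k', by rw [map_smul, hθ, smul_eq_mul, mul_one]⟩
  have hbij := Module.Invertible.bijective_of_surjective hsurj
  exact Module.Invertible.free_iff_linearEquiv.mpr ⟨LinearEquiv.ofBijective θ hbij⟩

/-- an invertible module has a "dual basis" -/
theorem exists_dual_family : ∃ (T : Finset (Module.Dual S L × L)), ∑ p ∈ T, p.1 p.2 = 1 := by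
  obtain ⟨t, ht⟩ := (Module.Invertible.bijective (R := S) (M := L)).2 1
  obtain ⟨T, hT⟩ := TensorProduct.exists_finset t
  refine ⟨T, ?_⟩
  rw [hT, map_sum] at ht
  simpa using ht

/-- over an algebra with trivial Picard group, the "matrix" of an invertible module factors -/
theorem exists_factorization (S' : Type u) [CommRing S'] [Algebra S S']
    [Subsingleton (CommRing.Pic S')] {κ : Type*} (lam : κ → Module.Dual S L) (l : κ → L) :
    ∃ μ ν : κ → S', ∀ k k', algebraMap S S' (lam k (l k')) = μ k * ν k' := by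
  haveI : Module.Free S' (S' ⊗[S] L) := inferInstance
  obtain ⟨e⟩ := Module.Invertible.free_iff_linearEquiv.mp (inferInstance : Module.Free S' (S' ⊗[S] L))
  let lam' : κ → (S' ⊗[S] L →ₗ[S'] S') := fun k =>
    ((Algebra.linearMap S S').comp (lam k)).liftBaseChange S'
  refine ⟨fun k => lam' k (e.symm 1), fun k' => e ((1 : S') ⊗ₜ[S] l k'), fun k k' => ?_⟩
  have h1 : lam' k ((1 : S') ⊗ₜ[S] l k') = algebraMap S S' (lam k (l k')) := by
    simp [lam']
  have h2 : (1 : S') ⊗ₜ[S] l k' = e ((1 : S') ⊗ₜ[S] l k') • e.symm 1 := by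
    rw [← map_smul, smul_eq_mul, mul_one, e.symm_apply_apply]
  rw [← h1]
  conv_lhs => rw [h2]
  rw [map_smul, smul_eq_mul, mul_comm]

end Free

section Pi

variable {ι : Type*} (R : ι → Type*) [∀ i, CommRing (R i)] (σ : Type*)

/-- projection to a factor -/
noncomputable def proj (i : ι) : MvPolynomial σ (∀ i, R i) →+* MvPolynomial σ (R i) :=
  MvPolynomial.map (Pi.evalRingHom R i)

theorem coeff_proj (i : ι) (p : MvPolynomial σ (∀ i, R i)) (m : σ →₀ ℕ) :
    coeff m (proj R σ i p) = coeff m p i := by
  rw [proj, coeff_map]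
  rfl

theorem proj_jointly_injective {p q : MvPolynomial σ (∀ i, R i)}
    (h : ∀ i, proj R σ i p = proj R σ i q) : p = q := by
  ext m i
  rw [← coeff_proj, ← coeff_proj, h i]

theorem totalDegree_proj_le (i : ι) (p : MvPolynomial σ (∀ i, R i)) :
    (proj R σ i p).totalDegree ≤ p.totalDegree := by
  apply Finset.sup_mono
  exact MvPolynomial.support_map_subset _ _

/-- families of bounded degree assemble -/
theorem exists_of_totalDegree_le [Finite σ] (d : ℕ) (p : ∀ i, MvPolynomial σ (R i))
    (hp : ∀ i, (p i).totalDegree ≤ d) :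
    ∃ q : MvPolynomial σ (∀ i, R i), ∀ i, proj R σ i q = p i := by
  classical
  let T : Finset (σ →₀ ℕ) := (Finsupp.finite_of_degree_le (σ := σ) d).toFinset
  refine ⟨∑ m ∈ T, monomial m (fun i => coeff m (p i)), fun i => ?_⟩
  ext m
  rw [coeff_proj, coeff_sum, Finset.sum_apply]
  simp only [coeff_monomial]
  by_cases hm : m ∈ T
  · rw [Finset.sum_eq_single m]
    · simp
    · intro b _ hb
      rw [if_neg hb]
      rfl
    · intro h
      exact absurd hm h
  · have h0 : coeff m (p i) = 0 := by
      by_contra hne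
      apply hm
      rw [Set.Finite.mem_toFinset, Set.mem_ofPred_eq]
      have := le_totalDegree (mem_support_iff.mpr hne)
      exact le_trans this (hp i)
    rw [h0]
    apply Finset.sum_eq_zero
    intro b hb
    have : b ≠ m := fun h => hm (h ▸ hb)
    rw [if_neg this]
    rfl

end Pi

section Main

variable {ι : Type u} (R : ι → Type u) [∀ i, CommRing (R i)] [∀ i, IsDomain (R i)]
  [∀ i, ValuationRing (R i)] (n : ℕ)

theorem pic_subsingleton : Subsingleton (CommRing.Pic (MvPolynomial (Fin n) (∀ i, R i))) := by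
  classical
  rw [CommRing.Pic.subsingleton_iff]
  intro L _ _ hL
  obtain ⟨T, hT⟩ := exists_dual_family (S := MvPolynomial (Fin n) (∀ i, R i)) (L := L)
  let lam : T → Module.Dual (MvPolynomial (Fin n) (∀ i, R i)) L := fun k => k.1.1
  let l : T → L := fun k => k.1.2
  have hsum : ∑ k : T, lam k (l k) = 1 := by
    rw [← hT]
    exact Finset.sum_coe_sort T (fun p => p.1 p.2)
  have hfac : ∀ i, ∃ μ ν : T → MvPolynomial (Fin n) (R i),
      ∀ k k', proj R (Fin n) i (lam k (l k')) = μ k * ν k' := by
    intro i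
    letI : Algebra (MvPolynomial (Fin n) (∀ i, R i)) (MvPolynomial (Fin n) (R i)) :=
      (proj R (Fin n) i).toAlgebra
    haveI : IsGCDMonoid (MvPolynomial (Fin n) (R i)) := isGCDMonoid_mvPolynomial_fin (R i) n
    exact exists_factorization (MvPolynomial (Fin n) (R i)) lam l
  choose μ ν hμν using hfac
  let d : ℕ := Finset.univ.sup (fun kk : T × T => (lam kk.1 (l kk.2)).totalDegree)
  have hd : ∀ k k', (lam k (l k')).totalDegree ≤ d := fun k k' =>
    Finset.le_sup (f := fun kk : T × T => (lam kk.1 (l kk.2)).totalDegree) (Finset.mem_univ (k, k'))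
  have hone : ∀ i, ∑ k, μ i k * ν i k = 1 := by
    intro i
    simp_rw [← hμν]
    rw [← map_sum, hsum, map_one]
  have hex : ∀ i, ∃ k₀, μ i k₀ ≠ 0 ∧ ν i k₀ ≠ 0 := by
    intro i
    by_contra hcon
    push Not at hcon
    have h0 : ∑ k, μ i k * ν i k = 0 := Finset.sum_eq_zero (fun k _ => by
      by_cases h : μ i k = 0
      · rw [h, zero_mul]
      · rw [hcon k h, mul_zero])
    rw [hone i] at h0
    exact one_ne_zero h0
  have hdegν : ∀ i k', (ν i k').totalDegree ≤ d := by
    intro i k'
    obtain ⟨k₀, h1, _⟩ := hex i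
    by_cases h0 : ν i k' = 0
    · rw [h0, totalDegree_zero]
      exact Nat.zero_le _
    · calc (ν i k').totalDegree ≤ (μ i k₀).totalDegree + (ν i k').totalDegree := Nat.le_add_left _ _
        _ = (μ i k₀ * ν i k').totalDegree := (totalDegree_mul_of_isDomain h1 h0).symm
        _ = (proj R (Fin n) i (lam k₀ (l k'))).totalDegree := by rw [hμν]
        _ ≤ (lam k₀ (l k')).totalDegree := totalDegree_proj_le R (Fin n) i _
        _ ≤ d := hd _ _
  have hdegμ : ∀ i k, (μ i k).totalDegree ≤ d := by
    intro i k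
    obtain ⟨k₀, _, h1⟩ := hex i
    by_cases h0 : μ i k = 0
    · rw [h0, totalDegree_zero]
      exact Nat.zero_le _
    · calc (μ i k).totalDegree ≤ (μ i k).totalDegree + (ν i k₀).totalDegree := Nat.le_add_right _ _
        _ = (μ i k * ν i k₀).totalDegree := (totalDegree_mul_of_isDomain h0 h1).symm
        _ = (proj R (Fin n) i (lam k (l k₀))).totalDegree := by rw [hμν]
        _ ≤ (lam k (l k₀)).totalDegree := totalDegree_proj_le R (Fin n) i _
        _ ≤ d := hd _ _
  have hμt : ∀ k, ∃ q : MvPolynomial (Fin n) (∀ i, R i), ∀ i, proj R (Fin n) i q = μ i k :=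
    fun k => exists_of_totalDegree_le R (Fin n) d (fun i => μ i k) (fun i => hdegμ i k)
  have hνt : ∀ k, ∃ q : MvPolynomial (Fin n) (∀ i, R i), ∀ i, proj R (Fin n) i q = ν i k :=
    fun k => exists_of_totalDegree_le R (Fin n) d (fun i => ν i k) (fun i => hdegν i k)
  choose μt hμt using hμt
  choose νt hνt using hνt
  apply free_of_factorization lam l μt νt
  · intro k k'
    apply proj_jointly_injective R (Fin n)
    intro i
    rw [hμν, map_mul, hμt, hνt]
  · apply proj_jointly_injective R (Fin n)
    intro i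
    rw [map_sum, map_one]
    simp_rw [map_mul, hμt, hνt]
    exact hone i

end Main

end Groth.Agent.Helper7.PicPi
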