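import Groth.Agent.Helper7.PinchRing

set_option autoImplicit false
universe u
open TensorProduct Function

namespace Groth.Agent.Helper7.PinchFlatA

open Groth.Agent.Helper7.PinchRing

section snake

variable {R : Type*} [CommRing R] {K F M N' N'' Q : Type*}
  [AddCommGroup K] [Module R K] [AddCommGroup F] [Module R F] [AddCommGroup M] [Module R M]
  [AddCommGroup N'] [Module R N'] [AddCommGroup N''] [Module R N''] [AddCommGroup Q] [Module R Q]

/-- Balancing of `Tor₁`: for a flat resolution `0 → K → F → M → 0` and a short exact sequence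
`0 → N' → N'' → Q → 0`, if `Q ⊗ K → Q ⊗ F` is injective then `N' ⊗ M → N'' ⊗ M` is injective. -/
theorem rTensor_injective_of_lTensor_injective [Module.Flat R F]
    (ι : K →ₗ[R] F) (π : F →ₗ[R] M) (hπ : Surjective π) (hιπ : Exact ι π)
    (i : N' →ₗ[R] N'') (hi : Injective i) (q : N'' →ₗ[R] Q) (hq : Surjective q) (hiq : Exact i q)
    (hQ : Injective (ι.lTensor Q)) : Injective (i.rTensor M) := by
  rw [injective_iff_map_eq_zero]
  intro z hz
  obtain ⟨z₁, rfl⟩ := LinearMap.lTensor_surjective N' hπ z
  -- step 2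
  have h2 : (π.lTensor N'') ((i.rTensor F) z₁) = 0 := by
    rw [← LinearMap.comp_apply, LinearMap.lTensor_comp_rTensor, ← LinearMap.rTensor_comp_lTensor,
      LinearMap.comp_apply, hz]
  obtain ⟨r, hr⟩ := (lTensor_exact N'' hιπ hπ _).1 h2
  -- step 3
  have h3 : (ι.lTensor Q) ((q.rTensor K) r) = 0 := by
    rw [← LinearMap.comp_apply, LinearMap.lTensor_comp_rTensor, ← LinearMap.rTensor_comp_lTensor,
      LinearMap.comp_apply, hr, ← LinearMap.comp_apply, ← LinearMap.rTensor_comp]
    have : q ∘ₗ i = 0 := by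
      ext x
      exact hiq.apply_apply_eq_zero x
    rw [this, LinearMap.rTensor_zero, LinearMap.zero_apply]
  have h3' : (q.rTensor K) r = 0 := hQ (h3.trans (map_zero _).symm)
  obtain ⟨r', hr'⟩ := (rTensor_exact K hiq hq _).1 h3'
  -- step 5
  have h5 : (i.rTensor F) ((ι.lTensor N') r') = (i.rTensor F) z₁ := by
    rw [← LinearMap.comp_apply, LinearMap.rTensor_comp_lTensor, ← LinearMap.lTensor_comp_rTensor,
      LinearMap.comp_apply, hr', hr]
  have h5' : (ι.lTensor N') r' = z₁ :=
    Module.Flat.rTensor_preserves_injective_linearMap i hi h5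
  rw [← h5', ← LinearMap.comp_apply, ← LinearMap.lTensor_comp]
  have : π ∘ₗ ι = 0 := by
    ext x
    exact hιπ.apply_apply_eq_zero x
  rw [this, LinearMap.lTensor_zero, LinearMap.zero_apply]

end snake

section bf

variable {A B : Type u} [CommRing A] [CommRing B] [Algebra A B]
  (M : Type u) [AddCommGroup M] [Module A M]
  {P₁ P₂ : Type u} [AddCommGroup P₁] [Module A P₁] [Module B P₁] [IsScalarTower A B P₁]
  [AddCommGroup P₂] [Module A P₂] [Module B P₂] [IsScalarTower A B P₂]

theorem cancelBaseChange_natural (g : P₁ →ₗ[B] P₂) (t : P₁ ⊗[B] (B ⊗[A] M)) :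
    ((g.restrictScalars A).rTensor M)
        (TensorProduct.AlgebraTensorModule.cancelBaseChange A B B P₁ M t) =
      TensorProduct.AlgebraTensorModule.cancelBaseChange A B B P₂ M
        ((g.rTensor (B ⊗[A] M)) t) := by
  induction t using TensorProduct.induction_on with
  | zero => simp
  | add x y hx hy => rw [map_add, map_add, hx, hy, map_add, map_add]
  | tmul p s =>
    induction s using TensorProduct.induction_on with
    | zero => simp
    | add x y hx hy =>
      rw [TensorProduct.tmul_add, map_add, map_add, hx, hy, map_add, map_add]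
    | tmul b m =>
      rw [TensorProduct.AlgebraTensorModule.cancelBaseChange_tmul, LinearMap.rTensor_tmul,
        LinearMap.rTensor_tmul, TensorProduct.AlgebraTensorModule.cancelBaseChange_tmul]
      simp

/-- Flatness of the base change `B ⊗[A] M` over `B` makes `- ⊗[A] M` preserve injections of
`B`-modules. -/
theorem rTensor_injective_of_flat_baseChange [Module.Flat B (B ⊗[A] M)] (g : P₁ →ₗ[B] P₂)
    (hg : Injective g) : Injective ((g.restrictScalars A).rTensor M) := by
  have h1 : Injective (g.rTensor (B ⊗[A] M)) :=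
    Module.Flat.rTensor_preserves_injective_linearMap g hg
  intro x y hxy
  obtain ⟨x', rfl⟩ :=
    (TensorProduct.AlgebraTensorModule.cancelBaseChange A B B P₁ M).surjective x
  obtain ⟨y', rfl⟩ :=
    (TensorProduct.AlgebraTensorModule.cancelBaseChange A B B P₁ M).surjective y
  rw [cancelBaseChange_natural, cancelBaseChange_natural] at hxy
  rw [h1 ((TensorProduct.AlgebraTensorModule.cancelBaseChange A B B P₂ M).injective hxy)]

end bf

section main

variable {A B : Type u} [CommRing A] [CommRing B] [Algebra A B] (I : Ideal A)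
  (M : Type u) [AddCommGroup M] [Module A M]

/-- `𝔟 → 𝔟 B` as an `A`-linear map. -/
noncomputable def toMap (𝔟 : Ideal A) : 𝔟 →ₗ[A] (𝔟.map (algebraMap A B)) where
  toFun i := ⟨algebraMap A B i.1, Ideal.mem_map_of_mem _ i.2⟩
  map_add' x y := by ext; simp
  map_smul' a x := by
    ext
    simp only [RingHom.id_apply, Submodule.coe_smul, smul_eq_mul, map_mul]
    exact (Algebra.smul_def _ _).symm

@[simp] theorem toMap_coe (𝔟 : Ideal A) (x : 𝔟) :
    ((toMap (B := B) 𝔟 x : 𝔟.map (algebraMap A B)) : B) = algebraMap A B x.1 := rfl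

variable (hinter : RingHom.ker (algebraMap A B) ⊓ I = ⊥)
  (hmap : ∀ b ∈ I.map (algebraMap A B), ∃ i ∈ I, algebraMap A B i = b)

include hinter in
theorem toMap_injective {𝔟 : Ideal A} (h𝔟 : 𝔟 ≤ I) : Injective (toMap (B := B) 𝔟) := by
  rw [← LinearMap.ker_eq_bot, LinearMap.ker_eq_bot']
  intro i hi
  have h0 : algebraMap A B i.1 = 0 := congrArg Subtype.val hi
  have : i.1 ∈ RingHom.ker (algebraMap A B) ⊓ I := ⟨h0, h𝔟 i.2⟩
  rw [hinter] at this
  exact Subtype.ext this

include hinter hmap in
theorem toMap_I_bijective : Bijective (toMap (B := B) I) := by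
  refine ⟨toMap_injective I hinter le_rfl, ?_⟩
  rintro ⟨b, hb⟩
  obtain ⟨i, hi, hib⟩ := hmap b hb
  exact ⟨⟨i, hi⟩, Subtype.ext hib⟩

include hinter hmap in
theorem toMap_I_rTensor_injective : Injective ((toMap (B := B) I).rTensor M) := by
  let e : I ≃ₗ[A] (I.map (algebraMap A B)) :=
    LinearEquiv.ofBijective (toMap I) (toMap_I_bijective I hinter hmap)
  have : (toMap (B := B) I).rTensor M = (TensorProduct.congr e (LinearEquiv.refl A M)).toLinearMap := by
    apply TensorProduct.ext'
    intro x m
    simp [e]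
  rw [this]
  exact (TensorProduct.congr e (LinearEquiv.refl A M)).injective

include hinter hmap in
/-- Step 1: `I ⊗ M → A ⊗ M` is injective. -/
theorem rTensor_I_injective [Module.Flat B (B ⊗[A] M)] : Injective (I.subtype.rTensor M) := by
  have h1 : Injective (((I.map (algebraMap A B)).subtype.restrictScalars A).rTensor M) :=
    rTensor_injective_of_flat_baseChange M _ Subtype.val_injective
  have h2 := toMap_I_rTensor_injective I M hinter hmap
  have h3 : (Algebra.linearMap A B).rTensor M ∘ₗ I.subtype.rTensor M =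
      (((I.map (algebraMap A B)).subtype.restrictScalars A).rTensor M) ∘ₗ
        (toMap (B := B) I).rTensor M := by
    rw [← LinearMap.rTensor_comp, ← LinearMap.rTensor_comp]
    congr 1
  have h4 : Injective ((Algebra.linearMap A B).rTensor M ∘ₗ I.subtype.rTensor M) := by
    rw [h3]
    exact h1.comp h2
  exact Injective.of_comp h4

section tor

variable {K F : Type u} [AddCommGroup K] [Module A K] [AddCommGroup F] [Module A F]
  (ι : K →ₗ[A] F) (π : F →ₗ[A] M) (hι : Injective ι) (hπ : Surjective π) (hιπ : Exact ι π)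

include hι hπ hιπ in
/-- `Tor₁(M, A/I) = 0` from Step 1, in the form `A/I ⊗ K → A/I ⊗ F` injective. -/
theorem lTensor_quot_injective (h1 : Injective (I.subtype.rTensor M)) :
    Injective (ι.lTensor (A ⧸ I)) := by
  rw [LinearMap.lTensor_inj_iff_rTensor_inj]
  refine rTensor_injective_of_lTensor_injective (R := A) (K := I) (F := A) (M := A ⧸ I)
    I.subtype I.mkQ I.mkQ_surjective (LinearMap.exact_subtype_mkQ I) ι hι π hπ hιπ ?_
  rw [LinearMap.lTensor_inj_iff_rTensor_inj]
  exact h1

theorem cancelBaseChange_natural' {Q₀ : Type u} [AddCommGroup Q₀] [Module A Q₀]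
    [Module (A ⧸ I) Q₀] [IsScalarTower A (A ⧸ I) Q₀]
    (t : Q₀ ⊗[A ⧸ I] ((A ⧸ I) ⊗[A] K)) :
    (ι.lTensor Q₀) (TensorProduct.AlgebraTensorModule.cancelBaseChange A (A ⧸ I) (A ⧸ I) Q₀ K t) =
      TensorProduct.AlgebraTensorModule.cancelBaseChange A (A ⧸ I) (A ⧸ I) Q₀ F
        (((ι.baseChange (A ⧸ I)).lTensor Q₀) t) := by
  induction t using TensorProduct.induction_on with
  | zero => simp
  | add x y hx hy => rw [map_add, map_add, hx, hy, map_add, map_add]
  | tmul p s =>
    induction s using TensorProduct.induction_on with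
    | zero => simp
    | add x y hx hy =>
      rw [TensorProduct.tmul_add, map_add, map_add, hx, hy, map_add, map_add]
    | tmul b m =>
      rw [TensorProduct.AlgebraTensorModule.cancelBaseChange_tmul, LinearMap.lTensor_tmul,
        LinearMap.lTensor_tmul, LinearMap.baseChange_tmul,
        TensorProduct.AlgebraTensorModule.cancelBaseChange_tmul]

include hπ hιπ in
/-- `Tor₁(M, Q₀) = 0` for `Q₀` killed by `I`, when `A/I ⊗ M` is flat over `A/I`. -/
theorem lTensor_injective_of_torsion [Module.Flat (A ⧸ I) ((A ⧸ I) ⊗[A] M)]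
    {Q₀ : Type u} [AddCommGroup Q₀] [Module A Q₀] (htor : Module.IsTorsionBySet A Q₀ I)
    (hA' : Injective (ι.lTensor (A ⧸ I))) : Injective (ι.lTensor Q₀) := by
  letI := htor.module
  haveI : IsScalarTower A (A ⧸ I) Q₀ := htor.isScalarTower
  have hg : Injective (ι.baseChange (A ⧸ I)) := by
    rw [LinearMap.baseChange_eq_ltensor]; exact hA'
  have hf : Surjective (π.baseChange (A ⧸ I)) := by
    rw [LinearMap.baseChange_eq_ltensor]; exact LinearMap.lTensor_surjective _ hπ
  have H : Exact (ι.baseChange (A ⧸ I)) (π.baseChange (A ⧸ I)) := by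
    rw [LinearMap.baseChange_eq_ltensor, LinearMap.baseChange_eq_ltensor]
    exact lTensor_exact (A ⧸ I) hιπ hπ
  have key := LinearMap.lTensor_injective_of_exact_of_flat (π.baseChange (A ⧸ I)) hf
    (ι.baseChange (A ⧸ I)) hg H Q₀
  intro x y hxy
  obtain ⟨x', rfl⟩ :=
    (TensorProduct.AlgebraTensorModule.cancelBaseChange A (A ⧸ I) (A ⧸ I) Q₀ K).surjective x
  obtain ⟨y', rfl⟩ :=
    (TensorProduct.AlgebraTensorModule.cancelBaseChange A (A ⧸ I) (A ⧸ I) Q₀ K).surjective y
  rw [cancelBaseChange_natural', cancelBaseChange_natural'] at hxy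
  rw [key ((TensorProduct.AlgebraTensorModule.cancelBaseChange A (A ⧸ I) (A ⧸ I) Q₀ F).injective
    hxy)]

end tor

end main

end Groth.Agent.Helper7.PinchFlatA
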