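import Groth.Agent.Helper7.PinchFlatA

set_option autoImplicit false
set_option linter.style.haveILetI false
universe u
open TensorProduct Function

namespace Groth.Agent.Helper7.PinchFlatB

open Groth.Agent.Helper7.PinchRing Groth.Agent.Helper7.PinchFlatA

section main

variable {A B : Type u} [CommRing A] [CommRing B] [Algebra A B] (I : Ideal A)
  (M : Type u) [AddCommGroup M] [Module A M]

theorem exists_resolution : ∃ (K : Type u) (_ : AddCommGroup K) (_ : Module A K)
    (ι : K →ₗ[A] (M →₀ A)) (π : (M →₀ A) →ₗ[A] M), Injective ι ∧ Surjective π ∧ Exact ι π := by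
  let π : (M →₀ A) →ₗ[A] M := Finsupp.linearCombination A (id : M → M)
  exact ⟨LinearMap.ker π, inferInstance, inferInstance, (LinearMap.ker π).subtype, π,
    (LinearMap.ker π).injective_subtype, Finsupp.linearCombination_surjective A surjective_id,
    LinearMap.exact_subtype_ker_map π⟩

/-- TV: `- ⊗ M` preserves injections whose cokernel is killed by `I`. -/
theorem rTensor_injective_of_torsion [Module.Flat (A ⧸ I) ((A ⧸ I) ⊗[A] M)]
    (h1 : Injective (I.subtype.rTensor M))
    {N' N'' : Type u} [AddCommGroup N'] [Module A N'] [AddCommGroup N''] [Module A N'']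
    (i : N' →ₗ[A] N'') (hi : Injective i)
    (htor : ∀ a ∈ I, ∀ n : N'', a • n ∈ LinearMap.range i) : Injective (i.rTensor M) := by
  obtain ⟨K, _, _, ι, π, hι, hπ, hιπ⟩ := exists_resolution (A := A) M
  have htor' : Module.IsTorsionBySet A (N'' ⧸ LinearMap.range i) I := by
    intro x a
    induction x using Submodule.Quotient.induction_on with
    | H n =>
      rw [← Submodule.Quotient.mk_smul, Submodule.Quotient.mk_eq_zero]
      exact htor a.1 a.2 n
  have hQ0 : Injective (ι.lTensor (A ⧸ I)) := lTensor_quot_injective I M ι π hι hπ hιπ h1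
  have hQ : Injective (ι.lTensor (N'' ⧸ LinearMap.range i)) :=
    lTensor_injective_of_torsion I M ι π hπ hιπ htor' hQ0
  exact rTensor_injective_of_lTensor_injective ι π hπ hιπ i hi
    (LinearMap.range i).mkQ (LinearMap.range i).mkQ_surjective (LinearMap.exact_map_mkQ_range i) hQ

variable (hinter : RingHom.ker (algebraMap A B) ⊓ I = ⊥)
  (hmap : ∀ b ∈ I.map (algebraMap A B), ∃ i ∈ I, algebraMap A B i = b)

include hmap in
theorem exists_mem_map_mul {𝔟 : Ideal A} (b : B) (hb : b ∈ 𝔟.map (algebraMap A B)) :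
    ∀ β ∈ I.map (algebraMap A B), ∃ c ∈ 𝔟, algebraMap A B c = β * b := by
  unfold Ideal.map at hb
  induction hb using Submodule.span_induction with
  | mem x hx =>
    obtain ⟨b0, hb0, rfl⟩ := hx
    intro β hβ
    obtain ⟨i, hi, rfl⟩ := hmap β hβ
    exact ⟨i * b0, 𝔟.mul_mem_left _ hb0, map_mul _ _ _⟩
  | zero => intro β _; exact ⟨0, 𝔟.zero_mem, by simp⟩
  | add x y _ _ hx hy =>
    intro β hβ
    obtain ⟨c1, hc1, e1⟩ := hx β hβ
    obtain ⟨c2, hc2, e2⟩ := hy β hβ
    exact ⟨c1 + c2, 𝔟.add_mem hc1 hc2, by rw [map_add, e1, e2, mul_add]⟩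
  | smul r x _ hx =>
    intro β hβ
    obtain ⟨c, hc, e⟩ := hx (β * r) (Ideal.mul_mem_right _ _ hβ)
    exact ⟨c, hc, by rw [e, smul_eq_mul, mul_assoc]⟩

include hmap in
theorem smul_mem_range_toMap {𝔟 : Ideal A} (a : A) (ha : a ∈ I) (x : 𝔟.map (algebraMap A B)) :
    a • x ∈ LinearMap.range (toMap (B := B) 𝔟) := by
  obtain ⟨c, hc, e⟩ := exists_mem_map_mul I hmap x.1 x.2 (algebraMap A B a)
    (Ideal.mem_map_of_mem _ ha)
  refine ⟨⟨c, hc⟩, Subtype.ext ?_⟩
  rw [toMap_coe, e, Submodule.coe_smul_of_tower, Algebra.smul_def]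

include hinter hmap in
/-- (a): for `𝔟 ≤ I`, `𝔟 ⊗ M → I ⊗ M` is injective. -/
theorem inclusion_rTensor_injective [Module.Flat B (B ⊗[A] M)]
    [Module.Flat (A ⧸ I) ((A ⧸ I) ⊗[A] M)] {𝔟 : Ideal A} (h𝔟 : 𝔟 ≤ I) :
    Injective ((Submodule.inclusion h𝔟).rTensor M) := by
  have h1 : Injective (I.subtype.rTensor M) := rTensor_I_injective I M hinter hmap
  have h2 : Injective (toMap (B := B) 𝔟) := toMap_injective I hinter h𝔟
  have h3 : ∀ a ∈ I, ∀ n : 𝔟.map (algebraMap A B), a • n ∈ LinearMap.range (toMap (B := B) 𝔟) :=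
    fun a ha n => smul_mem_range_toMap I hmap a ha n
  have hT0 := rTensor_injective_of_torsion I M h1 (toMap (B := B) 𝔟) h2 h3
  have hT : Injective ((toMap (B := B) 𝔟).rTensor M) := hT0
  have hle : 𝔟.map (algebraMap A B) ≤ I.map (algebraMap A B) := Ideal.map_mono h𝔟
  have hB : Injective (((Submodule.inclusion hle).restrictScalars A).rTensor M) :=
    rTensor_injective_of_flat_baseChange M _ (Submodule.inclusion_injective _)
  have hcomp : toMap (B := B) I ∘ₗ Submodule.inclusion h𝔟 =
      ((Submodule.inclusion hle).restrictScalars A) ∘ₗ toMap 𝔟 := by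
    ext x
    rfl
  have h4 : Injective ((toMap (B := B) I).rTensor M ∘ₗ (Submodule.inclusion h𝔟).rTensor M) := by
    rw [← LinearMap.rTensor_comp, hcomp, LinearMap.rTensor_comp]
    exact hB.comp hT
  exact Injective.of_comp h4

/-- (c): ideals of `A ⧸ I` tensored with `M` over `A`. -/
theorem quot_rTensor_injective [Module.Flat (A ⧸ I) ((A ⧸ I) ⊗[A] M)] (𝔠 : Ideal (A ⧸ I)) :
    Injective ((𝔠.subtype.restrictScalars A).rTensor M) :=
  rTensor_injective_of_flat_baseChange M _ Subtype.val_injective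

include hinter hmap in
/-- R3 for `C = A ⧸ I`. -/
theorem flat_of_quot [Module.Flat B (B ⊗[A] M)] [Module.Flat (A ⧸ I) ((A ⧸ I) ⊗[A] M)] :
    Module.Flat A M := by
  rw [Module.Flat.iff_rTensor_injective']
  intro 𝔞
  have h1 : Injective (I.subtype.rTensor M) := rTensor_I_injective I M hinter hmap
  have hle1 : 𝔞 ⊓ I ≤ 𝔞 := inf_le_left
  have hle2 : 𝔞 ⊓ I ≤ I := inf_le_right
  have ha := inclusion_rTensor_injective I M hinter hmap hle2
  have hc := quot_rTensor_injective I M (𝔞.map (algebraMap A (A ⧸ I)))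
  let p : 𝔞 →ₗ[A] 𝔞.map (algebraMap A (A ⧸ I)) := toMap (B := A ⧸ I) 𝔞
  have hp : Surjective p := by
    rintro ⟨y, hy⟩
    rw [Ideal.Quotient.algebraMap_eq,
      Ideal.mem_map_iff_of_surjective _ Ideal.Quotient.mk_surjective] at hy
    obtain ⟨x, hx, rfl⟩ := hy
    exact ⟨⟨x, hx⟩, rfl⟩
  have hex : Exact (Submodule.inclusion hle1) p := by
    intro x
    constructor
    · intro hx
      have h0 : algebraMap A (A ⧸ I) x.1 = 0 := congrArg Subtype.val hx
      rw [Ideal.Quotient.algebraMap_eq, Ideal.Quotient.eq_zero_iff_mem] at h0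
      exact ⟨⟨x.1, x.2, h0⟩, rfl⟩
    · rintro ⟨y, rfl⟩
      apply Subtype.ext
      change algebraMap A (A ⧸ I) y.1 = 0
      rw [Ideal.Quotient.algebraMap_eq, Ideal.Quotient.eq_zero_iff_mem]
      exact y.2.2
  have sq1 : ((𝔞.map (algebraMap A (A ⧸ I))).subtype.restrictScalars A) ∘ₗ p =
      (Algebra.linearMap A (A ⧸ I)) ∘ₗ 𝔞.subtype := by
    ext x
    rfl
  have sq2 : 𝔞.subtype ∘ₗ Submodule.inclusion hle1 = I.subtype ∘ₗ Submodule.inclusion hle2 := by
    ext x
    rfl
  rw [injective_iff_map_eq_zero]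
  intro z hz
  have hz1 : (((𝔞.map (algebraMap A (A ⧸ I))).subtype.restrictScalars A).rTensor M)
      ((p.rTensor M) z) = 0 := by
    rw [← LinearMap.comp_apply, ← LinearMap.rTensor_comp, sq1, LinearMap.rTensor_comp,
      LinearMap.comp_apply, hz, map_zero]
  have hz2 : (p.rTensor M) z = 0 := hc (hz1.trans (map_zero _).symm)
  obtain ⟨z', rfl⟩ := (rTensor_exact M hex hp _).1 hz2
  have hz3 : (I.subtype.rTensor M) (((Submodule.inclusion hle2).rTensor M) z') = 0 := by
    rw [← LinearMap.comp_apply, ← LinearMap.rTensor_comp, ← sq2, LinearMap.rTensor_comp,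
      LinearMap.comp_apply, hz]
  have hz4 : z' = 0 := ha ((h1 (hz3.trans (map_zero _).symm)).trans (map_zero _).symm)
  rw [hz4, map_zero]

end main

section general

theorem flat_of_semilinearEquiv {R S : Type u} [CommRing R] [CommRing S] (σ : R ≃+* S)
    {M N : Type u} [AddCommGroup M] [Module R M] [AddCommGroup N] [Module S N]
    (e : M ≃+ N) (he : ∀ (r : R) (m : M), e (r • m) = σ r • e m) [Module.Flat R M] :
    Module.Flat S N := by
  letI : Module R N := Module.compHom N σ.toRingHom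
  have hsm : ∀ (r : R) (n : N), r • n = σ r • n := fun _ _ => rfl
  let e' : M ≃ₗ[R] N := { e with map_smul' := fun r m => by simpa [hsm] using he r m }
  haveI : Module.Flat R N := Module.Flat.of_linearEquiv e'.symm
  letI : Algebra S R := σ.symm.toRingHom.toAlgebra
  have hsr : ∀ (s : S) (r : R), s • r = σ.symm s * r := fun _ _ => rfl
  haveI : IsScalarTower S R N := ⟨fun s r n => by
    rw [hsm, hsm, hsr, map_mul, RingEquiv.apply_symm_apply, mul_smul]⟩
  let τ : R ≃ₗ[S] S :=
    { σ.toAddEquiv with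
      map_smul' := fun s r => by
        change σ (σ.symm s * r) = s • σ r
        rw [map_mul, RingEquiv.apply_symm_apply, smul_eq_mul] }
  haveI : Module.Flat S R := Module.Flat.of_linearEquiv τ
  exact Module.Flat.trans S R N

end general

end Groth.Agent.Helper7.PinchFlatB
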