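import Groth.Agent.Helper7.PinchFlatB

set_option autoImplicit false
set_option linter.style.haveILetI false
universe u
open TensorProduct Function

namespace Groth.Agent.Helper7.PinchFlatC

open Groth.Agent.Helper7.PinchRing Groth.Agent.Helper7.PinchFlatA Groth.Agent.Helper7.PinchFlatB

variable {A B C : Type u} [CommRing A] [CommRing B] [CommRing C] [Algebra A B] [Algebra A C]
  (h : IsPinch A B C) (M : Type u) [AddCommGroup M] [Module A M]

include h in
theorem exists_algEquiv : ∃ _σ : C ≃ₐ[A] A ⧸ h.I, True := by
  have hs : Surjective (Algebra.ofId A C) := h.surj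
  have hk : RingHom.ker (Algebra.ofId A C) = h.I := by
    ext x
    rw [RingHom.mem_ker, RingHom.mem_ker]
    rfl
  exact ⟨(Ideal.quotientKerAlgEquivOfSurjective hs).symm.trans (Ideal.quotientEquivAlgOfEq A hk),
    trivial⟩

set_option maxHeartbeats 400000 in
include h in
theorem flat_quot_of_flat [Module.Flat C (C ⊗[A] M)] :
    Module.Flat (A ⧸ h.I) ((A ⧸ h.I) ⊗[A] M) := by
  obtain ⟨σ, -⟩ := exists_algEquiv h
  let e : C ⊗[A] M ≃ₗ[A] (A ⧸ h.I) ⊗[A] M :=
    TensorProduct.congr σ.toLinearEquiv (LinearEquiv.refl A M)
  have he : ∀ (r : C) (m : C ⊗[A] M), e.toAddEquiv (r • m) = σ.toRingEquiv r • e.toAddEquiv m := by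
    intro r m
    induction m using TensorProduct.induction_on with
    | zero => simp
    | add x y hx hy =>
      rw [smul_add, map_add, hx, hy, map_add, smul_add]
    | tmul c m =>
      simp only [e, TensorProduct.smul_tmul', LinearEquiv.coe_toAddEquiv, smul_eq_mul]
      simp [TensorProduct.smul_tmul']
  have key := flat_of_semilinearEquiv σ.toRingEquiv e.toAddEquiv he
  exact key

include h in
/-- R3: flatness descends along a pinching square. -/
theorem _root_.Groth.Agent.Helper7.PinchRing.IsPinch.flat_of_tensor
    [Module.Flat B (B ⊗[A] M)] [Module.Flat C (C ⊗[A] M)] : Module.Flat A M := by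
  haveI := flat_quot_of_flat h M
  exact flat_of_quot h.I M h.inter h.mapI

/-- For flat `M` and a surjection `π : F → M` from a finite module, if `S ⊗ M` is finitely
presented over `S` then `S ⊗ ker π` is a finite `S`-module. -/
theorem finite_baseChange_ker (S : Type u) [CommRing S] [Algebra A S] [Module.Flat A M]
    {F : Type u} [AddCommGroup F] [Module A F] [Module.Finite A F]
    (π : F →ₗ[A] M) (hπ : Surjective π) [Module.FinitePresentation S (S ⊗[A] M)] :
    Module.Finite S (S ⊗[A] LinearMap.ker π) := by
  have hιπ : Exact (LinearMap.ker π).subtype π := LinearMap.exact_subtype_ker_map π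
  have hinj0 := LinearMap.lTensor_injective_of_exact_of_flat π hπ (LinearMap.ker π).subtype
    (LinearMap.ker π).injective_subtype hιπ S
  have hinj : Injective ((LinearMap.ker π).subtype.baseChange S) := by
    rw [LinearMap.baseChange_eq_ltensor]; exact hinj0
  have hsurj : Surjective (π.baseChange S) := by
    rw [LinearMap.baseChange_eq_ltensor]; exact LinearMap.lTensor_surjective _ hπ
  have hex : Exact ((LinearMap.ker π).subtype.baseChange S) (π.baseChange S) := by
    rw [LinearMap.baseChange_eq_ltensor, LinearMap.baseChange_eq_ltensor]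
    exact lTensor_exact S hιπ hπ
  have hfg : (LinearMap.ker (π.baseChange S)).FG := Module.FinitePresentation.fg_ker _ hsurj
  rw [LinearMap.exact_iff.mp hex] at hfg
  haveI : Module.Finite S (LinearMap.range ((LinearMap.ker π).subtype.baseChange S)) :=
    Module.Finite.iff_fg.mpr hfg
  exact Module.Finite.equiv (LinearEquiv.ofInjective _ hinj).symm

include h in
/-- R4a: finite presentation descends along a pinching square for flat modules. -/
theorem _root_.Groth.Agent.Helper7.PinchRing.IsPinch.finitePresentation_of_tensor
    [Module.Flat A M] [Module.FinitePresentation B (B ⊗[A] M)]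
    [Module.FinitePresentation C (C ⊗[A] M)] : Module.FinitePresentation A M := by
  haveI : Module.Finite A M := h.finite_of_tensor M
  obtain ⟨n, π, hπ⟩ := Module.Finite.exists_fin' A M
  haveI := finite_baseChange_ker M B π hπ
  haveI := finite_baseChange_ker M C π hπ
  have hK : Module.Finite A (LinearMap.ker π) := h.finite_of_tensor (LinearMap.ker π)
  exact Module.finitePresentation_of_free_of_surjective π hπ (Module.Finite.iff_fg.mp hK)

end Groth.Agent.Helper7.PinchFlatC
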