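import Mathlib

set_option autoImplicit false
universe u
open TensorProduct

namespace Groth.Agent.Helper7.PinchRing

variable (A B C : Type u) [CommRing A] [CommRing B] [CommRing C] [Algebra A B] [Algebra A C]

/-- The ring-level pinching (Milnor square) hypotheses: `A → C` is surjective with kernel `I`,
`ker (A → B) ∩ I = 0` and the ideal `I B` consists of images of elements of `I`. -/
structure IsPinch : Prop where
  surj : Function.Surjective (algebraMap A C)
  inter : RingHom.ker (algebraMap A B) ⊓ RingHom.ker (algebraMap A C) = ⊥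
  mapI : ∀ b ∈ Ideal.map (algebraMap A B) (RingHom.ker (algebraMap A C)),
    ∃ i ∈ RingHom.ker (algebraMap A C), algebraMap A B i = b

variable {A B C}

namespace IsPinch

variable (h : IsPinch A B C)

/-- The conductor-like ideal `I = ker (A → C)`. -/
abbrev I (_h : IsPinch A B C) : Ideal A := RingHom.ker (algebraMap A C)

/-- The ideal `J = I B` of `B`. -/
abbrev J (_h : IsPinch A B C) : Ideal B := Ideal.map (algebraMap A B) (RingHom.ker (algebraMap A C))

/-- `I → J` as an `A`-linear map. -/
noncomputable def toJ : h.I →ₗ[A] h.J where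
  toFun i := ⟨algebraMap A B i.1, Ideal.mem_map_of_mem _ i.2⟩
  map_add' x y := by ext; simp
  map_smul' a x := by
    ext
    simp only [RingHom.id_apply, Submodule.coe_smul, smul_eq_mul, map_mul]
    exact (Algebra.smul_def _ _).symm

theorem toJ_bijective : Function.Bijective h.toJ := by
  constructor
  · rw [← LinearMap.ker_eq_bot, LinearMap.ker_eq_bot']
    intro i hi
    have h0 : algebraMap A B i.1 = 0 := congrArg Subtype.val hi
    have : i.1 ∈ RingHom.ker (algebraMap A B) ⊓ RingHom.ker (algebraMap A C) :=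
      ⟨h0, i.2⟩
    rw [h.inter] at this
    exact Subtype.ext this
  · rintro ⟨b, hb⟩
    obtain ⟨i, hi, hib⟩ := h.mapI b hb
    exact ⟨⟨i, hi⟩, Subtype.ext hib⟩

/-- `I ≃ J` as `A`-modules. -/
noncomputable def equivJ : h.I ≃ₗ[A] h.J := LinearEquiv.ofBijective h.toJ h.toJ_bijective

variable (M : Type u) [AddCommGroup M] [Module A M]

/-- `I ⊗[A] M ≃ J ⊗[B] (B ⊗[A] M)`. -/
noncomputable def tensorEquiv : h.I ⊗[A] M ≃ₗ[A] h.J ⊗[B] (B ⊗[A] M) :=
  (TensorProduct.congr h.equivJ (LinearEquiv.refl A M)) ≪≫ₗ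
    ((TensorProduct.AlgebraTensorModule.cancelBaseChange A B B h.J M).restrictScalars A).symm

/-- `C ⊗[A] M ≃ M ⧸ I M`. -/
noncomputable def quotEquiv : C ⊗[A] M ≃ₗ[A] M ⧸ (h.I • ⊤ : Submodule A M) :=
  (TensorProduct.congr
    ((Submodule.quotEquivOfEq (LinearMap.ker (Algebra.linearMap A C)) h.I (by
        ext a; simp [RingHom.mem_ker])).symm ≪≫ₗ
      LinearMap.quotKerEquivOfSurjective (Algebra.linearMap A C) h.surj).symm
    (LinearEquiv.refl A M)) ≪≫ₗ TensorProduct.quotTensorEquivQuotSMul M h.I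

include h in
/-- R1: a module killed by both base changes of a pinching square is zero. -/
theorem subsingleton_of_tensor [Subsingleton (B ⊗[A] M)] [Subsingleton (C ⊗[A] M)] :
    Subsingleton M := by
  have h1 : Subsingleton (h.I ⊗[A] M) := (h.tensorEquiv M).toEquiv.subsingleton
  have h2 : (h.I • ⊤ : Submodule A M) = ⊥ := by
    rw [eq_bot_iff, Submodule.smul_le]
    intro i hi m _
    let μ : h.I ⊗[A] M →ₗ[A] M := TensorProduct.lift ((LinearMap.lsmul A M).comp h.I.subtype)
    have : μ ((⟨i, hi⟩ : h.I) ⊗ₜ[A] m) = i • m := by simp [μ]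
    rw [Submodule.mem_bot, ← this, Subsingleton.elim ((⟨i, hi⟩ : h.I) ⊗ₜ[A] m) 0, map_zero]
  have h3 : Subsingleton (M ⧸ (h.I • ⊤ : Submodule A M)) :=
    (h.quotEquiv M).symm.toEquiv.subsingleton
  rw [Submodule.Quotient.subsingleton_iff, h2] at h3
  exact (Submodule.subsingleton_iff A).1 (subsingleton_of_bot_eq_top h3)

end IsPinch

section gen

variable {A : Type u} [CommRing A] (S : Type u) [CommRing S] [Algebra A S]
  (M : Type u) [AddCommGroup M] [Module A M]

/-- If `S ⊗ M` is a finite `S`-module, a finitely generated submodule of `M` already generates it. -/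
theorem exists_fg_lTensor_surjective [Module.Finite S (S ⊗[A] M)] :
    ∃ N : Submodule A M, N.FG ∧ Function.Surjective (N.subtype.lTensor S) := by
  obtain ⟨T, hT⟩ := (Module.Finite.fg_top : (⊤ : Submodule S (S ⊗[A] M)).FG)
  obtain ⟨N, hNfin, hN⟩ := TensorProduct.exists_finite_submodule_right_of_setFinite
    (T : Set (S ⊗[A] M)) T.finite_toSet
  refine ⟨N, (Module.Finite.iff_fg).1 hNfin, ?_⟩
  have hr : LinearMap.range (N.subtype.baseChange S) = ⊤ := by
    rw [eq_top_iff, ← hT, Submodule.span_le]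
    intro t ht
    obtain ⟨y, hy⟩ := hN ht
    exact ⟨y, by rw [LinearMap.baseChange_eq_ltensor]; exact hy⟩
  intro x
  obtain ⟨y, hy⟩ := LinearMap.range_eq_top.1 hr x
  exact ⟨y, by rw [LinearMap.baseChange_eq_ltensor] at hy; exact hy⟩

variable {S M}

theorem subsingleton_tensor_quotient {N' N : Submodule A M} (hle : N' ≤ N)
    (hs : Function.Surjective (N'.subtype.lTensor S)) : Subsingleton (S ⊗[A] (M ⧸ N)) := by
  refine subsingleton_of_forall_eq 0 fun z => ?_
  obtain ⟨x, rfl⟩ := LinearMap.lTensor_surjective S N.mkQ_surjective z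
  obtain ⟨y, rfl⟩ := hs x
  rw [← LinearMap.comp_apply, ← LinearMap.lTensor_comp]
  have : N.mkQ ∘ₗ N'.subtype = 0 := by
    ext n
    simp only [LinearMap.comp_apply, Submodule.subtype_apply, Submodule.mkQ_apply,
      LinearMap.zero_apply, Submodule.Quotient.mk_eq_zero]
    exact hle n.2
  rw [this, LinearMap.lTensor_zero, LinearMap.zero_apply]

end gen

namespace IsPinch

variable {A B C : Type u} [CommRing A] [CommRing B] [CommRing C] [Algebra A B] [Algebra A C]
  (h : IsPinch A B C) (M : Type u) [AddCommGroup M] [Module A M]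

include h in
/-- R2: finiteness descends along a pinching square. -/
theorem finite_of_tensor [Module.Finite B (B ⊗[A] M)] [Module.Finite C (C ⊗[A] M)] :
    Module.Finite A M := by
  obtain ⟨N₁, hN₁, hs₁⟩ := exists_fg_lTensor_surjective (A := A) B M
  obtain ⟨N₂, hN₂, hs₂⟩ := exists_fg_lTensor_surjective (A := A) C M
  haveI := subsingleton_tensor_quotient (S := B) (le_sup_left : N₁ ≤ N₁ ⊔ N₂) hs₁
  haveI := subsingleton_tensor_quotient (S := C) (le_sup_right : N₂ ≤ N₁ ⊔ N₂) hs₂
  have hQ : Subsingleton (M ⧸ (N₁ ⊔ N₂)) := h.subsingleton_of_tensor (M ⧸ (N₁ ⊔ N₂))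
  rw [Submodule.Quotient.subsingleton_iff] at hQ
  rw [Module.finite_def, ← hQ]
  exact hN₁.sup hN₂

end IsPinch

end Groth.Agent.Helper7.PinchRing
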