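import Groth.Agent.Lead.LimPres
import Groth.Agent.Helper7.PinchRing

set_option autoImplicit false
universe u
open CategoryTheory Limits AlgebraicGeometry TensorProduct

namespace Groth.Agent.Helper7.PinchSch

open Groth.Agent.Lead.ModDict Groth.Agent.Lead Groth.Agent.Helper4 Scheme.Modules
open Groth.Agent.Helper7.PinchRing

section dict

variable {X Y : Scheme.{u}} (f : X ⟶ Y) {V : Y.Opens} (hV : IsAffineOpen V)
  (hfV : IsAffineOpen (f ⁻¹ᵁ V)) (G : Y.Modules) [G.IsQuasicoherent]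

set_option backward.isDefEq.respectTransparency false in
/-- Sections of the pullback over the (affine) preimage of an affine open are the base change. -/
noncomputable def pullbackSecEquiv :
    letI : Algebra Γ(Y, V) Γ(X, f ⁻¹ᵁ V) := (f.appLE V (f ⁻¹ᵁ V) le_rfl).hom.toAlgebra
    ((secF hfV).obj ((Scheme.Modules.pullback f).obj G)) ≃ₗ[Γ(X, f ⁻¹ᵁ V)]
      Γ(X, f ⁻¹ᵁ V) ⊗[Γ(Y, V)] ((secF hV).obj G) :=
  (secFPullbackIso f hV hfV le_rfl G).toLinearEquiv

theorem subsingleton_secF_of_isZero {F : Y.Modules} (hF : IsZero F) :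
    Subsingleton ((secF hV).obj F) :=
  ModuleCat.subsingleton_of_isZero ((secF hV).map_isZero hF)

/-- A quasi-coherent module whose sections over all affine opens vanish is zero. -/
theorem isZero_of_subsingleton_secF
    (h : ∀ (V : Y.Opens) (hV : IsAffineOpen V), Subsingleton ((secF hV).obj G)) : IsZero G := by
  rw [IsZero.iff_id_eq_zero]
  refine eq_zero_of_restrict (𝟙 G) (fun V : Y.affineOpens => Spec Γ(Y, V.1))
    (fun V => V.2.fromSpec) ?_ ?_
  · intro y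
    obtain ⟨_, ⟨V, hV, rfl⟩, hyV, -⟩ := Y.isBasis_affineOpens.exists_subset_of_mem_open
      (Set.mem_univ y) isOpen_univ
    refine ⟨⟨V, hV⟩, ?_⟩
    rw [hV.range_fromSpec]
    exact hyV
  · intro V
    rw [CategoryTheory.Functor.map_id, ← IsZero.iff_id_eq_zero]
    change IsZero ((resF V.2).obj G)
    haveI := h V.1 V.2
    have h0 : IsZero ((secF V.2).obj G) := ModuleCat.isZero_of_subsingleton _
    exact ((tilde.functor Γ(Y, V.1)).map_isZero h0).of_iso (tildeIso V.2 G).symm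

end dict

section pinch

variable {X Y Y' : Scheme.{u}} (f : X ⟶ Y) (u : Y' ⟶ Y) [IsAffineHom f] [IsClosedImmersion u]
  (hM : ∀ V ∈ Y.affineOpens,
      RingHom.ker (f.app V).hom ⊓ RingHom.ker (u.app V).hom = ⊥ ∧
      ∀ a ∈ Ideal.map (f.app V).hom (RingHom.ker (u.app V).hom),
        ∃ i ∈ RingHom.ker (u.app V).hom, (f.app V).hom i = a)

omit [IsAffineHom f] in
include hM in
theorem isPinch {V : Y.Opens} (hV : IsAffineOpen V) :
    letI : Algebra Γ(Y, V) Γ(X, f ⁻¹ᵁ V) := (f.appLE V (f ⁻¹ᵁ V) le_rfl).hom.toAlgebra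
    letI : Algebra Γ(Y, V) Γ(Y', u ⁻¹ᵁ V) := (u.appLE V (u ⁻¹ᵁ V) le_rfl).hom.toAlgebra
    IsPinch Γ(Y, V) Γ(X, f ⁻¹ᵁ V) Γ(Y', u ⁻¹ᵁ V) := by
  letI : Algebra Γ(Y, V) Γ(X, f ⁻¹ᵁ V) := (f.appLE V (f ⁻¹ᵁ V) le_rfl).hom.toAlgebra
  letI : Algebra Γ(Y, V) Γ(Y', u ⁻¹ᵁ V) := (u.appLE V (u ⁻¹ᵁ V) le_rfl).hom.toAlgebra
  have e1 : algebraMap Γ(Y, V) Γ(X, f ⁻¹ᵁ V) = (f.app V).hom := by
    change (f.appLE V (f ⁻¹ᵁ V) le_rfl).hom = _
    rw [← Scheme.Hom.app_eq_appLE]
  have e2 : algebraMap Γ(Y, V) Γ(Y', u ⁻¹ᵁ V) = (u.app V).hom := by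
    change (u.appLE V (u ⁻¹ᵁ V) le_rfl).hom = _
    rw [← Scheme.Hom.app_eq_appLE]
  refine ⟨?_, ?_, ?_⟩
  · rw [e2]
    exact u.app_surjective V hV
  · rw [e1, e2]
    exact (hM V hV).1
  · rw [e1, e2]
    exact (hM V hV).2

variable (G : Y.Modules) [G.IsQuasicoherent]

include hM in
set_option backward.isDefEq.respectTransparency false in
/-- S14959: a quasi-coherent module on the pinched scheme with zero pullbacks is zero. -/
theorem isZero_of_isZero_pullback (h1 : IsZero ((Scheme.Modules.pullback u).obj G))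
    (h2 : IsZero ((Scheme.Modules.pullback f).obj G)) : IsZero G := by
  apply isZero_of_subsingleton_secF
  intro V hV
  have hfV : IsAffineOpen (f ⁻¹ᵁ V) := hV.preimage f
  have huV : IsAffineOpen (u ⁻¹ᵁ V) := hV.preimage u
  letI : Algebra Γ(Y, V) Γ(X, f ⁻¹ᵁ V) := (f.appLE V (f ⁻¹ᵁ V) le_rfl).hom.toAlgebra
  letI : Algebra Γ(Y, V) Γ(Y', u ⁻¹ᵁ V) := (u.appLE V (u ⁻¹ᵁ V) le_rfl).hom.toAlgebra
  have hP := isPinch f u hM hV
  haveI : Subsingleton (Γ(X, f ⁻¹ᵁ V) ⊗[Γ(Y, V)] ((secF hV).obj G)) := by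
    haveI := subsingleton_secF_of_isZero hfV h2
    exact (pullbackSecEquiv f hV hfV G).symm.toEquiv.subsingleton
  haveI : Subsingleton (Γ(Y', u ⁻¹ᵁ V) ⊗[Γ(Y, V)] ((secF hV).obj G)) := by
    haveI := subsingleton_secF_of_isZero huV h1
    exact (pullbackSecEquiv u hV huV G).symm.toEquiv.subsingleton
  exact hP.subsingleton_of_tensor _

include hM in
set_option backward.isDefEq.respectTransparency false in
/-- S14962: finite type descends along a pinching square. -/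
theorem isFiniteType_iff :
    SheafOfModules.IsFiniteType G ↔
      SheafOfModules.IsFiniteType ((Scheme.Modules.pullback u).obj G) ∧
        SheafOfModules.IsFiniteType ((Scheme.Modules.pullback f).obj G) := by
  constructor
  · intro h
    exact ⟨LimPres.isFT_pullback u G h, LimPres.isFT_pullback f G h⟩
  · rintro ⟨h1, h2⟩
    haveI := StalkPull.isQuasicoherent_pullbackObj f G
    haveI := StalkPull.isQuasicoherent_pullbackObj u G
    apply FTGlue.isFiniteType_of_finite_sections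
    intro y
    obtain ⟨_, ⟨V, hV, rfl⟩, hyV, -⟩ := Y.isBasis_affineOpens.exists_subset_of_mem_open
      (Set.mem_univ y) isOpen_univ
    refine ⟨V, hV, hyV, ?_⟩
    have hfV : IsAffineOpen (f ⁻¹ᵁ V) := hV.preimage f
    have huV : IsAffineOpen (u ⁻¹ᵁ V) := hV.preimage u
    letI : Algebra Γ(Y, V) Γ(X, f ⁻¹ᵁ V) := (f.appLE V (f ⁻¹ᵁ V) le_rfl).hom.toAlgebra
    letI : Algebra Γ(Y, V) Γ(Y', u ⁻¹ᵁ V) := (u.appLE V (u ⁻¹ᵁ V) le_rfl).hom.toAlgebra
    have hP := isPinch f u hM hV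
    haveI : Module.Finite Γ(X, f ⁻¹ᵁ V) (Γ(X, f ⁻¹ᵁ V) ⊗[Γ(Y, V)] ((secF hV).obj G)) := by
      haveI := finite_secF hfV ((Scheme.Modules.pullback f).obj G) h2
      exact Module.Finite.equiv (pullbackSecEquiv f hV hfV G)
    haveI : Module.Finite Γ(Y', u ⁻¹ᵁ V) (Γ(Y', u ⁻¹ᵁ V) ⊗[Γ(Y, V)] ((secF hV).obj G)) := by
      haveI := finite_secF huV ((Scheme.Modules.pullback u).obj G) h1
      exact Module.Finite.equiv (pullbackSecEquiv u hV huV G)
    have hfin : Module.Finite Γ(Y, V) ((secF hV).obj G) := hP.finite_of_tensor _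
    haveI : Module.Finite Γ(Y, V)
        ↑(moduleSpecΓFunctor.obj (G.restrict hV.fromSpec)) := hfin
    exact Module.Finite.equiv (SecDict.sectionsEquiv hV G).symm

end pinch

end Groth.Agent.Helper7.PinchSch
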