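import Groth.Agent.Helper7.PinchSch
import Groth.Agent.Helper7.PinchFlatC
import Groth.Agent.Lead.StalkPull2
import Groth.Agent.Lead.LocLift6
import Groth.Agent.Lead.FlatLib1
import Groth.Agent.Helper4.FinLocFree5
import Groth.Agent.Helper4.FPGlue

set_option autoImplicit false
set_option linter.style.haveILetI false
universe u
open CategoryTheory Limits AlgebraicGeometry TensorProduct

namespace Groth.Agent.Helper7.PinchSch2

open Groth.Agent.Lead.ModDict Groth.Agent.Lead Groth.Agent.Helper4 Scheme.Modules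
open Groth.Agent.Helper7.PinchRing Groth.Agent.Helper7.PinchSch

section dict

variable {X Y : Scheme.{u}}

/-- Pullback preserves (stalkwise) flatness of quasi-coherent modules. -/
theorem isFlat_pullback (f : X ⟶ Y) (G : Y.Modules) [G.IsQuasicoherent] (h : FlatMod.IsFlat G) :
    FlatMod.IsFlat ((Scheme.Modules.pullback f).obj G) := by
  intro x
  letI := (f.stalkMap x).hom.toAlgebra
  obtain ⟨e⟩ := StalkPull.nonempty_stalk_pullback_equiv f G x
  haveI : Module.Flat (Y.presheaf.stalk (f x)) (G.presheaf.stalk (f x)) := h (f x)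
  exact Module.Flat.of_linearEquiv e

variable (F : X.Modules) [F.IsQuasicoherent] {U : X.Opens} (hU : IsAffineOpen U)

include hU in
set_option backward.isDefEq.respectTransparency false in
theorem flat_stalk_of_flat_sections (h : Module.Flat Γ(X, U) Γ(F, U)) (y : X) (hy : y ∈ U) :
    Module.Flat (X.presheaf.stalk y) (F.presheaf.stalk y) := by
  letI := StalkDict.sectionModStalk F y hy
  letI := X.presheaf.algebra_section_stalk ⟨y, hy⟩
  haveI := hU.isLocalization_stalk ⟨y, hy⟩
  haveI := StalkDict.isLocalizedModule_germ hU F y hy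
  haveI : IsScalarTower Γ(X, U) (X.presheaf.stalk y) (F.presheaf.stalk y) :=
    IsScalarTower.of_algebraMap_smul (fun r m => rfl)
  exact Module.Flat.of_isLocalizedModule (X.presheaf.stalk y)
    (hU.primeIdealOf ⟨y, hy⟩).asIdeal.primeCompl (StalkDict.germLin F y hy)

include hU in
set_option backward.isDefEq.respectTransparency false in
theorem finite_stalk_of_finite_sections (h : Module.Finite Γ(X, U) Γ(F, U)) (y : X) (hy : y ∈ U) :
    Module.Finite (X.presheaf.stalk y) (F.presheaf.stalk y) := by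
  letI := StalkDict.sectionModStalk F y hy
  letI := X.presheaf.algebra_section_stalk ⟨y, hy⟩
  haveI := hU.isLocalization_stalk ⟨y, hy⟩
  haveI := StalkDict.isLocalizedModule_germ hU F y hy
  haveI : IsScalarTower Γ(X, U) (X.presheaf.stalk y) (F.presheaf.stalk y) :=
    IsScalarTower.of_algebraMap_smul (fun r m => rfl)
  exact Module.Finite.of_isLocalizedModule
    (hU.primeIdealOf ⟨y, hy⟩).asIdeal.primeCompl (StalkDict.germLin F y hy)

include hU in
theorem flat_secF_of_isFlat (h : FlatMod.IsFlat F) : Module.Flat Γ(X, U) ((secF hU).obj F) := by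
  haveI : Module.Flat Γ(X, U) Γ(F, U) :=
    FinLocFree5.flat_sections_of_flat_stalks F hU (fun y _ => h y)
  have := Module.Flat.of_linearEquiv (SecDict.sectionsEquiv hU F).symm
  exact this

include hU in
theorem flat_sections_of_flat_secF (h : Module.Flat Γ(X, U) ((secF hU).obj F)) :
    Module.Flat Γ(X, U) Γ(F, U) := by
  haveI : Module.Flat Γ(X, U) ↑(moduleSpecΓFunctor.obj (F.restrict hU.fromSpec)) := h
  exact Module.Flat.of_linearEquiv (SecDict.sectionsEquiv hU F)

include hU in
theorem fp_secF_of_isFP (h : SheafOfModules.IsFinitePresentation (R := X.ringCatSheaf) F) :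
    Module.FinitePresentation Γ(X, U) ((secF hU).obj F) := by
  haveI : Module.FinitePresentation Γ(X, U) Γ(F, U) := FPGlue.fp_sections F h hU
  have := Module.FinitePresentation.of_equiv (SecDict.sectionsEquiv hU F)
  exact this

end dict

section pinch

variable {X Y Y' : Scheme.{u}} (f : X ⟶ Y) (u : Y' ⟶ Y) [IsAffineHom f] [IsClosedImmersion u]
  (hM : ∀ V ∈ Y.affineOpens,
      RingHom.ker (f.app V).hom ⊓ RingHom.ker (u.app V).hom = ⊥ ∧
      ∀ a ∈ Ideal.map (f.app V).hom (RingHom.ker (u.app V).hom),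
        ∃ i ∈ RingHom.ker (u.app V).hom, (f.app V).hom i = a)
  (G : Y.Modules) [G.IsQuasicoherent]

include hM in
set_option backward.isDefEq.respectTransparency false in
/-- Sections over an affine open are flat when both pullbacks are flat. -/
theorem flat_secF_of_isFlat_pullback (h1 : FlatMod.IsFlat ((Scheme.Modules.pullback u).obj G))
    (h2 : FlatMod.IsFlat ((Scheme.Modules.pullback f).obj G)) {V : Y.Opens}
    (hV : IsAffineOpen V) : Module.Flat Γ(Y, V) ((secF hV).obj G) := by
  haveI := StalkPull.isQuasicoherent_pullbackObj f G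
  haveI := StalkPull.isQuasicoherent_pullbackObj u G
  have hfV : IsAffineOpen (f ⁻¹ᵁ V) := hV.preimage f
  have huV : IsAffineOpen (u ⁻¹ᵁ V) := hV.preimage u
  letI : Algebra Γ(Y, V) Γ(X, f ⁻¹ᵁ V) := (f.appLE V (f ⁻¹ᵁ V) le_rfl).hom.toAlgebra
  letI : Algebra Γ(Y, V) Γ(Y', u ⁻¹ᵁ V) := (u.appLE V (u ⁻¹ᵁ V) le_rfl).hom.toAlgebra
  have hP := isPinch f u hM hV
  haveI : Module.Flat Γ(X, f ⁻¹ᵁ V) (Γ(X, f ⁻¹ᵁ V) ⊗[Γ(Y, V)] ((secF hV).obj G)) := by
    haveI := flat_secF_of_isFlat ((Scheme.Modules.pullback f).obj G) hfV h2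
    exact Module.Flat.of_linearEquiv (pullbackSecEquiv f hV hfV G).symm
  haveI : Module.Flat Γ(Y', u ⁻¹ᵁ V) (Γ(Y', u ⁻¹ᵁ V) ⊗[Γ(Y, V)] ((secF hV).obj G)) := by
    haveI := flat_secF_of_isFlat ((Scheme.Modules.pullback u).obj G) huV h1
    exact Module.Flat.of_linearEquiv (pullbackSecEquiv u hV huV G).symm
  exact hP.flat_of_tensor _

include hM in
/-- S14960: flatness descends along a pinching square. -/
theorem isFlat_iff :
    FlatMod.IsFlat G ↔
      FlatMod.IsFlat ((Scheme.Modules.pullback u).obj G) ∧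
        FlatMod.IsFlat ((Scheme.Modules.pullback f).obj G) := by
  constructor
  · intro h
    exact ⟨isFlat_pullback u G h, isFlat_pullback f G h⟩
  · rintro ⟨h1, h2⟩
    intro y
    obtain ⟨_, ⟨V, hV, rfl⟩, hyV, -⟩ := Y.isBasis_affineOpens.exists_subset_of_mem_open
      (Set.mem_univ y) isOpen_univ
    have hflat := flat_secF_of_isFlat_pullback f u hM G h1 h2 hV
    exact flat_stalk_of_flat_sections G hV (flat_sections_of_flat_secF G hV hflat) y hyV

include hM in
set_option backward.isDefEq.respectTransparency false in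
/-- Sections over an affine open are finitely presented when both pullbacks are finite locally
free. -/
theorem fp_secF_of_isFinLocFree_pullback
    (h1 : FlatMod.IsFinLocFree ((Scheme.Modules.pullback u).obj G))
    (h2 : FlatMod.IsFinLocFree ((Scheme.Modules.pullback f).obj G)) {V : Y.Opens}
    (hV : IsAffineOpen V) : Module.FinitePresentation Γ(Y, V) ((secF hV).obj G) := by
  haveI := StalkPull.isQuasicoherent_pullbackObj f G
  haveI := StalkPull.isQuasicoherent_pullbackObj u G
  haveI : Module.Flat Γ(Y, V) ((secF hV).obj G) :=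
    flat_secF_of_isFlat_pullback f u hM G (FlatLib.isFlat_of_isFinLocFree h1)
      (FlatLib.isFlat_of_isFinLocFree h2) hV
  have hfV : IsAffineOpen (f ⁻¹ᵁ V) := hV.preimage f
  have huV : IsAffineOpen (u ⁻¹ᵁ V) := hV.preimage u
  letI : Algebra Γ(Y, V) Γ(X, f ⁻¹ᵁ V) := (f.appLE V (f ⁻¹ᵁ V) le_rfl).hom.toAlgebra
  letI : Algebra Γ(Y, V) Γ(Y', u ⁻¹ᵁ V) := (u.appLE V (u ⁻¹ᵁ V) le_rfl).hom.toAlgebra
  have hP := isPinch f u hM hV
  haveI : Module.FinitePresentation Γ(X, f ⁻¹ᵁ V)
      (Γ(X, f ⁻¹ᵁ V) ⊗[Γ(Y, V)] ((secF hV).obj G)) := by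
    haveI := fp_secF_of_isFP ((Scheme.Modules.pullback f).obj G) hfV
      (FinLocFree2.isFinitePresentation_of_isFinLocFree _ h2)
    exact Module.FinitePresentation.of_equiv (pullbackSecEquiv f hV hfV G)
  haveI : Module.FinitePresentation Γ(Y', u ⁻¹ᵁ V)
      (Γ(Y', u ⁻¹ᵁ V) ⊗[Γ(Y, V)] ((secF hV).obj G)) := by
    haveI := fp_secF_of_isFP ((Scheme.Modules.pullback u).obj G) huV
      (FinLocFree2.isFinitePresentation_of_isFinLocFree _ h1)
    exact Module.FinitePresentation.of_equiv (pullbackSecEquiv u hV huV G)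
  exact hP.finitePresentation_of_tensor _

include hM in
/-- S14961: finite local freeness descends along a pinching square. -/
theorem isFinLocFree_iff :
    FlatMod.IsFinLocFree G ↔
      FlatMod.IsFinLocFree ((Scheme.Modules.pullback u).obj G) ∧
        FlatMod.IsFinLocFree ((Scheme.Modules.pullback f).obj G) := by
  constructor
  · intro h
    exact ⟨LocLift.isFinLocFree_pullback u h, LocLift.isFinLocFree_pullback f h⟩
  · rintro ⟨h1, h2⟩
    have key : ∀ (V : Y.Opens) (hV : IsAffineOpen V),
        Module.FinitePresentation Γ(Y, V) Γ(G, V) ∧ Module.Flat Γ(Y, V) Γ(G, V) := by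
      intro V hV
      have hfp := fp_secF_of_isFinLocFree_pullback f u hM G h1 h2 hV
      have hflat := flat_secF_of_isFlat_pullback f u hM G (FlatLib.isFlat_of_isFinLocFree h1)
        (FlatLib.isFlat_of_isFinLocFree h2) hV
      refine ⟨?_, flat_sections_of_flat_secF G hV hflat⟩
      haveI : Module.FinitePresentation Γ(Y, V)
          ↑(moduleSpecΓFunctor.obj (G.restrict hV.fromSpec)) := hfp
      exact Module.FinitePresentation.of_equiv (SecDict.sectionsEquiv hV G).symm
    apply FinLocFree2.isFinLocFree_of_fp_of_free_stalks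
    · apply FPGlue.isFinitePresentation_of_fp_sections
      intro y
      obtain ⟨_, ⟨V, hV, rfl⟩, hyV, -⟩ := Y.isBasis_affineOpens.exists_subset_of_mem_open
        (Set.mem_univ y) isOpen_univ
      exact ⟨V, hV, hyV, (key V hV).1⟩
    · intro y
      obtain ⟨_, ⟨V, hV, rfl⟩, hyV, -⟩ := Y.isBasis_affineOpens.exists_subset_of_mem_open
        (Set.mem_univ y) isOpen_univ
      haveI := flat_stalk_of_flat_sections G hV (key V hV).2 y hyV
      haveI : Module.FinitePresentation Γ(Y, V) Γ(G, V) := (key V hV).1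
      haveI := finite_stalk_of_finite_sections G hV inferInstance y hyV
      exact Module.free_of_flat_of_isLocalRing

end pinch

end Groth.Agent.Helper7.PinchSch2
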