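import Mathlib

/-! Planar duality count, part A: complexes in the quadrant grid, spaces `ZA`, `ZB`,
the relative coboundary matrix and its kernel/cokernel dimensions. -/

set_option autoImplicit false

namespace Groth.Agent.Helper7.PlDu

open scoped Classical

noncomputable section

/-- a subcomplex of the cubical complex of the quadrant `ℕ × ℕ` containing all far cells -/
structure Cpx where
  V : ℕ × ℕ → Prop
  H : ℕ × ℕ → Prop
  W : ℕ × ℕ → Prop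
  F : ℕ × ℕ → Prop
  P : ℕ
  Q : ℕ
  far_V : ∀ a : ℕ × ℕ, (P ≤ a.1 ∨ Q ≤ a.2) → V a
  far_H : ∀ a : ℕ × ℕ, (P ≤ a.1 ∨ Q ≤ a.2) → H a
  far_W : ∀ a : ℕ × ℕ, (P ≤ a.1 ∨ Q ≤ a.2) → W a
  far_F : ∀ a : ℕ × ℕ, (P ≤ a.1 ∨ Q ≤ a.2) → F a
  H_l : ∀ a : ℕ × ℕ, H a → V a
  H_r : ∀ a : ℕ × ℕ, H a → V (a.1 + 1, a.2)
  W_b : ∀ a : ℕ × ℕ, W a → V a
  W_t : ∀ a : ℕ × ℕ, W a → V (a.1, a.2 + 1)
  F_b : ∀ a : ℕ × ℕ, F a → H a
  F_t : ∀ a : ℕ × ℕ, F a → H (a.1, a.2 + 1)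
  F_l : ∀ a : ℕ × ℕ, F a → W a
  F_r : ∀ a : ℕ × ℕ, F a → W (a.1 + 1, a.2)

variable (K : Cpx)

theorem finite_of_far (S : ℕ × ℕ → Prop) (P Q : ℕ)
    (h : ∀ a : ℕ × ℕ, (P ≤ a.1 ∨ Q ≤ a.2) → S a) : Finite {a : ℕ × ℕ // ¬ S a} := by
  have : {a : ℕ × ℕ | ¬ S a} ⊆ Set.Iio P ×ˢ Set.Iio Q := by
    intro a ha
    simp only [Set.mem_prod, Set.mem_Iio]
    by_contra hcon
    apply ha
    apply h
    omega
  exact ((Set.finite_Iio P).prod (Set.finite_Iio Q)).subset this |>.to_subtype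

instance : Finite {a : ℕ × ℕ // ¬ K.V a} := finite_of_far _ K.P K.Q K.far_V
instance : Finite {a : ℕ × ℕ // ¬ K.H a} := finite_of_far _ K.P K.Q K.far_H
instance : Finite {a : ℕ × ℕ // ¬ K.W a} := finite_of_far _ K.P K.Q K.far_W
instance : Finite {a : ℕ × ℕ // ¬ K.F a} := finite_of_far _ K.P K.Q K.far_F
instance : Fintype {a : ℕ × ℕ // ¬ K.V a} := Fintype.ofFinite _
instance : Fintype {a : ℕ × ℕ // ¬ K.H a} := Fintype.ofFinite _
instance : Fintype {a : ℕ × ℕ // ¬ K.W a} := Fintype.ofFinite _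
instance : Fintype {a : ℕ × ℕ // ¬ K.F a} := Fintype.ofFinite _

variable (k : Type*) [Field k]

/-- extension by zero -/
def ext0 {S : ℕ × ℕ → Prop} (u : {a : ℕ × ℕ // S a} → k) (a : ℕ × ℕ) : k :=
  if h : S a then u ⟨a, h⟩ else 0

variable {k}

theorem ext0_of {S : ℕ × ℕ → Prop} (u : {a : ℕ × ℕ // S a} → k) {a : ℕ × ℕ} (h : S a) :
    ext0 k u a = u ⟨a, h⟩ := by rw [ext0, dif_pos h]

theorem ext0_of_not {S : ℕ × ℕ → Prop} (u : {a : ℕ × ℕ // S a} → k) {a : ℕ × ℕ} (h : ¬ S a) :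
    ext0 k u a = 0 := by rw [ext0, dif_neg h]

theorem ext0_add {S : ℕ × ℕ → Prop} (u v : {a : ℕ × ℕ // S a} → k) (a : ℕ × ℕ) :
    ext0 k (u + v) a = ext0 k u a + ext0 k v a := by
  unfold ext0; split_ifs <;> simp

theorem ext0_smul {S : ℕ × ℕ → Prop} (c : k) (u : {a : ℕ × ℕ // S a} → k) (a : ℕ × ℕ) :
    ext0 k (c • u) a = c * ext0 k u a := by
  unfold ext0; split_ifs <;> simp

theorem sum_ite_ext0 {S : ℕ × ℕ → Prop} [Fintype {a : ℕ × ℕ // S a}]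
    (u : {a : ℕ × ℕ // S a} → k) (x : ℕ × ℕ) :
    ∑ e : {a : ℕ × ℕ // S a}, (if x = e.1 then (1 : k) else 0) * u e = ext0 k u x := by
  by_cases h : S x
  · rw [ext0_of u h, Finset.sum_eq_single ⟨x, h⟩]
    · simp
    · intro b _ hb
      rw [if_neg, zero_mul]
      intro hx
      exact hb (Subtype.ext hx.symm)
    · intro hx
      exact absurd (Finset.mem_univ _) hx
  · rw [ext0_of_not u h]
    apply Finset.sum_eq_zero
    intro e _
    rw [if_neg, zero_mul]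
    intro hx
    exact h (hx ▸ e.2)

/-- the `A`-side space: functions supported on `V`, constant along the edges of the complex,
vanishing far away -/
def ZA : Submodule k (ℕ × ℕ → k) where
  carrier := {g | (∀ a, ¬ K.V a → g a = 0) ∧ (∀ a : ℕ × ℕ, K.H a → g (a.1 + 1, a.2) = g a) ∧
    (∀ a : ℕ × ℕ, K.W a → g (a.1, a.2 + 1) = g a) ∧
    (∀ a : ℕ × ℕ, (K.P ≤ a.1 ∨ K.Q ≤ a.2) → g a = 0)}
  zero_mem' := by simp
  add_mem' := by
    rintro g g' ⟨h1, h2, h3, h4⟩ ⟨h1', h2', h3', h4'⟩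
    refine ⟨fun a ha => ?_, fun a ha => ?_, fun a ha => ?_, fun a ha => ?_⟩
    · simp [h1 a ha, h1' a ha]
    · simp [h2 a ha, h2' a ha]
    · simp [h3 a ha, h3' a ha]
    · simp [h4 a ha, h4' a ha]
  smul_mem' := by
    rintro c g ⟨h1, h2, h3, h4⟩
    refine ⟨fun a ha => ?_, fun a ha => ?_, fun a ha => ?_, fun a ha => ?_⟩
    · simp [h1 a ha]
    · simp [h2 a ha]
    · simp [h3 a ha]
    · simp [h4 a ha]

/-- the `B`-side space: functions on squares outside the complex, constant across edges outside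
the complex, vanishing next to the left and bottom boundary across such edges -/
def ZB : Submodule k (ℕ × ℕ → k) where
  carrier := {h | (∀ a, K.F a → h a = 0) ∧
    (∀ a : ℕ × ℕ, ¬ K.W (a.1 + 1, a.2) → h (a.1 + 1, a.2) = h a) ∧
    (∀ a : ℕ × ℕ, ¬ K.H (a.1, a.2 + 1) → h (a.1, a.2 + 1) = h a) ∧
    (∀ q : ℕ, ¬ K.W (0, q) → h (0, q) = 0) ∧ (∀ p : ℕ, ¬ K.H (p, 0) → h (p, 0) = 0)}
  zero_mem' := by simp
  add_mem' := by
    rintro g g' ⟨h1, h2, h3, h4, h5⟩ ⟨h1', h2', h3', h4', h5'⟩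
    refine ⟨fun a ha => ?_, fun a ha => ?_, fun a ha => ?_, fun a ha => ?_, fun a ha => ?_⟩
    · simp [h1 a ha, h1' a ha]
    · simp [h2 a ha, h2' a ha]
    · simp [h3 a ha, h3' a ha]
    · simp [h4 a ha, h4' a ha]
    · simp [h5 a ha, h5' a ha]
  smul_mem' := by
    rintro c g ⟨h1, h2, h3, h4, h5⟩
    refine ⟨fun a ha => ?_, fun a ha => ?_, fun a ha => ?_, fun a ha => ?_, fun a ha => ?_⟩
    · simp [h1 a ha]
    · simp [h2 a ha]
    · simp [h3 a ha]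
    · simp [h4 a ha]
    · simp [h5 a ha]

/-- the relative coboundary matrix from edges outside the complex to squares outside -/
def M : Matrix {a : ℕ × ℕ // ¬ K.F a} ({a : ℕ × ℕ // ¬ K.H a} ⊕ {a : ℕ × ℕ // ¬ K.W a}) k :=
  fun s e => Sum.elim
    (fun e : {a : ℕ × ℕ // ¬ K.H a} =>
      (if s.1 = e.1 then (1 : k) else 0) - (if (s.1.1, s.1.2 + 1) = e.1 then 1 else 0))
    (fun e : {a : ℕ × ℕ // ¬ K.W a} =>
      (if (s.1.1 + 1, s.1.2) = e.1 then (1 : k) else 0) - (if s.1 = e.1 then 1 else 0)) e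

theorem M_mulVec (u : ({a : ℕ × ℕ // ¬ K.H a} ⊕ {a : ℕ × ℕ // ¬ K.W a}) → k)
    (s : {a : ℕ × ℕ // ¬ K.F a}) :
    (M (k := k) K).mulVec u s =
      ext0 k (fun e => u (Sum.inl e)) s.1 - ext0 k (fun e => u (Sum.inl e)) (s.1.1, s.1.2 + 1) +
        ext0 k (fun e => u (Sum.inr e)) (s.1.1 + 1, s.1.2) - ext0 k (fun e => u (Sum.inr e)) s.1 := by
  rw [Matrix.mulVec, dotProduct, Fintype.sum_sum_type]
  simp only [M, Sum.elim_inl, Sum.elim_inr, sub_mul, Finset.sum_sub_distrib]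
  rw [sum_ite_ext0, sum_ite_ext0, sum_ite_ext0, sum_ite_ext0]
  ring

end

end Groth.Agent.Helper7.PlDu
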