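import Mathlib
import Groth.Agent.Helper7.PlDuA

/-! Planar duality count, part B: the `B`-side is the kernel of the transposed matrix. -/

set_option autoImplicit false

namespace Groth.Agent.Helper7.PlDu

open scoped Classical

noncomputable section

variable (K : Cpx) {k : Type*} [Field k]

theorem sum_ite_ext0' {S : ℕ × ℕ → Prop} [Fintype {a : ℕ × ℕ // S a}]
    (u : {a : ℕ × ℕ // S a} → k) (x : ℕ × ℕ) :
    ∑ e : {a : ℕ × ℕ // S a}, (if e.1 = x then (1 : k) else 0) * u e = ext0 k u x := by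
  rw [← sum_ite_ext0 u x]
  apply Finset.sum_congr rfl
  intro e _
  by_cases h : e.1 = x
  · rw [if_pos h, if_pos h.symm]
  · rw [if_neg h, if_neg (fun h' => h h'.symm)]

theorem sum_ite_up {S : ℕ × ℕ → Prop} [Fintype {a : ℕ × ℕ // S a}]
    (u : {a : ℕ × ℕ // S a} → k) (x : ℕ × ℕ) :
    ∑ e : {a : ℕ × ℕ // S a}, (if (e.1.1, e.1.2 + 1) = x then (1 : k) else 0) * u e =
      if 0 < x.2 then ext0 k u (x.1, x.2 - 1) else 0 := by
  by_cases hx : 0 < x.2
  · rw [if_pos hx, ← sum_ite_ext0' u (x.1, x.2 - 1)]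
    apply Finset.sum_congr rfl
    intro e _
    have : ((e.1.1, e.1.2 + 1) = x) ↔ (e.1 = (x.1, x.2 - 1)) := by
      constructor
      · intro h
        rw [← h]
        ext <;> simp
      · intro h
        rw [h]
        ext
        · simp
        · simp; omega
    by_cases h : (e.1.1, e.1.2 + 1) = x
    · rw [if_pos h, if_pos (this.mp h)]
    · rw [if_neg h, if_neg (fun h' => h (this.mpr h'))]
  · rw [if_neg hx]
    apply Finset.sum_eq_zero
    intro e _
    rw [if_neg, zero_mul]
    intro h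
    apply hx
    rw [← h]
    simp

theorem sum_ite_right {S : ℕ × ℕ → Prop} [Fintype {a : ℕ × ℕ // S a}]
    (u : {a : ℕ × ℕ // S a} → k) (x : ℕ × ℕ) :
    ∑ e : {a : ℕ × ℕ // S a}, (if (e.1.1 + 1, e.1.2) = x then (1 : k) else 0) * u e =
      if 0 < x.1 then ext0 k u (x.1 - 1, x.2) else 0 := by
  by_cases hx : 0 < x.1
  · rw [if_pos hx, ← sum_ite_ext0' u (x.1 - 1, x.2)]
    apply Finset.sum_congr rfl
    intro e _
    have : ((e.1.1 + 1, e.1.2) = x) ↔ (e.1 = (x.1 - 1, x.2)) := by
      constructor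
      · intro h
        rw [← h]
        ext <;> simp
      · intro h
        rw [h]
        ext
        · simp; omega
        · simp
    by_cases h : (e.1.1 + 1, e.1.2) = x
    · rw [if_pos h, if_pos (this.mp h)]
    · rw [if_neg h, if_neg (fun h' => h (this.mpr h'))]
  · rw [if_neg hx]
    apply Finset.sum_eq_zero
    intro e _
    rw [if_neg, zero_mul]
    intro h
    apply hx
    rw [← h]
    simp

theorem MT_mulVec_inl (h : {a : ℕ × ℕ // ¬ K.F a} → k) (e : {a : ℕ × ℕ // ¬ K.H a}) :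
    (M (k := k) K).transpose.mulVec h (Sum.inl e) =
      ext0 k h e.1 - (if 0 < e.1.2 then ext0 k h (e.1.1, e.1.2 - 1) else 0) := by
  rw [Matrix.mulVec, dotProduct]
  simp only [Matrix.transpose_apply, M, Sum.elim_inl, sub_mul, Finset.sum_sub_distrib]
  rw [sum_ite_ext0', sum_ite_up]

theorem MT_mulVec_inr (h : {a : ℕ × ℕ // ¬ K.F a} → k) (e : {a : ℕ × ℕ // ¬ K.W a}) :
    (M (k := k) K).transpose.mulVec h (Sum.inr e) =
      (if 0 < e.1.1 then ext0 k h (e.1.1 - 1, e.1.2) else 0) - ext0 k h e.1 := by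
  rw [Matrix.mulVec, dotProduct]
  simp only [Matrix.transpose_apply, M, Sum.elim_inr, sub_mul, Finset.sum_sub_distrib]
  rw [sum_ite_ext0', sum_ite_right]

theorem ext0_restrict {S : ℕ × ℕ → Prop} (h : ℕ × ℕ → k) (hS : ∀ a, ¬ S a → h a = 0) :
    ext0 k (fun s : {a : ℕ × ℕ // S a} => h s.1) = h := by
  funext a
  by_cases ha : S a
  · rw [ext0_of _ ha]
  · rw [ext0_of_not _ ha, hS a ha]

/-- the `B`-side space is the kernel of the transposed matrix -/
def equivB : ZB (k := k) K ≃ₗ[k] LinearMap.ker (M (k := k) K).transpose.mulVecLin where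
  toFun h := ⟨fun s => h.1 s.1, by
    obtain ⟨h, h1, h2, h3, h4, h5⟩ := h
    rw [LinearMap.mem_ker]
    have hx : ext0 k (fun s : {a : ℕ × ℕ // ¬ K.F a} => h s.1) = h :=
      ext0_restrict h (fun a ha => h1 a (not_not.mp ha))
    funext e
    rw [Matrix.mulVecLin_apply]
    rcases e with e | e
    · rw [MT_mulVec_inl, hx]
      obtain ⟨⟨p, q⟩, he⟩ := e
      rcases Nat.eq_zero_or_pos q with hq | hq
      · subst hq
        simp [h5 p he]
      · obtain ⟨q', rfl⟩ : ∃ q', q = q' + 1 := ⟨q - 1, by omega⟩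
        have := h3 (p, q') he
        simp [this]
    · rw [MT_mulVec_inr, hx]
      obtain ⟨⟨p, q⟩, he⟩ := e
      rcases Nat.eq_zero_or_pos p with hp | hp
      · subst hp
        simp [h4 q he]
      · obtain ⟨p', rfl⟩ : ∃ p', p = p' + 1 := ⟨p - 1, by omega⟩
        have := h2 (p', q) he
        simp [this]⟩
  map_add' h h' := rfl
  map_smul' c h := rfl
  invFun h' := ⟨ext0 k h'.1, by
    obtain ⟨h', hk⟩ := h'
    rw [LinearMap.mem_ker] at hk
    refine ⟨fun a ha => ext0_of_not _ (not_not.mpr ha), fun a ha => ?_, fun a ha => ?_,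
      fun q hq => ?_, fun p hp => ?_⟩
    · have := congrFun hk (Sum.inr ⟨(a.1 + 1, a.2), ha⟩)
      rw [Matrix.mulVecLin_apply, MT_mulVec_inr] at this
      simp only [Nat.add_sub_cancel, Nat.succ_pos, if_true, Pi.zero_apply] at this
      exact (sub_eq_zero.mp this).symm
    · have := congrFun hk (Sum.inl ⟨(a.1, a.2 + 1), ha⟩)
      rw [Matrix.mulVecLin_apply, MT_mulVec_inl] at this
      simp only [Nat.add_sub_cancel, Nat.succ_pos, if_true, Pi.zero_apply] at this
      exact sub_eq_zero.mp this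
    · have := congrFun hk (Sum.inr ⟨(0, q), hq⟩)
      rw [Matrix.mulVecLin_apply, MT_mulVec_inr] at this
      simpa using this
    · have := congrFun hk (Sum.inl ⟨(p, 0), hp⟩)
      rw [Matrix.mulVecLin_apply, MT_mulVec_inl] at this
      simpa using this⟩
  left_inv h := by
    apply Subtype.ext
    exact ext0_restrict h.1 (fun a ha => h.2.1 a (not_not.mp ha))
  right_inv h' := by
    apply Subtype.ext
    funext s
    change ext0 k h'.1 s.1 = h'.1 s
    rw [ext0_of (S := fun a => ¬ K.F a) h'.1 s.2]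

end

end Groth.Agent.Helper7.PlDu
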