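import Mathlib
import Groth.Agent.Helper7.PlDuB

/-! Planar duality count, part C: the kernel of the relative coboundary and the main count. -/

set_option autoImplicit false

namespace Groth.Agent.Helper7.PlDu

open scoped Classical

noncomputable section

variable (K : Cpx) {k : Type*} [Field k]

/-- functions vanishing far away and constant along the edges of the complex -/
def Y : Submodule k (ℕ × ℕ → k) where
  carrier := {f | (∀ a : ℕ × ℕ, (K.P ≤ a.1 ∨ K.Q ≤ a.2) → f a = 0) ∧
    (∀ a : ℕ × ℕ, K.H a → f (a.1 + 1, a.2) = f a) ∧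
    (∀ a : ℕ × ℕ, K.W a → f (a.1, a.2 + 1) = f a)}
  zero_mem' := by simp
  add_mem' := by
    rintro g g' ⟨h1, h2, h3⟩ ⟨h1', h2', h3'⟩
    refine ⟨fun a ha => ?_, fun a ha => ?_, fun a ha => ?_⟩
    · simp [h1 a ha, h1' a ha]
    · simp [h2 a ha, h2' a ha]
    · simp [h3 a ha, h3' a ha]
  smul_mem' := by
    rintro c g ⟨h1, h2, h3⟩
    refine ⟨fun a ha => ?_, fun a ha => ?_, fun a ha => ?_⟩
    · simp [h1 a ha]
    · simp [h2 a ha]
    · simp [h3 a ha]

/-- the edge differences of a function -/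
def dE (f : ℕ × ℕ → k) : ({a : ℕ × ℕ // ¬ K.H a} ⊕ {a : ℕ × ℕ // ¬ K.W a}) → k :=
  Sum.elim (fun e => f (e.1.1 + 1, e.1.2) - f e.1) (fun e => f (e.1.1, e.1.2 + 1) - f e.1)

theorem ext0_dE_inl {f : ℕ × ℕ → k} (hf : f ∈ Y (k := k) K) (a : ℕ × ℕ) :
    ext0 k (fun e => dE K f (Sum.inl e)) a = f (a.1 + 1, a.2) - f a := by
  by_cases h : K.H a
  · rw [ext0_of_not _ (not_not.mpr h), hf.2.1 a h, sub_self]
  · rw [ext0_of _ h]
    rfl

theorem ext0_dE_inr {f : ℕ × ℕ → k} (hf : f ∈ Y (k := k) K) (a : ℕ × ℕ) :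
    ext0 k (fun e => dE K f (Sum.inr e)) a = f (a.1, a.2 + 1) - f a := by
  by_cases h : K.W a
  · rw [ext0_of_not _ (not_not.mpr h), hf.2.2 a h, sub_self]
  · rw [ext0_of _ h]
    rfl

/-- the map from `Y` to the kernel of the relative coboundary -/
def PhiY : Y (k := k) K →ₗ[k] LinearMap.ker (M (k := k) K).mulVecLin where
  toFun f := ⟨dE K f.1, by
    rw [LinearMap.mem_ker]
    funext s
    rw [Matrix.mulVecLin_apply, M_mulVec, ext0_dE_inl K f.2, ext0_dE_inl K f.2,
      ext0_dE_inr K f.2, ext0_dE_inr K f.2]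
    simp only [Pi.zero_apply]
    ring⟩
  map_add' f g := by
    apply Subtype.ext
    funext e
    rcases e with e | e <;> simp [dE] <;> ring
  map_smul' c f := by
    apply Subtype.ext
    funext e
    rcases e with e | e <;> simp [dE] <;> ring

theorem PhiY_injective : Function.Injective (PhiY (k := k) K) := by
  rw [← LinearMap.ker_eq_bot, LinearMap.ker_eq_bot']
  intro f hf
  have h0 : dE K f.1 = 0 := congrArg Subtype.val hf
  have hstep : ∀ a : ℕ × ℕ, f.1 (a.1 + 1, a.2) = f.1 a := by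
    intro a
    by_cases h : K.H a
    · exact f.2.2.1 a h
    · have := congrFun h0 (Sum.inl ⟨a, h⟩)
      simp only [dE, Sum.elim_inl, Pi.zero_apply] at this
      exact sub_eq_zero.mp this
  have hn : ∀ (n p q : ℕ), f.1 (p + n, q) = f.1 (p, q) := by
    intro n
    induction n with
    | zero => intro p q; rfl
    | succ n ih =>
      intro p q
      rw [← ih p q, ← hstep (p + n, q)]
      rfl
  apply Subtype.ext
  funext a
  obtain ⟨p, q⟩ := a
  rw [← hn K.P p q]
  exact f.2.1 _ (Or.inl (by simp))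

/-- the potential of a relative cocycle -/
def pot (uH : ℕ × ℕ → k) (a : ℕ × ℕ) : k :=
  - ∑ t ∈ Finset.range (K.P - a.1), uH (a.1 + t, a.2)

theorem pot_far (uH : ℕ × ℕ → k) (h1 : ∀ a : ℕ × ℕ, (K.P ≤ a.1 ∨ K.Q ≤ a.2) → uH a = 0)
    (a : ℕ × ℕ) (ha : K.P ≤ a.1 ∨ K.Q ≤ a.2) : pot K uH a = 0 := by
  unfold pot
  rw [neg_eq_zero]
  apply Finset.sum_eq_zero
  intro t _
  apply h1
  rcases ha with ha | ha
  · left; simp; omega
  · right; exact ha

theorem pot_stepH (uH : ℕ × ℕ → k) (h1 : ∀ a : ℕ × ℕ, (K.P ≤ a.1 ∨ K.Q ≤ a.2) → uH a = 0)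
    (p q : ℕ) : pot K uH (p + 1, q) - pot K uH (p, q) = uH (p, q) := by
  unfold pot
  by_cases hp : p < K.P
  · have e : K.P - p = (K.P - (p + 1)) + 1 := by omega
    simp only
    rw [e, Finset.sum_range_succ']
    have : ∀ t, uH (p + (t + 1), q) = uH (p + 1 + t, q) := by
      intro t
      congr 2
      omega
    simp only [this, add_zero]
    ring
  · have e1 : K.P - p = 0 := by omega
    have e2 : K.P - (p + 1) = 0 := by omega
    simp only [e1, e2, Finset.sum_range_zero, neg_zero, sub_zero]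
    exact (h1 (p, q) (Or.inl (by simp; omega))).symm

theorem pot_stepW (uH uW : ℕ × ℕ → k)
    (h1 : ∀ a : ℕ × ℕ, (K.P ≤ a.1 ∨ K.Q ≤ a.2) → uH a = 0)
    (h2 : ∀ a : ℕ × ℕ, (K.P ≤ a.1 ∨ K.Q ≤ a.2) → uW a = 0)
    (hc : ∀ s : ℕ × ℕ, uH s - uH (s.1, s.2 + 1) + uW (s.1 + 1, s.2) - uW s = 0)
    (p q : ℕ) : pot K uH (p, q + 1) - pot K uH (p, q) = uW (p, q) := by
  have key : ∀ (n p : ℕ), K.P ≤ p + n → pot K uH (p, q + 1) - pot K uH (p, q) = uW (p, q) := by
    intro n
    induction n with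
    | zero =>
      intro p hp
      rw [pot_far K uH h1 _ (Or.inl (by simpa using hp)), pot_far K uH h1 _ (Or.inl (by simpa using hp)),
        h2 (p, q) (Or.inl (by simpa using hp)), sub_zero]
    | succ n ih =>
      intro p hp
      have ih' := ih (p + 1) (by omega)
      have a1 := pot_stepH K uH h1 p q
      have a2 := pot_stepH K uH h1 p (q + 1)
      have a3 := hc (p, q)
      simp only at a3
      linear_combination ih' + a1 - a2 + a3
  exact key K.P p (by omega)

theorem PhiY_surjective : Function.Surjective (PhiY (k := k) K) := by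
  rintro ⟨u, hu⟩
  rw [LinearMap.mem_ker] at hu
  set uH : ℕ × ℕ → k := ext0 k (fun e => u (Sum.inl e)) with huH
  set uW : ℕ × ℕ → k := ext0 k (fun e => u (Sum.inr e)) with huW
  have h1 : ∀ a : ℕ × ℕ, (K.P ≤ a.1 ∨ K.Q ≤ a.2) → uH a = 0 := fun a ha =>
    ext0_of_not _ (not_not.mpr (K.far_H a ha))
  have h2 : ∀ a : ℕ × ℕ, (K.P ≤ a.1 ∨ K.Q ≤ a.2) → uW a = 0 := fun a ha =>
    ext0_of_not _ (not_not.mpr (K.far_W a ha))
  have hc : ∀ s : ℕ × ℕ, uH s - uH (s.1, s.2 + 1) + uW (s.1 + 1, s.2) - uW s = 0 := by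
    intro s
    by_cases hs : K.F s
    · rw [huH, huW, ext0_of_not _ (not_not.mpr (K.F_b s hs)), ext0_of_not _ (not_not.mpr (K.F_t s hs)),
        ext0_of_not _ (not_not.mpr (K.F_r s hs)), ext0_of_not _ (not_not.mpr (K.F_l s hs))]
      ring
    · have := congrFun hu ⟨s, hs⟩
      rw [Matrix.mulVecLin_apply, M_mulVec] at this
      exact this
  have hfY : pot K uH ∈ Y (k := k) K := by
    refine ⟨pot_far K uH h1, fun a ha => ?_, fun a ha => ?_⟩
    · have := pot_stepH K uH h1 a.1 a.2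
      rw [huH, ext0_of_not _ (not_not.mpr ha)] at this
      exact sub_eq_zero.mp this
    · have := pot_stepW K uH uW h1 h2 hc a.1 a.2
      rw [huW, ext0_of_not _ (not_not.mpr ha)] at this
      exact sub_eq_zero.mp this
  refine ⟨⟨pot K uH, hfY⟩, ?_⟩
  apply Subtype.ext
  funext e
  rcases e with e | e
  · change pot K uH (e.1.1 + 1, e.1.2) - pot K uH e.1 = u (Sum.inl e)
    rw [pot_stepH K uH h1 e.1.1 e.1.2, huH, ext0_of _ e.2]
  · change pot K uH (e.1.1, e.1.2 + 1) - pot K uH e.1 = u (Sum.inr e)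
    rw [pot_stepW K uH uW h1 h2 hc e.1.1 e.1.2, huW, ext0_of _ e.2]

/-- the splitting of `Y` -/
def PsiY : Y (k := k) K →ₗ[k] (ZA (k := k) K × ({a : ℕ × ℕ // ¬ K.V a} → k)) where
  toFun f := (⟨fun a => if K.V a then f.1 a else 0, by
    obtain ⟨f, h1, h2, h3⟩ := f
    refine ⟨fun a ha => if_neg ha, fun a ha => ?_, fun a ha => ?_, fun a ha => ?_⟩
    · simp only
      rw [if_pos (K.H_r a ha), if_pos (K.H_l a ha), h2 a ha]
    · simp only
      rw [if_pos (K.W_t a ha), if_pos (K.W_b a ha), h3 a ha]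
    · simp only
      rw [h1 a ha, ite_self]⟩, fun v => f.1 v.1)
  map_add' f g := by
    apply Prod.ext
    · apply Subtype.ext
      funext a
      simp only [Submodule.coe_add, Pi.add_apply, Prod.fst_add]
      split_ifs <;> simp
    · rfl
  map_smul' c f := by
    apply Prod.ext
    · apply Subtype.ext
      funext a
      simp only [Submodule.coe_smul, Pi.smul_apply, Prod.smul_fst, RingHom.id_apply]
      split_ifs <;> simp
    · rfl

theorem PsiY_injective : Function.Injective (PsiY (k := k) K) := by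
  rw [← LinearMap.ker_eq_bot, LinearMap.ker_eq_bot']
  intro f hf
  have h1 : (fun a => if K.V a then f.1 a else 0) = (0 : ℕ × ℕ → k) :=
    congrArg (fun x => x.1.1) hf
  have h2 : (fun v : {a : ℕ × ℕ // ¬ K.V a} => f.1 v.1) = 0 := congrArg Prod.snd hf
  apply Subtype.ext
  funext a
  by_cases ha : K.V a
  · have := congrFun h1 a
    simp only [if_pos ha] at this
    exact this
  · exact congrFun h2 ⟨a, ha⟩

theorem PsiY_surjective : Function.Surjective (PsiY (k := k) K) := by
  rintro ⟨⟨g, g1, g2, g3, g4⟩, v⟩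
  have hfY : (fun a => g a + ext0 k v a) ∈ Y (k := k) K := by
    refine ⟨fun a ha => ?_, fun a ha => ?_, fun a ha => ?_⟩
    · simp only
      rw [g4 a ha, ext0_of_not _ (not_not.mpr (K.far_V a ha)), add_zero]
    · simp only
      rw [g2 a ha, ext0_of_not _ (not_not.mpr (K.H_r a ha)), ext0_of_not _ (not_not.mpr (K.H_l a ha))]
    · simp only
      rw [g3 a ha, ext0_of_not _ (not_not.mpr (K.W_t a ha)), ext0_of_not _ (not_not.mpr (K.W_b a ha))]
  refine ⟨⟨_, hfY⟩, ?_⟩
  apply Prod.ext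
  · apply Subtype.ext
    funext a
    change (if K.V a then g a + ext0 k v a else 0) = g a
    by_cases ha : K.V a
    · rw [if_pos ha, ext0_of_not _ (not_not.mpr ha), add_zero]
    · rw [if_neg ha, g1 a ha]
  · funext w
    change g w.1 + ext0 k v w.1 = v w
    rw [g1 w.1 w.2, zero_add, ext0_of _ w.2]

/-- the planar duality count -/
theorem main :
    Module.finrank k (ZB (k := k) K) + Nat.card {a : ℕ × ℕ // ¬ K.H a} +
        Nat.card {a : ℕ × ℕ // ¬ K.W a} =
      Module.finrank k (ZA (k := k) K) + Nat.card {a : ℕ × ℕ // ¬ K.V a} +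
        Nat.card {a : ℕ × ℕ // ¬ K.F a} := by
  have e1 : Y (k := k) K ≃ₗ[k] LinearMap.ker (M (k := k) K).mulVecLin :=
    LinearEquiv.ofBijective (PhiY K) ⟨PhiY_injective K, PhiY_surjective K⟩
  have e2 : Y (k := k) K ≃ₗ[k] (ZA (k := k) K × ({a : ℕ × ℕ // ¬ K.V a} → k)) :=
    LinearEquiv.ofBijective (PsiY K) ⟨PsiY_injective K, PsiY_surjective K⟩
  have hfinY : Module.Finite k (Y (k := k) K) := Module.Finite.equiv e1.symm
  have hfinZA : Module.Finite k (ZA (k := k) K) :=
    Module.Finite.of_surjective ((LinearMap.fst k _ _).comp e2.toLinearMap) (by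
      intro g
      obtain ⟨f, hf⟩ := e2.surjective (g, 0)
      exact ⟨f, by simp [hf]⟩)
  have r1 := LinearMap.finrank_range_add_finrank_ker (M (k := k) K).mulVecLin
  have r2 := LinearMap.finrank_range_add_finrank_ker (M (k := k) K).transpose.mulVecLin
  have r3 : Module.finrank k (LinearMap.range (M (k := k) K).transpose.mulVecLin) =
      Module.finrank k (LinearMap.range (M (k := k) K).mulVecLin) :=
    Matrix.rank_transpose (M (k := k) K)
  have r4 : Module.finrank k (LinearMap.ker (M (k := k) K).mulVecLin) =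
      Module.finrank k (ZA (k := k) K) + Nat.card {a : ℕ × ℕ // ¬ K.V a} := by
    rw [← e1.finrank_eq, e2.finrank_eq, Module.finrank_prod, Module.finrank_fintype_fun_eq_card,
      Nat.card_eq_fintype_card]
  have r5 : Module.finrank k (LinearMap.ker (M (k := k) K).transpose.mulVecLin) =
      Module.finrank k (ZB (k := k) K) := ((equivB K).finrank_eq).symm
  rw [Module.finrank_fintype_fun_eq_card, Fintype.card_sum] at r1
  rw [Module.finrank_fintype_fun_eq_card] at r2
  simp only [Nat.card_eq_fintype_card] at *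
  omega

end

end Groth.Agent.Helper7.PlDu
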