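import Mathlib
import Groth.Agent.Helper7.PlDuC

/-! Planar duality count, part D: the complexes attached to a staircase function and the
summed count. -/

set_option autoImplicit false

namespace Groth.Agent.Helper7.PlDu

open scoped Classical

noncomputable section

/-- an antitone, finitely supported function on the quadrant -/
structure StairFn where
  b : ℕ → ℕ → ℕ
  anti : ∀ {p q p' q' : ℕ}, p ≤ p' → q ≤ q' → b p' q' ≤ b p q
  P : ℕ
  Q : ℕ
  zero : ∀ p q : ℕ, (P ≤ p ∨ Q ≤ q) → b p q = 0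

/-- the complex of cells of weight `< m` -/
def StairFn.cpx (S : StairFn) (i j m : ℕ) (hm : 0 < m) : Cpx where
  V a := S.b a.1 a.2 < S.b (a.1 + i) (a.2 + j) + m
  H a := S.b a.1 a.2 < S.b (a.1 + 1 + i) (a.2 + j) + m
  W a := S.b a.1 a.2 < S.b (a.1 + i) (a.2 + 1 + j) + m
  F a := S.b a.1 a.2 < S.b (a.1 + 1 + i) (a.2 + 1 + j) + m
  P := S.P
  Q := S.Q
  far_V a ha := by rw [S.zero _ _ ha]; omega
  far_H a ha := by rw [S.zero _ _ ha]; omega
  far_W a ha := by rw [S.zero _ _ ha]; omega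
  far_F a ha := by rw [S.zero _ _ ha]; omega
  H_l a h := lt_of_lt_of_le h (Nat.add_le_add_right (S.anti (by omega) le_rfl) m)
  H_r a h := lt_of_le_of_lt (S.anti (by simp) le_rfl) h
  W_b a h := lt_of_lt_of_le h (Nat.add_le_add_right (S.anti le_rfl (by omega)) m)
  W_t a h := lt_of_le_of_lt (S.anti le_rfl (by simp)) h
  F_b a h := lt_of_lt_of_le h (Nat.add_le_add_right (S.anti le_rfl (by omega)) m)
  F_t a h := lt_of_le_of_lt (S.anti le_rfl (by simp)) h
  F_l a h := lt_of_lt_of_le h (Nat.add_le_add_right (S.anti (by omega) le_rfl) m)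
  F_r a h := lt_of_le_of_lt (S.anti (by simp) le_rfl) h

variable (S : StairFn)

/-- the box -/
def StairFn.box : Finset (ℕ × ℕ) := Finset.range S.P ×ˢ Finset.range S.Q

theorem card_le_eq (w : ℕ × ℕ → ℕ) (hw : ∀ a : ℕ × ℕ, (S.P ≤ a.1 ∨ S.Q ≤ a.2) → w a = 0)
    (m : ℕ) (hm : 0 < m) :
    Nat.card {a : ℕ × ℕ // m ≤ w a} = ∑ a ∈ S.box, if m ≤ w a then 1 else 0 := by
  rw [← Finset.card_filter]
  have e : {a : ℕ × ℕ // m ≤ w a} ≃ {a : ℕ × ℕ // a ∈ S.box.filter (fun a => m ≤ w a)} := by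
    apply Equiv.subtypeEquivRight
    intro a
    simp only [Finset.mem_filter, StairFn.box, Finset.mem_product, Finset.mem_range]
    constructor
    · intro h
      refine ⟨?_, h⟩
      by_contra hcon
      have := hw a (by omega)
      omega
    · exact fun h => h.2
  rw [Nat.card_congr e, Nat.card_eq_fintype_card, Fintype.card_coe]

theorem sum_card (w : ℕ × ℕ → ℕ) (hw : ∀ a : ℕ × ℕ, (S.P ≤ a.1 ∨ S.Q ≤ a.2) → w a = 0)
    (M : ℕ) (hM : ∀ a, w a ≤ M) :
    ∑ m' ∈ Finset.range M, Nat.card {a : ℕ × ℕ // m' + 1 ≤ w a} = ∑ a ∈ S.box, w a := by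
  have h1 : ∀ m' ∈ Finset.range M, Nat.card {a : ℕ × ℕ // m' + 1 ≤ w a} =
      ∑ a ∈ S.box, if m' + 1 ≤ w a then 1 else 0 := fun m' _ =>
    card_le_eq S w hw (m' + 1) (Nat.succ_pos _)
  rw [Finset.sum_congr rfl h1, Finset.sum_comm]
  apply Finset.sum_congr rfl
  intro a _
  rw [← Finset.card_filter]
  have : (Finset.range M).filter (fun m' => m' + 1 ≤ w a) = Finset.range (w a) := by
    ext m'
    simp only [Finset.mem_filter, Finset.mem_range]
    have := hM a
    omega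
  rw [this, Finset.card_range]

/-- shifting a sum over a range whose last term vanishes -/
theorem sum_shift (g : ℕ → ℕ) (n : ℕ) (hg : g n = 0) :
    ∑ p ∈ Finset.range n, g (p + 1) + g 0 = ∑ p ∈ Finset.range n, g p := by
  have h1 := Finset.sum_range_succ' g n
  have h2 := Finset.sum_range_succ g n
  omega

theorem box_sum (g : ℕ × ℕ → ℕ) :
    ∑ a ∈ S.box, g a = ∑ p ∈ Finset.range S.P, ∑ q ∈ Finset.range S.Q, g (p, q) := by
  rw [StairFn.box, Finset.sum_product]

/-- the alternating sum of the weights -/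
theorem weight_sum (i j : ℕ) :
    ∑ a ∈ S.box, (S.b a.1 a.2 - S.b (a.1 + i) (a.2 + j)) +
        ∑ a ∈ S.box, (S.b a.1 a.2 - S.b (a.1 + 1 + i) (a.2 + 1 + j)) + S.b i j =
      ∑ a ∈ S.box, (S.b a.1 a.2 - S.b (a.1 + 1 + i) (a.2 + j)) +
        ∑ a ∈ S.box, (S.b a.1 a.2 - S.b (a.1 + i) (a.2 + 1 + j)) := by
  set B : ℕ → ℕ → ℕ := fun p q => S.b (p + i) (q + j) with hB
  have hB0 : ∀ p q, (S.P ≤ p ∨ S.Q ≤ q) → B p q = 0 := by
    intro p q h
    apply S.zero
    omega
  have sub : ∀ (c : ℕ × ℕ → ℕ), (∀ a, c a ≤ S.b a.1 a.2) →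
      ∑ a ∈ S.box, (S.b a.1 a.2 - c a) + ∑ a ∈ S.box, c a = ∑ a ∈ S.box, S.b a.1 a.2 := by
    intro c hc
    rw [← Finset.sum_add_distrib]
    apply Finset.sum_congr rfl
    intro a _
    exact Nat.sub_add_cancel (hc a)
  have s1 := sub (fun a => B a.1 a.2) (fun a => S.anti (by omega) (by omega))
  have s2 := sub (fun a => B (a.1 + 1) (a.2 + 1)) (fun a => S.anti (by omega) (by omega))
  have s3 := sub (fun a => B (a.1 + 1) a.2) (fun a => S.anti (by omega) (by omega))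
  have s4 := sub (fun a => B a.1 (a.2 + 1)) (fun a => S.anti (by omega) (by omega))
  -- the four double sums
  have t1 : ∑ a ∈ S.box, B (a.1 + 1) a.2 + ∑ q ∈ Finset.range S.Q, B 0 q =
      ∑ a ∈ S.box, B a.1 a.2 := by
    rw [box_sum, box_sum, Finset.sum_comm, Finset.sum_comm (s := Finset.range S.P),
      ← Finset.sum_add_distrib]
    apply Finset.sum_congr rfl
    intro q _
    exact sum_shift (fun p => B p q) S.P (hB0 _ _ (Or.inl le_rfl))
  have t2 : ∑ a ∈ S.box, B a.1 (a.2 + 1) + ∑ p ∈ Finset.range S.P, B p 0 =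
      ∑ a ∈ S.box, B a.1 a.2 := by
    rw [box_sum, box_sum, ← Finset.sum_add_distrib]
    apply Finset.sum_congr rfl
    intro p _
    exact sum_shift (fun q => B p q) S.Q (hB0 _ _ (Or.inr le_rfl))
  have t3 : ∑ a ∈ S.box, B (a.1 + 1) (a.2 + 1) + ∑ q ∈ Finset.range S.Q, B 0 (q + 1) =
      ∑ a ∈ S.box, B a.1 (a.2 + 1) := by
    rw [box_sum, box_sum, Finset.sum_comm, Finset.sum_comm (s := Finset.range S.P),
      ← Finset.sum_add_distrib]
    apply Finset.sum_congr rfl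
    intro q _
    exact sum_shift (fun p => B p (q + 1)) S.P (hB0 _ _ (Or.inl le_rfl))
  have t4 : ∑ q ∈ Finset.range S.Q, B 0 (q + 1) + B 0 0 = ∑ q ∈ Finset.range S.Q, B 0 q :=
    sum_shift (fun q => B 0 q) S.Q (hB0 _ _ (Or.inr le_rfl))
  have e00 : B 0 0 = S.b i j := by simp [hB]
  have r1 : ∀ a : ℕ × ℕ, S.b (a.1 + 1 + i) (a.2 + 1 + j) = B (a.1 + 1) (a.2 + 1) := fun a => rfl
  have r2 : ∀ a : ℕ × ℕ, S.b (a.1 + 1 + i) (a.2 + j) = B (a.1 + 1) a.2 := fun a => rfl
  have r3 : ∀ a : ℕ × ℕ, S.b (a.1 + i) (a.2 + 1 + j) = B a.1 (a.2 + 1) := fun a => rfl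
  have r4 : ∀ a : ℕ × ℕ, S.b (a.1 + i) (a.2 + j) = B a.1 a.2 := fun a => rfl
  simp only [r1, r2, r3, r4]
  omega

variable {k : Type*} [Field k]

/-- the summed planar duality count -/
theorem sum_ZA_eq (i j M : ℕ) (hM : ∀ p q, S.b p q ≤ M) :
    ∑ m' ∈ Finset.range M, Module.finrank k (ZA (k := k) (S.cpx i j (m' + 1) (Nat.succ_pos _))) =
      ∑ m' ∈ Finset.range M, Module.finrank k (ZB (k := k) (S.cpx i j (m' + 1) (Nat.succ_pos _))) +
        S.b i j := by
  have hm := fun m' : ℕ => main (k := k) (S.cpx i j (m' + 1) (Nat.succ_pos _))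
  have hsum := Finset.sum_congr (s₁ := Finset.range M) rfl (fun m' _ => hm m')
  rw [Finset.sum_add_distrib, Finset.sum_add_distrib, Finset.sum_add_distrib,
    Finset.sum_add_distrib] at hsum
  have cV : ∑ m' ∈ Finset.range M,
      Nat.card {a : ℕ × ℕ // ¬ (S.cpx i j (m' + 1) (Nat.succ_pos _)).V a} =
      ∑ a ∈ S.box, (S.b a.1 a.2 - S.b (a.1 + i) (a.2 + j)) := by
    rw [← sum_card S (fun a => S.b a.1 a.2 - S.b (a.1 + i) (a.2 + j))
      (fun a ha => by rw [S.zero _ _ ha]; simp) M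
      (fun a => le_trans (Nat.sub_le _ _) (hM _ _))]
    apply Finset.sum_congr rfl
    intro m' _
    apply Nat.card_congr
    apply Equiv.subtypeEquivRight
    intro a
    simp only [StairFn.cpx]
    omega
  have cH : ∑ m' ∈ Finset.range M,
      Nat.card {a : ℕ × ℕ // ¬ (S.cpx i j (m' + 1) (Nat.succ_pos _)).H a} =
      ∑ a ∈ S.box, (S.b a.1 a.2 - S.b (a.1 + 1 + i) (a.2 + j)) := by
    rw [← sum_card S (fun a => S.b a.1 a.2 - S.b (a.1 + 1 + i) (a.2 + j))
      (fun a ha => by rw [S.zero _ _ ha]; simp) M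
      (fun a => le_trans (Nat.sub_le _ _) (hM _ _))]
    apply Finset.sum_congr rfl
    intro m' _
    apply Nat.card_congr
    apply Equiv.subtypeEquivRight
    intro a
    simp only [StairFn.cpx]
    omega
  have cW : ∑ m' ∈ Finset.range M,
      Nat.card {a : ℕ × ℕ // ¬ (S.cpx i j (m' + 1) (Nat.succ_pos _)).W a} =
      ∑ a ∈ S.box, (S.b a.1 a.2 - S.b (a.1 + i) (a.2 + 1 + j)) := by
    rw [← sum_card S (fun a => S.b a.1 a.2 - S.b (a.1 + i) (a.2 + 1 + j))
      (fun a ha => by rw [S.zero _ _ ha]; simp) M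
      (fun a => le_trans (Nat.sub_le _ _) (hM _ _))]
    apply Finset.sum_congr rfl
    intro m' _
    apply Nat.card_congr
    apply Equiv.subtypeEquivRight
    intro a
    simp only [StairFn.cpx]
    omega
  have cF : ∑ m' ∈ Finset.range M,
      Nat.card {a : ℕ × ℕ // ¬ (S.cpx i j (m' + 1) (Nat.succ_pos _)).F a} =
      ∑ a ∈ S.box, (S.b a.1 a.2 - S.b (a.1 + 1 + i) (a.2 + 1 + j)) := by
    rw [← sum_card S (fun a => S.b a.1 a.2 - S.b (a.1 + 1 + i) (a.2 + 1 + j))
      (fun a ha => by rw [S.zero _ _ ha]; simp) M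
      (fun a => le_trans (Nat.sub_le _ _) (hM _ _))]
    apply Finset.sum_congr rfl
    intro m' _
    apply Nat.card_congr
    apply Equiv.subtypeEquivRight
    intro a
    simp only [StairFn.cpx]
    omega
  have hw := weight_sum S i j
  rw [cV, cH, cW, cF] at hsum
  omega

end

end Groth.Agent.Helper7.PlDu
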