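import Mathlib
import Groth.Prelude.Def_W4c1hilbpnTgt
import Groth.Agent.Helper7.HTd
import Groth.Agent.Helper6.MonoIdeal

/-!
# Staircase numbers of a monomial ideal of finite colength in three variables, and the region for
multidegrees `(a1, a2, c)` (helper7)
-/

set_option autoImplicit false
set_option linter.style.haveILetI false
set_option linter.unusedSectionVars false

namespace Groth.Agent.Helper7.Stair

open MvPolynomial W4c1hilbpn Groth.Agent.Helper7.HTa Groth.Agent.Helper7.HTb
  Groth.Agent.Helper7.HTc Groth.Agent.Helper7.HTd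

variable {k : Type*} [Field k] {I : Ideal (MvPolynomial (Fin 3) k)}

theorem e3_0 (a b c : ℕ) : e3 a b c 0 = a := rfl
theorem e3_1 (a b c : ℕ) : e3 a b c 1 = b := rfl
theorem e3_2 (a b c : ℕ) : e3 a b c 2 = c := rfl

theorem e3_ext (β : Fin 3 →₀ ℕ) : β = e3 (β 0) (β 1) (β 2) := by
  ext l
  fin_cases l <;> rfl

theorem toN_eq_e3 (v : Fin 3 → ℤ) : toN v = e3 (v 0).toNat (v 1).toNat (v 2).toNat := by
  ext l
  fin_cases l <;> rfl

theorem e3_add (a b c a' b' c' : ℕ) : e3 a b c + e3 a' b' c' = e3 (a + a') (b + b') (c + c') := by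
  ext l
  fin_cases l <;> rfl

theorem e3_inj_c (a b : ℕ) : Function.Injective (fun c => e3 a b c) := by
  intro c c' h
  have := congrArg (fun f => f 2) h
  exact this

/-- `exps I` is an up-set -/
theorem e3_mem_of_le {a b c a' b' c' : ℕ} (h : e3 a b c ∈ exps I) (ha : a ≤ a') (hb : b ≤ b')
    (hc : c ≤ c') : e3 a' b' c' ∈ exps I := by
  have := exps_add h (e3 (a' - a) (b' - b) (c' - c))
  rw [e3_add] at this
  have e1 : a + (a' - a) = a' := by omega
  have e2 : b + (b' - b) = b' := by omega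
  have e3' : c + (c' - c) = c' := by omega
  rwa [e1, e2, e3'] at this

variable (hI : IsMonomial I) [Module.Finite k (MvPolynomial (Fin 3) k ⧸ I)]

include hI in
theorem finite_col (p q : ℕ) : {c : ℕ | e3 p q c ∉ exps I}.Finite := by
  have hfin := Groth.Agent.Helper6.MonoIdeal.finite_compl_exps I hI
  exact hfin.preimage (Set.injOn_of_injective (e3_inj_c p q))

include hI in
/-- `x^p y^q z^t ∈ I ↔ b_{pq} ≤ t` -/
theorem mem_exps_iff (p q t : ℕ) : e3 p q t ∈ exps I ↔ stairZ I p q ≤ t := by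
  classical
  have hfin := finite_col hI p q
  set S : Set ℕ := {c : ℕ | e3 p q c ∉ exps I} with hS
  have hcard : stairZ I p q = S.ncard := by
    unfold stairZ
    exact Nat.card_coe_set_eq S
  have hlower : ∀ s ∈ S, ∀ s' ≤ s, s' ∈ S := by
    intro s hs s' hs' hmem
    exact hs (e3_mem_of_le hmem le_rfl le_rfl hs')
  constructor
  · intro hmem
    by_contra hlt
    push Not at hlt
    -- `S ⊆ Iio t`
    have hsub : S ⊆ (Finset.range t : Set ℕ) := by
      intro s hs
      rw [Finset.coe_range, Set.mem_Iio]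
      by_contra hge
      push Not at hge
      exact hlower s hs t hge hmem
    have := Set.ncard_le_ncard hsub (Finset.finite_toSet _)
    rw [Set.ncard_coe_finset, Finset.card_range] at this
    omega
  · intro hle
    by_contra hnot
    have hsub : (Finset.range (t + 1) : Set ℕ) ⊆ S := by
      intro s hs
      rw [Finset.coe_range, Set.mem_Iio] at hs
      exact hlower t hnot s (by omega)
    have := Set.ncard_le_ncard hsub hfin
    rw [Set.ncard_coe_finset, Finset.card_range] at this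
    omega

include hI in
theorem stairZ_mono {p q p' q' : ℕ} (hp : p ≤ p') (hq : q ≤ q') :
    stairZ I p' q' ≤ stairZ I p q := by
  have h1 : e3 p q (stairZ I p q) ∈ exps I := (mem_exps_iff hI p q _).2 le_rfl
  exact (mem_exps_iff hI p' q' _).1 (e3_mem_of_le h1 hp hq le_rfl)

include hI in
/-- description of the region for a multidegree `(a1, a2, c)` -/
theorem mem_region_iff' (a1 a2 : ℕ) (α : Fin 3 → ℤ) (h0 : α 0 = a1) (h1 : α 1 = a2)
    (v : Fin 3 → ℤ) :
    v ∈ region I α ↔ ∃ p q : ℕ, a1 ≤ p ∧ a2 ≤ q ∧ v 0 = p ∧ v 1 = q ∧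
      (stairZ I (p - a1) (q - a2) : ℤ) + α 2 ≤ v 2 ∧ v 2 < stairZ I p q := by
  rw [mem_region_iff]
  constructor
  · rintro ⟨⟨β, hβ, rfl⟩, hnot⟩
    refine ⟨β 0 + a1, β 1 + a2, Nat.le_add_left _ _, Nat.le_add_left _ _, ?_, ?_, ?_, ?_⟩
    · simp only [tr, h0]; push_cast; ring
    · simp only [tr, h1]; push_cast; ring
    · rw [Nat.add_sub_cancel, Nat.add_sub_cancel]
      have hβ' : e3 (β 0) (β 1) (β 2) ∈ exps I := by rw [← e3_ext]; exact hβ
      have := (mem_exps_iff hI _ _ _).1 hβ'
      simp only [tr]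
      have : (stairZ I (β 0) (β 1) : ℤ) ≤ (β 2 : ℤ) := by exact_mod_cast this
      linarith
    · by_contra hge
      push Not at hge
      apply hnot
      have hv0 : tr α β 0 = ((β 0 + a1 : ℕ) : ℤ) := by simp only [tr, h0]; push_cast; ring
      have hv1 : tr α β 1 = ((β 1 + a2 : ℕ) : ℤ) := by simp only [tr, h1]; push_cast; ring
      have hv2 : 0 ≤ tr α β 2 := le_trans (by positivity) hge
      refine ⟨?_, ?_⟩
      · intro i
        fin_cases i
        · show 0 ≤ tr α β 0
          rw [hv0]; positivity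
        · show 0 ≤ tr α β 1
          rw [hv1]; positivity
        · exact hv2
      · rw [toN_eq_e3, hv0, hv1, Int.toNat_natCast, Int.toNat_natCast, mem_exps_iff hI]
        have : ((stairZ I (β 0 + a1) (β 1 + a2) : ℕ) : ℤ) ≤ ((tr α β 2).toNat : ℤ) := by
          rw [Int.toNat_of_nonneg hv2]; exact hge
        exact_mod_cast this
  · rintro ⟨p, q, hp, hq, hv0, hv1, hlo, hhi⟩
    have hnn2 : 0 ≤ v 2 - α 2 := by
      have : (0 : ℤ) ≤ stairZ I (p - a1) (q - a2) := by positivity
      linarith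
    refine ⟨⟨e3 (p - a1) (q - a2) (v 2 - α 2).toNat, ?_, ?_⟩, ?_⟩
    · rw [mem_exps_iff hI]
      have : ((stairZ I (p - a1) (q - a2) : ℕ) : ℤ) ≤ ((v 2 - α 2).toNat : ℤ) := by
        rw [Int.toNat_of_nonneg hnn2]; linarith
      exact_mod_cast this
    · funext i
      fin_cases i
      · show v 0 = ((e3 (p - a1) (q - a2) (v 2 - α 2).toNat 0 : ℕ) : ℤ) + α 0
        rw [e3_0, hv0, h0]
        push_cast [Nat.cast_sub hp]
        ring
      · show v 1 = ((e3 (p - a1) (q - a2) (v 2 - α 2).toNat 1 : ℕ) : ℤ) + α 1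
        rw [e3_1, hv1, h1]
        push_cast [Nat.cast_sub hq]
        ring
      · show v 2 = ((e3 (p - a1) (q - a2) (v 2 - α 2).toNat 2 : ℕ) : ℤ) + α 2
        rw [e3_2, Int.toNat_of_nonneg hnn2]
        ring
    · rintro ⟨hnn, hmem⟩
      rw [toN_eq_e3, hv0, hv1, Int.toNat_natCast, Int.toNat_natCast, mem_exps_iff hI] at hmem
      have h2 : ((stairZ I p q : ℕ) : ℤ) ≤ ((v 2).toNat : ℤ) := by exact_mod_cast hmem
      rw [Int.toNat_of_nonneg (hnn 2)] at h2
      linarith

end Groth.Agent.Helper7.Stair
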