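import Mathlib
import Groth.Agent.Helper7.StairA

/-!
# Bounded components of the region for multidegrees `(a1, a2, c)`, `c < 0`, and corner cells (helper7)
-/

set_option autoImplicit false
set_option linter.style.haveILetI false
set_option linter.unusedSectionVars false

namespace Groth.Agent.Helper7.Stair

open MvPolynomial W4c1hilbpn Groth.Agent.Helper7.HTa Groth.Agent.Helper7.HTb
  Groth.Agent.Helper7.HTc Groth.Agent.Helper7.HTd

variable {k : Type*} [Field k] {I : Ideal (MvPolynomial (Fin 3) k)}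
variable (hI : IsMonomial I) [Module.Finite k (MvPolynomial (Fin 3) k ⧸ I)]
variable (a1 a2 : ℕ) (α : Fin 3 → ℤ) (h0 : α 0 = a1) (h1 : α 1 = a2)

theorem vec_ext (v : Fin 3 → ℤ) : v = ![v 0, v 1, v 2] := by
  funext i
  fin_cases i <;> rfl

theorem stp_two (p q s : ℤ) : stp ![p, q, s] 2 = ![p, q, s + 1] := by
  funext i
  fin_cases i <;> simp [stp]

theorem stp_zero (p q s : ℤ) : stp ![p, q, s] 0 = ![p + 1, q, s] := by
  funext i
  fin_cases i <;> simp [stp]

theorem stp_one (p q s : ℤ) : stp ![p, q, s] 1 = ![p, q + 1, s] := by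
  funext i
  fin_cases i <;> simp [stp]

include hI h0 h1 in
/-- membership of `(p, q, s)` in the region -/
theorem mem_region_vec (p q : ℕ) (hp : a1 ≤ p) (hq : a2 ≤ q) (s : ℤ) :
    ![(p : ℤ), (q : ℤ), s] ∈ region I α ↔
      (stairZ I (p - a1) (q - a2) : ℤ) + α 2 ≤ s ∧ s < stairZ I p q := by
  rw [mem_region_iff' hI a1 a2 α h0 h1]
  constructor
  · rintro ⟨p', q', _, _, e0, e1, hlo, hhi⟩
    have e0' : (p : ℤ) = p' := e0
    have e1' : (q : ℤ) = q' := e1
    have : p = p' := by exact_mod_cast e0'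
    subst this
    have : q = q' := by exact_mod_cast e1'
    subst this
    exact ⟨hlo, hhi⟩
  · rintro ⟨hlo, hhi⟩
    exact ⟨p, q, hp, hq, rfl, rfl, hlo, hhi⟩

include hI h0 h1 in
/-- a vertical segment inside the region is connected -/
theorem reachable_vertical (p q : ℕ) (hp : a1 ≤ p) (hq : a2 ≤ q) (s : ℤ) :
    ∀ (n : ℕ) (hs : ![(p : ℤ), (q : ℤ), s] ∈ region I α)
      (hs' : ![(p : ℤ), (q : ℤ), s + n] ∈ region I α),
      (G I α).Reachable ⟨_, hs⟩ ⟨_, hs'⟩ := by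
  intro n
  induction n with
  | zero =>
    intro hs hs'
    have : (⟨_, hs⟩ : region I α) = ⟨_, hs'⟩ := by
      apply Subtype.ext
      simp
    rw [this]
  | succ n ih =>
    intro hs hs'
    have hmid : ![(p : ℤ), (q : ℤ), s + n] ∈ region I α := by
      rw [mem_region_vec hI a1 a2 α h0 h1 p q hp hq] at hs hs' ⊢
      push_cast at hs'
      constructor
      · linarith [hs.1]
      · linarith [hs'.2]
    refine (ih hs hmid).trans (SimpleGraph.Adj.reachable ?_)
    rw [SimpleGraph.induce_adj]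
    show (stepGraph (Fin 3)).Adj ![(p : ℤ), (q : ℤ), s + n] ![(p : ℤ), (q : ℤ), s + (n + 1 : ℕ)]
    have : ![(p : ℤ), (q : ℤ), s + (n + 1 : ℕ)] = stp ![(p : ℤ), (q : ℤ), s + n] 2 := by
      rw [stp_two]
      push_cast
      rw [add_assoc]
    rw [this]
    exact adj_stp _ 2

include hI h0 h1 in
/-- every bounded component contains the bottom cell of a column which is a corner cell -/
theorem exists_cell (K : Bdd I α) :
    ∃ p q n : ℕ, a1 ≤ p ∧ a2 ≤ q ∧ (n : ℤ) = (stairZ I (p - a1) (q - a2) : ℤ) + α 2 ∧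
      stairZ I (p + 1) q ≤ n ∧ stairZ I p (q + 1) ≤ n ∧ n < stairZ I p q ∧
      ∃ h : ![(p : ℤ), (q : ℤ), (n : ℤ)] ∈ region I α,
        (G I α).connectedComponentMk ⟨_, h⟩ = K.1 := by
  classical
  have hσ : ∀ j : Fin 3, ∃ i, i ≠ j := by
    intro j
    fin_cases j
    · exact ⟨1, by decide⟩
    · exact ⟨0, by decide⟩
    · exact ⟨0, by decide⟩
  have hfin : K.1.supp.Finite := K.2
  have hne : K.1.supp.Nonempty := K.1.nonempty_supp
  obtain ⟨v₀, hv₀, hmax⟩ := Set.exists_max_image K.1.supp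
    (fun v : region I α => v.1 0 + v.1 1) hfin hne
  obtain ⟨p, q, hp, hq, e0, e1, hlo, hhi⟩ := (mem_region_iff' hI a1 a2 α h0 h1 v₀.1).1 v₀.2
  have hnnK : ∀ v ∈ K.1.supp, nn v.1 := (supp_finite_iff hI hσ K.1).1 hfin
  set t₀ : ℤ := (stairZ I (p - a1) (q - a2) : ℤ) + α 2 with ht₀
  have hv₀eq : v₀.1 = ![(p : ℤ), (q : ℤ), v₀.1 2] := by
    rw [← e0, ← e1]; exact vec_ext v₀.1
  have hw₀ : ![(p : ℤ), (q : ℤ), t₀] ∈ region I α := by
    rw [mem_region_vec hI a1 a2 α h0 h1 p q hp hq]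
    exact ⟨le_rfl, lt_of_le_of_lt hlo hhi⟩
  have hvv : ![(p : ℤ), (q : ℤ), t₀ + ((v₀.1 2 - t₀).toNat : ℕ)] ∈ region I α := by
    rw [Int.toNat_of_nonneg (by linarith), add_sub_cancel, ← hv₀eq]
    exact v₀.2
  have hreach := reachable_vertical hI a1 a2 α h0 h1 p q hp hq t₀ _ hw₀ hvv
  have hveq : (⟨_, hvv⟩ : region I α) = v₀ := by
    apply Subtype.ext
    show ![(p : ℤ), (q : ℤ), t₀ + ((v₀.1 2 - t₀).toNat : ℕ)] = v₀.1
    rw [Int.toNat_of_nonneg (by linarith), add_sub_cancel, ← hv₀eq]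
  rw [hveq] at hreach
  have hmk0 : (G I α).connectedComponentMk v₀ = K.1 := hv₀
  have hmkw : (G I α).connectedComponentMk ⟨_, hw₀⟩ = K.1 := by
    rw [← hmk0]
    exact SimpleGraph.ConnectedComponent.sound hreach
  have hnnw := hnnK ⟨_, hw₀⟩ hmkw
  have ht₀nn : 0 ≤ t₀ := hnnw 2
  obtain ⟨n, hn⟩ : ∃ n : ℕ, (n : ℤ) = t₀ := ⟨t₀.toNat, Int.toNat_of_nonneg ht₀nn⟩
  have key : ∀ (i : Fin 3) (p' q' : ℕ), a1 ≤ p' → a2 ≤ q' → p ≤ p' → q ≤ q' →
      stp ![(p : ℤ), (q : ℤ), t₀] i = ![(p' : ℤ), (q' : ℤ), t₀] → p + q < p' + q' →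
      stairZ I p' q' ≤ n := by
    intro i p' q' hp' hq' hpp hqq hstp hlt
    by_contra hcon
    push Not at hcon
    have hu : ![(p' : ℤ), (q' : ℤ), t₀] ∈ region I α := by
      rw [mem_region_vec hI a1 a2 α h0 h1 p' q' hp' hq']
      constructor
      · have := stairZ_mono hI (p := p - a1) (q := q - a2) (p' := p' - a1) (q' := q' - a2)
          (by omega) (by omega)
        have : (stairZ I (p' - a1) (q' - a2) : ℤ) ≤ stairZ I (p - a1) (q - a2) := by
          exact_mod_cast this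
        linarith
      · rw [← hn]
        exact_mod_cast hcon
    have hadj : (G I α).Adj ⟨_, hw₀⟩ ⟨_, hu⟩ := by
      rw [SimpleGraph.induce_adj]
      show (stepGraph (Fin 3)).Adj ![(p : ℤ), (q : ℤ), t₀] ![(p' : ℤ), (q' : ℤ), t₀]
      rw [← hstp]
      exact adj_stp _ i
    have hmku : (G I α).connectedComponentMk ⟨_, hu⟩ = K.1 := by
      rw [← hmkw]
      exact (SimpleGraph.ConnectedComponent.sound hadj.reachable).symm
    have := hmax ⟨_, hu⟩ hmku
    simp only [Matrix.cons_val_zero, Matrix.cons_val_one] at this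
    rw [e0, e1] at this
    have : (p' : ℤ) + q' ≤ p + q := this
    omega
  refine ⟨p, q, n, hp, hq, hn, ?_, ?_, ?_, ?_⟩
  · refine key 0 (p + 1) q (by omega) hq (by omega) le_rfl ?_ (by omega)
    rw [stp_zero]; push_cast; rfl
  · refine key 1 p (q + 1) hp (by omega) le_rfl (by omega) ?_ (by omega)
    rw [stp_one]; push_cast; rfl
  · have : (n : ℤ) < stairZ I p q := by rw [hn]; exact lt_of_le_of_lt hlo hhi
    exact_mod_cast this
  · have hw₀' : ![(p : ℤ), (q : ℤ), (n : ℤ)] ∈ region I α := by rw [hn]; exact hw₀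
    refine ⟨hw₀', ?_⟩
    rw [← hmkw]
    congr 1
    apply Subtype.ext
    show ![(p : ℤ), (q : ℤ), (n : ℤ)] = ![(p : ℤ), (q : ℤ), t₀]
    rw [hn]

end Groth.Agent.Helper7.Stair
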