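import Mathlib
import Groth.Agent.Helper7.StairB

/-!
# Counting bounded components by corner cells (helper7)
-/

set_option autoImplicit false
set_option linter.style.haveILetI false
set_option linter.unusedSectionVars false

namespace Groth.Agent.Helper7.Stair

open MvPolynomial W4c1hilbpn Groth.Agent.Helper7.HTa Groth.Agent.Helper7.HTb
  Groth.Agent.Helper7.HTc Groth.Agent.Helper7.HTd

section generic

variable {k V : Type*} [Field k] [AddCommGroup V] [Module k V]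

/-- the span of a family of submodules, each a function space on `B i`, has dimension at most the
total number of points -/
theorem finrank_iSup_le {ι : Type*} (p : ι → Submodule k V) (B : ι → Type*)
    (e : ∀ i, p i ≃ₗ[k] (B i → k)) [Finite (Σ i, B i)] :
    Module.finrank k ↥(⨆ i, p i) ≤ Nat.card (Σ i, B i) := by
  classical
  letI : Fintype (Σ i, B i) := Fintype.ofFinite _
  let ψ : (Σ i, B i) → V := fun x => (((e x.1).symm (Pi.single x.2 1) : p x.1) : V)
  have hle : ⨆ i, p i ≤ Submodule.span k (Set.range ψ) := by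
    apply iSup_le
    intro i v hv
    haveI : Finite (B i) := Finite.of_injective (fun b : B i => (⟨i, b⟩ : Σ i, B i))
      (fun b b' h => by simpa using h)
    letI : Fintype (B i) := Fintype.ofFinite _
    set g : B i → k := e i ⟨v, hv⟩ with hg
    have h1 : g = ∑ b, g b • (Pi.single b (1 : k) : B i → k) := by
      funext b'
      rw [Finset.sum_apply]
      simp [Pi.single_apply]
    have h2 : (⟨v, hv⟩ : p i) = ∑ b, g b • (e i).symm (Pi.single b (1 : k)) := by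
      apply (e i).injective
      rw [map_sum]
      simp only [map_smul, LinearEquiv.apply_symm_apply]
      exact h1
    have h3 : v = ∑ b, g b • ψ ⟨i, b⟩ := by
      have := congrArg (Subtype.val) h2
      simpa [ψ] using this
    rw [h3]
    refine Submodule.sum_mem _ fun b _ => Submodule.smul_mem _ _ (Submodule.subset_span ⟨_, rfl⟩)
  haveI : FiniteDimensional k ↥(Submodule.span k (Set.range ψ)) :=
    FiniteDimensional.span_of_finite k (Set.finite_range ψ)
  calc Module.finrank k ↥(⨆ i, p i) ≤ Module.finrank k ↥(Submodule.span k (Set.range ψ)) :=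
        Submodule.finrank_mono hle
    _ ≤ Fintype.card (Σ i, B i) := finrank_range_le_card ψ
    _ = Nat.card (Σ i, B i) := (Nat.card_eq_fintype_card).symm

end generic

variable {k : Type*} [Field k] {I : Ideal (MvPolynomial (Fin 3) k)}
variable (hI : IsMonomial I) [Module.Finite k (MvPolynomial (Fin 3) k ⧸ I)]
variable (a1 a2 : ℕ)

/-- the multidegrees `(a1, a2, c)`, `c < 0` -/
abbrev Idx (a1 a2 : ℕ) : Type := {α : Fin 3 → ℤ // α 0 = (a1 : ℤ) ∧ α 1 = (a2 : ℤ) ∧ α 2 < 0}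

/-- the summand -/
noncomputable def fsum (I : Ideal (MvPolynomial (Fin 3) k)) (a1 a2 : ℕ) (p : ℕ × ℕ) : ℕ :=
  if a1 ≤ p.1 ∧ a2 ≤ p.2
    then stairZ I p.1 p.2 - max (stairZ I (p.1 + 1) p.2) (stairZ I p.1 (p.2 + 1)) else 0

include hI in
theorem finite_cols : {pq : ℕ × ℕ | e3 pq.1 pq.2 0 ∉ exps I}.Finite := by
  have hfin := Groth.Agent.Helper6.MonoIdeal.finite_compl_exps I hI
  refine hfin.preimage (Set.injOn_of_injective ?_)
  intro pq pq' h
  have h0 := congrArg (fun f => f 0) h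
  have h1 := congrArg (fun f => f 1) h
  exact Prod.ext h0 h1

/-- the columns -/
noncomputable def Cols : Finset (ℕ × ℕ) := (finite_cols hI).toFinset

open Classical in
/-- the corner cells -/
noncomputable def Cf : Finset (Σ _ : ℕ × ℕ, ℕ) :=
  (Cols hI).sigma fun pq => if a1 ≤ pq.1 ∧ a2 ≤ pq.2
    then Finset.Ico (max (stairZ I (pq.1 + 1) pq.2) (stairZ I pq.1 (pq.2 + 1))) (stairZ I pq.1 pq.2)
    else ∅

theorem card_Cf : (Cf hI a1 a2).card = ∑ᶠ p : ℕ × ℕ, fsum I a1 a2 p := by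
  classical
  have hsupp : Function.support (fsum I a1 a2) ⊆ ((Cols hI : Finset (ℕ × ℕ)) : Set (ℕ × ℕ)) := by
    intro pq hpq
    rw [Function.mem_support] at hpq
    rw [Finset.mem_coe, Cols, Set.Finite.mem_toFinset, Set.mem_ofPred_eq]
    intro hmem
    rw [mem_exps_iff hI] at hmem
    apply hpq
    unfold fsum
    split_ifs
    · omega
    · rfl
  rw [finsum_eq_sum_of_support_subset _ hsupp, Cf, Finset.card_sigma]
  refine Finset.sum_congr rfl fun pq _ => ?_
  unfold fsum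
  split_ifs
  · rw [Nat.card_Ico]
  · rfl

include hI in
theorem mem_Cf {p q n : ℕ} (hp : a1 ≤ p) (hq : a2 ≤ q) (h1 : stairZ I (p + 1) q ≤ n)
    (h2 : stairZ I p (q + 1) ≤ n) (h3 : n < stairZ I p q) :
    (⟨(p, q), n⟩ : Σ _ : ℕ × ℕ, ℕ) ∈ Cf hI a1 a2 := by
  classical
  rw [Cf, Finset.mem_sigma]
  constructor
  · rw [Cols, Set.Finite.mem_toFinset, Set.mem_ofPred_eq]
    intro hmem
    rw [mem_exps_iff hI] at hmem
    change stairZ I p q ≤ 0 at hmem
    omega
  · change n ∈ (if a1 ≤ p ∧ a2 ≤ q then Finset.Ico (max (stairZ I (p + 1) q) (stairZ I p (q + 1)))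
      (stairZ I p q) else ∅)
    rw [if_pos ⟨hp, hq⟩, Finset.mem_Ico]
    exact ⟨max_le h1 h2, h3⟩

include hI in
theorem exists_cell' (x : Σ α : Idx a1 a2, Bdd I α.1) :
    ∃ c : {c : Σ _ : ℕ × ℕ, ℕ // c ∈ Cf hI a1 a2}, a1 ≤ c.1.1.1 ∧ a2 ≤ c.1.1.2 ∧
      (c.1.2 : ℤ) = (stairZ I (c.1.1.1 - a1) (c.1.1.2 - a2) : ℤ) + x.1.1 2 ∧
      ∃ h : ![(c.1.1.1 : ℤ), (c.1.1.2 : ℤ), (c.1.2 : ℤ)] ∈ region I x.1.1,
        (G I x.1.1).connectedComponentMk ⟨_, h⟩ = x.2.1 := by
  obtain ⟨p, q, n, hp, hq, hn, h1, h2, h3, h, hK⟩ :=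
    exists_cell hI a1 a2 x.1.1 x.1.2.1 x.1.2.2.1 x.2
  exact ⟨⟨⟨(p, q), n⟩, mem_Cf hI a1 a2 hp hq h1 h2 h3⟩, hp, hq, hn, h, hK⟩

/-- the corner cell of a bounded component -/
noncomputable def cellOf (x : Σ α : Idx a1 a2, Bdd I α.1) :
    {c : Σ _ : ℕ × ℕ, ℕ // c ∈ Cf hI a1 a2} :=
  (exists_cell' hI a1 a2 x).choose

theorem cellOf_spec (x : Σ α : Idx a1 a2, Bdd I α.1) :
    a1 ≤ (cellOf hI a1 a2 x).1.1.1 ∧ a2 ≤ (cellOf hI a1 a2 x).1.1.2 ∧
      ((cellOf hI a1 a2 x).1.2 : ℤ) = (stairZ I ((cellOf hI a1 a2 x).1.1.1 - a1)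
        ((cellOf hI a1 a2 x).1.1.2 - a2) : ℤ) + x.1.1 2 ∧
      ∃ h : ![((cellOf hI a1 a2 x).1.1.1 : ℤ), ((cellOf hI a1 a2 x).1.1.2 : ℤ),
          ((cellOf hI a1 a2 x).1.2 : ℤ)] ∈ region I x.1.1,
        (G I x.1.1).connectedComponentMk ⟨_, h⟩ = x.2.1 :=
  (exists_cell' hI a1 a2 x).choose_spec

theorem cellOf_injective : Function.Injective (cellOf hI a1 a2) := by
  intro x y hxy
  have sx := cellOf_spec hI a1 a2 x
  have sy := cellOf_spec hI a1 a2 y
  rw [← hxy] at sy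
  generalize cellOf hI a1 a2 x = c at sx sy
  obtain ⟨hp, hq, hn, h, hK⟩ := sx
  obtain ⟨hp', hq', hn', h', hK'⟩ := sy
  obtain ⟨⟨α, hα0, hα1, hα2⟩, K⟩ := x
  obtain ⟨⟨α', hα0', hα1', hα2'⟩, K'⟩ := y
  have h2 : α 2 = α' 2 := by
    have : (stairZ I (c.1.1.1 - a1) (c.1.1.2 - a2) : ℤ) + α 2 = _ + α' 2 :=
      hn.symm.trans hn'
    exact add_left_cancel this
  have hαα : α = α' := by
    funext i
    fin_cases i
    · exact hα0.trans hα0'.symm
    · exact hα1.trans hα1'.symm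
    · exact h2
  subst hαα
  have hKK : K = K' := by
    apply Subtype.ext
    exact hK.symm.trans hK'
  subst hKK
  rfl

variable [Infinite k]

include hI in
theorem main :
    Module.finrank k ↥(⨆ α : Idx a1 a2, tPiece I α.1) ≤ ∑ᶠ p : ℕ × ℕ, fsum I a1 a2 p := by
  classical
  have hσ : ∀ j : Fin 3, ∃ i, i ≠ j := by
    intro j
    fin_cases j
    · exact ⟨1, by decide⟩
    · exact ⟨0, by decide⟩
    · exact ⟨0, by decide⟩
  haveI : Finite (Σ α : Idx a1 a2, Bdd I α.1) := Finite.of_injective _ (cellOf_injective hI a1 a2)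
  have e : ∀ α : Idx a1 a2, tPiece I α.1 ≃ₗ[k] (Bdd I α.1 → k) := fun α =>
    LinearEquiv.ofBijective (Psi I α.1) ⟨Psi_injective hI hσ, Psi_surjective hI hσ⟩
  refine (finrank_iSup_le (fun α : Idx a1 a2 => tPiece I α.1) (fun α => Bdd I α.1) e).trans ?_
  rw [← card_Cf hI a1 a2]
  have := Nat.card_le_card_of_injective _ (cellOf_injective hI a1 a2)
  rwa [Nat.card_eq_fintype_card (α := ↥(Cf hI a1 a2)), Fintype.card_coe] at this

end Groth.Agent.Helper7.Stair
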