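import Mathlib
import Groth.Prelude.Def_W4c1hilbpnTgt
import Groth.Agent.Helper7.StairC
import Groth.Agent.Helper7.PlDuD

/-! Planar duality count, part E: admissible functions on regions, general description of the
region in three variables, the staircase function of a monomial ideal. -/

set_option autoImplicit false
set_option linter.style.haveILetI false
set_option linter.unusedSectionVars false

namespace Groth.Agent.Helper7.PlDu

open MvPolynomial W4c1hilbpn Groth.Agent.Helper7.HTa Groth.Agent.Helper7.HTb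
  Groth.Agent.Helper7.HTc Groth.Agent.Helper7.HTd Groth.Agent.Helper7.Stair

noncomputable section

section gen

variable {σ : Type*} {k : Type*} [Field k] [Fintype σ] [DecidableEq σ]
variable (I : Ideal (MvPolynomial σ k)) (α : σ → ℤ)

/-- the space of admissible functions on the region -/
def AdmSub : Submodule k (region I α → k) where
  carrier := {f | IsAdm I α f}
  zero_mem' := ⟨fun _ _ => rfl, fun _ _ _ _ => rfl⟩
  add_mem' := by
    intro f g (hf : IsAdm I α f) (hg : IsAdm I α g)
    exact ⟨fun v hv => by simp [hf.neg v hv, hg.neg v hv],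
      fun v w i hw => by
        show f v + g v = f w + g w
        rw [hf.step v w i hw, hg.step v w i hw]⟩
  smul_mem' := by
    intro c f (hf : IsAdm I α f)
    exact ⟨fun v hv => by simp [hf.neg v hv], fun v w i hw => by
      show c • f v = c • f w
      rw [hf.step v w i hw]⟩

variable {I α}

/-- `tPiece` is the space of admissible functions -/
def tEquiv (hI : IsMonomial I) : tPiece I α ≃ₗ[k] AdmSub I α :=
  LinearEquiv.ofBijective
    { toFun := fun φ => ⟨co I α φ.1, isAdm_co hI φ.2⟩
      map_add' := by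
        intro φ ψ
        apply Subtype.ext
        exact map_add (coL I α) φ.1 ψ.1
      map_smul' := by
        intro c φ
        apply Subtype.ext
        exact map_smul (coL I α) c φ.1 }
    ⟨by
      intro φ ψ h
      apply Subtype.ext
      exact eq_of_co_eq hI φ.2 ψ.2 (fun v => congrFun (congrArg Subtype.val h) v),
    by
      rintro ⟨f, hf⟩
      refine ⟨⟨phiOf hI hf, phiOf_mem hI hf⟩, ?_⟩
      apply Subtype.ext
      funext v
      exact co_phiOf hI hf v⟩

theorem finrank_tPiece_eq (hI : IsMonomial I) :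
    Module.finrank k (tPiece I α) = Module.finrank k (AdmSub I α) :=
  (tEquiv hI).finrank_eq

end gen

variable {k : Type*} [Field k] {I : Ideal (MvPolynomial (Fin 3) k)}
variable (hI : IsMonomial I) [Module.Finite k (MvPolynomial (Fin 3) k ⧸ I)]

include hI in
/-- description of the region for an arbitrary multidegree in three variables -/
theorem mem_region_gen (α v : Fin 3 → ℤ) :
    v ∈ region I α ↔
      (∃ P' Q' : ℕ, v 0 - α 0 = P' ∧ v 1 - α 1 = Q' ∧ (stairZ I P' Q' : ℤ) + α 2 ≤ v 2) ∧
      ¬ (0 ≤ v 0 ∧ 0 ≤ v 1 ∧ 0 ≤ v 2 ∧ (stairZ I (v 0).toNat (v 1).toNat : ℤ) ≤ v 2) := by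
  rw [mem_region_iff]
  have hnn : (nn v ∧ toN v ∈ exps I) ↔
      (0 ≤ v 0 ∧ 0 ≤ v 1 ∧ 0 ≤ v 2 ∧ (stairZ I (v 0).toNat (v 1).toNat : ℤ) ≤ v 2) := by
    constructor
    · rintro ⟨hn, hm⟩
      refine ⟨hn 0, hn 1, hn 2, ?_⟩
      rw [toN_eq_e3, mem_exps_iff hI] at hm
      have : ((stairZ I (v 0).toNat (v 1).toNat : ℕ) : ℤ) ≤ ((v 2).toNat : ℤ) := by exact_mod_cast hm
      rwa [Int.toNat_of_nonneg (hn 2)] at this
    · rintro ⟨h0, h1, h2, h3⟩
      refine ⟨?_, ?_⟩
      · intro l
        fin_cases l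
        · exact h0
        · exact h1
        · exact h2
      · rw [toN_eq_e3, mem_exps_iff hI]
        have : ((stairZ I (v 0).toNat (v 1).toNat : ℕ) : ℤ) ≤ ((v 2).toNat : ℤ) := by
          rwa [Int.toNat_of_nonneg h2]
        exact_mod_cast this
  rw [hnn]
  apply and_congr_left
  intro _
  constructor
  · rintro ⟨β, hβ, rfl⟩
    refine ⟨β 0, β 1, by simp [tr], by simp [tr], ?_⟩
    have hβ' : e3 (β 0) (β 1) (β 2) ∈ exps I := by rw [← e3_ext]; exact hβ
    have := (mem_exps_iff hI _ _ _).1 hβ'
    have : (stairZ I (β 0) (β 1) : ℤ) ≤ (β 2 : ℤ) := by exact_mod_cast this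
    simp only [tr]
    linarith
  · rintro ⟨P', Q', h0, h1, h2⟩
    have hnn2 : 0 ≤ v 2 - α 2 := by
      have : (0 : ℤ) ≤ stairZ I P' Q' := by positivity
      linarith
    refine ⟨e3 P' Q' (v 2 - α 2).toNat, ?_, ?_⟩
    · rw [mem_exps_iff hI]
      have : ((stairZ I P' Q' : ℕ) : ℤ) ≤ ((v 2 - α 2).toNat : ℤ) := by
        rw [Int.toNat_of_nonneg hnn2]; linarith
      exact_mod_cast this
    · funext l
      fin_cases l
      · show v 0 = ((e3 P' Q' (v 2 - α 2).toNat 0 : ℕ) : ℤ) + α 0
        rw [e3_0, ← h0]; ring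
      · show v 1 = ((e3 P' Q' (v 2 - α 2).toNat 1 : ℕ) : ℤ) + α 1
        rw [e3_1, ← h1]; ring
      · show v 2 = ((e3 P' Q' (v 2 - α 2).toNat 2 : ℕ) : ℤ) + α 2
        rw [e3_2, Int.toNat_of_nonneg hnn2]; ring

include hI in
theorem exists_bound : ∃ N : ℕ, ∀ p q : ℕ, (N ≤ p ∨ N ≤ q) → stairZ I p q = 0 := by
  have hfin := finite_cols hI
  refine ⟨hfin.toFinset.sup (fun pq => pq.1 + pq.2) + 1, fun p q h => ?_⟩
  by_contra hne
  have hmem : (p, q) ∈ hfin.toFinset := by
    rw [Set.Finite.mem_toFinset]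
    show e3 p q 0 ∉ exps I
    rw [mem_exps_iff hI]
    omega
  have := Finset.le_sup (f := fun pq : ℕ × ℕ => pq.1 + pq.2) hmem
  simp only at this
  omega

/-- the staircase function of `I` -/
def stairFn : StairFn where
  b := stairZ I
  anti := fun hp hq => stairZ_mono hI hp hq
  P := Classical.choose (exists_bound hI)
  Q := Classical.choose (exists_bound hI)
  zero := Classical.choose_spec (exists_bound hI)

theorem stairFn_b (p q : ℕ) : (stairFn hI).b p q = stairZ I p q := rfl

include hI in
theorem stairZ_le (p q : ℕ) : stairZ I p q ≤ stairZ I 0 0 :=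
  stairZ_mono hI (Nat.zero_le _) (Nat.zero_le _)

/-- admissible functions are constant along vertical segments of the region -/
theorem adm_vert {α : Fin 3 → ℤ} {f : region I α → k} (hf : IsAdm I α f) (x y s : ℤ) (n : ℕ)
    (h : ∀ t : ℕ, t ≤ n → ![x, y, s + t] ∈ region I α) :
    ∀ (t : ℕ) (ht : t ≤ n), f ⟨_, h t ht⟩ = f ⟨_, h 0 (Nat.zero_le _)⟩ := by
  intro t
  induction t with
  | zero => intro _; rfl
  | succ t ih =>
    intro ht
    rw [← ih (by omega)]
    symm
    apply hf.step _ _ 2
    funext l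
    fin_cases l
    · simp
    · simp
    · simp only [Fin.reduceFinMk, Matrix.cons_val, if_true]
      push_cast
      ring

end

end Groth.Agent.Helper7.PlDu
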