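import Mathlib
import Groth.Prelude.Def_W4c1hilbpnTgt
import Groth.Agent.Helper7.PlDuE

/-! Planar duality count, part F: the `A`-side, multidegrees `(i, j, -m)`. -/

set_option autoImplicit false
set_option linter.style.haveILetI false
set_option linter.unusedSectionVars false

namespace Groth.Agent.Helper7.PlDu

open MvPolynomial W4c1hilbpn Groth.Agent.Helper7.HTa Groth.Agent.Helper7.HTb
  Groth.Agent.Helper7.HTc Groth.Agent.Helper7.HTd Groth.Agent.Helper7.Stair

noncomputable section

variable {k : Type*} [Field k] {I : Ideal (MvPolynomial (Fin 3) k)}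
variable (hI : IsMonomial I) [Module.Finite k (MvPolynomial (Fin 3) k ⧸ I)]
variable (i j m : ℕ) (hm : 0 < m)

/-- the multidegree of the `A`-side -/
def αA : Fin 3 → ℤ := ![(i : ℤ), (j : ℤ), -(m : ℤ)]

/-- the point of the column over the source cell `a` at height `s` -/
def ptA (a : ℕ × ℕ) (s : ℤ) : Fin 3 → ℤ := ![(a.1 : ℤ) + i, (a.2 : ℤ) + j, s]

/-- the source cell of a point -/
def aOf (v : Fin 3 → ℤ) : ℕ × ℕ := ((v 0 - i).toNat, (v 1 - j).toNat)

theorem aOf_ptA (a : ℕ × ℕ) (s : ℤ) : aOf i j (ptA i j a s) = a := by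
  simp [aOf, ptA]

include hI in
theorem mem_regionA (v : Fin 3 → ℤ) :
    v ∈ region I (αA i j m) ↔ ∃ P' Q' : ℕ, v 0 = P' + i ∧ v 1 = Q' + j ∧
      (stairZ I P' Q' : ℤ) - m ≤ v 2 ∧ v 2 < stairZ I (P' + i) (Q' + j) := by
  rw [mem_region_gen hI]
  have e0 : αA i j m 0 = i := rfl
  have e1 : αA i j m 1 = j := rfl
  have e2 : αA i j m 2 = -(m : ℤ) := rfl
  rw [e0, e1, e2]
  constructor
  · rintro ⟨⟨P', Q', h0, h1, h2⟩, hnot⟩
    refine ⟨P', Q', by linarith, by linarith, by linarith, ?_⟩
    by_contra hge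
    push Not at hge
    apply hnot
    have hv0 : v 0 = ((P' + i : ℕ) : ℤ) := by push_cast; linarith
    have hv1 : v 1 = ((Q' + j : ℕ) : ℤ) := by push_cast; linarith
    refine ⟨by rw [hv0]; positivity, by rw [hv1]; positivity, le_trans (by positivity) hge, ?_⟩
    rw [hv0, hv1, Int.toNat_natCast, Int.toNat_natCast]
    exact hge
  · rintro ⟨P', Q', h0, h1, hlo, hhi⟩
    refine ⟨⟨P', Q', by linarith, by linarith, by linarith⟩, ?_⟩
    rintro ⟨_, _, _, h⟩
    have hv0 : v 0 = ((P' + i : ℕ) : ℤ) := by push_cast; linarith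
    have hv1 : v 1 = ((Q' + j : ℕ) : ℤ) := by push_cast; linarith
    rw [hv0, hv1, Int.toNat_natCast, Int.toNat_natCast] at h
    linarith

include hI in
theorem ptA_mem (a : ℕ × ℕ) (s : ℤ) :
    ptA i j a s ∈ region I (αA i j m) ↔
      (stairZ I a.1 a.2 : ℤ) - m ≤ s ∧ s < stairZ I (a.1 + i) (a.2 + j) := by
  rw [mem_regionA hI]
  constructor
  · rintro ⟨P', Q', h0, h1, hlo, hhi⟩
    have h0' : (a.1 : ℤ) + i = P' + i := h0
    have h1' : (a.2 : ℤ) + j = Q' + j := h1
    have e0 : a.1 = P' := by omega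
    have e1 : a.2 = Q' := by omega
    rw [e0, e1]
    exact ⟨hlo, hhi⟩
  · rintro ⟨hlo, hhi⟩
    exact ⟨a.1, a.2, rfl, rfl, hlo, hhi⟩

include hI in
theorem exists_ptA {v : Fin 3 → ℤ} (hv : v ∈ region I (αA i j m)) :
    v = ptA i j (aOf i j v) (v 2) := by
  obtain ⟨P', Q', h0, h1, -, -⟩ := (mem_regionA hI i j m v).1 hv
  funext l
  fin_cases l
  · show v 0 = (((v 0 - i).toNat : ℕ) : ℤ) + i
    rw [Int.toNat_of_nonneg (by omega)]; ring
  · show v 1 = (((v 1 - j).toNat : ℕ) : ℤ) + j
    rw [Int.toNat_of_nonneg (by omega)]; ring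
  · rfl

theorem ptA_step0 (a : ℕ × ℕ) (s : ℤ) :
    ptA i j (a.1 + 1, a.2) s = fun l => ptA i j a s l + if l = 0 then 1 else 0 := by
  funext l
  fin_cases l
  · simp [ptA]; ring
  · simp [ptA]
  · simp [ptA]

theorem ptA_step1 (a : ℕ × ℕ) (s : ℤ) :
    ptA i j (a.1, a.2 + 1) s = fun l => ptA i j a s l + if l = 1 then 1 else 0 := by
  funext l
  fin_cases l
  · simp [ptA]
  · simp [ptA]; ring
  · simp [ptA]

theorem f_congr {α : Fin 3 → ℤ} (f : region I α → k) {u u' : Fin 3 → ℤ} (hu : u ∈ region I α)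
    (hu' : u' ∈ region I α) (e : u = u') : f ⟨u, hu⟩ = f ⟨u', hu'⟩ := by
  subst e; rfl

include hI in
/-- constancy of an admissible function along a column -/
theorem admA_col {f : region I (αA i j m) → k} (hf : IsAdm I (αA i j m) f) (a : ℕ × ℕ)
    (s s' : ℤ) (hs : ptA i j a s ∈ region I (αA i j m)) (hs' : ptA i j a s' ∈ region I (αA i j m))
    (hle : s ≤ s') : f ⟨_, hs'⟩ = f ⟨_, hs⟩ := by
  obtain ⟨n, hn⟩ : ∃ n : ℕ, s' = s + n := ⟨(s' - s).toNat, by rw [Int.toNat_of_nonneg (by omega)]; ring⟩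
  have hall : ∀ t : ℕ, t ≤ n → ![(a.1 : ℤ) + i, (a.2 : ℤ) + j, s + t] ∈ region I (αA i j m) := by
    intro t ht
    have h1 := (ptA_mem hI i j m a s).1 hs
    have h2 := (ptA_mem hI i j m a s').1 hs'
    have : ptA i j a (s + t) ∈ region I (αA i j m) := by
      rw [ptA_mem hI]
      refine ⟨by linarith [h1.1], ?_⟩
      have : (t : ℤ) ≤ n := by exact_mod_cast ht
      linarith [h2.2]
    exact this
  have := adm_vert hf _ _ s n hall n le_rfl
  rw [f_congr f hs' (hall n le_rfl) (by rw [hn]; rfl), this]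
  exact f_congr f _ _ (by simp [ptA])

/-- the map from the `A`-side space to functions on the region -/
def PhiA : ZA (k := k) ((stairFn hI).cpx i j m hm) →ₗ[k] (region I (αA i j m) → k) where
  toFun g := fun v => g.1 (aOf i j v.1)
  map_add' _ _ := rfl
  map_smul' _ _ := rfl

include hI in
theorem isAdm_PhiA (g : ZA (k := k) ((stairFn hI).cpx i j m hm)) :
    IsAdm I (αA i j m) (PhiA hI i j m hm g) := by
  obtain ⟨g, g1, g2, g3, g4⟩ := g
  constructor
  · intro v hv
    obtain ⟨P', Q', h0, h1, hlo, hhi⟩ := (mem_regionA hI i j m v.1).1 v.2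
    have ha : aOf i j v.1 = (P', Q') := by simp [aOf, h0, h1]
    show g (aOf i j v.1) = 0
    rw [ha]
    have hv2 : v.1 2 < 0 := by
      by_contra hge
      push Not at hge
      apply hv
      intro l
      fin_cases l
      · show 0 ≤ v.1 0
        rw [h0]; positivity
      · show 0 ≤ v.1 1
        rw [h1]; positivity
      · exact hge
    have hb : stairZ I P' Q' < m := by
      have : (stairZ I P' Q' : ℤ) < m := by linarith
      exact_mod_cast this
    have hn : ∀ n : ℕ, g (P' + n, Q') = g (P', Q') := by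
      intro n
      induction n with
      | zero => rfl
      | succ n ih =>
        rw [← ih]
        refine g2 (P' + n, Q') ?_
        show stairZ I (P' + n) Q' < stairZ I (P' + n + 1 + i) (Q' + j) + m
        have := stairZ_mono hI (p := P') (q := Q') (p' := P' + n) (q' := Q') (by omega) le_rfl
        omega
    rw [← hn (stairFn hI).P]
    exact g4 _ (Or.inl (by simp [StairFn.cpx]))
  · intro v w l hw
    obtain ⟨P', Q', h0, h1, hlo, hhi⟩ := (mem_regionA hI i j m v.1).1 v.2
    obtain ⟨P'', Q'', h0', h1', hlo', hhi'⟩ := (mem_regionA hI i j m w.1).1 w.2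
    have ha : aOf i j v.1 = (P', Q') := by simp [aOf, h0, h1]
    have ha' : aOf i j w.1 = (P'', Q'') := by simp [aOf, h0', h1']
    show g (aOf i j v.1) = g (aOf i j w.1)
    rw [ha, ha']
    have hw0 := congrFun hw 0
    have hw1 := congrFun hw 1
    have hw2 := congrFun hw 2
    fin_cases l
    · simp only [Fin.zero_eta, if_true, Fin.isValue] at hw0
      simp only [Fin.zero_eta, Fin.isValue, one_ne_zero, if_false, add_zero] at hw1
      have hw2' : w.1 2 = v.1 2 := by simpa using hw2
      have eP : P'' = P' + 1 := by omega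
      have eQ : Q'' = Q' := by omega
      subst eP eQ
      symm
      refine g2 (P', Q'') ?_
      show stairZ I P' Q'' < stairZ I (P' + 1 + i) (Q'' + j) + m
      have : (stairZ I P' Q'' : ℤ) < stairZ I (P' + 1 + i) (Q'' + j) + m := by
        rw [hw2'] at hhi'
        linarith
      exact_mod_cast this
    · have hw0' : w.1 0 = v.1 0 := by simpa using hw0
      have hw1' : w.1 1 = v.1 1 + 1 := by simpa using hw1
      have hw2' : w.1 2 = v.1 2 := by simpa using hw2
      have eP : P'' = P' := by omega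
      have eQ : Q'' = Q' + 1 := by omega
      subst eP eQ
      symm
      refine g3 (P'', Q') ?_
      show stairZ I P'' Q' < stairZ I (P'' + i) (Q' + 1 + j) + m
      have : (stairZ I P'' Q' : ℤ) < stairZ I (P'' + i) (Q' + 1 + j) + m := by
        rw [hw2'] at hhi'
        linarith
      exact_mod_cast this
    · have hw0' : w.1 0 = v.1 0 := by simpa using hw0
      have hw1' : w.1 1 = v.1 1 := by simpa using hw1
      have eP : P'' = P' := by omega
      have eQ : Q'' = Q' := by omega
      rw [eP, eQ]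

include hI in
theorem PhiA_injective : Function.Injective (PhiA (k := k) hI i j m hm) := by
  rw [← LinearMap.ker_eq_bot, LinearMap.ker_eq_bot']
  intro g hg
  apply Subtype.ext
  funext a
  by_cases hV : ((stairFn hI).cpx i j m hm).V a
  · have hmem : ptA i j a ((stairZ I a.1 a.2 : ℤ) - m) ∈ region I (αA i j m) := by
      rw [ptA_mem hI]
      refine ⟨le_rfl, ?_⟩
      have : stairZ I a.1 a.2 < stairZ I (a.1 + i) (a.2 + j) + m := hV
      have : (stairZ I a.1 a.2 : ℤ) < stairZ I (a.1 + i) (a.2 + j) + m := by exact_mod_cast this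
      linarith
    have := congrFun hg ⟨_, hmem⟩
    change g.1 (aOf i j (ptA i j a _)) = 0 at this
    rwa [aOf_ptA] at this
  · exact g.2.1 a hV

include hI in
theorem PhiA_surjective {f : region I (αA i j m) → k} (hf : IsAdm I (αA i j m) f) :
    ∃ g : ZA (k := k) ((stairFn hI).cpx i j m hm), PhiA hI i j m hm g = f := by
  classical
  set K := (stairFn hI).cpx i j m hm with hK
  have hKV : ∀ a : ℕ × ℕ, K.V a ↔ stairZ I a.1 a.2 < stairZ I (a.1 + i) (a.2 + j) + m :=
    fun a => Iff.rfl
  -- the bottom point of a column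
  have hbot : ∀ a : ℕ × ℕ, K.V a →
      ptA i j a ((stairZ I a.1 a.2 : ℤ) - m) ∈ region I (αA i j m) := by
    intro a hV
    rw [ptA_mem hI]
    refine ⟨le_rfl, ?_⟩
    have : (stairZ I a.1 a.2 : ℤ) < stairZ I (a.1 + i) (a.2 + j) + m := by
      exact_mod_cast (hKV a).1 hV
    linarith
  set g : ℕ × ℕ → k := fun a => if hV : K.V a then f ⟨_, hbot a hV⟩ else 0 with hg
  have gV : ∀ a (hV : K.V a), g a = f ⟨_, hbot a hV⟩ := fun a hV => dif_pos hV
  -- value of `f` at any point of the column over `a`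
  have hcol : ∀ (a : ℕ × ℕ) (s : ℤ) (hs : ptA i j a s ∈ region I (αA i j m)),
      ∃ hV : K.V a, f ⟨_, hs⟩ = g a := by
    intro a s hs
    have h1 := (ptA_mem hI i j m a s).1 hs
    have hV : K.V a := by
      rw [hKV]
      have : (stairZ I a.1 a.2 : ℤ) < stairZ I (a.1 + i) (a.2 + j) + m := by linarith [h1.1, h1.2]
      exact_mod_cast this
    refine ⟨hV, ?_⟩
    rw [gV a hV]
    exact admA_col hI i j m hf a _ s (hbot a hV) hs h1.1
  have hgZ : g ∈ ZA (k := k) K := by
    refine ⟨fun a ha => dif_neg ha, fun a ha => ?_, fun a ha => ?_, fun a ha => ?_⟩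
    · -- horizontal edge
      have hV : K.V a := K.H_l a ha
      have hH : stairZ I a.1 a.2 < stairZ I (a.1 + 1 + i) (a.2 + j) + m := ha
      have hmono := stairZ_mono hI (p := a.1) (q := a.2) (p' := a.1 + 1) (q' := a.2)
        (by omega) le_rfl
      have hs' : ptA i j (a.1 + 1, a.2) ((stairZ I a.1 a.2 : ℤ) - m) ∈ region I (αA i j m) := by
        rw [ptA_mem hI]
        constructor
        · have : (stairZ I (a.1 + 1) a.2 : ℤ) ≤ stairZ I a.1 a.2 := by exact_mod_cast hmono
          simp only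
          linarith
        · have : (stairZ I a.1 a.2 : ℤ) < stairZ I (a.1 + 1 + i) (a.2 + j) + m := by
            exact_mod_cast hH
          simp only
          linarith
      obtain ⟨_, h2⟩ := hcol (a.1 + 1, a.2) _ hs'
      rw [← h2, gV a hV]
      symm
      exact hf.step ⟨_, hbot a hV⟩ ⟨_, hs'⟩ 0 (ptA_step0 i j a _)
    · have hV : K.V a := K.W_b a ha
      have hH : stairZ I a.1 a.2 < stairZ I (a.1 + i) (a.2 + 1 + j) + m := ha
      have hmono := stairZ_mono hI (p := a.1) (q := a.2) (p' := a.1) (q' := a.2 + 1)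
        le_rfl (by omega)
      have hs' : ptA i j (a.1, a.2 + 1) ((stairZ I a.1 a.2 : ℤ) - m) ∈ region I (αA i j m) := by
        rw [ptA_mem hI]
        constructor
        · have : (stairZ I a.1 (a.2 + 1) : ℤ) ≤ stairZ I a.1 a.2 := by exact_mod_cast hmono
          simp only
          linarith
        · have : (stairZ I a.1 a.2 : ℤ) < stairZ I (a.1 + i) (a.2 + 1 + j) + m := by
            exact_mod_cast hH
          simp only
          linarith
      obtain ⟨_, h2⟩ := hcol (a.1, a.2 + 1) _ hs'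
      rw [← h2, gV a hV]
      symm
      exact hf.step ⟨_, hbot a hV⟩ ⟨_, hs'⟩ 1 (ptA_step1 i j a _)
    · by_cases hV : K.V a
      · rw [gV a hV]
        apply hf.neg
        intro hnn
        have := hnn 2
        have hz : stairZ I a.1 a.2 = 0 := (stairFn hI).zero a.1 a.2 ha
        change (0 : ℤ) ≤ (stairZ I a.1 a.2 : ℤ) - m at this
        rw [hz] at this
        have : (0 : ℤ) < m := by exact_mod_cast hm
        omega
      · exact dif_neg hV
  refine ⟨⟨g, hgZ⟩, ?_⟩
  funext v
  show g (aOf i j v.1) = f v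
  have hv := exists_ptA hI i j m v.2
  have hs : ptA i j (aOf i j v.1) (v.1 2) ∈ region I (αA i j m) := by rw [← hv]; exact v.2
  obtain ⟨_, h2⟩ := hcol (aOf i j v.1) (v.1 2) hs
  rw [← h2]
  exact f_congr f hs v.2 hv.symm

/-- the `A`-side equivalence -/
def equivA : ZA (k := k) ((stairFn hI).cpx i j m hm) ≃ₗ[k] AdmSub I (αA i j m) :=
  LinearEquiv.ofBijective
    ((PhiA hI i j m hm).codRestrict (AdmSub I (αA i j m)) (isAdm_PhiA hI i j m hm))
    ⟨by
      intro g g' h
      exact PhiA_injective hI i j m hm (congrArg Subtype.val h),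
    by
      rintro ⟨f, hf⟩
      obtain ⟨g, hg⟩ := PhiA_surjective hI i j m hm hf
      exact ⟨g, Subtype.ext hg⟩⟩

include hI in
theorem finrank_tPiece_A :
    Module.finrank k (tPiece I (αA i j m)) =
      Module.finrank k (ZA (k := k) ((stairFn hI).cpx i j m hm)) := by
  rw [finrank_tPiece_eq hI, (equivA hI i j m hm).finrank_eq]

end

end Groth.Agent.Helper7.PlDu
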