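import Mathlib
import Groth.Prelude.Def_W4c1hilbpnTgt
import Groth.Agent.Helper7.PlDuF

/-! Planar duality count, part G: the `B`-side, multidegrees `(-i-1, -j-1, c)`. -/

set_option autoImplicit false
set_option linter.style.haveILetI false
set_option linter.unusedSectionVars false

namespace Groth.Agent.Helper7.PlDu

open MvPolynomial W4c1hilbpn Groth.Agent.Helper7.HTa Groth.Agent.Helper7.HTb
  Groth.Agent.Helper7.HTc Groth.Agent.Helper7.HTd Groth.Agent.Helper7.Stair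

noncomputable section

variable {k : Type*} [Field k] {I : Ideal (MvPolynomial (Fin 3) k)}
variable (hI : IsMonomial I) [Module.Finite k (MvPolynomial (Fin 3) k ⧸ I)]
variable (i j c : ℕ)

/-- the multidegree of the `B`-side -/
def αB : Fin 3 → ℤ := ![-(i : ℤ) - 1, -(j : ℤ) - 1, (c : ℤ)]

/-- the point of the column over the cell `a` at height `s` -/
def ptB (a : ℕ × ℕ) (s : ℤ) : Fin 3 → ℤ := ![(a.1 : ℤ), (a.2 : ℤ), s]

include hI in
theorem mem_regionB (v : Fin 3 → ℤ) :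
    v ∈ region I (αB i j c) ↔
      (∃ P' Q' : ℕ, v 0 + i + 1 = P' ∧ v 1 + j + 1 = Q' ∧ (stairZ I P' Q' : ℤ) + c ≤ v 2) ∧
      ¬ (0 ≤ v 0 ∧ 0 ≤ v 1 ∧ 0 ≤ v 2 ∧ (stairZ I (v 0).toNat (v 1).toNat : ℤ) ≤ v 2) := by
  rw [mem_region_gen hI]
  have e0 : αB i j c 0 = -(i : ℤ) - 1 := rfl
  have e1 : αB i j c 1 = -(j : ℤ) - 1 := rfl
  have e2 : αB i j c 2 = c := rfl
  rw [e0, e1, e2]
  apply and_congr_left
  intro _
  constructor
  · rintro ⟨P', Q', h0, h1, h2⟩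
    exact ⟨P', Q', by linarith, by linarith, h2⟩
  · rintro ⟨P', Q', h0, h1, h2⟩
    exact ⟨P', Q', by linarith, by linarith, h2⟩

include hI in
/-- lower bound at a point of the region -/
theorem loB {v : Fin 3 → ℤ} (hv : v ∈ region I (αB i j c)) :
    ∃ P' Q' : ℕ, v 0 + i + 1 = P' ∧ v 1 + j + 1 = Q' ∧ (stairZ I P' Q' : ℤ) + c ≤ v 2 :=
  ((mem_regionB hI i j c v).1 hv).1

include hI in
theorem nonneg2B {v : Fin 3 → ℤ} (hv : v ∈ region I (αB i j c)) : 0 ≤ v 2 := by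
  obtain ⟨P', Q', -, -, h⟩ := loB hI i j c hv
  have : (0 : ℤ) ≤ stairZ I P' Q' := by positivity
  have : (0 : ℤ) ≤ c := by positivity
  linarith

include hI in
/-- upper bound at a point of the region with nonnegative first two coordinates -/
theorem hiB {v : Fin 3 → ℤ} (hv : v ∈ region I (αB i j c)) (h0 : 0 ≤ v 0) (h1 : 0 ≤ v 1) :
    v 2 < stairZ I (v 0).toNat (v 1).toNat := by
  by_contra hge
  push Not at hge
  exact ((mem_regionB hI i j c v).1 hv).2 ⟨h0, h1, nonneg2B hI i j c hv, hge⟩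

include hI in
theorem ptB_mem (a : ℕ × ℕ) (s : ℤ) :
    ptB a s ∈ region I (αB i j c) ↔
      (stairZ I (a.1 + 1 + i) (a.2 + 1 + j) : ℤ) + c ≤ s ∧ s < stairZ I a.1 a.2 := by
  constructor
  · intro h
    obtain ⟨P', Q', h0, h1, h2⟩ := loB hI i j c h
    have h0' : (a.1 : ℤ) + i + 1 = P' := h0
    have h1' : (a.2 : ℤ) + j + 1 = Q' := h1
    have e0 : P' = a.1 + 1 + i := by omega
    have e1 : Q' = a.2 + 1 + j := by omega
    subst e0 e1
    refine ⟨h2, ?_⟩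
    have := hiB hI i j c h (by show (0 : ℤ) ≤ (a.1 : ℤ); positivity)
      (by show (0 : ℤ) ≤ (a.2 : ℤ); positivity)
    have e : (ptB a s 0).toNat = a.1 ∧ (ptB a s 1).toNat = a.2 := by simp [ptB]
    rw [e.1, e.2] at this
    exact this
  · rintro ⟨hlo, hhi⟩
    rw [mem_regionB hI]
    refine ⟨⟨a.1 + 1 + i, a.2 + 1 + j, ?_, ?_, hlo⟩, ?_⟩
    · show (a.1 : ℤ) + i + 1 = ((a.1 + 1 + i : ℕ) : ℤ)
      push_cast; ring
    · show (a.2 : ℤ) + j + 1 = ((a.2 + 1 + j : ℕ) : ℤ)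
      push_cast; ring
    · rintro ⟨_, _, _, h⟩
      have e : (ptB a s 0).toNat = a.1 ∧ (ptB a s 1).toNat = a.2 := by simp [ptB]
      rw [e.1, e.2] at h
      have : ptB a s 2 = s := rfl
      rw [this] at h
      linarith

include hI in
theorem left_mem (q : ℕ) (s : ℤ) :
    ![(-1 : ℤ), (q : ℤ), s] ∈ region I (αB i j c) ↔ (stairZ I (0 + i) (q + 1 + j) : ℤ) + c ≤ s := by
  rw [mem_regionB hI]
  constructor
  · rintro ⟨⟨P', Q', h0, h1, h2⟩, -⟩
    have h0' : (-1 : ℤ) + i + 1 = P' := h0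
    have h1' : (q : ℤ) + j + 1 = Q' := h1
    have e0 : P' = 0 + i := by omega
    have e1 : Q' = q + 1 + j := by omega
    subst e0 e1
    exact h2
  · intro h
    refine ⟨⟨0 + i, q + 1 + j, ?_, ?_, h⟩, ?_⟩
    · show (-1 : ℤ) + i + 1 = ((0 + i : ℕ) : ℤ)
      push_cast; ring
    · show (q : ℤ) + j + 1 = ((q + 1 + j : ℕ) : ℤ)
      push_cast; ring
    · rintro ⟨h0, -⟩
      have : (![(-1 : ℤ), (q : ℤ), s] 0) = -1 := rfl
      rw [this] at h0
      omega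

include hI in
theorem bot_mem (p : ℕ) (s : ℤ) :
    ![(p : ℤ), (-1 : ℤ), s] ∈ region I (αB i j c) ↔ (stairZ I (p + 1 + i) (0 + j) : ℤ) + c ≤ s := by
  rw [mem_regionB hI]
  constructor
  · rintro ⟨⟨P', Q', h0, h1, h2⟩, -⟩
    have h0' : (p : ℤ) + i + 1 = P' := h0
    have h1' : (-1 : ℤ) + j + 1 = Q' := h1
    have e0 : P' = p + 1 + i := by omega
    have e1 : Q' = 0 + j := by omega
    subst e0 e1
    exact h2
  · intro h
    refine ⟨⟨p + 1 + i, 0 + j, ?_, ?_, h⟩, ?_⟩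
    · show (p : ℤ) + i + 1 = ((p + 1 + i : ℕ) : ℤ)
      push_cast; ring
    · show (-1 : ℤ) + j + 1 = ((0 + j : ℕ) : ℤ)
      push_cast; ring
    · rintro ⟨-, h1, -⟩
      have : (![(p : ℤ), (-1 : ℤ), s] 1) = -1 := rfl
      rw [this] at h1
      omega

include hI in
/-- constancy of an admissible function along a column -/
theorem admB_col {f : region I (αB i j c) → k} (hf : IsAdm I (αB i j c) f) (a : ℕ × ℕ)
    (s s' : ℤ) (hs : ptB a s ∈ region I (αB i j c)) (hs' : ptB a s' ∈ region I (αB i j c))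
    (hle : s ≤ s') : f ⟨_, hs'⟩ = f ⟨_, hs⟩ := by
  obtain ⟨n, hn⟩ : ∃ n : ℕ, s' = s + n := ⟨(s' - s).toNat, by rw [Int.toNat_of_nonneg (by omega)]; ring⟩
  have hall : ∀ t : ℕ, t ≤ n → ![(a.1 : ℤ), (a.2 : ℤ), s + t] ∈ region I (αB i j c) := by
    intro t ht
    have h1 := (ptB_mem hI i j c a s).1 hs
    have h2 := (ptB_mem hI i j c a s').1 hs'
    have : ptB a (s + t) ∈ region I (αB i j c) := by
      rw [ptB_mem hI]
      refine ⟨by linarith [h1.1], ?_⟩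
      have : (t : ℤ) ≤ n := by exact_mod_cast ht
      linarith [h2.2]
    exact this
  have := adm_vert hf _ _ s n hall n le_rfl
  rw [f_congr f hs' (hall n le_rfl) (by rw [hn]; rfl), this]
  exact f_congr f _ _ (by simp [ptB])

theorem ptB_step0 (a : ℕ × ℕ) (s : ℤ) :
    ptB (a.1 + 1, a.2) s = fun l => ptB a s l + if l = 0 then 1 else 0 := by
  funext l
  fin_cases l
  · simp [ptB]
  · simp [ptB]
  · simp [ptB]

theorem ptB_step1 (a : ℕ × ℕ) (s : ℤ) :
    ptB (a.1, a.2 + 1) s = fun l => ptB a s l + if l = 1 then 1 else 0 := by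
  funext l
  fin_cases l
  · simp [ptB]
  · simp [ptB]
  · simp [ptB]

theorem ptB_left (q : ℕ) (s : ℤ) :
    ptB (0, q) s = fun l => ![(-1 : ℤ), (q : ℤ), s] l + if l = 0 then 1 else 0 := by
  funext l
  fin_cases l
  · simp [ptB]
  · simp [ptB]
  · simp [ptB]

theorem ptB_bot (p : ℕ) (s : ℤ) :
    ptB (p, 0) s = fun l => ![(p : ℤ), (-1 : ℤ), s] l + if l = 1 then 1 else 0 := by
  funext l
  fin_cases l
  · simp [ptB]
  · simp [ptB]
  · simp [ptB]

theorem eq_ptB {v : Fin 3 → ℤ} (h0 : 0 ≤ v 0) (h1 : 0 ≤ v 1) :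
    v = ptB ((v 0).toNat, (v 1).toNat) (v 2) := by
  funext l
  fin_cases l
  · show v 0 = (((v 0).toNat : ℕ) : ℤ)
    rw [Int.toNat_of_nonneg h0]
  · show v 1 = (((v 1).toNat : ℕ) : ℤ)
    rw [Int.toNat_of_nonneg h1]
  · rfl

end

end Groth.Agent.Helper7.PlDu
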