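import Mathlib
import Groth.Prelude.Def_W4c1hilbpnTgt
import Groth.Agent.Helper7.PlDuG

/-! Planar duality count, part H: the `B`-side equivalence. -/

set_option autoImplicit false
set_option linter.style.haveILetI false
set_option linter.unusedSectionVars false

namespace Groth.Agent.Helper7.PlDu

open MvPolynomial W4c1hilbpn Groth.Agent.Helper7.HTa Groth.Agent.Helper7.HTb
  Groth.Agent.Helper7.HTc Groth.Agent.Helper7.HTd Groth.Agent.Helper7.Stair

noncomputable section

variable {k : Type*} [Field k] {I : Ideal (MvPolynomial (Fin 3) k)}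
variable (hI : IsMonomial I) [Module.Finite k (MvPolynomial (Fin 3) k ⧸ I)]
variable (i j c : ℕ)

/-- the complex of the `B`-side -/
abbrev KB : Cpx := (stairFn hI).cpx i j (c + 1) (Nat.succ_pos c)

theorem KB_W (a : ℕ × ℕ) :
    (KB hI i j c).W a ↔ stairZ I a.1 a.2 < stairZ I (a.1 + i) (a.2 + 1 + j) + (c + 1) := Iff.rfl

theorem KB_H (a : ℕ × ℕ) :
    (KB hI i j c).H a ↔ stairZ I a.1 a.2 < stairZ I (a.1 + 1 + i) (a.2 + j) + (c + 1) := Iff.rfl

theorem KB_F (a : ℕ × ℕ) :
    (KB hI i j c).F a ↔ stairZ I a.1 a.2 < stairZ I (a.1 + 1 + i) (a.2 + 1 + j) + (c + 1) :=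
  Iff.rfl

open Classical in
/-- the map from the `B`-side space to functions on the region -/
def PhiB : ZB (k := k) (KB hI i j c) →ₗ[k] (region I (αB i j c) → k) where
  toFun h := fun v => if 0 ≤ v.1 0 ∧ 0 ≤ v.1 1 then h.1 ((v.1 0).toNat, (v.1 1).toNat) else 0
  map_add' h h' := by
    funext v
    show (if _ then (h.1 + h'.1) _ else 0) = (if _ then h.1 _ else 0) + (if _ then h'.1 _ else 0)
    split_ifs <;> simp
  map_smul' r h := by
    funext v
    show (if _ then (r • h.1) _ else 0) = r • (if _ then h.1 _ else 0)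
    split_ifs <;> simp

theorem PhiB_apply (h : ZB (k := k) (KB hI i j c)) (v : region I (αB i j c)) :
    PhiB hI i j c h v =
      if 0 ≤ v.1 0 ∧ 0 ≤ v.1 1 then h.1 ((v.1 0).toNat, (v.1 1).toNat) else 0 := rfl

include hI in
theorem isAdm_PhiB (h : ZB (k := k) (KB hI i j c)) :
    IsAdm I (αB i j c) (PhiB hI i j c h) := by
  obtain ⟨h, h1, h2, h3, h4, h5⟩ := h
  constructor
  · intro v hv
    rw [PhiB_apply]
    rw [if_neg]
    rintro ⟨h0', h1'⟩
    apply hv
    intro l
    fin_cases l
    · exact h0'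
    · exact h1'
    · exact nonneg2B hI i j c v.2
  · intro v w l hw
    rw [PhiB_apply, PhiB_apply]
    have hw0 := congrFun hw 0
    have hw1 := congrFun hw 1
    have hw2 := congrFun hw 2
    obtain ⟨P', Q', hP', hQ', hlo⟩ := loB hI i j c v.2
    fin_cases l
    · have hw0' : w.1 0 = v.1 0 + 1 := by simpa using hw0
      have hw1' : w.1 1 = v.1 1 := by simpa using hw1
      have hw2' : w.1 2 = v.1 2 := by simpa using hw2
      by_cases hv1 : 0 ≤ v.1 1
      · rcases lt_trichotomy (v.1 0) (-1) with hlt | heq | hgt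
        · rw [if_neg (by omega), if_neg (by omega)]
        · rw [if_neg (by omega), if_pos (by omega)]
          symm
          have hhi := hiB hI i j c w.2 (by omega) (by omega)
          have e0 : (w.1 0).toNat = 0 := by omega
          rw [e0] at hhi ⊢
          apply h4
          rw [KB_W]
          have eP : P' = 0 + i := by omega
          have eQ : Q' = (w.1 1).toNat + 1 + j := by omega
          subst eP eQ
          have : (stairZ I (0 + i) ((w.1 1).toNat + 1 + j) : ℤ) + c + 1 ≤
              stairZ I 0 (w.1 1).toNat := by omega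
          show ¬ (stairZ I 0 (w.1 1).toNat < stairZ I (0 + i) ((w.1 1).toNat + 1 + j) + (c + 1))
          omega
        · rw [if_pos (by omega), if_pos (by omega)]
          have hhi := hiB hI i j c w.2 (by omega) (by omega)
          have e0 : (w.1 0).toNat = (v.1 0).toNat + 1 := by omega
          have e1 : (w.1 1).toNat = (v.1 1).toNat := by omega
          rw [e0, e1] at hhi ⊢
          symm
          apply h2 ((v.1 0).toNat, (v.1 1).toNat)
          rw [KB_W]
          have eP : P' = (v.1 0).toNat + 1 + i := by omega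
          have eQ : Q' = (v.1 1).toNat + 1 + j := by omega
          subst eP eQ
          show ¬ (stairZ I ((v.1 0).toNat + 1) (v.1 1).toNat <
            stairZ I ((v.1 0).toNat + 1 + i) ((v.1 1).toNat + 1 + j) + (c + 1))
          omega
      · rw [if_neg (by omega), if_neg (by omega)]
    · have hw0' : w.1 0 = v.1 0 := by simpa using hw0
      have hw1' : w.1 1 = v.1 1 + 1 := by simpa using hw1
      have hw2' : w.1 2 = v.1 2 := by simpa using hw2
      by_cases hv0 : 0 ≤ v.1 0
      · rcases lt_trichotomy (v.1 1) (-1) with hlt | heq | hgt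
        · rw [if_neg (by omega), if_neg (by omega)]
        · rw [if_neg (by omega), if_pos (by omega)]
          symm
          have hhi := hiB hI i j c w.2 (by omega) (by omega)
          have e1 : (w.1 1).toNat = 0 := by omega
          rw [e1] at hhi ⊢
          apply h5
          rw [KB_H]
          have eP : P' = (w.1 0).toNat + 1 + i := by omega
          have eQ : Q' = 0 + j := by omega
          subst eP eQ
          show ¬ (stairZ I (w.1 0).toNat 0 < stairZ I ((w.1 0).toNat + 1 + i) (0 + j) + (c + 1))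
          omega
        · rw [if_pos (by omega), if_pos (by omega)]
          have hhi := hiB hI i j c w.2 (by omega) (by omega)
          have e0 : (w.1 0).toNat = (v.1 0).toNat := by omega
          have e1 : (w.1 1).toNat = (v.1 1).toNat + 1 := by omega
          rw [e0, e1] at hhi ⊢
          symm
          apply h3 ((v.1 0).toNat, (v.1 1).toNat)
          rw [KB_H]
          have eP : P' = (v.1 0).toNat + 1 + i := by omega
          have eQ : Q' = (v.1 1).toNat + 1 + j := by omega
          subst eP eQ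
          show ¬ (stairZ I (v.1 0).toNat ((v.1 1).toNat + 1) <
            stairZ I ((v.1 0).toNat + 1 + i) ((v.1 1).toNat + 1 + j) + (c + 1))
          omega
      · rw [if_neg (by omega), if_neg (by omega)]
    · have hw0' : w.1 0 = v.1 0 := by simpa using hw0
      have hw1' : w.1 1 = v.1 1 := by simpa using hw1
      rw [hw0', hw1']

include hI in
/-- the bottom point of a column over a square outside the complex -/
theorem botB_mem (a : ℕ × ℕ) (hF : ¬ (KB hI i j c).F a) :
    ptB a ((stairZ I (a.1 + 1 + i) (a.2 + 1 + j) : ℤ) + c) ∈ region I (αB i j c) := by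
  rw [ptB_mem hI]
  refine ⟨le_rfl, ?_⟩
  rw [KB_F] at hF
  omega

include hI in
theorem PhiB_injective : Function.Injective (PhiB (k := k) hI i j c) := by
  rw [← LinearMap.ker_eq_bot, LinearMap.ker_eq_bot']
  intro h hh
  apply Subtype.ext
  funext a
  by_cases hF : (KB hI i j c).F a
  · exact h.2.1 a hF
  · have := congrFun hh ⟨_, botB_mem hI i j c a hF⟩
    rw [PhiB_apply] at this
    have e0 : ptB a ((stairZ I (a.1 + 1 + i) (a.2 + 1 + j) : ℤ) + c) 0 = (a.1 : ℤ) := rfl
    have e1 : ptB a ((stairZ I (a.1 + 1 + i) (a.2 + 1 + j) : ℤ) + c) 1 = (a.2 : ℤ) := rfl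
    simp only [e0, e1, Int.toNat_natCast] at this
    rw [if_pos ⟨by positivity, by positivity⟩] at this
    exact this

include hI in
theorem PhiB_surjective {f : region I (αB i j c) → k} (hf : IsAdm I (αB i j c) f) :
    ∃ h : ZB (k := k) (KB hI i j c), PhiB hI i j c h = f := by
  classical
  set K := KB hI i j c with hK
  set h : ℕ × ℕ → k := fun a => if hF : ¬ K.F a then f ⟨_, botB_mem hI i j c a hF⟩ else 0 with hh
  have hV : ∀ a (hF : ¬ K.F a), h a = f ⟨_, botB_mem hI i j c a hF⟩ := fun a hF => dif_pos hF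
  have hcol : ∀ (a : ℕ × ℕ) (s : ℤ) (hs : ptB a s ∈ region I (αB i j c)), f ⟨_, hs⟩ = h a := by
    intro a s hs
    have h1 := (ptB_mem hI i j c a s).1 hs
    have hF : ¬ K.F a := by
      rw [hK, KB_F]
      omega
    rw [hV a hF]
    exact admB_col hI i j c hf a _ s (botB_mem hI i j c a hF) hs h1.1
  have hZ : h ∈ ZB (k := k) K := by
    refine ⟨fun a ha => dif_neg (not_not.2 ha), fun a ha => ?_, fun a ha => ?_, fun q hq => ?_,
      fun p hp => ?_⟩
    · rw [hK, KB_W] at ha
      have ha' : ¬ (stairZ I (a.1 + 1) a.2 < stairZ I (a.1 + 1 + i) (a.2 + 1 + j) + (c + 1)) := ha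
      have hm1 := stairZ_mono hI (p := a.1) (q := a.2) (p' := a.1 + 1) (q' := a.2)
        (by omega) le_rfl
      have hm2 := stairZ_mono hI (p := a.1 + 1 + i) (q := a.2 + 1 + j) (p' := a.1 + 1 + 1 + i)
        (q' := a.2 + 1 + j) (by omega) le_rfl
      have hs : ptB a ((stairZ I (a.1 + 1 + i) (a.2 + 1 + j) : ℤ) + c) ∈ region I (αB i j c) := by
        rw [ptB_mem hI]
        refine ⟨le_rfl, ?_⟩
        omega
      have hs' : ptB (a.1 + 1, a.2) ((stairZ I (a.1 + 1 + i) (a.2 + 1 + j) : ℤ) + c) ∈
          region I (αB i j c) := by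
        rw [ptB_mem hI]
        constructor
        · show (stairZ I (a.1 + 1 + 1 + i) (a.2 + 1 + j) : ℤ) + c ≤ _
          omega
        · show _ < (stairZ I (a.1 + 1) a.2 : ℤ)
          omega
      rw [← hcol _ _ hs, ← hcol _ _ hs']
      symm
      exact hf.step ⟨_, hs⟩ ⟨_, hs'⟩ 0 (ptB_step0 a _)
    · rw [hK, KB_H] at ha
      have ha' : ¬ (stairZ I a.1 (a.2 + 1) < stairZ I (a.1 + 1 + i) (a.2 + 1 + j) + (c + 1)) := ha
      have hm1 := stairZ_mono hI (p := a.1) (q := a.2) (p' := a.1) (q' := a.2 + 1)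
        le_rfl (by omega)
      have hm2 := stairZ_mono hI (p := a.1 + 1 + i) (q := a.2 + 1 + j) (p' := a.1 + 1 + i)
        (q' := a.2 + 1 + 1 + j) le_rfl (by omega)
      have hs : ptB a ((stairZ I (a.1 + 1 + i) (a.2 + 1 + j) : ℤ) + c) ∈ region I (αB i j c) := by
        rw [ptB_mem hI]
        refine ⟨le_rfl, ?_⟩
        omega
      have hs' : ptB (a.1, a.2 + 1) ((stairZ I (a.1 + 1 + i) (a.2 + 1 + j) : ℤ) + c) ∈
          region I (αB i j c) := by
        rw [ptB_mem hI]
        constructor
        · show (stairZ I (a.1 + 1 + i) (a.2 + 1 + 1 + j) : ℤ) + c ≤ _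
          omega
        · show _ < (stairZ I a.1 (a.2 + 1) : ℤ)
          omega
      rw [← hcol _ _ hs, ← hcol _ _ hs']
      symm
      exact hf.step ⟨_, hs⟩ ⟨_, hs'⟩ 1 (ptB_step1 a _)
    · rw [hK, KB_W] at hq
      have hq' : ¬ (stairZ I 0 q < stairZ I (0 + i) (q + 1 + j) + (c + 1)) := hq
      have hm2 := stairZ_mono hI (p := 0 + i) (q := q + 1 + j) (p' := 0 + 1 + i)
        (q' := q + 1 + j) (by omega) le_rfl
      have hs : ![(-1 : ℤ), (q : ℤ), (stairZ I (0 + i) (q + 1 + j) : ℤ) + c] ∈
          region I (αB i j c) := by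
        rw [left_mem hI]
      have hs' : ptB (0, q) ((stairZ I (0 + i) (q + 1 + j) : ℤ) + c) ∈ region I (αB i j c) := by
        rw [ptB_mem hI]
        constructor
        · show (stairZ I (0 + 1 + i) (q + 1 + j) : ℤ) + c ≤ _
          omega
        · show _ < (stairZ I 0 q : ℤ)
          omega
      rw [← hcol _ _ hs']
      rw [← hf.step ⟨_, hs⟩ ⟨_, hs'⟩ 0 (ptB_left q _)]
      apply hf.neg
      intro hnn
      have := hnn 0
      have e : (![(-1 : ℤ), (q : ℤ), (stairZ I (0 + i) (q + 1 + j) : ℤ) + c] 0) = -1 := rfl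
      change (0 : ℤ) ≤ ![(-1 : ℤ), (q : ℤ), (stairZ I (0 + i) (q + 1 + j) : ℤ) + c] 0 at this
      rw [e] at this
      omega
    · rw [hK, KB_H] at hp
      have hp' : ¬ (stairZ I p 0 < stairZ I (p + 1 + i) (0 + j) + (c + 1)) := hp
      have hm2 := stairZ_mono hI (p := p + 1 + i) (q := 0 + j) (p' := p + 1 + i)
        (q' := 0 + 1 + j) le_rfl (by omega)
      have hs : ![(p : ℤ), (-1 : ℤ), (stairZ I (p + 1 + i) (0 + j) : ℤ) + c] ∈
          region I (αB i j c) := by
        rw [bot_mem hI]
      have hs' : ptB (p, 0) ((stairZ I (p + 1 + i) (0 + j) : ℤ) + c) ∈ region I (αB i j c) := by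
        rw [ptB_mem hI]
        constructor
        · show (stairZ I (p + 1 + i) (0 + 1 + j) : ℤ) + c ≤ _
          omega
        · show _ < (stairZ I p 0 : ℤ)
          omega
      rw [← hcol _ _ hs']
      rw [← hf.step ⟨_, hs⟩ ⟨_, hs'⟩ 1 (ptB_bot p _)]
      apply hf.neg
      intro hnn
      have := hnn 1
      have e : (![(p : ℤ), (-1 : ℤ), (stairZ I (p + 1 + i) (0 + j) : ℤ) + c] 1) = -1 := rfl
      change (0 : ℤ) ≤ ![(p : ℤ), (-1 : ℤ), (stairZ I (p + 1 + i) (0 + j) : ℤ) + c] 1 at this
      rw [e] at this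
      omega
  refine ⟨⟨h, hZ⟩, ?_⟩
  funext v
  rw [PhiB_apply]
  by_cases hv : 0 ≤ v.1 0 ∧ 0 ≤ v.1 1
  · rw [if_pos hv]
    have e := eq_ptB hv.1 hv.2
    have hs : ptB ((v.1 0).toNat, (v.1 1).toNat) (v.1 2) ∈ region I (αB i j c) := by
      rw [← e]; exact v.2
    show h ((v.1 0).toNat, (v.1 1).toNat) = f v
    rw [← hcol _ _ hs]
    exact f_congr f hs v.2 e.symm
  · rw [if_neg hv]
    symm
    apply hf.neg
    intro hnn
    exact hv ⟨hnn 0, hnn 1⟩

/-- the `B`-side equivalence -/
def equivB' : ZB (k := k) (KB hI i j c) ≃ₗ[k] AdmSub I (αB i j c) :=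
  LinearEquiv.ofBijective
    ((PhiB hI i j c).codRestrict (AdmSub I (αB i j c)) (isAdm_PhiB hI i j c))
    ⟨by
      intro g g' h
      exact PhiB_injective hI i j c (congrArg Subtype.val h),
    by
      rintro ⟨f, hf⟩
      obtain ⟨g, hg⟩ := PhiB_surjective hI i j c hf
      exact ⟨g, Subtype.ext hg⟩⟩

include hI in
theorem finrank_tPiece_B :
    Module.finrank k (tPiece I (αB i j c)) =
      Module.finrank k (ZB (k := k) ((stairFn hI).cpx i j (c + 1) (Nat.succ_pos c))) := by
  rw [finrank_tPiece_eq hI, (equivB' hI i j c).finrank_eq]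

end

end Groth.Agent.Helper7.PlDu
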