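import Mathlib
import Groth.Prelude.Def_W4c1hilbpnTgt
import Groth.Agent.Helper7.HTd

/-! Planar duality count, part I: independence of the graded pieces of `T(I)` and the dimension
of a span of independent subspaces. -/

set_option autoImplicit false
set_option linter.style.haveILetI false
set_option linter.unusedSectionVars false

namespace Groth.Agent.Helper7.PlDu

open MvPolynomial W4c1hilbpn Groth.Agent.Helper7.HTa Groth.Agent.Helper7.HTb
  Groth.Agent.Helper7.HTc Groth.Agent.Helper7.HTd

noncomputable section

section generic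

variable {k V : Type*} [Field k] [AddCommGroup V] [Module k V]

/-- dimension of the span of an independent family over a finset -/
theorem finrank_biSup_of_indep {ι : Type*} [DecidableEq ι] (p : ι → Submodule k V)
    (hind : iSupIndep p) [∀ i, FiniteDimensional k (p i)] (s : Finset ι) :
    FiniteDimensional k ↥(⨆ i ∈ s, p i) ∧
      Module.finrank k ↥(⨆ i ∈ s, p i) = ∑ i ∈ s, Module.finrank k (p i) := by
  induction s using Finset.induction_on with
  | empty =>
    have e : (⨆ i ∈ (∅ : Finset ι), p i) = ⊥ := by simp
    rw [e, Finset.sum_empty]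
    exact ⟨inferInstance, finrank_bot k V⟩
  | insert a s ha ih =>
    obtain ⟨hfd, hfr⟩ := ih
    have e : (⨆ i ∈ insert a s, p i) = p a ⊔ ⨆ i ∈ s, p i := by
      rw [Finset.iSup_insert]
    have hdis : Disjoint (p a) (⨆ i ∈ s, p i) := hind.disjoint_biSup ha
    rw [e, Finset.sum_insert ha]
    haveI := hfd
    refine ⟨inferInstance, ?_⟩
    have := Submodule.finrank_sup_add_finrank_inf_eq (p a) (⨆ i ∈ s, p i)
    rw [hdis.eq_bot, finrank_bot, add_zero] at this
    rw [this, hfr]

/-- dimension of the span of an independent family with finitely many nonzero members -/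
theorem finrank_iSup_of_indep {ι : Type*} (p : ι → Submodule k V)
    (hind : iSupIndep p) [∀ i, FiniteDimensional k (p i)] (s : Finset ι)
    (hs : ∀ i, i ∉ s → p i = ⊥) :
    Module.finrank k ↥(⨆ i, p i) = ∑ i ∈ s, Module.finrank k (p i) := by
  classical
  have e : (⨆ i, p i) = ⨆ i ∈ s, p i := by
    apply le_antisymm
    · apply iSup_le
      intro i
      by_cases hi : i ∈ s
      · exact le_biSup p hi
      · rw [hs i hi]; exact bot_le
    · exact iSup₂_le fun i _ => le_iSup p i
  rw [e]
  exact (finrank_biSup_of_indep p hind s).2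

end generic

variable {σ : Type*} {k : Type*} [Field k] [Fintype σ] [DecidableEq σ]
variable {I : Ideal (MvPolynomial σ k)}

open Classical in
/-- the coefficient function in degree `α`, cut off at nonnegative points -/
def prL (I : Ideal (MvPolynomial σ k)) (α : σ → ℤ) : Tgt I →ₗ[k] (region I α → k) where
  toFun φ := fun v => if nn v.1 then co I α φ v else 0
  map_add' φ ψ := by
    funext v
    have : co I α (φ + ψ) v = co I α φ v + co I α ψ v := by
      have := congrFun (map_add (coL I α) φ ψ) v
      exact this
    show (if _ then co I α (φ + ψ) v else 0) = (if _ then _ else 0) + (if _ then _ else 0)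
    rw [this]
    split_ifs <;> simp
  map_smul' c φ := by
    funext v
    have : co I α (c • φ) v = c • co I α φ v := by
      have := congrFun (map_smul (coL I α) c φ) v
      exact this
    show (if _ then co I α (c • φ) v else 0) = c • (if _ then _ else 0)
    rw [this]
    split_ifs <;> simp

open Classical in
theorem prL_apply (α : σ → ℤ) (φ : Tgt I) (v : region I α) :
    prL I α φ v = if nn v.1 then co I α φ v else 0 := rfl

theorem prL_eq_co {α : σ → ℤ} {φ : Tgt I} (hφ : φ ∈ tPiece I α) : prL I α φ = co I α φ := by
  funext v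
  rw [prL_apply]
  by_cases hn : nn v.1
  · rw [if_pos hn]
  · rw [if_neg hn, co_eq_zero_of_not_nn hφ v hn]

theorem prL_eq_zero (hI : IsMonomial I) {α α' : σ → ℤ} (hne : α' ≠ α) {φ : Tgt I}
    (hφ : φ ∈ tPiece I α') : prL I α φ = 0 := by
  funext v
  rw [prL_apply]
  by_cases hn : nn v.1
  · rw [if_pos hn]
    show co I α φ v = 0
    have hβ := bOf_mem I α v.2
    have htr := tr_bOf I α v.2
    rw [co]
    by_cases hn' : nn (tr α' (bOf α v.1))
    · obtain ⟨a, ha⟩ := exists_eq_of_nn hφ hβ hn'
      have hb : mon I (bOf_mem I α v.2) = mon I hβ := rfl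
      rw [hb, ha, cf_mk hI (notMem_of_region_nn v.2 hn), coeff_monomial, if_neg]
      intro heq
      apply hne
      have h1 : toInt (toN (tr α' (bOf α v.1))) = toInt (toN v.1) := by rw [heq]
      rw [toInt_toN hn', toInt_toN hn] at h1
      funext l
      have := congrFun h1 l
      have h2 := congrFun htr l
      simp only [tr] at this h2
      linarith
    · have hb : mon I (bOf_mem I α v.2) = mon I hβ := rfl
      rw [hb, eq_zero_of_not_nn hφ hβ hn', map_zero]
  · rw [if_neg hn]
    rfl

/-- the graded pieces are independent -/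
theorem indep_tPiece (hI : IsMonomial I) : iSupIndep (fun α : σ → ℤ => tPiece I α) := by
  intro α
  rw [Submodule.disjoint_def]
  intro φ hφ hφ'
  have hle : (⨆ (α' : σ → ℤ) (_ : α' ≠ α), tPiece I α') ≤ LinearMap.ker (prL I α) := by
    apply iSup₂_le
    intro α' hne ψ hψ
    exact prL_eq_zero hI hne hψ
  have h0 : prL I α φ = 0 := hle hφ'
  rw [prL_eq_co hφ] at h0
  exact eq_zero_of_co_eq_zero hI hφ (fun v => congrFun h0 v)

/-- the graded pieces are finite dimensional -/
theorem finite_tPiece (hI : IsMonomial I) [Module.Finite k (MvPolynomial σ k ⧸ I)]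
    (hσ : ∀ j : σ, ∃ i, i ≠ j) (α : σ → ℤ) : FiniteDimensional k (tPiece I α) := by
  have := finite_Bdd (α := α) hI hσ
  exact Module.Finite.of_injective (Psi I α) (Psi_injective hI hσ)

end

end Groth.Agent.Helper7.PlDu
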