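import Mathlib
import Groth.Prelude.Def_W4c1hilbpnTgt
import Groth.Agent.Helper7.PlDuH
import Groth.Agent.Helper7.PlDuI
import Groth.Agent.Helper6.TgtDecomp

/-! Planar duality count, part J: the summed identity for graded pieces; finiteness of `T(I)`;
the dimension of the span of the pieces `(i, j, *)` against `(-i-1, -j-1, *)`. -/

set_option autoImplicit false
set_option linter.style.haveILetI false
set_option linter.unusedSectionVars false

namespace Groth.Agent.Helper7.PlDu

open MvPolynomial W4c1hilbpn Groth.Agent.Helper7.HTa Groth.Agent.Helper7.HTb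
  Groth.Agent.Helper7.HTc Groth.Agent.Helper7.HTd Groth.Agent.Helper7.Stair

noncomputable section

section generic

variable {k V : Type*} [Field k] [AddCommGroup V] [Module k V]

/-- dimension of the span of a subfamily of an independent family, reindexed -/
theorem finrank_iSup_sub {ι X' : Type*} (p : ι → Submodule k V) (hind : iSupIndep p)
    [∀ i, FiniteDimensional k (p i)] (Q : ι → Prop) (X : Finset X') (e : X' → ι)
    (hinj : Set.InjOn e X) (h1 : ∀ x ∈ X, Q (e x))
    (h2 : ∀ i, Q i → p i ≠ ⊥ → ∃ x ∈ X, e x = i) :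
    Module.finrank k ↥(⨆ i : {i // Q i}, p i.1) = ∑ x ∈ X, Module.finrank k (p (e x)) := by
  classical
  have hind' : iSupIndep (fun i : {i // Q i} => p i.1) := hind.comp Subtype.val_injective
  rw [finrank_iSup_of_indep (fun i : {i // Q i} => p i.1) hind' ((X.image e).subtype Q)]
  · rw [Finset.sum_subtype_of_mem (fun i => Module.finrank k (p i))]
    · rw [Finset.sum_image hinj]
    · intro i hi
      rw [Finset.mem_image] at hi
      obtain ⟨x, hx, rfl⟩ := hi
      exact h1 x hx
  · intro i hi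
    by_contra hne
    obtain ⟨x, hx, hxe⟩ := h2 i.1 i.2 hne
    apply hi
    rw [Finset.mem_subtype, Finset.mem_image]
    exact ⟨x, hx, hxe⟩

end generic

section general

variable {σ : Type*} {k : Type*} [Field k] [Fintype σ] [DecidableEq σ]
variable {I : Ideal (MvPolynomial σ k)}

/-- `T(I)` is finite dimensional -/
theorem finite_Tgt (hI : IsMonomial I) [Module.Finite k (MvPolynomial σ k ⧸ I)] :
    Module.Finite k (Tgt I) := by
  classical
  obtain ⟨G, hG, hspan⟩ := Groth.Agent.Helper6.TgtDecomp.exists_gens hI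
  let ev : Tgt I →ₗ[k] ({β // β ∈ G} → MvPolynomial σ k ⧸ I) :=
    { toFun := fun φ β => φ (mon I (hG β.1 β.2))
      map_add' := fun φ ψ => rfl
      map_smul' := fun c φ => rfl }
  have hinj : Function.Injective ev := by
    intro φ ψ h
    exact Groth.Agent.Helper6.TgtDecomp.tgt_ext G hG hspan φ ψ
      (fun β hβ => congrFun h ⟨β, hβ⟩)
  exact Module.Finite.of_injective ev hinj

/-- only finitely many graded pieces are nonzero, and their multidegrees are bounded -/
theorem exists_bound_supp (hI : IsMonomial I) [Module.Finite k (MvPolynomial σ k ⧸ I)] :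
    ∃ N : ℕ, ∀ α : σ → ℤ, tPiece I α ≠ ⊥ → ∀ l, (α l).natAbs < N := by
  haveI := finite_Tgt hI
  have hfin : {α : σ → ℤ | tPiece I α ≠ ⊥}.Finite :=
    WellFoundedGT.finite_ne_bot_of_iSupIndep (indep_tPiece hI)
  refine ⟨hfin.toFinset.sup (fun α => Finset.univ.sup (fun l => (α l).natAbs)) + 1,
    fun α hα l => ?_⟩
  have h1 : (α l).natAbs ≤ Finset.univ.sup (fun l => (α l).natAbs) :=
    Finset.le_sup (f := fun l => (α l).natAbs) (Finset.mem_univ l)
  have h2 := Finset.le_sup (f := fun α : σ → ℤ => Finset.univ.sup (fun l => (α l).natAbs))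
    (hfin.mem_toFinset.mpr hα)
  omega

end general

variable {k : Type*} [Field k] {I : Ideal (MvPolynomial (Fin 3) k)}
variable (hI : IsMonomial I) [Module.Finite k (MvPolynomial (Fin 3) k ⧸ I)]

include hI in
/-- the summed identity -/
theorem core (i j N : ℕ) (hN : stairZ I 0 0 ≤ N) :
    ∑ m' ∈ Finset.range N, Module.finrank k (tPiece I (αA i j (m' + 1))) =
      ∑ c ∈ Finset.range N, Module.finrank k (tPiece I (αB i j c)) + stairZ I i j := by
  have h := sum_ZA_eq (k := k) (stairFn hI) i j N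
    (fun p q => le_trans (stairZ_le hI p q) hN)
  rw [Finset.sum_congr rfl (fun m' _ => finrank_tPiece_A hI i j (m' + 1) (Nat.succ_pos _)),
    Finset.sum_congr rfl (fun c _ => finrank_tPiece_B hI i j c)]
  exact h

theorem fin3_ne : ∀ j : Fin 3, ∃ i, i ≠ j := by decide

include hI in
theorem finrank_span_A (i j N : ℕ) (hN : ∀ α : Fin 3 → ℤ, tPiece I α ≠ ⊥ → ∀ l, (α l).natAbs < N) :
    Module.finrank k ↥(⨆ α : {α : Fin 3 → ℤ // α 0 = (i : ℤ) ∧ α 1 = (j : ℤ)}, tPiece I α.1) =
      ∑ m' ∈ Finset.range N, Module.finrank k (tPiece I (αA i j (m' + 1))) := by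
  haveI : ∀ α : Fin 3 → ℤ, FiniteDimensional k (tPiece I α) := finite_tPiece hI fin3_ne
  refine finrank_iSup_sub (fun α : Fin 3 → ℤ => tPiece I α) (indep_tPiece hI)
    (fun α => α 0 = (i : ℤ) ∧ α 1 = (j : ℤ)) (Finset.range N) (fun m' => αA i j (m' + 1))
    ?_ ?_ ?_
  · intro x _ y _ h
    have := congrFun h 2
    simp only [αA] at this
    have h2 : -(((x + 1 : ℕ)) : ℤ) = -(((y + 1 : ℕ)) : ℤ) := this
    omega
  · intro x _
    exact ⟨rfl, rfl⟩
  · rintro α ⟨h0, h1⟩ hne
    have h2 : α 2 < 0 := by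
      by_contra hge
      push Not at hge
      apply hne
      apply Groth.Agent.Helper6.TgtVanish.tPiece_eq_bot_of_nonneg hI
      intro l
      fin_cases l
      · show 0 ≤ α 0
        rw [h0]; positivity
      · show 0 ≤ α 1
        rw [h1]; positivity
      · exact hge
    have hb := hN α hne 2
    refine ⟨(-α 2 - 1).toNat, ?_, ?_⟩
    · rw [Finset.mem_range]
      omega
    · funext l
      fin_cases l
      · exact h0.symm
      · exact h1.symm
      · show -((((-α 2 - 1).toNat + 1 : ℕ)) : ℤ) = α 2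
        omega

include hI in
theorem finrank_span_B (i j N : ℕ) (hN : ∀ α : Fin 3 → ℤ, tPiece I α ≠ ⊥ → ∀ l, (α l).natAbs < N) :
    Module.finrank k ↥(⨆ α : {α : Fin 3 → ℤ // α 0 = -(i : ℤ) - 1 ∧ α 1 = -(j : ℤ) - 1},
        tPiece I α.1) =
      ∑ c ∈ Finset.range N, Module.finrank k (tPiece I (αB i j c)) := by
  haveI : ∀ α : Fin 3 → ℤ, FiniteDimensional k (tPiece I α) := finite_tPiece hI fin3_ne
  refine finrank_iSup_sub (fun α : Fin 3 → ℤ => tPiece I α) (indep_tPiece hI)
    (fun α => α 0 = -(i : ℤ) - 1 ∧ α 1 = -(j : ℤ) - 1) (Finset.range N) (fun c => αB i j c)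
    ?_ ?_ ?_
  · intro x _ y _ h
    have := congrFun h 2
    have h2 : ((x : ℕ) : ℤ) = ((y : ℕ) : ℤ) := this
    omega
  · intro x _
    exact ⟨rfl, rfl⟩
  · rintro α ⟨h0, h1⟩ hne
    have h2 : 0 ≤ α 2 := by
      by_contra hlt
      push Not at hlt
      apply hne
      apply Groth.Agent.Helper6.TgtVanish.tPiece_eq_bot_of_neg hI (i₁ := (0 : Fin 3)) (i₂ := 1)
      · intro l
        fin_cases l
        · show α 0 < 0
          rw [h0]
          have : (0 : ℤ) ≤ i := by positivity
          omega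
        · show α 1 < 0
          rw [h1]
          have : (0 : ℤ) ≤ j := by positivity
          omega
        · exact hlt
      · decide
    have hb := hN α hne 2
    refine ⟨(α 2).toNat, ?_, ?_⟩
    · rw [Finset.mem_range]
      omega
    · funext l
      fin_cases l
      · exact h0.symm
      · exact h1.symm
      · show (((α 2).toNat : ℕ) : ℤ) = α 2
        omega

include hI in
/-- the dimension of the span of the pieces `(i, j, *)` -/
theorem main_xy (i j : ℕ) :
    Module.finrank k ↥(⨆ α : {α : Fin 3 → ℤ // α 0 = (i : ℤ) ∧ α 1 = (j : ℤ)}, tPiece I α.1) =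
      stairZ I i j +
        Module.finrank k ↥(⨆ α : {α : Fin 3 → ℤ // α 0 = -(i : ℤ) - 1 ∧ α 1 = -(j : ℤ) - 1},
          tPiece I α.1) := by
  obtain ⟨N₀, hN₀⟩ := exists_bound_supp hI
  have hN : ∀ α : Fin 3 → ℤ, tPiece I α ≠ ⊥ → ∀ l, (α l).natAbs < max N₀ (stairZ I 0 0) :=
    fun α hα l => lt_of_lt_of_le (hN₀ α hα l) (le_max_left _ _)
  rw [finrank_span_A hI i j _ hN, finrank_span_B hI i j _ hN,
    core hI i j _ (le_max_right _ _), add_comm]

end

end Groth.Agent.Helper7.PlDu
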