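import Mathlib
import Groth.Prelude.Def_W4c1hilbpnTgt
import Groth.Agent.Helper7.PlDuJ

/-! Planar duality count, part K: permuting the variables. -/

set_option autoImplicit false
set_option linter.style.haveILetI false
set_option linter.unusedSectionVars false

namespace Groth.Agent.Helper7.PlDu

open MvPolynomial W4c1hilbpn Groth.Agent.Helper7.HTa Groth.Agent.Helper7.HTb
  Groth.Agent.Helper7.HTc Groth.Agent.Helper7.HTd

noncomputable section

variable {σ : Type*} {k : Type*} [Field k] [Fintype σ] [DecidableEq σ]
variable (I : Ideal (MvPolynomial σ k)) (π : Equiv.Perm σ)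

/-- the ideal with permuted variables -/
def permI : Ideal (MvPolynomial σ k) :=
  I.comap (rename π.symm : MvPolynomial σ k →ₐ[k] MvPolynomial σ k)

theorem mem_permI (p : MvPolynomial σ k) : p ∈ permI I π ↔ rename π.symm p ∈ I := Iff.rfl

theorem mem_exps_permI (β : σ →₀ ℕ) :
    β ∈ exps (permI I π) ↔ β.mapDomain π.symm ∈ exps I := by
  show monomial β (1 : k) ∈ permI I π ↔ monomial (β.mapDomain π.symm) (1 : k) ∈ I
  rw [mem_permI, rename_monomial]

theorem mapDomain_symm_apply (β : σ →₀ ℕ) (l : σ) : β.mapDomain π.symm l = β (π l) := by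
  rw [Finsupp.mapDomain_equiv_apply, Equiv.symm_symm]

theorem mapDomain_apply' (β : σ →₀ ℕ) (l : σ) : β.mapDomain π l = β (π.symm l) := by
  rw [Finsupp.mapDomain_equiv_apply]

variable {I}

theorem isMonomial_permI (hI : IsMonomial I) : IsMonomial (permI I π) := by
  intro p hp β hβ
  show monomial β (1 : k) ∈ permI I π
  rw [mem_permI, rename_monomial]
  apply hI _ ((mem_permI I π p).1 hp)
  rw [mem_support_iff, coeff_rename_mapDomain _ π.symm.injective]
  exact mem_support_iff.mp hβ

variable (I)

/-- the quotients are isomorphic -/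
def quotEquivPerm : (MvPolynomial σ k ⧸ I) ≃ₐ[k] (MvPolynomial σ k ⧸ permI I π) :=
  Ideal.quotientEquivAlg I (permI I π) (renameEquiv k π) (by
    apply le_antisymm
    · intro p hp
      have hp' : rename π.symm p ∈ I := hp
      have h1 := Ideal.mem_map_of_mem ((renameEquiv k π : MvPolynomial σ k ≃ₐ[k] MvPolynomial σ k) :
        MvPolynomial σ k →+* MvPolynomial σ k) hp'
      have h2 : ((renameEquiv k π : MvPolynomial σ k ≃ₐ[k] MvPolynomial σ k) :
          MvPolynomial σ k →+* MvPolynomial σ k) (rename π.symm p) = p := by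
        show rename π (rename π.symm p) = p
        rw [rename_rename]
        simp
      rw [h2] at h1
      exact h1
    · rw [Ideal.map_le_iff_le_comap]
      intro p hp
      show rename π.symm (rename π p) ∈ I
      rw [rename_rename]
      simpa using hp)

instance finite_permI [Module.Finite k (MvPolynomial σ k ⧸ I)] :
    Module.Finite k (MvPolynomial σ k ⧸ permI I π) :=
  Module.Finite.equiv (quotEquivPerm I π).toLinearEquiv

theorem finrank_permI : Module.finrank k (MvPolynomial σ k ⧸ permI I π) =
    Module.finrank k (MvPolynomial σ k ⧸ I) :=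
  (quotEquivPerm I π).toLinearEquiv.finrank_eq.symm

variable {I}

theorem nn_comp_symm (v : σ → ℤ) : nn (v ∘ π.symm) ↔ nn v := by
  constructor
  · intro h l
    have := h (π l)
    simpa using this
  · intro h l
    exact h _

theorem toN_comp_symm (v : σ → ℤ) : (toN (v ∘ π.symm)).mapDomain π.symm = toN v := by
  ext l
  rw [mapDomain_symm_apply, toN_apply, toN_apply]
  simp

theorem mem_region_perm (α v : σ → ℤ) :
    v ∘ π.symm ∈ region (permI I π) (α ∘ π.symm) ↔ v ∈ region I α := by
  rw [mem_region_iff, mem_region_iff, nn_comp_symm, mem_exps_permI, toN_comp_symm]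
  apply and_congr_left
  intro _
  constructor
  · rintro ⟨β', hβ', h⟩
    refine ⟨β'.mapDomain π.symm, (mem_exps_permI I π β').1 hβ', ?_⟩
    funext l
    have := congrFun h (π l)
    simp only [Function.comp_apply, Equiv.symm_apply_apply, tr] at this
    rw [this, tr, mapDomain_symm_apply]
  · rintro ⟨β, hβ, h⟩
    have e : (β.mapDomain π).mapDomain π.symm = β := by
      ext l
      rw [mapDomain_symm_apply, mapDomain_apply', Equiv.symm_apply_apply]
    refine ⟨β.mapDomain π, ?_, ?_⟩
    · rw [mem_exps_permI, e]
      exact hβ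
    · funext l
      have := congrFun h (π.symm l)
      simp only [Function.comp_apply, tr] at this ⊢
      rw [this, mapDomain_apply']

theorem comp_comp_symm (v : σ → ℤ) : (v ∘ π) ∘ π.symm = v := by
  funext l; simp

theorem mem_region_perm' (α v' : σ → ℤ) :
    v' ∈ region (permI I π) (α ∘ π.symm) ↔ v' ∘ π ∈ region I α := by
  rw [← mem_region_perm π α (v' ∘ π), comp_comp_symm]

/-- the bijection of regions -/
def regionEquiv (α : σ → ℤ) : region I α ≃ region (permI I π) (α ∘ π.symm) where
  toFun v := ⟨v.1 ∘ π.symm, (mem_region_perm π α v.1).2 v.2⟩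
  invFun v' := ⟨v'.1 ∘ π, (mem_region_perm' π α v'.1).1 v'.2⟩
  left_inv v := by
    apply Subtype.ext
    funext l
    simp
  right_inv v' := by
    apply Subtype.ext
    funext l
    simp

theorem isAdm_perm_fwd (α : σ → ℤ) {f' : region (permI I π) (α ∘ π.symm) → k}
    (hf' : IsAdm (permI I π) (α ∘ π.symm) f') : IsAdm I α (f' ∘ regionEquiv π α) := by
  constructor
  · intro v hv
    apply hf'.neg
    intro h
    exact hv ((nn_comp_symm π v.1).1 h)
  · intro v w i hw
    apply hf'.step _ _ (π i)
    show w.1 ∘ π.symm = fun j => (v.1 ∘ π.symm) j + if j = π i then 1 else 0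
    funext l
    rw [Function.comp_apply, hw]
    simp only [Function.comp_apply]
    by_cases hl : l = π i
    · rw [if_pos hl, if_pos (by rw [hl]; simp)]
    · rw [if_neg hl, if_neg]
      intro h
      apply hl
      rw [← h]; simp

theorem isAdm_perm_bwd (α : σ → ℤ) {f : region I α → k}
    (hf : IsAdm I α f) : IsAdm (permI I π) (α ∘ π.symm) (f ∘ (regionEquiv π α).symm) := by
  constructor
  · intro v' hv'
    apply hf.neg
    intro h
    apply hv'
    have := (nn_comp_symm π (v'.1 ∘ π)).2 h
    rwa [comp_comp_symm] at this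
  · intro v' w' i' hw'
    apply hf.step _ _ (π.symm i')
    show w'.1 ∘ π = fun j => (v'.1 ∘ π) j + if j = π.symm i' then 1 else 0
    funext l
    rw [Function.comp_apply, hw']
    simp only [Function.comp_apply]
    by_cases hl : l = π.symm i'
    · rw [if_pos hl, if_pos (by rw [hl]; simp)]
    · rw [if_neg hl, if_neg]
      intro h
      apply hl
      rw [← h]; simp

/-- the equivalence of spaces of admissible functions -/
def admEquivPerm (α : σ → ℤ) : AdmSub (permI I π) (α ∘ π.symm) ≃ₗ[k] AdmSub I α where
  toFun f' := ⟨f'.1 ∘ regionEquiv π α, isAdm_perm_fwd π α f'.2⟩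
  map_add' _ _ := rfl
  map_smul' _ _ := rfl
  invFun f := ⟨f.1 ∘ (regionEquiv π α).symm, isAdm_perm_bwd π α f.2⟩
  left_inv f' := by
    apply Subtype.ext
    funext v'
    simp
  right_inv f := by
    apply Subtype.ext
    funext v
    simp

theorem finrank_tPiece_perm (hI : IsMonomial I) (α : σ → ℤ) :
    Module.finrank k (tPiece (permI I π) (α ∘ π.symm)) = Module.finrank k (tPiece I α) := by
  rw [finrank_tPiece_eq (isMonomial_permI π hI), finrank_tPiece_eq hI,
    (admEquivPerm π α).finrank_eq]

theorem finite_supp (hI : IsMonomial I) [Module.Finite k (MvPolynomial σ k ⧸ I)] :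
    {α : σ → ℤ | tPiece I α ≠ ⊥}.Finite := by
  haveI := finite_Tgt hI
  exact WellFoundedGT.finite_ne_bot_of_iSupIndep (indep_tPiece hI)

/-- the sign-pattern pieces of the permuted ideal -/
theorem finrank_sigPiece_perm (hI : IsMonomial I) [Module.Finite k (MvPolynomial σ k ⧸ I)]
    (hσ : ∀ j : σ, ∃ i, i ≠ j) (N : Set σ) :
    Module.finrank k ↥(sigPiece (permI I π) (π '' N)) = Module.finrank k ↥(sigPiece I N) := by
  classical
  have hI' := isMonomial_permI π hI
  haveI : ∀ α : σ → ℤ, FiniteDimensional k (tPiece I α) := finite_tPiece hI hσ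
  haveI : ∀ α : σ → ℤ, FiniteDimensional k (tPiece (permI I π) α) := finite_tPiece hI' hσ
  have hfin := finite_supp hI
  set X : Finset (σ → ℤ) := hfin.toFinset.filter (fun α => ∀ l, α l < 0 ↔ l ∈ N) with hX
  have hL : Module.finrank k ↥(sigPiece (permI I π) (π '' N)) =
      ∑ α ∈ X, Module.finrank k (tPiece (permI I π) (α ∘ π.symm)) := by
    refine finrank_iSup_sub (fun α : σ → ℤ => tPiece (permI I π) α) (indep_tPiece hI')
      (fun α' => ∀ l, α' l < 0 ↔ l ∈ π '' N) X (fun α => α ∘ π.symm) ?_ ?_ ?_
    · intro α _ β _ h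
      funext l
      have := congrFun h (π l)
      simpa using this
    · intro α hα l
      rw [hX, Finset.mem_filter] at hα
      rw [Function.comp_apply, hα.2, Set.mem_image_equiv]
    · intro α' hα' hne
      refine ⟨α' ∘ π, ?_, comp_comp_symm π α'⟩
      rw [hX, Finset.mem_filter, Set.Finite.mem_toFinset]
      refine ⟨?_, ?_⟩
      · show tPiece I (α' ∘ π) ≠ ⊥
        intro hbot
        apply hne
        have h1 := finrank_tPiece_perm π hI (α' ∘ π)
        rw [comp_comp_symm, hbot, finrank_bot] at h1
        exact Submodule.finrank_eq_zero.mp h1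
      · intro l
        rw [Function.comp_apply, hα', Set.mem_image_equiv, Equiv.symm_apply_apply]
  have hR : Module.finrank k ↥(sigPiece I N) = ∑ α ∈ X, Module.finrank k (tPiece I α) := by
    refine finrank_iSup_sub (fun α : σ → ℤ => tPiece I α) (indep_tPiece hI)
      (fun α => ∀ l, α l < 0 ↔ l ∈ N) X (fun α => α) ?_ ?_ ?_
    · intro α _ β _ h
      exact h
    · intro α hα
      rw [hX, Finset.mem_filter] at hα
      exact hα.2
    · intro α hα hne
      refine ⟨α, ?_, rfl⟩
      rw [hX, Finset.mem_filter, Set.Finite.mem_toFinset]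
      exact ⟨hne, hα⟩
  rw [hL, hR]
  exact Finset.sum_congr rfl (fun α _ => finrank_tPiece_perm π hI α)

end

end Groth.Agent.Helper7.PlDu
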