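import Mathlib
import Groth.Agent.Helper7.StairA
import Groth.Agent.S13453

/-!
# Colength of ideals cut out by coefficient conditions; staircase numbers of strongly stable ideals
(helper7)
-/

set_option autoImplicit false
set_option linter.style.haveILetI false
set_option linter.unusedSectionVars false

namespace Groth.Agent.Helper7.Stair

open MvPolynomial W4c1hilbpn

section General

variable {σ : Type*} {k : Type*} [Field k]

/-- the coefficient map -/
noncomputable def coeffMap (N : Finset (σ →₀ ℕ)) :
    MvPolynomial σ k →ₗ[k] ({β // β ∈ N} → k) :=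
  LinearMap.pi fun β => MvPolynomial.lcoeff k β.1

theorem coeffMap_apply (N : Finset (σ →₀ ℕ)) (f : MvPolynomial σ k) (β : {β // β ∈ N}) :
    coeffMap N f β = coeff β.1 f := rfl

theorem coeffMap_surjective (N : Finset (σ →₀ ℕ)) :
    Function.Surjective (coeffMap (k := k) N) := by
  classical
  intro g
  refine ⟨∑ β ∈ N.attach, monomial β.1 (g β), ?_⟩
  funext β
  rw [coeffMap_apply, coeff_sum, Finset.sum_eq_single β]
  · rw [coeff_monomial, if_pos rfl]
  · intro γ _ hγ
    rw [coeff_monomial, if_neg]
    intro h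
    exact hγ (Subtype.ext h)
  · intro h
    exact absurd (Finset.mem_attach _ _) h

/-- an ideal cut out by the vanishing of finitely many coefficients has that colength -/
theorem finrank_quot_of_coeff (J : Ideal (MvPolynomial σ k)) (N : Finset (σ →₀ ℕ))
    (h : ∀ f, f ∈ J ↔ ∀ β ∈ N, coeff β f = 0) :
    Module.finrank k (MvPolynomial σ k ⧸ J) = N.card := by
  have hker : J.restrictScalars k = LinearMap.ker (coeffMap (k := k) N) := by
    ext f
    rw [Submodule.restrictScalars_mem, LinearMap.mem_ker, h]
    constructor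
    · intro hf
      funext β
      exact hf β.1 β.2
    · intro hf β hβ
      exact congrFun hf ⟨β, hβ⟩
  let e : (MvPolynomial σ k ⧸ J) ≃ₗ[k] ({β // β ∈ N} → k) :=
    ((Submodule.Quotient.restrictScalarsEquiv k J).symm.trans
      (Submodule.quotEquivOfEq _ _ hker)).trans
      ((coeffMap (k := k) N).quotKerEquivOfSurjective (coeffMap_surjective N))
  rw [e.finrank_eq, Module.finrank_fintype_fun_eq_card, Fintype.card_coe]

end General

section Stable

variable {k : Type*} [Field k] {I : Ideal (MvPolynomial (Fin 3) k)}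
variable (hI : IsStronglyStable I) [Module.Finite k (MvPolynomial (Fin 3) k ⧸ I)]

include hI in
/-- `x > z` -/
theorem stairZ_succ_left_lt (i j : ℕ) (h : 0 < stairZ I i j) :
    stairZ I (i + 1) j + 1 ≤ stairZ I i j := by
  have h1 : e3 i j (stairZ I i j) ∈ exps I := (mem_exps_iff hI.1 i j _).2 le_rfl
  have h2 := hI.2 _ h1 0 2 (by decide) (by rw [e3_2]; exact h)
  have e : e3 i j (stairZ I i j) - Finsupp.single 2 1 + Finsupp.single 0 1 =
      e3 (i + 1) j (stairZ I i j - 1) := by
    ext l
    fin_cases l <;> simp [e3_0, e3_1, e3_2]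
  rw [e, mem_exps_iff hI.1] at h2
  omega

include hI in
/-- `y > z` -/
theorem stairZ_succ_right_lt (i j : ℕ) (h : 0 < stairZ I i j) :
    stairZ I i (j + 1) + 1 ≤ stairZ I i j := by
  have h1 : e3 i j (stairZ I i j) ∈ exps I := (mem_exps_iff hI.1 i j _).2 le_rfl
  have h2 := hI.2 _ h1 1 2 (by decide) (by rw [e3_2]; exact h)
  have e : e3 i j (stairZ I i j) - Finsupp.single 2 1 + Finsupp.single 1 1 =
      e3 i (j + 1) (stairZ I i j - 1) := by
    ext l
    fin_cases l <;> simp [e3_0, e3_1, e3_2]
  rw [e, mem_exps_iff hI.1] at h2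
  omega

include hI in
/-- `x > y` -/
theorem stairZ_diag_le (i j : ℕ) : stairZ I (i + 1) j ≤ stairZ I i (j + 1) := by
  have h1 : e3 i (j + 1) (stairZ I i (j + 1)) ∈ exps I := (mem_exps_iff hI.1 i (j + 1) _).2 le_rfl
  have h2 := hI.2 _ h1 0 1 (by decide) (by rw [e3_1]; omega)
  have e : e3 i (j + 1) (stairZ I i (j + 1)) - Finsupp.single 1 1 + Finsupp.single 0 1 =
      e3 (i + 1) j (stairZ I i (j + 1)) := by
    ext l
    fin_cases l <;> simp [e3_0, e3_1, e3_2]
  rw [e, mem_exps_iff hI.1] at h2
  exact h2

include hI in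
theorem stairZ_add_le (i j : ℕ) : stairZ I i j ≤ stairZ I i 0 - j := by
  induction j with
  | zero => simp
  | succ j ih =>
    by_cases h : 0 < stairZ I i j
    · have := stairZ_succ_right_lt hI i j h
      omega
    · have h0 : stairZ I i j = 0 := by omega
      have : stairZ I i (j + 1) ≤ stairZ I i j := stairZ_mono hI.1 (le_refl i) (Nat.le_add_right j 1)
      omega

/-- column sum: the number of monomials `x^i y^j z^c ∉ I` -/
noncomputable def colA (I : Ideal (MvPolynomial (Fin 3) k)) (i : ℕ) : ℕ :=
  ∑ j ∈ Finset.range (stairZ I i 0), stairZ I i j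

theorem choose_two_succ (n : ℕ) : (n + 2).choose 2 = (n + 1).choose 2 + (n + 1) := by
  have := Nat.choose_succ_succ' (n + 1) 1
  rw [Nat.choose_one_right] at this
  have e : (n + 1 + 1).choose (1 + 1) = (n + 2).choose 2 := rfl
  have e' : (n + 1).choose (1 + 1) = (n + 1).choose 2 := rfl
  rw [e, e'] at this
  omega

theorem sum_range_sub (n : ℕ) : ∑ j ∈ Finset.range n, (n - j) = (n + 1).choose 2 := by
  induction n with
  | zero => simp
  | succ n ih =>
    rw [Finset.sum_range_succ']
    have e : ∀ j, n + 1 - (j + 1) = n - j := fun j => by omega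
    simp only [e]
    rw [ih, choose_two_succ]
    omega

include hI in
theorem colA_le (i : ℕ) : colA I i ≤ (stairZ I i 0 + 1).choose 2 := by
  rw [← sum_range_sub]
  exact Finset.sum_le_sum fun j _ => stairZ_add_le hI i j

include hI in
theorem colA_succ_add_le (i : ℕ) (h : 0 < stairZ I (i + 1) 0) :
    colA I (i + 1) + stairZ I (i + 1) 0 + 1 ≤ colA I i := by
  have hmono : stairZ I (i + 1) 0 ≤ stairZ I i 0 :=
    stairZ_mono hI.1 (Nat.le_add_right i 1) (le_refl 0)
  have h1 := stairZ_succ_left_lt hI i 0 (by omega)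
  unfold colA
  calc ∑ j ∈ Finset.range (stairZ I (i + 1) 0), stairZ I (i + 1) j + stairZ I (i + 1) 0 + 1
      ≤ ∑ j ∈ Finset.range (stairZ I (i + 1) 0), stairZ I i (j + 1) + stairZ I i 0 := by
        have := Finset.sum_le_sum (s := Finset.range (stairZ I (i + 1) 0))
          (fun j _ => stairZ_diag_le hI i j)
        omega
    _ = ∑ j ∈ Finset.range (stairZ I (i + 1) 0 + 1), stairZ I i j := by
        rw [Finset.sum_range_succ']
    _ ≤ ∑ j ∈ Finset.range (stairZ I i 0), stairZ I i j := by
        apply Finset.sum_le_sum_of_subset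
        intro j hj
        rw [Finset.mem_range] at hj ⊢
        omega

include hI in
/-- the key propagation: an excess in column `i + 1` forces an excess in column `i` -/
theorem colA_excess (i n : ℕ) (h : (n + 1).choose 2 < colA I (i + 1)) :
    (n + 2).choose 2 < colA I i := by
  have hpos : 0 < stairZ I (i + 1) 0 := by
    by_contra h0
    have h0' : stairZ I (i + 1) 0 = 0 := by omega
    unfold colA at h
    rw [h0', Finset.range_zero, Finset.sum_empty] at h
    omega
  have h1 := colA_le hI (i + 1)
  have h2 : n + 1 ≤ stairZ I (i + 1) 0 := by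
    by_contra hlt
    have : (stairZ I (i + 1) 0 + 1).choose 2 ≤ (n + 1).choose 2 :=
      Nat.choose_le_choose 2 (by omega)
    omega
  have h3 := colA_succ_add_le hI i hpos
  rw [choose_two_succ]
  omega

end Stable

section Finrank

variable {k : Type*} [Field k] {I : Ideal (MvPolynomial (Fin 3) k)}
variable (hI : IsStronglyStable I) [Module.Finite k (MvPolynomial (Fin 3) k ⧸ I)]

/-- the exponent `(j, c)` in two variables -/
noncomputable def e2 (j c : ℕ) : Fin 2 →₀ ℕ := Finsupp.equivFunOnFinite.symm ![j, c]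

theorem e2_0 (j c : ℕ) : e2 j c 0 = j := rfl
theorem e2_1 (j c : ℕ) : e2 j c 1 = c := rfl

theorem e2_ext (β : Fin 2 →₀ ℕ) : β = e2 (β 0) (β 1) := by
  ext l
  fin_cases l <;> rfl

theorem phi_e2 (i j c : ℕ) : Groth.Agent.S13453.phi i (e2 j c) = e3 i j c := by
  ext l
  fin_cases l
  · exact Groth.Agent.S13453.phi_zero i _
  · exact Groth.Agent.S13453.phi_succ i _ 0
  · exact Groth.Agent.S13453.phi_succ i _ 1

/-- index set of the monomials outside the slice -/
noncomputable def sliceSet (I : Ideal (MvPolynomial (Fin 3) k)) (i : ℕ) : Finset (Σ _ : ℕ, ℕ) :=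
  (Finset.range (stairZ I i 0)).sigma fun j => Finset.range (stairZ I i j)

theorem card_sliceSet (i : ℕ) : (sliceSet I i).card = colA I i := by
  simp [sliceSet, colA, Finset.card_sigma]

theorem mem_sliceSet_iff (i : ℕ) (x : Σ _ : ℕ, ℕ) :
    x ∈ sliceSet I i ↔ x.1 < stairZ I i 0 ∧ x.2 < stairZ I i x.1 := by
  simp [sliceSet]

include hI in
theorem mem_sliceSet_of_lt (i j c : ℕ) (h : c < stairZ I i j) :
    (⟨j, c⟩ : Σ _ : ℕ, ℕ) ∈ sliceSet I i := by
  rw [mem_sliceSet_iff]
  refine ⟨?_, h⟩
  have := stairZ_add_le hI i j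
  change j < stairZ I i 0
  omega

include hI in
/-- the colength of a slice is the column sum -/
theorem finrank_sliceX (i : ℕ) :
    Module.finrank k (MvPolynomial (Fin 2) k ⧸ sliceX I i) = colA I i := by
  classical
  set N : Finset (Fin 2 →₀ ℕ) := (sliceSet I i).image fun x => e2 x.1 x.2 with hN
  have hinj : Function.Injective (fun x : Σ _ : ℕ, ℕ => e2 x.1 x.2) := by
    rintro ⟨j, c⟩ ⟨j', c'⟩ h
    have h0 := DFunLike.congr_fun h 0
    have h1 := DFunLike.congr_fun h 1
    change j = j' at h0
    change c = c' at h1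
    subst h0 h1
    rfl
  have hcard : N.card = colA I i := by
    rw [hN, Finset.card_image_of_injective _ hinj, card_sliceSet]
  rw [← hcard]
  apply finrank_quot_of_coeff
  intro f
  rw [Groth.Agent.S13453.mem_sliceX_iff I hI.1]
  constructor
  · intro hf β hβ
    rw [hN, Finset.mem_image] at hβ
    obtain ⟨⟨j, c⟩, hx, rfl⟩ := hβ
    by_contra hne
    have h1 := hf (e2 j c) (mem_support_iff.mpr hne)
    rw [phi_e2, mem_exps_iff hI.1] at h1
    rw [mem_sliceSet_iff] at hx
    change j < _ ∧ c < stairZ I i j at hx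
    omega
  · intro hf β hβ
    rw [e2_ext β, phi_e2, mem_exps_iff hI.1]
    by_contra hlt
    push Not at hlt
    have hmem : β ∈ N := by
      rw [hN, Finset.mem_image]
      exact ⟨⟨β 0, β 1⟩, mem_sliceSet_of_lt hI i _ _ hlt, (e2_ext β).symm⟩
    exact (mem_support_iff.mp hβ) (hf β hmem)

include hI in
/-- the colength of `I` is the number of monomials outside -/
theorem finrank_quot_eq_card :
    Module.finrank k (MvPolynomial (Fin 3) k ⧸ I) =
      (Groth.Agent.Helper6.MonoIdeal.finite_compl_exps I hI.1).toFinset.card := by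
  classical
  apply finrank_quot_of_coeff
  intro f
  constructor
  · intro hf β hβ
    rw [Set.Finite.mem_toFinset, Set.mem_ofPred_eq] at hβ
    by_contra hne
    exact hβ (hI.1 f hf β (mem_support_iff.mpr hne))
  · intro hf
    apply Groth.Agent.S13453.mem_of_support
    intro β hβ
    by_contra hnot
    have : β ∈ (Groth.Agent.Helper6.MonoIdeal.finite_compl_exps I hI.1).toFinset := by
      rw [Set.Finite.mem_toFinset, Set.mem_ofPred_eq]
      exact hnot
    exact (mem_support_iff.mp hβ) (hf β this)

include hI in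
theorem sum_colA_le (r' : ℕ) :
    ∑ i ∈ Finset.range r', colA I i ≤ Module.finrank k (MvPolynomial (Fin 3) k ⧸ I) := by
  classical
  rw [finrank_quot_eq_card hI]
  have e : ∑ i ∈ Finset.range r', colA I i =
      ((Finset.range r').sigma fun i => sliceSet I i).card := by
    rw [Finset.card_sigma]
    exact Finset.sum_congr rfl fun i _ => (card_sliceSet i).symm
  rw [e]
  apply Finset.card_le_card_of_injOn (fun x => e3 x.1 x.2.1 x.2.2)
  · rintro ⟨i, j, c⟩ hx
    rw [Finset.mem_coe, Finset.mem_sigma, mem_sliceSet_iff] at hx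
    rw [Finset.mem_coe, Set.Finite.mem_toFinset, Set.mem_ofPred_eq, mem_exps_iff hI.1]
    have := hx.2.2
    change c < stairZ I i j at this
    change ¬ stairZ I i j ≤ c
    omega
  · rintro ⟨i, j, c⟩ _ ⟨i', j', c'⟩ _ h
    have h0 := DFunLike.congr_fun h 0
    have h1 := DFunLike.congr_fun h 1
    have h2 := DFunLike.congr_fun h 2
    change i = i' at h0
    change j = j' at h1
    change c = c' at h2
    subst h0 h1 h2
    rfl

end Finrank

end Groth.Agent.Helper7.Stair
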