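import Mathlib
import Groth.Prelude.Def_W4c1hilbpnTgt
import Groth.Agent.Helper7.PlDuK
import Groth.Agent.Helper7.StairD

/-! Planar duality count, part L: the sign-pattern pieces `{i}` against `{i}ᶜ`, and the parity of
the dimension of `T(I)`. -/

set_option autoImplicit false
set_option linter.style.haveILetI false
set_option linter.unusedSectionVars false

namespace Groth.Agent.Helper7.PlDu

open MvPolynomial W4c1hilbpn Groth.Agent.Helper7.HTa Groth.Agent.Helper7.HTb
  Groth.Agent.Helper7.HTc Groth.Agent.Helper7.HTd Groth.Agent.Helper7.Stair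

noncomputable section

variable {k : Type*} [Field k] {I : Ideal (MvPolynomial (Fin 3) k)}
variable (hI : IsMonomial I) [Module.Finite k (MvPolynomial (Fin 3) k ⧸ I)]

include hI in
/-- the colength is the sum of the staircase numbers -/
theorem finrank_quot_eq_sum (N : ℕ) (hN : ∀ p q : ℕ, (N ≤ p ∨ N ≤ q) → stairZ I p q = 0) :
    Module.finrank k (MvPolynomial (Fin 3) k ⧸ I) =
      ∑ i ∈ Finset.range N, ∑ j ∈ Finset.range N, stairZ I i j := by
  classical
  set Sg : Finset (Σ _ : ℕ × ℕ, ℕ) :=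
    (Finset.range N ×ˢ Finset.range N).sigma (fun a => Finset.range (stairZ I a.1 a.2)) with hSg
  have hinj : Function.Injective (fun x : Σ _ : ℕ × ℕ, ℕ => e3 x.1.1 x.1.2 x.2) := by
    rintro ⟨⟨i, j⟩, c⟩ ⟨⟨i', j'⟩, c'⟩ h
    have h0 := DFunLike.congr_fun h 0
    have h1 := DFunLike.congr_fun h 1
    have h2 := DFunLike.congr_fun h 2
    change i = i' at h0
    change j = j' at h1
    change c = c' at h2
    subst h0 h1 h2
    rfl
  have hcard : (Sg.image (fun x => e3 x.1.1 x.1.2 x.2)).card =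
      ∑ i ∈ Finset.range N, ∑ j ∈ Finset.range N, stairZ I i j := by
    rw [Finset.card_image_of_injective _ hinj, hSg, Finset.card_sigma, Finset.sum_product]
    simp
  rw [← hcard]
  apply finrank_quot_of_coeff
  intro f
  constructor
  · intro hf β hβ
    rw [Finset.mem_image] at hβ
    obtain ⟨⟨⟨i, j⟩, c⟩, hx, rfl⟩ := hβ
    by_contra hne
    have h1 : e3 i j c ∈ exps I := hI f hf _ (mem_support_iff.mpr hne)
    rw [mem_exps_iff hI] at h1
    rw [hSg, Finset.mem_sigma, Finset.mem_range] at hx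
    have := hx.2
    simp only at this
    omega
  · intro hf
    apply Groth.Agent.S13453.mem_of_support
    intro β hβ
    by_contra hnot
    have hnot' : β ∉ exps I := hnot
    rw [e3_ext β, mem_exps_iff hI] at hnot'
    have hmem : β ∈ Sg.image (fun x => e3 x.1.1 x.1.2 x.2) := by
      rw [Finset.mem_image]
      refine ⟨⟨⟨β 0, β 1⟩, β 2⟩, ?_, (e3_ext β).symm⟩
      rw [hSg, Finset.mem_sigma, Finset.mem_product, Finset.mem_range, Finset.mem_range,
        Finset.mem_range]
      refine ⟨⟨?_, ?_⟩, by simp only; omega⟩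
      · by_contra hge
        have := hN (β 0) (β 1) (Or.inl (by simp only at hge; omega))
        omega
      · by_contra hge
        have := hN (β 0) (β 1) (Or.inr (by simp only at hge; omega))
        omega
    exact (mem_support_iff.mp hβ) (hf β hmem)

include hI in
theorem finrank_sig_two (N : ℕ)
    (hN : ∀ α : Fin 3 → ℤ, tPiece I α ≠ ⊥ → ∀ l, (α l).natAbs < N) :
    Module.finrank k ↥(sigPiece I ({2} : Set (Fin 3))) =
      ∑ i ∈ Finset.range N, ∑ j ∈ Finset.range N, ∑ m' ∈ Finset.range N,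
        Module.finrank k (tPiece I (αA i j (m' + 1))) := by
  haveI : ∀ α : Fin 3 → ℤ, FiniteDimensional k (tPiece I α) := finite_tPiece hI fin3_ne
  have h := finrank_iSup_sub (fun α : Fin 3 → ℤ => tPiece I α) (indep_tPiece hI)
    (fun α => ∀ l, α l < 0 ↔ l ∈ ({2} : Set (Fin 3)))
    (Finset.range N ×ˢ Finset.range N ×ˢ Finset.range N)
    (fun x : ℕ × ℕ × ℕ => αA x.1 x.2.1 (x.2.2 + 1)) ?_ ?_ ?_
  · rw [Finset.sum_product] at h
    simp only [Finset.sum_product] at h
    exact h
  · rintro ⟨i, j, m⟩ _ ⟨i', j', m'⟩ _ h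
    have h0 : ((i : ℕ) : ℤ) = (i' : ℕ) := congrFun h 0
    have h1 : ((j : ℕ) : ℤ) = (j' : ℕ) := congrFun h 1
    have h2 : -(((m + 1 : ℕ)) : ℤ) = -(((m' + 1 : ℕ)) : ℤ) := congrFun h 2
    have e0 : i = i' := by omega
    have e1 : j = j' := by omega
    have e2 : m = m' := by omega
    subst e0 e1 e2
    rfl
  · rintro ⟨i, j, m⟩ _ l
    fin_cases l
    · show ((i : ℕ) : ℤ) < 0 ↔ (0 : Fin 3) ∈ ({2} : Set (Fin 3))
      simp
    · show ((j : ℕ) : ℤ) < 0 ↔ (1 : Fin 3) ∈ ({2} : Set (Fin 3))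
      simp
    · show -(((m + 1 : ℕ)) : ℤ) < 0 ↔ (2 : Fin 3) ∈ ({2} : Set (Fin 3))
      simp
      omega
  · intro α hα hne
    have h0 : 0 ≤ α 0 := by
      have := hα 0
      simp at this
      exact this
    have h1 : 0 ≤ α 1 := by
      have := hα 1
      simp at this
      exact this
    have h2 : α 2 < 0 := by
      have := hα 2
      simp at this
      exact this
    have b0 := hN α hne 0
    have b1 := hN α hne 1
    have b2 := hN α hne 2
    refine ⟨((α 0).toNat, (α 1).toNat, (-α 2 - 1).toNat), ?_, ?_⟩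
    · simp only [Finset.mem_product, Finset.mem_range]
      omega
    · funext l
      fin_cases l
      · show (((α 0).toNat : ℕ) : ℤ) = α 0
        omega
      · show (((α 1).toNat : ℕ) : ℤ) = α 1
        omega
      · show -((((-α 2 - 1).toNat + 1 : ℕ)) : ℤ) = α 2
        omega

include hI in
theorem finrank_sig_two_compl (N : ℕ)
    (hN : ∀ α : Fin 3 → ℤ, tPiece I α ≠ ⊥ → ∀ l, (α l).natAbs < N) :
    Module.finrank k ↥(sigPiece I ({2}ᶜ : Set (Fin 3))) =
      ∑ i ∈ Finset.range N, ∑ j ∈ Finset.range N, ∑ c ∈ Finset.range N,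
        Module.finrank k (tPiece I (αB i j c)) := by
  haveI : ∀ α : Fin 3 → ℤ, FiniteDimensional k (tPiece I α) := finite_tPiece hI fin3_ne
  have h := finrank_iSup_sub (fun α : Fin 3 → ℤ => tPiece I α) (indep_tPiece hI)
    (fun α => ∀ l, α l < 0 ↔ l ∈ ({2}ᶜ : Set (Fin 3)))
    (Finset.range N ×ˢ Finset.range N ×ˢ Finset.range N)
    (fun x : ℕ × ℕ × ℕ => αB x.1 x.2.1 x.2.2) ?_ ?_ ?_
  · rw [Finset.sum_product] at h
    simp only [Finset.sum_product] at h
    exact h
  · rintro ⟨i, j, m⟩ _ ⟨i', j', m'⟩ _ h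
    have h0 : -((i : ℕ) : ℤ) - 1 = -((i' : ℕ) : ℤ) - 1 := congrFun h 0
    have h1 : -((j : ℕ) : ℤ) - 1 = -((j' : ℕ) : ℤ) - 1 := congrFun h 1
    have h2 : ((m : ℕ) : ℤ) = ((m' : ℕ) : ℤ) := congrFun h 2
    have e0 : i = i' := by omega
    have e1 : j = j' := by omega
    have e2 : m = m' := by omega
    subst e0 e1 e2
    rfl
  · rintro ⟨i, j, m⟩ _ l
    fin_cases l
    · show -((i : ℕ) : ℤ) - 1 < 0 ↔ (0 : Fin 3) ∈ ({2}ᶜ : Set (Fin 3))
      simp
      omega
    · show -((j : ℕ) : ℤ) - 1 < 0 ↔ (1 : Fin 3) ∈ ({2}ᶜ : Set (Fin 3))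
      simp
      omega
    · show ((m : ℕ) : ℤ) < 0 ↔ (2 : Fin 3) ∈ ({2}ᶜ : Set (Fin 3))
      simp
  · intro α hα hne
    have h0 : α 0 < 0 := by
      have := hα 0
      simp at this
      exact this
    have h1 : α 1 < 0 := by
      have := hα 1
      simp at this
      exact this
    have h2 : 0 ≤ α 2 := by
      have := hα 2
      simp at this
      exact this
    have b0 := hN α hne 0
    have b1 := hN α hne 1
    have b2 := hN α hne 2
    refine ⟨((-α 0 - 1).toNat, (-α 1 - 1).toNat, (α 2).toNat), ?_, ?_⟩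
    · simp only [Finset.mem_product, Finset.mem_range]
      omega
    · funext l
      fin_cases l
      · show -((((-α 0 - 1).toNat : ℕ)) : ℤ) - 1 = α 0
        omega
      · show -((((-α 1 - 1).toNat : ℕ)) : ℤ) - 1 = α 1
        omega
      · show (((α 2).toNat : ℕ) : ℤ) = α 2
        omega

include hI in
/-- the pieces negative exactly at `z` against those negative exactly at `x, y` -/
theorem main_z :
    Module.finrank k ↥(sigPiece I ({2} : Set (Fin 3))) =
      Module.finrank k ↥(sigPiece I ({2}ᶜ : Set (Fin 3))) +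
        Module.finrank k (MvPolynomial (Fin 3) k ⧸ I) := by
  obtain ⟨N₀, hN₀⟩ := exists_bound_supp hI
  obtain ⟨P, hP⟩ := exists_bound hI
  set N := max (max N₀ (stairZ I 0 0)) P with hNdef
  have hN : ∀ α : Fin 3 → ℤ, tPiece I α ≠ ⊥ → ∀ l, (α l).natAbs < N :=
    fun α hα l => lt_of_lt_of_le (hN₀ α hα l) (le_trans (le_max_left _ _) (le_max_left _ _))
  have hNM : stairZ I 0 0 ≤ N := le_trans (le_max_right _ _) (le_max_left _ _)
  have hNP : ∀ p q : ℕ, (N ≤ p ∨ N ≤ q) → stairZ I p q = 0 := by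
    intro p q h
    apply hP
    have : P ≤ N := le_max_right _ _
    omega
  rw [finrank_sig_two hI N hN, finrank_sig_two_compl hI N hN, finrank_quot_eq_sum hI N hNP,
    ← Finset.sum_add_distrib]
  apply Finset.sum_congr rfl
  intro i _
  rw [← Finset.sum_add_distrib]
  apply Finset.sum_congr rfl
  intro j _
  exact core hI i j N hNM

include hI in
/-- the pieces negative exactly at `i` against those negative exactly at the other two -/
theorem main_sig (i : Fin 3) :
    Module.finrank k ↥(sigPiece I ({i} : Set (Fin 3))) =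
      Module.finrank k ↥(sigPiece I ({i}ᶜ : Set (Fin 3))) +
        Module.finrank k (MvPolynomial (Fin 3) k ⧸ I) := by
  set π : Equiv.Perm (Fin 3) := Equiv.swap i 2 with hπ
  have hI' := isMonomial_permI π hI
  have e1 : π '' ({i} : Set (Fin 3)) = {2} := by
    rw [Set.image_singleton, hπ, Equiv.swap_apply_left]
  have e2 : π '' ({i}ᶜ : Set (Fin 3)) = {2}ᶜ := by
    rw [Set.image_compl_eq π.bijective, e1]
  have h1 := finrank_sigPiece_perm π hI fin3_ne ({i} : Set (Fin 3))
  have h2 := finrank_sigPiece_perm π hI fin3_ne ({i}ᶜ : Set (Fin 3))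
  rw [e1] at h1
  rw [e2] at h2
  rw [← h1, ← h2, ← finrank_permI I π]
  exact main_z hI'

end

end Groth.Agent.Helper7.PlDu
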