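import Mathlib
import Groth.Prelude.Def_W4c1hilbpnTgt
import Groth.Agent.Helper7.PlDuL

/-! Planar duality count, part M: the parity of the dimension of `T(I)`. -/

set_option autoImplicit false
set_option linter.style.haveILetI false
set_option linter.unusedSectionVars false

namespace Groth.Agent.Helper7.PlDu

open MvPolynomial W4c1hilbpn Groth.Agent.Helper7.HTa Groth.Agent.Helper7.HTb
  Groth.Agent.Helper7.HTc Groth.Agent.Helper7.HTd Groth.Agent.Helper7.Stair

noncomputable section

variable {k : Type*} [Field k] {I : Ideal (MvPolynomial (Fin 3) k)}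
variable (hI : IsMonomial I) [Module.Finite k (MvPolynomial (Fin 3) k ⧸ I)]

/-- the sign pattern of a multidegree -/
def sgn (α : Fin 3 → ℤ) : Finset (Fin 3) := Finset.univ.filter (fun l => α l < 0)

theorem sgn_iff (α : Fin 3 → ℤ) (N : Finset (Fin 3)) :
    (∀ l, α l < 0 ↔ l ∈ (↑N : Set (Fin 3))) ↔ sgn α = N := by
  simp [sgn, Finset.ext_iff]

include hI in
theorem finrank_sigPiece_eq_sum (N : Finset (Fin 3)) :
    Module.finrank k ↥(sigPiece I (↑N : Set (Fin 3))) =
      ∑ α ∈ (finite_supp hI).toFinset.filter (fun α => sgn α = N),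
        Module.finrank k (tPiece I α) := by
  haveI : ∀ α : Fin 3 → ℤ, FiniteDimensional k (tPiece I α) := finite_tPiece hI fin3_ne
  refine finrank_iSup_sub (fun α : Fin 3 → ℤ => tPiece I α) (indep_tPiece hI)
    (fun α => ∀ l, α l < 0 ↔ l ∈ (↑N : Set (Fin 3))) _ (fun α => α) ?_ ?_ ?_
  · intro α _ β _ h
    exact h
  · intro α hα
    rw [Finset.mem_filter] at hα
    exact (sgn_iff α N).2 hα.2
  · intro α hα hne
    refine ⟨α, ?_, rfl⟩
    rw [Finset.mem_filter, Set.Finite.mem_toFinset]
    exact ⟨hne, (sgn_iff α N).1 hα⟩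

include hI in
theorem finrank_Tgt_eq_sum :
    Module.finrank k (Tgt I) =
      ∑ α ∈ (finite_supp hI).toFinset, Module.finrank k (tPiece I α) := by
  haveI : ∀ α : Fin 3 → ℤ, FiniteDimensional k (tPiece I α) := finite_tPiece hI fin3_ne
  have htop : (⨆ α : Fin 3 → ℤ, tPiece I α) = ⊤ :=
    eq_top_iff.2 (fun φ _ => Groth.Agent.Helper6.TgtDecomp.mem_iSup_tPiece hI φ)
  rw [← finrank_top k (Tgt I), ← htop]
  apply finrank_iSup_of_indep (fun α : Fin 3 → ℤ => tPiece I α) (indep_tPiece hI)
  intro α hα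
  by_contra hne
  exact hα ((finite_supp hI).mem_toFinset.mpr hne)

include hI in
theorem finrank_Tgt_eq_sum_sig :
    Module.finrank k (Tgt I) =
      ∑ N : Finset (Fin 3), Module.finrank k ↥(sigPiece I (↑N : Set (Fin 3))) := by
  rw [finrank_Tgt_eq_sum hI, ← Finset.sum_fiberwise (finite_supp hI).toFinset sgn]
  apply Finset.sum_congr rfl
  intro N _
  rw [finrank_sigPiece_eq_sum hI N]

theorem sum_finset_fin3 (g : Finset (Fin 3) → ℕ) :
    ∑ N : Finset (Fin 3), g N =
      g ∅ + g {0} + g {1} + g {2} + g {1, 2} + g {0, 2} + g {0, 1} + g {0, 1, 2} := by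
  have e : (Finset.univ : Finset (Finset (Fin 3))) =
      {∅, {0}, {1}, {2}, {1, 2}, {0, 2}, {0, 1}, {0, 1, 2}} := by decide
  rw [e]
  rw [Finset.sum_insert (by decide), Finset.sum_insert (by decide), Finset.sum_insert (by decide),
    Finset.sum_insert (by decide), Finset.sum_insert (by decide), Finset.sum_insert (by decide),
    Finset.sum_insert (by decide), Finset.sum_singleton]
  ring

include hI in
theorem sig_empty : Module.finrank k ↥(sigPiece I (∅ : Set (Fin 3))) = 0 := by
  have : sigPiece I (∅ : Set (Fin 3)) = ⊥ := by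
    unfold sigPiece
    rw [iSup_eq_bot]
    intro α
    apply Groth.Agent.Helper6.TgtVanish.tPiece_eq_bot_of_nonneg hI
    intro l
    have := α.2 l
    simp at this
    exact this
  rw [this, finrank_bot]

include hI in
theorem sig_univ : Module.finrank k ↥(sigPiece I (Set.univ : Set (Fin 3))) = 0 := by
  have : sigPiece I (Set.univ : Set (Fin 3)) = ⊥ := by
    unfold sigPiece
    rw [iSup_eq_bot]
    intro α
    apply Groth.Agent.Helper6.TgtVanish.tPiece_eq_bot_of_neg hI (i₁ := (0 : Fin 3)) (i₂ := 1)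
    · intro l
      have := α.2 l
      simp at this
      exact this
    · decide
  rw [this, finrank_bot]

include hI in
/-- the parity of the dimension of `T(I)` -/
theorem parity :
    Module.finrank k (Tgt I) % 2 = Module.finrank k (MvPolynomial (Fin 3) k ⧸ I) % 2 := by
  rw [finrank_Tgt_eq_sum_sig hI, sum_finset_fin3]
  have c0 : ((∅ : Finset (Fin 3)) : Set (Fin 3)) = ∅ := by simp
  have c1 : (({0} : Finset (Fin 3)) : Set (Fin 3)) = {0} := by simp
  have c2 : (({1} : Finset (Fin 3)) : Set (Fin 3)) = {1} := by simp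
  have c3 : (({2} : Finset (Fin 3)) : Set (Fin 3)) = {2} := by simp
  have c4 : (({1, 2} : Finset (Fin 3)) : Set (Fin 3)) = {0}ᶜ := by
    ext l; fin_cases l <;> simp
  have c5 : (({0, 2} : Finset (Fin 3)) : Set (Fin 3)) = {1}ᶜ := by
    ext l; fin_cases l <;> simp
  have c6 : (({0, 1} : Finset (Fin 3)) : Set (Fin 3)) = {2}ᶜ := by
    ext l; fin_cases l <;> simp
  have c7 : (({0, 1, 2} : Finset (Fin 3)) : Set (Fin 3)) = Set.univ := by
    ext l; fin_cases l <;> simp
  rw [c0, c1, c2, c3, c4, c5, c6, c7, sig_empty hI, sig_univ hI, main_sig hI 0, main_sig hI 1,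
    main_sig hI 2]
  omega

end

end Groth.Agent.Helper7.PlDu
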