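import Mathlib

set_option autoImplicit false
set_option linter.style.haveILetI false
set_option linter.unusedSectionVars false

/-!
# Change of rings for a presentation, and an injectivity criterion for `Z ⊗ X → F ⊗ X`
-/

namespace Groth.Agent.Helper7.PlTor

open TensorProduct

universe u

section L2

variable {S : Type u} [CommRing S] {M X : Type u} [AddCommGroup M] [Module S M]
  [AddCommGroup X] [Module S X] {a : ℕ} (g : Fin a → M)

/-- If `Z = ker (S^a → M)` is flat, `i M = 0`, `j X = 0` and `i + j` is `X`-regular, then
`Z ⊗ X → S^a ⊗ X` is injective. -/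
theorem rTensor_ker_injective
    [Module.Flat S (LinearMap.ker (Fintype.linearCombination S g))]
    (i j : S) (hi : ∀ m : M, i • m = 0) (hj : ∀ x : X, j • x = 0)
    (hw : IsSMulRegular X (i + j)) :
    Function.Injective ((LinearMap.ker (Fintype.linearCombination S g)).subtype.rTensor X) := by
  rw [injective_iff_map_eq_zero]
  intro ξ hξ
  -- `i` kills `ξ`
  have h1 : i • ξ = 0 := by
    let μ : (Fin a → S) →ₗ[S] LinearMap.ker (Fintype.linearCombination S g) :=
      { toFun := fun v => ⟨i • v, by
          rw [LinearMap.mem_ker, map_smul, hi]⟩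
        map_add' := fun v w => Subtype.ext (smul_add i v w)
        map_smul' := fun c v => Subtype.ext (smul_comm i c v) }
    have hμ : μ ∘ₗ (LinearMap.ker (Fintype.linearCombination S g)).subtype = i • LinearMap.id := by
      ext z : 1
      exact Subtype.ext rfl
    have h2 : (μ.rTensor X) (((LinearMap.ker (Fintype.linearCombination S g)).subtype.rTensor X) ξ)
        = i • ξ := by
      rw [← LinearMap.comp_apply, ← LinearMap.rTensor_comp, hμ, LinearMap.rTensor_smul,
        LinearMap.rTensor_id, LinearMap.smul_apply, LinearMap.id_apply]
    rw [← h2, hξ, map_zero]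
  -- `j` kills everything
  have h3 : ∀ ξ' : (LinearMap.ker (Fintype.linearCombination S g)) ⊗[S] X, j • ξ' = 0 := by
    intro ξ'
    induction ξ' using TensorProduct.induction_on with
    | zero => simp
    | tmul z x => rw [TensorProduct.smul_tmul', TensorProduct.smul_tmul, hj, tmul_zero]
    | add u v hu hv => rw [smul_add, hu, hv, add_zero]
  have h4 : (i + j) • ξ = 0 := by rw [add_smul, h1, h3, add_zero]
  -- multiplication by `i + j` is injective on `Z ⊗ X`
  have h5 : Function.Injective
      (((i + j) • (LinearMap.id : X →ₗ[S] X)).lTensor
        (LinearMap.ker (Fintype.linearCombination S g))) := by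
    apply Module.Flat.lTensor_preserves_injective_linearMap
    intro x y hxy
    exact hw hxy
  apply h5
  rw [map_zero, LinearMap.lTensor_smul, LinearMap.lTensor_id, LinearMap.smul_apply,
    LinearMap.id_apply, h4]

end L2

section L1

variable {S R : Type u} [CommRing S] [CommRing R] [Algebra S R]
  (hπ : Function.Surjective (algebraMap S R))
  {M X : Type u} [AddCommGroup M] [Module R M] [Module S M] [IsScalarTower S R M]
  [AddCommGroup X] [Module R X] [Module S X] [IsScalarTower S R X]
  {a : ℕ} (g : Fin a → M)

theorem linearCombination_map (v : Fin a → S) :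
    Fintype.linearCombination R g (fun i => algebraMap S R (v i)) =
      Fintype.linearCombination S g v := by
  simp only [Fintype.linearCombination_apply, algebraMap_smul]

/-- the comparison map `S^a ⊗_S X → R^a ⊗_R X`. -/
noncomputable def Psi : (Fin a → S) ⊗[S] X →+ (Fin a → R) ⊗[R] X :=
  TensorProduct.liftAddHom
    (AddMonoidHom.mk' (fun v : Fin a → S =>
      AddMonoidHom.mk' (fun x : X => (fun i => algebraMap S R (v i)) ⊗ₜ[R] x)
        (fun x y => tmul_add _ x y))
      (fun v w => by
        ext x
        simp only [AddMonoidHom.mk'_apply, AddMonoidHom.add_apply, ← add_tmul]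
        congr 1
        ext i
        simp))
    (fun r v x => by
      simp only [AddMonoidHom.mk'_apply]
      have h1 : (fun i => algebraMap S R ((r • v) i)) =
          algebraMap S R r • (fun i => algebraMap S R (v i)) := by
        ext i
        simp
      rw [h1, TensorProduct.smul_tmul, algebraMap_smul])

theorem Psi_tmul (v : Fin a → S) (x : X) :
    Psi (R := R) (a := a) (v ⊗ₜ[S] x) = (fun i => algebraMap S R (v i)) ⊗ₜ[R] x := rfl

theorem Psi_injective : Function.Injective (Psi (S := S) (R := R) (X := X) (a := a)) := by
  classical
  let E : (Fin a → S) ⊗[S] X ≃ₗ[S] (Fin a → X) :=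
    (TensorProduct.comm S _ _).trans (TensorProduct.piScalarRight S S X (Fin a))
  let G : (Fin a → R) ⊗[R] X ≃ₗ[R] (Fin a → X) :=
    (TensorProduct.comm R _ _).trans (TensorProduct.piScalarRight R R X (Fin a))
  have key : ∀ t : (Fin a → S) ⊗[S] X, G (Psi t) = E t := by
    intro t
    induction t using TensorProduct.induction_on with
    | zero => simp
    | tmul v x =>
      rw [Psi_tmul]
      ext i
      simp [E, G]
    | add u w hu hw => rw [map_add, map_add, map_add, hu, hw]
  intro t t' h
  apply E.injective
  rw [← key, ← key, h]

/-- the comparison map `Z ⊗_S X → K ⊗_R X`. -/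
noncomputable def Phi : (LinearMap.ker (Fintype.linearCombination S g)) ⊗[S] X →+
    (LinearMap.ker (Fintype.linearCombination R g)) ⊗[R] X :=
  TensorProduct.liftAddHom
    (AddMonoidHom.mk' (fun z : LinearMap.ker (Fintype.linearCombination S g) =>
      AddMonoidHom.mk' (fun x : X =>
        (⟨fun i => algebraMap S R (z.1 i), by
          rw [LinearMap.mem_ker, linearCombination_map]
          exact z.2⟩ : LinearMap.ker (Fintype.linearCombination R g)) ⊗ₜ[R] x)
        (fun x y => tmul_add _ x y))
      (fun v w => by
        ext x
        simp only [AddMonoidHom.mk'_apply, AddMonoidHom.add_apply, ← add_tmul]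
        congr 1
        ext i
        simp))
    (fun r v x => by
      simp only [AddMonoidHom.mk'_apply]
      have h1 : (⟨fun i => algebraMap S R ((r • v).1 i), by
          rw [LinearMap.mem_ker, linearCombination_map]
          exact (r • v).2⟩ : LinearMap.ker (Fintype.linearCombination R g)) =
          algebraMap S R r • ⟨fun i => algebraMap S R (v.1 i), by
            rw [LinearMap.mem_ker, linearCombination_map]
            exact v.2⟩ := by
        ext i
        simp [Algebra.smul_def]
      rw [h1, TensorProduct.smul_tmul, algebraMap_smul])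

include hπ in
theorem Phi_surjective : Function.Surjective (Phi (S := S) (R := R) (X := X) g) := by
  intro η
  induction η using TensorProduct.induction_on with
  | zero => exact ⟨0, map_zero _⟩
  | tmul k x =>
    choose v hv using fun i => hπ (k.1 i)
    refine ⟨(⟨v, ?_⟩ : LinearMap.ker (Fintype.linearCombination S g)) ⊗ₜ[S] x, ?_⟩
    · rw [LinearMap.mem_ker, ← linearCombination_map (R := R)]
      have : (fun i => algebraMap S R (v i)) = k.1 := funext hv
      rw [this]
      exact k.2
    · show (⟨fun i => algebraMap S R (v i), _⟩ :
        LinearMap.ker (Fintype.linearCombination R g)) ⊗ₜ[R] x = k ⊗ₜ[R] x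
      congr 1
      exact Subtype.ext (funext hv)
  | add u w hu hw =>
    obtain ⟨u', rfl⟩ := hu
    obtain ⟨w', rfl⟩ := hw
    exact ⟨u' + w', map_add _ _ _⟩

theorem square (ξ : (LinearMap.ker (Fintype.linearCombination S g)) ⊗[S] X) :
    ((LinearMap.ker (Fintype.linearCombination R g)).subtype.rTensor X) (Phi (R := R) g ξ) =
      Psi (((LinearMap.ker (Fintype.linearCombination S g)).subtype.rTensor X) ξ) := by
  induction ξ using TensorProduct.induction_on with
  | zero => simp
  | tmul z x => rfl
  | add u w hu hw => rw [map_add, map_add, map_add, map_add, hu, hw]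

include hπ in
/-- **Change of rings**: injectivity of `Z ⊗_S X → S^a ⊗_S X` implies injectivity of
`K ⊗_R X → R^a ⊗_R X`. -/
theorem rTensor_ker_injective_of_surjective
    (h : Function.Injective ((LinearMap.ker (Fintype.linearCombination S g)).subtype.rTensor X)) :
    Function.Injective ((LinearMap.ker (Fintype.linearCombination R g)).subtype.rTensor X) := by
  rw [injective_iff_map_eq_zero]
  intro η hη
  obtain ⟨ξ, rfl⟩ := Phi_surjective hπ g η
  rw [square] at hη
  have h1 : ((LinearMap.ker (Fintype.linearCombination S g)).subtype.rTensor X) ξ = 0 :=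
    Psi_injective (hη.trans (map_zero _).symm)
  have h2 : ξ = 0 := h (h1.trans (map_zero _).symm)
  rw [h2, map_zero]

end L1

end Groth.Agent.Helper7.PlTor
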