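import Mathlib
import Groth.Prelude
import Groth.Agent.Helper7.PlTorA
import Groth.Agent.Helper1.TorCrit
import Groth.Agent.Helper1.RegAB
import Groth.Agent.Helper7.Syz

set_option autoImplicit false
set_option linter.style.haveILetI false
set_option linter.unusedSectionVars false

namespace Groth.Agent.Helper7.PlTor

open IsLocalRing CategoryTheory RingTheory.Sequence TensorProduct

universe u

/-- a reduced Noetherian local ring is a field or has a nonzerodivisor in its maximal ideal. -/
theorem eq_bot_or_exists_regular (R : Type u) [CommRing R] [IsLocalRing R] [IsNoetherianRing R]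
    [IsReduced R] :
    maximalIdeal R = ⊥ ∨ ∃ z ∈ maximalIdeal R, IsSMulRegular R z := by
  by_contra hcon
  push Not at hcon
  obtain ⟨hne, hnr⟩ := hcon
  have hsub : ((maximalIdeal R : Ideal R) : Set R) ⊆
      ⋃ p ∈ (((associatedPrimes.finite R R).toFinset : Finset (Ideal R)) : Set (Ideal R)), (p : Set R) := by
    intro z hz
    have h1 : z ∈ { r : R | ∃ x : R, x ≠ 0 ∧ r • x = 0 } := by
      by_contra h2
      apply hnr z hz
      intro a b hab
      by_contra hne'
      apply h2
      refine ⟨a - b, sub_ne_zero.mpr hne', ?_⟩
      rw [smul_sub]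
      exact sub_eq_zero.mpr hab
    rw [← biUnion_associatedPrimes_eq_zero_divisors R R] at h1
    simpa using h1
  obtain ⟨P, hP, hle⟩ := (Ideal.subset_union_prime (f := fun p : Ideal R => p) ⊥ ⊥
    (fun p hp _ _ => by
      have : p ∈ associatedPrimes R R := by simpa using hp
      exact this.isPrime)).mp hsub
  have hP' : P ∈ associatedPrimes R R := by simpa using hP
  obtain ⟨hprime, r, hr⟩ := (isAssociatedPrime_iff).mp hP'
  have hkill : ∀ a ∈ maximalIdeal R, a * r = 0 := by
    intro a ha
    have h1 := hle ha
    rw [hr, Submodule.mem_colon_singleton] at h1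
    simpa using h1
  have hr0 : r ≠ 0 := by
    rintro rfl
    apply hprime.ne_top
    rw [hr]
    ext a
    simp [Submodule.mem_colon_singleton]
  by_cases hru : IsUnit r
  · apply hne
    rw [eq_bot_iff]
    intro a ha
    have h1 := hkill a ha
    rw [Ideal.mem_bot]
    exact (hru.mul_left_eq_zero).mp h1
  · have hrm : r ∈ maximalIdeal R := hru
    have h1 := hkill r hrm
    apply hr0
    have : IsNilpotent r := ⟨2, by rw [pow_two]; exact h1⟩
    exact this.eq_zero

theorem main (S : Type u) [CommRing S] [IsRegularLocalRing S] (hS : ringKrullDim S = 2)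
    (R : Type u) [CommRing R] [IsLocalRing R] [IsReduced R] (π : S →+* R)
    (hπ : Function.Surjective π) (I J : Ideal R) (n : ℕ)
    (hIJ : maximalIdeal R ^ n ≤ I ⊔ J)
    (M N : Type u) [AddCommGroup M] [Module R M] [Module.Finite R M] [AddCommGroup N] [Module R N]
    (hI : I ≤ Module.annihilator R M) (hJ : J ≤ Module.annihilator R N)
    (x : R) (hx : x ∈ maximalIdeal R) (hxM : IsSMulRegular M x) :
    Limits.IsZero (((Tor (ModuleCat.{u} R) 1).obj (ModuleCat.of R M)).obj
      (ModuleCat.of R (Module.Dual R N))) := by
  classical
  haveI : IsNoetherianRing R := isNoetherianRing_of_surjective S R π hπ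
  obtain ⟨a, g, hg⟩ := Module.Finite.exists_fin (R := R) (M := M)
  have hp : Function.Surjective (Fintype.linearCombination R g) := by
    rw [← LinearMap.range_eq_top, Fintype.range_linearCombination, hg]
  refine (Groth.Agent.Helper1.TorLib.isZero_torOne_iff_rTensor_injective
    (LinearMap.ker (Fintype.linearCombination R g)).subtype (Fintype.linearCombination R g)
    (Submodule.injective_subtype _) hp (LinearMap.exact_subtype_ker_map _)
    (Module.Dual R N)).mpr ?_
  rcases eq_bot_or_exists_regular R with hbot | ⟨z, hz, hzreg⟩
  · -- `R` is a field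
    have hfield : IsField R := IsLocalRing.isField_iff_maximalIdeal_eq.mpr hbot
    letI := hfield.toField
    exact Module.Flat.rTensor_preserves_injective_linearMap _ (Submodule.injective_subtype _)
  · letI : Algebra S R := π.toAlgebra
    have hπ' : Function.Surjective (algebraMap S R) := hπ
    letI : Module S M := Module.compHom M π
    haveI : IsScalarTower S R M := IsScalarTower.of_algebraMap_smul (fun _ _ => rfl)
    letI : Module S (Module.Dual R N) := Module.compHom (Module.Dual R N) π
    haveI : IsScalarTower S R (Module.Dual R N) :=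
      IsScalarTower.of_algebraMap_smul (fun _ _ => rfl)
    apply rTensor_ker_injective_of_surjective hπ' g
    -- the elements `i`, `j`
    have hzn : z ^ n ∈ I ⊔ J := hIJ (Ideal.pow_mem_pow hz n)
    obtain ⟨i', hi', j', hj', hij⟩ := Submodule.mem_sup.mp hzn
    obtain ⟨i, rfl⟩ := hπ i'
    obtain ⟨j, rfl⟩ := hπ j'
    have hi : ∀ m : M, i • m = 0 := fun m => Module.mem_annihilator.mp (hI hi') m
    have hj : ∀ φ : Module.Dual R N, j • φ = 0 := by
      intro φ
      ext y
      show (π j • φ) y = 0
      rw [LinearMap.smul_apply, ← map_smul, Module.mem_annihilator.mp (hJ hj') y, map_zero]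
    have hw : IsSMulRegular (Module.Dual R N) (i + j) := by
      intro φ ψ h
      have h1 : π (i + j) • φ = π (i + j) • ψ := h
      rw [map_add, hij] at h1
      ext y
      have h2 := LinearMap.congr_fun h1 y
      rw [LinearMap.smul_apply, LinearMap.smul_apply] at h2
      exact (hzreg.pow n) h2
    -- flatness of the syzygy over `S`
    haveI : Module.Finite S R := Module.Finite.of_surjective (Algebra.linearMap S R) hπ'
    haveI : Module.Finite S M := Module.Finite.trans R M
    obtain ⟨s, rfl⟩ := hπ x
    have hs : s ∈ maximalIdeal S := by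
      rw [mem_maximalIdeal, mem_nonunits_iff]
      intro hu
      exact hx (hu.map π)
    have hsM : IsSMulRegular M s := fun u v h => hxM h
    have hdepth : (1 : ℕ∞) ≤ LocCoh.depth S M := by
      have hreg : IsWeaklyRegular M [s] := (isWeaklyRegular_singleton_iff M s).mpr hsM
      have hle : (([s] : List S).length : ℕ∞) ≤ LocCoh.idealDepth (maximalIdeal S) M := by
        unfold LocCoh.idealDepth
        split_ifs
        · exact le_top
        · exact le_iSup₂ (f := fun (rs : List S)
            (_ : IsWeaklyRegular M rs ∧ ∀ r ∈ rs, r ∈ maximalIdeal S) => (rs.length : ℕ∞)) [s]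
            ⟨hreg, by simpa using hs⟩
      have hle' : (1 : ℕ∞) ≤ LocCoh.idealDepth (maximalIdeal S) M := by simpa using hle
      exact hle'
    have hpd : HasProjectiveDimensionLE (ModuleCat.of S M) 1 := by
      apply Groth.Agent.Helper1.RegAB.pd_le_of_depth 2 hS M 1
      calc ((2 : ℕ) : ℕ∞) = ((1 : ℕ) : ℕ∞) + 1 := by norm_num
        _ ≤ ((1 : ℕ) : ℕ∞) + LocCoh.depth S M := by gcongr
    have hpS : Function.Surjective (Fintype.linearCombination S g) := by
      rw [← LinearMap.range_eq_top, Fintype.range_linearCombination]
      have h1 := Submodule.restrictScalars_span S R hπ' (Set.range g)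
      rw [hg] at h1
      rw [← h1]
      rfl
    have hK1 : HasProjectiveDimensionLT
        (ModuleCat.of S (LinearMap.ker (Fintype.linearCombination S g))) 1 :=
      Groth.Agent.Helper7.Syz.pdLT_of_ses (B := S)
        (Submodule.subtype (LinearMap.ker (Fintype.linearCombination S g)))
        (Fintype.linearCombination S g)
        (Submodule.injective_subtype _) hpS (LinearMap.exact_subtype_ker_map _)
        inferInstance 1 le_rfl hpd
    haveI : Module.Projective S (LinearMap.ker (Fintype.linearCombination S g)) := by
      rw [IsProjective.iff_projective, projective_iff_hasProjectiveDimensionLT_one]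
      exact hK1
    exact rTensor_ker_injective g i j hi hj hw

end Groth.Agent.Helper7.PlTor
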