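import Mathlib

namespace Groth.Agent.Helper7.PlanePts

universe u

open MvPolynomial

variable {k : Type u} [Field k]

/-- the linear polynomial attached to a linear form -/
noncomputable def linPoly (ℓ : (Fin 3 → k) →ₗ[k] k) : MvPolynomial (Fin 3) k :=
  ∑ i : Fin 3, C (ℓ (Pi.single i 1)) * X i

theorem linPoly_homog (ℓ : (Fin 3 → k) →ₗ[k] k) : (linPoly ℓ).IsHomogeneous 1 := by
  unfold linPoly
  apply IsHomogeneous.sum
  intro i _
  have := (isHomogeneous_C (Fin 3) (ℓ (Pi.single i 1))).mul (isHomogeneous_X k i)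
  simpa using this

theorem aeval_linPoly (ℓ : (Fin 3 → k) →ₗ[k] k) (v : Fin 3 → k) :
    aeval v (linPoly ℓ) = ℓ v := by
  unfold linPoly
  simp only [map_sum, map_mul, aeval_C, aeval_X, Algebra.algebraMap_self, RingHom.id_apply]
  rw [LinearMap.pi_apply_eq_sum_univ ℓ v]
  refine Finset.sum_congr rfl fun i _ => ?_
  rw [smul_eq_mul, mul_comm]
  congr 2
  ext j
  simp [Pi.single_apply, eq_comm]

theorem finrank_homog (d : ℕ) :
    Module.finrank k ↥(homogeneousSubmodule (Fin 3) k d) = Nat.choose (d + 2) 2 := by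
  rw [homogeneousSubmodule_eq_finsupp_supported]
  have hset : {e : Fin 3 →₀ ℕ | e.degree = d} =
      ↑((Finset.univ : Finset (Fin 3)).finsuppAntidiag d) := by
    ext e
    simp [Finset.mem_finsuppAntidiag, Finsupp.degree_eq_sum]
  rw [hset, (AddMonoidAlgebra.supportedEquivFinsupp _).finrank_eq, Module.finrank_finsupp_self,
    Fintype.card_eq_nat_card, Nat.card_coe_set_eq, Set.ncard_coe_finset,
    Finset.card_finsuppAntidiag_nat_eq_choose]
  simp only [Finset.card_univ, Fintype.card_fin]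
  rw [show 3 + d - 1 = 2 + d by omega, Nat.add_comm 2 d, Nat.choose_symm_add]

/-- a form of degree `|S|` nonvanishing at `v`, vanishing on `S`, given that every point of `S`
is linearly independent from `v`. -/
theorem exists_form (v : Fin 3 → k) (S : Finset (Fin 3 → k))
    (h : ∀ w ∈ S, LinearIndependent k ![v, w]) :
    ∃ f : MvPolynomial (Fin 3) k, f.IsHomogeneous S.card ∧ aeval v f ≠ 0 ∧
      ∀ w ∈ S, aeval w f = 0 := by
  classical
  have key : ∀ w ∈ S, ∃ ℓ : (Fin 3 → k) →ₗ[k] k, ℓ v ≠ 0 ∧ ℓ w = 0 := by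
    intro w hw
    have hli := h w hw
    have hv : v ∉ Submodule.span k {w} := by
      intro hmem
      rw [Submodule.mem_span_singleton] at hmem
      obtain ⟨c, hc⟩ := hmem
      rw [LinearIndependent.pair_iff] at hli
      have := hli 1 (-c) (by simp [← hc])
      simpa using this.1
    obtain ⟨ℓ, h1, h2⟩ := Submodule.exists_le_ker_of_notMem hv
    exact ⟨ℓ, h1, h2 (Submodule.mem_span_singleton_self w)⟩
  choose! ℓ hℓ1 hℓ2 using key
  refine ⟨∏ w ∈ S, linPoly (ℓ w), ?_, ?_, ?_⟩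
  · have := IsHomogeneous.prod S (fun w => linPoly (ℓ w)) (fun _ => 1)
      (fun w _ => linPoly_homog (ℓ w))
    simpa using this
  · rw [map_prod, Finset.prod_ne_zero_iff]
    intro w hw
    rw [aeval_linPoly]
    exact hℓ1 w hw
  · intro w hw
    rw [map_prod]
    apply Finset.prod_eq_zero hw
    rw [aeval_linPoly]
    exact hℓ2 w hw

end Groth.Agent.Helper7.PlanePts

namespace Groth.Agent.Helper7.PlanePts

universe u

open MvPolynomial

variable {k : Type u} [Field k]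

/-- evaluation at the points of `Λ` -/
noncomputable def ev (Λ : Finset (Fin 3 → k)) : MvPolynomial (Fin 3) k →ₗ[k] (Λ → k) :=
  LinearMap.pi (fun v : Λ => (aeval (v : Fin 3 → k)).toLinearMap)

theorem ker_ev (Λ : Finset (Fin 3 → k)) :
    LinearMap.ker (ev Λ) = ⨅ v ∈ Λ, LinearMap.ker (aeval (R := k) (S₁ := k) v).toLinearMap := by
  unfold ev
  rw [LinearMap.ker_pi]
  ext f
  simp [Submodule.mem_iInf]

theorem finrank_inf_ker (V : Submodule k (MvPolynomial (Fin 3) k)) [Module.Finite k V]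
    (Λ : Finset (Fin 3 → k))
    (hsurj : Function.Surjective ((ev Λ).domRestrict V)) :
    Module.finrank k ↥(V ⊓ LinearMap.ker (ev Λ)) = Module.finrank k V - Λ.card := by
  have h1 := LinearMap.finrank_range_add_finrank_ker ((ev Λ).domRestrict V)
  rw [LinearMap.range_eq_top.mpr hsurj, finrank_top] at h1
  have h2 : Module.finrank k (Λ → k) = Λ.card := by simp
  have h3 : LinearMap.ker ((ev Λ).domRestrict V) =
      Submodule.comap V.subtype (V ⊓ LinearMap.ker (ev Λ)) := by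
    ext x
    simp [LinearMap.domRestrict_apply]
  have h4 := (Submodule.comapSubtypeEquivOfLe
    (inf_le_left : V ⊓ LinearMap.ker (ev Λ) ≤ V)).finrank_eq
  rw [← h4, ← h3]
  omega

theorem result27 (n : ℕ) (hn : 3 ≤ n)
    (Λ : Finset (Fin 3 → k)) (hcard : Λ.card = n)
    (hdist : ∀ v ∈ Λ, ∀ w ∈ Λ, v ≠ w → LinearIndependent k ![v, w]) :
    Module.finrank k ↥(homogeneousSubmodule (Fin 3) k (n - 1) ⊓
      ⨅ v ∈ Λ, LinearMap.ker (aeval (R := k) (S₁ := k) v).toLinearMap) =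
      Nat.choose (n + 1) 2 - n := by
  classical
  rw [← ker_ev]
  haveI : Module.Finite k ↥(homogeneousSubmodule (Fin 3) k (n - 1)) :=
    Module.Finite.iff_fg.mpr (homogeneousSubmodule_fg (Fin 3) k (n - 1))
  have key : ∀ v ∈ Λ, ∃ f : MvPolynomial (Fin 3) k, f.IsHomogeneous (n - 1) ∧ aeval v f ≠ 0 ∧
      ∀ w ∈ Λ, w ≠ v → aeval w f = 0 := by
    intro v hv
    obtain ⟨f, hf1, hf2, hf3⟩ := exists_form v (Λ.erase v) (fun w hw =>
      hdist v hv w (Finset.mem_of_mem_erase hw) (Finset.ne_of_mem_erase hw).symm)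
    rw [Finset.card_erase_of_mem hv, hcard] at hf1
    exact ⟨f, hf1, hf2, fun w hw hne => hf3 w (Finset.mem_erase.mpr ⟨hne, hw⟩)⟩
  choose! F hF1 hF2 hF3 using key
  rw [finrank_inf_ker, finrank_homog, hcard]
  · congr 2
    omega
  · intro t
    refine ⟨⟨∑ v : Λ, (t v / aeval (v : Fin 3 → k) (F v)) • F v, ?_⟩, ?_⟩
    · apply Submodule.sum_mem
      intro v _
      exact Submodule.smul_mem _ _ (hF1 v v.2)
    · ext u
      simp only [LinearMap.domRestrict_apply, ev, LinearMap.pi_apply, AlgHom.toLinearMap_apply,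
        map_sum, map_smul, smul_eq_mul]
      rw [Finset.sum_eq_single u]
      · exact div_mul_cancel₀ _ (hF2 u u.2)
      · intro v _ hvu
        rw [hF3 v v.2 u u.2 (fun h => hvu (Subtype.ext h).symm), mul_zero]
      · simp

end Groth.Agent.Helper7.PlanePts

namespace Groth.Agent.Helper7.PlanePts

universe u

open MvPolynomial

variable {k : Type u} [Field k]

theorem linIndep_of_not_smul {v w : Fin 3 → k} (hw : w ≠ 0) (h : ∀ c : k, v ≠ c • w) :
    LinearIndependent k ![v, w] := by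
  rw [LinearIndependent.pair_iff]
  intro a b hab
  by_cases ha : a = 0
  · subst ha
    simp only [zero_smul, zero_add, smul_eq_zero] at hab
    exact ⟨rfl, hab.resolve_right hw⟩
  · exfalso
    apply h (-b / a)
    have : a • v = -(b • w) := eq_neg_of_add_eq_zero_left hab
    calc v = a⁻¹ • (a • v) := by rw [smul_smul, inv_mul_cancel₀ ha, one_smul]
      _ = (-b / a) • w := by rw [this, ← neg_smul, smul_smul]; congr 1; field_simp

theorem exists_smul_of_forms (n : ℕ) (hn : 3 ≤ n) (Λ' : Finset (Fin 3 → k))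
    (hcard' : Λ'.card = n) (h0' : ∀ v ∈ Λ', v ≠ 0)
    (hline' : ¬ ∃ ℓ : (Fin 3 → k) →ₗ[k] k, ℓ ≠ 0 ∧ ∀ v ∈ Λ', ℓ v = 0)
    (v : Fin 3 → k)
    (hv : ∀ f : MvPolynomial (Fin 3) k, f.IsHomogeneous (n - 1) → (∀ w ∈ Λ', aeval w f = 0) →
      aeval v f = 0) :
    ∃ w ∈ Λ', ∃ c : k, v = c • w := by
  classical
  by_contra hcon
  push_neg at hcon
  have hli : ∀ w ∈ Λ', LinearIndependent k ![v, w] := fun w hw =>
    linIndep_of_not_smul (h0' w hw) (hcon w hw)
  -- find w1 ≠ w2 with v ∉ span {w1, w2}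
  have hex : ∃ w1 ∈ Λ', ∃ w2 ∈ Λ', w1 ≠ w2 ∧ v ∉ Submodule.span k {w1, w2} := by
    by_contra hno
    push_neg at hno
    have hne : Λ'.Nonempty := by
      rw [← Finset.card_pos]; omega
    obtain ⟨w1, hw1⟩ := hne
    have hlt : Submodule.span k {v, w1} < ⊤ := by
      rw [lt_top_iff_ne_top]
      intro htop
      have h1 : Module.finrank k ↥(Submodule.span k ({v, w1} : Set (Fin 3 → k))) ≤ 2 := by
        have := finrank_span_finset_le_card (R := k) ({v, w1} : Finset (Fin 3 → k))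
        have h2 : ({v, w1} : Finset (Fin 3 → k)).card ≤ 2 := Finset.card_le_two
        simp only [Finset.coe_insert, Finset.coe_singleton] at this
        exact this.trans h2
      rw [htop, finrank_top] at h1
      simp at h1
    obtain ⟨ℓ, hℓ0, hℓ⟩ := Submodule.exists_le_ker_of_lt_top _ hlt
    apply hline'
    refine ⟨ℓ, hℓ0, fun w2 hw2 => ?_⟩
    by_cases h12 : w2 = w1
    · subst h12
      exact hℓ (Submodule.subset_span (by simp))
    · have hmem := hno w1 hw1 w2 hw2 (Ne.symm h12)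
      rw [Submodule.mem_span_pair] at hmem
      obtain ⟨a, b, hab⟩ := hmem
      have hb : b ≠ 0 := by
        rintro rfl
        apply hcon w1 hw1 a
        simp [← hab]
      have hw2eq : w2 = b⁻¹ • (v - a • w1) := by
        rw [← hab, add_sub_cancel_left, smul_smul, inv_mul_cancel₀ hb, one_smul]
      have hvk : ℓ v = 0 := hℓ (Submodule.subset_span (by simp))
      have hw1k : ℓ w1 = 0 := hℓ (Submodule.subset_span (by simp))
      rw [hw2eq, map_smul, map_sub, map_smul, hvk, hw1k]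
      simp
  obtain ⟨w1, hw1, w2, hw2, h12, hvn⟩ := hex
  obtain ⟨ℓ, hℓv, hℓ⟩ := Submodule.exists_le_ker_of_notMem hvn
  obtain ⟨g, hg1, hg2, hg3⟩ := exists_form v ((Λ'.erase w1).erase w2) (fun w hw =>
    hli w (Finset.mem_of_mem_erase (Finset.mem_of_mem_erase hw)))
  have hcardS : ((Λ'.erase w1).erase w2).card = n - 2 := by
    rw [Finset.card_erase_of_mem (Finset.mem_erase.mpr ⟨Ne.symm h12, hw2⟩),
      Finset.card_erase_of_mem hw1, hcard']
    omega
  rw [hcardS] at hg1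
  have hf1 : (linPoly ℓ * g).IsHomogeneous (n - 1) := by
    have := (linPoly_homog ℓ).mul hg1
    rwa [show 1 + (n - 2) = n - 1 by omega] at this
  have hf2 : ∀ w ∈ Λ', aeval w (linPoly ℓ * g) = 0 := by
    intro w hw
    rw [map_mul, aeval_linPoly]
    by_cases hw1' : w = w1
    · subst hw1'
      rw [show ℓ w = 0 from hℓ (Submodule.subset_span (by simp)), zero_mul]
    by_cases hw2' : w = w2
    · subst hw2'
      rw [show ℓ w = 0 from hℓ (Submodule.subset_span (by simp)), zero_mul]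
    · rw [hg3 w (Finset.mem_erase.mpr ⟨hw2', Finset.mem_erase.mpr ⟨hw1', hw⟩⟩), mul_zero]
  have := hv _ hf1 hf2
  rw [map_mul, aeval_linPoly] at this
  exact (mul_ne_zero hℓv hg2) this

theorem result28 (n : ℕ) (hn : 3 ≤ n)
    (Λ Λ' : Finset (Fin 3 → k)) (hcard : Λ.card = n) (hcard' : Λ'.card = n)
    (h0 : ∀ v ∈ Λ, v ≠ 0) (h0' : ∀ v ∈ Λ', v ≠ 0)
    (hline : ¬ ∃ ℓ : (Fin 3 → k) →ₗ[k] k, ℓ ≠ 0 ∧ ∀ v ∈ Λ, ℓ v = 0)
    (hline' : ¬ ∃ ℓ : (Fin 3 → k) →ₗ[k] k, ℓ ≠ 0 ∧ ∀ v ∈ Λ', ℓ v = 0)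
    (heq : (homogeneousSubmodule (Fin 3) k (n - 1) ⊓
      ⨅ v ∈ Λ, LinearMap.ker (aeval (R := k) (S₁ := k) v).toLinearMap) =
      (homogeneousSubmodule (Fin 3) k (n - 1) ⊓
      ⨅ v ∈ Λ', LinearMap.ker (aeval (R := k) (S₁ := k) v).toLinearMap)) :
    (∀ v ∈ Λ, ∃ w ∈ Λ', ∃ c : k, v = c • w) ∧ (∀ w ∈ Λ', ∃ v ∈ Λ, ∃ c : k, w = c • v) := by
  have hmem : ∀ (M : Finset (Fin 3 → k)) (f : MvPolynomial (Fin 3) k),
      f ∈ (homogeneousSubmodule (Fin 3) k (n - 1) ⊓
        ⨅ v ∈ M, LinearMap.ker (aeval (R := k) (S₁ := k) v).toLinearMap) ↔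
      f.IsHomogeneous (n - 1) ∧ ∀ w ∈ M, aeval w f = 0 := by
    intro M f
    simp [Submodule.mem_inf, Submodule.mem_iInf]
  constructor
  · intro v hv
    apply exists_smul_of_forms n hn Λ' hcard' h0' hline' v
    intro f hf1 hf2
    have : f ∈ (homogeneousSubmodule (Fin 3) k (n - 1) ⊓
        ⨅ v ∈ Λ, LinearMap.ker (aeval (R := k) (S₁ := k) v).toLinearMap) := by
      rw [heq, hmem]; exact ⟨hf1, hf2⟩
    exact ((hmem Λ f).mp this).2 v hv
  · intro v hv
    apply exists_smul_of_forms n hn Λ hcard h0 hline v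
    intro f hf1 hf2
    have : f ∈ (homogeneousSubmodule (Fin 3) k (n - 1) ⊓
        ⨅ v ∈ Λ', LinearMap.ker (aeval (R := k) (S₁ := k) v).toLinearMap) := by
      rw [← heq, hmem]; exact ⟨hf1, hf2⟩
    exact ((hmem Λ' f).mp this).2 v hv

end Groth.Agent.Helper7.PlanePts
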