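import Groth.Prelude.Def_W4c1etcurveeff2TopGrp
import Mathlib

set_option autoImplicit false
universe u

namespace Groth.Agent.Helper7.PowComm

open W4c1etcurveeff2
open scoped commutatorElement

variable {G : Type u} [Group G] [TopologicalSpace G] [IsTopologicalGroup G] (n : ℕ)

/-- abstract subgroup generated by powers and commutators -/
def S₀ : Subgroup G := Subgroup.closure (Set.range fun g : G => g ^ n) ⊔ commutator G

lemma powCommClosure_eq : powCommClosure G n = (S₀ (G := G) n).topologicalClosure := rfl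

lemma map_S₀ (φ : G ≃* G) : (S₀ (G := G) n).map φ.toMonoidHom = S₀ n := by
  unfold S₀
  rw [Subgroup.map_sup, MonoidHom.map_closure]
  congr 1
  · congr 1
    ext x; constructor
    · rintro ⟨_, ⟨g, rfl⟩, rfl⟩; exact ⟨φ g, by simp⟩
    · rintro ⟨g, rfl⟩; exact ⟨(φ.symm g) ^ n, ⟨_, rfl⟩, by simp⟩
  · rw [commutator_def, Subgroup.map_commutator, Subgroup.map_top_of_surjective _ φ.surjective]

lemma map_le (φ : G ≃* G) (hφ : Continuous φ) :
    (powCommClosure G n).map φ.toMonoidHom ≤ powCommClosure G n := by
  rintro _ ⟨x, hx, rfl⟩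
  rw [powCommClosure_eq] at hx ⊢
  have hx' : x ∈ closure ((S₀ (G := G) n : Subgroup G) : Set G) := hx
  have h1 : φ x ∈ closure (φ '' ((S₀ (G := G) n : Subgroup G) : Set G)) :=
    image_closure_subset_closure_image hφ ⟨x, hx', rfl⟩
  have himg : φ '' ((S₀ (G := G) n : Subgroup G) : Set G) = ((S₀ (G := G) n : Subgroup G) : Set G) := by
    conv_rhs => rw [← map_S₀ n φ]
    rfl
  rw [himg] at h1
  exact h1

lemma map_eq (φ : G ≃* G) (hφ : Continuous φ) (hφ' : Continuous φ.symm) :
    (powCommClosure G n).map φ.toMonoidHom = powCommClosure G n := by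
  refine le_antisymm (map_le n φ hφ) ?_
  intro x hx
  exact ⟨φ.symm x, map_le n φ.symm hφ' ⟨x, hx, rfl⟩, by simp⟩

instance normal : (powCommClosure G n).Normal := by
  constructor
  intro x hx g
  have hc : Continuous (MulAut.conj g : G ≃* G) := by
    show Continuous (fun h => g * h * g⁻¹)
    fun_prop
  have := map_le n (MulAut.conj g) hc ⟨x, hx, rfl⟩
  simpa using this

lemma isClosed : IsClosed ((powCommClosure G n : Subgroup G) : Set G) :=
  Subgroup.isClosed_topologicalClosure _

lemma S₀_le : S₀ (G := G) n ≤ powCommClosure G n := Subgroup.le_topologicalClosure _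

lemma pow_mem (g : G) : g ^ n ∈ powCommClosure G n :=
  S₀_le n (Subgroup.mem_sup_left (Subgroup.subset_closure ⟨g, rfl⟩))

lemma commutator_mem (a b : G) : ⁅a, b⁆ ∈ powCommClosure G n :=
  S₀_le n (Subgroup.mem_sup_right
    (Subgroup.commutator_mem_commutator (Subgroup.mem_top a) (Subgroup.mem_top b)))

/-- a subgroup containing `n`-th powers and commutators, and closed, contains the closure -/
lemma le_of_closed (H : Subgroup G) (hH : IsClosed (H : Set G)) (hpow : ∀ g : G, g ^ n ∈ H)
    (hcomm : ∀ a b : G, ⁅a, b⁆ ∈ H) : powCommClosure G n ≤ H := by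
  apply Subgroup.topologicalClosure_minimal _ _ hH
  apply sup_le
  · rw [Subgroup.closure_le]
    rintro _ ⟨g, rfl⟩
    exact hpow g
  · rw [commutator_def, Subgroup.commutator_le]
    intro a _ b _
    exact hcomm a b

/-- the quotient is commutative -/
noncomputable instance commQ : CommGroup (G ⧸ powCommClosure G n) :=
  { (inferInstance : Group (G ⧸ powCommClosure G n)) with
    mul_comm := by
      rintro ⟨a⟩ ⟨b⟩
      apply QuotientGroup.eq.mpr
      have : (a * b)⁻¹ * (b * a) = ⁅b⁻¹, a⁻¹⁆ := by
        rw [commutatorElement_def]; group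
      rw [this]
      exact commutator_mem n _ _ }

lemma pow_eq_one (q : G ⧸ powCommClosure G n) : q ^ n = 1 := by
  obtain ⟨g, rfl⟩ := QuotientGroup.mk_surjective q
  rw [← QuotientGroup.mk_pow, QuotientGroup.eq_one_iff]
  exact pow_mem n g

variable {n} in
theorem finiteQ [NeZero n] (s : Finset G)
    (hs : Dense ((Subgroup.closure (s : Set G) : Subgroup G) : Set G)) :
    Finite (G ⧸ powCommClosure G n) := by
  classical
  let π : G →* G ⧸ powCommClosure G n := QuotientGroup.mk' (powCommClosure G n)
  set T : Subgroup (G ⧸ powCommClosure G n) := (Subgroup.closure (s : Set G)).map π with hT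
  have hTfg : T.FG := by
    rw [hT, MonoidHom.map_closure]
    exact ⟨s.image π, by simp⟩
  haveI : Group.FG T := (Group.fg_iff_subgroup_fg T).mpr hTfg
  have htors : Monoid.IsTorsion T := by
    intro x
    rw [isOfFinOrder_iff_pow_eq_one]
    refine ⟨n, NeZero.pos n, ?_⟩
    ext
    simp [pow_eq_one]
  haveI : Finite T := CommGroup.finite_of_fg_torsion T htors
  have hclosed : IsClosed (π ⁻¹' (T : Set (G ⧸ powCommClosure G n))) := by
    have h1 : π ⁻¹' (T : Set (G ⧸ powCommClosure G n)) =
        ⋃ t ∈ (T : Set (G ⧸ powCommClosure G n)), π ⁻¹' {t} := by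
      ext x; simp
    rw [h1]
    refine Set.Finite.isClosed_biUnion (Set.toFinite _) ?_
    intro t _
    obtain ⟨g, rfl⟩ := QuotientGroup.mk_surjective t
    have h2 : π ⁻¹' {(g : G ⧸ powCommClosure G n)} =
        (fun x => g⁻¹ * x) ⁻¹' ((powCommClosure G n : Subgroup G) : Set G) := by
      ext x
      simp only [Set.mem_preimage, Set.mem_singleton_iff, SetLike.mem_coe]
      show (x : G ⧸ powCommClosure G n) = g ↔ _
      rw [eq_comm, QuotientGroup.eq]
    rw [h2]
    exact (isClosed n).preimage (continuous_const.mul continuous_id)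
  have hsub : ((Subgroup.closure (s : Set G) : Subgroup G) : Set G) ⊆
      π ⁻¹' (T : Set (G ⧸ powCommClosure G n)) := by
    intro x hx; exact ⟨x, hx, rfl⟩
  have huniv : π ⁻¹' (T : Set (G ⧸ powCommClosure G n)) = Set.univ := by
    have hd := hs.mono hsub
    rw [← hclosed.closure_eq]
    exact hd.closure_eq
  have hTtop : (T : Set (G ⧸ powCommClosure G n)) = Set.univ := by
    ext q
    obtain ⟨g, rfl⟩ := QuotientGroup.mk_surjective q
    simp only [Set.mem_univ, iff_true]
    have : g ∈ π ⁻¹' (T : Set (G ⧸ powCommClosure G n)) := by rw [huniv]; trivial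
    exact this
  have hfin : (T : Set (G ⧸ powCommClosure G n)).Finite := Set.toFinite _
  rw [hTtop] at hfin
  exact Set.finite_univ_iff.mp hfin

/-- the target cyclic group -/
abbrev M (n : ℕ) := Multiplicative (ZMod n)

instance enough [NeZero n] : HasEnoughRootsOfUnity (M n) n where
  prim := ⟨Multiplicative.ofAdd 1, by
    have : orderOf (Multiplicative.ofAdd (1 : ZMod n)) = n := by
      rw [orderOf_ofAdd_eq_addOrderOf, ZMod.addOrderOf_one]
    have h := IsPrimitiveRoot.orderOf (Multiplicative.ofAdd (1 : ZMod n))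
    rwa [this] at h⟩
  cyc := by
    haveI : IsCyclic (M n)ˣ :=
      isCyclic_of_surjective (toUnits (G := M n)) (toUnits (G := M n)).surjective
    infer_instance

lemma M_pow (m : M n) : m ^ n = 1 := by
  have : (n : ℕ) • (Multiplicative.toAdd m) = 0 := by
    rw [nsmul_eq_mul]; simp
  exact congrArg Multiplicative.ofAdd this

/-- characters with open kernel kill the closure -/
lemma le_ker_of_isOpen (χ : G →* M n) (hχ : IsOpen ((χ.ker : Subgroup G) : Set G)) :
    powCommClosure G n ≤ χ.ker := by
  apply le_of_closed n χ.ker (Subgroup.isClosed_of_isOpen _ hχ)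
  · intro g
    rw [MonoidHom.mem_ker, map_pow, M_pow]
  · intro a b
    rw [MonoidHom.mem_ker, map_commutatorElement, commutatorElement_def]
    rw [mul_comm (χ a) (χ b)]
    group

variable {n} in
lemma isOpenS [NeZero n] (s : Finset G)
    (hs : Dense ((Subgroup.closure (s : Set G) : Subgroup G) : Set G)) :
    IsOpen ((powCommClosure G n : Subgroup G) : Set G) := by
  haveI := finiteQ (n := n) s hs
  haveI : (powCommClosure G n).FiniteIndex := Subgroup.finiteIndex_of_finite_quotient
  exact Subgroup.isOpen_of_isClosed_of_finiteIndex _ (isClosed n)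

section Dual

variable {n}

/-- characters of the quotient give continuous characters -/
noncomputable def Ψ (hopen : IsOpen ((powCommClosure G n : Subgroup G) : Set G)) :
    ((G ⧸ powCommClosure G n) →* (M n)ˣ) →* ContChar G n where
  toFun ψ := ⟨((toUnits (G := M n)).symm.toMonoidHom.comp ψ).comp
      (QuotientGroup.mk' (powCommClosure G n)), by
    show IsOpen _
    refine Subgroup.isOpen_mono ?_ hopen
    intro g hg
    rw [MonoidHom.mem_ker]
    simp [(QuotientGroup.eq_one_iff g).mpr hg]⟩
  map_one' := Subtype.ext (MonoidHom.ext fun g => by simp)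
  map_mul' ψ₁ ψ₂ := Subtype.ext (MonoidHom.ext fun g => by simp)

lemma Ψ_apply (hopen : IsOpen ((powCommClosure G n : Subgroup G) : Set G))
    (ψ : (G ⧸ powCommClosure G n) →* (M n)ˣ) (g : G) :
    ((Ψ hopen ψ : ContChar G n) : G →* M n) g = (toUnits (G := M n)).symm (ψ (g : G ⧸ powCommClosure G n)) :=
  rfl

variable [NeZero n]

lemma enoughQ [Finite (G ⧸ powCommClosure G n)] :
    HasEnoughRootsOfUnity (M n) (Monoid.exponent (G ⧸ powCommClosure G n)) :=
  HasEnoughRootsOfUnity.of_dvd (M n) (Monoid.exponent_dvd_of_forall_pow_eq_one (pow_eq_one n))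

theorem mem_iff (s : Finset G)
    (hs : Dense ((Subgroup.closure (s : Set G) : Subgroup G) : Set G)) (g : G) :
    g ∈ powCommClosure G n ↔
      ∀ χ : G →* Multiplicative (ZMod n), IsOpen ((χ.ker : Subgroup G) : Set G) → χ g = 1 := by
  constructor
  · intro hg χ hχ
    exact le_ker_of_isOpen n χ hχ hg
  · intro h
    by_contra hg
    haveI := finiteQ (n := n) s hs
    haveI := enoughQ (G := G) (n := n)
    have hne : (g : G ⧸ powCommClosure G n) ≠ 1 := fun h1 => hg ((QuotientGroup.eq_one_iff g).mp h1)
    obtain ⟨φ, hφ⟩ := CommGroup.exists_apply_ne_one_of_hasEnoughRootsOfUnity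
      (G ⧸ powCommClosure G n) (M n) hne
    have hopen := isOpenS (n := n) s hs
    have := h (Ψ hopen φ : ContChar G n).1 (Ψ hopen φ : ContChar G n).2
    rw [Ψ_apply] at this
    apply hφ
    have h2 := congrArg (toUnits (G := M n)) this
    simpa using h2

theorem eval_surj (s : Finset G)
    (hs : Dense ((Subgroup.closure (s : Set G) : Subgroup G) : Set G))
    (F : ContChar G n →* Multiplicative (ZMod n)) :
    ∃ g : G, ∀ χ : ContChar G n, F χ = (χ.1 : G →* Multiplicative (ZMod n)) g := by
  haveI := finiteQ (n := n) s hs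
  haveI := enoughQ (G := G) (n := n)
  have hopen := isOpenS (n := n) s hs
  let η : ((G ⧸ powCommClosure G n) →* (M n)ˣ) →* (M n)ˣ :=
    ((toUnits (G := M n)).toMonoidHom.comp F).comp (Ψ hopen)
  obtain ⟨g, hg⟩ := QuotientGroup.mk_surjective
    (CommGroup.monoidHomMonoidHomEquiv (G ⧸ powCommClosure G n) (M n) η)
  refine ⟨g, fun χ => ?_⟩
  let ψ : (G ⧸ powCommClosure G n) →* (M n)ˣ :=
    (toUnits (G := M n)).toMonoidHom.comp
      (QuotientGroup.lift (powCommClosure G n) χ.1 (fun x hx => le_ker_of_isOpen n χ.1 χ.2 hx))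
  have h1 := CommGroup.apply_monoidHomMonoidHomEquiv (M := M n) ψ η
  rw [← hg] at h1
  have hΨ : Ψ hopen ψ = χ := by
    apply Subtype.ext
    apply MonoidHom.ext
    intro x
    rw [Ψ_apply]
    simp [ψ]
  have h2 : η ψ = toUnits (F χ) := by
    simp only [η, MonoidHom.comp_apply, hΨ]
    rfl
  have h3 : ψ (g : G ⧸ powCommClosure G n) = toUnits ((χ.1 : G →* M n) g) := by
    simp [ψ]
  rw [h2, h3] at h1
  exact ((toUnits (G := M n)).injective h1).symm

/-- evaluation -/
def ev (n : ℕ) : G →* (ContChar G n →* M n) where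
  toFun g :=
    { toFun := fun χ => (χ.1 : G →* M n) g
      map_one' := rfl
      map_mul' := fun _ _ => rfl }
  map_one' := by ext χ; simp
  map_mul' a b := by ext χ; simp

theorem unique_of_equiv (s : Finset G)
    (hs : Dense ((Subgroup.closure (s : Set G) : Subgroup G) : Set G))
    (H : Subgroup G) [H.Normal] (hH : IsClosed (H : Set G))
    (e : G ⧸ H ≃* (ContChar G n →* Multiplicative (ZMod n))) : H = powCommClosure G n := by
  haveI := finiteQ (n := n) s hs
  -- (i) S ≤ H
  have hpow : ∀ g : G, g ^ n ∈ H := by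
    intro g
    rw [← QuotientGroup.eq_one_iff, QuotientGroup.mk_pow]
    apply e.injective
    rw [map_pow, map_one]
    ext χ
    rw [MonoidHom.pow_apply, M_pow]
    rfl
  have hcomm : ∀ a b : G, ⁅a, b⁆ ∈ H := by
    intro a b
    rw [← QuotientGroup.eq_one_iff]
    have h1 : ((⁅a, b⁆ : G) : G ⧸ H) = ⁅(a : G ⧸ H), (b : G ⧸ H)⁆ := by
      simp [commutatorElement_def]
    rw [h1, commutatorElement_eq_one_iff_mul_comm]
    apply e.injective
    rw [map_mul, map_mul, mul_comm]
  have hle : powCommClosure G n ≤ H := le_of_closed n H hH hpow hcomm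
  -- (ii) cardinalities
  have hsurj : Function.Surjective (ev (G := G) n) := by
    intro F
    obtain ⟨g, hg⟩ := eval_surj s hs F
    exact ⟨g, by ext χ; exact (hg χ).symm⟩
  have hker : (ev (G := G) n).ker = powCommClosure G n := by
    ext g
    rw [MonoidHom.mem_ker, mem_iff s hs]
    constructor
    · intro h χ hχ
      have := DFunLike.congr_fun h ⟨χ, hχ⟩
      exact this
    · intro h
      ext χ
      exact h χ.1 χ.2
  have hcard : Nat.card (G ⧸ powCommClosure G n) = Nat.card (G ⧸ H) := by
    have e1 : G ⧸ (ev (G := G) n).ker ≃* (ContChar G n →* M n) :=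
      QuotientGroup.quotientKerEquivOfSurjective _ hsurj
    have e2 : G ⧸ (ev (G := G) n).ker ≃* G ⧸ powCommClosure G n :=
      QuotientGroup.quotientMulEquivOfEq hker
    exact Nat.card_congr ((e2.symm.trans e1).trans e.symm).toEquiv
  have hidx : (powCommClosure G n).index = H.index := hcard
  have hne : (powCommClosure G n).index ≠ 0 := by
    haveI : (powCommClosure G n).FiniteIndex := Subgroup.finiteIndex_of_finite_quotient
    exact Subgroup.FiniteIndex.index_ne_zero
  have hrel := Subgroup.relIndex_mul_index hle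
  rw [← hidx] at hrel
  have hone : (powCommClosure G n).relIndex H = 1 := by
    have : (powCommClosure G n).relIndex H * (powCommClosure G n).index =
        1 * (powCommClosure G n).index := by rw [hrel, one_mul]
    exact Nat.eq_of_mul_eq_mul_right (Nat.pos_of_ne_zero hne) this
  exact le_antisymm (Subgroup.relIndex_eq_one.mp hone) hle

end Dual

theorem result
    (s : Finset G) (hs : Dense ((Subgroup.closure (s : Set G) : Subgroup G) : Set G))
    (n : ℕ) [NeZero n] (S : Subgroup G) (hS : S = powCommClosure G n) :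
    (∀ φ : G ≃* G, Continuous φ → Continuous φ.symm → S.map φ.toMonoidHom = S) ∧
    (∀ g : G, g ∈ S ↔
        ∀ χ : G →* Multiplicative (ZMod n), IsOpen ((χ.ker : Subgroup G) : Set G) → χ g = 1) ∧
    (∀ F : ContChar G n →* Multiplicative (ZMod n), ∃ g : G,
        ∀ χ : ContChar G n, F χ = (χ.1 : G →* Multiplicative (ZMod n)) g) ∧
    (∀ (H : Subgroup G) [H.Normal], IsClosed (H : Set G) →
        Nonempty (G ⧸ H ≃* (ContChar G n →* Multiplicative (ZMod n))) → H = S) := by
  subst hS
  refine ⟨fun φ h1 h2 => map_eq n φ h1 h2, fun g => mem_iff s hs g, fun F => eval_surj s hs F, ?_⟩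
  intro H _ hH ⟨e⟩
  exact unique_of_equiv s hs H hH e

end Groth.Agent.Helper7.PowComm
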