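import Mathlib

/-!
# Associated primes of homogeneous localizations at relevant primes (helper7)
-/

set_option autoImplicit false
set_option linter.unusedSectionVars false
set_option linter.style.haveILetI false

namespace Groth.Agent.Helper7.ProjS1

open DirectSum HomogeneousLocalization

universe u

variable {A : Type u} [CommRing A] (𝒜 : ℕ → AddSubgroup A) [GradedRing 𝒜]
  (p : Ideal A) [hp : p.IsPrime]

/-- the fraction `y / t` as an element of `A_(p)` -/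
noncomputable def frac (m : ℕ) (y : A) (hy : y ∈ 𝒜 m) (t : A) (ht : t ∈ 𝒜 m) (htp : t ∉ p) :
    HomogeneousLocalization.AtPrime 𝒜 p :=
  HomogeneousLocalization.mk ⟨m, ⟨y, hy⟩, ⟨t, ht⟩, htp⟩

theorem val_frac (m : ℕ) (y : A) (hy : y ∈ 𝒜 m) (t : A) (ht : t ∈ 𝒜 m) (htp : t ∉ p) :
    (frac 𝒜 p m y hy t ht htp).val = Localization.mk y ⟨t, htp⟩ := by
  rw [frac, HomogeneousLocalization.val_mk]

theorem exists_frac (z : HomogeneousLocalization.AtPrime 𝒜 p) :
    ∃ (m : ℕ) (y : A) (hy : y ∈ 𝒜 m) (t : A) (ht : t ∈ 𝒜 m) (htp : t ∉ p),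
      z = frac 𝒜 p m y hy t ht htp := by
  obtain ⟨⟨m, ⟨y, hy⟩, ⟨t, ht⟩, htp⟩, rfl⟩ := HomogeneousLocalization.mk_surjective z
  exact ⟨m, y, hy, t, ht, htp, rfl⟩

theorem frac_mul (m : ℕ) (y : A) (hy : y ∈ 𝒜 m) (t : A) (ht : t ∈ 𝒜 m) (htp : t ∉ p)
    (m' : ℕ) (y' : A) (hy' : y' ∈ 𝒜 m') (t' : A) (ht' : t' ∈ 𝒜 m') (htp' : t' ∉ p) :
    frac 𝒜 p m y hy t ht htp * frac 𝒜 p m' y' hy' t' ht' htp' =
      frac 𝒜 p (m + m') (y * y') (SetLike.mul_mem_graded hy hy') (t * t')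
        (SetLike.mul_mem_graded ht ht') (fun h => (hp.mem_or_mem h).elim htp htp') := by
  apply HomogeneousLocalization.val_injective
  rw [HomogeneousLocalization.val_mul, val_frac, val_frac, val_frac, Localization.mk_mul]
  rfl

theorem frac_pow (m : ℕ) (y : A) (hy : y ∈ 𝒜 m) (t : A) (ht : t ∈ 𝒜 m) (htp : t ∉ p) (N : ℕ) :
    (frac 𝒜 p m y hy t ht htp) ^ N =
      frac 𝒜 p (N • m) (y ^ N) (SetLike.pow_mem_graded N hy) (t ^ N)
        (SetLike.pow_mem_graded N ht) (fun h => htp (hp.mem_of_pow_mem N h)) := by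
  apply HomogeneousLocalization.val_injective
  rw [HomogeneousLocalization.val_pow, val_frac, val_frac, Localization.mk_pow]
  rfl

theorem frac_eq_zero_iff (m : ℕ) (y : A) (hy : y ∈ 𝒜 m) (t : A) (ht : t ∈ 𝒜 m) (htp : t ∉ p) :
    frac 𝒜 p m y hy t ht htp = 0 ↔ ∃ c, c ∉ p ∧ c * y = 0 := by
  rw [HomogeneousLocalization.ext_iff_val, val_frac, HomogeneousLocalization.val_zero,
    Localization.mk_eq_mk', IsLocalization.mk'_eq_zero_iff]
  constructor
  · rintro ⟨c, hc⟩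
    exact ⟨c.1, c.2, hc⟩
  · rintro ⟨c, hc, h⟩
    exact ⟨⟨c, hc⟩, h⟩

/-- a non-element of an ideal has a homogeneous component outside the ideal -/
theorem exists_component_notMem (J : Ideal A) (c : A) (hc : c ∉ J) :
    ∃ i, (decompose 𝒜 c i : A) ∉ J := by
  classical
  by_contra hcon
  push Not at hcon
  apply hc
  rw [← DirectSum.sum_support_decompose 𝒜 c]
  exact sum_mem fun i _ => hcon i

/-- if `c` kills a homogeneous element, so does every homogeneous component of `c` -/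
theorem component_mul_eq_zero (c x : A) (j : ℕ) (hx : x ∈ 𝒜 j) (h : c * x = 0) (i : ℕ) :
    (decompose 𝒜 c i : A) * x = 0 := by
  rw [← DirectSum.coe_decompose_mul_add_of_right_mem 𝒜 hx (i := i), h, DirectSum.decompose_zero]
  rfl

theorem exists_homogeneous_of_mul_eq_zero (J : Ideal A) (c x : A) (j : ℕ) (hx : x ∈ 𝒜 j)
    (hc : c ∉ J) (h : c * x = 0) : ∃ e, ∃ w ∈ 𝒜 e, w ∉ J ∧ w * x = 0 := by
  obtain ⟨i, hi⟩ := exists_component_notMem 𝒜 J c hc
  exact ⟨i, _, (decompose 𝒜 c i).2, hi, component_mul_eq_zero 𝒜 c x j hx h i⟩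

theorem frac_eq_zero_iff' (m : ℕ) (y : A) (hy : y ∈ 𝒜 m) (t : A) (ht : t ∈ 𝒜 m) (htp : t ∉ p) :
    frac 𝒜 p m y hy t ht htp = 0 ↔ ∃ e, ∃ w ∈ 𝒜 e, w ∉ p ∧ w * y = 0 := by
  rw [frac_eq_zero_iff]
  constructor
  · rintro ⟨c, hc, h⟩
    exact exists_homogeneous_of_mul_eq_zero 𝒜 p c y m hy hc h
  · rintro ⟨e, w, -, hw, h⟩
    exact ⟨w, hw, h⟩

/-- the annihilator of a homogeneous element is a homogeneous ideal -/
theorem colon_isHomogeneous (x : A) (j : ℕ) (hx : x ∈ 𝒜 j) :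
    ((⊥ : Submodule A A).colon {x}).IsHomogeneous 𝒜 := by
  intro i r hr
  rw [Submodule.mem_colon_singleton, Submodule.mem_bot, smul_eq_mul] at hr ⊢
  exact component_mul_eq_zero 𝒜 r x j hx hr i

theorem pow_mem_mul (x : A) (i d : ℕ) (hx : x ∈ 𝒜 i) : x ^ d ∈ 𝒜 (d * i) := by
  have := SetLike.pow_mem_graded d hx
  rwa [smul_eq_mul] at this

theorem pow_mem_mul' (f : A) (d i : ℕ) (hf : f ∈ 𝒜 d) : f ^ i ∈ 𝒜 (d * i) := by
  have := SetLike.pow_mem_graded i hf
  rwa [smul_eq_mul, mul_comm] at this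

/-- the degree-zero fraction `x ^ d / f ^ i` for `x` of degree `i` and `f` of degree `d` -/
noncomputable def fr (d : ℕ) (f : A) (hf : f ∈ 𝒜 d) (hfp : f ∉ p) (i : ℕ) (x : A) (hx : x ∈ 𝒜 i) :
    HomogeneousLocalization.AtPrime 𝒜 p :=
  frac 𝒜 p (d * i) (x ^ d) (pow_mem_mul 𝒜 x i d hx) (f ^ i) (pow_mem_mul' 𝒜 f d i hf)
    (fun h => hfp (hp.mem_of_pow_mem i h))

variable [IsNoetherianRing A]

/-- the key structural statement: an associated prime `Q = √Ann(z)` of `A_(p)` is the homogeneous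
localization of a homogeneous associated prime `P` of `A` -/
theorem exists_prime_of_ass
    (d : ℕ) (hd : 0 < d) (f : A) (hf : f ∈ 𝒜 d) (hfp : f ∉ p)
    (Q : Ideal (HomogeneousLocalization.AtPrime 𝒜 p))
    (hQ : Q ∈ associatedPrimes (HomogeneousLocalization.AtPrime 𝒜 p)
      (HomogeneousLocalization.AtPrime 𝒜 p)) :
    ∃ P : Ideal A, P ∈ associatedPrimes A A ∧
      ∀ (m : ℕ) (y : A) (hy : y ∈ 𝒜 m) (t : A) (ht : t ∈ 𝒜 m) (htp : t ∉ p),
        frac 𝒜 p m y hy t ht htp ∈ Q ↔ y ∈ P := by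
  obtain ⟨hQp, z, hz⟩ := hQ
  obtain ⟨n, a, ha, s, hs, hsp, rfl⟩ := exists_frac 𝒜 p z
  -- choose `w₀` with maximal annihilator
  let S : Set (Ideal A) := {J | ∃ e, ∃ w ∈ 𝒜 e, w ∉ p ∧ J = (⊥ : Submodule A A).colon {w * a}}
  have hSne : S.Nonempty := ⟨_, 0, 1, SetLike.GradedOne.one_mem, fun h => hp.ne_top
    ((Ideal.eq_top_iff_one _).2 h), rfl⟩
  obtain ⟨I', hIS, hImax'⟩ :=
    (set_has_maximal_iff_noetherian (R := A) (M := A)).mpr inferInstance S hSne
  obtain ⟨I, hII'⟩ : ∃ I : Ideal A, I = I' := ⟨I', rfl⟩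
  have hImax : ∀ J : Ideal A, J ∈ S → ¬ I < J := by
    rw [hII']
    exact hImax'
  rw [← hII'] at hIS
  clear hImax' hII' I'
  obtain ⟨e₀, w₀, hw₀, hw₀p, hI⟩ := hIS
  have memI : ∀ r : A, r ∈ I ↔ r * (w₀ * a) = 0 := by
    intro r
    rw [hI, Submodule.mem_colon_singleton, Submodule.mem_bot, smul_eq_mul]
  -- stability of `I`
  have hstab : ∀ (e : ℕ) (w : A), w ∈ 𝒜 e → w ∉ p → ∀ r : A, r * (w * a) = 0 → r ∈ I := by
    intro e w hw hwp r hr
    let J : Ideal A := (⊥ : Submodule A A).colon {(w * w₀) * a}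
    have hJS : J ∈ S := ⟨e + e₀, w * w₀, SetLike.mul_mem_graded hw hw₀,
      fun h => (hp.mem_or_mem h).elim hwp hw₀p, rfl⟩
    have hIJ : I ≤ J := by
      intro r' hr'
      rw [memI] at hr'
      change r' ∈ (⊥ : Submodule A A).colon {(w * w₀) * a}
      rw [Submodule.mem_colon_singleton, Submodule.mem_bot, smul_eq_mul]
      calc r' * (w * w₀ * a) = w * (r' * (w₀ * a)) := by ring
        _ = 0 := by rw [hr', mul_zero]
    have hJI : J = I := (eq_of_le_of_not_lt hIJ (hImax J hJS)).symm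
    rw [← hJI]
    change r ∈ (⊥ : Submodule A A).colon {(w * w₀) * a}
    rw [Submodule.mem_colon_singleton, Submodule.mem_bot, smul_eq_mul]
    calc r * (w * w₀ * a) = w₀ * (r * (w * a)) := by ring
      _ = 0 := by rw [hr, mul_zero]
  -- the membership criterion
  have key : ∀ (m : ℕ) (y : A) (hy : y ∈ 𝒜 m) (t : A) (ht : t ∈ 𝒜 m) (htp : t ∉ p),
      frac 𝒜 p m y hy t ht htp ∈ Q ↔ y ∈ I.radical := by
    intro m y hy t ht htp
    rw [hz, Ideal.mem_radical_iff, Ideal.mem_radical_iff]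
    refine exists_congr fun N => ?_
    rw [Submodule.mem_colon_singleton, Submodule.mem_bot, smul_eq_mul, frac_pow, frac_mul,
      frac_eq_zero_iff', memI]
    constructor
    · rintro ⟨e, w, hw, hwp, h⟩
      have := hstab e w hw hwp (y ^ N) (by rw [← h]; ring)
      exact (memI _).1 this
    · intro h
      exact ⟨e₀, w₀, hw₀, hw₀p, by rw [← h]; ring⟩
  have hIhom : I.IsHomogeneous 𝒜 := by
    rw [hI]
    exact colon_isHomogeneous 𝒜 _ (e₀ + n) (SetLike.mul_mem_graded hw₀ ha)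
  have hone : (1 : HomogeneousLocalization.AtPrime 𝒜 p) =
      frac 𝒜 p 0 1 SetLike.GradedOne.one_mem 1 SetLike.GradedOne.one_mem
        (fun h => hp.ne_top ((Ideal.eq_top_iff_one _).2 h)) := by
    apply HomogeneousLocalization.val_injective
    rw [val_frac, HomogeneousLocalization.val_one]
    exact (Localization.mk_one).symm
  have hPprime : I.radical.IsPrime := by
    refine hIhom.radical.isPrime_of_homogeneous_mem_or_mem ?_ ?_
    · intro htop
      apply hQp.ne_top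
      rw [Ideal.eq_top_iff_one, hone, key, htop]
      trivial
    · rintro x y ⟨i, hx⟩ ⟨j, hy⟩ hxy
      have h1 : fr 𝒜 p d f hf hfp i x hx * fr 𝒜 p d f hf hfp j y hy ∈ Q := by
        rw [fr, fr, frac_mul, key, ← mul_pow]
        exact Ideal.pow_mem_of_mem _ hxy d hd
      rcases hQp.mem_or_mem h1 with h2 | h2
      · left
        rw [fr, key] at h2
        exact Ideal.mem_radical_of_pow_mem h2
      · right
        rw [fr, key] at h2
        exact Ideal.mem_radical_of_pow_mem h2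
  refine ⟨I.radical, ⟨hPprime, w₀ * a, by rw [hI]⟩, key⟩

omit [IsNoetherianRing A] in
theorem exists_mul_pow_eq_zero (P : Ideal A) (hP : P ∈ minimalPrimes A) (y : A) (hy : y ∈ P) :
    ∃ N : ℕ, ∃ v, v ∉ P ∧ v * y ^ N = 0 := by
  haveI := hP.1.1
  have h := IsLocalization.AtPrime.radical_map_of_mem_minimalPrimes
    (A := Localization.AtPrime P) P ⊥ hP
  have h1 : algebraMap A (Localization.AtPrime P) y ∈
      (Ideal.map (algebraMap A (Localization.AtPrime P)) ⊥).radical := by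
    rw [h]
    exact Ideal.mem_map_of_mem _ hy
  rw [Ideal.map_bot] at h1
  obtain ⟨N, hN⟩ := h1
  rw [Ideal.mem_bot, ← map_pow, IsLocalization.map_eq_zero_iff P.primeCompl] at hN
  obtain ⟨v, hv⟩ := hN
  exact ⟨N, v.1, v.2, hv⟩

/-- if every associated prime of `A` is minimal, then the same holds for `A_(p)` (`p` a relevant
homogeneous prime) -/
theorem ass_minimal (hS1 : ∀ P ∈ associatedPrimes A A, P ∈ minimalPrimes A)
    (d : ℕ) (hd : 0 < d) (f : A) (hf : f ∈ 𝒜 d) (hfp : f ∉ p)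
    (Q : Ideal (HomogeneousLocalization.AtPrime 𝒜 p))
    (hQ : Q ∈ associatedPrimes (HomogeneousLocalization.AtPrime 𝒜 p)
      (HomogeneousLocalization.AtPrime 𝒜 p)) :
    Q ∈ minimalPrimes (HomogeneousLocalization.AtPrime 𝒜 p) := by
  obtain ⟨P, hPass, key⟩ := exists_prime_of_ass 𝒜 p d hd f hf hfp Q hQ
  have hPmin := hS1 P hPass
  have hQp : Q.IsPrime := hQ.isPrime
  have hPp : P.IsPrime := hPass.isPrime
  refine ⟨⟨hQp, bot_le⟩, ?_⟩
  rintro Q'' ⟨hQ''p, -⟩ hle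
  intro ζ hζ
  obtain ⟨m, y, hy, t, ht, htp, rfl⟩ := exists_frac 𝒜 p ζ
  rw [key] at hζ
  obtain ⟨N, v', hv'P, hv'y⟩ := exists_mul_pow_eq_zero P hPmin y hζ
  obtain ⟨e, v, hv, hvP, hvy⟩ := exists_homogeneous_of_mul_eq_zero 𝒜 P v' (y ^ N) (N • m)
    (SetLike.pow_mem_graded N hy) hv'P hv'y
  have h0 : fr 𝒜 p d f hf hfp e v hv * (frac 𝒜 p m y hy t ht htp) ^ N = 0 := by
    rw [fr, frac_pow, frac_mul, frac_eq_zero_iff]
    refine ⟨1, fun h => hp.ne_top ((Ideal.eq_top_iff_one _).2 h), ?_⟩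
    obtain ⟨d', rfl⟩ : ∃ d', d = d' + 1 := ⟨d - 1, by omega⟩
    rw [one_mul, pow_succ, mul_assoc, hvy, mul_zero]
  have h1 : fr 𝒜 p d f hf hfp e v hv * (frac 𝒜 p m y hy t ht htp) ^ N ∈ Q'' := by
    rw [h0]
    exact zero_mem _
  rcases hQ''p.mem_or_mem h1 with h2 | h2
  · exfalso
    have h3 := hle h2
    rw [fr, key] at h3
    exact hvP (hPp.mem_of_pow_mem d h3)
  · exact hQ''p.mem_of_pow_mem N h2

end Groth.Agent.Helper7.ProjS1
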