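import Mathlib
import Groth.Agent.Helper7.ProjS1a

/-!
# The kernel of `A → A_p` is homogeneous; homogeneous elements of consecutive degrees (helper7)
-/

set_option autoImplicit false
set_option linter.unusedSectionVars false
set_option linter.style.haveILetI false

namespace Groth.Agent.Helper7.ProjGor

open DirectSum Polynomial Groth.Agent.Helper7.ProjS1

universe u

variable {A : Type u} [CommRing A] (𝒜 : ℕ → AddSubgroup A) [GradedRing 𝒜]

/-- the ring homomorphism `a ↦ Σ aᵢ Xⁱ` attached to an `ℕ`-grading -/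
noncomputable def theta : A →+* A[X] :=
  (DirectSum.toSemiring
    (fun i => (Polynomial.monomial i : A →ₗ[A] A[X]).toAddMonoidHom.comp (𝒜 i).subtype)
    (by simp)
    (by
      intro i j ai aj
      simp [Polynomial.monomial_mul_monomial])).comp
    (DirectSum.decomposeRingEquiv 𝒜).toRingHom

theorem theta_coeff (a : A) (i : ℕ) : (theta 𝒜 a).coeff i = (decompose 𝒜 a i : A) := by
  classical
  have h1 : theta 𝒜 a = ∑ j ∈ (decompose 𝒜 a).support,
      Polynomial.monomial j (decompose 𝒜 a j : A) := by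
    unfold theta
    rw [RingHom.comp_apply]
    have h2 : (DirectSum.decomposeRingEquiv 𝒜).toRingHom a = decompose 𝒜 a := rfl
    rw [h2]
    conv_lhs => rw [← DirectSum.sum_support_of (decompose 𝒜 a)]
    rw [map_sum]
    refine Finset.sum_congr rfl fun j _ => ?_
    rw [DirectSum.toSemiring_of]
    rfl
  rw [h1, Polynomial.finsetSum_coeff]
  simp_rw [Polynomial.coeff_monomial]
  rw [Finset.sum_ite_eq']
  split_ifs with h
  · rfl
  · rw [DFinsupp.notMem_support_iff] at h
    rw [h]
    rfl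

/-- **the kernel of `A → A_p` is a homogeneous ideal** -/
theorem component_map_eq_zero (p : Ideal A) [hp : p.IsPrime] (a : A)
    (ha : algebraMap A (Localization.AtPrime p) a = 0) (i : ℕ) :
    algebraMap A (Localization.AtPrime p) (decompose 𝒜 a i : A) = 0 := by
  rw [IsLocalization.map_eq_zero_iff p.primeCompl] at ha
  obtain ⟨s, hs⟩ := ha
  set C := Localization.AtPrime p with hC
  set P : C[X] := (theta 𝒜 (s : A)).map (algebraMap A C) with hP
  set Q : C[X] := (theta 𝒜 a).map (algebraMap A C) with hQ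
  have hPQ : P * Q = 0 := by
    rw [hP, hQ, ← Polynomial.map_mul, ← map_mul, hs, map_zero, Polynomial.map_zero]
  by_contra hne
  have hQ0 : Q ≠ 0 := by
    intro h
    apply hne
    have := congrArg (fun q => q.coeff i) h
    simpa [hQ, theta_coeff] using this
  have hPnz : P ∉ nonZeroDivisors C[X] := by
    intro h
    exact hQ0 ((mem_nonZeroDivisors_iff_right.1 h) Q (by rw [mul_comm]; exact hPQ))
  obtain ⟨r, hr0, hr⟩ := Polynomial.notMem_nonZeroDivisors_iff.1 hPnz
  obtain ⟨j, hj⟩ := exists_component_notMem 𝒜 p (s : A) s.2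
  have h1 := congrArg (fun q => q.coeff j) hr
  simp only [Polynomial.coeff_smul, Polynomial.coeff_zero, hP, Polynomial.coeff_map,
    theta_coeff, smul_eq_mul] at h1
  have hu : IsUnit (algebraMap A C (decompose 𝒜 (s : A) j : A)) :=
    IsLocalization.map_units C (⟨_, hj⟩ : p.primeCompl)
  exact hr0 (hu.mul_left_eq_zero.1 h1)

open Pointwise in
/-- under condition `(#)`, a relevant prime misses homogeneous elements of two consecutive
degrees -/
theorem exists_consecutive (p : Ideal A) [hp : p.IsPrime]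
    (hsharp : ∃ d₀ : ℕ, ∀ d : ℕ, d₀ ≤ d → ∀ n : ℕ, 1 ≤ n →
      𝒜 ((n + 1) * d) = AddSubgroup.closure ((𝒜 d : Set A) * (𝒜 (n * d) : Set A)))
    (e : ℕ) (he : 0 < e) (f : A) (hf : f ∈ 𝒜 e) (hfp : f ∉ p) :
    ∃ d, ∃ g₀ ∈ 𝒜 d, ∃ g₁ ∈ 𝒜 (d + 1), g₀ ∉ p ∧ g₁ ∉ p := by
  obtain ⟨d₀, hd₀⟩ := hsharp
  have key : ∀ d, d₀ ≤ d → ∃ g ∈ 𝒜 d, g ∉ p := by
    intro d hd
    by_contra hcon
    push Not at hcon
    have hfd : f ^ d ∈ 𝒜 (d * e) := by
      have := SetLike.pow_mem_graded d hf
      rwa [smul_eq_mul] at this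
    have hmem : f ^ d ∈ p := by
      rcases Nat.lt_or_ge e 2 with h2 | h2
      · have he1 : e = 1 := by omega
        rw [he1, mul_one] at hfd
        exact hcon _ hfd
      · have h3 := hd₀ d hd (e - 1) (by omega)
        have h4 : (e - 1 + 1) * d = d * e := by
          rw [Nat.sub_add_cancel (by omega), mul_comm]
        rw [h4] at h3
        rw [h3] at hfd
        have hle : AddSubgroup.closure ((𝒜 d : Set A) * (𝒜 ((e - 1) * d) : Set A)) ≤
            p.toAddSubgroup := by
          rw [AddSubgroup.closure_le]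
          rintro _ ⟨x, hx, y, -, rfl⟩
          exact p.mul_mem_right y (hcon x hx)
        exact hle hfd
    exact hfp (hp.mem_of_pow_mem d hmem)
  obtain ⟨g₀, hg₀, hg₀p⟩ := key d₀ le_rfl
  obtain ⟨g₁, hg₁, hg₁p⟩ := key (d₀ + 1) (Nat.le_succ d₀)
  exact ⟨d₀, g₀, hg₀, g₁, hg₁, hg₀p, hg₁p⟩

end Groth.Agent.Helper7.ProjGor
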