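import Mathlib
import Groth.Agent.Helper7.ProjGor1

/-!
# `A_p` is a localization of a polynomial ring over `A_(p)` when `p` misses homogeneous elements
of two consecutive degrees; in particular `A_(p) → A_p` is flat (helper7)
-/

set_option autoImplicit false
set_option linter.unusedSectionVars false
set_option linter.style.haveILetI false

namespace Groth.Agent.Helper7.ProjGor

open DirectSum Polynomial Groth.Agent.Helper7.ProjS1

universe u

variable {A : Type u} [CommRing A] (𝒜 : ℕ → AddSubgroup A) [GradedRing 𝒜]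
  (p : Ideal A) [hp : p.IsPrime]
  (d : ℕ) (g₀ g₁ : A) (hg₀ : g₀ ∈ 𝒜 d) (hg₁ : g₁ ∈ 𝒜 (d + 1)) (hg₀p : g₀ ∉ p) (hg₁p : g₁ ∉ p)

/-- the degree one unit `g₁ / g₀` of `A_p` -/
noncomputable def uu : Localization.AtPrime p := Localization.mk g₁ ⟨g₀, hg₀p⟩

/-- the evaluation map `A_(p)[X] → A_p`, `X ↦ g₁ / g₀` -/
noncomputable def phi : (HomogeneousLocalization.AtPrime 𝒜 p)[X] →+* Localization.AtPrime p :=
  Polynomial.eval₂RingHom
    (algebraMap (HomogeneousLocalization.AtPrime 𝒜 p) (Localization.AtPrime p)) (uu p g₀ g₁ hg₀p)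

include hg₀ in
theorem mem1 (i : ℕ) (y : A) (hy : y ∈ 𝒜 i) : y * g₀ ^ i ∈ 𝒜 (i * (d + 1)) := by
  have h := SetLike.mul_mem_graded hy (SetLike.pow_mem_graded i hg₀)
  have e : i + i • d = i * (d + 1) := by rw [smul_eq_mul]; ring
  rwa [e] at h

include hg₁ in
theorem mem2 (i : ℕ) : g₁ ^ i ∈ 𝒜 (i * (d + 1)) := by
  have h := SetLike.pow_mem_graded i hg₁
  rwa [smul_eq_mul] at h

/-- the coefficient `y g₀ⁱ / g₁ⁱ` -/
noncomputable def cf (i : ℕ) (y : A) (hy : y ∈ 𝒜 i) : HomogeneousLocalization.AtPrime 𝒜 p :=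
  frac 𝒜 p (i * (d + 1)) (y * g₀ ^ i) (mem1 𝒜 d g₀ hg₀ i y hy) (g₁ ^ i) (mem2 𝒜 d g₁ hg₁ i)
    (fun h => hg₁p (hp.mem_of_pow_mem i h))

theorem cf_mul_pow (i : ℕ) (y : A) (hy : y ∈ 𝒜 i) :
    (cf 𝒜 p d g₀ g₁ hg₀ hg₁ hg₁p i y hy).val * (uu p g₀ g₁ hg₀p) ^ i =
      algebraMap A (Localization.AtPrime p) y := by
  rw [cf, val_frac, uu, Localization.mk_pow, Localization.mk_mul,
    ← Localization.mk_one_eq_algebraMap, Localization.mk_eq_mk_iff, Localization.r_iff_exists]
  refine ⟨1, ?_⟩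
  simp only [OneMemClass.coe_one, one_mul, Submonoid.coe_mul, SubmonoidClass.coe_pow]
  ring

/-- the polynomial `Σ (aᵢ g₀ⁱ / g₁ⁱ) Xⁱ` -/
noncomputable def poly (a : A) : (HomogeneousLocalization.AtPrime 𝒜 p)[X] := by
  classical
  exact ∑ i ∈ (decompose 𝒜 a).support,
    Polynomial.monomial i (cf 𝒜 p d g₀ g₁ hg₀ hg₁ hg₁p i (decompose 𝒜 a i : A) (decompose 𝒜 a i).2)

theorem phi_poly (a : A) :
    phi 𝒜 p g₀ g₁ hg₀p (poly 𝒜 p d g₀ g₁ hg₀ hg₁ hg₁p a) =
      algebraMap A (Localization.AtPrime p) a := by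
  classical
  unfold poly phi
  rw [map_sum]
  conv_rhs => rw [← DirectSum.sum_support_decompose 𝒜 a, map_sum]
  refine Finset.sum_congr rfl fun i _ => ?_
  rw [Polynomial.coe_eval₂RingHom, Polynomial.eval₂_monomial,
    HomogeneousLocalization.algebraMap_apply]
  exact cf_mul_pow 𝒜 p d g₀ g₁ hg₀ hg₁ hg₀p hg₁p i _ _

/-- common denominators for finitely many elements of `A_(p)` -/
theorem exists_common_den (F : Finset ℕ) (b : ℕ → HomogeneousLocalization.AtPrime 𝒜 p) :
    ∃ (E : ℕ) (t : A) (ht : t ∈ 𝒜 E) (htp : t ∉ p) (Y : ℕ → A) (hY : ∀ i, Y i ∈ 𝒜 E),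
      ∀ i ∈ F, b i = frac 𝒜 p E (Y i) (hY i) t ht htp := by
  classical
  induction F using Finset.induction_on with
  | empty =>
    exact ⟨0, 1, SetLike.GradedOne.one_mem, fun h => hp.ne_top ((Ideal.eq_top_iff_one _).2 h),
      fun _ => 0, fun _ => zero_mem _, fun i hi => absurd hi (Finset.notMem_empty i)⟩
  | insert i₀ F hi₀ ih =>
    obtain ⟨E, t, ht, htp, Y, hY, h⟩ := ih
    obtain ⟨m, y, hy, t', ht', ht'p, hb⟩ := exists_frac 𝒜 p (b i₀)
    refine ⟨E + m, t * t', SetLike.mul_mem_graded ht ht',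
      fun h => (hp.mem_or_mem h).elim htp ht'p,
      fun i => if i = i₀ then t * y else Y i * t', ?_, ?_⟩
    · intro i
      beta_reduce
      split_ifs
      · exact SetLike.mul_mem_graded ht hy
      · exact SetLike.mul_mem_graded (hY i) ht'
    · intro i hi
      apply HomogeneousLocalization.val_injective
      rw [val_frac]
      beta_reduce
      rcases Finset.mem_insert.1 hi with rfl | hiF
      · rw [if_pos rfl, hb, val_frac, Localization.mk_eq_mk_iff, Localization.r_iff_exists]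
        refine ⟨1, ?_⟩
        simp only [OneMemClass.coe_one, one_mul]
        ring
      · have hne : i ≠ i₀ := fun h => hi₀ (h ▸ hiF)
        rw [if_neg hne, h i hiF, val_frac, Localization.mk_eq_mk_iff, Localization.r_iff_exists]
        refine ⟨1, ?_⟩
        simp only [OneMemClass.coe_one, one_mul]
        ring

theorem deg_arith (E N d j : ℕ) (h : j ≤ N) :
    E + j * (d + 1) + (N - j) * d = E + N * d + j := by
  obtain ⟨k, rfl⟩ := Nat.exists_eq_add_of_le h
  rw [Nat.add_sub_cancel_left]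
  ring

include hg₀ hg₁ hg₁p in
theorem phi_injective : Function.Injective (phi 𝒜 p g₀ g₁ hg₀p) := by
  classical
  rw [injective_iff_map_eq_zero]
  intro γ hγ
  obtain ⟨E, t, ht, htp, Y, hY, hc⟩ := exists_common_den 𝒜 p γ.support γ.coeff
  set N := γ.natDegree with hN
  set M : A := ∑ i ∈ γ.support, Y i * g₁ ^ i * g₀ ^ (N - i) with hMdef
  have hM : algebraMap A (Localization.AtPrime p) M = 0 := by
    have h1 : phi 𝒜 p g₀ g₁ hg₀p γ * algebraMap A (Localization.AtPrime p) (t * g₀ ^ N) =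
        algebraMap A (Localization.AtPrime p) M := by
      rw [phi, Polynomial.coe_eval₂RingHom, Polynomial.eval₂_eq_sum, Polynomial.sum_def,
        Finset.sum_mul, hMdef, map_sum]
      refine Finset.sum_congr rfl fun i hi => ?_
      have hiN : i ≤ N := Polynomial.le_natDegree_of_mem_supp i hi
      have hpow : g₀ ^ N = g₀ ^ (N - i) * g₀ ^ i := (pow_sub_mul_pow g₀ hiN).symm
      rw [HomogeneousLocalization.algebraMap_apply, hc i hi, val_frac, uu, Localization.mk_pow,
        Localization.mk_mul, ← Localization.mk_one_eq_algebraMap,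
        ← Localization.mk_one_eq_algebraMap, Localization.mk_mul, Localization.mk_eq_mk_iff,
        Localization.r_iff_exists]
      refine ⟨1, ?_⟩
      simp only [OneMemClass.coe_one, one_mul, Submonoid.coe_mul, SubmonoidClass.coe_pow, mul_one]
      rw [hpow]
      ring
    rw [← h1, hγ, zero_mul]
  have hdeg : ∀ j ∈ γ.support, Y j * g₁ ^ j * g₀ ^ (N - j) ∈ 𝒜 (E + N * d + j) := by
    intro j hj
    have hjN : j ≤ N := Polynomial.le_natDegree_of_mem_supp j hj
    have h1 := SetLike.mul_mem_graded (SetLike.mul_mem_graded (hY j)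
      (SetLike.pow_mem_graded j hg₁)) (SetLike.pow_mem_graded (N - j) hg₀)
    rw [smul_eq_mul, smul_eq_mul, deg_arith E N d j hjN] at h1
    exact h1
  have hcomp : ∀ i ∈ γ.support,
      algebraMap A (Localization.AtPrime p) (Y i * g₁ ^ i * g₀ ^ (N - i)) = 0 := by
    intro i hi
    have h1 := component_map_eq_zero 𝒜 p M hM (E + N * d + i)
    have h2 : (decompose 𝒜 M (E + N * d + i) : A) = Y i * g₁ ^ i * g₀ ^ (N - i) := by
      rw [hMdef, DirectSum.decompose_sum, DFinsupp.finsetSum_apply,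
        AddSubmonoidClass.coe_finsetSum, Finset.sum_eq_single i]
      · exact DirectSum.decompose_of_mem_same 𝒜 (hdeg i hi)
      · intro j hj hji
        exact DirectSum.decompose_of_mem_ne 𝒜 (hdeg j hj) (by omega)
      · intro h
        exact absurd hi h
    rwa [h2] at h1
  apply Polynomial.ext
  intro i
  by_cases hi : i ∈ γ.support
  · rw [hc i hi, Polynomial.coeff_zero, frac_eq_zero_iff]
    obtain ⟨c, hc0⟩ := (IsLocalization.map_eq_zero_iff p.primeCompl (Localization.AtPrime p) _).1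
      (hcomp i hi)
    refine ⟨c * g₁ ^ i * g₀ ^ (N - i), ?_, ?_⟩
    · intro h
      rcases hp.mem_or_mem h with h' | h'
      · rcases hp.mem_or_mem h' with h'' | h''
        · exact c.2 h''
        · exact hg₁p (hp.mem_of_pow_mem i h'')
      · exact hg₀p (hp.mem_of_pow_mem _ h')
    · rw [← hc0]
      ring
  · rw [Polynomial.notMem_support_iff.1 hi, Polynomial.coeff_zero]

include hg₀ hg₁ hg₀p hg₁p in
/-- **`A_p` is flat over `A_(p)`** when `p` misses homogeneous elements of two consecutive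
degrees -/
theorem flat_atPrime :
    Module.Flat (HomogeneousLocalization.AtPrime 𝒜 p) (Localization.AtPrime p) := by
  classical
  let φ := phi 𝒜 p g₀ g₁ hg₀p
  letI : Algebra (HomogeneousLocalization.AtPrime 𝒜 p)[X] (Localization.AtPrime p) := φ.toAlgebra
  haveI : IsScalarTower (HomogeneousLocalization.AtPrime 𝒜 p)
      (HomogeneousLocalization.AtPrime 𝒜 p)[X] (Localization.AtPrime p) :=
    IsScalarTower.of_algebraMap_eq (fun b => by
      show _ = phi 𝒜 p g₀ g₁ hg₀p (Polynomial.C b)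
      rw [phi, Polynomial.coe_eval₂RingHom, Polynomial.eval₂_C])
  let S : Submonoid (HomogeneousLocalization.AtPrime 𝒜 p)[X] :=
    (IsUnit.submonoid (Localization.AtPrime p)).comap φ
  haveI : IsLocalization S (Localization.AtPrime p) := by
    rw [isLocalization_iff]
    refine ⟨?_, ?_, ?_⟩
    · rintro ⟨s, hs⟩
      exact hs
    · intro z
      obtain ⟨a, s, rfl⟩ := IsLocalization.exists_mk'_eq p.primeCompl z
      have hs : poly 𝒜 p d g₀ g₁ hg₀ hg₁ hg₁p (s : A) ∈ S := by
        show IsUnit (φ _)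
        rw [phi_poly]
        exact IsLocalization.map_units _ s
      refine ⟨(poly 𝒜 p d g₀ g₁ hg₀ hg₁ hg₁p a, ⟨_, hs⟩), ?_⟩
      show IsLocalization.mk' (Localization.AtPrime p) a s * φ _ = φ _
      rw [phi_poly, phi_poly, IsLocalization.mk'_spec]
    · intro x y hxy
      have : x = y := phi_injective 𝒜 p d g₀ g₁ hg₀ hg₁ hg₀p hg₁p hxy
      exact ⟨1, by rw [this]⟩
  haveI : Module.Flat (HomogeneousLocalization.AtPrime 𝒜 p)[X] (Localization.AtPrime p) :=
    IsLocalization.flat (Localization.AtPrime p) S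
  exact Module.Flat.trans (HomogeneousLocalization.AtPrime 𝒜 p)
    (HomogeneousLocalization.AtPrime 𝒜 p)[X] (Localization.AtPrime p)

end Groth.Agent.Helper7.ProjGor
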