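import Mathlib
import Groth.Agent.Helper7.ProjGor2

/-!
# `A_(p) → A_p`: contraction of ideals, the closed fibre, transfer of regular sequences (helper7)
-/

set_option autoImplicit false
set_option linter.unusedSectionVars false
set_option linter.style.haveILetI false

namespace Groth.Agent.Helper7.ProjCM

open DirectSum HomogeneousLocalization Groth.Agent.Helper7.ProjS1

universe u

variable {A : Type u} [CommRing A] (𝒜 : ℕ → AddSubgroup A) [GradedRing 𝒜]
  (p : Ideal A) [hp : p.IsPrime]

theorem algebraMap_mul_val_frac (m : ℕ) (y : A) (hy : y ∈ 𝒜 m) (t : A) (ht : t ∈ 𝒜 m) (htp : t ∉ p) :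
    algebraMap A (Localization.AtPrime p) t * (frac 𝒜 p m y hy t ht htp).val =
      algebraMap A (Localization.AtPrime p) y := by
  rw [val_frac, Localization.mk_eq_mk']
  exact IsLocalization.mk'_spec' _ y ⟨t, htp⟩

/-- every ideal of `A_(p)` is contracted from `A_p` -/
theorem contraction (I : Ideal (HomogeneousLocalization.AtPrime 𝒜 p))
    (b : HomogeneousLocalization.AtPrime 𝒜 p)
    (hb : algebraMap (HomogeneousLocalization.AtPrime 𝒜 p) (Localization.AtPrime p) b ∈
      I.map (algebraMap (HomogeneousLocalization.AtPrime 𝒜 p) (Localization.AtPrime p))) :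
    b ∈ I := by
  classical
  rw [Ideal.map, Ideal.span, Submodule.mem_span_set'] at hb
  obtain ⟨n, α, g, hsum⟩ := hb
  choose c hcI hc using fun j => (g j).2
  obtain ⟨⟨s, hs⟩, hsα⟩ := IsLocalization.exist_integer_multiples p.primeCompl Finset.univ α
  choose a ha using fun j => hsα j (Finset.mem_univ j)
  obtain ⟨E, t, ht, htp, Y, hY, hcY⟩ := Groth.Agent.Helper7.ProjGor.exists_common_den 𝒜 p
    (Finset.range n) (fun j => if h : j < n then c ⟨j, h⟩ else 0)
  have hcY' : ∀ j : Fin n, c j = frac 𝒜 p E (Y j) (hY j) t ht htp := by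
    intro j
    have := hcY j (Finset.mem_range.2 j.2)
    rwa [dif_pos j.2] at this
  obtain ⟨m0, y0, hy0, t0, ht0, htp0, rfl⟩ := exists_frac 𝒜 p b
  set φ := algebraMap A (Localization.AtPrime p) with hφ
  -- the equation in `A_p`
  have h1 : φ s * (frac 𝒜 p m0 y0 hy0 t0 ht0 htp0).val = ∑ j, φ (a j) * (c j).val := by
    rw [← HomogeneousLocalization.algebraMap_apply, ← hsum, Finset.mul_sum]
    refine Finset.sum_congr rfl fun j _ => ?_
    rw [ha j, ← hc j, smul_eq_mul, Algebra.smul_def, HomogeneousLocalization.algebraMap_apply]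
    ring
  have h2 : φ (s * t * y0) = φ (∑ j, a j * t0 * Y j) := by
    rw [map_sum]
    have e1 : φ (s * t * y0) = φ t * (φ s * (φ t0 * (frac 𝒜 p m0 y0 hy0 t0 ht0 htp0).val)) := by
      rw [algebraMap_mul_val_frac, map_mul, map_mul]; ring
    have e2 : ∀ j, φ (a j * t0 * Y j) = φ t0 * (φ (a j) * (φ t * (c j).val)) := by
      intro j
      rw [hcY' j, algebraMap_mul_val_frac, map_mul, map_mul]; ring
    rw [e1]
    simp_rw [e2]
    rw [← Finset.mul_sum]
    have : ∑ j, φ (a j) * (φ t * (c j).val) = φ t * ∑ j, φ (a j) * (c j).val := by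
      rw [Finset.mul_sum]
      exact Finset.sum_congr rfl fun j _ => by ring
    rw [this, ← h1]
    ring
  obtain ⟨⟨u, hu⟩, hu'⟩ := (IsLocalization.eq_iff_exists p.primeCompl _).1 h2
  simp only at hu'
  have h3 : (u * s) * (t * y0) = ∑ j, (u * a j) * (Y j * t0) := by
    have : ∑ j, (u * a j) * (Y j * t0) = u * ∑ j, a j * t0 * Y j := by
      rw [Finset.mul_sum]
      exact Finset.sum_congr rfl fun j _ => by ring
    rw [this, ← hu']
    ring
  have hus : u * s ∉ p := fun hh => (hp.mem_or_mem hh).elim hu hs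
  obtain ⟨i, hi⟩ := exists_component_notMem 𝒜 p (u * s) hus
  have hd1 : t * y0 ∈ 𝒜 (E + m0) := SetLike.mul_mem_graded ht hy0
  have hd2 : ∀ j, Y j * t0 ∈ 𝒜 (E + m0) := fun j => SetLike.mul_mem_graded (hY j) ht0
  have h4 : (decompose 𝒜 (u * s) i : A) * (t * y0) =
      ∑ j, (decompose 𝒜 (u * a j) i : A) * (Y j * t0) := by
    rw [← DirectSum.coe_decompose_mul_add_of_right_mem 𝒜 hd1 (i := i), h3,
      ← GradedRing.proj_apply, map_sum]
    refine Finset.sum_congr rfl fun j _ => ?_
    rw [GradedRing.proj_apply, DirectSum.coe_decompose_mul_add_of_right_mem 𝒜 (hd2 j) (i := i)]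
  set w : A := (decompose 𝒜 (u * s) i : A) with hw
  have hwd : w ∈ 𝒜 i := (decompose 𝒜 (u * s) i).2
  let e : Fin n → HomogeneousLocalization.AtPrime 𝒜 p := fun j =>
    frac 𝒜 p i _ (decompose 𝒜 (u * a j) i).2 w hwd hi
  have h5 : frac 𝒜 p m0 y0 hy0 t0 ht0 htp0 = ∑ j, e j * c j := by
    apply HomogeneousLocalization.val_injective
    have hU : IsUnit (φ (w * t * t0)) :=
      IsLocalization.map_units (Localization.AtPrime p)
        (⟨w * t * t0, fun hh => (hp.mem_or_mem hh).elim
          (fun hh' => (hp.mem_or_mem hh').elim hi htp) htp0⟩ : p.primeCompl)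
    apply hU.mul_left_cancel
    have e1 : φ (w * t * t0) * (frac 𝒜 p m0 y0 hy0 t0 ht0 htp0).val = φ (w * (t * y0)) := by
      have : φ (w * t * t0) = φ (w * t) * φ t0 := by rw [← map_mul]
      rw [this, mul_assoc, algebraMap_mul_val_frac, ← map_mul]
      congr 1; ring
    have e2 : φ (w * t * t0) * (∑ j, e j * c j).val =
        φ (∑ j, (decompose 𝒜 (u * a j) i : A) * (Y j * t0)) := by
      rw [← HomogeneousLocalization.algebraMap_apply, map_sum, map_sum, Finset.mul_sum]
      refine Finset.sum_congr rfl fun j _ => ?_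
      show φ (w * t * t0) * (e j * c j).val = _
      rw [HomogeneousLocalization.val_mul]
      have e3 : φ w * (e j).val = φ (decompose 𝒜 (u * a j) i : A) :=
        algebraMap_mul_val_frac 𝒜 p i _ _ w hwd hi
      have e4 : φ t * (c j).val = φ (Y j) := by
        rw [hcY' j]; exact algebraMap_mul_val_frac 𝒜 p E _ _ t ht htp
      have : φ (w * t * t0) * ((e j).val * (c j).val) =
          (φ w * (e j).val) * (φ t * (c j).val) * φ t0 := by
        rw [map_mul, map_mul]; ring
      rw [this, e3, e4, ← map_mul, ← map_mul]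
      congr 1; ring
    rw [e1, e2, h4]
  rw [h5]
  exact Ideal.sum_mem _ fun j _ => Ideal.mul_mem_left _ _ (hcI j)

/-- the closed fibre of `A_(p) → A_p` is zero-dimensional -/
theorem eq_maximalIdeal_of_map_le (hph : p.IsHomogeneous 𝒜) (d : ℕ) (hd : 0 < d) (f : A)
    (hf : f ∈ 𝒜 d) (hfp : f ∉ p) (P : Ideal (Localization.AtPrime p)) [hP : P.IsPrime]
    (hle : (IsLocalRing.maximalIdeal (HomogeneousLocalization.AtPrime 𝒜 p)).map
      (algebraMap (HomogeneousLocalization.AtPrime 𝒜 p) (Localization.AtPrime p)) ≤ P) :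
    P = IsLocalRing.maximalIdeal (Localization.AtPrime p) := by
  classical
  refine le_antisymm (IsLocalRing.le_maximalIdeal hP.ne_top) ?_
  rw [← Localization.AtPrime.map_eq_maximalIdeal, Ideal.map_le_iff_le_comap]
  intro a ha
  rw [← DirectSum.sum_support_decompose 𝒜 a]
  refine Ideal.sum_mem _ fun i _ => ?_
  have hai : (decompose 𝒜 a i : A) ∈ p := hph i ha
  have hdi : (decompose 𝒜 a i : A) ∈ 𝒜 i := (decompose 𝒜 a i).2
  let z : HomogeneousLocalization.AtPrime 𝒜 p :=
    frac 𝒜 p (d * i) ((decompose 𝒜 a i : A) ^ d) (pow_mem_mul 𝒜 _ i d hdi) (f ^ i)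
      (pow_mem_mul' 𝒜 f d i hf) (fun h => hfp (hp.mem_of_pow_mem i h))
  have hz : z ∈ IsLocalRing.maximalIdeal (HomogeneousLocalization.AtPrime 𝒜 p) := by
    rw [IsLocalRing.mem_maximalIdeal, mem_nonunits_iff,
      ← HomogeneousLocalization.isUnit_iff_isUnit_val, ← mem_nonunits_iff,
      ← IsLocalRing.mem_maximalIdeal, val_frac, Localization.mk_eq_mk',
      IsLocalization.AtPrime.mk'_mem_maximal_iff (Localization.AtPrime p) p]
    exact Ideal.pow_mem_of_mem _ hai d hd
  have h1 : z.val ∈ P := hle (Ideal.mem_map_of_mem _ hz)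
  have h2 : algebraMap A (Localization.AtPrime p) ((decompose 𝒜 a i : A) ^ d) ∈ P := by
    rw [← algebraMap_mul_val_frac 𝒜 p (d * i) _ (pow_mem_mul 𝒜 _ i d hdi) (f ^ i)
      (pow_mem_mul' 𝒜 f d i hf) (fun h => hfp (hp.mem_of_pow_mem i h))]
    exact Ideal.mul_mem_left _ _ h1
  rw [Ideal.mem_comap]
  rw [map_pow] at h2
  exact hP.mem_of_pow_mem d h2

open RingTheory.Sequence in
/-- a sequence of `A_(p)` which becomes weakly regular in `A_p` is weakly regular -/
theorem isWeaklyRegular_of_map (bs : List (HomogeneousLocalization.AtPrime 𝒜 p))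
    (h : IsWeaklyRegular (Localization.AtPrime p)
      (bs.map (algebraMap (HomogeneousLocalization.AtPrime 𝒜 p) (Localization.AtPrime p)))) :
    IsWeaklyRegular (HomogeneousLocalization.AtPrime 𝒜 p) bs := by
  refine ⟨fun i hi => ?_⟩
  rw [isSMulRegular_quotient_iff_mem_of_smul_mem]
  intro c hc
  have hi' : i < (bs.map (algebraMap (HomogeneousLocalization.AtPrime 𝒜 p)
      (Localization.AtPrime p))).length := by rwa [List.length_map]
  have h1 := h.regular_mod_prev i hi'
  rw [isSMulRegular_quotient_iff_mem_of_smul_mem] at h1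
  rw [smul_eq_mul, Ideal.mul_top] at hc ⊢
  have h2 := h1 (algebraMap (HomogeneousLocalization.AtPrime 𝒜 p) (Localization.AtPrime p) c) (by
    rw [smul_eq_mul, Ideal.mul_top, List.getElem_map, ← List.map_take, ← Ideal.map_ofList,
      smul_eq_mul, ← map_mul]
    exact Ideal.mem_map_of_mem _ hc)
  rw [smul_eq_mul, Ideal.mul_top, ← List.map_take, ← Ideal.map_ofList] at h2
  exact contraction 𝒜 p _ c h2

end Groth.Agent.Helper7.ProjCM
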