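import Mathlib

/-!
# `dim O_{Proj A, x} ≤ dim A_p` (helper7)
-/

set_option autoImplicit false
set_option linter.unusedSectionVars false
set_option linter.style.haveILetI false

namespace Groth.Agent.Helper7.ProjCM

open AlgebraicGeometry

universe u

variable {A : Type u} [CommRing A] (𝒜 : ℕ → AddSubgroup A) [GradedRing 𝒜]

theorem ringKrullDim_stalk_le (x : Proj 𝒜) :
    ringKrullDim ((Proj 𝒜).presheaf.stalk x) ≤
      ringKrullDim (Localization.AtPrime
        (show ProjectiveSpectrum 𝒜 from x).asHomogeneousIdeal.toIdeal) := by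
  let R : Type u := (Proj 𝒜).presheaf.stalk x
  let x' : ProjectiveSpectrum 𝒜 := x
  let f := (Proj 𝒜).fromSpecStalk x
  have hemb : Topology.IsEmbedding f := f.isEmbedding
  let F : PrimeSpectrum R → ProjectiveSpectrum 𝒜 := fun q => f (show ↥(Spec (.of R)) from q)
  have hF : ∀ q q' : PrimeSpectrum R, F q ⤳ F q' ↔ q ⤳ q' := fun q q' => hemb.specializes_iff
  have hFle : ∀ q q' : PrimeSpectrum R, F q ≤ F q' ↔ q ≤ q' := by
    intro q q'
    rw [PrimeSpectrum.le_iff_specializes q q', ← hF, specializes_iff_mem_closure,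
      ← ProjectiveSpectrum.le_iff_mem_closure]
  let g : PrimeSpectrum R → PrimeSpectrum A :=
    fun q => ⟨(F q).asHomogeneousIdeal.toIdeal, (F q).isPrime⟩
  have hiff : ∀ q q' : PrimeSpectrum R, g q ≤ g q' ↔ q ≤ q' := by
    intro q q'
    rw [← hFle, ← ProjectiveSpectrum.as_ideal_le_as_ideal]
    rfl
  have hmono : StrictMono g := (OrderEmbedding.ofMapLEIff g hiff).strictMono
  have hle : ∀ q : PrimeSpectrum R,
      g q ≤ ⟨x'.asHomogeneousIdeal.toIdeal, x'.isPrime⟩ := by
    intro q
    have h1 : q ⤳ IsLocalRing.closedPoint R := IsLocalRing.specializes_closedPoint q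
    have h2 : F q ⤳ F (IsLocalRing.closedPoint R) := (hF _ _).2 h1
    have h3 : F (IsLocalRing.closedPoint R) = x' := Scheme.fromSpecStalk_closedPoint
    rw [h3, specializes_iff_mem_closure, ← ProjectiveSpectrum.le_iff_mem_closure,
      ← ProjectiveSpectrum.as_ideal_le_as_ideal] at h2
    exact h2
  haveI : x'.asHomogeneousIdeal.toIdeal.IsPrime := x'.isPrime
  show ringKrullDim R ≤ ringKrullDim (Localization.AtPrime x'.asHomogeneousIdeal.toIdeal)
  rw [IsLocalization.AtPrime.ringKrullDim_eq_height x'.asHomogeneousIdeal.toIdeal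
      (Localization.AtPrime x'.asHomogeneousIdeal.toIdeal),
    PrimeSpectrum.height_eq_orderHeight
      (⟨x'.asHomogeneousIdeal.toIdeal, x'.isPrime⟩ : PrimeSpectrum A)]
  unfold ringKrullDim Order.krullDim
  apply iSup_le
  intro s
  have := Order.length_le_height (p := s.map g hmono)
    (x := (⟨x'.asHomogeneousIdeal.toIdeal, x'.isPrime⟩ : PrimeSpectrum A)) (hle _)
  rw [LTSeries.map_length] at this
  exact_mod_cast this

end Groth.Agent.Helper7.ProjCM
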