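import Mathlib
import Groth.Prelude.Def_CAlg
import Groth.Agent.Helper7.ProjCM1
import Groth.Agent.Helper7.ProjCM2
import Groth.Agent.Helper7.TightCM1
import Groth.Agent.Helper5.RegLoc1
import Groth.Agent.Helper1.LocCohDepth
import Groth.Agent.Helper2.DepthCM4
import Groth.Agent.Helper3.ProjNoeth
import Groth.Agent.Helper8.GrLG

/-!
# `Proj A` is Cohen–Macaulay for a Cohen–Macaulay graded ring `A` (helper7)
-/

set_option autoImplicit false
set_option linter.unusedSectionVars false
set_option linter.style.haveILetI false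

namespace Groth.Agent.Helper7.ProjCM

open AlgebraicGeometry DirectSum HomogeneousLocalization IsLocalRing RingTheory.Sequence

universe u

/-- a Noetherian local ring with a weakly regular sequence in the maximal ideal of length
`dim` is Cohen–Macaulay -/
theorem cm_of_weaklyRegular (B : Type u) [CommRing B] [IsNoetherianRing B] [IsLocalRing B]
    (bs : List B) (hmem : ∀ b ∈ bs, b ∈ maximalIdeal B) (hreg : IsWeaklyRegular B bs)
    (hlen : ringKrullDim B ≤ (bs.length : WithBot ℕ∞)) :
    LocCoh.IsCohenMacaulayLocalRing B := by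
  refine { supportDim_eq_depth := ?_ }
  have hIM : maximalIdeal B • (⊤ : Submodule B B) ≠ ⊤ := by
    rw [smul_eq_mul, Ideal.mul_top]
    exact Ideal.IsPrime.ne_top inferInstance
  have h1 : ((bs.length : ℕ) : ℕ∞) ≤ LocCoh.idealDepth (maximalIdeal B) B :=
    (Groth.Agent.Helper1.LocCohDepth.le_idealDepth_iff (maximalIdeal B) B hIM bs.length).2
      ⟨bs, rfl, hmem, hreg⟩
  apply le_antisymm
  · rw [Module.supportDim_self_eq_ringKrullDim]
    refine hlen.trans ?_
    have : ((bs.length : ℕ∞) : WithBot ℕ∞) ≤ ((LocCoh.depth B B : ℕ∞) : WithBot ℕ∞) :=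
      WithBot.coe_le_coe.2 h1
    exact_mod_cast this
  · exact Groth.Agent.Helper2.DepthCM4.depth_le_supportDim B

theorem main (A : Type u) [CommRing A]
    (𝒜 : ℕ → AddSubgroup A) [GradedRing 𝒜] [hCM : LocCoh.IsCohenMacaulayRing A] (x : Proj 𝒜) :
    LocCoh.IsCohenMacaulayLocalRing ((Proj 𝒜).presheaf.stalk x) := by
  classical
  haveI : IsNoetherianRing A := hCM.toIsNoetherian
  haveI : Algebra.FiniteType (𝒜 0) A :=
    Groth.Agent.Helper3.ProjNoeth.finiteType_of_isNoetherianRing 𝒜
  haveI : IsNoetherianRing (𝒜 0) := inferInstance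
  haveI : IsLocallyNoetherian (Proj 𝒜) :=
    LocallyOfFiniteType.isLocallyNoetherian (Proj.toSpecZero 𝒜)
  haveI : IsNoetherianRing ((Proj 𝒜).presheaf.stalk x) := inferInstance
  let e := (Proj.stalkIso 𝒜 x).commRingCatIsoToRingEquiv
  -- a homogeneous element of positive degree outside `x`
  obtain ⟨d, hd, f, hf, hfp⟩ : ∃ d, 0 < d ∧ ∃ f ∈ 𝒜 d, f ∉ x.asHomogeneousIdeal.toIdeal := by
    by_contra hcon
    push Not at hcon
    apply x.not_irrelevant_le
    intro a ha
    rw [← DirectSum.sum_support_decompose 𝒜 a]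
    refine sum_mem fun i _ => ?_
    rcases Nat.eq_zero_or_pos i with rfl | hi
    · have : (decompose 𝒜 a 0 : A) = 0 := by
        have := (HomogeneousIdeal.mem_irrelevant_iff 𝒜 a).1 ha
        rwa [GradedRing.proj_apply] at this
      rw [this]
      exact zero_mem _
    · exact hcon i hi _ (decompose 𝒜 a i).2
  set p : Ideal A := x.asHomogeneousIdeal.toIdeal with hp
  haveI hpp : p.IsPrime := x.isPrime
  have hph : p.IsHomogeneous 𝒜 := x.asHomogeneousIdeal.isHomogeneous
  haveI : IsNoetherianRing (HomogeneousLocalization.AtPrime 𝒜 p) :=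
    isNoetherianRing_of_ringEquiv _ e
  haveI hCMp : LocCoh.IsCohenMacaulayLocalRing (Localization.AtPrime p) :=
    hCM.isCohenMacaulayLocalRing_localization p
  set B := HomogeneousLocalization.AtPrime 𝒜 p with hB
  set Ap := Localization.AtPrime p with hAp
  set φ := algebraMap B Ap with hφ
  -- a system of parameters of `B`
  obtain ⟨s, hsmin, hscard⟩ :=
    Ideal.exists_finset_card_eq_height_of_isNoetherianRing (maximalIdeal B)
  have hrad : (Ideal.span (s : Set B)).radical = maximalIdeal B := by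
    rw [Ideal.radical_eq_sInf]
    apply le_antisymm
    · exact sInf_le ⟨hsmin.1.2, inferInstance⟩
    · refine le_sInf ?_
      rintro P ⟨hP1, hP2⟩
      have := hsmin.2 ⟨hP2, hP1⟩ (le_maximalIdeal hP2.ne_top)
      exact this
  set bs : List B := s.toList with hbs
  have hof : Ideal.ofList bs = Ideal.span (s : Set B) := by
    rw [Ideal.ofList, hbs]
    congr 1
    ext z
    simp
  have hlenB : (bs.length : WithBot ℕ∞) = ringKrullDim B := by
    rw [hbs, Finset.length_toList, ← IsLocalRing.maximalIdeal_height_eq_ringKrullDim]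
    rw [← hscard]
    norm_cast
  have hmemB : ∀ b ∈ bs, b ∈ maximalIdeal B := by
    intro b hb
    have : b ∈ Ideal.ofList bs := Ideal.subset_span hb
    rw [hof] at this
    rw [← hrad]
    exact Ideal.le_radical this
  -- the image in `A_p`
  have hmemA : ∀ z ∈ bs.map φ, z ∈ maximalIdeal Ap := by
    intro z hz
    obtain ⟨b, hb, rfl⟩ := List.mem_map.1 hz
    have := hmemB b hb
    rw [mem_maximalIdeal, mem_nonunits_iff] at this ⊢
    intro hu
    exact this ((HomogeneousLocalization.isUnit_iff_isUnit_val 𝒜 _ b).1 hu)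
  have hofA : Ideal.ofList (bs.map φ) ≤ maximalIdeal Ap := by
    rw [Ideal.ofList, Ideal.span_le]
    exact fun z hz => hmemA z hz
  have hradA : (Ideal.ofList (bs.map φ)).radical = maximalIdeal Ap := by
    apply le_antisymm
    · exact (Ideal.radical_mono hofA).trans (Ideal.IsPrime.radical inferInstance).le
    · rw [Ideal.radical_eq_sInf]
      refine le_sInf ?_
      rintro P ⟨hP1, hP2⟩
      haveI := hP2
      have hle : (maximalIdeal B).map φ ≤ P := by
        rw [Ideal.map_le_iff_le_comap, ← hrad,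
          Ideal.IsPrime.radical_le_iff (Ideal.comap_isPrime φ P), ← hof,
          ← Ideal.map_le_iff_le_comap, Ideal.map_ofList]
        exact hP1
      exact (eq_maximalIdeal_of_map_le 𝒜 p hph d hd f hf hfp P hle).ge
  have h0 : ringKrullDim (Ap ⧸ Ideal.ofList (bs.map φ)) ≤ 0 :=
    Groth.Agent.Helper7.TightCM.ringKrullDim_quotient_le_zero Ap _ hradA
  have hdim : ringKrullDim B ≤ ringKrullDim Ap := by
    have h1 := ringKrullDim_stalk_le 𝒜 x
    rw [ringKrullDim_eq_of_ringEquiv e] at h1
    exact h1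
  have hreg : IsRegular Ap (bs.map φ) := by
    rw [Groth.Agent.Helper5.RegLoc.isRegular_iff_dim Ap hCMp _ hmemA]
    calc ringKrullDim (Ap ⧸ Ideal.ofList (bs.map φ)) + ((bs.map φ).length : WithBot ℕ∞)
        ≤ 0 + ((bs.map φ).length : WithBot ℕ∞) := by gcongr
      _ = (bs.length : WithBot ℕ∞) := by rw [zero_add, List.length_map]
      _ = ringKrullDim B := hlenB
      _ ≤ ringKrullDim Ap := hdim
  have hregB : IsWeaklyRegular B bs := isWeaklyRegular_of_map 𝒜 p bs hreg.toIsWeaklyRegular
  have hCMB : LocCoh.IsCohenMacaulayLocalRing B := cm_of_weaklyRegular B bs hmemB hregB hlenB.ge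
  exact Groth.Agent.Helper8.GrLG.cmLocal_of_ringEquiv e.symm hCMB

end Groth.Agent.Helper7.ProjCM
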