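import Mathlib
import Groth.Prelude.Def_CAlg
import Groth.Agent.Helper7.ProjGor2
import Groth.Agent.Helper7.SegGorD
import Groth.Agent.Helper3.ProjNoeth
import Groth.Agent.Helper3.GorFlatE

/-!
# `Proj A` is Gorenstein for a Gorenstein graded ring `A` satisfying condition `(#)` (helper7)
-/

set_option autoImplicit false
set_option linter.unusedSectionVars false
set_option linter.style.haveILetI false

namespace Groth.Agent.Helper7.ProjGor

open AlgebraicGeometry DirectSum HomogeneousLocalization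

universe u

open Pointwise in
theorem main (A : Type u) [CommRing A] (𝒜 : ℕ → AddSubgroup A) [GradedRing 𝒜]
    [hG : LocCoh.IsGorensteinRing A]
    (hsharp : ∃ d₀ : ℕ, ∀ d : ℕ, d₀ ≤ d → ∀ n : ℕ, 1 ≤ n →
      𝒜 ((n + 1) * d) = AddSubgroup.closure ((𝒜 d : Set A) * (𝒜 (n * d) : Set A)))
    (x : Proj 𝒜) : LocCoh.IsGorensteinLocalRing ((Proj 𝒜).presheaf.stalk x) := by
  haveI : IsNoetherianRing A := hG.toIsNoetherian
  haveI : Algebra.FiniteType (𝒜 0) A :=
    Groth.Agent.Helper3.ProjNoeth.finiteType_of_isNoetherianRing 𝒜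
  haveI : IsNoetherianRing (𝒜 0) := inferInstance
  haveI : IsLocallyNoetherian (Proj 𝒜) :=
    LocallyOfFiniteType.isLocallyNoetherian (Proj.toSpecZero 𝒜)
  haveI : IsNoetherianRing ((Proj 𝒜).presheaf.stalk x) := inferInstance
  let e := (Proj.stalkIso 𝒜 x).commRingCatIsoToRingEquiv
  -- a homogeneous element of positive degree outside `x`
  obtain ⟨d', hd', f, hf, hfp⟩ : ∃ d, 0 < d ∧ ∃ f ∈ 𝒜 d, f ∉ x.asHomogeneousIdeal.toIdeal := by
    by_contra hcon
    push Not at hcon
    apply x.not_irrelevant_le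
    intro a ha
    classical
    rw [← DirectSum.sum_support_decompose 𝒜 a]
    refine sum_mem fun i _ => ?_
    rcases Nat.eq_zero_or_pos i with rfl | hi
    · have : (decompose 𝒜 a 0 : A) = 0 := by
        have := (HomogeneousIdeal.mem_irrelevant_iff 𝒜 a).1 ha
        rwa [GradedRing.proj_apply] at this
      rw [this]
      exact zero_mem _
    · exact hcon i hi _ (decompose 𝒜 a i).2
  set p : Ideal A := x.asHomogeneousIdeal.toIdeal with hp
  haveI hpp : p.IsPrime := x.isPrime
  obtain ⟨d, g₀, hg₀, g₁, hg₁, hg₀p, hg₁p⟩ := exists_consecutive 𝒜 p hsharp d' hd' f hf hfp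
  haveI : IsNoetherianRing (HomogeneousLocalization.AtPrime 𝒜 p) :=
    isNoetherianRing_of_ringEquiv _ e
  haveI hGC : LocCoh.IsGorensteinLocalRing (Localization.AtPrime p) :=
    hG.isGorensteinLocalRing_localization p
  haveI : IsNoetherianRing (Localization.AtPrime p) := hGC.toIsNoetherian
  haveI : Module.Flat (HomogeneousLocalization.AtPrime 𝒜 p) (Localization.AtPrime p) :=
    flat_atPrime 𝒜 p d g₀ g₁ hg₀ hg₁ hg₀p hg₁p
  haveI : IsLocalHom (algebraMap (HomogeneousLocalization.AtPrime 𝒜 p)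
      (Localization.AtPrime p)) :=
    ⟨fun b hb => (HomogeneousLocalization.isUnit_iff_isUnit_val 𝒜 p b).1 hb⟩
  have hGB : LocCoh.IsGorensteinLocalRing (HomogeneousLocalization.AtPrime 𝒜 p) :=
    Groth.Agent.Helper3.GorFlatE.gorLocal_descend _ (Localization.AtPrime p) hGC
  exact Groth.Agent.Helper7.SegGor.gorLocal_of_ringEquiv e.symm hGB

end Groth.Agent.Helper7.ProjGor
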