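import Mathlib
import Groth.Agent.Helper7.ProjS1a

/-!
# Normality of homogeneous localizations at primes (helper7)
-/

set_option autoImplicit false
set_option linter.unusedSectionVars false
set_option linter.style.haveILetI false

namespace Groth.Agent.Helper7.ProjNormal

open DirectSum HomogeneousLocalization Groth.Agent.Helper7.ProjS1

universe u

variable {A : Type u} [CommRing A] (𝒜 : ℕ → AddSubgroup A) [GradedRing 𝒜]
  (p : Ideal A) [hp : p.IsPrime]

/-- if `α ∈ A_p` satisfies `α * b₂ = b₁` with `b₁, b₂ ∈ A_(p)`, then some `b ∈ A_(p)` does too -/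
theorem exists_mul_eq (α : Localization.AtPrime p)
    (b1 b2 : HomogeneousLocalization.AtPrime 𝒜 p) (h : α * b2.val = b1.val) :
    ∃ b : HomogeneousLocalization.AtPrime 𝒜 p, b * b2 = b1 := by
  obtain ⟨m1, y1, hy1, t1, ht1, htp1, rfl⟩ := exists_frac 𝒜 p b1
  obtain ⟨m2, y2, hy2, t2, ht2, htp2, rfl⟩ := exists_frac 𝒜 p b2
  obtain ⟨a, ⟨s, hs⟩, rfl⟩ := IsLocalization.exists_mk'_eq p.primeCompl α
  rw [val_frac, val_frac, ← Localization.mk_eq_mk', Localization.mk_mul,
    Localization.mk_eq_mk_iff, Localization.r_iff_exists] at h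
  obtain ⟨⟨u, hu⟩, hu'⟩ := h
  simp only [Submonoid.coe_mul] at hu'
  -- hu' : u * (t1 * (a * y2)) = u * (s * t2 * y1)
  have h1 : (u * a) * (y2 * t1) = (u * s) * (t2 * y1) := by linear_combination hu'
  have hus : u * s ∉ p := fun hh => (hp.mem_or_mem hh).elim hu hs
  obtain ⟨i, hi⟩ := exists_component_notMem 𝒜 p (u * s) hus
  have hd1 : y2 * t1 ∈ 𝒜 (m2 + m1) := SetLike.mul_mem_graded hy2 ht1
  have hd2 : t2 * y1 ∈ 𝒜 (m2 + m1) := SetLike.mul_mem_graded ht2 hy1
  have h2 : (decompose 𝒜 (u * a) i : A) * (y2 * t1) = (decompose 𝒜 (u * s) i : A) * (t2 * y1) := by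
    rw [← DirectSum.coe_decompose_mul_add_of_right_mem 𝒜 hd1 (i := i),
      ← DirectSum.coe_decompose_mul_add_of_right_mem 𝒜 hd2 (i := i), h1]
  refine ⟨frac 𝒜 p i _ (decompose 𝒜 (u * a) i).2 _ (decompose 𝒜 (u * s) i).2 hi, ?_⟩
  apply HomogeneousLocalization.val_injective
  rw [HomogeneousLocalization.val_mul, val_frac, val_frac, val_frac, Localization.mk_mul,
    Localization.mk_eq_mk_iff, Localization.r_iff_exists]
  refine ⟨1, ?_⟩
  simp only [Submonoid.coe_mul, OneMemClass.coe_one, one_mul]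
  linear_combination h2

theorem isDomain_atPrime [IsDomain (Localization.AtPrime p)] :
    IsDomain (HomogeneousLocalization.AtPrime 𝒜 p) :=
  Function.Injective.isDomain
    (algebraMap (HomogeneousLocalization.AtPrime 𝒜 p) (Localization.AtPrime p))
    (HomogeneousLocalization.val_injective _)

theorem isIntegrallyClosed_atPrime [IsDomain (Localization.AtPrime p)]
    [IsIntegrallyClosed (Localization.AtPrime p)] :
    IsIntegrallyClosed (HomogeneousLocalization.AtPrime 𝒜 p) := by
  haveI := isDomain_atPrime 𝒜 p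
  set B := HomogeneousLocalization.AtPrime 𝒜 p with hB
  set Ap := Localization.AtPrime p with hAp
  rw [isIntegrallyClosed_iff (FractionRing B)]
  intro z hz
  have hinj : Function.Injective ((algebraMap Ap (FractionRing Ap)).comp (algebraMap B Ap)) :=
    (IsFractionRing.injective Ap (FractionRing Ap)).comp
      (HomogeneousLocalization.val_injective _)
  let φ : FractionRing B →+* FractionRing Ap := IsFractionRing.lift hinj
  have hφ : ∀ b : B, φ (algebraMap B (FractionRing B) b) =
      algebraMap Ap (FractionRing Ap) (algebraMap B Ap b) := fun b => IsFractionRing.lift_algebraMap hinj b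
  -- `φ z` is integral over `A_p`
  have hint : IsIntegral Ap (φ z) := by
    obtain ⟨P, hP, hPz⟩ := hz
    refine ⟨P.map (algebraMap B Ap), hP.map _, ?_⟩
    rw [Polynomial.eval₂_map]
    have : (algebraMap Ap (FractionRing Ap)).comp (algebraMap B Ap) =
        φ.comp (algebraMap B (FractionRing B)) := by
      ext b
      exact (hφ b).symm
    rw [this, ← Polynomial.hom_eval₂, hPz, map_zero]
  obtain ⟨α, hα⟩ := (isIntegrallyClosed_iff (FractionRing Ap)).1 inferInstance hint
  obtain ⟨b1, ⟨b2, hb2⟩, rfl⟩ := IsLocalization.exists_mk'_eq (nonZeroDivisors B) z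
  have h1 : α * (algebraMap B Ap b2) = algebraMap B Ap b1 := by
    apply IsFractionRing.injective Ap (FractionRing Ap)
    rw [map_mul, hα, ← hφ, ← hφ, ← map_mul]
    congr 1
    exact IsLocalization.mk'_spec _ _ _
  obtain ⟨b, hb⟩ := exists_mul_eq 𝒜 p α b1 b2 h1
  refine ⟨b, ?_⟩
  rw [IsLocalization.eq_mk'_iff_mul_eq, ← map_mul, hb]

open AlgebraicGeometry in
theorem main (A : Type u) [CommRing A]
    (𝒜 : ℕ → AddSubgroup A) [GradedRing 𝒜]
    (hA : ∀ (p : Ideal A) [p.IsPrime], IsDomain (Localization.AtPrime p) ∧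
      IsIntegrallyClosed (Localization.AtPrime p))
    (x : Proj 𝒜) :
    IsDomain ((Proj 𝒜).presheaf.stalk x) ∧ IsIntegrallyClosed ((Proj 𝒜).presheaf.stalk x) := by
  let e := (Proj.stalkIso 𝒜 x).commRingCatIsoToRingEquiv
  haveI := (hA x.asHomogeneousIdeal.toIdeal).1
  haveI := (hA x.asHomogeneousIdeal.toIdeal).2
  haveI h1 := isDomain_atPrime 𝒜 x.asHomogeneousIdeal.toIdeal
  haveI h2 := isIntegrallyClosed_atPrime 𝒜 x.asHomogeneousIdeal.toIdeal
  haveI : IsDomain ((Proj 𝒜).presheaf.stalk x) := e.toMulEquiv.isDomain _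
  exact ⟨inferInstance, IsIntegrallyClosed.of_equiv e.symm⟩

end Groth.Agent.Helper7.ProjNormal
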