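import Mathlib
import Groth.Prelude.Def_CAlg
import Groth.Agent.Helper7.ProjS1a
import Groth.Agent.Helper3.ProjNoeth
import Groth.Agent.Helper5.SkOne1

/-!
# `(S₁)` for the local rings of `Proj A` (helper7)
-/

set_option autoImplicit false
set_option linter.unusedSectionVars false
set_option linter.style.haveILetI false

namespace Groth.Agent.Helper7.ProjS1

open AlgebraicGeometry DirectSum HomogeneousLocalization

universe u

/-- `(S₁)` for a Noetherian ring: all associated primes are minimal -/
theorem hasS1_iff_ass_minimal (R : Type u) [CommRing R] [IsNoetherianRing R] :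
    LocCoh.HasSk 1 R R ↔ ∀ P ∈ associatedPrimes R R, P ∈ minimalPrimes R := by
  rw [Groth.Agent.Helper5.SkOne.hasSk_one_iff]
  have hsupp : ∀ q : PrimeSpectrum R, q ∈ Module.support R R := by
    intro q
    rw [Module.mem_support_iff_of_finite]
    have : Module.annihilator R R = ⊥ := by
      rw [eq_bot_iff]
      intro r hr
      have := Module.mem_annihilator.1 hr 1
      simpa using this
    rw [this]
    exact bot_le
  constructor
  · intro h P hP
    haveI := hP.isPrime
    refine ⟨⟨hP.isPrime, bot_le⟩, ?_⟩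
    rintro q ⟨hq, -⟩ hle
    exact h ⟨P, hP.isPrime⟩ hP ⟨q, hq⟩ (hsupp _) hle
  · intro h q hq q' _ hle
    exact (h q.asIdeal hq).2 ⟨q'.isPrime, bot_le⟩ hle

/-- transport of "associated primes are minimal" along a ring isomorphism -/
theorem ass_minimal_of_ringEquiv {R R' : Type u} [CommRing R] [CommRing R'] (e : R' ≃+* R)
    (h : ∀ P ∈ associatedPrimes R R, P ∈ minimalPrimes R) :
    ∀ P ∈ associatedPrimes R' R', P ∈ minimalPrimes R' := by
  intro q hq
  obtain ⟨hqp, z, hz⟩ := hq
  have hQ : Ideal.comap e.symm.toRingHom q ∈ associatedPrimes R R := by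
    refine ⟨Ideal.comap_isPrime _ _, e z, ?_⟩
    ext r
    rw [Ideal.mem_comap, hz, Ideal.mem_radical_iff, Ideal.mem_radical_iff]
    refine exists_congr fun N => ?_
    rw [Submodule.mem_colon_singleton, Submodule.mem_colon_singleton, Submodule.mem_bot,
      Submodule.mem_bot, smul_eq_mul, smul_eq_mul]
    constructor
    · intro h1
      have := congrArg e h1
      simpa using this
    · intro h1
      apply e.injective
      simpa using h1
  have hmin := h _ hQ
  refine ⟨⟨hqp, bot_le⟩, ?_⟩
  rintro q' ⟨hq'p, -⟩ hle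
  have h1 : Ideal.comap e.symm.toRingHom q ≤ Ideal.comap e.symm.toRingHom q' :=
    hmin.2 ⟨Ideal.comap_isPrime _ _, bot_le⟩ (Ideal.comap_mono hle)
  intro r hr
  have := h1 (show e r ∈ Ideal.comap e.symm.toRingHom q by
    rw [Ideal.mem_comap]; simpa using hr)
  rw [Ideal.mem_comap] at this
  simpa using this

theorem main (A : Type u) [CommRing A] [IsNoetherianRing A]
    (𝒜 : ℕ → AddSubgroup A) [GradedRing 𝒜] (hA : LocCoh.HasSk 1 A A) (x : Proj 𝒜) :
    LocCoh.HasSk 1 ((Proj 𝒜).presheaf.stalk x) ((Proj 𝒜).presheaf.stalk x) := by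
  haveI : Algebra.FiniteType (𝒜 0) A :=
    Groth.Agent.Helper3.ProjNoeth.finiteType_of_isNoetherianRing 𝒜
  haveI : IsNoetherianRing (𝒜 0) := inferInstance
  haveI : IsLocallyNoetherian (Proj 𝒜) :=
    LocallyOfFiniteType.isLocallyNoetherian (Proj.toSpecZero 𝒜)
  haveI : IsNoetherianRing ((Proj 𝒜).presheaf.stalk x) := inferInstance
  rw [hasS1_iff_ass_minimal]
  rw [hasS1_iff_ass_minimal] at hA
  let e := (Proj.stalkIso 𝒜 x).commRingCatIsoToRingEquiv
  apply ass_minimal_of_ringEquiv e
  -- a homogeneous element of positive degree outside `x`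
  obtain ⟨d, hd, f, hf, hfp⟩ : ∃ d, 0 < d ∧ ∃ f ∈ 𝒜 d, f ∉ x.asHomogeneousIdeal.toIdeal := by
    by_contra hcon
    push Not at hcon
    apply x.not_irrelevant_le
    intro a ha
    classical
    rw [← DirectSum.sum_support_decompose 𝒜 a]
    refine sum_mem fun i _ => ?_
    rcases Nat.eq_zero_or_pos i with rfl | hi
    · have : (decompose 𝒜 a 0 : A) = 0 := by
        have := (HomogeneousIdeal.mem_irrelevant_iff 𝒜 a).1 ha
        rwa [GradedRing.proj_apply] at this
      rw [this]
      exact zero_mem _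
    · exact hcon i hi _ (decompose 𝒜 a i).2
  exact ass_minimal 𝒜 x.asHomogeneousIdeal.toIdeal hA d hd f hf hfp

end Groth.Agent.Helper7.ProjS1
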