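import Mathlib

/-! Semilocal Prüfer domains of finite Krull dimension have finite spectrum. -/

universe u

namespace Groth.Agent.Helper7.PruferFin

variable (R : Type u) [CommRing R] [IsDomain R]

/-- primes below a common prime `m` with `R_m` a valuation ring are comparable -/
lemma prime_total (m : Ideal R) [m.IsPrime] (hV : ValuationRing (Localization.AtPrime m))
    (p q : Ideal R) [p.IsPrime] [q.IsPrime] (hp : p ≤ m) (hq : q ≤ m) : p ≤ q ∨ q ≤ p := by
  have htot := (ValuationRing.iff_ideal_total (R := Localization.AtPrime m)).1 hV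
  have hpd : Disjoint (m.primeCompl : Set R) (p : Set R) := by
    rw [Set.disjoint_left]; intro x hx hxp; exact hx (hp hxp)
  have hqd : Disjoint (m.primeCompl : Set R) (q : Set R) := by
    rw [Set.disjoint_left]; intro x hx hxq; exact hx (hq hxq)
  have e1 := IsLocalization.under_map_of_isPrime_disjoint m.primeCompl (Localization.AtPrime m) ‹_› hpd
  have e2 := IsLocalization.under_map_of_isPrime_disjoint m.primeCompl (Localization.AtPrime m) ‹_› hqd
  rcases htot.total (Ideal.map (algebraMap R (Localization.AtPrime m)) p)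
    (Ideal.map (algebraMap R (Localization.AtPrime m)) q) with h | h
  · left; rw [← e1, ← e2]; exact Ideal.comap_mono h
  · right; rw [← e1, ← e2]; exact Ideal.comap_mono h

theorem exists_injective
    (hR : ∀ (p : Ideal R) [p.IsPrime], ValuationRing (Localization.AtPrime p))
    (hdim : ringKrullDim R < ⊤) :
    ∃ d : ℕ, ∃ f : PrimeSpectrum R → MaximalSpectrum R × Fin (d + 1), Function.Injective f := by
  classical
  -- dimension as a natural number
  have hne : Nonempty (PrimeSpectrum R) := ⟨⟨⊥, Ideal.isPrime_bot⟩⟩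
  obtain ⟨d, hd⟩ : ∃ d : ℕ, ringKrullDim R ≤ d := by
    have h0 : (0 : WithBot ℕ∞) ≤ ringKrullDim R := ringKrullDim_nonneg_of_nontrivial
    have hb : ringKrullDim R ≠ ⊥ := ne_bot_of_le_ne_bot (by simp) h0
    obtain ⟨e, he⟩ := WithBot.ne_bot_iff_exists.1 hb
    have het : e ≠ ⊤ := by
      rintro rfl
      rw [← he] at hdim
      exact lt_irrefl _ hdim
    obtain ⟨n, hn⟩ := ENat.ne_top_iff_exists.1 het
    exact ⟨n, by rw [← he, ← hn]; rfl⟩
  have hht : ∀ p : PrimeSpectrum R, Order.height p ≤ (d : ℕ∞) := by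
    intro p
    have h1 : (Order.height p : WithBot ℕ∞) ≤ Order.krullDim (PrimeSpectrum R) :=
      Order.height_le_krullDim p
    have h2 : (Order.height p : WithBot ℕ∞) ≤ ((d : ℕ∞) : WithBot ℕ∞) := h1.trans hd
    exact_mod_cast h2
  -- choose a maximal ideal above each prime
  have hmax : ∀ p : PrimeSpectrum R, ∃ m : MaximalSpectrum R, p.asIdeal ≤ m.asIdeal := by
    intro p
    obtain ⟨m, hm, hpm⟩ := Ideal.exists_le_maximal p.asIdeal p.2.ne_top
    exact ⟨⟨m, hm⟩, hpm⟩
  choose M hM using hmax
  let f : PrimeSpectrum R → MaximalSpectrum R × Fin (d + 1) := fun p =>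
    (M p, ⟨(Order.height p).toNat, by
      have h3 : (Order.height p).toNat ≤ d := ENat.toNat_le_of_le_natCast (hht p)
      omega⟩)
  have hf : Function.Injective f := by
    intro p q hpq
    have h1 : M p = M q := congrArg Prod.fst hpq
    have h2 : (Order.height p).toNat = (Order.height q).toNat := congrArg (fun x => x.2.1) hpq
    have hpt : Order.height p ≠ ⊤ := ne_top_of_le_ne_top (ENat.natCast_ne_top d) (hht p)
    have hqt : Order.height q ≠ ⊤ := ne_top_of_le_ne_top (ENat.natCast_ne_top d) (hht q)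
    have h3 : Order.height p = Order.height q := by
      rw [← ENat.natCast_toNat hpt, ← ENat.natCast_toNat hqt, h2]
    haveI := (M p).isMaximal.isPrime
    haveI := p.2
    haveI := q.2
    have hcomp := prime_total R (M p).asIdeal (hR _) p.asIdeal q.asIdeal (hM p) (h1 ▸ hM q)
    by_contra hne'
    rcases hcomp with h | h
    · have hlt : p < q := lt_of_le_of_ne h hne'
      have := Order.height_strictMono hlt (lt_top_iff_ne_top.2 hpt)
      rw [h3] at this
      exact lt_irrefl _ this
    · have hlt : q < p := lt_of_le_of_ne h (Ne.symm hne')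
      have := Order.height_strictMono hlt (lt_top_iff_ne_top.2 hqt)
      rw [h3] at this
      exact lt_irrefl _ this
  exact ⟨d, f, hf⟩

theorem finite_primeSpectrum
    (hR : ∀ (p : Ideal R) [p.IsPrime], ValuationRing (Localization.AtPrime p))
    (hfin : Finite (MaximalSpectrum R)) (hdim : ringKrullDim R < ⊤) :
    Finite (PrimeSpectrum R) := by
  obtain ⟨d, f, hf⟩ := exists_injective R hR hdim
  exact Finite.of_injective f hf

theorem main
    (hR : ∀ (p : Ideal R) [p.IsPrime], ValuationRing (Localization.AtPrime p))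
    (hfin : Finite (MaximalSpectrum R)) (hdim : ringKrullDim R < ⊤)
    (m : Ideal R) [hm : m.IsMaximal] :
    (∃ a : R, ∀ (p : Ideal R), p.IsPrime → (a ∈ p ↔ p = m)) ∧
      ∃ b : R, b ∉ m ∧ IsLocalization.AtPrime (Localization.Away b) m := by
  classical
  haveI := finite_primeSpectrum R hR hfin hdim
  haveI : Fintype (PrimeSpectrum R) := Fintype.ofFinite _
  constructor
  · -- prime avoidance
    let s : Finset (PrimeSpectrum R) := Finset.univ.filter fun p => p.asIdeal ≠ m
    have hnot : ¬ ((m : Set R) ⊆ ⋃ i ∈ (↑s : Set (PrimeSpectrum R)), (i.asIdeal : Set R)) := by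
      rw [Ideal.subset_union_prime (R := R) (s := s) (f := fun p => p.asIdeal)
        (⟨m, hm.isPrime⟩ : PrimeSpectrum R) ⟨m, hm.isPrime⟩ (fun i _ _ _ => i.2)]
      rintro ⟨p, hp, hmp⟩
      have hpm : p.asIdeal ≠ m := (Finset.mem_filter.1 hp).2
      exact hpm (hm.eq_of_le p.2.ne_top hmp).symm
    obtain ⟨a, ham, ha⟩ := Set.not_subset.1 hnot
    refine ⟨a, fun p hp => ⟨fun hap => ?_, fun h => h ▸ ham⟩⟩
    by_contra hpm
    apply ha
    simp only [Set.mem_iUnion]
    refine ⟨⟨p, hp⟩, ?_, hap⟩
    exact Finset.mem_coe.2 (Finset.mem_filter.2 ⟨Finset.mem_univ _, hpm⟩)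
  · let s' : Finset (PrimeSpectrum R) := Finset.univ.filter fun p => ¬ p.asIdeal ≤ m
    have hnle : ¬ (s'.inf (fun p => p.asIdeal) ≤ m) := by
      rw [hm.isPrime.inf_le']
      rintro ⟨p, hp, hpm⟩
      exact (Finset.mem_filter.1 hp).2 hpm
    obtain ⟨b, hb, hbm⟩ := Set.not_subset.1 hnle
    refine ⟨b, hbm, ?_⟩
    have hbs' : ∀ p : PrimeSpectrum R, ¬ p.asIdeal ≤ m → b ∈ p.asIdeal := by
      intro p hp
      have h1 : s'.inf (fun p => p.asIdeal) ≤ p.asIdeal :=
        Finset.inf_le (Finset.mem_filter.2 ⟨Finset.mem_univ _, hp⟩)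
      exact h1 hb
    have hle : Submonoid.powers b ≤ m.primeCompl := by
      rintro _ ⟨n, rfl⟩
      exact fun h => hbm (hm.isPrime.mem_of_pow_mem n h)
    show IsLocalization m.primeCompl (Localization.Away b)
    refine IsLocalization.of_le (Submonoid.powers b) m.primeCompl hle ?_
    intro r hr
    by_contra hnu
    obtain ⟨Q, hQ, hrQ⟩ := exists_max_ideal_of_mem_nonunits (mem_nonunits_iff.2 hnu)
    haveI := hQ.isPrime
    let p : PrimeSpectrum R := ⟨Q.comap (algebraMap R (Localization.Away b)), Ideal.comap_isPrime _ _⟩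
    have hrp : r ∈ p.asIdeal := hrQ
    have hbp : b ∉ p.asIdeal := by
      intro hbQ
      have hunit : IsUnit (algebraMap R (Localization.Away b) b) :=
        IsLocalization.Away.algebraMap_isUnit b
      exact hQ.ne_top (Ideal.eq_top_of_isUnit_mem _ hbQ hunit)
    have hpm : p.asIdeal ≤ m := by
      by_contra h
      exact hbp (hbs' p h)
    exact hr (hpm hrp)

end Groth.Agent.Helper7.PruferFin
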