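import Mathlib
import Groth.Agent.Helper7.PruferFin

universe u

open TopologicalSpace

namespace Groth.Agent.Helper7.PruferNoeth

theorem noeth (R : Type u) [CommRing R] [Finite (PrimeSpectrum R)] (S : Type u) [CommRing S]
    [Algebra R S] [Algebra.FiniteType R S] : NoetherianSpace (PrimeSpectrum S) := by
  rw [← noetherian_univ_iff]
  have hU : (Set.univ : Set (PrimeSpectrum S)) =
      ⋃ p : PrimeSpectrum R, (PrimeSpectrum.comap (algebraMap R S)) ⁻¹' {p} := by
    ext x; simp
  rw [hU]
  haveI : ∀ p : PrimeSpectrum R,
      NoetherianSpace ((PrimeSpectrum.comap (algebraMap R S)) ⁻¹' {p}) := by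
    intro p
    haveI : Algebra.FiniteType p.asIdeal.ResidueField (p.asIdeal.Fiber S) := inferInstance
    haveI : IsNoetherianRing (p.asIdeal.Fiber S) :=
      Algebra.FiniteType.isNoetherianRing p.asIdeal.ResidueField _
    exact (PrimeSpectrum.preimageHomeomorphFiber R S p).isInducing.noetherianSpace
  exact NoetherianSpace.iUnion _

theorem main (R : Type u) [CommRing R] [IsDomain R]
    (hR : ∀ (p : Ideal R) [p.IsPrime], ValuationRing (Localization.AtPrime p))
    (hfin : Finite (MaximalSpectrum R)) (hdim : ringKrullDim R < ⊤)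
    (S : Type u) [CommRing S] [Algebra R S] [Algebra.FiniteType R S]
    (M : Submonoid S) (T : Type u) [CommRing T] [Algebra S T] [IsLocalization M T] :
    TopologicalSpace.NoetherianSpace (PrimeSpectrum S) ∧
      TopologicalSpace.NoetherianSpace (PrimeSpectrum T) := by
  haveI := PruferFin.finite_primeSpectrum R hR hfin hdim
  haveI h1 := noeth R S
  exact ⟨h1, (PrimeSpectrum.localization_comap_isEmbedding T M).isInducing.noetherianSpace⟩

end Groth.Agent.Helper7.PruferNoeth
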