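import Mathlib

/-! Helper lemmas for maps pointed of degree two between abelian groups. -/

universe u v

namespace Groth.Agent.Helper7

theorem ptdeg_zero {A : Type u} {G : Type v} [AddCommGroup A] [AddCommGroup G]
    (f : A → G) (hf : ∀ x y z : A, f (x + y + z) + f x + f y + f z = f (x + y) + f (x + z) + f (y + z)) :
    f 0 = 0 := by
  have := hf 0 0 0
  simp only [add_zero] at this
  linear_combination (norm := abel_nf) this

theorem ptdeg_rec {A : Type u} {G : Type v} [AddCommGroup A] [AddCommGroup G]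
    (f : A → G) (hf : ∀ x y z : A, f (x + y + z) + f x + f y + f z = f (x + y) + f (x + z) + f (y + z))
    (y x : A) :
    f (y + x) + f (y - x) = (2:ℤ) • f y + f x + f (-x) := by
  have h0 := ptdeg_zero f hf
  have := hf y x (-x)
  simp only [add_neg_cancel, h0, ← sub_eq_add_neg, add_zero] at this
  linear_combination (norm := abel_nf) -this

theorem ptdeg_main {A : Type u} {G : Type v} [AddCommGroup A] [AddCommGroup G]
    (f : A → G) (hf : ∀ x y z : A, f (x + y + z) + f x + f y + f z = f (x + y) + f (x + z) + f (y + z))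
    (x : A) (n : ℤ) :
    (∀ a b : ℤ, 2 * a = n * (n + 1) → 2 * b = n * (n - 1) → f (n • x) = a • f x + b • f (-x)) ∧
    (∀ a b : ℤ, 2 * a = (n + 1) * (n + 2) → 2 * b = (n + 1) * n → f ((n + 1) • x) = a • f x + b • f (-x)) := by
  have h0 := ptdeg_zero f hf
  induction n using Int.induction_on with
  | zero =>
    refine ⟨fun a b ha hb => ?_, fun a b ha hb => ?_⟩
    · have : a = 0 := by omega
      have : b = 0 := by omega
      subst_vars; simp [h0]
    · have : a = 1 := by omega
      have : b = 0 := by omega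
      subst_vars; simp
  | succ i ih =>
    obtain ⟨ih1, ih2⟩ := ih
    refine ⟨fun a b ha hb => ih2 a b (by linarith) (by linarith), fun a b ha hb => ?_⟩
    have hr := ptdeg_rec f hf (((i:ℤ) + 1) • x) x
    have e1 : ((i:ℤ) + 1) • x + x = ((i:ℤ) + 1 + 1) • x := by module
    have e2 : ((i:ℤ) + 1) • x - x = (i:ℤ) • x := by module
    rw [e1, e2] at hr
    obtain ⟨a1, ha1⟩ : ∃ a1 : ℤ, 2 * a1 = ((i:ℤ) + 1) * (i + 2) := by
      have := Int.even_mul_succ_self ((i:ℤ) + 1)
      obtain ⟨r, hr⟩ := this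
      exact ⟨r, by linarith⟩
    obtain ⟨a0, ha0⟩ : ∃ a0 : ℤ, 2 * a0 = (i:ℤ) * (i + 1) := by
      have := Int.even_mul_succ_self ((i:ℤ))
      obtain ⟨r, hr⟩ := this
      exact ⟨r, by linarith⟩
    obtain ⟨am, ham⟩ : ∃ am : ℤ, 2 * am = (i:ℤ) * (i - 1) := by
      have := Int.even_mul_succ_self ((i:ℤ) - 1)
      obtain ⟨r, hr⟩ := this
      exact ⟨r, by linarith⟩
    rw [ih2 a1 a0 ha1 (by linarith), ih1 a0 am ha0 ham] at hr
    have hA : a = 2 * a1 - a0 + 1 := by linarith
    have hB : b = 2 * a0 - am + 1 := by linarith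
    subst hA hB
    linear_combination (norm := module) hr
  | pred i ih =>
    obtain ⟨ih1, ih2⟩ := ih
    refine ⟨fun a b ha hb => ?_, fun a b ha hb => by
      rw [sub_add_cancel]; exact ih1 a b (by linarith) (by linarith)⟩
    have hr := ptdeg_rec f hf ((-(i:ℤ)) • x) x
    have e1 : (-(i:ℤ)) • x + x = (-(i:ℤ) + 1) • x := by module
    have e2 : (-(i:ℤ)) • x - x = (-(i:ℤ) - 1) • x := by module
    rw [e1, e2] at hr
    obtain ⟨a1, ha1⟩ : ∃ a1 : ℤ, 2 * a1 = (-(i:ℤ) + 1) * (-(i:ℤ) + 2) := by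
      have := Int.even_mul_succ_self (-(i:ℤ) + 1)
      obtain ⟨r, hr⟩ := this
      exact ⟨r, by linarith⟩
    obtain ⟨a0, ha0⟩ : ∃ a0 : ℤ, 2 * a0 = (-(i:ℤ)) * (-(i:ℤ) + 1) := by
      have := Int.even_mul_succ_self (-(i:ℤ))
      obtain ⟨r, hr⟩ := this
      exact ⟨r, by linarith⟩
    obtain ⟨am, ham⟩ : ∃ am : ℤ, 2 * am = (-(i:ℤ)) * (-(i:ℤ) - 1) := by
      have := Int.even_mul_succ_self (-(i:ℤ) - 1)
      obtain ⟨r, hr⟩ := this
      exact ⟨r, by linarith⟩
    rw [ih2 a1 a0 ha1 (by linarith), ih1 a0 am ha0 ham] at hr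
    have hA : a = 2 * a0 - a1 + 1 := by linarith
    have hB : b = 2 * am - a0 + 1 := by linarith
    subst hA hB
    linear_combination (norm := module) hr

/-- the general formula with explicit half-integers -/
theorem ptdeg_formula {A : Type u} {G : Type v} [AddCommGroup A] [AddCommGroup G]
    (f : A → G) (hf : ∀ x y z : A, f (x + y + z) + f x + f y + f z = f (x + y) + f (x + z) + f (y + z))
    (x : A) (n a b : ℤ) (ha : 2 * a = n * (n + 1)) (hb : 2 * b = n * (n - 1)) :
    f (n • x) = a • f x + b • f (-x) :=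
  (ptdeg_main f hf x n).1 a b ha hb

end Groth.Agent.Helper7
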