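import Mathlib

set_option autoImplicit false
set_option maxSynthPendingDepth 3
set_option linter.style.haveILetI false
universe u

namespace Groth.Agent.Helper7.PthRoot

open Polynomial

section E

variable {K : Type u} [Field K] (p : ℕ) [Fact p.Prime] [CharP K p]

/-- `E(P) = Σ c_i^p a^i`. -/
noncomputable def E (a : K) (P : K[X]) : K := eval₂ (frobenius K p) a P

theorem E_add (a : K) (P Q : K[X]) : E p a (P + Q) = E p a P + E p a Q := eval₂_add _ _

theorem E_monomial (a : K) (n : ℕ) (c : K) : E p a (monomial n c) = c ^ p * a ^ n := by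
  rw [E, eval₂_monomial, frobenius_def]

theorem pow_aeval {L : Type u} [Field L] [Algebra K L] (a : K) (x : L)
    (hx : x ^ p = algebraMap K L a) (P : K[X]) :
    (aeval x P) ^ p = algebraMap K L (E p a P) := by
  haveI : CharP L p := charP_of_injective_algebraMap (algebraMap K L).injective p
  induction P using Polynomial.induction_on' with
  | add P Q hP hQ => rw [map_add, add_pow_char, hP, hQ, E_add, map_add]
  | monomial n c =>
    rw [aeval_monomial, mul_pow, ← pow_mul, mul_comm n p, pow_mul, hx, E_monomial, map_mul,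
      map_pow, map_pow]

theorem D_frobenius (D : Derivation ℤ K K) (c : K) : D (frobenius K p c) = 0 := by
  rw [frobenius_def, Derivation.leibniz_pow, nsmul_eq_mul, CharP.cast_eq_zero, zero_mul]

theorem frobenius_natCast' (n : ℕ) : frobenius K p (n : K) = n := by
  rw [map_natCast]

theorem D_E (D : Derivation ℤ K K) (a : K) (P : K[X]) :
    D (E p a P) = E p a (derivative P) * D a := by
  induction P using Polynomial.induction_on' with
  | add P Q hP hQ => rw [E_add, map_add, hP, hQ, derivative_add, E_add, add_mul]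
  | monomial n c =>
    rw [E_monomial, derivative_monomial, E_monomial, Derivation.leibniz, Derivation.leibniz_pow,
      ← frobenius_def (R := K) p c, D_frobenius, smul_zero, add_zero, mul_pow,
      ← frobenius_def (R := K) p (n : K), frobenius_natCast']
    simp only [smul_eq_mul, nsmul_eq_mul, frobenius_def]
    ring

end E

section S

variable {R : Type u} [CommRing R] {K : Type u} [Field K] [Algebra R K]

/-- `z ∈ d^{-m} R`. -/
def S (R : Type u) [CommRing R] {K : Type u} [Field K] [Algebra R K] (d : K) (m : ℕ) : Set K :=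
  {z | d ^ m * z ∈ Set.range (algebraMap R K)}

theorem S_mono {d : K} (hd : d ∈ Set.range (algebraMap R K)) {m m' : ℕ} (h : m ≤ m') {z : K}
    (hz : z ∈ S R d m) : z ∈ S R d m' := by
  obtain ⟨k, rfl⟩ := Nat.exists_eq_add_of_le h
  obtain ⟨r, hr⟩ := hz
  obtain ⟨d₀, hd₀⟩ := hd
  refine ⟨d₀ ^ k * r, ?_⟩
  rw [map_mul, map_pow, hr, hd₀, pow_add]; ring

theorem S_zero (d : K) (m : ℕ) : (0 : K) ∈ S R d m := ⟨0, by simp⟩

theorem S_add {d : K} {m : ℕ} {z z' : K} (hz : z ∈ S R d m) (hz' : z' ∈ S R d m) :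
    z + z' ∈ S R d m := by
  obtain ⟨r, hr⟩ := hz
  obtain ⟨r', hr'⟩ := hz'
  exact ⟨r + r', by rw [map_add, hr, hr', mul_add]⟩

theorem S_sub {d : K} {m : ℕ} {z z' : K} (hz : z ∈ S R d m) (hz' : z' ∈ S R d m) :
    z - z' ∈ S R d m := by
  obtain ⟨r, hr⟩ := hz
  obtain ⟨r', hr'⟩ := hz'
  exact ⟨r - r', by rw [map_sub, hr, hr', mul_sub]⟩

theorem S_mul_base {d : K} {m : ℕ} {z : K} (hz : z ∈ S R d m) (r : R) :
    z * algebraMap R K r ∈ S R d m := by
  obtain ⟨r', hr'⟩ := hz
  exact ⟨r' * r, by rw [map_mul, hr']; ring⟩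

theorem S_sum {d : K} {m : ℕ} {ι : Type*} (s : Finset ι) (f : ι → K)
    (h : ∀ i ∈ s, f i ∈ S R d m) : ∑ i ∈ s, f i ∈ S R d m := by
  classical
  induction s using Finset.induction_on with
  | empty => simpa using S_zero d m
  | insert a s ha ih =>
    rw [Finset.sum_insert ha]
    exact S_add (h a (Finset.mem_insert_self _ _))
      (ih fun i hi => h i (Finset.mem_insert_of_mem hi))

theorem S_pow {d : K} {m : ℕ} {z : K} (hz : z ∈ S R d m) (q : ℕ) : z ^ q ∈ S R d (q * m) := by
  obtain ⟨r, hr⟩ := hz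
  exact ⟨r ^ q, by rw [map_pow, hr, mul_pow, ← pow_mul, mul_comm m q]⟩

variable [IsIntegrallyClosed R] [IsFractionRing R K]

theorem S_of_pow {d : K} (hd : d ∈ Set.range (algebraMap R K)) {m : ℕ} {z : K} {q : ℕ}
    (hq : 0 < q) (hz : z ^ q ∈ S R d m) : z ∈ S R d m := by
  obtain ⟨r, hr⟩ := hz
  obtain ⟨d₀, hd₀⟩ := hd
  have h1 : (d ^ m * z) ^ q = algebraMap R K (d₀ ^ (m * (q - 1)) * r) := by
    rw [map_mul, map_pow, hr, hd₀, mul_pow, ← pow_mul, pow_mul, ← mul_assoc, ← pow_mul,
      ← pow_add]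
    congr 2
    obtain ⟨q', rfl⟩ : ∃ q', q = q' + 1 := ⟨q - 1, by omega⟩
    simp only [Nat.add_sub_cancel]; ring
  have h2 : IsIntegral R ((d ^ m * z) ^ q) := by rw [h1]; exact isIntegral_algebraMap
  exact IsIntegrallyClosed.exists_algebraMap_eq_of_isIntegral_pow hq h2

end S

end Groth.Agent.Helper7.PthRoot
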