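import Mathlib
import Groth.Agent.Helper7.PthRoot1

set_option autoImplicit false
set_option maxSynthPendingDepth 3
set_option linter.style.haveILetI false
universe u

namespace Groth.Agent.Helper7.PthRoot

open Polynomial

variable {R : Type u} [CommRing R] {K : Type u} [Field K] [Algebra R K]

/-- `D` maps `d^{-m} R` into `d^{-(m+1)} R`. -/
theorem S_D (D : Derivation ℤ K K)
    (hD : ∀ r : R, ∃ s : R, D (algebraMap R K r) = algebraMap R K s) {d : K}
    (hd : d ∈ Set.range (algebraMap R K)) {m : ℕ} {z : K} (hz : z ∈ S R d m) :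
    D z ∈ S R d (m + 1) := by
  obtain ⟨r, hr⟩ := hz
  obtain ⟨d₀, hd₀⟩ := hd
  obtain ⟨r', hr'⟩ := hD r
  obtain ⟨d', hd'⟩ := hD d₀
  rw [hd₀] at hd'
  have h1 : D (d ^ m * z) = d ^ m * D z + z * ((m : K) * d ^ (m - 1) * D d) := by
    rw [Derivation.leibniz, Derivation.leibniz_pow]
    simp only [smul_eq_mul, nsmul_eq_mul]
    ring
  rw [hr, h1] at hr'
  refine ⟨d₀ * r' - (m : R) * d' * r, ?_⟩
  rw [map_sub, map_mul, map_mul, map_mul, ← hr', hd₀, ← hd', hr, map_natCast]
  rcases Nat.eq_zero_or_pos m with h0 | hpos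
  · subst h0; simp
  · obtain ⟨m', rfl⟩ : ∃ m', m = m' + 1 := ⟨m - 1, by omega⟩
    simp only [Nat.add_sub_cancel]
    ring

variable (p : ℕ) [Fact p.Prime] [CharP K p]

theorem exists_natCast_mul_eq_one {i : ℕ} (hi0 : 0 < i) (hip : i < p) :
    ∃ j : ℕ, (j : K) * (i : K) = 1 := by
  have hp : p.Prime := Fact.out
  have hcop : Nat.Coprime i p := (Nat.coprime_primes_of_lt_aux hi0 hip hp)
  obtain ⟨j, -, hj⟩ := Nat.exists_mul_mod_eq_one_of_coprime hcop hp.one_lt
  refine ⟨j, ?_⟩
  rw [← Nat.cast_mul, mul_comm, CharP.natCast_eq_natCast_mod K p, hj, Nat.cast_one]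
where
  Nat.coprime_primes_of_lt_aux {i p : ℕ} (hi0 : 0 < i) (hip : i < p) (hp : p.Prime) :
      Nat.Coprime i p := by
    rw [Nat.coprime_comm]
    exact (Nat.coprime_primes_of_lt_aux' hp hi0 hip)
  Nat.coprime_primes_of_lt_aux' {i p : ℕ} (hp : p.Prime) (hi0 : 0 < i) (hip : i < p) :
      Nat.Coprime p i :=
    (Nat.Prime.coprime_iff_not_dvd hp).2 (Nat.not_dvd_of_pos_of_lt hi0 hip)

/-- coefficients in `d^{-N} R` give `E(Q) ∈ d^{-pN} R` (when `a ∈ R`). -/
theorem E_mem_S {d a : K} (ha : a ∈ Set.range (algebraMap R K)) {N : ℕ} (Q : K[X])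
    (hQ : ∀ i, Q.coeff i ∈ S R d N) : E p a Q ∈ S R d (p * N) := by
  obtain ⟨a₀, ha₀⟩ := ha
  rw [E, eval₂_eq_sum_range]
  refine S_sum _ _ fun i _ => ?_
  rw [frobenius_def, ← ha₀, ← map_pow]
  exact S_mul_base (S_pow (hQ i) p) _

variable [IsIntegrallyClosed R] [IsFractionRing R K]

/-- the key claim: bounded denominators for the coefficients. -/
theorem claim (D : Derivation ℤ K K)
    (hD : ∀ r : R, ∃ s : R, D (algebraMap R K r) = algebraMap R K s) {a : K}
    (ha : a ∈ Set.range (algebraMap R K)) (hDa : D a ≠ 0) (n : ℕ) (hn : n < p) :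
    ∀ m : ℕ, ∃ N : ℕ, ∀ P : K[X], P.natDegree ≤ n → E p a P ∈ S R (D a) m →
      ∀ i, P.coeff i ∈ S R (D a) N := by
  have hp : p.Prime := Fact.out
  have hd : D a ∈ Set.range (algebraMap R K) := by
    obtain ⟨a₀, rfl⟩ := ha
    obtain ⟨s, hs⟩ := hD a₀
    exact ⟨s, hs.symm⟩
  induction n with
  | zero =>
    intro m
    refine ⟨m, fun P hP hE i => ?_⟩
    have hC := eq_C_of_natDegree_le_zero hP
    rw [hC] at hE ⊢
    rw [← monomial_zero_left, E_monomial, pow_zero, mul_one] at hE
    rw [coeff_C]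
    split_ifs
    · exact S_of_pow hd hp.pos hE
    · exact S_zero _ _
  | succ n ih =>
    intro m
    obtain ⟨N₁, hN₁⟩ := ih (by omega) (m + 2)
    refine ⟨max m (p * N₁), fun P hP hE i => ?_⟩
    -- the derivative
    have hder : E p a (derivative P) ∈ S R (D a) (m + 2) := by
      have h1 := S_D D hD hd hE
      rw [D_E] at h1
      obtain ⟨r, hr⟩ := h1
      exact ⟨r, by rw [hr]; ring⟩
    have hdeg : (derivative P).natDegree ≤ n := by
      have := natDegree_derivative_le P
      omega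
    have hcoef := hN₁ _ hdeg hder
    -- coefficients of positive index
    have hpos : ∀ i, 0 < i → P.coeff i ∈ S R (D a) N₁ := by
      intro i hi
      by_cases hin : i ≤ n + 1
      · obtain ⟨i', rfl⟩ : ∃ i', i = i' + 1 := ⟨i - 1, by omega⟩
        have h2 := hcoef i'
        rw [coeff_derivative] at h2
        obtain ⟨j, hj⟩ := exists_natCast_mul_eq_one (K := K) p (i := i' + 1) (by omega) (by omega)
        obtain ⟨r, hr⟩ := h2
        refine ⟨(j : R) * r, ?_⟩
        rw [map_mul, hr, map_natCast]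
        have : (j : K) * (D a ^ N₁ * (P.coeff (i' + 1) * (↑i' + 1))) =
            D a ^ N₁ * P.coeff (i' + 1) * ((j : K) * ((i' + 1 : ℕ) : K)) := by
          push_cast; ring
        rw [this, hj, mul_one]
      · rw [coeff_eq_zero_of_natDegree_lt (by omega)]
        exact S_zero _ _
    have hN₁le : N₁ ≤ max m (p * N₁) :=
      le_trans (Nat.le_mul_of_pos_left N₁ hp.pos) (le_max_right _ _)
    rcases Nat.eq_zero_or_pos i with h0 | hi
    · subst h0
      -- constant coefficient
      have hsplit : P = P.erase 0 + monomial 0 (P.coeff 0) := by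
        rw [add_comm]; exact (monomial_add_erase P 0).symm
      have hE' : E p a P = E p a (P.erase 0) + (P.coeff 0) ^ p := by
        conv_lhs => rw [hsplit]
        rw [E_add, E_monomial, pow_zero, mul_one]
      have herase : E p a (P.erase 0) ∈ S R (D a) (p * N₁) := by
        apply E_mem_S p ha
        intro i
        rw [coeff_erase]
        split_ifs with h0
        · exact S_zero _ _
        · exact hpos i (Nat.pos_of_ne_zero h0)
      have hc0 : (P.coeff 0) ^ p ∈ S R (D a) (max m (p * N₁)) := by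
        have : (P.coeff 0) ^ p = E p a P - E p a (P.erase 0) := by rw [hE']; ring
        rw [this]
        exact S_sub (S_mono hd (le_max_left _ _) hE) (S_mono hd (le_max_right _ _) herase)
      exact S_of_pow hd hp.pos hc0
    · exact S_mono hd hN₁le (hpos i hi)

end Groth.Agent.Helper7.PthRoot
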