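import Mathlib
import Groth.Agent.Helper7.PthRoot2

set_option autoImplicit false
set_option maxSynthPendingDepth 3
set_option linter.style.haveILetI false
universe u

namespace Groth.Agent.Helper7.PthRoot

open Polynomial

variable {R : Type u} [CommRing R] [IsNoetherianRing R] [IsIntegrallyClosed R]
  {K : Type u} [Field K] [Algebra R K] [IsFractionRing R K] (p : ℕ) [Fact p.Prime] [CharP K p]
  {L : Type u} [Field L] [Algebra K L] [Algebra R L] [IsScalarTower R K L]

omit [IsNoetherianRing R] [IsIntegrallyClosed R] [IsFractionRing R K] [CharP K p]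
  [Algebra R L] [IsScalarTower R K L] in
/-- every element is a polynomial of degree `< p` in `x`. -/
theorem exists_poly (a : K) (x : L) (hx : x ^ p = algebraMap K L a)
    (hgen : IntermediateField.adjoin K {x} = ⊤) (y : L) :
    ∃ P : K[X], P.natDegree < p ∧ aeval x P = y := by
  have hp : p.Prime := Fact.out
  have hmonic : (X ^ p - C a : K[X]).Monic := monic_X_pow_sub_C a hp.ne_zero
  have hroot : aeval x (X ^ p - C a : K[X]) = 0 := by
    simp [hx]
  have hint : IsIntegral K x := ⟨_, hmonic, by simpa using hroot⟩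
  have h1 := IntermediateField.adjoin_simple_toSubalgebra_of_isAlgebraic hint.isAlgebraic
  rw [hgen, IntermediateField.top_toSubalgebra, Algebra.adjoin_singleton_eq_range_aeval] at h1
  have hy : y ∈ (aeval x : K[X] →ₐ[K] L).range := by rw [← h1]; trivial
  obtain ⟨P₀, rfl⟩ := hy
  refine ⟨P₀ %ₘ (X ^ p - C a), ?_, aeval_modByMonic_eq_self_of_root hroot⟩
  have hne1 : (X ^ p - C a : K[X]) ≠ 1 := by
    intro h
    have := congrArg natDegree h
    rw [natDegree_X_pow_sub_C, natDegree_one] at this
    exact hp.ne_zero this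
  have := natDegree_modByMonic_lt P₀ hmonic hne1
  rwa [natDegree_X_pow_sub_C] at this

/-- the case `a ∈ R`. -/
theorem finite_of_mem (D : Derivation ℤ K K)
    (hD : ∀ r : R, ∃ s : R, D (algebraMap R K r) = algebraMap R K s) (a : K)
    (ha : a ∈ Set.range (algebraMap R K)) (hDa : D a ≠ 0) (x : L)
    (hx : x ^ p = algebraMap K L a) (hgen : IntermediateField.adjoin K {x} = ⊤) :
    Module.Finite R (integralClosure R L) := by
  have hp : p.Prime := Fact.out
  obtain ⟨N, hN⟩ := claim p D hD ha hDa (p - 1) (Nat.sub_lt hp.pos one_pos) 0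
  let g : Fin p → L := fun i => algebraMap K L ((D a ^ N)⁻¹) * x ^ (i : ℕ)
  have hsub : Subalgebra.toSubmodule (integralClosure R L) ≤ Submodule.span R (Set.range g) := by
    intro y hy
    have hyint : IsIntegral R y := hy
    obtain ⟨P, hPdeg, rfl⟩ := exists_poly p a x hx hgen y
    have hE : E p a P ∈ S R (D a) 0 := by
      have h1 : IsIntegral R (algebraMap K L (E p a P)) := by
        rw [← pow_aeval p a x hx P]; exact hyint.pow p
      have h2 : IsIntegral R (E p a P) :=
        (isIntegral_algebraMap_iff (algebraMap K L).injective).1 h1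
      obtain ⟨r, hr⟩ := IsIntegrallyClosed.isIntegral_iff.1 h2
      exact ⟨r, by rw [hr, pow_zero, one_mul]⟩
    have hcoef := hN P (by omega) hE
    choose r hr using hcoef
    rw [aeval_eq_sum_range' hPdeg]
    refine Submodule.sum_mem _ fun i hi => ?_
    have hi' : i < p := Finset.mem_range.1 hi
    have hc : P.coeff i = algebraMap R K (r i) * (D a ^ N)⁻¹ := by
      rw [hr i]; field_simp
    have : P.coeff i • x ^ i = r i • g ⟨i, hi'⟩ := by
      rw [Algebra.smul_def, hc, map_mul, Algebra.smul_def,
        ← IsScalarTower.algebraMap_apply R K L, mul_assoc]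
    rw [this]
    exact Submodule.smul_mem _ _ (Submodule.subset_span ⟨⟨i, hi'⟩, rfl⟩)
  have hfg : (Subalgebra.toSubmodule (integralClosure R L)).FG :=
    Submodule.FG.of_le (Submodule.fg_span (Set.finite_range g)) hsub
  exact Module.Finite.iff_fg.2 hfg

/-- the general case. -/
theorem finite_integralClosure [IsDomain R] (D : Derivation ℤ K K)
    (hD : ∀ r : R, ∃ s : R, D (algebraMap R K r) = algebraMap R K s) (a : K)
    (hDa : D a ≠ 0) (x : L)
    (hx : x ^ p = algebraMap K L a) (hgen : IntermediateField.adjoin K {x} = ⊤) :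
    Module.Finite R (integralClosure R L) := by
  have hp : p.Prime := Fact.out
  obtain ⟨r, s, hs, rfl⟩ := IsFractionRing.div_surjective (A := R) a
  have hs0 : algebraMap R K s ≠ 0 := by
    intro h
    exact nonZeroDivisors.ne_zero hs ((IsFractionRing.injective R K) (by rw [h, map_zero]))
  set σ := algebraMap R K s with hσ
  set a' : K := σ ^ p * (algebraMap R K r / σ) with ha'
  have ha'mem : a' ∈ Set.range (algebraMap R K) := by
    refine ⟨s ^ (p - 1) * r, ?_⟩
    rw [ha', map_mul, map_pow]
    obtain ⟨q, hq⟩ : ∃ q, p = q + 1 := ⟨p - 1, by have := hp.pos; omega⟩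
    rw [hq, Nat.add_sub_cancel, pow_succ]
    field_simp
    ring
  have hDa' : D a' ≠ 0 := by
    rw [ha', Derivation.leibniz, Derivation.leibniz_pow, nsmul_eq_mul, CharP.cast_eq_zero,
      zero_mul, smul_zero, add_zero, smul_eq_mul]
    exact mul_ne_zero (pow_ne_zero _ hs0) hDa
  set x' : L := algebraMap K L σ * x with hx'
  have hx'p : x' ^ p = algebraMap K L a' := by
    rw [hx', mul_pow, hx, ha', map_mul, map_pow]
  have hgen' : IntermediateField.adjoin K {x'} = ⊤ := by
    rw [eq_top_iff, ← hgen, IntermediateField.adjoin_le_iff]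
    intro z hz
    rw [Set.mem_singleton_iff] at hz
    subst hz
    have h1 : x' ∈ IntermediateField.adjoin K {x'} :=
      IntermediateField.mem_adjoin_simple_self K x'
    have h2 : algebraMap K L σ⁻¹ ∈ IntermediateField.adjoin K {x'} :=
      IntermediateField.algebraMap_mem _ _
    have h3 : z = algebraMap K L σ⁻¹ * x' := by
      rw [hx', ← mul_assoc, ← map_mul, inv_mul_cancel₀ hs0, map_one, one_mul]
    change z ∈ IntermediateField.adjoin K {x'}
    rw [h3]
    exact mul_mem h2 h1
  exact finite_of_mem p D hD a' ha'mem hDa' x' hx'p hgen'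

end Groth.Agent.Helper7.PthRoot
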