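import Mathlib
import Groth.Prelude.Def_GrSyz
import Groth.Agent.Helper7.PtsRes1
import Groth.Agent.Helper7.GrTorKos

/-!
# Point ideals in projective space and a regular sequence on the ideal of a finite set of points
-/

set_option autoImplicit false
set_option linter.unusedSectionVars false

open DirectSum MvPolynomial

namespace Groth.Agent.Helper7.PtsRes

universe u

variable {k : Type u} [Field k] {σ : Type} [Fintype σ]

/-- the graded map to `k[T]` attached to a point -/
noncomputable def phi (p : σ → k) : MvPolynomial σ k →ₐ[k] Polynomial k :=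
  aeval (fun i => Polynomial.C (p i) * Polynomial.X)

theorem phi_monomial (p : σ → k) (d : σ →₀ ℕ) (c : k) :
    phi p (monomial d c) = Polynomial.C (c * d.prod fun i e => p i ^ e) * Polynomial.X ^ d.degree := by
  classical
  rw [phi, aeval_monomial, Polynomial.algebraMap_eq, map_mul, mul_assoc]
  congr 1
  rw [Finsupp.degree_apply, Finsupp.prod, Finsupp.prod, map_prod, ← Finset.prod_pow_eq_pow_sum,
    ← Finset.prod_mul_distrib]
  refine Finset.prod_congr rfl fun i _ => ?_
  rw [mul_pow, map_pow]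

theorem coeff_phi (p : σ → k) (f : MvPolynomial σ k) (j : ℕ) :
    (phi p f).coeff j = eval p (homogeneousComponent j f) := by
  induction f using MvPolynomial.induction_on' with
  | monomial d c =>
    rw [phi_monomial, Polynomial.coeff_C_mul_X_pow,
      homogeneousComponent_of_mem (isHomogeneous_monomial c rfl)]
    by_cases h : j = d.degree
    · rw [if_pos h, if_pos h, eval_monomial]
    · rw [if_neg h, if_neg h, map_zero]
  | add f g hf hg =>
    rw [map_add, Polynomial.coeff_add, hf, hg, map_add, map_add]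

/-- the homogeneous ideal of a point -/
noncomputable def Ip (p : σ → k) : Ideal (MvPolynomial σ k) := RingHom.ker (phi p)

theorem mem_Ip {p : σ → k} {f : MvPolynomial σ k} :
    f ∈ Ip p ↔ ∀ j : ℕ, eval p (homogeneousComponent j f) = 0 := by
  rw [Ip, RingHom.mem_ker, Polynomial.ext_iff]
  refine forall_congr' fun j => ?_
  rw [coeff_phi, Polynomial.coeff_zero]

instance isPrime_Ip (p : σ → k) : (Ip p).IsPrime := RingHom.ker_isPrime _

theorem X_notMem_Ip {p : σ → k} {i : σ} (hi : p i ≠ 0) : (X i : MvPolynomial σ k) ∉ Ip p := by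
  intro h
  rw [Ip, RingHom.mem_ker, phi, aeval_X] at h
  have := congrArg (fun q => Polynomial.coeff q 1) h
  simp only [Polynomial.coeff_C_mul, Polynomial.coeff_X_one, mul_one, Polynomial.coeff_zero] at this
  exact hi this

section Plane

variable {k : Type u} [Field k]

local notation "𝔪" => HomogeneousIdeal.toIdeal (GrSyz.irrel (GrSyz.stdGr k (Fin (2 + 1))))

theorem X_mem_irrel (i : Fin (2 + 1)) : (X i : MvPolynomial (Fin (2 + 1)) k) ∈ 𝔪 :=
  Ideal.subset_span ⟨1, one_pos, GrTorKos.X_mem i⟩

/-- prime avoidance: a form in the irrelevant ideal vanishing at no point of `Z` and prime to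
the first variable. -/
theorem exists_avoid (Z : Finset (Fin (2 + 1) → k)) (hZ : ∀ p ∈ Z, p ≠ 0) :
    ∃ y : MvPolynomial (Fin (2 + 1)) k, y ∈ 𝔪 ∧ ¬ (X 0 ∣ y) ∧ ∀ p ∈ Z, y ∉ Ip p := by
  classical
  let f : Option (Fin (2 + 1) → k) → Ideal (MvPolynomial (Fin (2 + 1)) k) := fun o =>
    match o with
    | none => Ideal.span {X 0}
    | some p => Ip p
  let s : Finset (Option (Fin (2 + 1) → k)) := insert none (Z.image some)
  have hprime : ∀ i ∈ s, i ≠ none → i ≠ none → (f i).IsPrime := by
    intro i _ hi _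
    match i, hi with
    | some p, _ => exact isPrime_Ip p
  have hnot : ¬ ((𝔪 : Set (MvPolynomial (Fin (2 + 1)) k)) ⊆ ⋃ i ∈ (↑s : Set _), f i) := by
    rw [Ideal.subset_union_prime none none hprime]
    rintro ⟨i, his, hle⟩
    match i, his, hle with
    | none, _, hle =>
      have h1 : (X 1 : MvPolynomial (Fin (2 + 1)) k) ∈ Ideal.span {X 0} := hle (X_mem_irrel 1)
      rw [Ideal.mem_span_singleton, X_dvd_X] at h1
      exact absurd h1 (by decide)
    | some p, his, hle =>
      have hp : p ∈ Z := by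
        rcases Finset.mem_insert.1 his with h | h
        · exact absurd h (by simp)
        · obtain ⟨q, hq, hqp⟩ := Finset.mem_image.1 h
          rwa [← Option.some.inj hqp]
      have hne : ∃ i, p i ≠ 0 := by
        by_contra hcon
        exact hZ p hp (funext fun i => not_not.1 fun h => hcon ⟨i, h⟩)
      obtain ⟨i, hi⟩ := hne
      exact X_notMem_Ip hi (hle (X_mem_irrel i))
  rw [Set.not_subset] at hnot
  obtain ⟨y, hy, hyn⟩ := hnot
  refine ⟨y, hy, ?_, ?_⟩
  · intro hdvd
    apply hyn
    have hs : (none : Option (Fin (2 + 1) → k)) ∈ (↑s : Set (Option (Fin (2 + 1) → k))) :=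
      Finset.mem_coe.2 (Finset.mem_insert_self _ _)
    exact Set.mem_biUnion hs (show y ∈ f none from Ideal.mem_span_singleton.2 hdvd)
  · intro p hp hmem
    apply hyn
    have hs : (some p : Option (Fin (2 + 1) → k)) ∈ (↑s : Set (Option (Fin (2 + 1) → k))) :=
      Finset.mem_coe.2 (Finset.mem_insert_of_mem (Finset.mem_image_of_mem _ hp))
    exact Set.mem_biUnion hs (show y ∈ f (some p) from hmem)

variable (Z : Finset (Fin (2 + 1) → k)) (I : Ideal (MvPolynomial (Fin (2 + 1)) k))
  (hI : ∀ f : MvPolynomial (Fin (2 + 1)) k, f ∈ I ↔ ∀ p ∈ Z, f ∈ Ip p)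

include hI in
theorem isWeaklyRegular (y : MvPolynomial (Fin (2 + 1)) k) (hy0 : ¬ (X 0 ∣ y))
    (hyp : ∀ p ∈ Z, y ∉ Ip p) :
    RingTheory.Sequence.IsWeaklyRegular ↥I [X 0, y] := by
  have hreg : ∀ h : MvPolynomial (Fin (2 + 1)) k, y * h ∈ I → h ∈ I := by
    intro h hh
    rw [hI] at hh ⊢
    intro p hp
    exact ((isPrime_Ip p).mem_or_mem (hh p hp)).resolve_left (hyp p hp)
  rw [RingTheory.Sequence.isWeaklyRegular_cons_iff, RingTheory.Sequence.isWeaklyRegular_cons_iff]
  refine ⟨?_, ?_, RingTheory.Sequence.IsWeaklyRegular.nil _ _⟩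
  · intro a b hab
    apply Subtype.ext
    have h1 : (X 0 : MvPolynomial (Fin (2 + 1)) k) * (a : MvPolynomial (Fin (2 + 1)) k) =
        X 0 * (b : MvPolynomial (Fin (2 + 1)) k) := congrArg Subtype.val hab
    exact mul_left_cancel₀ (X_ne_zero 0) h1
  · rw [isSMulRegular_iff_right_eq_zero_of_smul]
    intro a ha
    obtain ⟨a, rfl⟩ := Submodule.Quotient.mk_surjective _ a
    rw [← Submodule.Quotient.mk_smul, Submodule.Quotient.mk_eq_zero,
      Submodule.mem_smul_pointwise_iff_exists] at ha
    obtain ⟨g, -, hg⟩ := ha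
    have h1 : (X 0 : MvPolynomial (Fin (2 + 1)) k) * (g : MvPolynomial (Fin (2 + 1)) k) =
        y * (a : MvPolynomial (Fin (2 + 1)) k) := congrArg Subtype.val hg
    have h2 : (X 0 : MvPolynomial (Fin (2 + 1)) k) ∣ y * (a : MvPolynomial (Fin (2 + 1)) k) :=
      ⟨g, h1.symm⟩
    obtain ⟨h, hh⟩ := ((X_prime (R := k) (i := (0 : Fin (2 + 1)))).dvd_or_dvd h2).resolve_left hy0
    have h3 : y * h = (g : MvPolynomial (Fin (2 + 1)) k) := by
      apply mul_left_cancel₀ (X_ne_zero (R := k) (0 : Fin (2 + 1)))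
      rw [h1, hh]
      ring
    have h4 : h ∈ I := hreg h (by rw [h3]; exact g.2)
    rw [Submodule.Quotient.mk_eq_zero, Submodule.mem_smul_pointwise_iff_exists]
    exact ⟨⟨h, h4⟩, Submodule.mem_top, Subtype.ext hh.symm⟩

end Plane

end Groth.Agent.Helper7.PtsRes
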