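import Mathlib
import Groth.Prelude.Def_GrSyz
import Groth.Agent.Helper7.PtsRes1
import Groth.Agent.Helper7.PtsRes2
import Groth.Agent.Helper7.MinRes
import Groth.Agent.Helper7.ABu4

/-!
# The ideal of a finite set of points in the plane has a free resolution of length one
-/

set_option autoImplicit false
set_option linter.unusedSectionVars false
set_option linter.style.haveILetI false

open DirectSum MvPolynomial

namespace Groth.Agent.Helper7.PtsRes

open Groth.Agent.Helper7.ABu Groth.Agent.Helper7.GrTorK Groth.Agent.Helper7.GrTorS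

universe u

section Rank

variable {R : Type u} [CommRing R] [IsDomain R]

theorem rank_ideal_eq_one (I : Ideal R) (hI : I ≠ ⊥) : Module.rank R ↥I = 1 := by
  apply le_antisymm
  · have := Submodule.rank_le I
    rwa [Module.rank_self] at this
  · rw [Cardinal.one_le_iff_pos, rank_pos_iff_exists_ne_zero]
    obtain ⟨x, hx, hx0⟩ := Submodule.exists_mem_ne_zero_of_ne_bot hI
    exact ⟨⟨x, hx⟩, fun h => hx0 (congrArg Subtype.val h)⟩

/-- rank count for a short free resolution of a nonzero ideal -/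
theorem rank_count (I : Ideal R) (hI : I ≠ ⊥) (t0 t1 : ℕ)
    (π : (Fin t0 → R) →ₗ[R] R) (Ψ : (Fin t1 → R) →ₗ[R] (Fin t0 → R))
    (hΨ : LinearMap.ker Ψ = ⊥) (hex : LinearMap.ker π = LinearMap.range Ψ)
    (hπ : LinearMap.range π = I) : t0 = t1 + 1 := by
  have h1 := LinearMap.rank_range_add_rank_ker π
  rw [hπ, rank_ideal_eq_one I hI, hex,
    rank_range_of_injective Ψ (LinearMap.ker_eq_bot.1 hΨ), rank_fin_fun, rank_fin_fun] at h1
  have h2 : ((1 + t1 : ℕ) : Cardinal) = (t0 : Cardinal) := by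
    rw [← h1]; push_cast; rfl
  have := Nat.cast_injective h2
  omega

end Rank

variable {k : Type u} [Field k]

theorem exists_ne_zero_mem_Ip (p : Fin (2 + 1) → k) (hp : p ≠ 0) :
    ∃ f : MvPolynomial (Fin (2 + 1)) k, f ≠ 0 ∧ f ∈ Ip p := by
  have hne : ∃ i, p i ≠ 0 := by
    by_contra hcon
    exact hp (funext fun i => not_not.1 fun h => hcon ⟨i, h⟩)
  obtain ⟨i, hi⟩ := hne
  obtain ⟨j, hj⟩ := exists_ne i
  refine ⟨C (p j) * X i - C (p i) * X j, ?_, ?_⟩
  · intro h
    have h1 := congrArg (eval (Pi.single j (1 : k))) h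
    simp only [map_sub, map_mul, eval_C, eval_X, Pi.single_eq_same, map_zero, mul_one,
      Pi.single_eq_of_ne (Ne.symm hj), mul_zero, zero_sub, neg_eq_zero] at h1
    exact hi h1
  · rw [Ip, RingHom.mem_ker, phi]
    simp only [map_sub, map_mul, aeval_C, aeval_X, Polynomial.algebraMap_eq]
    ring

theorem main (Z : Finset (Fin (2 + 1) → k)) (hZ : ∀ p ∈ Z, p ≠ 0)
    (I : Ideal (MvPolynomial (Fin (2 + 1)) k))
    (hI : ∀ f : MvPolynomial (Fin (2 + 1)) k, f ∈ I ↔
      ∀ p ∈ Z, ∀ j : ℕ, MvPolynomial.eval p (MvPolynomial.homogeneousComponent j f) = 0) :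
    ∃ (t : ℕ) (Ψ : Matrix (Fin (t + 1)) (Fin t) (MvPolynomial (Fin (2 + 1)) k))
      (π : (Fin (t + 1) → MvPolynomial (Fin (2 + 1)) k) →ₗ[MvPolynomial (Fin (2 + 1)) k]
        MvPolynomial (Fin (2 + 1)) k),
      LinearMap.ker Ψ.mulVecLin = ⊥ ∧ LinearMap.ker π = LinearMap.range Ψ.mulVecLin ∧
        LinearMap.range π = I := by
  classical
  have hI' : ∀ f : MvPolynomial (Fin (2 + 1)) k, f ∈ I ↔ ∀ p ∈ Z, f ∈ Ip p := by
    intro f
    rw [hI]
    exact forall₂_congr fun p _ => mem_Ip.symm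
  -- homogeneity
  have hom : ∀ f ∈ I, ∀ n : ℕ, homogeneousComponent n f ∈ I := by
    intro f hf n
    rw [hI] at hf ⊢
    intro p hp j
    rw [homogeneousComponent_of_mem (homogeneousComponent_isHomogeneous n f)]
    split_ifs
    · exact hf p hp n
    · exact map_zero _
  have hN := decompose_mem_of_hom I hom
  letI : DirectSum.Decomposition (gr (GrSyz.stdGr k (Fin (2 + 1))) I) :=
    decomposition (GrSyz.stdGr k (Fin (2 + 1))) I hN
  obtain ⟨F, hF⟩ := MinRes.exists_minimal_res (k := k) (r := 2) ↥I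
    (gr (GrSyz.stdGr k (Fin (2 + 1))) I)
  obtain ⟨K⟩ := exists_kres k 2
  -- the regular sequence
  obtain ⟨y, hym, hy0, hyp⟩ := exists_avoid Z hZ
  have hreg := isWeaklyRegular Z I hI' y hy0 hyp
  have hrk2 : F.rk 2 = 0 := by
    by_contra h
    have hnot := not_ut_of_rk_ne_zero F hF K 2 h
    have := length_le_of_not_ut K [X 0, y] ↥I 2 hreg (by
      intro s hs
      rcases List.mem_cons.1 hs with rfl | hs
      · exact X_mem_irrel 0
      · rcases List.mem_cons.1 hs with rfl | hs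
        · exact hym
        · simp at hs) hnot
    simp at this
  -- I is nonzero
  have hIne : I ≠ ⊥ := by
    choose! ℓ hℓ0 hℓ using fun p (hp : p ∈ Z) => exists_ne_zero_mem_Ip p (hZ p hp)
    intro hbot
    have hmem : (∏ p ∈ Z, ℓ p) ∈ I := by
      rw [hI']
      intro q hq
      exact Ideal.mem_of_dvd _ (Finset.dvd_prod_of_mem ℓ hq) (hℓ q hq)
    rw [hbot, Ideal.mem_bot, Finset.prod_eq_zero_iff] at hmem
    obtain ⟨p, hp, hp0⟩ := hmem
    exact hℓ0 p hp hp0
  -- the maps
  let π : (Fin (F.rk 0) → MvPolynomial (Fin (2 + 1)) k) →ₗ[MvPolynomial (Fin (2 + 1)) k]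
      MvPolynomial (Fin (2 + 1)) k := I.subtype ∘ₗ F.augLin
  have hπker : LinearMap.ker π = LinearMap.range (Matrix.mulVecLin (F.d 0)) := by
    rw [← F.exact_zero, LinearMap.ker_comp, Submodule.ker_subtype, Submodule.comap_bot]
  have hπrange : LinearMap.range π = I := by
    rw [LinearMap.range_comp, LinearMap.range_eq_top.2 F.aug_surjective, Submodule.map_top,
      Submodule.range_subtype]
  have hΨ : LinearMap.ker (Matrix.mulVecLin (F.d 0)) = ⊥ := by
    rw [F.exact_succ 0, LinearMap.range_eq_bot]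
    apply LinearMap.ext
    intro v
    have : v = 0 := by
      funext b
      exact (Fin.elim0 (hrk2 ▸ b))
    rw [this, map_zero, LinearMap.zero_apply]
  have hcount : F.rk 0 = F.rk (0 + 1) + 1 :=
    rank_count I hIne (F.rk 0) (F.rk (0 + 1)) π (Matrix.mulVecLin (F.d 0)) hΨ hπker hπrange
  -- transport along the equality of ranks
  obtain ⟨rk0, rk1, d0, π', h0, h1, h2, hc⟩ : ∃ (rk0 rk1 : ℕ)
      (d0 : Matrix (Fin rk0) (Fin rk1) (MvPolynomial (Fin (2 + 1)) k))
      (π' : (Fin rk0 → MvPolynomial (Fin (2 + 1)) k) →ₗ[MvPolynomial (Fin (2 + 1)) k]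
        MvPolynomial (Fin (2 + 1)) k),
      LinearMap.ker d0.mulVecLin = ⊥ ∧ LinearMap.ker π' = LinearMap.range d0.mulVecLin ∧
        LinearMap.range π' = I ∧ rk0 = rk1 + 1 :=
    ⟨F.rk 0, F.rk (0 + 1), F.d 0, π, hΨ, hπker, hπrange, hcount⟩
  subst hc
  exact ⟨rk1, d0, π', h0, h1, h2⟩

end Groth.Agent.Helper7.PtsRes
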