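import Mathlib

set_option autoImplicit false
set_option linter.style.haveILetI false
universe u
open CategoryTheory AlgebraicGeometry TopologicalSpace

namespace Groth.Agent.Helper7.QAffDense

theorem main (B : Type u) [CommRing B] [TopologicalSpace B]
    [IsTopologicalRing B] (hB : IsOpen {b : B | IsUnit b})
    (B₀ : Type u) [CommRing B₀] (φ : B₀ →+* B) (hφ : DenseRange φ)
    (X : Scheme.{u}) [X.IsQuasiAffine] (p : X ⟶ Spec (CommRingCat.of B₀))
    (f : Spec (CommRingCat.of B) ⟶ X) (hf : f ≫ p = Spec.map (CommRingCat.ofHom φ)) :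
    ∃ U : X.Opens, IsAffineOpen U ∧ Set.range f.base ⊆ (U : Set X) := by
  classical
  let e := Scheme.ΓSpecIso (CommRingCat.of B)
  let ψ : Γ(X, ⊤) →+* B := e.hom.hom.comp f.appTop.hom
  let p' : B₀ →+* Γ(X, ⊤) := p.appTop.hom.comp (Scheme.ΓSpecIso (CommRingCat.of B₀)).inv.hom
  have hcompat : ∀ b, ψ (p' b) = φ b := by
    intro b
    have h1 : (Scheme.ΓSpecIso (CommRingCat.of B₀)).inv ≫ p.appTop ≫ f.appTop ≫ e.hom =
        CommRingCat.ofHom φ := by
      rw [← Category.assoc p.appTop, ← Scheme.Hom.comp_appTop, hf, Scheme.ΓSpecIso_naturality,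
        Iso.inv_hom_id_assoc]
    exact congrArg (fun g => g.hom b) h1
  let W : Set (PrimeSpectrum Γ(X, ⊤)) := Set.range X.toSpecΓ.base
  have hWopen : IsOpen W := X.toSpecΓ.isOpenEmbedding.isOpen_range
  let Rg : Set Γ(X, ⊤) := {r | (PrimeSpectrum.basicOpen r : Set (PrimeSpectrum Γ(X, ⊤))) ⊆ W}
  have hspan : Ideal.span (ψ '' Rg) = ⊤ := by
    by_contra hne
    obtain ⟨m, hm, hle⟩ := Ideal.exists_le_maximal _ hne
    let y : Spec (CommRingCat.of B) := ⟨m, hm.isPrime⟩
    have hx : X.toSpecΓ.base (f.base y) ∈ W := ⟨_, rfl⟩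
    obtain ⟨_, ⟨_, ⟨r, rfl⟩, rfl⟩, hxr, hrW⟩ :=
      (PrimeSpectrum.isBasis_basic_opens (R := Γ(X, ⊤))).exists_subset_of_mem_open hx hWopen
    have hr : r ∈ Rg := hrW
    have h1 : f.base y ∈ X.basicOpen r := by
      rw [← Scheme.toSpecΓ_preimage_basicOpen]; exact hxr
    have h2 : y ∈ (Spec (CommRingCat.of B)).basicOpen (f.appTop r) := by
      rw [← Scheme.preimage_basicOpen_top]; exact h1
    rw [basicOpen_eq_of_affine'] at h2
    exact h2 (hle (Ideal.subset_span ⟨r, hr, rfl⟩))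
  have h1mem : (1 : B) ∈ Ideal.span (ψ '' Rg) := by rw [hspan]; trivial
  rw [Finsupp.mem_span_image_iff_linearCombination] at h1mem
  obtain ⟨l, hl, hl1⟩ := h1mem
  rw [Finsupp.linearCombination_apply, Finsupp.sum] at hl1
  -- the continuous evaluation map
  let Φ : (↥l.support → B) → B := fun b => ∑ i : ↥l.support, b i * ψ (i : Γ(X, ⊤))
  have hΦ : Continuous Φ := by
    refine continuous_finsetSum _ fun i _ => ?_
    exact (continuous_apply i).mul continuous_const
  have hopen : IsOpen (Φ ⁻¹' {b : B | IsUnit b}) := hB.preimage hΦ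
  have hne : (Φ ⁻¹' {b : B | IsUnit b}).Nonempty := by
    refine ⟨fun i => l i, ?_⟩
    show IsUnit (Φ fun i => l i)
    have : Φ (fun i => l i) = 1 := by
      rw [← hl1]
      show ∑ i : ↥l.support, l i * ψ i = _
      rw [Finset.sum_coe_sort l.support (fun i => l i * ψ i)]
      rfl
    rw [this]
    exact isUnit_one
  have hdense : DenseRange (Pi.map fun (_ : ↥l.support) => (φ : B₀ → B)) :=
    DenseRange.piMap fun _ => hφ
  obtain ⟨β, hβ⟩ := hdense.exists_mem_open hopen hne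
  have hβ' : IsUnit (∑ i : ↥l.support, φ (β i) * ψ (i : Γ(X, ⊤))) := hβ
  let a : Γ(X, ⊤) := ∑ i : ↥l.support, p' (β i) * (i : Γ(X, ⊤))
  have hψa : ψ a = ∑ i : ↥l.support, φ (β i) * ψ (i : Γ(X, ⊤)) := by
    simp only [a, map_sum, map_mul, hcompat]
  have hunit : IsUnit (f.appTop a) := by
    have h1 : IsUnit (e.inv (ψ a)) := by
      rw [hψa]; exact hβ'.map e.inv.hom
    have h2 : e.inv (ψ a) = f.appTop a := by
      show e.inv (e.hom (f.appTop a)) = _
      exact Iso.hom_inv_id_apply e _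
    rwa [h2] at h1
  have hRg : ∀ i : ↥l.support, (i : Γ(X, ⊤)) ∈ Rg := fun i => hl i.2
  have haW : (PrimeSpectrum.basicOpen a : Set (PrimeSpectrum Γ(X, ⊤))) ⊆ W := by
    intro P hP
    have hP' : a ∉ P.asIdeal := hP
    have : ∃ i : ↥l.support, (i : Γ(X, ⊤)) ∉ P.asIdeal := by
      by_contra hcon
      push Not at hcon
      exact hP' (Ideal.sum_mem _ fun i _ => Ideal.mul_mem_left _ _ (hcon i))
    obtain ⟨i, hi⟩ := this
    exact hRg i hi
  refine ⟨X.basicOpen a, ?_, ?_⟩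
  · rw [← Scheme.Hom.isAffineOpen_iff_of_isOpenImmersion X.toSpecΓ,
      ← Scheme.toSpecΓ_preimage_basicOpen]
    convert! IsAffineOpen.Spec_basicOpen a
    exact SetLike.coe_injective (Set.image_preimage_eq_of_subset haW)
  · rintro _ ⟨y, rfl⟩
    have : y ∈ f ⁻¹ᵁ X.basicOpen a := by
      rw [Scheme.preimage_basicOpen_top, Scheme.basicOpen_of_isUnit _ hunit]
      trivial
    exact this

end Groth.Agent.Helper7.QAffDense
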