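import Mathlib

/-!
# A Nakayama-type lemma and local dual bases of finite projective modules
-/

set_option autoImplicit false
set_option linter.unusedSectionVars false
universe u v w

namespace Groth.Agent.Helper7.QLoc

open Polynomial in
/-- Cayley–Hamilton form of Nakayama: if `a • M ⊆ I • M` for a finite module `M`, then some
`h ≡ a^d (mod I)` kills `M`. -/
theorem exists_kill_of_smul_le {R : Type u} [CommRing R] {M : Type v} [AddCommGroup M] [Module R M]
    [Module.Finite R M] (I : Ideal R) (a : R)
    (ha : ∀ m : M, a • m ∈ (I • ⊤ : Submodule R M)) :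
    ∃ (h : R) (d : ℕ), h - a ^ d ∈ I ∧ ∀ m : M, h • m = 0 := by
  let f : Module.End R M := algebraMap R (Module.End R M) a
  have hf : LinearMap.range f ≤ I • ⊤ := by
    rintro _ ⟨m, rfl⟩
    exact ha m
  obtain ⟨p, hp, -, hc, h0⟩ :=
    LinearMap.exists_monic_and_natDegree_eq_and_coeff_mem_pow_and_aeval_eq_zero R f I hf
  refine ⟨p.eval a, p.natDegree, ?_, fun m => ?_⟩
  · rw [Polynomial.eval_eq_sum_range, Finset.sum_range_succ, hp.coeff_natDegree, one_mul,
      add_sub_cancel_right]
    apply Ideal.sum_mem
    intro i hi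
    have hi' : i < p.natDegree := Finset.mem_range.1 hi
    apply Ideal.mul_mem_right
    have h1 := hc i
    have h2 : I ^ (p.natDegree - i) ≤ I := by
      have : 1 ≤ p.natDegree - i := by omega
      calc I ^ (p.natDegree - i) ≤ I ^ 1 := Ideal.pow_le_pow_right this
        _ = I := pow_one I
    exact h2 h1
  · have h1 : Polynomial.aeval f p = algebraMap R (Module.End R M) (p.eval a) := by
      rw [Polynomial.aeval_algebraMap_apply]
      rfl
    have h2 := DFunLike.congr_fun h0 m
    rw [h1] at h2
    exact h2

section LF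

variable (C : Type u) [CommRing C] (N : Type v) [AddCommGroup N] [Module C N]
  [Module.Finite C N] [Module.Projective C N] (p : Ideal C) [p.IsPrime]

/-- a finite projective module has, near every prime, a family which becomes a basis, together with
coordinate functionals defined over the ring itself -/
theorem exists_local_dual_basis :
    ∃ (r : ℕ) (n : Fin r → N) (g : C) (ξ : Fin r → (N →ₗ[C] C)), g ∉ p ∧
      (∀ i j, ξ i (n j) = if i = j then g else 0) ∧ (∀ y, g • y = ∑ i, ξ i y • n i) := by
  classical
  -- a finite dual basis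
  obtain ⟨k, f, hf⟩ := Module.Finite.exists_fin' C N
  obtain ⟨σ, hσ⟩ := Module.projective_lifting_property f LinearMap.id hf
  let m : Fin k → N := fun a => f (Pi.single a 1)
  let η : Fin k → (N →ₗ[C] C) := fun a => LinearMap.proj a ∘ₗ σ
  have hdual : ∀ y, y = ∑ a, η a y • m a := by
    intro y
    have h1 : f (σ y) = y := DFunLike.congr_fun hσ y
    have h2 : σ y = ∑ a, (σ y) a • (Pi.single a 1 : Fin k → C) := by
      have := (Pi.basisFun C (Fin k)).sum_repr (σ y)
      simpa using this.symm
    conv_lhs => rw [← h1, h2, map_sum]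
    apply Finset.sum_congr rfl
    intro a _
    rw [map_smul]
    rfl
  let Valid : ℕ → Prop := fun r => ∃ (n : Fin r → N) (ξ : Fin r → (N →ₗ[C] C)),
    (Matrix.of fun i j => ξ i (n j)).det ∉ p
  have hV0 : Valid 0 := by
    refine ⟨Fin.elim0, Fin.elim0, ?_⟩
    rw [Matrix.det_fin_zero]
    exact (Ideal.ne_top_iff_one p).1 (Ideal.IsPrime.ne_top ‹_›)
  have hbound : ∀ r, Valid r → r ≤ k := by
    rintro r ⟨n, ξ, hdet⟩
    let φ := algebraMap C p.ResidueField
    let Ξ : Matrix (Fin r) (Fin k) C := Matrix.of fun i a => ξ i (m a)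
    let H : Matrix (Fin k) (Fin r) C := Matrix.of fun a j => η a (n j)
    have hM : (Matrix.of fun i j => ξ i (n j)) = Ξ * H := by
      ext i j
      rw [Matrix.mul_apply, Matrix.of_apply]
      conv_lhs => rw [hdual (n j), map_sum]
      apply Finset.sum_congr rfl
      intro a _
      rw [map_smul, smul_eq_mul, mul_comm]
      rfl
    have h1 : IsUnit ((Ξ * H).map φ) := by
      rw [← RingHom.mapMatrix_apply, Matrix.isUnit_iff_isUnit_det, ← RingHom.map_det, ← hM,
        isUnit_iff_ne_zero]
      intro h0
      exact hdet (Ideal.algebraMap_residueField_eq_zero.1 h0)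
    have h2 := Matrix.rank_of_isUnit _ h1
    rw [Matrix.map_mul] at h2
    have h3 := Matrix.rank_mul_le_right (Ξ.map φ) (H.map φ)
    have h4 := Matrix.rank_le_card_height (H.map φ)
    rw [h2] at h3
    simpa using h3.trans h4
  obtain ⟨r, hr, hmax⟩ : ∃ r, Valid r ∧ ∀ r', Valid r' → r' ≤ r :=
    ⟨Nat.findGreatest Valid k, Nat.findGreatest_spec (P := Valid) (Nat.zero_le k) hV0,
      fun r' hr' => Nat.le_findGreatest (hbound r' hr') hr'⟩
  obtain ⟨n, ξ0, hdet⟩ := hr
  set M : Matrix (Fin r) (Fin r) C := Matrix.of fun i j => ξ0 i (n j) with hMdef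
  set g0 : C := M.det with hg0
  let ξ' : Fin r → (N →ₗ[C] C) := fun i => ∑ l, M.adjugate i l • ξ0 l
  have hξ'n : ∀ i j, ξ' i (n j) = if i = j then g0 else 0 := by
    intro i j
    have h1 : ξ' i (n j) = (M.adjugate * M) i j := by
      rw [Matrix.mul_apply, LinearMap.sum_apply]
      apply Finset.sum_congr rfl
      intro l _
      rw [LinearMap.smul_apply, smul_eq_mul]
      rfl
    rw [h1, Matrix.adjugate_mul, Matrix.smul_apply, Matrix.one_apply, smul_eq_mul]
    split_ifs <;> simp [hg0]
  -- the defect of generation lies in `p N`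
  have hz : ∀ y : N, ∀ a, η a (g0 • y - ∑ i, ξ' i y • n i) ∈ p := by
    intro y a
    set z := g0 • y - ∑ i, ξ' i y • n i with hzdef
    by_contra hna
    have h1 : ∀ i, ξ' i z = 0 := by
      intro i
      rw [hzdef, map_sub, map_smul, map_sum, smul_eq_mul]
      have : ∑ j, ξ' i (ξ' j y • n j) = ξ' i y * g0 := by
        rw [Finset.sum_eq_single i]
        · rw [map_smul, hξ'n, if_pos rfl, smul_eq_mul]
        · intro j _ hji
          rw [map_smul, hξ'n, if_neg (Ne.symm hji), smul_zero]
        · intro h; exact absurd (Finset.mem_univ i) h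
      rw [this]
      ring
    have h2 : ∀ l, ξ0 l z ∈ p := by
      intro l
      have h3 : g0 * ξ0 l z = ∑ i, M l i * ξ' i z := by
        have h4 : ∀ i, ξ' i z = ∑ l', M.adjugate i l' * ξ0 l' z := by
          intro i
          rw [LinearMap.sum_apply]
          apply Finset.sum_congr rfl
          intro l' _
          rw [LinearMap.smul_apply, smul_eq_mul]
        simp only [h4, Finset.mul_sum]
        rw [Finset.sum_comm]
        have h5 : ∀ l', ∑ i, M l i * (M.adjugate i l' * ξ0 l' z) = (M * M.adjugate) l l' * ξ0 l' z := by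
          intro l'
          rw [Matrix.mul_apply, Finset.sum_mul]
          apply Finset.sum_congr rfl
          intro i _
          ring
        simp only [h5]
        rw [Matrix.mul_adjugate, Finset.sum_eq_single l]
        · rw [Matrix.smul_apply, Matrix.one_apply_eq, smul_eq_mul, mul_one]
        · intro l' _ hl'
          rw [Matrix.smul_apply, Matrix.one_apply_ne (Ne.symm hl'), smul_zero, zero_mul]
        · intro h; exact absurd (Finset.mem_univ l) h
      have h6 : g0 * ξ0 l z ∈ p := by
        rw [h3]
        apply Ideal.sum_mem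
        intro i _
        rw [h1 i, mul_zero]
        exact zero_mem _
      exact ((Ideal.IsPrime.mem_or_mem ‹_› h6).resolve_left hdet)
    -- extend the family
    have hV : Valid (r + 1) := by
      refine ⟨Fin.cons z n, Fin.cons (η a) ξ0, ?_⟩
      rw [Matrix.det_succ_column_zero, Fin.sum_univ_succ]
      intro hmem
      have hrest : ∑ i : Fin r, (-1 : C) ^ ((i.succ : Fin (r + 1)) : ℕ) *
          (Matrix.of fun i j => (Fin.cons (η a) ξ0 : Fin (r + 1) → (N →ₗ[C] C)) i
            ((Fin.cons z n : Fin (r + 1) → N) j)) i.succ 0 *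
          ((Matrix.of fun i j => (Fin.cons (η a) ξ0 : Fin (r + 1) → (N →ₗ[C] C)) i
            ((Fin.cons z n : Fin (r + 1) → N) j)).submatrix i.succ.succAbove Fin.succ).det ∈ p := by
        apply Ideal.sum_mem
        intro i _
        apply Ideal.mul_mem_right
        apply Ideal.mul_mem_left
        rw [Matrix.of_apply, Fin.cons_succ, Fin.cons_zero]
        exact h2 i
      have hfirst := (Ideal.add_mem_iff_left p hrest).1 hmem
      have hsub : ((Matrix.of fun i j => (Fin.cons (η a) ξ0 : Fin (r + 1) → (N →ₗ[C] C)) i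
            ((Fin.cons z n : Fin (r + 1) → N) j)).submatrix (0 : Fin (r + 1)).succAbove Fin.succ) = M := by
        ext i j
        rw [Matrix.submatrix_apply, Matrix.of_apply, Fin.succAbove_zero, Fin.cons_succ, Fin.cons_succ]
        rfl
      rw [hsub, Matrix.of_apply, Fin.cons_zero, Fin.cons_zero, Fin.val_zero, pow_zero, one_mul] at hfirst
      rcases Ideal.IsPrime.mem_or_mem ‹_› hfirst with h | h
      · exact hna h
      · exact hdet h
    have := hmax _ hV
    omega
  -- Nakayama
  let N1 : Submodule C N := Submodule.span C (Set.range n)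
  have hQ : ∀ q : N ⧸ N1, g0 • q ∈ (p • ⊤ : Submodule C (N ⧸ N1)) := by
    intro q
    obtain ⟨y, rfl⟩ := Submodule.Quotient.mk_surjective N1 q
    set z := g0 • y - ∑ i, ξ' i y • n i with hzdef
    have h1 : g0 • (Submodule.Quotient.mk y : N ⧸ N1) = Submodule.Quotient.mk z := by
      rw [hzdef, Submodule.Quotient.mk_sub, Submodule.Quotient.mk_smul, eq_comm, sub_eq_self,
        Submodule.Quotient.mk_eq_zero]
      apply Submodule.sum_mem
      intro i _
      exact Submodule.smul_mem _ _ (Submodule.subset_span ⟨i, rfl⟩)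
    rw [h1, ← Submodule.mkQ_apply]
    have h2 : N1.mkQ z = ∑ a, η a z • N1.mkQ (m a) := by
      conv_lhs => rw [hdual z]
      rw [map_sum]
      simp only [map_smul]
    rw [h2]
    apply Submodule.sum_mem
    intro a _
    exact Submodule.smul_mem_smul (hz y a) Submodule.mem_top
  obtain ⟨h, d, hh1, hh2⟩ := exists_kill_of_smul_le (M := N ⧸ N1) p g0 hQ
  have hhp : h ∉ p := by
    intro hmem
    have : g0 ^ d ∈ p := by
      have := Ideal.sub_mem p hmem hh1
      simpa using this
    exact hdet (Ideal.IsPrime.mem_of_pow_mem ‹_› d this)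
  have hN1 : ∀ y : N, h • y ∈ N1 := by
    intro y
    have := hh2 (Submodule.Quotient.mk y)
    rwa [← Submodule.Quotient.mk_smul, Submodule.Quotient.mk_eq_zero] at this
  refine ⟨r, n, h * g0, fun i => h • ξ' i, ?_, ?_, ?_⟩
  · intro hmem
    rcases Ideal.IsPrime.mem_or_mem ‹_› hmem with h' | h'
    · exact hhp h'
    · exact hdet h'
  · intro i j
    rw [LinearMap.smul_apply, hξ'n, smul_eq_mul]
    split_ifs <;> simp
  · intro y
    obtain ⟨c, hc⟩ := (Submodule.mem_span_range_iff_exists_fun C).1 (hN1 y)
    have h1 : ∀ i, ξ' i (h • y) = c i * g0 := by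
      intro i
      rw [← hc, map_sum, Finset.sum_eq_single i]
      · rw [map_smul, hξ'n, if_pos rfl, smul_eq_mul]
      · intro j _ hji
        rw [map_smul, hξ'n, if_neg (Ne.symm hji), smul_zero]
      · intro h'; exact absurd (Finset.mem_univ i) h'
    have h2 : (h * g0) • y = g0 • (h • y) := by rw [mul_comm, mul_smul]
    rw [h2]
    conv_lhs => rw [← hc, Finset.smul_sum]
    apply Finset.sum_congr rfl
    intro i _
    rw [LinearMap.smul_apply, smul_eq_mul,
      show h * ξ' i y = c i * g0 from by rw [← h1 i, map_smul, smul_eq_mul], smul_smul, mul_comm]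

end LF

end Groth.Agent.Helper7.QLoc
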