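import Mathlib
import Groth.Prelude.Def_PP16
import Groth.Agent.Helper7.QLoc1
import Groth.Agent.Helper7.QLoc2
import Groth.Agent.Helper7.SymT8

/-!
# Quasi-regular ideals: from the symmetric-power criterion to local quasi-regular generators
-/

set_option autoImplicit false
set_option linter.unusedSectionVars false
universe u v w

namespace Groth.Agent.Helper7.QLoc

open PP16 SymT

section Claim

variable {R : Type u} [CommRing R] (J : Ideal R) {ι : Type u} [Fintype ι]
  {r : ℕ} (x : Fin r → ↥J)

/-- multi-indices of degree `|ι|` come from functions -/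
lemma exists_fun_of_degree (d : Fin r →₀ ℕ) (hd : d.degree = Fintype.card ι) :
    ∃ e : ι → Fin r, cnt e = d := by
  obtain ⟨e, he⟩ := exists_cnt_eq (ι := ι) (fun l => d l) (by
    rw [← hd]; exact (Finsupp.degree_eq_sum d).symm)
  exact ⟨e, Finsupp.ext he⟩

lemma prod_comp_eq_eval_monomial (e : ι → Fin r) :
    ∏ j, ((x (e j) : ↥J) : R) =
      MvPolynomial.eval (fun i => (x i : R)) (MvPolynomial.monomial (cnt e) (1 : R)) := by
  rw [MvPolynomial.eval_monomial, one_mul, prod_comp_eq_prod_pow (fun i => (x i : R)) e,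
    Finsupp.prod_fintype]
  intro i
  exact pow_zero _

lemma exists_choice (G : MvPolynomial (Fin r) R) (hG : G.IsHomogeneous (Fintype.card ι)) :
    G = 0 ∨ ∃ e : (Fin r →₀ ℕ) → (ι → Fin r), ∀ d ∈ G.support, cnt (e d) = d := by
  classical
  have hdeg : ∀ d ∈ G.support, ∃ e : ι → Fin r, cnt e = d := by
    intro d hd
    apply exists_fun_of_degree
    by_contra h
    exact (MvPolynomial.mem_support_iff.1 hd) (hG.coeff_eq_zero h)
  rcases isEmpty_or_nonempty (ι → Fin r) with hE | hE
  · left
    rw [← MvPolynomial.support_eq_empty]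
    by_contra hne
    obtain ⟨d, hd⟩ := Finset.nonempty_iff_ne_empty.2 hne
    obtain ⟨e, -⟩ := hdeg d hd
    exact hE.false e
  · right
    choose! e he using hdeg
    exact ⟨e, he⟩

/-- the value of `Sym^n(J/J²) → J^n/J^(n+1)` on the element attached to a form of degree `n` -/
lemma exists_rep_Ψf (G : MvPolynomial (Fin r) R) (hG : G.IsHomogeneous (Fintype.card ι)) :
    ∃ y : ↥(J ^ Fintype.card ι), (y : R) = MvPolynomial.eval (fun i => (x i : R)) G ∧
      symToGrJ R J ι (Ψf (ι := ι) (fun i => J.toCotangent (x i)) G) = qJ R J ι y := by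
  classical
  rcases exists_choice (ι := ι) G hG with rfl | ⟨e, he⟩
  · exact ⟨0, by rw [map_zero]; rfl, by rw [map_zero, map_zero, map_zero]⟩
  refine ⟨∑ d ∈ G.support, G.coeff d • prodI J (fun j => x (e d j)), ?_, ?_⟩
  · rw [AddSubmonoidClass.coe_finsetSum]
    conv_rhs => rw [← MvPolynomial.support_sum_monomial_coeff G, map_sum]
    apply Finset.sum_congr rfl
    intro d hd
    have h1 : MvPolynomial.monomial d (G.coeff d) =
        MvPolynomial.C (G.coeff d) * MvPolynomial.monomial (cnt (e d)) (1 : R) := by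
      rw [he d hd, MvPolynomial.C_mul_monomial, mul_one]
    rw [h1, map_mul, MvPolynomial.eval_C, ← prod_comp_eq_eval_monomial]
    rfl
  · conv_lhs => rw [← MvPolynomial.support_sum_monomial_coeff G, map_sum, map_sum]
    rw [map_sum]
    apply Finset.sum_congr rfl
    intro d hd
    have h1 : MvPolynomial.monomial d (G.coeff d) =
        G.coeff d • MvPolynomial.monomial (cnt (e d)) (1 : R) := by
      rw [he d hd, MvPolynomial.smul_monomial, smul_eq_mul, mul_one]
    rw [h1, map_smul, map_smul, map_smul, Ψf_monomial, symToGrJ_tprod']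

variable {C : Type u} [CommRing C] [Algebra R C] {N : Type v} [AddCommGroup N] [Module R N]
  (w : Fin r → N) (ℓ : N →ₗ[R] MvPolynomial (Fin r) C) (g : C)
  (hℓ : ∀ j, ℓ (w j) = MvPolynomial.C g * MvPolynomial.X j)

include hℓ in
lemma prodLift_Ψf (G : MvPolynomial (Fin r) R) (hG : G.IsHomogeneous (Fintype.card ι)) :
    prodLift (ι := ι) ℓ (Ψf (ι := ι) w G) =
      MvPolynomial.C (g ^ Fintype.card ι) * MvPolynomial.map (algebraMap R C) G := by
  classical
  rcases exists_choice (ι := ι) G hG with rfl | ⟨e, he⟩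
  · rw [map_zero, map_zero, map_zero, mul_zero]
  conv_lhs => rw [← MvPolynomial.support_sum_monomial_coeff G, map_sum, map_sum]
  conv_rhs => rw [← MvPolynomial.support_sum_monomial_coeff G, map_sum, Finset.mul_sum]
  apply Finset.sum_congr rfl
  intro d hd
  have h1 : MvPolynomial.monomial d (G.coeff d) =
      G.coeff d • MvPolynomial.monomial (cnt (e d)) (1 : R) := by
    rw [he d hd, MvPolynomial.smul_monomial, smul_eq_mul, mul_one]
  rw [h1, map_smul, map_smul, Ψf_monomial, prodLift_tprod]
  simp only [hℓ]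
  rw [Finset.prod_mul_distrib, Finset.prod_const, Finset.card_univ, prod_X_eq_monomial, he d hd,
    ← MvPolynomial.C_pow, MvPolynomial.C_mul_monomial, MvPolynomial.smul_monomial,
    MvPolynomial.smul_monomial, MvPolynomial.map_monomial, MvPolynomial.C_mul_monomial]
  congr 1
  rw [Algebra.smul_def, smul_eq_mul, mul_one, mul_one]
  ring

end Claim

section LocalData

variable (R : Type u) [CommRing R] (J : Ideal R)

/-- local generators of `J` with coordinate functionals on `J/J²` -/
lemma exists_local_data (hfg : J.FG) (hproj : Module.Projective (R ⧸ J) J.Cotangent)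
    (P : Ideal R) [P.IsPrime] (hJP : J ≤ P) :
    ∃ (r : ℕ) (x : Fin r → ↥J) (g0 g1 : R) (ξ : Fin r → (J.Cotangent →ₗ[R ⧸ J] R ⧸ J)),
      g0 ∉ P ∧ g1 ∉ P ∧
      (∀ i j, ξ i (J.toCotangent (x j)) = if i = j then Ideal.Quotient.mk J g0 else 0) ∧
      (∀ y ∈ J, g1 * y ∈ Ideal.span (Set.range fun i => (x i : R))) := by
  classical
  haveI : Module.Finite R ↥J := Module.Finite.iff_fg.2 hfg
  haveI : Module.Finite R J.Cotangent :=
    Module.Finite.of_surjective J.toCotangent J.toCotangent_surjective
  haveI : Module.Finite (R ⧸ J) J.Cotangent :=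
    Module.Finite.of_restrictScalars_finite R (R ⧸ J) J.Cotangent
  haveI hp : (P.map (Ideal.Quotient.mk J)).IsPrime :=
    Ideal.map_isPrime_of_surjective Ideal.Quotient.mk_surjective (by rw [Ideal.mk_ker]; exact hJP)
  obtain ⟨r, n, gb, ξ, hgb, h1, h2⟩ :=
    exists_local_dual_basis (R ⧸ J) J.Cotangent (P.map (Ideal.Quotient.mk J))
  obtain ⟨g0, rfl⟩ := Ideal.Quotient.mk_surjective gb
  choose x hx using fun i => J.toCotangent_surjective (n i)
  have hg0 : g0 ∉ P := fun h => hgb (Ideal.mem_map_of_mem _ h)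
  -- the quotient module `J/(x)`
  set X : Ideal R := Ideal.span (Set.range fun i => (x i : R)) with hX
  let Xs : Submodule R ↥J := Submodule.comap J.subtype X
  have hsmul : ∀ (c : R) (m : J.Cotangent), (Ideal.Quotient.mk J c) • m = c • m := by
    intro c m
    rw [← Ideal.Quotient.algebraMap_eq, algebraMap_smul]
  have hQ : ∀ q : ↥J ⧸ Xs, g0 • q ∈ (J • ⊤ : Submodule R (↥J ⧸ Xs)) := by
    intro q
    obtain ⟨y, rfl⟩ := Submodule.Quotient.mk_surjective Xs q
    choose c hc using fun i => Ideal.Quotient.mk_surjective (ξ i (J.toCotangent y))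
    set w : ↥J := g0 • y - ∑ i, c i • x i with hw
    have hw0 : J.toCotangent w = 0 := by
      rw [hw, map_sub, map_smul, map_sum, sub_eq_zero, ← hsmul, h2]
      apply Finset.sum_congr rfl
      intro i _
      rw [map_smul, hx, ← hc, hsmul]
    have hw1 : w ∈ (J • ⊤ : Submodule R ↥J) :=
      (Submodule.Quotient.mk_eq_zero (J • ⊤ : Submodule R ↥J)).1 hw0
    have hw2 : g0 • (Submodule.Quotient.mk y : ↥J ⧸ Xs) = Xs.mkQ w := by
      rw [hw, map_sub, map_smul, map_sum, Submodule.mkQ_apply, eq_comm, sub_eq_self]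
      apply Finset.sum_eq_zero
      intro i _
      rw [map_smul, Submodule.mkQ_apply, (Submodule.Quotient.mk_eq_zero Xs).2, smul_zero]
      exact Ideal.subset_span ⟨i, rfl⟩
    rw [hw2]
    have h3 : Xs.mkQ w ∈ Submodule.map Xs.mkQ (J • ⊤ : Submodule R ↥J) :=
      Submodule.mem_map_of_mem hw1
    rw [Submodule.map_smul''] at h3
    exact Submodule.smul_mono le_rfl le_top h3
  obtain ⟨g1, d, hg1, hkill⟩ := exists_kill_of_smul_le (M := ↥J ⧸ Xs) J g0 hQ
  have hg1P : g1 ∉ P := by
    intro hmem
    have : g0 ^ d ∈ P := by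
      have := Ideal.sub_mem P hmem (hJP hg1)
      simpa using this
    exact hg0 (Ideal.IsPrime.mem_of_pow_mem ‹_› d this)
  refine ⟨r, x, g0, g1, ξ, hg0, hg1P, ?_, ?_⟩
  · intro i j
    rw [hx, h1]
  · intro y hy
    have := hkill (Submodule.Quotient.mk ⟨y, hy⟩)
    rw [← Submodule.Quotient.mk_smul, Submodule.Quotient.mk_eq_zero] at this
    exact this

end LocalData

section Core

variable (R : Type u) [CommRing R] (J : Ideal R)

/-- the key extraction of coefficients: a form of degree `n ≥ 1` in local generators whose value lies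
in `J^(n+1)` has its coefficients in `J` up to the factor `g0^n` -/
lemma coeff_mem_of_eval_mem (ι : Type u) [Fintype ι] [Nonempty ι]
    (hinj : Function.Injective (symToGrJ R J ι))
    {r : ℕ} (x : Fin r → ↥J) (g0 : R) (ξ : Fin r → (J.Cotangent →ₗ[R ⧸ J] R ⧸ J))
    (hξ : ∀ i j, ξ i (J.toCotangent (x j)) = if i = j then Ideal.Quotient.mk J g0 else 0)
    (G : MvPolynomial (Fin r) R) (hG : G.IsHomogeneous (Fintype.card ι))
    (hev : MvPolynomial.eval (fun i => (x i : R)) G ∈ J ^ (Fintype.card ι + 1)) (d : Fin r →₀ ℕ) :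
    g0 ^ Fintype.card ι * G.coeff d ∈ J := by
  classical
  obtain ⟨y, hy1, hy2⟩ := exists_rep_Ψf (ι := ι) J x G hG
  have ht : Ψf (ι := ι) (fun i => J.toCotangent (x i)) G = 0 := by
    apply hinj
    rw [hy2, map_zero, qJ_eq_zero_iff, hy1]
    exact hev
  let ℓ : J.Cotangent →ₗ[R] MvPolynomial (Fin r) (R ⧸ J) :=
    { toFun := fun m => ∑ i, MvPolynomial.C (ξ i m) * MvPolynomial.X i
      map_add' := fun a b => by
        simp only [map_add, add_mul]
        rw [Finset.sum_add_distrib]
      map_smul' := fun c a => by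
        simp only [RingHom.id_apply]
        rw [Finset.smul_sum]
        apply Finset.sum_congr rfl
        intro i _
        have h1 : ξ i (c • a) = Ideal.Quotient.mk J c * ξ i a := by
          rw [← algebraMap_smul (R ⧸ J) c a, map_smul, smul_eq_mul, Ideal.Quotient.algebraMap_eq]
        rw [h1, map_mul, mul_assoc, Algebra.smul_def, MvPolynomial.algebraMap_apply,
          Ideal.Quotient.algebraMap_eq] }
  have hℓ : ∀ j, ℓ (J.toCotangent (x j)) =
      MvPolynomial.C (Ideal.Quotient.mk J g0) * MvPolynomial.X j := by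
    intro j
    change ∑ i, MvPolynomial.C (ξ i (J.toCotangent (x j))) * MvPolynomial.X i = _
    rw [Finset.sum_eq_single j]
    · rw [hξ, if_pos rfl]
    · intro i _ hij
      rw [hξ, if_neg hij, map_zero, zero_mul]
    · intro h; exact absurd (Finset.mem_univ j) h
  have h1 := prodLift_Ψf (ι := ι) (fun i => J.toCotangent (x i)) ℓ (Ideal.Quotient.mk J g0) hℓ G hG
  rw [ht, map_zero] at h1
  have h2 := congrArg (MvPolynomial.coeff d) h1
  rw [MvPolynomial.coeff_zero, MvPolynomial.coeff_C_mul, MvPolynomial.coeff_map,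
    Ideal.Quotient.algebraMap_eq, ← map_pow, ← map_mul] at h2
  exact Ideal.Quotient.eq_zero_iff_mem.1 h2.symm

end Core

end Groth.Agent.Helper7.QLoc
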