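import Mathlib
import Groth.Prelude.Def_PP16
import Groth.Agent.Helper7.QLoc3

/-!
# Quasi-regular ideals: clearing denominators; the criterion implies local quasi-regularity
-/

set_option autoImplicit false
set_option linter.unusedSectionVars false
universe u v w

namespace Groth.Agent.Helper7.QLoc

open PP16 SymT

section Clear

variable {R : Type u} [CommRing R] (J : Ideal R) (S : Type u) [CommRing S] [Algebra R S]
  {r : ℕ} (x : Fin r → R)

/-- quasi-regularity of the images of `x` in `R[1/g]` can be tested on forms with coefficients in `R` -/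
lemma isQuasiRegular_of_forms (g : R) [IsLocalization.Away g S]
    (hspan : Ideal.span (Set.range fun i => algebraMap R S (x i)) = J.map (algebraMap R S))
    (H : ∀ n : ℕ, 0 < n → ∀ G : MvPolynomial (Fin r) R, G.IsHomogeneous n →
      MvPolynomial.eval x G ∈ J ^ (n + 1) → ∀ d, algebraMap R S (G.coeff d) ∈ J.map (algebraMap R S)) :
    CAlgX.IsQuasiRegular (fun i => algebraMap R S (x i)) := by
  classical
  intro n F hF hev d
  rw [hspan] at hev ⊢
  rcases Nat.eq_zero_or_pos n with hn | hn
  · subst hn
    by_cases hd : d = 0
    · subst hd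
      have h1 : F.totalDegree = 0 := Nat.le_zero.1 hF.totalDegree_le
      have h2 := (MvPolynomial.totalDegree_eq_zero_iff_eq_C).1 h1
      rw [h2, MvPolynomial.eval_C, zero_add, pow_one] at hev
      exact hev
    · have : d.degree ≠ 0 := by
        rw [Ne, Finsupp.degree_eq_zero_iff]
        exact hd
      rw [hF.coeff_eq_zero this]
      exact zero_mem _
  · -- clear denominators
    obtain ⟨b, hb⟩ := IsLocalization.exist_integer_multiples (Submonoid.powers g) F.support
      (fun d => F.coeff d)
    have hbu : IsUnit (algebraMap R S (b : R)) := IsLocalization.map_units S b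
    choose c hc using hb
    let c' : (Fin r →₀ ℕ) → R := fun d => if h : d ∈ F.support then c d h else 0
    have hc' : ∀ d, algebraMap R S (c' d) = algebraMap R S (b : R) * F.coeff d := by
      intro d
      by_cases h : d ∈ F.support
      · simp only [c', dif_pos h]
        rw [hc d h, Algebra.smul_def]
      · simp only [c', dif_neg h]
        rw [MvPolynomial.notMem_support_iff.1 h, map_zero, mul_zero]
    let G0 : MvPolynomial (Fin r) R := ∑ d ∈ F.support, MvPolynomial.monomial d (c' d)
    have hG0c : ∀ d, G0.coeff d = c' d := by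
      intro d
      simp only [G0, MvPolynomial.coeff_sum, MvPolynomial.coeff_monomial]
      rw [Finset.sum_ite_eq']
      split_ifs with h
      · rfl
      · simp only [c', dif_neg h]
    have hmap : MvPolynomial.map (algebraMap R S) G0 = MvPolynomial.C (algebraMap R S (b : R)) * F := by
      ext d
      rw [MvPolynomial.coeff_map, hG0c, hc', MvPolynomial.coeff_C_mul]
    have hG0 : G0.IsHomogeneous n := by
      apply MvPolynomial.IsHomogeneous.sum
      intro d hd
      apply MvPolynomial.isHomogeneous_monomial
      by_contra h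
      exact (MvPolynomial.mem_support_iff.1 hd) (hF.coeff_eq_zero h)
    have hev0 : algebraMap R S (MvPolynomial.eval x G0) =
        algebraMap R S (b : R) * MvPolynomial.eval (fun i => algebraMap R S (x i)) F := by
      have h1 : algebraMap R S (MvPolynomial.eval x G0) =
          MvPolynomial.eval (fun i => algebraMap R S (x i)) (MvPolynomial.map (algebraMap R S) G0) := by
        rw [MvPolynomial.eval_map, ← MvPolynomial.coe_eval₂Hom]
        have := MvPolynomial.map_eval₂Hom (RingHom.id R) x (algebraMap R S) G0
        rw [RingHom.comp_id] at this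
        exact this
      rw [h1, hmap, map_mul, MvPolynomial.eval_C]
    have h2 : algebraMap R S (MvPolynomial.eval x G0) ∈ (J ^ (n + 1)).map (algebraMap R S) := by
      rw [hev0, Ideal.map_pow]
      exact Ideal.mul_mem_left _ _ hev
    obtain ⟨m, hm, hmem⟩ :=
      (IsLocalization.algebraMap_mem_map_algebraMap_iff (Submonoid.powers g) S _ _).1 h2
    have hmu : IsUnit (algebraMap R S m) := IsLocalization.map_units S ⟨m, hm⟩
    have hG : (MvPolynomial.C m * G0).IsHomogeneous n := by
      have := (MvPolynomial.isHomogeneous_C (Fin r) m).mul hG0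
      rwa [zero_add] at this
    have hevG : MvPolynomial.eval x (MvPolynomial.C m * G0) ∈ J ^ (n + 1) := by
      rw [map_mul, MvPolynomial.eval_C]
      exact hmem
    have h3 := H n hn _ hG hevG d
    rw [MvPolynomial.coeff_C_mul, hG0c, map_mul, hc', Ideal.unit_mul_mem_iff_mem _ hmu,
      Ideal.unit_mul_mem_iff_mem _ hbu] at h3
    exact h3

end Clear

section Main

variable (R : Type u) [CommRing R] (J : Ideal R)

/-- the symmetric-power criterion implies local quasi-regularity -/
theorem isLocallyQuasiRegular_of (hfg : J.FG) (hproj : Module.Projective (R ⧸ J) J.Cotangent)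
    (hinj : ∀ (ι : Type u) [Fintype ι] [Nonempty ι], Function.Injective (symToGrJ R J ι)) :
    IsLocallyQuasiRegular R J := by
  intro P _ hJP
  obtain ⟨r, x, g0, g1, ξ, hg0, hg1, hξ, hgen⟩ := exists_local_data R J hfg hproj P hJP
  have hu : IsUnit (algebraMap R (Localization.Away (g0 * g1)) (g0 * g1)) :=
    IsLocalization.Away.algebraMap_isUnit (g0 * g1)
  rw [map_mul] at hu
  have hu0 : IsUnit (algebraMap R (Localization.Away (g0 * g1)) g0) := isUnit_of_mul_isUnit_left hu
  have hu1 : IsUnit (algebraMap R (Localization.Away (g0 * g1)) g1) := isUnit_of_mul_isUnit_right hu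
  have hspan : Ideal.span (Set.range fun i => algebraMap R (Localization.Away (g0 * g1)) (x i)) =
      J.map (algebraMap R (Localization.Away (g0 * g1))) := by
    apply le_antisymm
    · rw [Ideal.span_le]
      rintro _ ⟨i, rfl⟩
      exact Ideal.mem_map_of_mem _ (x i).2
    · rw [Ideal.map_le_iff_le_comap]
      intro y hy
      rw [Ideal.mem_comap]
      have h1 := Ideal.mem_map_of_mem (algebraMap R (Localization.Away (g0 * g1))) (hgen y hy)
      rw [Ideal.map_span, ← Set.range_comp, map_mul, Ideal.unit_mul_mem_iff_mem _ hu1] at h1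
      exact h1
  refine ⟨g0 * g1, fun h => (Ideal.IsPrime.mem_or_mem ‹_› h).elim hg0 hg1, r,
    fun i => algebraMap R (Localization.Away (g0 * g1)) (x i), ?_, hspan⟩
  apply isQuasiRegular_of_forms J (Localization.Away (g0 * g1)) (fun i => (x i : R)) (g0 * g1) hspan
  intro n hn G hG hev d
  haveI : Nonempty (ULift.{u} (Fin n)) := ⟨ULift.up ⟨0, hn⟩⟩
  have hc := card_ulift_fin.{u} n
  have h1 := coeff_mem_of_eval_mem R J (ULift.{u} (Fin n)) (hinj _) x g0 ξ hξ G
    (by rw [hc]; exact hG) (by rw [hc]; exact hev) d
  rw [hc] at h1
  have h2 := Ideal.mem_map_of_mem (algebraMap R (Localization.Away (g0 * g1))) h1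
  rw [map_mul, map_pow, Ideal.unit_mul_mem_iff_mem _ (hu0.pow n)] at h2
  exact h2

end Main

end Groth.Agent.Helper7.QLoc
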