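import Mathlib
import Groth.Prelude.Def_PP16
import Groth.Agent.Helper7.QLoc4
import Groth.Agent.S3824

/-!
# Quasi-regular ideals: consequences of local quasi-regularity (local data, finite generation)
-/

set_option autoImplicit false
set_option linter.unusedSectionVars false
universe u v w

namespace Groth.Agent.Helper7.QLoc

open PP16 SymT

section Data

variable (R : Type u) [CommRing R] (J : Ideal R)

/-- quasi-regular local generators may be taken in `J` itself -/
lemma exists_qr_data (hq : IsLocallyQuasiRegular R J) (P : Ideal R) [P.IsPrime] (hJP : J ≤ P) :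
    ∃ (g : R) (r : ℕ) (x : Fin r → ↥J), g ∉ P ∧
      CAlgX.IsQuasiRegular (fun i => algebraMap R (Localization.Away g) (x i)) ∧
      Ideal.span (Set.range fun i => algebraMap R (Localization.Away g) (x i)) =
        J.map (algebraMap R (Localization.Away g)) := by
  obtain ⟨g, hg, r, f, hqr, hspan⟩ := hq P hJP
  have hf : ∀ i, f i ∈ J.map (algebraMap R (Localization.Away g)) := by
    intro i
    rw [← hspan]
    exact Ideal.subset_span ⟨i, rfl⟩
  choose ys hys using fun i =>
    (IsLocalization.mem_map_algebraMap_iff (Submonoid.powers g) (Localization.Away g)).1 (hf i)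
  have hu : ∀ i, IsUnit (algebraMap R (Localization.Away g) ((ys i).2 : R)) :=
    fun i => IsLocalization.map_units _ (ys i).2
  have hspan' : Ideal.span (Set.range fun i => algebraMap R (Localization.Away g) ((ys i).1 : R)) =
      Ideal.span (Set.range f) := by
    apply le_antisymm
    · rw [Ideal.span_le]
      rintro _ ⟨i, rfl⟩
      change algebraMap R (Localization.Away g) ((ys i).1 : R) ∈ Ideal.span (Set.range f)
      rw [← hys i]
      exact Ideal.mul_mem_right _ _ (Ideal.subset_span ⟨i, rfl⟩)
    · rw [Ideal.span_le]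
      rintro _ ⟨i, rfl⟩
      have h1 : f i * algebraMap R (Localization.Away g) ((ys i).2 : R) ∈
          Ideal.span (Set.range fun i => algebraMap R (Localization.Away g) ((ys i).1 : R)) := by
        rw [hys i]
        exact Ideal.subset_span ⟨i, rfl⟩
      rwa [Ideal.mul_unit_mem_iff_mem _ (hu i)] at h1
  refine ⟨g, r, fun i => (ys i).1, hg, ?_, hspan'.trans hspan⟩
  exact Groth.Agent.S3824.result f _ hqr hspan'

variable {R J}

/-- generation of `J` up to powers of `g` -/
lemma gen_of_span {g : R} {r : ℕ} (x : Fin r → ↥J)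
    (hspan : Ideal.span (Set.range fun i => algebraMap R (Localization.Away g) (x i)) =
      J.map (algebraMap R (Localization.Away g))) (y : R) (hy : y ∈ J) :
    ∃ k : ℕ, g ^ k * y ∈ Ideal.span (Set.range fun i => (x i : R)) := by
  have h1 : algebraMap R (Localization.Away g) y ∈
      (Ideal.span (Set.range fun i => (x i : R))).map (algebraMap R (Localization.Away g)) := by
    rw [Ideal.map_span, ← Set.range_comp]
    change _ ∈ Ideal.span (Set.range fun i => algebraMap R (Localization.Away g) (x i))
    rw [hspan]
    exact Ideal.mem_map_of_mem _ hy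
  obtain ⟨m, ⟨k, rfl⟩, hm⟩ :=
    (IsLocalization.algebraMap_mem_map_algebraMap_iff (Submonoid.powers g) (Localization.Away g) _ _).1 h1
  exact ⟨k, hm⟩

/-- quasi-regularity, read in `R` -/
lemma forms_of_qr {g : R} {r : ℕ} (x : Fin r → ↥J)
    (hqr : CAlgX.IsQuasiRegular (fun i => algebraMap R (Localization.Away g) (x i)))
    (hspan : Ideal.span (Set.range fun i => algebraMap R (Localization.Away g) (x i)) =
      J.map (algebraMap R (Localization.Away g)))
    (n : ℕ) (G : MvPolynomial (Fin r) R) (hG : G.IsHomogeneous n)
    (hev : MvPolynomial.eval (fun i => (x i : R)) G ∈ J ^ (n + 1)) (d : Fin r →₀ ℕ) :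
    ∃ k : ℕ, g ^ k * G.coeff d ∈ J := by
  have h1 := hqr n (MvPolynomial.map (algebraMap R (Localization.Away g)) G)
    (hG.map _) (by
      rw [hspan, ← Ideal.map_pow]
      have h2 : MvPolynomial.eval (fun i => algebraMap R (Localization.Away g) (x i))
          (MvPolynomial.map (algebraMap R (Localization.Away g)) G) =
          algebraMap R (Localization.Away g) (MvPolynomial.eval (fun i => (x i : R)) G) := by
        rw [MvPolynomial.eval_map, ← MvPolynomial.coe_eval₂Hom]
        have := MvPolynomial.map_eval₂Hom (RingHom.id R) (fun i => (x i : R))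
          (algebraMap R (Localization.Away g)) G
        rw [RingHom.comp_id] at this
        exact this.symm
      rw [h2]
      exact Ideal.mem_map_of_mem _ hev) d
  rw [hspan, MvPolynomial.coeff_map] at h1
  obtain ⟨m, ⟨k, rfl⟩, hm⟩ :=
    (IsLocalization.algebraMap_mem_map_algebraMap_iff (Submonoid.powers g) (Localization.Away g) _ _).1 h1
  exact ⟨k, hm⟩

end Data

section FG

variable (R : Type u) [CommRing R] (J : Ideal R)

theorem fg_of_isLocallyQuasiRegular (hq : IsLocallyQuasiRegular R J) : J.FG := by
  let t : Set R := {g | (∃ (r : ℕ) (f : Fin r → Localization.Away g),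
    Ideal.span (Set.range f) = J.map (algebraMap R (Localization.Away g))) ∨ g ∈ J}
  have ht : Ideal.span t = ⊤ := by
    by_contra hne
    obtain ⟨m, hm, hle⟩ := Ideal.exists_le_maximal _ hne
    haveI := hm.isPrime
    by_cases hJm : J ≤ m
    · obtain ⟨g, hg, r, f, -, hspan⟩ := hq m hJm
      exact hg (hle (Ideal.subset_span (Or.inl ⟨r, f, hspan⟩)))
    · obtain ⟨g, hgJ, hgm⟩ := SetLike.not_le_iff_exists.1 hJm
      exact hgm (hle (Ideal.subset_span (Or.inr hgJ)))
  apply Ideal.fg_of_localizationSpan t ht
  rintro ⟨g, hg⟩
  rcases hg with ⟨r, f, hspan⟩ | hgJ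
  · change (Ideal.map (algebraMap R (Localization.Away g)) J).FG
    rw [← hspan]
    exact ⟨(Set.finite_range f).toFinset, by simp⟩
  · have : J.map (algebraMap R (Localization.Away g)) = ⊤ := by
      apply Ideal.eq_top_of_isUnit_mem _ (Ideal.mem_map_of_mem _ hgJ)
      exact IsLocalization.Away.algebraMap_isUnit g
    change (Ideal.map (algebraMap R (Localization.Away g)) J).FG
    rw [this]
    exact ⟨{1}, by simp⟩

end FG

end Groth.Agent.Helper7.QLoc
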