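import Mathlib
import Groth.Prelude.Def_PP16
import Groth.Agent.Helper7.QLoc5

/-!
# Quasi-regular ideals: local quasi-regularity implies `Sym^n(J/J²) ≅ J^n/J^(n+1)`
-/

set_option autoImplicit false
set_option linter.unusedSectionVars false
universe u v w

namespace Groth.Agent.Helper7.QLoc

open PP16 SymT

section Uniform

variable {R : Type u} [CommRing R]

/-- a uniform exponent for finitely many elements -/
lemma exists_uniform_pow {α : Type*} (s : Finset α) (g : R) (I : Ideal R) (c : α → R)
    (h : ∀ a ∈ s, ∃ k : ℕ, g ^ k * c a ∈ I) : ∃ K : ℕ, ∀ a ∈ s, g ^ K * c a ∈ I := by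
  classical
  induction s using Finset.induction_on with
  | empty => exact ⟨0, fun a ha => absurd ha (Finset.notMem_empty a)⟩
  | insert a s ha ih =>
    obtain ⟨K, hK⟩ := ih (fun b hb => h b (Finset.mem_insert_of_mem hb))
    obtain ⟨k, hk⟩ := h a (Finset.mem_insert_self a s)
    refine ⟨K + k, fun b hb => ?_⟩
    rcases Finset.mem_insert.1 hb with rfl | hb
    · rw [pow_add, mul_assoc]
      exact Ideal.mul_mem_left _ _ hk
    · rw [pow_add, mul_comm (g ^ K), mul_assoc]
      exact Ideal.mul_mem_left _ _ (hK b hb)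

end Uniform

section Inj

variable {R : Type u} [CommRing R] (J : Ideal R) {ι : Type u} [Fintype ι]

/-- uniform generation up to a power of `g` -/
lemma exists_uniform_gen (hfg : J.FG) {g : R} {r : ℕ} (x : Fin r → ↥J)
    (hspan : Ideal.span (Set.range fun i => algebraMap R (Localization.Away g) (x i)) =
      J.map (algebraMap R (Localization.Away g))) :
    ∃ m0 : ℕ, ∀ y ∈ J, g ^ m0 * y ∈ Ideal.span (Set.range fun i => (x i : R)) := by
  classical
  obtain ⟨s, hs⟩ := hfg
  have hsJ : ∀ a ∈ s, a ∈ J := fun a ha => by rw [← hs]; exact Ideal.subset_span ha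
  obtain ⟨K, hK⟩ := exists_uniform_pow s g (Ideal.span (Set.range fun i => (x i : R))) id
    (fun a ha => gen_of_span x hspan a (hsJ a ha))
  refine ⟨K, fun y hy => ?_⟩
  rw [← hs] at hy
  induction hy using Submodule.span_induction with
  | mem y hy => exact hK y hy
  | zero => rw [mul_zero]; exact zero_mem _
  | add a b _ _ ha hb => rw [mul_add]; exact add_mem ha hb
  | smul c a _ ha =>
    rw [smul_eq_mul, mul_left_comm]
    exact Ideal.mul_mem_left _ _ ha

/-- products of elements of a submodule spanned by a family lie in the span of the products of the family -/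
lemma tprod_mem_span_of_mem {M : Type v} [AddCommGroup M] [Module R M] {Λ : Type w} (w : Λ → M)
    (v : ι → M) (hv : ∀ j, v j ∈ Submodule.span R (Set.range w)) :
    SymmetricPower.tprod R v ∈ Submodule.span R
      (Set.range fun e : ι → Λ => SymmetricPower.tprod R (fun j => w (e j))) := by
  set N0 := Submodule.span R (Set.range w) with hN0
  set S' := Submodule.span R
      (Set.range fun e : ι → Λ => SymmetricPower.tprod R (fun j => w (e j))) with hS'
  let μ : MultilinearMap R (fun _ : ι => ↥N0) (SymmetricPower R ι M ⧸ S') :=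
    S'.mkQ.compMultilinearMap ((SymmetricPower.tprod R (ι := ι) (M := M)).compLinearMap
      (fun _ => N0.subtype))
  have hT : Submodule.span R (((↑) : ↥N0 → M) ⁻¹' (Set.range w)) = ⊤ :=
    Submodule.span_span_coe_preimage
  have hμ : μ = 0 := by
    apply multilinear_ext_of_span hT
    intro v' hv'
    choose e he using hv'
    change S'.mkQ (SymmetricPower.tprod R (fun j => ((v' j : ↥N0) : M))) = 0
    rw [Submodule.mkQ_apply, Submodule.Quotient.mk_eq_zero]
    have : (fun j => ((v' j : ↥N0) : M)) = fun j => w (e j) := funext fun j => (he j).symm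
    rw [this]
    exact Submodule.subset_span ⟨e, rfl⟩
  have h1 := DFunLike.congr_fun hμ (fun j => (⟨v j, hv j⟩ : ↥N0))
  change S'.mkQ (SymmetricPower.tprod R (fun j => v j)) = 0 at h1
  rwa [Submodule.mkQ_apply, Submodule.Quotient.mk_eq_zero] at h1

variable [Nonempty ι]

/-- an element of `Sym^n(J/J²)` mapping to zero in `J^n/J^(n+1)` is killed by a power of `g`, when `J`
is generated on `D(g)` by a quasi-regular sequence -/
lemma exists_pow_smul_eq_zero (hfg : J.FG) {g : R} {r : ℕ} (x : Fin r → ↥J)
    (hqr : CAlgX.IsQuasiRegular (fun i => algebraMap R (Localization.Away g) (x i)))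
    (hspan : Ideal.span (Set.range fun i => algebraMap R (Localization.Away g) (x i)) =
      J.map (algebraMap R (Localization.Away g)))
    (t : SymmetricPower R ι J.Cotangent) (ht : symToGrJ R J ι t = 0) :
    ∃ K : ℕ, g ^ K • t = 0 := by
  classical
  obtain ⟨m0, hm0⟩ := exists_uniform_gen J hfg x hspan
  set w : Fin r → J.Cotangent := fun i => J.toCotangent (x i) with hw
  -- `g^m0` maps `J/J²` into the span of the `w i`
  have hN0 : ∀ n : J.Cotangent, g ^ m0 • n ∈ Submodule.span R (Set.range w) := by
    intro n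
    obtain ⟨y, rfl⟩ := J.toCotangent_surjective n
    obtain ⟨a, ha⟩ := (Ideal.mem_span_range_iff_exists_fun).1 (hm0 y.1 y.2)
    have h1 : g ^ m0 • y = ∑ i, a i • x i := by
      apply Subtype.ext
      rw [AddSubmonoidClass.coe_finsetSum]
      simp only [Submodule.coe_smul, smul_eq_mul]
      exact ha.symm
    rw [← map_smul, h1, map_sum]
    apply Submodule.sum_mem
    intro i _
    rw [map_smul]
    exact Submodule.smul_mem _ _ (Submodule.subset_span ⟨i, rfl⟩)
  set S' := Submodule.span R
      (Set.range fun e : ι → Fin r => SymmetricPower.tprod R (fun j => w (e j))) with hS'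
  -- a power of `g` maps everything into `S'`
  have hB : ∀ t' : SymmetricPower R ι J.Cotangent, g ^ (m0 * Fintype.card ι) • t' ∈ S' := by
    intro t'
    have ht' : t' ∈ Submodule.span R
        (Set.range (SymmetricPower.tprod R (ι := ι) (M := J.Cotangent))) := by
      rw [SymmetricPower.span_tprod_eq_top]
      exact Submodule.mem_top
    induction ht' using Submodule.span_induction with
    | mem t' ht' =>
      obtain ⟨v, rfl⟩ := ht'
      have h1 : g ^ (m0 * Fintype.card ι) • SymmetricPower.tprod R v =
          SymmetricPower.tprod R (fun j => g ^ m0 • v j) := by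
        rw [MultilinearMap.map_smul_univ, Finset.prod_const, Finset.card_univ, ← pow_mul]
      rw [h1]
      exact tprod_mem_span_of_mem w _ (fun j => hN0 (v j))
    | zero => rw [smul_zero]; exact zero_mem _
    | add a b _ _ ha hb => rw [smul_add]; exact add_mem ha hb
    | smul c a _ ha => rw [smul_comm]; exact Submodule.smul_mem _ _ ha
  obtain ⟨b, hb⟩ := (Submodule.mem_span_range_iff_exists_fun R).1 (hB t)
  -- the form `G`
  let G : MvPolynomial (Fin r) R := ∑ e : ι → Fin r, b e • ∏ j, (MvPolynomial.X (e j) : MvPolynomial (Fin r) R)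
  have hG : G.IsHomogeneous (Fintype.card ι) := by
    apply MvPolynomial.IsHomogeneous.sum
    intro e _
    rw [MvPolynomial.smul_eq_C_mul]
    have h1 := MvPolynomial.IsHomogeneous.prod (Finset.univ : Finset ι)
      (fun j => (MvPolynomial.X (e j) : MvPolynomial (Fin r) R)) (fun _ => 1)
      (fun j _ => MvPolynomial.isHomogeneous_X R (e j))
    have h2 := (MvPolynomial.isHomogeneous_C (Fin r) (b e)).mul h1
    simpa using h2
  have hΨ : Ψf (ι := ι) w G = g ^ (m0 * Fintype.card ι) • t := by
    rw [← hb, map_sum]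
    apply Finset.sum_congr rfl
    intro e _
    rw [map_smul, Ψf_prod_X]
  obtain ⟨y, hy1, hy2⟩ := exists_rep_Ψf (ι := ι) J x G hG
  have hev : MvPolynomial.eval (fun i => (x i : R)) G ∈ J ^ (Fintype.card ι + 1) := by
    rw [← hy1, ← qJ_eq_zero_iff, ← hy2]
    change symToGrJ R J ι (Ψf (ι := ι) w G) = 0
    rw [hΨ, map_smul, ht, smul_zero]
  obtain ⟨K2, hK2⟩ := exists_uniform_pow G.support g J (fun d => G.coeff d)
    (fun d _ => forms_of_qr x hqr hspan _ G hG hev d)
  refine ⟨K2 + m0 * Fintype.card ι, ?_⟩
  rw [pow_add, mul_smul, ← hΨ]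
  conv_lhs => rw [← MvPolynomial.support_sum_monomial_coeff G, map_sum, Finset.smul_sum]
  apply Finset.sum_eq_zero
  intro d hd
  have h1 : MvPolynomial.monomial d (G.coeff d) = G.coeff d • MvPolynomial.monomial d (1 : R) := by
    rw [MvPolynomial.smul_monomial, smul_eq_mul, mul_one]
  rw [h1, map_smul, smul_smul]
  exact smul_symCotangent_eq_zero J _ (hK2 d hd) _

end Inj

section InjMain

variable (R : Type u) [CommRing R] (J : Ideal R)

theorem symToGrJ_injective_of_isLocallyQuasiRegular (hq : IsLocallyQuasiRegular R J)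
    (ι : Type u) [Fintype ι] [Nonempty ι] : Function.Injective (symToGrJ R J ι) := by
  have hfg := fg_of_isLocallyQuasiRegular R J hq
  rw [injective_iff_map_eq_zero]
  intro t ht
  by_contra hne
  have hann : Ideal.torsionOf R _ t ≠ ⊤ := by
    intro h
    apply hne
    have : (1 : R) ∈ Ideal.torsionOf R _ t := by rw [h]; exact Submodule.mem_top
    rw [Ideal.mem_torsionOf_iff, one_smul] at this
    exact this
  obtain ⟨m, hm, hle⟩ := Ideal.exists_le_maximal _ hann
  haveI := hm.isPrime
  by_cases hJm : J ≤ m
  · obtain ⟨g, r, x, hg, hqr, hspan⟩ := exists_qr_data R J hq m hJm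
    obtain ⟨K, hK⟩ := exists_pow_smul_eq_zero J hfg x hqr hspan t ht
    have : g ^ K ∈ m := hle ((Ideal.mem_torsionOf_iff _ _).2 hK)
    exact hg (Ideal.IsPrime.mem_of_pow_mem ‹_› K this)
  · obtain ⟨g, hgJ, hgm⟩ := SetLike.not_le_iff_exists.1 hJm
    exact hgm (hle ((Ideal.mem_torsionOf_iff _ _).2 (smul_symCotangent_eq_zero J g hgJ t)))

end InjMain

end Groth.Agent.Helper7.QLoc
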