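import Mathlib
import Groth.Prelude.Def_PP16
import Groth.Agent.Helper7.QLoc6

/-!
# Quasi-regular ideals: local quasi-regularity implies that `J/J²` is projective
-/

set_option autoImplicit false
set_option linter.unusedSectionVars false
universe u v w

namespace Groth.Agent.Helper7.QLoc

open PP16 SymT

section FreeLoc

variable {C : Type u} [CommRing C] {N : Type v} [AddCommGroup N] [Module C N] (gb : C)
  (Cg : Type u) [CommRing Cg] [Algebra C Cg] [IsLocalization.Away gb Cg]
  {Ng : Type w} [AddCommGroup Ng] [Module C Ng] [Module Cg Ng] [IsScalarTower C Cg Ng]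
  (f : N →ₗ[C] Ng) [IsLocalizedModule (Submonoid.powers gb) f] {r : ℕ} (w : Fin r → N)

/-- a family which generates up to powers of `gb` and is independent up to powers of `gb` becomes a
basis after inverting `gb` -/
lemma free_localized (ha : ∀ n : N, ∃ k : ℕ, gb ^ k • n ∈ Submodule.span C (Set.range w))
    (hb : ∀ c : Fin r → C, ∑ i, c i • w i = 0 → ∀ i, ∃ k : ℕ, gb ^ k * c i = 0) :
    LinearIndependent Cg (fun i => f (w i)) ∧
      ⊤ ≤ Submodule.span Cg (Set.range fun i => f (w i)) := by
  classical
  have hunit : ∀ k : ℕ, IsUnit (algebraMap C Cg (gb ^ k)) := by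
    intro k
    rw [map_pow]
    exact (IsLocalization.Away.algebraMap_isUnit gb).pow k
  constructor
  · rw [Fintype.linearIndependent_iff]
    intro lam hlam i
    obtain ⟨b, hbint⟩ := IsLocalization.exist_integer_multiples_of_finite (Submonoid.powers gb) lam
    choose c hc using hbint
    have hbu : IsUnit (algebraMap C Cg (b : C)) := IsLocalization.map_units Cg b
    have h1 : f (∑ i, c i • w i) = 0 := by
      rw [map_sum]
      have h2 : ∀ i, f (c i • w i) = algebraMap C Cg (b : C) • (lam i • f (w i)) := by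
        intro i
        rw [map_smul, ← algebraMap_smul Cg (c i) (f (w i)), hc i, Algebra.smul_def, mul_smul]
      simp only [h2]
      rw [← Finset.smul_sum, hlam, smul_zero]
    obtain ⟨⟨u, K, rfl⟩, hu⟩ := (IsLocalizedModule.eq_zero_iff (Submonoid.powers gb) f).1 h1
    have h3 : ∑ i, (gb ^ K * c i) • w i = 0 := by
      rw [← hu]
      change _ = gb ^ K • ∑ i, c i • w i
      rw [Finset.smul_sum]
      apply Finset.sum_congr rfl
      intro i _
      rw [mul_smul]
    obtain ⟨k, hk⟩ := hb _ h3 i
    have h4 : algebraMap C Cg (c i) = 0 := by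
      rw [IsLocalization.map_eq_zero_iff (Submonoid.powers gb)]
      refine ⟨⟨gb ^ (k + K), k + K, rfl⟩, ?_⟩
      change gb ^ (k + K) * c i = 0
      rw [pow_add, mul_assoc, hk]
    rw [hc i, Algebra.smul_def] at h4
    exact (hbu.mul_right_eq_zero).1 h4
  · rintro z -
    obtain ⟨⟨n, s⟩, hs⟩ := IsLocalizedModule.surj (Submonoid.powers gb) f z
    have hfn : ∀ n : N, f n ∈ Submodule.span Cg (Set.range fun i => f (w i)) := by
      intro n
      obtain ⟨k, hk⟩ := ha n
      obtain ⟨a, hak⟩ := (Submodule.mem_span_range_iff_exists_fun C).1 hk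
      have h1 : algebraMap C Cg (gb ^ k) • f n ∈ Submodule.span Cg (Set.range fun i => f (w i)) := by
        rw [algebraMap_smul, ← map_smul, ← hak, map_sum]
        apply Submodule.sum_mem
        intro i _
        rw [map_smul, ← algebraMap_smul Cg (a i) (f (w i))]
        exact Submodule.smul_mem _ _ (Submodule.subset_span ⟨i, rfl⟩)
      have h2 := Submodule.smul_mem _ (((hunit k).unit⁻¹ : Cgˣ) : Cg) h1
      rwa [smul_smul, IsUnit.val_inv_mul, one_smul] at h2
    have hsu : IsUnit (algebraMap C Cg (s : C)) := IsLocalization.map_units Cg s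
    have h1 : algebraMap C Cg (s : C) • z ∈ Submodule.span Cg (Set.range fun i => f (w i)) := by
      rw [algebraMap_smul]
      change s • z ∈ _
      rw [hs]
      exact hfn n
    have h2 := Submodule.smul_mem _ ((hsu.unit⁻¹ : Cgˣ) : Cg) h1
    rwa [smul_smul, IsUnit.val_inv_mul, one_smul] at h2

end FreeLoc

section Proj

variable (R : Type u) [CommRing R] (J : Ideal R)

lemma mk_smul_cotangent (c : R) (m : J.Cotangent) : (Ideal.Quotient.mk J c) • m = c • m := by
  rw [← Ideal.Quotient.algebraMap_eq, algebraMap_smul]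

variable {R J}

lemma cotangent_gen {g : R} {r : ℕ} (x : Fin r → ↥J)
    (hspan : Ideal.span (Set.range fun i => algebraMap R (Localization.Away g) (x i)) =
      J.map (algebraMap R (Localization.Away g))) (n : J.Cotangent) :
    ∃ k : ℕ, (Ideal.Quotient.mk J g) ^ k • n ∈
      Submodule.span (R ⧸ J) (Set.range fun i => J.toCotangent (x i)) := by
  obtain ⟨y, rfl⟩ := J.toCotangent_surjective n
  obtain ⟨k, hk⟩ := gen_of_span x hspan y.1 y.2
  obtain ⟨a, ha⟩ := (Ideal.mem_span_range_iff_exists_fun).1 hk
  have h1 : g ^ k • y = ∑ i, a i • x i := by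
    apply Subtype.ext
    rw [AddSubmonoidClass.coe_finsetSum]
    simp only [Submodule.coe_smul, smul_eq_mul]
    exact ha.symm
  refine ⟨k, ?_⟩
  rw [← map_pow, mk_smul_cotangent, ← map_smul, h1, map_sum]
  apply Submodule.sum_mem
  intro i _
  rw [map_smul, ← mk_smul_cotangent]
  exact Submodule.smul_mem _ _ (Submodule.subset_span ⟨i, rfl⟩)

lemma cotangent_indep {g : R} {r : ℕ} (x : Fin r → ↥J)
    (hqr : CAlgX.IsQuasiRegular (fun i => algebraMap R (Localization.Away g) (x i)))
    (hspan : Ideal.span (Set.range fun i => algebraMap R (Localization.Away g) (x i)) =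
      J.map (algebraMap R (Localization.Away g)))
    (c : Fin r → R ⧸ J) (hc : ∑ i, c i • J.toCotangent (x i) = 0) (i : Fin r) :
    ∃ k : ℕ, (Ideal.Quotient.mk J g) ^ k * c i = 0 := by
  classical
  choose c0 hc0 using fun i => Ideal.Quotient.mk_surjective (c i)
  have h1 : J.toCotangent (∑ i, c0 i • x i) = 0 := by
    rw [map_sum, ← hc]
    apply Finset.sum_congr rfl
    intro i _
    rw [map_smul, ← hc0 i, mk_smul_cotangent]
  have h2 : ((∑ i, c0 i • x i : ↥J) : R) ∈ J ^ 2 := (J.toCotangent_eq_zero _).1 h1
  let G : MvPolynomial (Fin r) R := ∑ i, MvPolynomial.C (c0 i) * MvPolynomial.X i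
  have hG : G.IsHomogeneous 1 := by
    apply MvPolynomial.IsHomogeneous.sum
    intro i _
    have := (MvPolynomial.isHomogeneous_C (Fin r) (c0 i)).mul (MvPolynomial.isHomogeneous_X R i)
    rwa [zero_add] at this
  have hev : MvPolynomial.eval (fun i => (x i : R)) G ∈ J ^ (1 + 1) := by
    have h3 : MvPolynomial.eval (fun i => (x i : R)) G = ((∑ i, c0 i • x i : ↥J) : R) := by
      rw [AddSubmonoidClass.coe_finsetSum, map_sum]
      apply Finset.sum_congr rfl
      intro i _
      rw [map_mul, MvPolynomial.eval_C, MvPolynomial.eval_X]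
      rfl
    rw [h3]
    exact h2
  obtain ⟨k, hk⟩ := forms_of_qr x hqr hspan 1 G hG hev (Finsupp.single i 1)
  have hcoeff : G.coeff (Finsupp.single i 1) = c0 i := by
    simp only [G, MvPolynomial.coeff_sum, MvPolynomial.coeff_C_mul, MvPolynomial.coeff_X]
    rw [Finset.sum_eq_single i]
    · rw [if_pos rfl, mul_one]
    · intro j _ hji
      rw [if_neg, mul_zero]
      intro h
      exact hji ((Finsupp.single_left_inj one_ne_zero).1 h)
    · intro h; exact absurd (Finset.mem_univ i) h
  rw [hcoeff] at hk
  refine ⟨k, ?_⟩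
  rw [← hc0 i, ← map_pow, ← map_mul]
  exact Ideal.Quotient.eq_zero_iff_mem.2 hk

variable (R J)

theorem projective_cotangent_of_isLocallyQuasiRegular (hq : IsLocallyQuasiRegular R J) :
    Module.Projective (R ⧸ J) J.Cotangent := by
  let s : Set (R ⧸ J) := {gb | ∃ (g : R) (r : ℕ) (x : Fin r → ↥J), Ideal.Quotient.mk J g = gb ∧
    CAlgX.IsQuasiRegular (fun i => algebraMap R (Localization.Away g) (x i)) ∧
    Ideal.span (Set.range fun i => algebraMap R (Localization.Away g) (x i)) =
      J.map (algebraMap R (Localization.Away g))}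
  have hs : Ideal.span s = ⊤ := by
    by_contra hne
    obtain ⟨m, hm, hle⟩ := Ideal.exists_le_maximal _ hne
    haveI := hm.isPrime
    haveI : (m.comap (Ideal.Quotient.mk J)).IsPrime := Ideal.comap_isPrime _ _
    have hJm : J ≤ m.comap (Ideal.Quotient.mk J) := by
      intro a ha
      rw [Ideal.mem_comap, Ideal.Quotient.eq_zero_iff_mem.2 ha]
      exact zero_mem _
    obtain ⟨g, r, x, hg, hqr, hspan⟩ := exists_qr_data R J hq _ hJm
    exact hg (hle (Ideal.subset_span ⟨g, r, x, rfl, hqr, hspan⟩))
  have hfree : ∀ gb : s, Module.Free (Localization.Away gb.1) (LocalizedModule.Away gb.1 J.Cotangent) ∧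
      Module.Finite (Localization.Away gb.1) (LocalizedModule.Away gb.1 J.Cotangent) := by
    rintro ⟨gb, g, r, x, rfl, hqr, hspan⟩
    obtain ⟨hli, hsp⟩ := free_localized (Ideal.Quotient.mk J g)
      (Localization.Away (Ideal.Quotient.mk J g))
      (LocalizedModule.mkLinearMap (Submonoid.powers (Ideal.Quotient.mk J g)) J.Cotangent)
      (fun i => J.toCotangent (x i)) (cotangent_gen x hspan) (cotangent_indep x hqr hspan)
    let B := Module.Basis.mk hli hsp
    exact ⟨Module.Free.of_basis B, Module.Finite.of_basis B⟩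
  haveI : Module.FinitePresentation (R ⧸ J) J.Cotangent :=
    Module.FinitePresentation.of_localizationSpan s hs (fun gb => by
      obtain ⟨h1, h2⟩ := hfree gb
      exact Module.finitePresentation_of_projective _ _)
  haveI : Module.Flat (R ⧸ J) J.Cotangent :=
    Module.flat_of_localized_span (S := R ⧸ J) (M := J.Cotangent) (s := s) hs (fun gb => by
      obtain ⟨h1, h2⟩ := hfree gb
      exact Module.Flat.trans (R ⧸ J) (Localization.Away gb.1) _)
  exact Module.Flat.projective_of_finitePresentation

end Proj

end Groth.Agent.Helper7.QLoc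

namespace Groth.Agent.Helper7.QLoc

open PP16

/-- an ideal is locally generated by quasi-regular sequences iff it is finitely generated, its
conormal module is projective, and `Sym^n(J/J²) → J^n/J^(n+1)` is bijective for all `n ≥ 1` -/
theorem isLocallyQuasiRegular_iff (R : Type u) [CommRing R] (J : Ideal R) :
    IsLocallyQuasiRegular R J ↔
      J.FG ∧ Module.Projective (R ⧸ J) J.Cotangent ∧ SymGrBijective R J := by
  rw [symGrBijective_iff]
  constructor
  · intro hq
    exact ⟨fg_of_isLocallyQuasiRegular R J hq, projective_cotangent_of_isLocallyQuasiRegular R J hq,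
      fun ι _ _ => symToGrJ_injective_of_isLocallyQuasiRegular R J hq ι⟩
  · rintro ⟨hfg, hproj, hinj⟩
    exact isLocallyQuasiRegular_of R J hfg hproj hinj

end Groth.Agent.Helper7.QLoc
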