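import Mathlib
import Groth.Prelude.Def_PP16
import Groth.Agent.Helper7.QLoc7

/-!
# Differential smoothness and quasi-regularity of the diagonal ideal
-/

set_option autoImplicit false
set_option linter.unusedSectionVars false
universe u v w

namespace Groth.Agent.Helper7.QLoc

open PP16 SymT TensorProduct

section Diag

variable (A B : Type u) [CommRing A] [CommRing B] [Algebra A B]

local notation "E" => B ⊗[A] B
local notation "I" => KaehlerDifferential.ideal A B

/-- the action of `B ⊗_A B` on `I/I²` factors through multiplication -/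
lemma smul_cotangent_eq (e : E) (ω : (I).Cotangent) :
    e • ω = (Algebra.TensorProduct.lmul' A e : B) • ω := by
  have h1 : e - algebraMap B E (Algebra.TensorProduct.lmul' A e) ∈ I := by
    rw [KaehlerDifferential.ideal, RingHom.mem_ker, map_sub, Algebra.TensorProduct.algebraMap_apply]
    simp
  have h2 := smul_cotangent_eq_zero (I) _ h1 ω
  rw [sub_smul, sub_eq_zero] at h2
  rw [h2, algebraMap_smul]

lemma lmul'_surjective : Function.Surjective (Algebra.TensorProduct.lmul' A : E →ₐ[A] B) := by
  intro b
  exact ⟨b ⊗ₜ 1, by simp⟩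

/-- the ring isomorphism `(B ⊗_A B)/I ≃ B` -/
noncomputable def quotEquiv : (E ⧸ I) ≃+* B :=
  RingHom.quotientKerEquivOfSurjective (f := (Algebra.TensorProduct.lmul' A : E →ₐ[A] B).toRingHom)
    (lmul'_surjective A B)

lemma quotEquiv_mk (e : E) : quotEquiv A B (Ideal.Quotient.mk _ e) = Algebra.TensorProduct.lmul' A e :=
  RingHom.quotientKerEquivOfSurjective_apply_mk _ e

lemma quot_smul_cotangent (c : E ⧸ I) (ω : (I).Cotangent) :
    c • ω = (quotEquiv A B c) • ω := by
  obtain ⟨e, rfl⟩ := Ideal.Quotient.mk_surjective c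
  rw [quotEquiv_mk, mk_smul_cotangent, smul_cotangent_eq]

lemma projective_iff :
    Module.Projective (E ⧸ I) (I).Cotangent ↔ Module.Projective B (I).Cotangent := by
  haveI := RingHomInvPair.of_ringEquiv (quotEquiv A B)
  haveI := RingHomInvPair.of_ringEquiv_symm (quotEquiv A B)
  let e₂ : (I).Cotangent ≃ₛₗ[(quotEquiv A B : (E ⧸ I) →+* B)] (I).Cotangent :=
    { toFun := id
      map_add' := fun _ _ => rfl
      map_smul' := fun c ω => quot_smul_cotangent A B c ω
      invFun := id
      left_inv := fun _ => rfl
      right_inv := fun _ => rfl }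
  constructor
  · intro h
    exact Module.Projective.of_equiv e₂
  · intro h
    exact Module.Projective.of_equiv e₂.symm

/-- the identity `Ω_{B/A} → I/I²` -/
noncomputable def toCot : Ω[B⁄A] →ₗ[B] (I).Cotangent where
  toFun x := x
  map_add' _ _ := rfl
  map_smul' _ _ := rfl

/-- the identity `I/I² → Ω_{B/A}` -/
noncomputable def ofCot : (I).Cotangent →ₗ[B] Ω[B⁄A] where
  toFun x := x
  map_add' _ _ := rfl
  map_smul' _ _ := rfl

@[simp] lemma ofCot_toCot (x : Ω[B⁄A]) : ofCot A B (toCot A B x) = x := rfl
@[simp] lemma toCot_ofCot (x : (I).Cotangent) : toCot A B (ofCot A B x) = x := rfl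

lemma ofCot_smul (e : E) (a : (I).Cotangent) :
    ofCot A B (e • a) = (Algebra.TensorProduct.lmul' A e : B) • ofCot A B a := by
  rw [smul_cotangent_eq A B e a, map_smul]

lemma piK_eq (x : ↥(I)) : piK A B x = ofCot A B ((I).toCotangent x) := rfl

variable (ι : Type u) [Fintype ι]

/-- from the symmetric power over `B` to the symmetric power over `B ⊗_A B` -/
noncomputable def toE : SymmetricPower B ι Ω[B⁄A] →+ SymmetricPower E ι (I).Cotangent :=
  mapSL (R := B) (R' := E) (toCot A B)

lemma toE_tprod (v : ι → Ω[B⁄A]) :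
    toE A B ι (SymmetricPower.tprod B v) = SymmetricPower.tprod E (fun i => toCot A B (v i)) :=
  mapSL_tprod _ v

lemma toE_smul (b : B) (t : SymmetricPower B ι Ω[B⁄A]) :
    toE A B ι (b • t) = algebraMap B E b • toE A B ι t :=
  mapSL_smul _ b t

/-- the multilinear map underlying `fromE` -/
noncomputable def fromEMulti :
    letI : Module E (SymmetricPower B ι Ω[B⁄A]) :=
      Module.compHom _ (Algebra.TensorProduct.lmul' A : E →ₐ[A] B).toRingHom
    MultilinearMap E (fun _ : ι => (I).Cotangent) (SymmetricPower B ι Ω[B⁄A]) :=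
  letI : Module E (SymmetricPower B ι Ω[B⁄A]) :=
    Module.compHom _ (Algebra.TensorProduct.lmul' A : E →ₐ[A] B).toRingHom
  { toFun := fun v => SymmetricPower.tprod B (fun i => ofCot A B (v i))
    map_update_add' := fun v i a b => by
      have h : ∀ c : (I).Cotangent, (fun j => ofCot A B (Function.update v i c j)) =
          Function.update (fun j => ofCot A B (v j)) i (ofCot A B c) := by
        intro c
        funext j
        by_cases hj : j = i
        · subst hj; simp
        · simp [Function.update_of_ne hj]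
      rw [h, h, h, map_add, MultilinearMap.map_update_add]
    map_update_smul' := fun v i e a => by
      have h : ∀ c : (I).Cotangent, (fun j => ofCot A B (Function.update v i c j)) =
          Function.update (fun j => ofCot A B (v j)) i (ofCot A B c) := by
        intro c
        funext j
        by_cases hj : j = i
        · subst hj; simp
        · simp [Function.update_of_ne hj]
      rw [h, h, ofCot_smul, MultilinearMap.map_update_smul]
      rfl }

/-- from the symmetric power over `B ⊗_A B` back to the symmetric power over `B` -/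
noncomputable def fromE : SymmetricPower E ι (I).Cotangent →+ SymmetricPower B ι Ω[B⁄A] :=
  letI : Module E (SymmetricPower B ι Ω[B⁄A]) :=
    Module.compHom _ (Algebra.TensorProduct.lmul' A : E →ₐ[A] B).toRingHom
  (lift (fromEMulti A B ι)
    (by intro e v; exact SymmetricPower.tprod_equiv e (fun i => ofCot A B (v i)))).toAddMonoidHom

lemma fromE_tprod (v : ι → (I).Cotangent) :
    fromE A B ι (SymmetricPower.tprod E v) = SymmetricPower.tprod B (fun i => ofCot A B (v i)) := by
  letI : Module E (SymmetricPower B ι Ω[B⁄A]) :=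
    Module.compHom _ (Algebra.TensorProduct.lmul' A : E →ₐ[A] B).toRingHom
  exact lift_tprod (fromEMulti A B ι)
    (by intro e v; exact SymmetricPower.tprod_equiv e (fun i => ofCot A B (v i))) v

lemma fromE_smul (e : E) (s : SymmetricPower E ι (I).Cotangent) :
    fromE A B ι (e • s) = (Algebra.TensorProduct.lmul' A e : B) • fromE A B ι s := by
  letI : Module E (SymmetricPower B ι Ω[B⁄A]) :=
    Module.compHom _ (Algebra.TensorProduct.lmul' A : E →ₐ[A] B).toRingHom
  exact LinearMap.map_smul (lift (fromEMulti A B ι)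
    (by intro e v; exact SymmetricPower.tprod_equiv e (fun i => ofCot A B (v i)))) e s

lemma fromE_toE (t : SymmetricPower B ι Ω[B⁄A]) : fromE A B ι (toE A B ι t) = t := by
  have ht : t ∈ Submodule.span B (Set.range (SymmetricPower.tprod B (ι := ι) (M := Ω[B⁄A]))) := by
    rw [SymmetricPower.span_tprod_eq_top]
    exact Submodule.mem_top
  induction ht using Submodule.span_induction with
  | mem t ht =>
    obtain ⟨v, rfl⟩ := ht
    rw [toE_tprod, fromE_tprod]
    rfl
  | zero => rw [map_zero, map_zero]
  | add a b _ _ ha hb => rw [map_add, map_add, ha, hb]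
  | smul c a _ ha =>
    rw [toE_smul, fromE_smul, ha, Algebra.TensorProduct.algebraMap_apply]
    simp

lemma toE_fromE [Nonempty ι] (s : SymmetricPower E ι (I).Cotangent) :
    toE A B ι (fromE A B ι s) = s := by
  have hs : s ∈ Submodule.span E (Set.range (SymmetricPower.tprod E (ι := ι) (M := (I).Cotangent))) := by
    rw [SymmetricPower.span_tprod_eq_top]
    exact Submodule.mem_top
  induction hs using Submodule.span_induction with
  | mem s hs =>
    obtain ⟨v, rfl⟩ := hs
    rw [fromE_tprod, toE_tprod]
    rfl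
  | zero => rw [map_zero, map_zero]
  | add a b _ _ ha hb => rw [map_add, map_add, ha, hb]
  | smul e a _ ha =>
    rw [fromE_smul, toE_smul, ha]
    have h1 : e - algebraMap B E (Algebra.TensorProduct.lmul' A e) ∈ I := by
      rw [KaehlerDifferential.ideal, RingHom.mem_ker, map_sub, Algebra.TensorProduct.algebraMap_apply]
      simp
    have h2 := smul_symCotangent_eq_zero (I) _ h1 a
    rw [sub_smul, sub_eq_zero] at h2
    exact h2.symm

lemma nat_toE (t : SymmetricPower B ι Ω[B⁄A]) :
    ∃ y : ↥(I ^ Fintype.card ι), symToGrI A B ι t = qK A B ι y ∧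
      symToGrJ E (I) ι (toE A B ι t) = qJ E (I) ι y := by
  have ht : t ∈ Submodule.span B (Set.range (SymmetricPower.tprod B (ι := ι) (M := Ω[B⁄A]))) := by
    rw [SymmetricPower.span_tprod_eq_top]
    exact Submodule.mem_top
  induction ht using Submodule.span_induction with
  | mem t ht =>
    obtain ⟨v, rfl⟩ := ht
    choose x hx using fun i => piK_surjective A B (v i)
    have hv : v = fun i => piK A B (x i) := funext fun i => (hx i).symm
    refine ⟨prodI (I) x, ?_, ?_⟩
    · rw [hv, symToGrI_tprod]
    · rw [hv, toE_tprod]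
      exact symToGrJ_tprod' E (I) ι x
  | zero => exact ⟨0, by rw [map_zero, map_zero], by rw [map_zero, map_zero, map_zero]⟩
  | add a b _ _ ha hb =>
    obtain ⟨y, hy1, hy2⟩ := ha
    obtain ⟨y', hy1', hy2'⟩ := hb
    exact ⟨y + y', by rw [map_add, map_add, hy1, hy1'], by rw [map_add, map_add, map_add, hy2, hy2']⟩
  | smul c a _ ha =>
    obtain ⟨y, hy1, hy2⟩ := ha
    refine ⟨c • y, by rw [map_smul, map_smul, hy1], ?_⟩
    rw [toE_smul, map_smul, hy2, ← map_smul, algebraMap_smul]

lemma symToGrI_injective_of_isEmpty [IsEmpty ι] : Function.Injective (symToGrI A B ι) := by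
  let ε : SymmetricPower B ι Ω[B⁄A] →ₗ[B] B :=
    lift (MultilinearMap.constOfIsEmpty B (fun _ : ι => Ω[B⁄A]) (1 : B)) (by intro e v; rfl)
  let x0 : ι → ↥(I) := fun i => isEmptyElim i
  let t0 : SymmetricPower B ι Ω[B⁄A] := SymmetricPower.tprod B (fun i => piK A B (x0 i))
  have hε : ∀ t, t = ε t • t0 := by
    have h1 : (LinearMap.id : SymmetricPower B ι Ω[B⁄A] →ₗ[B] _) = LinearMap.smulRight ε t0 := by
      apply hom_ext
      intro v
      rw [LinearMap.id_apply, LinearMap.smulRight_apply]
      have h2 : ε (SymmetricPower.tprod B v) = 1 := by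
        change lift _ _ (SymmetricPower.tprod B v) = 1
        rw [lift_tprod]
        rfl
      rw [h2, one_smul]
      congr 1
      funext i
      exact isEmptyElim i
    intro t
    exact DFunLike.congr_fun h1 t
  rw [injective_iff_map_eq_zero]
  intro t ht
  rw [hε t] at ht ⊢
  rw [map_smul, symToGrI_tprod, ← map_smul, qK_eq_zero_iff] at ht
  have hcard : Fintype.card ι = 0 := Fintype.card_eq_zero
  have h3 : ((ε t • prodI (I) x0 : ↥(I ^ Fintype.card ι)) : E) = ε t ⊗ₜ[A] (1 : B) := by
    change ε t • (prodI (I) x0 : ↥(I ^ Fintype.card ι)).1 = _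
    rw [prodI_val, Finset.univ_eq_empty, Finset.prod_empty, Algebra.smul_def, mul_one,
      Algebra.TensorProduct.algebraMap_apply]
    rfl
  rw [h3, hcard, zero_add, pow_one, KaehlerDifferential.ideal, RingHom.mem_ker] at ht
  have h4 : ε t = 0 := by simpa using ht
  rw [h4, zero_smul]

end Diag

section Final

variable (A B : Type u) [CommRing A] [CommRing B] [Algebra A B]

theorem isDiffSmooth_iff_isLocallyQuasiRegular [Algebra.FiniteType A B] :
    IsDiffSmooth A B ↔ IsLocallyQuasiRegular (B ⊗[A] B) (KaehlerDifferential.ideal A B) := by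
  rw [isDiffSmooth_iff, isLocallyQuasiRegular_iff, symGrBijective_iff, projective_iff]
  have hfg : (KaehlerDifferential.ideal A B).FG := KaehlerDifferential.ideal_fg A B
  constructor
  · rintro ⟨hp, hinj⟩
    refine ⟨hfg, hp, fun ι _ _ => ?_⟩
    rw [injective_iff_map_eq_zero]
    intro s hs
    obtain ⟨y, hy1, hy2⟩ := nat_toE A B ι (fromE A B ι s)
    rw [toE_fromE, hs] at hy2
    have hy3 := (qJ_eq_zero_iff _ _ ι y).1 hy2.symm
    have hy4 : symToGrI A B ι (fromE A B ι s) = 0 := by
      rw [hy1]
      exact qK_eq_zero A B ι y hy3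
    have hy5 : fromE A B ι s = 0 := by
      apply hinj ι
      rw [hy4, map_zero]
    rw [← toE_fromE A B ι s, hy5, map_zero]
  · rintro ⟨-, hp, hinj⟩
    refine ⟨hp, fun ι _ => ?_⟩
    rcases isEmpty_or_nonempty ι with hι | hι
    · exact symToGrI_injective_of_isEmpty A B ι
    · rw [injective_iff_map_eq_zero]
      intro t ht
      obtain ⟨y, hy1, hy2⟩ := nat_toE A B ι t
      rw [ht] at hy1
      have hy3 := (qK_eq_zero_iff A B ι y).1 hy1.symm
      have hy4 : symToGrJ _ _ ι (toE A B ι t) = 0 := by
        rw [hy2]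
        exact (qJ_eq_zero_iff _ _ ι y).2 hy3
      have hy5 : toE A B ι t = 0 := by
        apply hinj ι
        rw [hy4, map_zero]
      rw [← fromE_toE A B ι t, hy5, map_zero]

end Final

end Groth.Agent.Helper7.QLoc
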