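import Groth.Agent.Helper7.QSplitD

/-!
# The half-discriminant of a matrix of odd size
-/

universe u

namespace Groth.Agent.Helper7.QSplit

open Matrix

section altdet

variable {ι : Type*} [Fintype ι] [DecidableEq ι]

/-- In characteristic two, a symmetric matrix of odd size with zero diagonal has determinant
zero. -/
theorem det_eq_zero_of_symm_diag_zero_odd {K : Type*} [CommRing K] [CharP K 2]
    (hn : Odd (Fintype.card ι)) (M : Matrix ι ι K) (hs : M.IsSymm) (hd : ∀ i, M i i = 0) :
    M.det = 0 := by
  rw [Matrix.det_apply']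
  refine Finset.sum_ninvolution (fun σ : Equiv.Perm ι => σ⁻¹) ?_ ?_
    (fun _ => Finset.mem_univ _) (fun σ => inv_inv σ)
  · intro σ
    have h1 : ∏ i, M (σ⁻¹ i) i = ∏ i, M (σ i) i := by
      rw [← Equiv.prod_comp σ (fun i => M (σ⁻¹ i) i)]
      refine Finset.prod_congr rfl fun i _ => ?_
      rw [← Equiv.Perm.mul_apply, inv_mul_cancel, Equiv.Perm.one_apply]
      exact hs.apply _ _
    rw [Equiv.Perm.sign_inv, h1]
    exact CharTwo.add_self_eq_zero _
  · intro σ hne hσ
    apply hne
    have hsq : σ ^ 2 = 1 := by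
      rw [pow_two]
      nth_rw 1 [← hσ]
      exact inv_mul_cancel σ
    have h2 := Equiv.Perm.two_dvd_card_support hsq
    have hex : ∃ i, i ∉ σ.support := by
      by_contra hall
      push Not at hall
      have : σ.support = Finset.univ := Finset.eq_univ_iff_forall.mpr hall
      rw [this, Finset.card_univ] at h2
      exact (Nat.not_even_iff_odd.mpr hn) (even_iff_two_dvd.mpr h2)
    obtain ⟨i, hi⟩ := hex
    rw [Equiv.Perm.notMem_support] at hi
    have : ∏ j, M (σ j) j = 0 :=
      Finset.prod_eq_zero (Finset.mem_univ i) (by rw [hi]; exact hd i)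
    rw [this, mul_zero]

variable (ι) in
/-- The generic matrix. -/
noncomputable def univMat : Matrix ι ι (MvPolynomial (ι × ι) ℤ) :=
  Matrix.of fun i j => MvPolynomial.X (i, j)

theorem two_dvd_det_univ (hn : Odd (Fintype.card ι)) :
    (2 : MvPolynomial (ι × ι) ℤ) ∣ (univMat ι + (univMat ι)ᵀ).det := by
  let φ : MvPolynomial (ι × ι) ℤ →+* MvPolynomial (ι × ι) (ZMod 2) :=
    MvPolynomial.map (Int.castRingHom (ZMod 2))
  have hker : (univMat ι + (univMat ι)ᵀ).det ∈ RingHom.ker φ := by
    rw [RingHom.mem_ker, RingHom.map_det]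
    apply det_eq_zero_of_symm_diag_zero_odd hn
    · ext i j
      simp only [RingHom.mapMatrix_apply, Matrix.transpose_apply, Matrix.map_apply,
        Matrix.add_apply]
      rw [add_comm]
    · intro i
      simp only [RingHom.mapMatrix_apply, Matrix.map_apply, Matrix.add_apply,
        Matrix.transpose_apply, map_add]
      exact CharTwo.add_self_eq_zero _
  rw [MvPolynomial.ker_map, ZMod.ker_intCastRingHom, Ideal.map_span, Set.image_singleton,
    Ideal.mem_span_singleton] at hker
  simpa using hker

open Classical in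
variable (ι) in
/-- The universal half-discriminant. -/
noncomputable def hdUniv : MvPolynomial (ι × ι) ℤ :=
  if h : (2 : MvPolynomial (ι × ι) ℤ) ∣ (univMat ι + (univMat ι)ᵀ).det then
    Classical.choose h else 0

lemma two_mul_hdUniv (hn : Odd (Fintype.card ι)) :
    2 * hdUniv ι = (univMat ι + (univMat ι)ᵀ).det := by
  rw [hdUniv, dif_pos (two_dvd_det_univ hn)]
  exact (Classical.choose_spec (two_dvd_det_univ hn)).symm

variable {R S : Type*} [CommRing R] [CommRing S]

/-- The half-discriminant of the quadratic form `x ↦ xᵀ β x` (odd size). -/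
noncomputable def hd (β : Matrix ι ι R) : R :=
  MvPolynomial.eval₂ (Int.castRingHom R) (fun ij : ι × ι => β ij.1 ij.2) (hdUniv ι)

lemma map_hd (f : R →+* S) (β : Matrix ι ι R) : f (hd β) = hd (β.map f) := by
  unfold hd
  rw [MvPolynomial.eval₂_comp_left]
  congr 1
  exact RingHom.ext_int _ _

lemma two_mul_hd (hn : Odd (Fintype.card ι)) (β : Matrix ι ι R) :
    2 * hd β = (β + βᵀ).det := by
  have h := congrArg (MvPolynomial.eval₂Hom (Int.castRingHom R)
    (fun ij : ι × ι => β ij.1 ij.2)) (two_mul_hdUniv (ι := ι) hn)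
  rw [map_mul, RingHom.map_det] at h
  have h2 : (MvPolynomial.eval₂Hom (Int.castRingHom R) (fun ij : ι × ι => β ij.1 ij.2))
      (2 : MvPolynomial (ι × ι) ℤ) = 2 := map_ofNat _ 2
  rw [h2] at h
  have h3 : (MvPolynomial.eval₂Hom (Int.castRingHom R)
      (fun ij : ι × ι => β ij.1 ij.2)).mapMatrix (univMat ι + (univMat ι)ᵀ) = β + βᵀ := by
    ext i j
    simp [univMat]
  rw [h3] at h
  exact h

end altdet

section lift

variable {R : Type*} [CommRing R]
variable {ι κ : Type*} [Fintype ι] [DecidableEq ι] [Fintype κ] [DecidableEq κ]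

variable (R) in
/-- The canonical surjection from a characteristic-zero domain. -/
noncomputable def liftπ : MvPolynomial R ℤ →+* R :=
  MvPolynomial.eval₂Hom (Int.castRingHom R) id

/-- Entrywise lift of a matrix. -/
noncomputable def lft (β : Matrix ι κ R) : Matrix ι κ (MvPolynomial R ℤ) :=
  β.map (fun r => MvPolynomial.X r)

@[simp] lemma map_lft (β : Matrix ι κ R) : (lft β).map (liftπ R) = β := by
  ext i j
  simp [lft, liftπ]

/-- Congruence: `hd (gᵀ β g) = det g ^ 2 * hd β`. -/
theorem hd_conj (hn : Odd (Fintype.card ι)) (g β : Matrix ι ι R) :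
    hd (gᵀ * β * g) = g.det ^ 2 * hd β := by
  have key : hd ((lft g)ᵀ * lft β * lft g) = (lft g).det ^ 2 * hd (lft β) := by
    apply mul_left_cancel₀ (two_ne_zero : (2 : MvPolynomial R ℤ) ≠ 0)
    rw [two_mul_hd hn, mul_left_comm, two_mul_hd hn]
    have : (lft g)ᵀ * lft β * lft g + ((lft g)ᵀ * lft β * lft g)ᵀ =
        (lft g)ᵀ * (lft β + (lft β)ᵀ) * lft g := by
      simp only [transpose_mul, transpose_transpose, Matrix.mul_add, Matrix.add_mul,
        Matrix.mul_assoc]
    rw [this, det_mul, det_mul, det_transpose]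
    ring
  have h := congrArg (liftπ R) key
  rw [map_hd, map_mul, map_pow, RingHom.map_det, map_hd, RingHom.mapMatrix_apply,
    Matrix.map_mul, Matrix.map_mul, transpose_map, map_lft, map_lft] at h
  exact h

/-- The half-discriminant only depends on the quadratic form. -/
theorem hd_alt (hn : Odd (Fintype.card ι)) {β β' : Matrix ι ι R} (h : Alt (β - β')) :
    hd β = hd β' := by
  obtain ⟨U, hU⟩ := h
  have hβ : β = β' + (U - Uᵀ) := by rw [← hU]; abel
  have key : hd (lft β' + (lft U - (lft U)ᵀ)) = hd (lft β') := by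
    apply mul_left_cancel₀ (two_ne_zero : (2 : MvPolynomial R ℤ) ≠ 0)
    rw [two_mul_hd hn, two_mul_hd hn]
    congr 1
    rw [transpose_add, transpose_sub, transpose_transpose]
    abel
  have h := congrArg (liftπ R) key
  rw [map_hd, map_hd, Matrix.map_add _ (map_add _), Matrix.map_sub _ (map_sub _),
    transpose_map, map_lft, map_lft] at h
  rw [hβ]
  exact h

/-- Reindexing. -/
theorem hd_submatrix (hn : Odd (Fintype.card ι)) (e : κ ≃ ι) (β : Matrix ι ι R) :
    hd (β.submatrix e e) = hd β := by
  have hk : Odd (Fintype.card κ) := by rwa [Fintype.card_congr e]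
  have key : hd ((lft β).submatrix e e) = hd (lft β) := by
    apply mul_left_cancel₀ (two_ne_zero : (2 : MvPolynomial R ℤ) ≠ 0)
    rw [two_mul_hd hk, two_mul_hd hn]
    have : (lft β).submatrix e e + ((lft β).submatrix e e)ᵀ =
        (lft β + (lft β)ᵀ).submatrix e e := by
      rw [transpose_submatrix]; rfl
    rw [this, det_submatrix_equiv_self]
  have h := congrArg (liftπ R) key
  rw [map_hd, map_hd, ← Matrix.submatrix_map, map_lft] at h
  exact h

/-- Orthogonal sum with a plane. -/
theorem hd_fromBlocks_plane (hn : Odd (Fintype.card ι)) (P : Matrix (Fin 2) (Fin 2) R)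
    (T : Matrix ι ι R) :
    hd (fromBlocks P 0 0 T) = (P + Pᵀ).det * hd T := by
  have hk : Odd (Fintype.card (Fin 2 ⊕ ι)) := by
    rw [Fintype.card_sum, Fintype.card_fin]
    obtain ⟨k, hk⟩ := hn
    exact ⟨k + 1, by omega⟩
  have key : hd (fromBlocks (lft P) 0 0 (lft T)) = (lft P + (lft P)ᵀ).det * hd (lft T) := by
    apply mul_left_cancel₀ (two_ne_zero : (2 : MvPolynomial R ℤ) ≠ 0)
    rw [two_mul_hd hk, mul_left_comm, two_mul_hd hn, fromBlocks_transpose, fromBlocks_add]
    simp only [transpose_zero, add_zero]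
    rw [det_fromBlocks_zero₂₁]
  have h := congrArg (liftπ R) key
  rw [map_hd, map_mul, RingHom.map_det, map_hd, RingHom.mapMatrix_apply, fromBlocks_map,
    Matrix.map_add _ (map_add _), transpose_map, map_lft, map_lft,
    Matrix.map_zero _ (map_zero _), Matrix.map_zero _ (map_zero _)] at h
  exact h

/-- Orthogonal sum with a line. -/
theorem hd_fromBlocks_line (hn : Odd (Fintype.card (Fin 1 ⊕ ι))) (C : Matrix (Fin 1) (Fin 1) R)
    (T : Matrix ι ι R) :
    hd (fromBlocks C 0 0 T) = C 0 0 * (T + Tᵀ).det := by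
  have key : hd (fromBlocks (lft C) 0 0 (lft T)) = (lft C) 0 0 * (lft T + (lft T)ᵀ).det := by
    apply mul_left_cancel₀ (two_ne_zero : (2 : MvPolynomial R ℤ) ≠ 0)
    rw [two_mul_hd hn, fromBlocks_transpose, fromBlocks_add]
    simp only [transpose_zero, add_zero]
    rw [det_fromBlocks_zero₂₁, Matrix.det_unique]
    simp only [Matrix.add_apply, Matrix.transpose_apply, Fin.default_eq_zero]
    ring
  have h := congrArg (liftπ R) key
  rw [map_hd, map_mul, RingHom.map_det, RingHom.mapMatrix_apply, fromBlocks_map,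
    Matrix.map_add _ (map_add _), transpose_map, map_lft, map_lft,
    Matrix.map_zero _ (map_zero _), Matrix.map_zero _ (map_zero _)] at h
  have h0 : liftπ R ((lft C) 0 0) = C 0 0 := by
    have := congrFun (congrFun (map_lft C) 0) 0
    simpa using this
  rw [h0] at h
  exact h

/-- Rank one. -/
theorem hd_unique [Unique ι] (β : Matrix ι ι R) : hd β = β default default := by
  have hn : Odd (Fintype.card ι) := by rw [Fintype.card_unique]; exact odd_one
  have key : hd (lft β) = (lft β) default default := by
    apply mul_left_cancel₀ (two_ne_zero : (2 : MvPolynomial R ℤ) ≠ 0)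
    rw [two_mul_hd hn, Matrix.det_unique]
    simp only [Matrix.add_apply, Matrix.transpose_apply]
    ring
  have h := congrArg (liftπ R) key
  rw [map_hd, map_lft] at h
  have h0 : liftπ R ((lft β) default default) = β default default := by
    have := congrFun (congrFun (map_lft β) default) default
    simpa using this
  rw [h0] at h
  exact h

end lift

end Groth.Agent.Helper7.QSplit
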