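import Groth.Agent.Helper7.QOddA

/-!
# Odd split forms `c x² + ∑ xₜ yₜ` (matrix language)
-/

universe u

namespace Groth.Agent.Helper7.QSplit

open Matrix

section oddsplit

variable {R S : Type*} [CommRing R] [CommRing S]
variable {ι κ : Type*} [Fintype ι] [DecidableEq ι] [Fintype κ] [DecidableEq κ]

/-- The form `c x² + ∑ xₜ yₜ` on `Fin 1 ⊕ (τ ⊕ τ)`. -/
def oddHyp (c : R) (τ : Type*) [Fintype τ] [DecidableEq τ] :
    Matrix (Fin 1 ⊕ (τ ⊕ τ)) (Fin 1 ⊕ (τ ⊕ τ)) R :=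
  fromBlocks (c • (1 : Matrix (Fin 1) (Fin 1) R)) 0 0 (hyp R τ)

/-- `β` is congruent (modulo alternating matrices) to `c x² + ∑ xₜ yₜ`. -/
def OddSplitC (c : R) (β : Matrix ι ι R) : Prop :=
  ∃ (τ : Type) (_ : Fintype τ) (_ : DecidableEq τ) (g : Matrix ι (Fin 1 ⊕ (τ ⊕ τ)) R)
    (g' : Matrix (Fin 1 ⊕ (τ ⊕ τ)) ι R), g * g' = 1 ∧ g' * g = 1 ∧
      Alt (gᵀ * β * g - oddHyp c τ)

lemma oddSplitC_oddHyp (c : R) (τ : Type) [Fintype τ] [DecidableEq τ] :
    OddSplitC c (oddHyp c τ) :=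
  ⟨τ, inferInstance, inferInstance, 1, 1, by simp, by simp, by
    rw [transpose_one, Matrix.one_mul, Matrix.mul_one, sub_self]; exact Alt.zero⟩

lemma OddSplitC.of_conj {c : R} {β : Matrix ι ι R} {β' : Matrix κ κ R} (h : Matrix ι κ R)
    (h' : Matrix κ ι R) (h1 : h * h' = 1) (h2 : h' * h = 1) (ha : Alt (hᵀ * β * h - β'))
    (hs : OddSplitC c β') : OddSplitC c β := by
  obtain ⟨τ, _, _, g, g', hg1, hg2, hg⟩ := hs
  refine ⟨τ, inferInstance, inferInstance, h * g, g' * h', ?_, ?_, ?_⟩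
  · rw [Matrix.mul_assoc, ← Matrix.mul_assoc g, hg1, Matrix.one_mul, h1]
  · rw [Matrix.mul_assoc, ← Matrix.mul_assoc h', h2, Matrix.one_mul, hg2]
  · have : (h * g)ᵀ * β * (h * g) - oddHyp c τ =
        gᵀ * (hᵀ * β * h - β') * g + (gᵀ * β' * g - oddHyp c τ) := by
      simp only [transpose_mul, Matrix.mul_sub, Matrix.sub_mul, Matrix.mul_assoc]
      abel
    rw [this]
    exact (ha.conj g).add hg

lemma OddSplitC.of_conj_square {c : R} {β : Matrix ι ι R} (h : Matrix ι ι R)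
    (hh : IsUnit h.det) (hs : OddSplitC c (hᵀ * β * h)) : OddSplitC c β := by
  exact OddSplitC.of_conj h h⁻¹ (Matrix.mul_nonsing_inv h hh) (Matrix.nonsing_inv_mul h hh)
    (by rw [sub_self]; exact Alt.zero) hs

lemma OddSplitC.of_alt {c : R} {β β' : Matrix ι ι R} (ha : Alt (β - β'))
    (hs : OddSplitC c β') : OddSplitC c β :=
  OddSplitC.of_conj 1 1 (by simp) (by simp)
    (by rwa [transpose_one, Matrix.one_mul, Matrix.mul_one]) hs

lemma OddSplitC.of_submatrix {c : R} {β : Matrix ι ι R} (e : κ ≃ ι)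
    (hs : OddSplitC c (β.submatrix e e)) : OddSplitC c β := by
  refine OddSplitC.of_conj ((1 : Matrix ι ι R).submatrix id e)
    ((1 : Matrix ι ι R).submatrix e id) ?_ ?_ ?_ hs
  · rw [submatrix_mul_equiv, Matrix.one_mul, submatrix_id_id]
  · rw [← submatrix_mul _ _ _ _ _ Function.bijective_id, Matrix.one_mul, submatrix_one_equiv]
  · rw [transpose_submatrix, transpose_one]
    have : (1 : Matrix ι ι R).submatrix e id * β * (1 : Matrix ι ι R).submatrix id e =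
        β.submatrix e e := by
      ext i j
      simp [Matrix.mul_apply, Matrix.one_apply, Finset.sum_ite_eq, Finset.sum_ite_eq']
    rw [this, sub_self]
    exact Alt.zero

lemma map_oddHyp (f : R →+* S) (c : R) (τ : Type) [Fintype τ] [DecidableEq τ] :
    (oddHyp c τ).map f = oddHyp (f c) τ := by
  rw [oddHyp, oddHyp, fromBlocks_map, Matrix.map_zero _ (map_zero f),
    Matrix.map_zero _ (map_zero f)]
  congr 1
  · ext i j
    simp [Matrix.one_apply, apply_ite f]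
  · rw [hyp, fromBlocks_map, Matrix.map_zero _ (map_zero f),
      Matrix.map_one _ (map_zero f) (map_one f)]
    rfl

lemma OddSplitC.map {c : R} {β : Matrix ι ι R} (hs : OddSplitC c β) (f : R →+* S) :
    OddSplitC (f c) (β.map f) := by
  obtain ⟨τ, _, _, g, g', hg1, hg2, hg⟩ := hs
  refine ⟨τ, inferInstance, inferInstance, g.map f, g'.map f, ?_, ?_, ?_⟩
  · rw [← Matrix.map_mul, hg1, Matrix.map_one _ (map_zero f) (map_one f)]
  · rw [← Matrix.map_mul, hg2, Matrix.map_one _ (map_zero f) (map_one f)]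
  · have := hg.map f
    rwa [Matrix.map_sub (⇑f) (map_sub f), Matrix.map_mul, Matrix.map_mul, transpose_map,
      map_oddHyp] at this

lemma OddSplitC.of_conj_map {c : S} {β N : Matrix ι ι R}
    (H : Matrix ι ι R) (hH : IsUnit H.det) (ha : Alt (Hᵀ * β * H - N)) (f : R →+* S)
    (hs : OddSplitC c (N.map f)) : OddSplitC c (β.map f) := by
  refine OddSplitC.of_conj_square (H.map f)
    (by rw [← RingHom.mapMatrix_apply, ← RingHom.map_det]; exact hH.map f) ?_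
  refine OddSplitC.of_alt ?_ hs
  have := ha.map f
  rwa [Matrix.map_sub (⇑f) (map_sub f), Matrix.map_mul, Matrix.map_mul, transpose_map] at this

/-- Reindexing for the sum of a split form and an odd split form. -/
def oddEquiv (τ₁ τ₂ : Type) :
    Fin 1 ⊕ ((τ₁ ⊕ τ₂) ⊕ (τ₁ ⊕ τ₂)) ≃ (τ₁ ⊕ τ₁) ⊕ (Fin 1 ⊕ (τ₂ ⊕ τ₂)) where
  toFun
    | Sum.inl u => Sum.inr (Sum.inl u)
    | Sum.inr (Sum.inl (Sum.inl t)) => Sum.inl (Sum.inl t)
    | Sum.inr (Sum.inl (Sum.inr t)) => Sum.inr (Sum.inr (Sum.inl t))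
    | Sum.inr (Sum.inr (Sum.inl t)) => Sum.inl (Sum.inr t)
    | Sum.inr (Sum.inr (Sum.inr t)) => Sum.inr (Sum.inr (Sum.inr t))
  invFun
    | Sum.inl (Sum.inl t) => Sum.inr (Sum.inl (Sum.inl t))
    | Sum.inl (Sum.inr t) => Sum.inr (Sum.inr (Sum.inl t))
    | Sum.inr (Sum.inl u) => Sum.inl u
    | Sum.inr (Sum.inr (Sum.inl t)) => Sum.inr (Sum.inl (Sum.inr t))
    | Sum.inr (Sum.inr (Sum.inr t)) => Sum.inr (Sum.inr (Sum.inr t))
  left_inv := by rintro (u | (t | t) | (t | t)) <;> rfl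
  right_inv := by rintro ((t | t) | (u | (t | t))) <;> rfl

lemma oddHyp_sum (c : R) (τ₁ τ₂ : Type) [Fintype τ₁] [DecidableEq τ₁] [Fintype τ₂]
    [DecidableEq τ₂] :
    (fromBlocks (hyp R τ₁) 0 0 (oddHyp c τ₂)).submatrix (oddEquiv τ₁ τ₂) (oddEquiv τ₁ τ₂) =
      oddHyp c (τ₁ ⊕ τ₂) := by
  ext (u | (t | t) | (t | t)) (u' | (s | s) | (s | s)) <;>
    simp [oddEquiv, oddHyp, hyp, Matrix.one_apply]

lemma OddSplitC.fromBlocks {c : R} {β₁ : Matrix ι ι R} {β₂ : Matrix κ κ R} (h₁ : Splits β₁)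
    (h₂ : OddSplitC c β₂) : OddSplitC c (fromBlocks β₁ 0 0 β₂) := by
  obtain ⟨τ₁, _, _, g₁, g₁', a1, a2, a3⟩ := h₁
  obtain ⟨τ₂, _, _, g₂, g₂', b1, b2, b3⟩ := h₂
  refine OddSplitC.of_conj (Matrix.fromBlocks g₁ 0 0 g₂) (Matrix.fromBlocks g₁' 0 0 g₂') ?_ ?_
    (β' := Matrix.fromBlocks (hyp R τ₁) 0 0 (oddHyp c τ₂)) ?_ ?_
  · rw [fromBlocks_multiply]
    simp [a1, b1, fromBlocks_one]
  · rw [fromBlocks_multiply]
    simp [a2, b2, fromBlocks_one]
  · have : (Matrix.fromBlocks g₁ 0 0 g₂)ᵀ * Matrix.fromBlocks β₁ 0 0 β₂ *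
        Matrix.fromBlocks g₁ 0 0 g₂ - Matrix.fromBlocks (hyp R τ₁) 0 0 (oddHyp c τ₂) =
        Matrix.fromBlocks (g₁ᵀ * β₁ * g₁ - hyp R τ₁) 0 0 (g₂ᵀ * β₂ * g₂ - oddHyp c τ₂) := by
      rw [fromBlocks_transpose, fromBlocks_multiply, fromBlocks_multiply]
      ext (i | i) (j | j) <;> simp
    rw [this]
    exact a3.fromBlocks b3
  · exact OddSplitC.of_submatrix (oddEquiv τ₁ τ₂)
      (by rw [oddHyp_sum]; exact oddSplitC_oddHyp _ _)

/-- Rescaling the line: if `u² c = 1` then `c x²` becomes `x²`. -/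
lemma OddSplitC.rescale {c : R} {β : Matrix ι ι R} (hs : OddSplitC c β) (u : R)
    (hu : u ^ 2 * c = 1) : OddSplitC 1 β := by
  obtain ⟨τ, _, _, g, g', hg1, hg2, hg⟩ := hs
  have huu : IsUnit u := by
    have : IsUnit (u ^ 2) := IsUnit.of_mul_eq_one c hu
    exact (isUnit_pow_iff two_ne_zero).mp this
  obtain ⟨v, hv⟩ := huu.exists_right_inv
  set D : Matrix (Fin 1 ⊕ (τ ⊕ τ)) (Fin 1 ⊕ (τ ⊕ τ)) R :=
    Matrix.fromBlocks (u • (1 : Matrix (Fin 1) (Fin 1) R)) 0 0 1 with hD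
  set D' : Matrix (Fin 1 ⊕ (τ ⊕ τ)) (Fin 1 ⊕ (τ ⊕ τ)) R :=
    Matrix.fromBlocks (v • (1 : Matrix (Fin 1) (Fin 1) R)) 0 0 1 with hD'
  have hvu : v * u = 1 := by rw [mul_comm]; exact hv
  have hDD' : D * D' = 1 := by
    rw [hD, hD', fromBlocks_multiply]
    simp only [Matrix.smul_mul, Matrix.mul_smul, Matrix.one_mul, smul_smul, hv, hvu, one_smul,
      smul_zero, Matrix.zero_mul, Matrix.mul_zero, add_zero, zero_add, Matrix.mul_one,
      fromBlocks_one]
  have hD'D : D' * D = 1 := by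
    rw [hD, hD', fromBlocks_multiply]
    simp only [Matrix.smul_mul, Matrix.mul_smul, Matrix.one_mul, smul_smul, hv, hvu, one_smul,
      smul_zero, Matrix.zero_mul, Matrix.mul_zero, add_zero, zero_add, Matrix.mul_one,
      fromBlocks_one]
  refine ⟨τ, inferInstance, inferInstance, g * D, D' * g', ?_, ?_, ?_⟩
  · rw [Matrix.mul_assoc, ← Matrix.mul_assoc D, hDD', Matrix.one_mul, hg1]
  · rw [Matrix.mul_assoc, ← Matrix.mul_assoc g', hg2, Matrix.one_mul, hD'D]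
  · have h1 : Dᵀ * oddHyp c τ * D = oddHyp 1 τ := by
      rw [hD, oddHyp, oddHyp, fromBlocks_transpose, fromBlocks_multiply, fromBlocks_multiply]
      ext (i | i) (j | j)
      · fin_cases i; fin_cases j
        simp [Matrix.one_apply]
        linear_combination hu
      · simp
      · simp
      · simp
    have : (g * D)ᵀ * β * (g * D) - oddHyp 1 τ = Dᵀ * (gᵀ * β * g - oddHyp c τ) * D := by
      rw [← h1]
      simp only [transpose_mul, Matrix.mul_sub, Matrix.sub_mul, Matrix.mul_assoc]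
    rw [this]
    exact hg.conj D

end oddsplit

end Groth.Agent.Helper7.QSplit
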