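import Groth.Agent.Helper7.QOddC

/-!
# Odd rank: fppf-local splitting, and globalisation
-/

universe u

namespace Groth.Agent.Helper7.QSplit

open Matrix Polynomial

section localOdd

variable {A : Type u} [CommRing A] {ι : Type} [Fintype ι] [DecidableEq ι]

/-- `β` becomes `x² + ∑ xₜ yₜ` over some flat finitely presented `A`-algebra having a prime over
`p`. -/
def LocalOdd (β : Matrix ι ι A) (p : Ideal A) : Prop :=
  ∃ (B : Type u) (_ : CommRing B) (_ : Algebra A B), Module.Flat A B ∧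
    Algebra.FinitePresentation A B ∧
    (∃ q : Ideal B, q.IsPrime ∧ q.comap (algebraMap A B) = p) ∧
    OddSplitC 1 (β.map (algebraMap A B))

theorem GoodOdd.localOdd {β : Matrix ι ι A} {p : Ideal A} (h : GoodOdd β p) : LocalOdd β p := by
  obtain ⟨B, _, _, hE, ⟨q, hq, hqp⟩, c, hc, hS⟩ := h
  obtain ⟨v, hv⟩ := hc.exists_left_inv
  haveI : Nontrivial B := by
    by_contra hnt
    rw [not_nontrivial_iff_subsingleton] at hnt
    exact hq.ne_top ((Ideal.eq_top_iff_one q).mpr
      (by rw [Subsingleton.elim (1 : B) 0]; exact q.zero_mem))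
  have hmon : (X ^ 2 - C c : B[X]).Monic := monic_X_pow_sub_C c two_ne_zero
  haveI := hmon.free_adjoinRoot
  haveI := hmon.finite_adjoinRoot
  have hnu : ¬ IsUnit (X ^ 2 - C c : B[X]) := fun hu => by
    have h1 := hmon.eq_one_of_isUnit hu
    have h2 : (X ^ 2 - C c : B[X]).natDegree = 2 := natDegree_X_pow_sub_C
    rw [h1, natDegree_one] at h2
    omega
  haveI : Nontrivial (AdjoinRoot (X ^ 2 - C c : B[X])) :=
    Ideal.Quotient.nontrivial_iff.mpr (by simpa [Ideal.span_singleton_eq_top] using hnu)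
  haveI : Module.Flat A B := inferInstance
  refine ⟨AdjoinRoot (X ^ 2 - C c : B[X]), inferInstance, inferInstance,
    Module.Flat.trans A B _, inferInstance, ?_, ?_⟩
  · obtain ⟨q', hq'⟩ := PrimeSpectrum.comap_surjective_of_faithfullyFlat (A := B)
      (B := AdjoinRoot (X ^ 2 - C c : B[X])) ⟨q, hq⟩
    refine ⟨q'.asIdeal, q'.isPrime, ?_⟩
    rw [IsScalarTower.algebraMap_eq A B (AdjoinRoot (X ^ 2 - C c : B[X])), ← Ideal.comap_comap,
      ← hqp]
    congr 1
    exact congrArg PrimeSpectrum.asIdeal hq'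
  · have h1 := hS.map (algebraMap B (AdjoinRoot (X ^ 2 - C c : B[X])))
    rw [Matrix.map_map] at h1
    have h2 : (algebraMap B (AdjoinRoot (X ^ 2 - C c : B[X]))) ∘ (algebraMap A B) =
        algebraMap A (AdjoinRoot (X ^ 2 - C c : B[X])) := by
      ext r
      simp [IsScalarTower.algebraMap_apply A B (AdjoinRoot (X ^ 2 - C c : B[X]))]
    rw [h2] at h1
    refine h1.rescale (algebraMap B _ v * AdjoinRoot.root (X ^ 2 - C c : B[X])) ?_
    have hroot : (AdjoinRoot.root (X ^ 2 - C c : B[X])) ^ 2 =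
        algebraMap B (AdjoinRoot (X ^ 2 - C c : B[X])) c := by
      have := AdjoinRoot.eval₂_root (X ^ 2 - C c : B[X])
      simp only [eval₂_sub, eval₂_pow, eval₂_X, eval₂_C] at this
      exact sub_eq_zero.mp this
    rw [mul_pow, hroot, ← map_pow, ← map_mul, ← map_mul]
    have : v ^ 2 * c * c = 1 := by
      calc v ^ 2 * c * c = (v * c) ^ 2 := by ring
        _ = 1 := by rw [hv, one_pow]
    rw [this, map_one]

end localOdd

section pi

variable {I : Type*} (B : I → Type*) [∀ k, CommRing (B k)]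
variable {m n : Type*}

/-- Assemble a family of matrices into a matrix over the product ring. -/
def piMat (G : ∀ k, Matrix m n (B k)) : Matrix m n (∀ k, B k) := fun i j k => G k i j

lemma piMat_map (G : ∀ k, Matrix m n (B k)) (k : I) :
    (piMat B G).map (Pi.evalRingHom B k) = G k := rfl

lemma pi_mat_ext {M N : Matrix m n (∀ k, B k)}
    (h : ∀ k, M.map (Pi.evalRingHom B k) = N.map (Pi.evalRingHom B k)) : M = N := by
  ext i j k
  exact congrFun (congrFun (h k) i) j

end pi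

section sigma

/-- The reindexing `Fin 1 ⊕ (Fin m ⊕ Fin m) → Fin (2m+1)`: `0`, odd, even. -/
def sigmaFun (m : ℕ) : Fin 1 ⊕ (Fin m ⊕ Fin m) → Fin (2 * m + 1) :=
  Sum.elim (fun _ => ⟨0, by omega⟩)
    (Sum.elim (fun t => ⟨2 * t.val + 1, by omega⟩) (fun t => ⟨2 * t.val + 2, by omega⟩))

lemma sigmaFun_injective (m : ℕ) : Function.Injective (sigmaFun m) := by
  rintro (a | a | a) (b | b | b) h <;> simp only [sigmaFun, Sum.elim_inl, Sum.elim_inr,
    Fin.mk.injEq] at h
  · exact congrArg _ (Subsingleton.elim _ _)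
  · omega
  · omega
  · omega
  · exact congrArg _ (congrArg _ (Fin.ext (by omega)))
  · omega
  · omega
  · omega
  · exact congrArg _ (congrArg _ (Fin.ext (by omega)))

/-- The reindexing as an equivalence. -/
noncomputable def sigma (m : ℕ) : Fin 1 ⊕ (Fin m ⊕ Fin m) ≃ Fin (2 * m + 1) :=
  Equiv.ofBijective (sigmaFun m) ((Fintype.bijective_iff_injective_and_card _).mpr
    ⟨sigmaFun_injective m, by simp only [Fintype.card_sum, Fintype.card_fin]; omega⟩)

lemma sigma_inl (m : ℕ) (a : Fin 1) : sigma m (Sum.inl a) = ⟨0, by omega⟩ := rfl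

lemma sigma_inr_inl (m : ℕ) (t : Fin m) :
    sigma m (Sum.inr (Sum.inl t)) = ⟨2 * t.val + 1, by omega⟩ := rfl

lemma sigma_inr_inr (m : ℕ) (t : Fin m) :
    sigma m (Sum.inr (Sum.inr t)) = ⟨2 * t.val + 2, by omega⟩ := rfl

end sigma

section matrixform

variable {R : Type*} [CommRing R]

lemma qf_oddHyp (c : R) (τ : Type) [Fintype τ] [DecidableEq τ] (y : Fin 1 ⊕ (τ ⊕ τ) → R) :
    y ⬝ᵥ (oddHyp c τ) *ᵥ y =
      c * y (Sum.inl 0) ^ 2 + ∑ t, y (Sum.inr (Sum.inl t)) * y (Sum.inr (Sum.inr t)) := by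
  simp [oddHyp, hyp, dotProduct, mulVec, Fintype.sum_sum_type, Matrix.one_apply]
  ring

/-- The split odd quadratic function `x₀² + ∑ x_{2i+1} x_{2i+2}`. -/
def oddSplitFun (m : ℕ) (x : Fin (2 * m + 1) → R) : R :=
  x ⟨0, by omega⟩ ^ 2 + ∑ i : Fin m, x ⟨2 * i.val + 1, by omega⟩ * x ⟨2 * i.val + 2, by omega⟩

theorem OddSplitC.exists_matrix [Nontrivial R] {m : ℕ}
    {β : Matrix (Fin (2 * m + 1)) (Fin (2 * m + 1)) R} (hs : OddSplitC 1 β) :
    ∃ g g' : Matrix (Fin (2 * m + 1)) (Fin (2 * m + 1)) R, g * g' = 1 ∧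
      ∀ x : Fin (2 * m + 1) → R, (g *ᵥ x) ⬝ᵥ β *ᵥ (g *ᵥ x) = oddSplitFun m x := by
  obtain ⟨τ, _, _, g, g', h1, h2, ha⟩ := hs
  have hcard := Matrix.square_of_invertible g g' h1 h2
  simp only [Fintype.card_sum, Fintype.card_fin] at hcard
  have hτ : Fintype.card τ = m := by omega
  let e₀ : τ ≃ Fin m := Fintype.equivFinOfCardEq hτ
  let E : Fin 1 ⊕ (τ ⊕ τ) ≃ Fin (2 * m + 1) :=
    (Equiv.sumCongr (Equiv.refl _) (Equiv.sumCongr e₀ e₀)).trans (sigma m)
  refine ⟨g.submatrix id E.symm, g'.submatrix E.symm id, ?_, fun x => ?_⟩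
  · rw [submatrix_mul_equiv, h1, submatrix_id_id]
  · have hG : (g.submatrix id E.symm) *ᵥ x = g *ᵥ (x ∘ E) := by
      have := Matrix.submatrix_mulVec_equiv g x id E.symm
      simpa using this
    rw [hG, qf_conj]
    have h3 : gᵀ * β * g = (gᵀ * β * g - oddHyp 1 τ) + oddHyp 1 τ := by abel
    rw [h3, Matrix.add_mulVec, dotProduct_add, ha.qf, zero_add, qf_oddHyp, one_mul, oddSplitFun]
    congr 1
    rw [← Equiv.sum_comp e₀]
    rfl

end matrixform

section final

theorem exists_fppf_cover (A : Type u) [CommRing A] (m : ℕ)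
    (β : Matrix (Fin (2 * m + 1)) (Fin (2 * m + 1)) A) (hβ : IsUnit (hd β)) :
    ∃ (B : Type u) (_ : CommRing B) (_ : Algebra A B), Module.FaithfullyFlat A B ∧
      Algebra.FinitePresentation A B ∧
      ∃ g g' : Matrix (Fin (2 * m + 1)) (Fin (2 * m + 1)) B, g * g' = 1 ∧
        ∀ x : Fin (2 * m + 1) → B,
          (g *ᵥ x) ⬝ᵥ (β.map (algebraMap A B)) *ᵥ (g *ᵥ x) = oddSplitFun m x := by
  have H : ∀ p : PrimeSpectrum A, LocalOdd β p.asIdeal := fun p =>
    (good_odd m A _ (by simp) β p.asIdeal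
      (fun h => p.isPrime.ne_top (Ideal.eq_top_of_isUnit_mem _ h hβ))).localOdd
  choose B iCR iAlg hFl hFP hq hS using H
  have hopen : ∀ p : PrimeSpectrum A,
      IsOpen (Set.range (PrimeSpectrum.comap (algebraMap A (B p)))) := by
    intro p
    haveI := hFl p
    haveI := hFP p
    exact (PrimeSpectrum.isOpenMap_comap_of_hasGoingDown_of_finitePresentation
      (R := A) (S := B p)).isOpen_range
  have hcov : (Set.univ : Set (PrimeSpectrum A)) ⊆
      ⋃ p : PrimeSpectrum A, Set.range (PrimeSpectrum.comap (algebraMap A (B p))) := by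
    intro p _
    obtain ⟨q, hqp, hqc⟩ := hq p
    exact Set.mem_iUnion.mpr ⟨p, ⟨⟨q, hqp⟩, PrimeSpectrum.ext hqc⟩⟩
  obtain ⟨s, hs⟩ := isCompact_univ.elim_finite_subcover _ hopen hcov
  let C : s → Type u := fun k => B k.1
  haveI : ∀ k : s, Module.Flat A (C k) := fun k => hFl k.1
  haveI : ∀ k : s, Algebra.FinitePresentation A (C k) := fun k => hFP k.1
  haveI : Module.Flat A (∀ k : s, C k) :=
    Module.Flat.of_linearEquiv (DFinsupp.linearEquivFunOnFintype (R := A) (M := C)).symm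
  haveI : Module.FaithfullyFlat A (∀ k : s, C k) := by
    apply Module.FaithfullyFlat.of_comap_surjective
    intro p
    have hp := hs (Set.mem_univ p)
    simp only [Set.mem_iUnion] at hp
    obtain ⟨p', hp's, q, hq'⟩ := hp
    refine ⟨PrimeSpectrum.comap (Pi.evalRingHom C ⟨p', hp's⟩) q, ?_⟩
    rw [← hq']
    rfl
  have hnt : ∀ k : s, Nontrivial (C k) := by
    intro k
    obtain ⟨q, hqp, _⟩ := hq k.1
    by_contra hnt
    rw [not_nontrivial_iff_subsingleton] at hnt
    exact hqp.ne_top ((Ideal.eq_top_iff_one q).mpr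
      (by rw [Subsingleton.elim (1 : C k) 0]; exact q.zero_mem))
  have hM : ∀ k : s, ∃ g g' : Matrix (Fin (2 * m + 1)) (Fin (2 * m + 1)) (C k), g * g' = 1 ∧
      ∀ x : Fin (2 * m + 1) → C k,
        (g *ᵥ x) ⬝ᵥ (β.map (algebraMap A (C k))) *ᵥ (g *ᵥ x) = oddSplitFun m x := by
    intro k
    haveI := hnt k
    exact (hS k.1).exists_matrix
  choose g g' hgg' hgx using hM
  refine ⟨∀ k : s, C k, inferInstance, inferInstance, inferInstance, inferInstance,
    piMat C g, piMat C g', ?_, ?_⟩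
  · apply pi_mat_ext
    intro k
    rw [Matrix.map_mul, piMat_map, piMat_map, hgg',
      Matrix.map_one _ (map_zero _) (map_one _)]
  · intro x
    funext k
    have hx := hgx k (fun i => x i k)
    have e1 : ∀ (M : Matrix (Fin (2 * m + 1)) (Fin (2 * m + 1)) (∀ k : s, C k))
        (v : Fin (2 * m + 1) → ∀ k : s, C k) (i : Fin (2 * m + 1)),
        (M *ᵥ v) i k = ((M.map (Pi.evalRingHom C k)) *ᵥ (fun j => v j k)) i := by
      intro M v i
      simp [Matrix.mulVec, dotProduct]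
    have e2 : ∀ (v w : Fin (2 * m + 1) → ∀ k : s, C k),
        (v ⬝ᵥ w) k = (fun j => v j k) ⬝ᵥ (fun j => w j k) := by
      intro v w
      simp [dotProduct]
    rw [e2]
    simp only [e1]
    rw [piMat_map]
    have e3 : (β.map (algebraMap A (∀ k : s, C k))).map (Pi.evalRingHom C k) =
        β.map (algebraMap A (C k)) := by
      ext i j
      rfl
    rw [e3]
    have e4 : oddSplitFun m x k = oddSplitFun m (fun i => x i k) := by
      simp [oddSplitFun]
    rw [e4, ← hx]

end final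

end Groth.Agent.Helper7.QSplit
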