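import Mathlib
import Groth.Agent.Helper7.QR2

set_option autoImplicit false
set_option linter.unusedSectionVars false
set_option linter.unusedVariables false

namespace Groth.Agent.Helper7.QR

open MvPolynomial

universe u
variable {A : Type u} [CommRing A] {n m : ℕ}

lemma lift_lowVanish (I : Ideal A) (d : ℕ) (Gb : MvPolynomial (Fin m) (A ⧸ I))
    (hGb : LowVanish d Gb) :
    ∃ G : MvPolynomial (Fin m) A, map (Ideal.Quotient.mk I) G = Gb ∧ LowVanish d G := by
  classical
  let s : A ⧸ I → A := Function.surjInv Ideal.Quotient.mk_surjective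
  have hs : ∀ x, Ideal.Quotient.mk I (s x) = x := Function.surjInv_eq _
  refine ⟨∑ β ∈ Gb.support, monomial β (s (coeff β Gb)), ?_, ?_⟩
  · rw [map_sum]
    simp only [map_monomial, hs]
    exact support_sum_monomial_coeff Gb
  · intro β' hβ'
    rw [coeff_sum]
    refine Finset.sum_eq_zero fun β hβ => ?_
    rw [coeff_monomial]
    split_ifs with h
    · subst h
      exact absurd (hGb _ hβ') (mem_support_iff.mp hβ)
    · rfl

lemma split_coeffs (f : Fin n → A) (d : ℕ) (E : MvPolynomial (Fin m) A)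
    (hE : ∀ β, coeff β E ∈ Ideal.span (Set.range f)) (hEl : LowVanish d E) :
    ∃ Ei : Fin n → MvPolynomial (Fin m) A, (∀ i, LowVanish d (Ei i)) ∧
      E = ∑ i, C (f i) * Ei i := by
  classical
  have : ∀ β, ∃ c : Fin n → A, ∑ i, c i * f i = coeff β E :=
    fun β => Ideal.mem_span_range_iff_exists_fun.mp (hE β)
  choose c hc using this
  refine ⟨fun i => ∑ β ∈ E.support, monomial β (c β i), ?_, ?_⟩
  · intro i β' hβ'
    rw [coeff_sum]
    refine Finset.sum_eq_zero fun β hβ => ?_
    rw [coeff_monomial]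
    split_ifs with h
    · subst h
      exact absurd (hEl _ hβ') (mem_support_iff.mp hβ)
    · rfl
  · simp only [Finset.mul_sum, C_mul_monomial]
    rw [Finset.sum_comm]
    conv_lhs => rw [← support_sum_monomial_coeff E]
    refine Finset.sum_congr rfl fun β _ => ?_
    rw [← map_sum, ← hc β]
    congr 1
    exact Finset.sum_congr rfl fun i _ => mul_comm _ _

lemma eval_map_mk (I : Ideal A) (g : Fin m → A) (T : MvPolynomial (Fin m) A) :
    eval (fun j => Ideal.Quotient.mk I (g j)) (map (Ideal.Quotient.mk I) T) =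
      Ideal.Quotient.mk I (eval g T) := by
  have : (eval (fun j => Ideal.Quotient.mk I (g j))).comp (map (Ideal.Quotient.mk I)) =
      (Ideal.Quotient.mk I).comp (eval g) := by
    apply MvPolynomial.ringHom_ext
    · intro a; simp
    · intro i; simp
  exact RingHom.congr_fun this T

lemma lifted_KL (f : Fin n → A) (g : Fin m → A)
    (hg : CAlgX.IsH1Regular (fun j => Ideal.Quotient.mk (Ideal.span (Set.range f)) (g j)))
    (d : ℕ) (T : MvPolynomial (Fin m) A) (hT : LowVanish d T)
    (hTe : eval g T ∈ Ideal.span (Set.range f)) :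
    ∃ (G : Fin m → MvPolynomial (Fin m) A) (E : Fin n → MvPolynomial (Fin m) A),
      (∀ l, LowVanish d (G l)) ∧ (∀ i, LowVanish d (E i)) ∧
      T = ∑ l, (X l - C (g l)) * G l + ∑ i, C (f i) * E i := by
  set I := Ideal.span (Set.range f) with hI
  have hTb : LowVanish d (map (Ideal.Quotient.mk I) T) := by
    intro β hβ; rw [coeff_map, hT β hβ, map_zero]
  have h0 : eval (fun j => Ideal.Quotient.mk I (g j)) (map (Ideal.Quotient.mk I) T) = 0 := by
    rw [eval_map_mk, Ideal.Quotient.eq_zero_iff_mem]; exact hTe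
  obtain ⟨Gb, hGb, hTGb⟩ := KL hg d _ hTb h0
  have : ∀ l, ∃ G : MvPolynomial (Fin m) A, map (Ideal.Quotient.mk I) G = Gb l ∧ LowVanish d G :=
    fun l => lift_lowVanish I d (Gb l) (hGb l)
  choose G hGmap hGlow using this
  have hElow : LowVanish d (T - ∑ l, (X l - C (g l)) * G l) :=
    hT.sub (LowVanish.sum _ _ fun l _ => (hGlow l).X_sub_C_mul l (g l))
  have hEc : ∀ β, coeff β (T - ∑ l, (X l - C (g l)) * G l) ∈ I := by
    intro β
    rw [← Ideal.Quotient.eq_zero_iff_mem, ← coeff_map, map_sub, hTGb, map_sum]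
    simp only [map_mul, map_sub, map_X, map_C, hGmap, sub_self, coeff_zero]
  obtain ⟨Ei, hEi, hE⟩ := split_coeffs f d _ hEc hElow
  refine ⟨G, Ei, hGlow, hEi, ?_⟩
  rw [← hE]; ring

end Groth.Agent.Helper7.QR
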