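import Mathlib
import Groth.Agent.Helper7.QR3

set_option autoImplicit false
set_option linter.unusedSectionVars false
set_option linter.unusedVariables false

namespace Groth.Agent.Helper7.QR

open MvPolynomial

universe u
variable {A : Type u} [CommRing A] {n m : ℕ}

/-- iterated polynomial ring `A[Y][X]` -/
abbrev W (A : Type u) [CommRing A] (n m : ℕ) := MvPolynomial (Fin n) (MvPolynomial (Fin m) A)

/-- evaluation of an iterated polynomial at `X = f`, `Y = g`. -/
noncomputable def ev (f : Fin n → A) (g : Fin m → A) : W A n m →+* A :=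
  (eval f).comp (map (eval g))

/-- the value of the monomial `X^α` at `f`. -/
noncomputable def fpow (f : Fin n → A) (α : Fin n →₀ ℕ) : A := α.prod fun k e => f k ^ e

lemma fpow_add_single (f : Fin n → A) (α : Fin n →₀ ℕ) (i : Fin n) :
    fpow f (α + Finsupp.single i 1) = fpow f α * f i := by
  unfold fpow
  rw [Finsupp.prod_add_index' (h := fun k e => f k ^ e) (fun _ => pow_zero _)
    (fun _ _ _ => pow_add _ _ _)]
  congr 1
  rw [Finsupp.prod_single_index (h := fun k e => f k ^ e) (pow_zero _), pow_one]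

lemma ev_monomial (f : Fin n → A) (g : Fin m → A) (α : Fin n →₀ ℕ) (c : MvPolynomial (Fin m) A) :
    ev f g (monomial α c) = eval g c * fpow f α := by
  simp only [ev, RingHom.comp_apply, map_monomial, eval_monomial, fpow]

lemma fpow_mem_pow (f : Fin n → A) (α : Fin n →₀ ℕ) :
    fpow f α ∈ Ideal.span (Set.range f) ^ α.degree := by
  rw [Ideal.mem_span_pow_iff_exists_isHomogeneous]
  exact ⟨monomial α 1, isHomogeneous_monomial _ rfl, by simp [eval_monomial, fpow]⟩

lemma eval_mem_pow_of_high (f : Fin n → A) (j : ℕ) (p : MvPolynomial (Fin n) A)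
    (hp : ∀ α : Fin n →₀ ℕ, α.degree ≤ j → coeff α p = 0) :
    eval f p ∈ Ideal.span (Set.range f) ^ (j + 1) := by
  rw [p.as_sum, map_sum]
  refine Ideal.sum_mem _ fun α hα => ?_
  rw [eval_monomial]
  have hdeg : j + 1 ≤ α.degree := by
    by_contra hcon
    exact (mem_support_iff.mp hα) (hp α (by omega))
  exact Ideal.mul_mem_left _ _ (Ideal.pow_le_pow_right hdeg (fpow_mem_pow f α))

def Hyp (N j : ℕ) (P : W A n m) : Prop :=
  (∀ α : Fin n →₀ ℕ, α.degree < j → coeff α P = 0) ∧
  (∀ α : Fin n →₀ ℕ, LowVanish (N - α.degree) (coeff α P))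

def Concl (K : Ideal A) (N : ℕ) (P : W A n m) : Prop :=
  ∀ (α : Fin n →₀ ℕ) (β : Fin m →₀ ℕ), α.degree + β.degree ≤ N → coeff β (coeff α P) ∈ K

lemma Concl.add {K : Ideal A} {N : ℕ} {P Q : W A n m} (hP : Concl K N P) (hQ : Concl K N Q) :
    Concl K N (P + Q) := by
  intro α β h
  rw [coeff_add, coeff_add]
  exact add_mem (hP α β h) (hQ α β h)

lemma Concl.sum {ι : Type*} {K : Ideal A} {N : ℕ} (s : Finset ι) (P : ι → W A n m)
    (hP : ∀ i ∈ s, Concl K N (P i)) : Concl K N (∑ i ∈ s, P i) := by
  intro α β h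
  rw [coeff_sum, coeff_sum]
  exact Ideal.sum_mem _ fun i hi => hP i hi α β h

/-- the quasi-regularity step -/
lemma QStep {f : Fin n → A} (g : Fin m → A) (hf : CAlgX.IsQuasiRegular f) {N j : ℕ} (P : W A n m)
    (hP : Hyp N j P) (h0 : ev f g P = 0) (α : Fin n →₀ ℕ) (hα : α.degree = j) :
    eval g (coeff α P) ∈ Ideal.span (Set.range f) := by
  classical
  set p : MvPolynomial (Fin n) A := map (eval g) P with hp
  have hpc : ∀ α, coeff α p = eval g (coeff α P) := fun α => coeff_map _ _ _
  set Q := homogeneousComponent j p with hQ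
  have hQh : Q.IsHomogeneous j := homogeneousComponent_isHomogeneous j p
  have hhigh : eval f (p - Q) ∈ Ideal.span (Set.range f) ^ (j + 1) := by
    apply eval_mem_pow_of_high
    intro α' hα'
    rw [coeff_sub, hQ, coeff_homogeneousComponent]
    split_ifs with h
    · rw [sub_self]
    · rw [sub_zero, hpc, hP.1 α' (by omega), map_zero]
  have hev : eval f Q ∈ Ideal.span (Set.range f) ^ (j + 1) := by
    have : eval f Q = - eval f (p - Q) := by
      have h1 : eval f p = 0 := h0
      rw [map_sub, h1]; ring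
    rw [this]; exact neg_mem hhigh
  have := hf j Q hQh hev α
  rwa [hQ, coeff_homogeneousComponent, if_pos hα, hpc] at this

/-- the correction polynomial -/
noncomputable def Δ (α : Fin n →₀ ℕ) (T : MvPolynomial (Fin m) A)
    (E : Fin n → MvPolynomial (Fin m) A) : W A n m :=
  monomial α T - ∑ i, monomial (α + Finsupp.single i 1) (E i)

lemma ev_Δ (f : Fin n → A) (g : Fin m → A) (α : Fin n →₀ ℕ) (T : MvPolynomial (Fin m) A)
    (G : Fin m → MvPolynomial (Fin m) A) (E : Fin n → MvPolynomial (Fin m) A)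
    (hT : T = ∑ l, (X l - C (g l)) * G l + ∑ i, C (f i) * E i) :
    ev f g (Δ α T E) = 0 := by
  unfold Δ
  rw [map_sub, map_sum, ev_monomial]
  simp only [ev_monomial, fpow_add_single]
  rw [hT]
  simp only [map_add, map_sum, map_mul, map_sub, eval_X, eval_C, sub_self, zero_mul,
    Finset.sum_const_zero, zero_add, Finset.sum_mul]
  rw [← Finset.sum_sub_distrib]
  exact Finset.sum_eq_zero fun i _ => by ring

lemma degree_add_single {k : ℕ} (α : Fin k →₀ ℕ) (i : Fin k) :
    (α + Finsupp.single i 1).degree = α.degree + 1 := by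
  rw [map_add, Finsupp.degree_single]

lemma concl_Δ (f : Fin n → A) (g : Fin m → A) (K : Ideal A) (hfK : ∀ i, f i ∈ K)
    (hgK : ∀ l, g l ∈ K) (N j : ℕ) (hj : j ≤ N) (α : Fin n →₀ ℕ) (hα : α.degree = j)
    (T : MvPolynomial (Fin m) A)
    (G : Fin m → MvPolynomial (Fin m) A) (E : Fin n → MvPolynomial (Fin m) A)
    (hG : ∀ l, LowVanish (N - j) (G l)) (hE : ∀ i, LowVanish (N - j) (E i))
    (hT : T = ∑ l, (X l - C (g l)) * G l + ∑ i, C (f i) * E i) :
    Concl K N (Δ α T E) := by
  classical
  intro α' β hαβ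
  unfold Δ
  rw [coeff_sub, coeff_sub, coeff_sum, coeff_sum]
  refine sub_mem ?_ (Ideal.sum_mem _ fun i _ => ?_)
  · rw [coeff_monomial]
    split_ifs with h
    · subst h
      have hβ : β.degree ≤ N - j := by omega
      rw [hT, coeff_add, coeff_sum, coeff_sum]
      refine add_mem (Ideal.sum_mem _ fun l _ => ?_) (Ideal.sum_mem _ fun i _ => ?_)
      · rw [coeff_X_sub_C_mul_of_lowVanish l (g l) (hG l) β hβ]
        exact neg_mem (Ideal.mul_mem_right _ _ (hgK l))
      · rw [coeff_C_mul]
        exact Ideal.mul_mem_right _ _ (hfK i)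
    · rw [coeff_zero]; exact zero_mem _
  · rw [coeff_monomial]
    split_ifs with h
    · have h1 : α'.degree = j + 1 := by rw [← h, degree_add_single, hα]
      rw [hE i β (by omega)]
      exact zero_mem _
    · rw [coeff_zero]; exact zero_mem _

lemma hyp_sub_Δ (N j : ℕ) (P : W A n m) (hP : Hyp N j P)
    (EE : (Fin n →₀ ℕ) → Fin n → MvPolynomial (Fin m) A)
    (hEE : ∀ α ∈ P.support.filter (fun α => α.degree = j), ∀ i, LowVanish (N - j) (EE α i)) :
    Hyp N (j + 1)
      (P - ∑ α ∈ P.support.filter (fun α => α.degree = j), Δ α (coeff α P) (EE α)) := by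
  classical
  set D := P.support.filter (fun α => α.degree = j) with hD
  have hDdeg : ∀ α ∈ D, α.degree = j := fun α hα => (Finset.mem_filter.mp hα).2
  have hcoeff : ∀ α', coeff α' (P - ∑ α ∈ D, Δ α (coeff α P) (EE α)) =
      coeff α' P - ∑ α ∈ D, ((if α = α' then coeff α P else 0) -
        ∑ i, (if α + Finsupp.single i 1 = α' then EE α i else 0)) := by
    intro α'
    rw [coeff_sub, coeff_sum]
    congr 1
    refine Finset.sum_congr rfl fun α _ => ?_
    unfold Δ
    rw [coeff_sub, coeff_sum, coeff_monomial]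
    congr 1
    exact Finset.sum_congr rfl fun i _ => coeff_monomial _ _ _
  constructor
  · intro α' hα'
    rw [hcoeff]
    have hE0 : ∀ α ∈ D, ∀ i, (if α + Finsupp.single i 1 = α' then EE α i else 0) = 0 := by
      intro α hα i
      rw [if_neg]
      intro h
      have : α'.degree = j + 1 := by rw [← h, degree_add_single, hDdeg α hα]
      omega
    by_cases hlt : α'.degree < j
    · rw [hP.1 α' hlt, zero_sub, neg_eq_zero]
      refine Finset.sum_eq_zero fun α hα => ?_
      rw [if_neg, zero_sub, neg_eq_zero]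
      · exact Finset.sum_eq_zero fun i _ => hE0 α hα i
      · intro h; rw [← h, hDdeg α hα] at hlt; exact lt_irrefl _ hlt
    · have heq : α'.degree = j := by omega
      have : ∑ α ∈ D, ((if α = α' then coeff α P else 0) -
          ∑ i, (if α + Finsupp.single i 1 = α' then EE α i else 0)) =
          ∑ α ∈ D, (if α = α' then coeff α P else 0) := by
        refine Finset.sum_congr rfl fun α hα => ?_
        rw [Finset.sum_eq_zero fun i _ => hE0 α hα i, sub_zero]
      rw [this, Finset.sum_ite_eq' D α']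
      split_ifs with hmem
      · rw [sub_self]
      · rw [sub_zero]
        by_contra hne
        exact hmem (Finset.mem_filter.mpr ⟨mem_support_iff.mpr hne, heq⟩)
  · intro α'
    rw [hcoeff]
    refine (hP.2 α').sub (LowVanish.sum _ _ fun α hα => ?_)
    refine LowVanish.sub ?_ (LowVanish.sum _ _ fun i _ => ?_)
    · split_ifs with h
      · subst h; exact hP.2 α
      · exact LowVanish.zero _
    · split_ifs with h
      · have : α'.degree = j + 1 := by rw [← h, degree_add_single, hDdeg α hα]
        exact (hEE α hα i).mono (by omega)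
      · exact LowVanish.zero _

theorem core_iter {f : Fin n → A} (g : Fin m → A) (hf : CAlgX.IsQuasiRegular f)
    (hg : CAlgX.IsH1Regular (fun j => Ideal.Quotient.mk (Ideal.span (Set.range f)) (g j)))
    (K : Ideal A) (hfK : ∀ i, f i ∈ K) (hgK : ∀ l, g l ∈ K) (N : ℕ) :
    ∀ k j : ℕ, j + k = N + 1 → ∀ P : W A n m, Hyp N j P → ev f g P = 0 → Concl K N P := by
  classical
  intro k
  induction k with
  | zero =>
    intro j hj P hP _ α β hαβ
    rw [hP.1 α (by omega), coeff_zero]
    exact zero_mem _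
  | succ k ih =>
    intro j hj P hP h0
    have hjN : j ≤ N := by omega
    set D := P.support.filter (fun α => α.degree = j) with hD
    have hDdeg : ∀ α ∈ D, α.degree = j := fun α hα => (Finset.mem_filter.mp hα).2
    have hq := QStep g hf P hP h0
    have ex : ∀ α : Fin n →₀ ℕ, ∃ (G : Fin m → MvPolynomial (Fin m) A)
        (E : Fin n → MvPolynomial (Fin m) A), α ∈ D →
        ((∀ l, LowVanish (N - j) (G l)) ∧ (∀ i, LowVanish (N - j) (E i)) ∧
          coeff α P = ∑ l, (X l - C (g l)) * G l + ∑ i, C (f i) * E i) := by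
      intro α
      by_cases hα : α ∈ D
      · have h1 : LowVanish (N - j) (coeff α P) := by
          have := hP.2 α; rwa [hDdeg α hα] at this
        obtain ⟨G, E, hG, hE, hT⟩ := lifted_KL f g hg (N - j) (coeff α P) h1 (hq α (hDdeg α hα))
        exact ⟨G, E, fun _ => ⟨hG, hE, hT⟩⟩
      · exact ⟨0, 0, fun h => absurd h hα⟩
    choose GG EE hGE using ex
    set P'' := P - ∑ α ∈ D, Δ α (coeff α P) (EE α) with hP''
    have h1 : Hyp N (j + 1) P'' :=
      hyp_sub_Δ N j P hP EE (fun α hα i => (hGE α hα).2.1 i)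
    have h2 : ev f g P'' = 0 := by
      rw [hP'', map_sub, map_sum, h0, zero_sub, neg_eq_zero]
      exact Finset.sum_eq_zero fun α hα => ev_Δ f g α _ (GG α) (EE α) (hGE α hα).2.2
    have h3 : Concl K N P'' := ih (j + 1) (by omega) P'' h1 h2
    have h4 : P = P'' + ∑ α ∈ D, Δ α (coeff α P) (EE α) := by rw [hP'']; ring
    rw [h4]
    refine h3.add (Concl.sum _ _ fun α hα => ?_)
    exact concl_Δ f g K hfK hgK N j hjN α (hDdeg α hα) _ (GG α) (EE α)
      (hGE α hα).1 (hGE α hα).2.1 (hGE α hα).2.2

end Groth.Agent.Helper7.QR
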