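import Mathlib
import Groth.Agent.Helper7.QR4

set_option autoImplicit false
set_option linter.unusedSectionVars false
set_option linter.unusedVariables false

namespace Groth.Agent.Helper7.QR

open MvPolynomial

universe u
variable {A : Type u} [CommRing A] {n m : ℕ}

noncomputable def expL (d : Fin (n + m) →₀ ℕ) : Fin n →₀ ℕ :=
  Finsupp.equivFunOnFinite.symm (fun i => d (Fin.castAdd m i))

noncomputable def expR (d : Fin (n + m) →₀ ℕ) : Fin m →₀ ℕ :=
  Finsupp.equivFunOnFinite.symm (fun j => d (Fin.natAdd n j))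

@[simp] lemma expL_apply (d : Fin (n + m) →₀ ℕ) (i : Fin n) : expL d i = d (Fin.castAdd m i) := rfl

@[simp] lemma expR_apply (d : Fin (n + m) →₀ ℕ) (j : Fin m) : expR d j = d (Fin.natAdd n j) := rfl

lemma exp_inj {d d' : Fin (n + m) →₀ ℕ} (hL : expL d = expL d') (hR : expR d = expR d') :
    d = d' := by
  ext k
  induction k using Fin.addCases with
  | left i => simpa using DFunLike.congr_fun hL i
  | right j => simpa using DFunLike.congr_fun hR j

lemma degree_split (d : Fin (n + m) →₀ ℕ) : d.degree = (expL d).degree + (expR d).degree := by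
  rw [Finsupp.degree_eq_sum, Finsupp.degree_eq_sum, Finsupp.degree_eq_sum, Fin.sum_univ_add]
  rfl

/-- the transfer map `A[Z_1..Z_{n+m}] → A[Y][X]` -/
noncomputable def Φ : MvPolynomial (Fin (n + m)) A →+* W A n m :=
  eval₂Hom (C.comp C) (Fin.append (fun i => (X i : W A n m)) (fun j => C (X j)))

lemma Φ_monomial (d : Fin (n + m) →₀ ℕ) (a : A) :
    Φ (n := n) (m := m) (monomial d a) = monomial (expL d) (monomial (expR d) a) := by
  unfold Φ
  rw [eval₂Hom_monomial, Finsupp.prod_fintype _ _ (fun _ => pow_zero _), Fin.prod_univ_add]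
  simp only [Fin.append_left, Fin.append_right]
  rw [monomial_eq (s := expL d), Finsupp.prod_fintype _ _ (fun _ => pow_zero _),
    monomial_eq (s := expR d), Finsupp.prod_fintype _ _ (fun _ => pow_zero _)]
  simp only [map_mul, map_prod, map_pow, RingHom.comp_apply, expL_apply, expR_apply]
  ring

lemma Φ_apply (P : MvPolynomial (Fin (n + m)) A) :
    Φ (n := n) (m := m) P =
      ∑ d ∈ P.support, monomial (expL d) (monomial (expR d) (coeff d P)) := by
  conv_lhs => rw [P.as_sum]
  rw [map_sum]
  exact Finset.sum_congr rfl fun d _ => Φ_monomial d _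

lemma coeff_coeff_Φ (P : MvPolynomial (Fin (n + m)) A) (α : Fin n →₀ ℕ) (β : Fin m →₀ ℕ) :
    coeff β (coeff α (Φ (n := n) (m := m) P)) =
      ∑ d ∈ P.support, if expL d = α ∧ expR d = β then coeff d P else 0 := by
  classical
  rw [Φ_apply, coeff_sum, coeff_sum]
  refine Finset.sum_congr rfl fun d _ => ?_
  rw [coeff_monomial]
  by_cases h1 : expL d = α
  · rw [if_pos h1, coeff_monomial]
    by_cases h2 : expR d = β
    · rw [if_pos h2, if_pos ⟨h1, h2⟩]
    · rw [if_neg h2, if_neg (fun h => h2 h.2)]
  · rw [if_neg h1, coeff_zero, if_neg (fun h => h1 h.1)]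

lemma coeff_coeff_Φ_exp (P : MvPolynomial (Fin (n + m)) A) (d₀ : Fin (n + m) →₀ ℕ) :
    coeff (expR d₀) (coeff (expL d₀) (Φ (n := n) (m := m) P)) = coeff d₀ P := by
  classical
  rw [coeff_coeff_Φ]
  have : ∀ d ∈ P.support, (if expL d = expL d₀ ∧ expR d = expR d₀ then coeff d P else 0) =
      if d₀ = d then coeff d P else 0 := by
    intro d _
    by_cases h : d₀ = d
    · subst h; simp
    · rw [if_neg h, if_neg]
      rintro ⟨h1, h2⟩
      exact h (exp_inj h1 h2).symm
  rw [Finset.sum_congr rfl this, Finset.sum_ite_eq P.support d₀]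
  split_ifs with hmem
  · rfl
  · exact (notMem_support_iff.mp hmem).symm

lemma ev_Φ (f : Fin n → A) (g : Fin m → A) (P : MvPolynomial (Fin (n + m)) A) :
    ev f g (Φ P) = eval (Fin.append f g) P := by
  have : (ev f g).comp (Φ (n := n) (m := m)) = eval (Fin.append f g) := by
    apply MvPolynomial.ringHom_ext
    · intro a
      simp [ev, Φ]
    · intro k
      induction k using Fin.addCases with
      | left i => simp [ev, Φ]
      | right j => simp [ev, Φ]
  exact RingHom.congr_fun this P

theorem main_2104 (f : Fin n → A) (g : Fin m → A) (hf : CAlgX.IsQuasiRegular f)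
    (hg : CAlgX.IsH1Regular (fun j => Ideal.Quotient.mk (Ideal.span (Set.range f)) (g j))) :
    CAlgX.IsQuasiRegular (Fin.append f g) := by
  classical
  apply isQuasiRegular_of_core
  intro N T hT hT0 d
  set K := Ideal.span (Set.range (Fin.append f g)) with hK
  have hfK : ∀ i, f i ∈ K := fun i =>
    Ideal.subset_span ⟨Fin.castAdd m i, Fin.append_left f g i⟩
  have hgK : ∀ l, g l ∈ K := fun l =>
    Ideal.subset_span ⟨Fin.natAdd n l, Fin.append_right f g l⟩
  have hyp : Hyp N 0 (Φ (n := n) (m := m) T) := by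
    refine ⟨fun α h => absurd h (Nat.not_lt_zero _), fun α β hβ => ?_⟩
    rw [coeff_coeff_Φ]
    refine Finset.sum_eq_zero fun d' hd' => ?_
    rw [if_neg]
    rintro ⟨h1, h2⟩
    have hdeg : d'.degree = N := by
      by_contra hne
      exact (mem_support_iff.mp hd') (hT.coeff_eq_zero hne)
    rw [degree_split, h1, h2] at hdeg
    omega
  have h0 : ev f g (Φ T) = 0 := by rw [ev_Φ, hT0]
  have hc := core_iter g hf hg K hfK hgK N (N + 1) 0 (by omega) (Φ T) hyp h0
  by_cases hd : coeff d T = 0
  · rw [hd]; exact zero_mem _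
  · have hdeg : d.degree = N := by
      by_contra hne
      exact hd (hT.coeff_eq_zero hne)
    have := hc (expL d) (expR d) (by rw [← degree_split, hdeg])
    rwa [coeff_coeff_Φ_exp] at this

end Groth.Agent.Helper7.QR
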