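import Mathlib

/-!
# Splitting quadratic forms (matrix language): alternating matrices and split forms
-/

namespace Groth.Agent.Helper7.QSplit

open Matrix

section alt

variable {R S : Type*} [CommRing R] [CommRing S]
variable {ι κ : Type*} [Fintype ι] [DecidableEq ι] [Fintype κ] [DecidableEq κ]

/-- Alternating matrices, presented as `U - Uᵀ`: they define the zero quadratic form. -/
def Alt (M : Matrix ι ι R) : Prop := ∃ U : Matrix ι ι R, M = U - Uᵀ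

lemma Alt.zero : Alt (0 : Matrix ι ι R) := ⟨0, by simp⟩

lemma alt_of_eq {M N : Matrix ι ι R} (h : M = N) : Alt (M - N) := by
  rw [h, sub_self]; exact Alt.zero

lemma Alt.add {M N : Matrix ι ι R} (hM : Alt M) (hN : Alt N) : Alt (M + N) := by
  obtain ⟨U, rfl⟩ := hM
  obtain ⟨V, rfl⟩ := hN
  exact ⟨U + V, by rw [transpose_add]; abel⟩

lemma Alt.neg {M : Matrix ι ι R} (hM : Alt M) : Alt (-M) := by
  obtain ⟨U, rfl⟩ := hM
  exact ⟨-U, by rw [transpose_neg]; abel⟩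

lemma Alt.sub {M N : Matrix ι ι R} (hM : Alt M) (hN : Alt N) : Alt (M - N) := by
  rw [sub_eq_add_neg]; exact hM.add hN.neg

lemma Alt.conj {M : Matrix ι ι R} (hM : Alt M) (g : Matrix ι κ R) : Alt (gᵀ * M * g) := by
  obtain ⟨U, rfl⟩ := hM
  refine ⟨gᵀ * U * g, ?_⟩
  simp only [transpose_mul, transpose_transpose, Matrix.mul_sub, Matrix.sub_mul, Matrix.mul_assoc]

lemma Alt.map {M : Matrix ι ι R} (hM : Alt M) (f : R →+* S) : Alt (M.map f) := by
  obtain ⟨U, rfl⟩ := hM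
  refine ⟨U.map f, ?_⟩
  ext i j
  simp

lemma Alt.submatrix {M : Matrix ι ι R} (hM : Alt M) (e : κ → ι) : Alt (M.submatrix e e) := by
  obtain ⟨U, rfl⟩ := hM
  exact ⟨U.submatrix e e, by ext i j; simp⟩

lemma Alt.fromBlocks {M : Matrix ι ι R} {N : Matrix κ κ R} (hM : Alt M) (hN : Alt N) :
    Alt (fromBlocks M 0 0 N) := by
  obtain ⟨U, rfl⟩ := hM
  obtain ⟨V, rfl⟩ := hN
  refine ⟨Matrix.fromBlocks U 0 0 V, ?_⟩
  ext (i | i) (j | j) <;> simp

lemma alt_fromBlocks_off (X : Matrix ι κ R) (Y : Matrix κ ι R) (h : Y = -Xᵀ) :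
    Alt (fromBlocks 0 X Y 0) := by
  refine ⟨Matrix.fromBlocks 0 X 0 0, ?_⟩
  subst h
  ext (i | i) (j | j) <;> simp

lemma Alt.qf {M : Matrix ι ι R} (hM : Alt M) (x : ι → R) : x ⬝ᵥ M *ᵥ x = 0 := by
  obtain ⟨U, rfl⟩ := hM
  rw [Matrix.sub_mulVec, dotProduct_sub, sub_eq_zero]
  rw [dotProduct_mulVec x Uᵀ, vecMul_transpose, dotProduct_comm]

end alt

section splits

variable {R S : Type*} [CommRing R] [CommRing S]
variable {ι κ : Type*} [Fintype ι] [DecidableEq ι] [Fintype κ] [DecidableEq κ]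

/-- The split (hyperbolic) form `∑ xₜ yₜ` on `τ ⊕ τ`. -/
def hyp (R : Type*) [CommRing R] (τ : Type*) [Fintype τ] [DecidableEq τ] :
    Matrix (τ ⊕ τ) (τ ⊕ τ) R := fromBlocks 0 1 0 0

/-- `β` is congruent (modulo alternating matrices) to a split form. -/
def Splits (β : Matrix ι ι R) : Prop :=
  ∃ (τ : Type) (_ : Fintype τ) (_ : DecidableEq τ) (g : Matrix ι (τ ⊕ τ) R)
    (g' : Matrix (τ ⊕ τ) ι R), g * g' = 1 ∧ g' * g = 1 ∧ Alt (gᵀ * β * g - hyp R τ)

lemma splits_hyp (τ : Type) [Fintype τ] [DecidableEq τ] : Splits (hyp R τ) :=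
  ⟨τ, inferInstance, inferInstance, 1, 1, by simp, by simp, by
    rw [transpose_one, Matrix.one_mul, Matrix.mul_one, sub_self]; exact Alt.zero⟩

lemma Splits.of_conj {β : Matrix ι ι R} {β' : Matrix κ κ R} (h : Matrix ι κ R)
    (h' : Matrix κ ι R) (h1 : h * h' = 1) (h2 : h' * h = 1) (ha : Alt (hᵀ * β * h - β'))
    (hs : Splits β') : Splits β := by
  obtain ⟨τ, _, _, g, g', hg1, hg2, hg⟩ := hs
  refine ⟨τ, inferInstance, inferInstance, h * g, g' * h', ?_, ?_, ?_⟩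
  · rw [Matrix.mul_assoc, ← Matrix.mul_assoc g, hg1, Matrix.one_mul, h1]
  · rw [Matrix.mul_assoc, ← Matrix.mul_assoc h', h2, Matrix.one_mul, hg2]
  · have : (h * g)ᵀ * β * (h * g) - hyp R τ =
        gᵀ * (hᵀ * β * h - β') * g + (gᵀ * β' * g - hyp R τ) := by
      simp only [transpose_mul, Matrix.mul_sub, Matrix.sub_mul, Matrix.mul_assoc]
      abel
    rw [this]
    exact (ha.conj g).add hg

lemma Splits.of_conj_square {β : Matrix ι ι R} (h : Matrix ι ι R) (hh : IsUnit h.det)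
    (hs : Splits (hᵀ * β * h)) : Splits β := by
  haveI := Matrix.invertibleOfIsUnitDet h hh
  exact Splits.of_conj h h⁻¹ (Matrix.mul_nonsing_inv h hh) (Matrix.nonsing_inv_mul h hh)
    (by rw [sub_self]; exact Alt.zero) hs

lemma Splits.of_alt {β β' : Matrix ι ι R} (ha : Alt (β - β')) (hs : Splits β') : Splits β :=
  Splits.of_conj 1 1 (by simp) (by simp)
    (by rwa [transpose_one, Matrix.one_mul, Matrix.mul_one]) hs

lemma Splits.of_submatrix {β : Matrix ι ι R} (e : κ ≃ ι) (hs : Splits (β.submatrix e e)) :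
    Splits β := by
  refine Splits.of_conj ((1 : Matrix ι ι R).submatrix id e) ((1 : Matrix ι ι R).submatrix e id)
    ?_ ?_ ?_ hs
  · rw [submatrix_mul_equiv, Matrix.one_mul, submatrix_id_id]
  · rw [← submatrix_mul _ _ _ _ _ Function.bijective_id, Matrix.one_mul, submatrix_one_equiv]
  · rw [transpose_submatrix, transpose_one]
    have : (1 : Matrix ι ι R).submatrix e id * β * (1 : Matrix ι ι R).submatrix id e =
        β.submatrix e e := by
      ext i j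
      simp [Matrix.mul_apply, Matrix.one_apply, Finset.sum_ite_eq, Finset.sum_ite_eq']
    rw [this, sub_self]
    exact Alt.zero

lemma Splits.map {β : Matrix ι ι R} (hs : Splits β) (f : R →+* S) : Splits (β.map f) := by
  obtain ⟨τ, _, _, g, g', hg1, hg2, hg⟩ := hs
  refine ⟨τ, inferInstance, inferInstance, g.map f, g'.map f, ?_, ?_, ?_⟩
  · rw [← Matrix.map_mul, hg1, Matrix.map_one _ (map_zero f) (map_one f)]
  · rw [← Matrix.map_mul, hg2, Matrix.map_one _ (map_zero f) (map_one f)]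
  · have := hg.map f
    have h2 : (hyp R τ).map f = hyp S τ := by
      rw [hyp, fromBlocks_map, Matrix.map_zero _ (map_zero f),
        Matrix.map_one _ (map_zero f) (map_one f)]
      rfl
    have h3 : (gᵀ * β * g - hyp R τ).map f =
        (g.map f)ᵀ * β.map f * g.map f - hyp S τ := by
      rw [Matrix.map_sub (⇑f) (map_sub f), Matrix.map_mul, Matrix.map_mul, transpose_map, h2]
    rwa [h3] at this

lemma hyp_sum (τ₁ τ₂ : Type) [Fintype τ₁] [DecidableEq τ₁] [Fintype τ₂] [DecidableEq τ₂] :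
    (fromBlocks (hyp R τ₁) 0 0 (hyp R τ₂)).submatrix (Equiv.sumSumSumComm τ₁ τ₂ τ₁ τ₂)
      (Equiv.sumSumSumComm τ₁ τ₂ τ₁ τ₂) = hyp R (τ₁ ⊕ τ₂) := by
  ext ((i | i) | (i | i)) ((j | j) | (j | j)) <;> simp [hyp, Matrix.one_apply]

lemma Splits.fromBlocks {β₁ : Matrix ι ι R} {β₂ : Matrix κ κ R} (h₁ : Splits β₁)
    (h₂ : Splits β₂) : Splits (fromBlocks β₁ 0 0 β₂) := by
  obtain ⟨τ₁, _, _, g₁, g₁', a1, a2, a3⟩ := h₁
  obtain ⟨τ₂, _, _, g₂, g₂', b1, b2, b3⟩ := h₂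
  refine Splits.of_conj (Matrix.fromBlocks g₁ 0 0 g₂) (Matrix.fromBlocks g₁' 0 0 g₂') ?_ ?_
    (β' := Matrix.fromBlocks (hyp R τ₁) 0 0 (hyp R τ₂)) ?_ ?_
  · rw [fromBlocks_multiply]
    simp [a1, b1, fromBlocks_one]
  · rw [fromBlocks_multiply]
    simp [a2, b2, fromBlocks_one]
  · have : (Matrix.fromBlocks g₁ 0 0 g₂)ᵀ * Matrix.fromBlocks β₁ 0 0 β₂ *
        Matrix.fromBlocks g₁ 0 0 g₂ - Matrix.fromBlocks (hyp R τ₁) 0 0 (hyp R τ₂) =
        Matrix.fromBlocks (g₁ᵀ * β₁ * g₁ - hyp R τ₁) 0 0 (g₂ᵀ * β₂ * g₂ - hyp R τ₂) := by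
      rw [fromBlocks_transpose, fromBlocks_multiply, fromBlocks_multiply]
      ext (i | i) (j | j) <;> simp
    rw [this]
    exact a3.fromBlocks b3
  · exact Splits.of_submatrix (Equiv.sumSumSumComm τ₁ τ₂ τ₁ τ₂)
      (by rw [hyp_sum]; exact splits_hyp _)

lemma splits_plane : Splits (!![0, 1; 0, 0] : Matrix (Fin 2) (Fin 2) R) := by
  refine Splits.of_submatrix (finSumFinEquiv : Fin 1 ⊕ Fin 1 ≃ Fin 2) ?_
  have : (!![0, 1; 0, 0] : Matrix (Fin 2) (Fin 2) R).submatrix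
      (finSumFinEquiv : Fin 1 ⊕ Fin 1 ≃ Fin 2) (finSumFinEquiv : Fin 1 ⊕ Fin 1 ≃ Fin 2) =
      hyp R (Fin 1) := by
    have e0 : (finSumFinEquiv (Sum.inl (0 : Fin 1)) : Fin (1 + 1)) = (0 : Fin 2) := rfl
    have e1 : (finSumFinEquiv (Sum.inr (0 : Fin 1)) : Fin (1 + 1)) = (1 : Fin 2) := rfl
    ext (i | i) (j | j) <;> fin_cases i <;> fin_cases j <;> simp [hyp, e0, e1]
  rw [this]
  exact splits_hyp _

lemma qf_conj (β : Matrix ι ι R) (g : Matrix ι κ R) (y : κ → R) :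
    (g *ᵥ y) ⬝ᵥ β *ᵥ (g *ᵥ y) = y ⬝ᵥ (gᵀ * β * g) *ᵥ y := by
  rw [← Matrix.mulVec_mulVec, ← Matrix.mulVec_mulVec, dotProduct_mulVec y gᵀ, vecMul_transpose]

lemma qf_hyp (τ : Type) [Fintype τ] [DecidableEq τ] (y : τ ⊕ τ → R) :
    y ⬝ᵥ (hyp R τ) *ᵥ y = ∑ t, y (Sum.inl t) * y (Sum.inr t) := by
  simp [hyp, dotProduct, mulVec, Fintype.sum_sum_type, Matrix.one_apply]

theorem Splits.exists_matrix [Nontrivial R] {m : ℕ}
    {β : Matrix (Fin m ⊕ Fin m) (Fin m ⊕ Fin m) R} (hs : Splits β) :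
    ∃ g : Matrix (Fin m ⊕ Fin m) (Fin m ⊕ Fin m) R, IsUnit g.det ∧
      ∀ x : Fin m ⊕ Fin m → R,
        (g *ᵥ x) ⬝ᵥ β *ᵥ (g *ᵥ x) = ∑ j : Fin m, x (Sum.inl j) * x (Sum.inr j) := by
  obtain ⟨τ, _, _, g, g', h1, h2, ha⟩ := hs
  have hcard := Matrix.square_of_invertible g g' h1 h2
  simp only [Fintype.card_sum, Fintype.card_fin] at hcard
  have hτ : Fintype.card τ = m := by omega
  let e₀ : τ ≃ Fin m := Fintype.equivFinOfCardEq hτ
  let E : τ ⊕ τ ≃ Fin m ⊕ Fin m := Equiv.sumCongr e₀ e₀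
  refine ⟨g.submatrix id E.symm, ?_, fun x => ?_⟩
  · refine Matrix.isUnit_det_of_right_inverse (B := g'.submatrix E.symm id) ?_
    rw [submatrix_mul_equiv, h1, submatrix_id_id]
  · have hG : (g.submatrix id E.symm) *ᵥ x = g *ᵥ (x ∘ E) := by
      have := Matrix.submatrix_mulVec_equiv g x id E.symm
      simpa using this
    rw [hG, qf_conj]
    have h3 : gᵀ * β * g = (gᵀ * β * g - hyp R τ) + hyp R τ := by abel
    rw [h3, Matrix.add_mulVec, dotProduct_add, ha.qf, zero_add, qf_hyp]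
    rw [← Equiv.sum_comp e₀]
    rfl

end splits

end Groth.Agent.Helper7.QSplit
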