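import Groth.Agent.Helper7.QSplitA

/-!
# Finding a nondegenerate coordinate plane at a prime
-/

namespace Groth.Agent.Helper7.QSplit

open Matrix

section disc

variable {R : Type*} [CommRing R]
variable {ι : Type*} [Fintype ι] [DecidableEq ι]

/-- The discriminant `b(εᵢ₀, w)² - 4 Q(εᵢ₀) Q(w)` of the plane spanned by `εᵢ₀` and `w`. -/
def disc (β : Matrix ι ι R) (i₀ : ι) (w : ι → R) : R :=
  ((β + βᵀ) *ᵥ w) i₀ ^ 2 - 4 * β i₀ i₀ * (w ⬝ᵥ β *ᵥ w)

lemma disc_single (β : Matrix ι ι R) (i₀ k : ι) :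
    disc β i₀ (Pi.single k 1) = (β + βᵀ) i₀ k ^ 2 - 4 * β i₀ i₀ * β k k := by
  simp [disc]

lemma disc_single_add (β : Matrix ι ι R) (i₀ k l : ι) :
    disc β i₀ (Pi.single k 1 + Pi.single l 1) =
      ((β + βᵀ) i₀ k + (β + βᵀ) i₀ l) ^ 2 -
        4 * β i₀ i₀ * (β k k + β k l + β l k + β l l) := by
  simp only [disc, Matrix.mulVec_add, Matrix.mulVec_single_one, add_dotProduct, dotProduct_add,
    single_one_dotProduct, Pi.add_apply, Matrix.col_apply]
  ring

theorem exists_disc_notMem {A : Type*} [CommRing A] (p : Ideal A) [p.IsPrime] [Nontrivial ι]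
    (β : Matrix ι ι A) (hβ : (β + βᵀ).det ∉ p) (i₀ : ι) :
    ∃ (w : ι → A) (j : ι), j ≠ i₀ ∧ w j = 1 ∧ disc β i₀ w ∉ p := by
  by_contra H
  push Not at H
  set G := β + βᵀ with hG
  have h1 : ∀ k, disc β i₀ (Pi.single k 1) ∈ p := by
    intro k
    by_cases hk : k = i₀
    · subst hk
      rw [disc_single]
      have : (β + βᵀ) k k ^ 2 - 4 * β k k * β k k = 0 := by
        simp only [Matrix.add_apply, Matrix.transpose_apply]; ring
      rw [this]; exact p.zero_mem
    · exact H _ k hk (by simp)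
  have h2 : ∀ k l, k ≠ l → disc β i₀ (Pi.single k 1 + Pi.single l 1) ∈ p := by
    intro k l hkl
    by_cases hk : k = i₀
    · have hl : l ≠ i₀ := fun h => hkl (hk.trans h.symm)
      exact H _ l hl (by simp [hkl.symm])
    · exact H _ k hk (by simp [hkl])
  have h3 : ∀ k l, 4 * β i₀ i₀ * G k l - 2 * (G i₀ k * G i₀ l) ∈ p := by
    intro k l
    by_cases hkl : k = l
    · subst hkl
      have := h1 k
      rw [disc_single] at this
      have e : 4 * β i₀ i₀ * G k k - 2 * (G i₀ k * G i₀ k) =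
          -2 * ((β + βᵀ) i₀ k ^ 2 - 4 * β i₀ i₀ * β k k) := by
        simp only [hG, Matrix.add_apply, Matrix.transpose_apply]; ring
      rw [e]; exact p.mul_mem_left _ this
    · have a1 := h2 k l hkl
      have a2 := h1 k
      have a3 := h1 l
      rw [disc_single_add] at a1
      rw [disc_single] at a2 a3
      have e : 4 * β i₀ i₀ * G k l - 2 * (G i₀ k * G i₀ l) =
          -((((β + βᵀ) i₀ k + (β + βᵀ) i₀ l) ^ 2 -
              4 * β i₀ i₀ * (β k k + β k l + β l k + β l l)) -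
            ((β + βᵀ) i₀ k ^ 2 - 4 * β i₀ i₀ * β k k) -
            ((β + βᵀ) i₀ l ^ 2 - 4 * β i₀ i₀ * β l l)) := by
        simp only [hG, Matrix.add_apply, Matrix.transpose_apply]; ring
      rw [e]
      exact p.neg_mem ((p.sub_mem (p.sub_mem a1 a2) a3))
  have hdet : (G.map (Ideal.Quotient.mk p)).det ≠ 0 := by
    rw [← RingHom.mapMatrix_apply, ← RingHom.map_det, Ne, Ideal.Quotient.eq_zero_iff_mem]
    exact hβ
  have h4 : (Ideal.Quotient.mk p (4 * β i₀ i₀)) • G.map (Ideal.Quotient.mk p) =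
      (2 : A ⧸ p) • vecMulVec (fun k => Ideal.Quotient.mk p (G i₀ k))
        (fun k => Ideal.Quotient.mk p (G i₀ k)) := by
    ext k l
    simp only [Matrix.smul_apply, Matrix.map_apply, vecMulVec_apply, smul_eq_mul]
    have := Ideal.Quotient.eq_zero_iff_mem.mpr (h3 k l)
    rw [map_sub, sub_eq_zero] at this
    simpa [map_mul, map_ofNat] using this
  have h5 : Ideal.Quotient.mk p (4 * β i₀ i₀) = 0 := by
    have := congrArg Matrix.det h4
    rw [det_smul, det_smul, det_vecMulVec, mul_zero] at this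
    exact (pow_eq_zero_iff Fintype.card_ne_zero).mp
      (eq_zero_of_ne_zero_of_mul_right_eq_zero hdet this)
  apply hdet
  refine det_eq_zero_of_row_eq_zero i₀ (fun k => ?_)
  have := h1 k
  rw [disc_single] at this
  have h6 := Ideal.Quotient.eq_zero_iff_mem.mpr this
  rw [map_sub, map_pow, map_mul, h5, zero_mul, sub_zero] at h6
  exact pow_eq_zero_iff (two_ne_zero) |>.mp h6

end disc

section normalize

variable {R : Type*} [CommRing R]
variable {ι : Type*} [Fintype ι] [DecidableEq ι]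

lemma conj_apply (h β : Matrix ι ι R) (k l : ι) :
    (hᵀ * β * h) k l = h.col k ⬝ᵥ β *ᵥ h.col l := by
  rw [Matrix.mul_assoc, Matrix.mul_apply']
  rfl

lemma det_one_updateCol (j : ι) (w : ι → R) :
    ((1 : Matrix ι ι R).updateCol j w).det = w j := by
  rw [← Matrix.cramer_apply, Matrix.cramer_one]
  rfl

lemma col_one_updateCol (j : ι) (w : ι → R) (l : ι) :
    ((1 : Matrix ι ι R).updateCol j w).col l = if l = j then w else Pi.single l 1 := by
  ext i
  simp only [Matrix.col_apply, Matrix.updateCol_apply]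
  split_ifs with h
  · rfl
  · rw [Matrix.one_apply, Pi.single_apply]

/-- The discriminant of the coordinate plane `(i, j)`. -/
def pdisc (M : Matrix ι ι R) (i j : ι) : R := (M i j + M j i) ^ 2 - 4 * M i i * M j j

lemma pdisc_comm (M : Matrix ι ι R) (i j : ι) : pdisc M i j = pdisc M j i := by
  simp only [pdisc]; ring

lemma single_qf_single (M : Matrix ι ι R) (k l : ι) :
    (Pi.single k 1 : ι → R) ⬝ᵥ M *ᵥ (Pi.single l 1) = M k l := by
  simp

theorem exists_normalize {A : Type*} [CommRing A] (p : Ideal A) [p.IsPrime] [Nontrivial ι]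
    (β : Matrix ι ι A) (hβ : (β + βᵀ).det ∉ p) :
    ∃ (h : Matrix ι ι A) (i j : ι), h.det = 1 ∧ i ≠ j ∧ (hᵀ * β * h) i i ∉ p ∧
      pdisc (hᵀ * β * h) i j ∉ p := by
  obtain ⟨i₀⟩ : Nonempty ι := inferInstance
  obtain ⟨w, j, hj, hwj, hD⟩ := exists_disc_notMem p β hβ i₀
  set h₀ := (1 : Matrix ι ι A).updateCol j w with hh₀
  have hdet₀ : h₀.det = 1 := by rw [det_one_updateCol, hwj]
  set β₁ := h₀ᵀ * β * h₀ with hβ₁
  have c_i : h₀.col i₀ = Pi.single i₀ 1 := by rw [col_one_updateCol, if_neg hj.symm]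
  have c_j : h₀.col j = w := by rw [col_one_updateCol, if_pos rfl]
  have e_ii : β₁ i₀ i₀ = β i₀ i₀ := by rw [hβ₁, conj_apply, c_i, single_qf_single]
  have e_jj : β₁ j j = w ⬝ᵥ β *ᵥ w := by rw [hβ₁, conj_apply, c_j]
  have e_ij : β₁ i₀ j + β₁ j i₀ = ((β + βᵀ) *ᵥ w) i₀ := by
    rw [hβ₁, conj_apply, conj_apply, c_i, c_j, single_one_dotProduct, Matrix.add_mulVec,
      Pi.add_apply, Matrix.mulVec_single_one]
    congr 1
    rw [Matrix.mulVec, dotProduct_comm]
    rfl
  have hpd : pdisc β₁ i₀ j = disc β i₀ w := by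
    simp only [pdisc, disc, e_ii, e_jj, e_ij]
  by_cases ha : β₁ i₀ i₀ ∈ p
  · by_cases hc : β₁ j j ∈ p
    · set h₁ := (1 : Matrix ι ι A).updateCol i₀ (Pi.single i₀ 1 + Pi.single j 1) with hh₁
      have hdet₁ : h₁.det = 1 := by
        rw [det_one_updateCol]
        simp [hj.symm]
      have d_i : h₁.col i₀ = Pi.single i₀ 1 + Pi.single j 1 := by
        rw [col_one_updateCol, if_pos rfl]
      have d_j : h₁.col j = Pi.single j 1 := by rw [col_one_updateCol, if_neg hj]
      have hconj : (h₀ * h₁)ᵀ * β * (h₀ * h₁) = h₁ᵀ * β₁ * h₁ := by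
        rw [hβ₁, transpose_mul]
        simp only [Matrix.mul_assoc]
      have f_ii : (h₁ᵀ * β₁ * h₁) i₀ i₀ = β₁ i₀ i₀ + β₁ i₀ j + β₁ j i₀ + β₁ j j := by
        rw [conj_apply, d_i]
        simp only [Matrix.mulVec_add, add_dotProduct, dotProduct_add, single_qf_single]
        ring
      have f_jj : (h₁ᵀ * β₁ * h₁) j j = β₁ j j := by
        rw [conj_apply, d_j, single_qf_single]
      have f_ij : (h₁ᵀ * β₁ * h₁) i₀ j = β₁ i₀ j + β₁ j j := by
        rw [conj_apply, d_i, d_j]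
        simp only [add_dotProduct, single_qf_single]
      have f_ji : (h₁ᵀ * β₁ * h₁) j i₀ = β₁ j i₀ + β₁ j j := by
        rw [conj_apply, d_i, d_j]
        simp only [Matrix.mulVec_add, dotProduct_add, single_qf_single]
      have hpd2 : pdisc (h₁ᵀ * β₁ * h₁) i₀ j = pdisc β₁ i₀ j := by
        simp only [pdisc, f_ii, f_jj, f_ij, f_ji]
        ring
      refine ⟨h₀ * h₁, i₀, j, by rw [det_mul, hdet₀, hdet₁, one_mul], hj.symm, ?_, ?_⟩
      · rw [hconj, f_ii]
        intro hmem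
        apply hD
        rw [← hpd]
        have hb : β₁ i₀ j + β₁ j i₀ ∈ p := by
          have : β₁ i₀ j + β₁ j i₀ =
              (β₁ i₀ i₀ + β₁ i₀ j + β₁ j i₀ + β₁ j j) - β₁ i₀ i₀ - β₁ j j := by ring
          rw [this]
          exact p.sub_mem (p.sub_mem hmem ha) hc
        simp only [pdisc]
        exact p.sub_mem (p.pow_mem_of_mem hb 2 (by norm_num)) (p.mul_mem_left _ hc)
      · rw [hconj, hpd2, hpd]
        exact hD
    · exact ⟨h₀, j, i₀, hdet₀, hj, hc, by rw [pdisc_comm, hpd]; exact hD⟩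
  · exact ⟨h₀, i₀, j, hdet₀, hj.symm, ha, by rw [hpd]; exact hD⟩

end normalize

end Groth.Agent.Helper7.QSplit
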