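import Groth.Agent.Helper7.QSplitB

/-!
# Splitting off a hyperbolic plane (block form)
-/

namespace Groth.Agent.Helper7.QSplit

open Matrix

section plane

variable {B : Type*} [CommRing B]

/-- A binary form with a root `t` of `a t² + b t + c` and unit discriminant is hyperbolic. -/
theorem plane_step (P : Matrix (Fin 2) (Fin 2) B) (t : B)
    (ht : P 0 0 * t ^ 2 + (P 0 1 + P 1 0) * t + P 1 1 = 0)
    (hD : IsUnit ((P 0 1 + P 1 0) ^ 2 - 4 * P 0 0 * P 1 1)) :
    ∃ g : Matrix (Fin 2) (Fin 2) B, IsUnit g.det ∧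
      Alt (gᵀ * P * g - (!![0, 1; 0, 0] : Matrix (Fin 2) (Fin 2) B)) := by
  set a := P 0 0 with ha
  set c := P 1 1 with hc
  set x := P 0 1 with hx
  set y := P 1 0 with hy
  have hP : P = !![a, x; y, c] := Matrix.eta_fin_two P
  set ρ := 2 * a * t + (x + y) with hρ
  have hρ2 : ρ ^ 2 = (x + y) ^ 2 - 4 * a * c := by
    rw [hρ]; linear_combination (4 * a) * ht
  have hρu : IsUnit ρ := by
    have : IsUnit (ρ ^ 2) := by rw [hρ2]; exact hD
    exact (isUnit_pow_iff two_ne_zero).mp this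
  obtain ⟨u, hu⟩ := hρu.exists_left_inv
  -- hu : u * ρ = 1
  set f₀ := u - a * u ^ 2 * t with hf₀
  set f₁ := -(a * u ^ 2) with hf₁
  refine ⟨!![t, f₀; 1, f₁], ?_, ?_⟩
  · rw [Matrix.det_fin_two_of]
    have : t * f₁ - f₀ * 1 = -u := by rw [hf₀, hf₁]; ring
    rw [this]
    exact (IsUnit.of_mul_eq_one ρ hu).neg
  · -- the value `β(f, e)`
    refine ⟨!![0, 0; f₀ * a * t + f₀ * x + f₁ * y * t + f₁ * c, 0], ?_⟩
    rw [hP]
    ext i j
    fin_cases i <;> fin_cases j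
    · simp [Matrix.mul_apply, Fin.sum_univ_two]
      linear_combination ht
    · simp [Matrix.mul_apply, Fin.sum_univ_two]
      rw [hf₀, hf₁]
      linear_combination (-(2 * a * u ^ 2)) * ht + hu
    · simp [Matrix.mul_apply, Fin.sum_univ_two]
      ring
    · simp [Matrix.mul_apply, Fin.sum_univ_two]
      rw [hf₀, hf₁]
      linear_combination (a ^ 2 * u ^ 4) * ht + (-(a * u ^ 2)) * hu

end plane

section block

variable {B : Type*} [CommRing B] {ι ι' : Type*} [Fintype ι] [DecidableEq ι]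
  [Fintype ι'] [DecidableEq ι']

lemma alt_add_transpose {N : Matrix ι ι B} (h : Alt N) : N + Nᵀ = 0 := by
  obtain ⟨U, rfl⟩ := h
  rw [transpose_sub, transpose_transpose]
  abel

theorem schur_step (P : Matrix (Fin 2) (Fin 2) B) (R : Matrix (Fin 2) ι' B)
    (S : Matrix ι' (Fin 2) B) (T₀ : Matrix ι' ι' B) (hP : IsUnit (P + Pᵀ).det) :
    ∃ (T' : Matrix ι' ι' B) (h : Matrix (Fin 2 ⊕ ι') (Fin 2 ⊕ ι') B), h.det = 1 ∧
      Alt (hᵀ * fromBlocks P R S T₀ * h - fromBlocks P 0 0 T') := by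
  set GP := P + Pᵀ with hGP
  set GR := R + Sᵀ with hGR
  set X := -(GP⁻¹ * GR) with hX
  have key : GP * X + GR = 0 := by
    rw [hX, Matrix.mul_neg, Matrix.mul_nonsing_inv_cancel_left _ _ hP, neg_add_cancel]
  have hGPt : GPᵀ = GP := by rw [hGP, transpose_add, transpose_transpose, add_comm]
  have key' : Xᵀ * GP + GRᵀ = 0 := by
    have := congrArg transpose key
    rwa [transpose_add, transpose_mul, hGPt, transpose_zero] at this
  refine ⟨(Xᵀ * P + S) * X + (Xᵀ * R + T₀), fromBlocks 1 X 0 1, ?_, ?_⟩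
  · rw [det_fromBlocks_zero₂₁, det_one, det_one, mul_one]
  · have e : (fromBlocks 1 X 0 1)ᵀ * fromBlocks P R S T₀ * fromBlocks 1 X 0 1 -
        fromBlocks P 0 0 ((Xᵀ * P + S) * X + (Xᵀ * R + T₀)) =
        fromBlocks 0 (P * X + R) (Xᵀ * P + S) 0 := by
      rw [fromBlocks_transpose, fromBlocks_multiply, fromBlocks_multiply]
      ext (i | i) (j | j) <;> simp
    rw [e]
    refine alt_fromBlocks_off _ _ ?_
    rw [transpose_add, transpose_mul, eq_neg_iff_add_eq_zero]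
    have : Xᵀ * P + S + (Xᵀ * Pᵀ + Rᵀ) = Xᵀ * GP + GRᵀ := by
      rw [hGP, hGR, Matrix.mul_add, transpose_add, transpose_transpose]; abel
    rw [this, key']

theorem block_step (P : Matrix (Fin 2) (Fin 2) B) (R : Matrix (Fin 2) ι' B)
    (S : Matrix ι' (Fin 2) B) (T₀ : Matrix ι' ι' B) (t : B)
    (ht : P 0 0 * t ^ 2 + (P 0 1 + P 1 0) * t + P 1 1 = 0)
    (hD : IsUnit ((P 0 1 + P 1 0) ^ 2 - 4 * P 0 0 * P 1 1)) :
    ∃ (T' : Matrix ι' ι' B) (H : Matrix (Fin 2 ⊕ ι') (Fin 2 ⊕ ι') B), IsUnit H.det ∧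
      Alt (Hᵀ * fromBlocks P R S T₀ * H -
        fromBlocks (!![0, 1; 0, 0] : Matrix (Fin 2) (Fin 2) B) 0 0 T') ∧
      (fromBlocks P R S T₀ + (fromBlocks P R S T₀)ᵀ).det = (P + Pᵀ).det * (T' + T'ᵀ).det := by
  have hdetP : (P + Pᵀ).det = -((P 0 1 + P 1 0) ^ 2 - 4 * P 0 0 * P 1 1) := by
    rw [Matrix.det_fin_two]
    simp only [Matrix.add_apply, Matrix.transpose_apply]
    ring
  have hP : IsUnit (P + Pᵀ).det := by rw [hdetP]; exact hD.neg
  obtain ⟨T', h, hh, e1⟩ := schur_step P R S T₀ hP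
  obtain ⟨g₂, hg₂, e2⟩ := plane_step P t ht hD
  set M := fromBlocks P R S T₀ with hM
  set K : Matrix (Fin 2 ⊕ ι') (Fin 2 ⊕ ι') B := fromBlocks g₂ 0 0 1 with hK
  have e3 : Alt (Kᵀ * fromBlocks P 0 0 T' * K -
      fromBlocks (!![0, 1; 0, 0] : Matrix (Fin 2) (Fin 2) B) 0 0 T') := by
    have : Kᵀ * fromBlocks P 0 0 T' * K -
        fromBlocks (!![0, 1; 0, 0] : Matrix (Fin 2) (Fin 2) B) 0 0 T' =
        fromBlocks (g₂ᵀ * P * g₂ - (!![0, 1; 0, 0] : Matrix (Fin 2) (Fin 2) B)) 0 0 0 := by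
      rw [hK, fromBlocks_transpose, fromBlocks_multiply, fromBlocks_multiply]
      ext (i | i) (j | j) <;> simp
    rw [this]
    exact e2.fromBlocks Alt.zero
  refine ⟨T', h * K, ?_, ?_, ?_⟩
  · rw [det_mul, hh, one_mul, hK, det_fromBlocks_zero₂₁, det_one, mul_one]
    exact hg₂
  · have : (h * K)ᵀ * M * (h * K) -
        fromBlocks (!![0, 1; 0, 0] : Matrix (Fin 2) (Fin 2) B) 0 0 T' =
        Kᵀ * (hᵀ * M * h - fromBlocks P 0 0 T') * K +
          (Kᵀ * fromBlocks P 0 0 T' * K -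
            fromBlocks (!![0, 1; 0, 0] : Matrix (Fin 2) (Fin 2) B) 0 0 T') := by
      simp only [transpose_mul, Matrix.mul_sub, Matrix.sub_mul, Matrix.mul_assoc]
      abel
    rw [this]
    exact (e1.conj K).add e3
  · have h1 := alt_add_transpose e1
    have h2 : hᵀ * (M + Mᵀ) * h = fromBlocks P 0 0 T' + (fromBlocks P 0 0 T')ᵀ := by
      have : hᵀ * (M + Mᵀ) * h = (hᵀ * M * h - fromBlocks P 0 0 T') +
          (hᵀ * M * h - fromBlocks P 0 0 T')ᵀ +
          (fromBlocks P 0 0 T' + (fromBlocks P 0 0 T')ᵀ) := by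
        simp only [transpose_sub, transpose_mul, transpose_transpose, Matrix.mul_add,
          Matrix.add_mul, Matrix.mul_assoc]
        abel
      rw [this, h1, zero_add]
    have h4 : fromBlocks P 0 0 T' + (fromBlocks P 0 0 T')ᵀ =
        fromBlocks (P + Pᵀ) 0 0 (T' + T'ᵀ) := by
      rw [fromBlocks_transpose, fromBlocks_add]
      simp
    rw [h4] at h2
    have h3 := congrArg Matrix.det h2
    rw [det_mul, det_mul, det_transpose, hh, one_mul, mul_one, det_fromBlocks_zero₂₁] at h3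
    exact h3

end block

end Groth.Agent.Helper7.QSplit
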