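import Groth.Agent.Helper7.QSplitC

/-!
# The étale algebra splitting a nondegenerate plane, and the induction
-/

universe u

namespace Groth.Agent.Helper7.QSplit

open Matrix Polynomial

section etalePair

variable {A : Type u} [CommRing A] (a b c : A)

/-- The standard étale pair `(T² + bT + ac, a(b² - 4ac))`; `T / a` is a root of
`a t² + b t + c`. -/
noncomputable def quadPair : StandardEtalePair A where
  f := X ^ 2 + C b * X + C (a * c)
  monic_f := by
    rw [add_assoc]
    exact monic_X_pow_add (lt_of_le_of_lt (degree_linear_le) (by norm_num))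
  g := C (a * (b ^ 2 - 4 * a * c))
  cond := ⟨C a * (C 2 * X + C b), C (-(4 * a)), 1, by
    simp only [derivative_add, derivative_X_pow, derivative_mul, derivative_C, derivative_X,
      zero_mul, zero_add, mul_one, pow_one, map_mul, map_sub, map_pow, map_neg,
      Nat.cast_ofNat, Nat.add_one_sub_one]
    simp only [map_ofNat]
    ring⟩

theorem quadPair_root :
    ∃ t : (quadPair a b c).Ring,
      algebraMap A (quadPair a b c).Ring a * t ^ 2 + algebraMap A (quadPair a b c).Ring b * t +
        algebraMap A (quadPair a b c).Ring c = 0 ∧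
      IsUnit (algebraMap A (quadPair a b c).Ring (b ^ 2 - 4 * a * c)) := by
  have h := (quadPair a b c).hasMap_X
  obtain ⟨h1, h2⟩ := h
  have h1' : (quadPair a b c).X ^ 2 + algebraMap A _ b * (quadPair a b c).X +
      algebraMap A _ a * algebraMap A _ c = 0 := by
    have : aeval (quadPair a b c).X (X ^ 2 + C b * X + C (a * c) : A[X]) = 0 := h1
    simpa [map_mul] using this
  have h2' : IsUnit (algebraMap A (quadPair a b c).Ring a *
      algebraMap A (quadPair a b c).Ring (b ^ 2 - 4 * a * c)) := by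
    have : IsUnit (aeval (quadPair a b c).X (C (a * (b ^ 2 - 4 * a * c)) : A[X])) := h2
    rw [aeval_C, map_mul] at this
    exact this
  have hau : IsUnit (algebraMap A (quadPair a b c).Ring a) := isUnit_of_mul_isUnit_left h2'
  have hDu := isUnit_of_mul_isUnit_right h2'
  obtain ⟨v, hv⟩ := hau.exists_right_inv
  refine ⟨(quadPair a b c).X * v, ?_, hDu⟩
  linear_combination v * h1' + (v * (quadPair a b c).X ^ 2 - algebraMap A _ c) * hv

theorem quadPair_exists_prime (p : Ideal A) [p.IsPrime] (ha : a ∉ p)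
    (hD : b ^ 2 - 4 * a * c ∉ p) :
    ∃ q : Ideal (quadPair a b c).Ring, q.IsPrime ∧
      q.comap (algebraMap A (quadPair a b c).Ring) = p := by
  let L := AlgebraicClosure p.ResidueField
  have hker : RingHom.ker (algebraMap A L) = p := by
    rw [IsScalarTower.algebraMap_eq A p.ResidueField L, ← RingHom.comap_ker,
      (RingHom.injective_iff_ker_eq_bot _).mp (algebraMap p.ResidueField L).injective,
      ← RingHom.ker_eq_comap_bot, Ideal.ker_algebraMap_residueField]
  have hdeg : ((quadPair a b c).f.map (algebraMap A L)).degree ≠ 0 := by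
    rw [((quadPair a b c).monic_f).degree_map]
    have : (quadPair a b c).f.degree = 2 := by
      show (X ^ 2 + C b * X + C (a * c) : A[X]).degree = 2
      rw [add_assoc]
      have hnt : Nontrivial A := by
        refine ⟨⟨a, 0, fun h => ha (h ▸ p.zero_mem)⟩⟩
      have hlt : (C b * X + C (a * c) : A[X]).degree < (X ^ 2 : A[X]).degree := by
        rw [degree_X_pow]
        exact lt_of_le_of_lt degree_linear_le (by norm_num)
      rw [degree_add_eq_left_of_degree_lt hlt, degree_X_pow]
      rfl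
    rw [this]
    norm_num
  obtain ⟨x, hx⟩ := IsAlgClosed.exists_root _ hdeg
  have hx1 : aeval x (quadPair a b c).f = 0 := by
    rw [aeval_def, eval₂_eq_eval_map]
    exact hx
  have hx2 : IsUnit (aeval x (quadPair a b c).g) := by
    show IsUnit (aeval x (C (a * (b ^ 2 - 4 * a * c)) : A[X]))
    rw [aeval_C, isUnit_iff_ne_zero, Ne, ← RingHom.mem_ker, hker]
    exact fun h => (Ideal.IsPrime.mem_or_mem ‹_› h).elim ha hD
  let ψ := (quadPair a b c).lift x ⟨hx1, hx2⟩
  refine ⟨RingHom.ker ψ.toRingHom, RingHom.ker_isPrime _, ?_⟩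
  rw [RingHom.comap_ker]
  have : ψ.toRingHom.comp (algebraMap A (quadPair a b c).Ring) = algebraMap A L := by
    ext r
    exact ψ.commutes r
  rw [this, hker]

theorem exists_etale_root (p : Ideal A) [p.IsPrime] (ha : a ∉ p)
    (hD : b ^ 2 - 4 * a * c ∉ p) :
    ∃ (B₁ : Type u) (_ : CommRing B₁) (_ : Algebra A B₁), Algebra.Etale A B₁ ∧
      (∃ q : Ideal B₁, q.IsPrime ∧ q.comap (algebraMap A B₁) = p) ∧
      ∃ t : B₁, algebraMap A B₁ a * t ^ 2 + algebraMap A B₁ b * t + algebraMap A B₁ c = 0 ∧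
        IsUnit (algebraMap A B₁ (b ^ 2 - 4 * a * c)) :=
  ⟨(quadPair a b c).Ring, inferInstance, inferInstance, inferInstance,
    quadPair_exists_prime a b c p ha hD, quadPair_root a b c⟩

end etalePair

section good

variable {A : Type u} [CommRing A] {ι κ : Type} [Fintype ι] [DecidableEq ι] [Fintype κ]
  [DecidableEq κ]

/-- `β` splits over some étale `A`-algebra having a prime over `p`. -/
def Good (β : Matrix ι ι A) (p : Ideal A) : Prop :=
  ∃ (B : Type u) (_ : CommRing B) (_ : Algebra A B), Algebra.Etale A B ∧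
    (∃ q : Ideal B, q.IsPrime ∧ q.comap (algebraMap A B) = p) ∧
    Splits (β.map (algebraMap A B))

lemma Good.of_conj {β : Matrix ι ι A} {p : Ideal A} (h : Matrix ι ι A) (hh : IsUnit h.det)
    (hg : Good (hᵀ * β * h) p) : Good β p := by
  obtain ⟨B, _, _, hE, hq, hS⟩ := hg
  refine ⟨B, inferInstance, inferInstance, hE, hq, ?_⟩
  rw [Matrix.map_mul, Matrix.map_mul, transpose_map] at hS
  refine Splits.of_conj_square (h.map (algebraMap A B)) ?_ hS
  rw [← RingHom.mapMatrix_apply, ← RingHom.map_det]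
  exact hh.map _

lemma Good.of_submatrix {β : Matrix ι ι A} {p : Ideal A} (e : κ ≃ ι)
    (hg : Good (β.submatrix e e) p) : Good β p := by
  obtain ⟨B, _, _, hE, hq, hS⟩ := hg
  refine ⟨B, inferInstance, inferInstance, hE, hq, ?_⟩
  refine Splits.of_submatrix e ?_
  rwa [Matrix.submatrix_map]

lemma Splits.of_conj_map {R S : Type*} [CommRing R] [CommRing S] {β N : Matrix ι ι R}
    (H : Matrix ι ι R) (hH : IsUnit H.det) (ha : Alt (Hᵀ * β * H - N)) (f : R →+* S)
    (hs : Splits (N.map f)) : Splits (β.map f) := by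
  refine Splits.of_conj_square (H.map f)
    (by rw [← RingHom.mapMatrix_apply, ← RingHom.map_det]; exact hH.map f) ?_
  refine Splits.of_alt ?_ hs
  have := ha.map f
  rwa [Matrix.map_sub (⇑f) (map_sub f), Matrix.map_mul, Matrix.map_mul, transpose_map] at this

/-- Reindexing putting `i, j` first. -/
def planeEquiv (i j : ι) (hij : i ≠ j) : Fin 2 ⊕ {k : ι // k ≠ i ∧ k ≠ j} ≃ ι where
  toFun := Sum.elim ![i, j] Subtype.val
  invFun k := if hi : k = i then Sum.inl 0 else if hj : k = j then Sum.inl 1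
    else Sum.inr ⟨k, hi, hj⟩
  left_inv := by
    rintro (x | ⟨k, hk1, hk2⟩)
    · fin_cases x
      · simp
      · simp [hij.symm]
    · simp [hk1, hk2]
  right_inv := by
    intro k
    by_cases hi : k = i
    · simp [hi]
    · by_cases hj : k = j
      · simp [hj, hij.symm]
      · simp [hi, hj]

lemma map_plane {R S : Type*} [CommRing R] [CommRing S] (f : R →+* S) :
    (!![0, 1; 0, 0] : Matrix (Fin 2) (Fin 2) R).map f = !![0, 1; 0, 0] := by
  ext i j
  fin_cases i <;> fin_cases j <;> simp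

theorem good_of_nondeg (m : ℕ) : ∀ (A : Type u) [CommRing A] (ι : Type) [Fintype ι]
    [DecidableEq ι], Fintype.card ι = 2 * m → ∀ (β : Matrix ι ι A) (p : Ideal A) [p.IsPrime],
    (β + βᵀ).det ∉ p → Good β p := by
  induction m with
  | zero =>
    intro A _ ι _ _ hcard β p _ hβ
    haveI : IsEmpty ι := Fintype.card_eq_zero_iff.mp (by simpa using hcard)
    refine ⟨A, inferInstance, inferInstance, inferInstance, ⟨p, inferInstance, ?_⟩, ?_⟩
    · exact Ideal.comap_id p
    · exact ⟨Empty, inferInstance, inferInstance, 0, 0, Subsingleton.elim _ _,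
        Subsingleton.elim _ _, ⟨0, Subsingleton.elim _ _⟩⟩
  | succ m ih =>
    intro A _ ι _ _ hcard β p _ hβ
    haveI : Nontrivial ι := Fintype.one_lt_card_iff_nontrivial.mp (by omega)
    obtain ⟨h, i, j, hdet, hij, ha, hpd⟩ := exists_normalize p β hβ
    refine Good.of_conj h (by rw [hdet]; exact isUnit_one) ?_
    set β₁ := hᵀ * β * h with hβ₁
    have hβ₁det : (β₁ + β₁ᵀ).det ∉ p := by
      have : β₁ + β₁ᵀ = hᵀ * (β + βᵀ) * h := by
        rw [hβ₁]
        simp only [transpose_mul, transpose_transpose, Matrix.mul_add, Matrix.add_mul,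
          Matrix.mul_assoc]
      rw [this, det_mul, det_mul, det_transpose, hdet, one_mul, mul_one]
      exact hβ
    refine Good.of_submatrix (planeEquiv i j hij) ?_
    set M := β₁.submatrix (planeEquiv i j hij) (planeEquiv i j hij) with hM
    have hMdet : (M + Mᵀ).det ∉ p := by
      have : M + Mᵀ = (β₁ + β₁ᵀ).submatrix (planeEquiv i j hij) (planeEquiv i j hij) := by
        rw [hM, transpose_submatrix]
        rfl
      rw [this, det_submatrix_equiv_self]
      exact hβ₁det
    have hMb : M = fromBlocks M.toBlocks₁₁ M.toBlocks₁₂ M.toBlocks₂₁ M.toBlocks₂₂ :=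
      (fromBlocks_toBlocks M).symm
    have e00 : M.toBlocks₁₁ 0 0 = β₁ i i := rfl
    have e01 : M.toBlocks₁₁ 0 1 = β₁ i j := rfl
    have e10 : M.toBlocks₁₁ 1 0 = β₁ j i := rfl
    have e11 : M.toBlocks₁₁ 1 1 = β₁ j j := rfl
    have ha' : M.toBlocks₁₁ 0 0 ∉ p := by rw [e00]; exact ha
    have hpd' : (M.toBlocks₁₁ 0 1 + M.toBlocks₁₁ 1 0) ^ 2 -
        4 * M.toBlocks₁₁ 0 0 * M.toBlocks₁₁ 1 1 ∉ p := by
      rw [e00, e01, e10, e11]; exact hpd
    obtain ⟨B₁, _, _, hE₁, ⟨q₁, hq₁, hq₁p⟩, t, ht, hDu⟩ := exists_etale_root (M.toBlocks₁₁ 0 0)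
      (M.toBlocks₁₁ 0 1 + M.toBlocks₁₁ 1 0) (M.toBlocks₁₁ 1 1) p ha' hpd'
    obtain ⟨T', H, hH, hAlt, hdetT⟩ := block_step (M.toBlocks₁₁.map (algebraMap A B₁))
      (M.toBlocks₁₂.map (algebraMap A B₁)) (M.toBlocks₂₁.map (algebraMap A B₁))
      (M.toBlocks₂₂.map (algebraMap A B₁)) t
      (by simpa only [Matrix.map_apply, map_add] using ht)
      (by simpa only [Matrix.map_apply, map_add, map_sub, map_mul, map_pow, map_ofNat] using hDu)
    have hMmap : M.map (algebraMap A B₁) = fromBlocks (M.toBlocks₁₁.map (algebraMap A B₁))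
        (M.toBlocks₁₂.map (algebraMap A B₁)) (M.toBlocks₂₁.map (algebraMap A B₁))
        (M.toBlocks₂₂.map (algebraMap A B₁)) := by
      rw [← fromBlocks_map, ← hMb]
    rw [← hMmap] at hAlt hdetT
    haveI := hq₁
    have hT' : (T' + T'ᵀ).det ∉ q₁ := by
      intro hmem
      have h1 : (M.map (algebraMap A B₁) + (M.map (algebraMap A B₁))ᵀ).det ∈ q₁ := by
        rw [hdetT]; exact q₁.mul_mem_left _ hmem
      have h2 : (M.map (algebraMap A B₁) + (M.map (algebraMap A B₁))ᵀ).det =
          algebraMap A B₁ (M + Mᵀ).det := by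
        rw [RingHom.map_det, RingHom.mapMatrix_apply, Matrix.map_add _ (map_add _),
          transpose_map]
      rw [h2, ← Ideal.mem_comap, hq₁p] at h1
      exact hMdet h1
    have hcard' : Fintype.card {k : ι // k ≠ i ∧ k ≠ j} = 2 * m := by
      have := Fintype.card_congr (planeEquiv i j hij)
      rw [Fintype.card_sum, Fintype.card_fin] at this
      omega
    obtain ⟨B₃, _, _, hE₃, ⟨q₃, hq₃, hq₃q⟩, hS₃⟩ := ih B₁ _ hcard' T' q₁ hT'
    letI : Algebra A B₃ := ((algebraMap B₁ B₃).comp (algebraMap A B₁)).toAlgebra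
    haveI : IsScalarTower A B₁ B₃ := IsScalarTower.of_algebraMap_eq (fun _ => rfl)
    refine ⟨B₃, inferInstance, inferInstance, Algebra.Etale.comp A B₁ B₃, ⟨q₃, hq₃, ?_⟩, ?_⟩
    · rw [IsScalarTower.algebraMap_eq A B₁ B₃, ← Ideal.comap_comap, hq₃q, hq₁p]
    · have h3 : M.map (algebraMap A B₃) =
          (M.map (algebraMap A B₁)).map (algebraMap B₁ B₃) := by
        rw [Matrix.map_map]
        rfl
      rw [h3]
      refine Splits.of_conj_map H hH hAlt (algebraMap B₁ B₃) ?_
      rw [fromBlocks_map, map_plane, Matrix.map_zero _ (map_zero _),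
        Matrix.map_zero _ (map_zero _)]
      exact Splits.fromBlocks splits_plane hS₃

end good

section final

theorem exists_etale_cover (A : Type u) [CommRing A] (m : ℕ)
    (β : Matrix (Fin m ⊕ Fin m) (Fin m ⊕ Fin m) A) (hβ : IsUnit (β + βᵀ).det) :
    ∃ (n : ℕ) (B : Fin n → Type u) (_ : ∀ t, CommRing (B t)) (_ : ∀ t, Algebra A (B t)),
      (∀ t, Algebra.Etale A (B t)) ∧
      (∀ p : PrimeSpectrum A, ∃ (t : Fin n) (q : PrimeSpectrum (B t)),
        q.asIdeal.comap (algebraMap A (B t)) = p.asIdeal) ∧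
      ∀ t, ∃ g : Matrix (Fin m ⊕ Fin m) (Fin m ⊕ Fin m) (B t), IsUnit g.det ∧
        ∀ x : Fin m ⊕ Fin m → B t,
          (g *ᵥ x) ⬝ᵥ (β.map (algebraMap A (B t))) *ᵥ (g *ᵥ x) =
            ∑ j : Fin m, x (Sum.inl j) * x (Sum.inr j) := by
  have H : ∀ p : PrimeSpectrum A, Good β p.asIdeal := fun p =>
    good_of_nondeg m A _ (by simp [two_mul]) β p.asIdeal
      (fun h => p.isPrime.ne_top (Ideal.eq_top_of_isUnit_mem _ h hβ))
  choose B iCR iAlg hEt hq hS using H
  have hopen : ∀ p : PrimeSpectrum A,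
      IsOpen (Set.range (PrimeSpectrum.comap (algebraMap A (B p)))) := by
    intro p
    haveI := hEt p
    exact (PrimeSpectrum.isOpenMap_comap_of_hasGoingDown_of_finitePresentation
      (R := A) (S := B p)).isOpen_range
  have hcov : (Set.univ : Set (PrimeSpectrum A)) ⊆
      ⋃ p : PrimeSpectrum A, Set.range (PrimeSpectrum.comap (algebraMap A (B p))) := by
    intro p _
    obtain ⟨q, hqp, hqc⟩ := hq p
    exact Set.mem_iUnion.mpr ⟨p, ⟨⟨q, hqp⟩, PrimeSpectrum.ext hqc⟩⟩
  obtain ⟨s, hs⟩ := isCompact_univ.elim_finite_subcover _ hopen hcov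
  let idx : Fin s.card → PrimeSpectrum A := fun k => (s.equivFin.symm k).val
  refine ⟨s.card, fun k => B (idx k), fun k => iCR (idx k), fun k => iAlg (idx k),
    fun k => hEt (idx k), ?_, ?_⟩
  · intro p
    have hp := hs (Set.mem_univ p)
    simp only [Set.mem_iUnion] at hp
    obtain ⟨p', hp's, hpU⟩ := hp
    have hidx : idx (s.equivFin ⟨p', hp's⟩) = p' := by simp [idx]
    rw [← hidx] at hpU
    obtain ⟨q, hq⟩ := hpU
    refine ⟨s.equivFin ⟨p', hp's⟩, q, ?_⟩
    rw [← hq]
    rfl
  · intro k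
    haveI : Nontrivial (B (idx k)) := by
      obtain ⟨q, hqp, _⟩ := hq (idx k)
      by_contra hnt
      rw [not_nontrivial_iff_subsingleton] at hnt
      exact hqp.ne_top ((Ideal.eq_top_iff_one q).mpr
        (by rw [Subsingleton.elim (1 : B (idx k)) 0]; exact q.zero_mem))
    exact (hS (idx k)).exists_matrix

end final

end Groth.Agent.Helper7.QSplit
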