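import Groth.Agent.Helper7.QuadMax

set_option autoImplicit false
universe u v

namespace Groth.Agent.Helper7.QuadUnit

open RInv Polynomial

variable {S : Type u} {R : Type v} [CommRing S] [CommRing R] [Algebra S R]

section Core

variable (b : Module.Basis (Fin 2) S R) (hb0 : b 0 = 1)

include hb0 in
lemma decomp (x : R) :
    x = algebraMap S R (b.repr x 0) + algebraMap S R (b.repr x 1) * b 1 := by
  conv_lhs => rw [← b.sum_repr x]
  rw [Fin.sum_univ_two, hb0, Algebra.smul_def, mul_one, Algebra.smul_def]

include hb0 in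
lemma repr_one_of (s t : S) :
    b.repr (algebraMap S R s + algebraMap S R t * b 1) 1 = t := by
  have : algebraMap S R s + algebraMap S R t * b 1 = s • b 0 + t • b 1 := by
    rw [hb0, Algebra.smul_def, mul_one, Algebra.smul_def]
  rw [this]
  simp [Finsupp.single_apply]

/-- trace and norm coefficients of `θ = b 1`: `θ² = τ θ - ν` -/
noncomputable def τ : S := b.repr (b 1 * b 1) 1
noncomputable def ν : S := - b.repr (b 1 * b 1) 0

include hb0 in
lemma theta_sq : b 1 * b 1 = algebraMap S R (τ b) * b 1 - algebraMap S R (ν b) := by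
  have := decomp b hb0 (b 1 * b 1)
  rw [τ, ν, map_neg, sub_neg_eq_add, add_comm]
  exact this

/-- the different element `δ = 2θ - τ` -/
noncomputable def δ : R := 2 * b 1 - algebraMap S R (τ b)

include hb0 in
/-- the derivation `a + bθ ↦ b mod δ` -/
noncomputable def der : Derivation S R (R ⧸ Ideal.span {δ b}) :=
  Derivation.mk'
    ((Algebra.linearMap S (R ⧸ Ideal.span {δ b})).comp (b.coord 1))
    (by
      intro x y
      simp only [LinearMap.comp_apply, Module.Basis.coord_apply, Algebra.linearMap_apply]
      set x₀ := b.repr x 0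
      set x₁ := b.repr x 1
      set y₀ := b.repr y 0
      set y₁ := b.repr y 1
      have hx := decomp b hb0 x
      have hy := decomp b hb0 y
      have hxy : x * y = algebraMap S R (x₀ * y₀ - x₁ * y₁ * ν b) +
          algebraMap S R (x₀ * y₁ + x₁ * y₀ + x₁ * y₁ * τ b) * b 1 := by
        conv_lhs => rw [hx, hy]
        have h2 := theta_sq b hb0
        simp only [map_add, map_sub, map_mul]
        linear_combination (algebraMap S R x₁ * algebraMap S R y₁) * h2
      have hrepr : b.repr (x * y) 1 = x₀ * y₁ + x₁ * y₀ + x₁ * y₁ * τ b := by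
        rw [hxy]; exact repr_one_of b hb0 _ _
      rw [hrepr]
      -- compare in the quotient
      rw [IsScalarTower.algebraMap_apply S R (R ⧸ Ideal.span {δ b}),
        IsScalarTower.algebraMap_apply S R (R ⧸ Ideal.span {δ b}) y₁,
        IsScalarTower.algebraMap_apply S R (R ⧸ Ideal.span {δ b}) x₁]
      simp only [Ideal.Quotient.algebraMap_eq, Algebra.smul_def, ← map_mul, ← map_add]
      rw [Ideal.Quotient.eq, Ideal.mem_span_singleton]
      refine ⟨- (algebraMap S R x₁ * algebraMap S R y₁), ?_⟩
      conv_lhs => rw [hx, hy]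
      simp only [δ, map_add, map_mul]
      ring)

include hb0 in
lemma der_theta : der b hb0 (b 1) = 1 := by
  show (Algebra.linearMap S (R ⧸ Ideal.span {δ b})) (b.coord 1 (b 1)) = 1
  simp

include hb0 in
lemma isUnit_delta [Algebra.FormallyUnramified S R] : IsUnit (δ b) := by
  have h0 : der b hb0 (b 1) = 0 := by
    rw [← Derivation.liftKaehlerDifferential_comp_D (der b hb0) (b 1)]
    have : KaehlerDifferential.D S R (b 1) = 0 := Subsingleton.elim _ _
    rw [this, map_zero]
  rw [der_theta b hb0] at h0
  have htop : Ideal.span {δ b} = ⊤ := by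
    rw [Ideal.eq_top_iff_one, ← Ideal.Quotient.eq_zero_iff_mem, map_one]
    exact h0
  exact Ideal.span_singleton_eq_top.mp htop

end Core

/-- a basis containing `1` from a basis in which `1` has a unit coefficient at `0` -/
lemma exists_basis_one_aux (b : Module.Basis (Fin 2) S R) (s t : S)
    (h1 : (1 : R) = s • b 0 + t • b 1) (hs : IsUnit s) :
    ∃ c : Module.Basis (Fin 2) S R, c 0 = 1 := by
  have hLI : LinearIndependent S ![(1 : R), b 1] := by
    rw [LinearIndependent.pair_iff]
    intro x y hxy
    have h2 : (x * s) • b 0 + (x * t + y) • b 1 = 0 := by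
      rw [← hxy, h1, smul_add, smul_smul, smul_smul, add_smul, add_assoc]
    have h3 := Fintype.linearIndependent_iff.mp b.linearIndependent ![x * s, x * t + y]
      (by rw [Fin.sum_univ_two]; simpa using h2)
    have h30 := h3 0
    have h31 := h3 1
    simp only [Matrix.cons_val_zero, Matrix.cons_val_one] at h30 h31
    have hx : x = 0 := (hs.mul_left_eq_zero).mp h30
    subst hx
    simpa using h31
  have hspan : ⊤ ≤ Submodule.span S (Set.range ![(1 : R), b 1]) := by
    rw [← b.span_eq, Submodule.span_le]
    rintro _ ⟨i, rfl⟩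
    have hr : Set.range ![(1 : R), b 1] = {1, b 1} := by
      ext y; simp [eq_comm]; exact or_comm
    rw [hr]
    fin_cases i
    · obtain ⟨s', hs'⟩ := hs
      have : b 0 = (↑s'⁻¹ : S) • (1 : R) + (-(↑s'⁻¹ : S) * t) • b 1 := by
        rw [h1, ← hs', smul_add, smul_smul, smul_smul, Units.inv_mul, one_smul, add_assoc,
          ← add_smul]
        simp
      show b 0 ∈ _
      rw [this, SetLike.mem_coe, Submodule.mem_span_pair]
      exact ⟨_, _, rfl⟩
    · show b 1 ∈ _
      exact Submodule.subset_span (by simp)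
  exact ⟨Module.Basis.mk hLI hspan, by simp⟩

lemma exists_basis_one [IsLocalRing S] [Module.Finite S R] [Nontrivial R]
    (b : Module.Basis (Fin 2) S R) : ∃ c : Module.Basis (Fin 2) S R, c 0 = 1 := by
  have h1 : (1 : R) = b.repr 1 0 • b 0 + b.repr 1 1 • b 1 := by
    conv_lhs => rw [← b.sum_repr 1, Fin.sum_univ_two]
  by_cases hs : IsUnit (b.repr 1 0)
  · exact exists_basis_one_aux b _ _ h1 hs
  by_cases ht : IsUnit (b.repr 1 1)
  · refine exists_basis_one_aux (b.reindex (Equiv.swap 0 1)) (b.repr 1 1) (b.repr 1 0) ?_ ht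
    simp only [Module.Basis.reindex_apply, Equiv.symm_swap, Equiv.swap_apply_left,
      Equiv.swap_apply_right]
    rw [add_comm]; exact h1
  exfalso
  have hm0 : b.repr 1 0 ∈ IsLocalRing.maximalIdeal S := hs
  have hm1 : b.repr 1 1 ∈ IsLocalRing.maximalIdeal S := ht
  have hle : (⊤ : Submodule S R) ≤ IsLocalRing.maximalIdeal S • (⊤ : Submodule S R) := by
    intro x _
    have hx : x = b.repr 1 0 • (b 0 * x) + b.repr 1 1 • (b 1 * x) := by
      rw [← smul_mul_assoc, ← smul_mul_assoc, ← add_mul, ← h1, one_mul]
    rw [hx]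
    exact add_mem (Submodule.smul_mem_smul hm0 Submodule.mem_top)
      (Submodule.smul_mem_smul hm1 Submodule.mem_top)
  have hbot := Submodule.eq_bot_of_le_smul_of_le_jacobson_bot (IsLocalRing.maximalIdeal S)
    (⊤ : Submodule S R) Module.Finite.fg_top hle (IsLocalRing.maximalIdeal_le_jacobson ⊥)
  have : (1 : R) ∈ (⊤ : Submodule S R) := Submodule.mem_top
  rw [hbot, Submodule.mem_bot] at this
  exact one_ne_zero this

variable (lam : R ≃+* R) (hlam : Function.Involutive lam) (hS : RInv.IsFixedRing S R lam)
  [IsLocalRing S]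

include hlam hS in
lemma isUnit_of_notMem_jacobson (r : R) (hr : lam r - r ∉ Ring.jacobson R) :
    IsUnit (lam r - r) := by
  rw [Ring.jacobson_eq_sInf_isMaximal, Submodule.mem_sInf] at hr
  push_neg at hr
  obtain ⟨M, hM, hrM⟩ : ∃ M : Ideal R, M.IsMaximal ∧ lam r - r ∉ M := hr
  haveI : M.IsMaximal := hM
  set u := lam r - r with hu
  have hlu : lam u = -u := by rw [hu, map_sub, hlam r]; ring
  by_contra hnu
  obtain ⟨M', hM', huM'⟩ := exists_max_ideal_of_mem_nonunits (mem_nonunits_iff.mpr hnu)
  haveI : M'.IsMaximal := hM'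
  rcases QuadMax.maximal_dichotomy lam hlam hS M M' with h | h
  · rw [h] at huM'; exact hrM huM'
  · rw [h] at huM'
    have h3 : lam u ∈ M := huM'
    rw [hlu] at h3
    exact hrM (by simpa using M.neg_mem h3)

include hlam hS in
theorem result74 (hq : RInv.IsQuadEtale S R) : ∃ r : R, IsUnit (r - lam r) := by
  obtain ⟨hfin, hproj, hunr, hrank⟩ := hq
  haveI := hfin
  haveI := hproj
  haveI := hunr
  haveI : Module.Free S R := Module.free_of_flat_of_isLocalRing
  haveI : Nontrivial R := hS.1.nontrivial
  have hfr : Module.finrank S R = 2 := by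
    have := hrank (IsLocalRing.closedPoint S)
    rw [Module.rankAtStalk_eq_finrank_of_free] at this
    exact this
  obtain ⟨b, hb0⟩ := exists_basis_one (Module.finBasisOfFinrankEq S R hfr)
  have hδ := isUnit_delta b hb0
  have hfix : ∀ s : S, lam (algebraMap S R s) = algebraMap S R s := fun s =>
    (hS.2 _).mpr ⟨s, rfl⟩
  by_cases hJ : lam (b 1) - b 1 ∈ Ring.jacobson R
  · exfalso
    set u := lam (b 1) - b 1 with hu
    have hsq := theta_sq b hb0
    have hsq' : lam (b 1) * lam (b 1) = algebraMap S R (τ b) * lam (b 1) - algebraMap S R (ν b) := by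
      have := congrArg lam hsq
      rwa [map_mul, map_sub, map_mul, hfix, hfix] at this
    have hprod : u * (u + δ b) = 0 := by
      rw [hu, δ]
      linear_combination hsq' - hsq
    have hunit : IsUnit (u + δ b) := by
      obtain ⟨d, hd⟩ := hδ
      rw [← Ideal.jacobson_bot, Ideal.mem_jacobson_bot] at hJ
      have h1 := hJ (↑d⁻¹ : R)
      have : u + δ b = (u * (↑d⁻¹ : R) + 1) * (d : R) := by
        rw [add_mul, mul_assoc, Units.inv_mul, mul_one, one_mul, hd]
      rw [this]
      exact h1.mul d.isUnit
    have hu0 : u = 0 := (hunit.mul_left_eq_zero).mp hprod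
    have hθfix : lam (b 1) = b 1 := sub_eq_zero.mp hu0
    obtain ⟨s, hs⟩ := (hS.2 _).mp hθfix
    have h1 : b 1 = s • b 0 := by rw [hb0, Algebra.smul_def, mul_one, hs]
    have h2 := congrArg (fun x => b.repr x 1) h1
    simp [Finsupp.single_apply] at h2
  · exact ⟨b 1, by
      have := (isUnit_of_notMem_jacobson lam hlam hS (b 1) hJ).neg
      rwa [neg_sub] at this⟩

include hlam hS in
theorem result77 (h : ∀ r : R, lam r - r ∈ Ring.jacobson R) :
    IsLocalRing R ∧ ¬ RInv.IsQuadEtale S R := by
  haveI : Nontrivial R := hS.1.nontrivial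
  constructor
  · obtain ⟨M, hM⟩ := Ideal.exists_maximal R
    haveI : M.IsMaximal := hM
    apply IsLocalRing.of_unique_max_ideal
    refine ⟨M, hM, ?_⟩
    intro M' hM'
    haveI : M'.IsMaximal := hM'
    rcases QuadMax.maximal_dichotomy lam hlam hS M M' with h1 | h1
    · exact h1
    · rw [h1]
      -- comap lam M = M
      have hle : M ≤ M.comap (lam : R →+* R) := by
        intro x hx
        rw [Ideal.mem_comap]
        have hJ : lam x - x ∈ M := by
          have := h x
          rw [Ring.jacobson_eq_sInf_isMaximal, Submodule.mem_sInf] at this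
          exact this M hM
        have : lam x = (lam x - x) + x := by ring
        show lam x ∈ M
        rw [this]
        exact M.add_mem hJ hx
      have hmax : (M.comap (lam : R →+* R)).IsMaximal :=
        Ideal.comap_isMaximal_of_surjective _ lam.surjective
      exact (hM.eq_of_le hmax.ne_top hle).symm
  · intro hq
    obtain ⟨r, hr⟩ := result74 lam hlam hS hq
    have hJ : r - lam r ∈ Ring.jacobson R := by
      have := (Ring.jacobson R).neg_mem (h r)
      rwa [neg_sub] at this
    obtain ⟨M, hM⟩ := Ideal.exists_maximal R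
    have hmem : r - lam r ∈ M := by
      rw [Ring.jacobson_eq_sInf_isMaximal, Submodule.mem_sInf] at hJ
      exact hJ M hM
    exact hM.ne_top (Ideal.eq_top_of_isUnit_mem _ hmem hr)

end Groth.Agent.Helper7.QuadUnit
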