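import Mathlib
import Groth.Agent.Helper7.QuadUnit
import Groth.Agent.Helper7.FixBC

set_option autoImplicit false
universe u v w

namespace Groth.Agent.Helper7.QuadOpen

open RInv TensorProduct

variable {S : Type u} {R : Type v} [CommRing S] [CommRing R] [Algebra S R]
  (lam : R ≃+* R) (hlam : Function.Involutive lam) (hS : RInv.IsFixedRing S R lam)

/-- the involution as an `S`-algebra automorphism -/
def lamA (hS : RInv.IsFixedRing S R lam) : R ≃ₐ[S] R :=
  { lam with commutes' := fun s => (hS.2 _).2 ⟨s, rfl⟩ }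

@[simp] lemma lamA_apply (x : R) : lamA lam hS x = lam x := rfl

variable (S' : Type w) [CommRing S'] [Algebra S S']

/-- the base-changed involution -/
noncomputable def lamBC : (S' ⊗[S] R) ≃+* (S' ⊗[S] R) :=
  (Algebra.TensorProduct.congr (AlgEquiv.refl : S' ≃ₐ[S] S') (lamA lam hS)).toRingEquiv

@[simp] lemma lamBC_tmul (a : S') (x : R) : lamBC lam hS S' (a ⊗ₜ x) = a ⊗ₜ lam x := by
  simp [lamBC]

include hlam in
lemma lamBC_involutive : Function.Involutive (lamBC lam hS S') := by
  intro z
  induction z using TensorProduct.induction_on with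
  | zero => simp
  | tmul a x => simp [hlam x]
  | add x y hx hy => rw [map_add, map_add, hx, hy]

include hlam in
lemma isFixedRing_BC [Module.Flat S S'] : RInv.IsFixedRing S' (S' ⊗[S] R) (lamBC lam hS S') := by
  have h1 : Function.Involutive (lamA lam hS) := hlam
  have h2 : RInv.IsFixedRing S R (lamA lam hS).toRingEquiv := hS
  exact FixBC.result (S' := S') (lamA lam hS) h1 h2 (Or.inl inferInstance)

include hlam hS in
/-- if `r - lam r` divides the image of `s` and `s` is a unit of the flat `S`-algebra `S'`, then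
`S' ⊗ R` is quadratic étale over `S'`. -/
theorem isQuadEtale_of_isUnit [Module.Flat S S'] (r y : R) (s : S)
    (h : (r - lam r) * y = algebraMap S R s) (hs : IsUnit (algebraMap S S' s)) :
    RInv.IsQuadEtale S' (S' ⊗[S] R) := by
  apply QuadEt.result (lamBC lam hS S') (lamBC_involutive lam hlam hS _)
    (isFixedRing_BC lam hlam hS _) ((1 : S') ⊗ₜ[S] r)
  rw [lamBC_tmul, ← TensorProduct.tmul_sub]
  have hu : IsUnit (algebraMap S' (S' ⊗[S] R) (algebraMap S S' s)) := hs.map _
  have h2 : ((1 : S') ⊗ₜ[S] (r - lam r)) * ((1 : S') ⊗ₜ[S] y) =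
      algebraMap S' (S' ⊗[S] R) (algebraMap S S' s) := by
    rw [Algebra.TensorProduct.tmul_mul_tmul, one_mul, h, Algebra.TensorProduct.algebraMap_apply,
      Algebra.algebraMap_self, RingHom.id_apply, Algebra.algebraMap_eq_smul_one (A := R),
      TensorProduct.tmul_smul, TensorProduct.smul_tmul', Algebra.smul_def, mul_one]
  exact isUnit_of_mul_isUnit_left (h2 ▸ hu)

include hlam hS in
/-- if `r - lam r` divides the image of `s`, then `R[1/s]` is quadratic étale over `S[1/s]`. -/
theorem isQuadEtale_away (r y : R) (s : S) (h : (r - lam r) * y = algebraMap S R s) :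
    RInv.IsQuadEtale (Localization.Away s) (Localization.Away s ⊗[S] R) :=
  isQuadEtale_of_isUnit lam hlam hS _ r y s h (IsLocalization.Away.algebraMap_isUnit s)

attribute [local instance] Algebra.TensorProduct.rightAlgebra in
include hlam hS in
theorem exists_dvd (p : PrimeSpectrum S)
    (hp : RInv.IsQuadEtale (Localization.AtPrime p.asIdeal) (Localization.AtPrime p.asIdeal ⊗[S] R)) :
    ∃ (r y : R) (s : S), s ∉ p.asIdeal ∧ (r - lam r) * y = algebraMap S R s := by
  obtain ⟨r', hr'⟩ := QuadUnit.result74 (lamBC lam hS (Localization.AtPrime p.asIdeal))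
    (lamBC_involutive lam hlam hS _) (isFixedRing_BC lam hlam hS _) hp
  have hloc : IsLocalization (Algebra.algebraMapSubmonoid R p.asIdeal.primeCompl)
      (Localization.AtPrime p.asIdeal ⊗[S] R) := inferInstance
  obtain ⟨⟨r, n⟩, hrn⟩ := IsLocalization.mk'_surjective
    (Algebra.algebraMapSubmonoid R p.asIdeal.primeCompl) r'
  obtain ⟨s₀, hs₀, hn⟩ := n.2
  have hlamn : lam (n : R) = n := by rw [← hn]; exact (hS.2 _).2 ⟨s₀, rfl⟩
  have halg : ∀ x : R, algebraMap R (Localization.AtPrime p.asIdeal ⊗[S] R) x = 1 ⊗ₜ x := fun x => rfl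
  have h1 : lamBC lam hS (Localization.AtPrime p.asIdeal) r' =
      IsLocalization.mk' (Localization.AtPrime p.asIdeal ⊗[S] R) (lam r) n := by
    rw [IsLocalization.eq_mk'_iff_mul_eq, ← hrn]
    have : algebraMap R (Localization.AtPrime p.asIdeal ⊗[S] R) (n : R) =
        lamBC lam hS (Localization.AtPrime p.asIdeal) (algebraMap R _ (n : R)) := by
      rw [halg, lamBC_tmul, hlamn]
    rw [this, ← map_mul, IsLocalization.mk'_spec, halg, lamBC_tmul, halg]
  rw [h1, ← hrn] at hr'
  have h2 : IsUnit (algebraMap R (Localization.AtPrime p.asIdeal ⊗[S] R) (r - lam r)) := by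
    have := hr'.mul (IsLocalization.map_units (Localization.AtPrime p.asIdeal ⊗[S] R) n)
    rwa [sub_mul, IsLocalization.mk'_spec, IsLocalization.mk'_spec, ← map_sub] at this
  obtain ⟨m, hm, y, hy⟩ := (IsLocalization.algebraMap_isUnit_iff
    (Algebra.algebraMapSubmonoid R p.asIdeal.primeCompl)).1 h2
  obtain ⟨s, hs, rfl⟩ := hm
  exact ⟨r, y, s, hs, hy.symm⟩

include hlam hS in
theorem main (p : PrimeSpectrum S)
    (hp : RInv.IsQuadEtale (Localization.AtPrime p.asIdeal) (Localization.AtPrime p.asIdeal ⊗[S] R)) :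
    ∃ s : S, s ∉ p.asIdeal ∧
      RInv.IsQuadEtale (Localization.Away s) (Localization.Away s ⊗[S] R) := by
  obtain ⟨r, y, s, hs, h⟩ := exists_dvd lam hlam hS p hp
  exact ⟨s, hs, isQuadEtale_away lam hlam hS r y s h⟩

include hlam hS in
/-- `(r - lam r)(lam r - r)` comes from an element of `S` lying in every branch prime. -/
theorem exists_mem_branch (r : R) :
    ∃ s : S, algebraMap S R s = (r - lam r) * (lam r - r) ∧
      ∀ p : PrimeSpectrum S,
        ¬ RInv.IsQuadEtale (Localization.AtPrime p.asIdeal) (Localization.AtPrime p.asIdeal ⊗[S] R) →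
        s ∈ p.asIdeal := by
  have hfix : lam ((r - lam r) * (lam r - r)) = (r - lam r) * (lam r - r) := by
    rw [map_mul, map_sub, map_sub, hlam r]; ring
  obtain ⟨s, hs⟩ := (hS.2 _).1 hfix
  refine ⟨s, hs, fun p hp => ?_⟩
  by_contra hsp
  apply hp
  exact isQuadEtale_of_isUnit lam hlam hS _ r (lam r - r) s hs.symm
    (IsLocalization.map_units (M := p.asIdeal.primeCompl) (Localization.AtPrime p.asIdeal) ⟨s, hsp⟩)

include hlam hS in
theorem sub_mem_radical (W : Set (PrimeSpectrum S))
    (hW : W = {p : PrimeSpectrum S | ¬ RInv.IsQuadEtale (Localization.AtPrime p.asIdeal)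
      (Localization.AtPrime p.asIdeal ⊗[S] R)}) (r : R) :
    lam r - r ∈ ((PrimeSpectrum.vanishingIdeal W).map (algebraMap S R)).radical := by
  obtain ⟨s, hs, hsW⟩ := exists_mem_branch lam hlam hS r
  have hsI : s ∈ PrimeSpectrum.vanishingIdeal W := by
    rw [PrimeSpectrum.mem_vanishingIdeal]
    intro p hp
    rw [hW] at hp
    exact hsW p hp
  refine ⟨2, ?_⟩
  have : (lam r - r) ^ 2 = -(algebraMap S R s) := by rw [hs]; ring
  rw [this]
  exact Ideal.neg_mem_iff _ |>.mpr (Ideal.mem_map_of_mem _ hsI)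

end Groth.Agent.Helper7.QuadOpen
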