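import Mathlib
import Groth.Agent.Helper7.QuadOpen

set_option autoImplicit false
universe u v w

namespace Groth.Agent.Helper7.QuadBranch

open RInv TensorProduct Groth.Agent.Helper7.QuadOpen

attribute [local instance] Algebra.TensorProduct.rightAlgebra

variable {S : Type u} {R : Type v} [CommRing S] [CommRing R] [Algebra S R]
  (lam : R ≃+* R) (hlam : Function.Involutive lam) (hS : RInv.IsFixedRing S R lam)
  (p : PrimeSpectrum S)

local notation "Sp" => Localization.AtPrime p.asIdeal
local notation "Rp" => Localization.AtPrime p.asIdeal ⊗[S] R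

lemma algebraMap_R_apply (x : R) : algebraMap R Rp x = 1 ⊗ₜ x := rfl

/-- comparing the two ways of contracting an ideal of `R_p` to `S`. -/
lemma comap_comm (M : Ideal Rp) :
    (M.comap (algebraMap R Rp)).comap (algebraMap S R) =
      (M.comap (algebraMap Sp Rp)).comap (algebraMap S Sp) := by
  ext s
  simp only [Ideal.mem_comap]
  have : algebraMap R Rp (algebraMap S R s) = algebraMap Sp Rp (algebraMap S Sp s) := by
    rw [algebraMap_R_apply, Algebra.TensorProduct.algebraMap_apply, Algebra.algebraMap_self,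
      RingHom.id_apply, Algebra.algebraMap_eq_smul_one (A := R), TensorProduct.tmul_smul,
      TensorProduct.smul_tmul', Algebra.smul_def, mul_one]
  rw [this]

include hlam hS in
lemma isIntegral_Rp : Algebra.IsIntegral Sp Rp :=
  QuadMax.isIntegral (lamBC lam hS Sp) (lamBC_involutive lam hlam hS _) (isFixedRing_BC lam hlam hS _)

include hlam hS in
/-- a maximal ideal of `R_p` contracts to a prime of `R` over `p`. -/
lemma comap_maximal (M : Ideal Rp) [M.IsMaximal] :
    (M.comap (algebraMap R Rp)).comap (algebraMap S R) = p.asIdeal := by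
  have := isIntegral_Rp lam hlam hS p
  rw [comap_comm]
  have h1 : M.comap (algebraMap Sp Rp) = IsLocalRing.maximalIdeal Sp :=
    IsLocalRing.eq_maximalIdeal (Ideal.isMaximal_comap_of_isIntegral_of_isMaximal M)
  rw [h1, ← Ideal.under_def, IsLocalization.AtPrime.under_maximalIdeal Sp p.asIdeal]

include hlam hS in
/-- a prime of `R` over `p` extends to a maximal ideal of `R_p` contracting to it. -/
lemma map_isMaximal (q : Ideal R) [q.IsPrime] (hq : q.comap (algebraMap S R) = p.asIdeal) :
    (q.map (algebraMap R Rp)).IsMaximal ∧ (q.map (algebraMap R Rp)).comap (algebraMap R Rp) = q := by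
  have hint := isIntegral_Rp lam hlam hS p
  have hdisj : Disjoint (Algebra.algebraMapSubmonoid R p.asIdeal.primeCompl : Set R) (q : Set R) := by
    rw [Set.disjoint_left]
    rintro _ ⟨s, hs, rfl⟩ hsq
    have : s ∈ q.comap (algebraMap S R) := hsq
    rw [hq] at this
    exact hs this
  have hprime : (q.map (algebraMap R Rp)).IsPrime :=
    IsLocalization.isPrime_of_isPrime_disjoint
      (Algebra.algebraMapSubmonoid R p.asIdeal.primeCompl) Rp q inferInstance hdisj
  have hcomap : (q.map (algebraMap R Rp)).comap (algebraMap R Rp) = q :=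
    IsLocalization.under_map_of_isPrime_disjoint
      (Algebra.algebraMapSubmonoid R p.asIdeal.primeCompl) Rp inferInstance hdisj
  refine ⟨?_, hcomap⟩
  have h2 : ((q.map (algebraMap R Rp)).comap (algebraMap Sp Rp)).comap (algebraMap S Sp) = p.asIdeal := by
    rw [← comap_comm, hcomap, hq]
  have h3 : (q.map (algebraMap R Rp)).comap (algebraMap Sp Rp) = IsLocalRing.maximalIdeal Sp := by
    have hpr : ((q.map (algebraMap R Rp)).comap (algebraMap Sp Rp)).IsPrime := Ideal.comap_isPrime _ _
    have h4 := IsLocalization.map_under p.asIdeal.primeCompl Sp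
      ((q.map (algebraMap R Rp)).comap (algebraMap Sp Rp))
    rw [Ideal.under_def] at h4
    rw [← h4, h2]
    exact Localization.AtPrime.map_eq_maximalIdeal
  have hmax : ((q.map (algebraMap R Rp)).comap (algebraMap Sp Rp)).IsMaximal := by
    rw [h3]; infer_instance
  exact Ideal.isMaximal_of_isIntegral_of_isMaximal_comap _ hmax

include hS in
lemma lamBC_sub_mul (z : Rp) : ∃ (x : R) (n : R), n ∈ Algebra.algebraMapSubmonoid R p.asIdeal.primeCompl ∧
    (lamBC lam hS Sp z - z) * algebraMap R Rp n = algebraMap R Rp (lam x - x) := by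
  obtain ⟨⟨x, n⟩, rfl⟩ := IsLocalization.mk'_surjective
    (Algebra.algebraMapSubmonoid R p.asIdeal.primeCompl) z
  refine ⟨x, n, n.2, ?_⟩
  obtain ⟨s₀, hs₀, hn⟩ := n.2
  have hlamn : lam (n : R) = n := by rw [← hn]; exact (hS.2 _).2 ⟨s₀, rfl⟩
  have h1 : lamBC lam hS Sp (IsLocalization.mk' Rp x n) * algebraMap R Rp n = algebraMap R Rp (lam x) := by
    have : algebraMap R Rp (n : R) = lamBC lam hS Sp (algebraMap R Rp (n : R)) := by
      rw [algebraMap_R_apply, lamBC_tmul, hlamn]
    rw [this, ← map_mul, IsLocalization.mk'_spec, algebraMap_R_apply, lamBC_tmul, algebraMap_R_apply]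
  change (lamBC lam hS Sp (IsLocalization.mk' Rp x n) - IsLocalization.mk' Rp x n) * _ = _
  rw [sub_mul, h1, IsLocalization.mk'_spec, ← map_sub]

include hlam hS in
theorem branch_iff :
    ¬ RInv.IsQuadEtale Sp Rp ↔
      ∃ q : PrimeSpectrum R, q.asIdeal.comap (algebraMap S R) = p.asIdeal ∧
        (∀ q' : PrimeSpectrum R, q'.asIdeal.comap (algebraMap S R) = p.asIdeal → q' = q) ∧
        ∀ r : R, lam r - r ∈ q.asIdeal := by
  have hinv := lamBC_involutive lam hlam hS Sp
  have hfix := isFixedRing_BC lam hlam hS Sp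
  constructor
  · intro hnq
    have hall : ∀ z : Rp, lamBC lam hS Sp z - z ∈ Ring.jacobson Rp := by
      by_contra hcon
      push Not at hcon
      exact hnq (QuadMax.result76 _ hinv hfix hcon)
    obtain ⟨hloc, -⟩ := QuadUnit.result77 _ hinv hfix hall
    refine ⟨⟨(IsLocalRing.maximalIdeal Rp).comap (algebraMap R Rp), inferInstance⟩,
      comap_maximal lam hlam hS p _, ?_, ?_⟩
    · intro q' hq'
      obtain ⟨hmax, hc⟩ := map_isMaximal lam hlam hS p q'.asIdeal hq'
      have : q'.asIdeal.map (algebraMap R Rp) = IsLocalRing.maximalIdeal Rp :=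
        IsLocalRing.eq_maximalIdeal hmax
      apply PrimeSpectrum.ext
      change q'.asIdeal = Ideal.comap (algebraMap R Rp) (IsLocalRing.maximalIdeal Rp)
      rw [← this, hc]
    · intro r
      have := hall (1 ⊗ₜ r)
      rw [lamBC_tmul, ← tmul_sub, ← Ideal.jacobson_bot,
        IsLocalRing.jacobson_eq_maximalIdeal _ bot_ne_top] at this
      exact this
  · rintro ⟨q, hq, huniq, hq2⟩
    have hall : ∀ z : Rp, lamBC lam hS Sp z - z ∈ Ring.jacobson Rp := by
      intro z
      rw [Ring.jacobson_eq_sInf_isMaximal, Submodule.mem_sInf]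
      intro M' hM'0
      obtain ⟨M, hM⟩ : ∃ M : Ideal Rp, M.IsMaximal ∧ M = M' := ⟨M', hM'0, rfl⟩
      obtain ⟨hM, rfl⟩ := hM
      have : M.IsMaximal := hM
      have hM' : M.comap (algebraMap R Rp) = q.asIdeal := by
        have := huniq ⟨M.comap (algebraMap R Rp), inferInstance⟩ (comap_maximal lam hlam hS p M)
        exact congrArg PrimeSpectrum.asIdeal this
      obtain ⟨x, n, hn, hxn⟩ := lamBC_sub_mul lam hS p z
      have h1 : algebraMap R Rp (lam x - x) ∈ M := by
        have : lam x - x ∈ M.comap (algebraMap R Rp) := by rw [hM']; exact hq2 x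
        exact this
      rw [← hxn] at h1
      rcases hM.isPrime.mem_or_mem h1 with h | h
      · exact h
      · exfalso
        have hu : IsUnit (algebraMap R Rp n) := IsLocalization.map_units Rp ⟨n, hn⟩
        exact hM.ne_top (Ideal.eq_top_of_isUnit_mem _ h hu)
    exact (QuadUnit.result77 _ hinv hfix hall).2

end Groth.Agent.Helper7.QuadBranch
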