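import Groth.Prelude.Def_W4c2azumayainvolQEt
import Mathlib

set_option autoImplicit false
universe u v

namespace Groth.Agent.Helper7.QuadEt

open RInv

variable {S : Type u} {R : Type v} [CommRing S] [CommRing R] [Algebra S R]
  (lam : R ≃+* R) (hlam : Function.Involutive lam) (hS : RInv.IsFixedRing S R lam)
  (r : R) (hr : IsUnit (r - lam r))

include hlam hS hr in
/-- decomposition `x = a + b r` with `a b ∈ S` -/
lemma exists_decomp (x : R) : ∃ a b : S, x = algebraMap S R a + algebraMap S R b * r := by
  obtain ⟨u, hu⟩ := hr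
  have hlu : lam (u : R) = -(u : R) := by rw [hu, map_sub, hlam r]; ring
  have hluinv : lam ((u⁻¹ : Rˣ) : R) = -((u⁻¹ : Rˣ) : R) := by
    have h1 : lam ((u⁻¹ : Rˣ) : R) * lam (u : R) = 1 := by rw [← map_mul, Units.inv_mul, map_one]
    rw [hlu] at h1
    calc lam ((u⁻¹ : Rˣ) : R) = lam ((u⁻¹ : Rˣ) : R) * ((u : R) * ((u⁻¹ : Rˣ) : R)) := by
          rw [Units.mul_inv, mul_one]
      _ = -(lam ((u⁻¹ : Rˣ) : R) * -(u : R)) * ((u⁻¹ : Rˣ) : R) := by ring
      _ = -((u⁻¹ : Rˣ) : R) := by rw [h1]; ring
  set b' : R := (x - lam x) * ((u⁻¹ : Rˣ) : R) with hb'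
  have hb'fix : lam b' = b' := by
    rw [hb', map_mul, map_sub, hlam x, hluinv]; ring
  obtain ⟨b, hb⟩ := (hS.2 b').mp hb'fix
  set a' : R := x - b' * r with ha'
  have hb'u : b' * (u : R) = x - lam x := by
    rw [hb', mul_assoc, Units.inv_mul, mul_one]
  have ha'fix : lam a' = a' := by
    rw [ha', map_sub, map_mul, hb'fix]
    have : lam r = r - (u : R) := by rw [hu]; ring
    rw [this, mul_sub, hb'u]; ring
  obtain ⟨a, ha⟩ := (hS.2 a').mp ha'fix
  refine ⟨a, b, ?_⟩
  rw [ha, hb, ha']; ring

include hS hr in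
lemma decomp_unique (a b : S) (h : algebraMap S R a + algebraMap S R b * r = 0) :
    a = 0 ∧ b = 0 := by
  have hfix : ∀ s : S, lam (algebraMap S R s) = algebraMap S R s := fun s =>
    (hS.2 _).mpr ⟨s, rfl⟩
  have h2 : algebraMap S R a + algebraMap S R b * lam r = 0 := by
    have := congrArg lam h
    rwa [map_add, map_mul, hfix, hfix, map_zero] at this
  have h3 : algebraMap S R b * (r - lam r) = 0 := by
    rw [mul_sub]
    linear_combination h - h2
  have hb : algebraMap S R b = 0 := (hr.mul_left_eq_zero).mp h3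
  have hb0 : b = 0 := hS.1 (by rw [hb, map_zero])
  subst hb0
  rw [map_zero, zero_mul, add_zero] at h
  exact ⟨hS.1 (by rw [h, map_zero]), rfl⟩

include hlam hS hr in
lemma linInd : LinearIndependent S ![(1 : R), r] := by
  rw [LinearIndependent.pair_iff]
  intro s t h
  apply decomp_unique lam hS r hr s t
  rw [Algebra.smul_def, Algebra.smul_def, mul_one] at h
  exact h

include hlam hS hr in
lemma spans : ⊤ ≤ Submodule.span S (Set.range ![(1 : R), r]) := by
  intro x _
  obtain ⟨a, b, rfl⟩ := exists_decomp lam hlam hS r hr x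
  have : Set.range ![(1 : R), r] = {1, r} := by
    ext y; simp [eq_comm]; exact or_comm
  rw [this, Submodule.mem_span_pair]
  exact ⟨a, b, by rw [Algebra.smul_def, Algebra.smul_def, mul_one]⟩

/-- the basis `{1, r}` -/
noncomputable def basis : Module.Basis (Fin 2) S R :=
  Module.Basis.mk (linInd lam hlam hS r hr) (spans lam hlam hS r hr)

include hlam hS hr in
lemma unramified : Algebra.FormallyUnramified S R := by
  constructor
  -- D r = 0
  have hDr : KaehlerDifferential.D S R r = 0 := by
    have hfix1 : lam (r + lam r) = r + lam r := by rw [map_add, hlam r]; ring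
    have hfix2 : lam (r * lam r) = r * lam r := by rw [map_mul, hlam r]; ring
    obtain ⟨t, ht⟩ := (hS.2 _).mp hfix1
    obtain ⟨n, hn⟩ := (hS.2 _).mp hfix2
    have hrel : r * r = algebraMap S R t * r - algebraMap S R n := by rw [ht, hn]; ring
    have hD := congrArg (KaehlerDifferential.D S R) hrel
    rw [Derivation.leibniz, map_sub, Derivation.leibniz, Derivation.map_algebraMap,
      Derivation.map_algebraMap, smul_zero, add_zero, sub_zero] at hD
    have h2 : (r - lam r) • KaehlerDifferential.D S R r = 0 := by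
      have : r - lam r = r + r - algebraMap S R t := by rw [ht]; ring
      rw [this, sub_smul, add_smul, hD, sub_self]
    exact (hr.smul_eq_zero).mp h2
  have hD0 : ∀ x, KaehlerDifferential.D S R x = 0 := by
    intro x
    obtain ⟨a, b, rfl⟩ := exists_decomp lam hlam hS r hr x
    rw [map_add, Derivation.leibniz, Derivation.map_algebraMap, Derivation.map_algebraMap, hDr]
    simp
  have htop : (⊤ : Submodule R Ω[R⁄S]) = ⊥ := by
    rw [← KaehlerDifferential.span_range_derivation S R, Submodule.span_eq_bot]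
    rintro _ ⟨x, rfl⟩; exact hD0 x
  refine ⟨fun a b => ?_⟩
  have ha : a ∈ (⊤ : Submodule R Ω[R⁄S]) := trivial
  have hb : b ∈ (⊤ : Submodule R Ω[R⁄S]) := trivial
  rw [htop, Submodule.mem_bot] at ha hb
  rw [ha, hb]

include hlam hS hr in
theorem result : RInv.IsQuadEtale S R := by
  have b := basis lam hlam hS r hr
  haveI : Module.Free S R := Module.Free.of_basis b
  haveI : Module.Finite S R := Module.Finite.of_basis b
  refine ⟨inferInstance, inferInstance, unramified lam hlam hS r hr, ?_⟩
  intro p
  haveI : Nontrivial S := p.nontrivial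
  rw [Module.rankAtStalk_eq_finrank_of_free, Module.finrank_eq_card_basis b]
  simp

end Groth.Agent.Helper7.QuadEt
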