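import Mathlib
import Groth.Agent.Helper6.W2CI2
import Groth.Agent.Helper6.W2Quad

set_option autoImplicit false
universe u v

namespace Groth.Agent.Helper7.QuadFL

open FrobAlg MvPolynomial Groth.Agent.Helper6.W2

section transport
variable (p : ℕ) [Fact p.Prime] (k : Type u) [CommRing k] [CharP k p]

/-- `IsFLiftable` is invariant under `k`-algebra isomorphisms. -/
theorem isFLiftable_of_algEquiv {A A' : Type v} [CommRing A] [CommRing A'] [Algebra k A]
    [Algebra k A'] (e : A ≃ₐ[k] A') (h : IsFLiftable p k A) : IsFLiftable p k A' := by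
  obtain ⟨B, _, ι, π, Φ, hΦ⟩ := h
  refine ⟨B, inferInstance, ι, (e : A →+* A').comp π, Φ, ?_⟩
  exact
    { flat := hΦ.flat
      surj := e.surjective.comp hΦ.surj
      ker_eq := by
        rw [← hΦ.ker_eq]
        ext b
        rw [RingHom.mem_ker, RingHom.mem_ker, RingHom.comp_apply]
        exact map_eq_zero_iff e e.injective
      comm := by
        refine RingHom.ext fun w => ?_
        have := congrArg (fun F => F w) hΦ.comm
        simp only [RingHom.comp_apply] at this ⊢
        rw [this]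
        exact e.commutes _
      semi := hΦ.semi
      red := fun b => by
        rw [RingHom.comp_apply, hΦ.red, map_pow, RingHom.comp_apply] }

end transport

section general
variable (p : ℕ) [hp : Fact p.Prime] (k : Type u) [Field k] [CharP k p]

/-- In characteristic `p`, `p`-th powers of elements of `(x_v)` lie in `(x_v^p)`. -/
theorem pow_mem_of_mem_vars {σ : Type*} (a : MvPolynomial σ k)
    (ha : a ∈ Ideal.span (Set.range (X : σ → MvPolynomial σ k))) :
    a ^ p ∈ Ideal.span (Set.range fun v : σ => (X v : MvPolynomial σ k) ^ p) := by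
  have key : ∀ y ∈ Ideal.span (Set.range (X : σ → MvPolynomial σ k)),
      y ^ p ∈ Ideal.span (Set.range fun v : σ => (X v : MvPolynomial σ k) ^ p) := by
    intro y hy
    induction hy using Submodule.span_induction with
    | mem x hx =>
      obtain ⟨v, rfl⟩ := hx
      exact Ideal.subset_span ⟨v, rfl⟩
    | zero => rw [zero_pow hp.out.ne_zero]; exact Ideal.zero_mem _
    | add x y _ _ hx hy => rw [add_pow_char]; exact Ideal.add_mem _ hx hy
    | smul a x _ hx => rw [smul_eq_mul, mul_pow]; exact Ideal.mul_mem_left _ _ hx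
  exact key a ha

theorem constantCoeff_eq_zero_of_mem {σ : Type*} (a : MvPolynomial σ k)
    (ha : a ∈ Ideal.span (Set.range fun v : σ => (X v : MvPolynomial σ k) ^ p)) :
    constantCoeff a = 0 := by
  have hle : Ideal.span (Set.range fun v : σ => (X v : MvPolynomial σ k) ^ p) ≤
      RingHom.ker (constantCoeff : MvPolynomial σ k →+* k) := by
    rw [Ideal.span_le]
    rintro _ ⟨v, rfl⟩
    show (X v : MvPolynomial σ k) ^ p ∈ RingHom.ker constantCoeff
    rw [RingHom.mem_ker, map_pow, constantCoeff_X, zero_pow hp.out.ne_zero]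
  exact hle ha

theorem sub_C_mem_vars {σ : Type*} (G : MvPolynomial σ k) :
    G - C (constantCoeff G) ∈ Ideal.span (Set.range (X : σ → MvPolynomial σ k)) := by
  have h := mem_pow_idealOfVars_iff' (σ := σ) (R := k) 1 (G - C (constantCoeff G))
  rw [pow_one] at h
  refine h.mpr fun x hx => ?_
  have hx0 : x = 0 := by
    rw [Nat.lt_one_iff, Finsupp.degree_eq_zero_iff] at hx
    exact hx
  rw [hx0, coeff_sub, coeff_zero_C, constantCoeff_eq, sub_self]

end general

section w2
variable (p : ℕ) [hp : Fact p.Prime] (k : Type u) [Field k] [CharP k p] [PerfectRing k p] (m : ℕ)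

/-- polynomials over `W₂(k)` with the same reduction have the same `p`-th power. -/
theorem pow_eq_of_red_eq {u v : MvPolynomial (Fin m) (W2 p k)} (h : red p k m u = red p k m v) :
    u ^ p = v ^ p := by
  have h1 : u - v ∈ RingHom.ker (red p k m) := by
    rw [RingHom.mem_ker, map_sub, h, sub_self]
  rw [ker_red] at h1
  obtain ⟨w, hw⟩ := Ideal.mem_span_singleton'.mp h1
  have h2 := (Commute.all u v).geom_sum₂_mul p
  have h3 : (p : MvPolynomial (Fin m) (W2 p k)) * (∑ i ∈ Finset.range p, u ^ i * v ^ (p - 1 - i)) = 0 := by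
    have h4 : red p k m (∑ i ∈ Finset.range p, u ^ i * v ^ (p - 1 - i)) = red p k m 0 := by
      rw [map_sum, map_zero]
      have : ∀ i ∈ Finset.range p, red p k m (u ^ i * v ^ (p - 1 - i)) = red p k m v ^ (p - 1) := by
        intro i hi
        rw [Finset.mem_range] at hi
        rw [map_mul, map_pow, map_pow, h, ← pow_add]
        congr 1
        omega
      rw [Finset.sum_congr rfl this, Finset.sum_const, Finset.card_range, nsmul_eq_mul,
        CharP.cast_eq_zero, zero_mul]
    rw [p_mul_eq_of_red_eq p k m h4, mul_zero]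
  rw [← sub_eq_zero, ← h2, ← hw, mul_comm w, ← mul_assoc, mul_comm _ (p : MvPolynomial (Fin m) (W2 p k)), h3, zero_mul]

end w2

section main
variable (p : ℕ) [hp : Fact p.Prime] (k : Type u) [Field k] [CharP k p] [PerfectRing k p] (n : ℕ)

local notation "RW" => MvPolynomial (Fin (n * 2)) (W2 p k)

/-- the reindexing. -/
abbrev ee : Fin n × Fin 2 ≃ Fin (n * 2) := finProdFinEquiv

theorem red_rename_map (P : MvPolynomial (Fin n × Fin 2) ℤ) :
    red p k (n * 2) (rename (ee n) (map (Int.castRingHom (W2 p k)) P)) =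
      rename (ee n) (map (Int.castRingHom k) P) := by
  have h0 : (res p k).comp (Int.castRingHom (W2 p k)) = Int.castRingHom k := RingHom.ext_int _ _
  rw [red, map_rename, map_map, h0]

theorem key (F : MvPolynomial (Fin (n * 2)) (W2 p k))
    (h : Fin (n * 2) → MvPolynomial (Fin (n * 2)) (W2 p k))
    (hF : red p k (n * 2) F = rename (ee n) (QQ k n))
    (hcong : polyFrob p k (Fin (n * 2)) F - F ^ p
        - (p : MvPolynomial (Fin (n * 2)) (W2 p k)) * ∑ j, pderiv j F ^ p * h j
        ∈ Ideal.span {(p : MvPolynomial (Fin (n * 2)) (W2 p k))} * Ideal.span {F})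
    (P : MvPolynomial (Fin n × Fin 2) ℤ)
    (hP : QQ ℤ n ^ p = ∑ i : Fin n, zz ℤ i ^ p + C (p : ℤ) * P) :
    ∃ g c : MvPolynomial (Fin (n * 2)) k,
      g ^ p - rename (ee n) (map (Int.castRingHom k) P)
        - ∑ j, pderiv j (rename (ee n) (QQ k n)) ^ p * red p k (n * 2) (h j)
        - c * rename (ee n) (QQ k n) = 0 := by
  set Q' : RW := rename (ee n) (QQ (W2 p k) n) with hQ'
  have hQ'red : red p k (n * 2) Q' = rename (ee n) (QQ k n) := by
    rw [hQ', red, map_rename, map_QQ]
  have h1 : F - Q' ∈ RingHom.ker (red p k (n * 2)) := by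
    rw [RingHom.mem_ker, map_sub, hF, hQ'red, sub_self]
  rw [ker_red] at h1
  obtain ⟨g', hg'⟩ := Ideal.mem_span_singleton'.mp h1
  have hFeq : F = Q' + g' * (p : RW) := by rw [hg']; ring
  have hFp : F ^ p = Q' ^ p := pow_eq_of_red_eq p k (n * 2) (by rw [hF, hQ'red])
  -- polyFrob Q'
  have hpfQ : polyFrob p k (Fin (n * 2)) Q' = rename (ee n) (∑ i : Fin n, zz (W2 p k) i ^ p) := by
    rw [hQ', QQ, map_sum, map_sum, map_sum]
    refine Finset.sum_congr rfl fun i _ => ?_
    rw [zz, map_pow, map_mul, map_mul, rename_X, rename_X, polyFrob_X, polyFrob_X, mul_pow]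
  -- Q'^p
  have hQp : Q' ^ p = rename (ee n) (∑ i : Fin n, zz (W2 p k) i ^ p) +
      (p : RW) * rename (ee n) (map (Int.castRingHom (W2 p k)) P) := by
    have h2 := congrArg (fun x => rename (ee n) (map (Int.castRingHom (W2 p k)) x)) hP
    simp only [map_pow, map_add, map_sum, map_mul, map_QQ, map_zz, map_C] at h2
    rw [hQ', h2]
    simp
  have hpf : polyFrob p k (Fin (n * 2)) F = polyFrob p k (Fin (n * 2)) Q' +
      (p : RW) * polyFrob p k (Fin (n * 2)) g' := by
    rw [hFeq, map_add, map_mul, map_natCast]; ring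
  -- the element
  rw [Ideal.span_singleton_mul_span_singleton] at hcong
  obtain ⟨c, hc⟩ := Ideal.mem_span_singleton'.mp hcong
  set S : RW := ∑ j, pderiv j F ^ p * h j with hS
  have h3 : (p : RW) * (polyFrob p k (Fin (n * 2)) g' -
      rename (ee n) (map (Int.castRingHom (W2 p k)) P) - S - c * F) = 0 := by
    have : polyFrob p k (Fin (n * 2)) F - F ^ p - (p : RW) * S = c * ((p : RW) * F) := hc.symm
    rw [hpf, hFp, hpfQ, hQp] at this
    linear_combination this
  obtain ⟨z, hz⟩ := exists_of_p_mul_eq_zero p k _ h3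
  have h4 := congrArg (red p k (n * 2)) hz
  rw [map_mul, red_p, zero_mul, map_sub, map_sub, map_sub, red_polyFrob, red_rename_map, map_mul,
    hF] at h4
  refine ⟨red p k (n * 2) g', red p k (n * 2) c, ?_⟩
  rw [← h4]
  congr 2
  rw [hS, map_sum]
  refine Finset.sum_congr rfl fun j _ => ?_
  rw [map_mul, map_pow, ← hF]
  congr 2
  exact pderiv_map

theorem pderiv_mem_vars (j : Fin (n * 2)) :
    pderiv j (rename (ee n) (QQ k n)) ∈
      Ideal.span (Set.range (X : Fin (n * 2) → MvPolynomial (Fin (n * 2)) k)) := by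
  rw [QQ, map_sum, map_sum]
  refine Ideal.sum_mem _ fun i _ => ?_
  rw [zz, map_mul, rename_X, rename_X, Derivation.leibniz, smul_eq_mul, smul_eq_mul]
  exact Ideal.add_mem _ (Ideal.mul_mem_right _ _ (Ideal.subset_span ⟨_, rfl⟩))
    (Ideal.mul_mem_right _ _ (Ideal.subset_span ⟨_, rfl⟩))

theorem constantCoeff_P (P : MvPolynomial (Fin n × Fin 2) ℤ)
    (hP : QQ ℤ n ^ p = ∑ i : Fin n, zz ℤ i ^ p + C (p : ℤ) * P) : constantCoeff P = 0 := by
  have h := congrArg constantCoeff hP
  have hz : ∀ i : Fin n, constantCoeff (zz ℤ i) = 0 := fun i => by simp [zz]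
  rw [map_pow, QQ, map_sum, Finset.sum_eq_zero (fun i _ => hz i), zero_pow hp.out.ne_zero, map_add,
    map_sum, Finset.sum_eq_zero (fun i _ => by rw [map_pow, hz i, zero_pow hp.out.ne_zero]),
    zero_add, map_mul, constantCoeff_C] at h
  have hp0 : (p : ℤ) ≠ 0 := by exact_mod_cast hp.out.ne_zero
  exact (mul_eq_zero.mp h.symm).resolve_left hp0

theorem mem_of_relation (hbar : Fin (n * 2) → MvPolynomial (Fin (n * 2)) k)
    (g c : MvPolynomial (Fin (n * 2)) k)
    (P : MvPolynomial (Fin n × Fin 2) ℤ)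
    (hP : QQ ℤ n ^ p = ∑ i : Fin n, zz ℤ i ^ p + C (p : ℤ) * P)
    (hrel : g ^ p - rename (ee n) (map (Int.castRingHom k) P)
        - ∑ j, pderiv j (rename (ee n) (QQ k n)) ^ p * hbar j
        - c * rename (ee n) (QQ k n) = 0) :
    map (Int.castRingHom k) P ∈ Ideal.span
      (insert (∑ i : Fin n, (X (i, (0 : Fin 2)) * X (i, (1 : Fin 2)) : MvPolynomial (Fin n × Fin 2) k))
        (Set.range fun v : Fin n × Fin 2 => (X v : MvPolynomial (Fin n × Fin 2) k) ^ p)) := by
  set ρ : MvPolynomial (Fin (n * 2)) k →ₐ[k] MvPolynomial (Fin n × Fin 2) k := rename (ee n).symm with hρ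
  have hρr : ∀ x : MvPolynomial (Fin n × Fin 2) k, ρ (rename (ee n) x) = x := by
    intro x
    rw [hρ, rename_rename, Equiv.symm_comp_self, rename_id_apply]
  set T : MvPolynomial (Fin (n * 2)) k := ∑ j, pderiv j (rename (ee n) (QQ k n)) ^ p * hbar j with hT
  have hTmem : T ∈ Ideal.span (Set.range fun v : Fin (n * 2) => (X v : MvPolynomial (Fin (n * 2)) k) ^ p) :=
    Ideal.sum_mem _ fun j _ => Ideal.mul_mem_right _ _
      (pow_mem_of_mem_vars p k _ (pderiv_mem_vars k n j))
  have hρT : ρ T ∈ Ideal.span (Set.range fun v : Fin n × Fin 2 => (X v : MvPolynomial (Fin n × Fin 2) k) ^ p) := by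
    have h1 := Ideal.mem_map_of_mem (ρ : MvPolynomial (Fin (n * 2)) k →+* MvPolynomial (Fin n × Fin 2) k) hTmem
    rw [Ideal.map_span] at h1
    refine Ideal.span_mono ?_ h1
    rintro _ ⟨_, ⟨w, rfl⟩, rfl⟩
    refine ⟨(ee n).symm w, ?_⟩
    show _ = ρ (X w ^ p)
    rw [map_pow, hρ, rename_X]
  -- apply ρ to the relation
  have h2 := congrArg ρ hrel
  rw [map_sub, map_sub, map_sub, map_pow, map_mul, hρr, hρr, map_zero] at h2
  set G := ρ g with hG
  set c0 := constantCoeff G with hc0
  have hG0 : G - C c0 ∈ Ideal.span (Set.range (X : Fin n × Fin 2 → MvPolynomial (Fin n × Fin 2) k)) :=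
    sub_C_mem_vars k G
  have hG0p := pow_mem_of_mem_vars p k _ hG0
  have hGp : G ^ p = (G - C c0) ^ p + C (c0 ^ p) := by
    rw [sub_pow_char, C_pow]; ring
  -- constant coefficients
  have hQ0 : constantCoeff (QQ k n) = 0 := by simp [QQ, zz]
  have h3 := congrArg constantCoeff h2
  rw [hGp, map_sub, map_sub, map_sub, map_add, map_mul, hQ0, mul_zero, sub_zero,
    constantCoeff_eq_zero_of_mem p k _ hG0p, constantCoeff_eq_zero_of_mem p k _ hρT,
    constantCoeff_C, map_zero, zero_add, sub_zero, constantCoeff_map, constantCoeff_P p n P hP,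
    map_zero, sub_zero] at h3
  have hc00 : c0 = 0 := pow_eq_zero_iff (hp.out.ne_zero) |>.mp h3
  have hPeq : map (Int.castRingHom k) P = (G - C c0) ^ p - ρ T - ρ c * QQ k n := by
    rw [hGp, hc00, zero_pow hp.out.ne_zero, C_0, add_zero] at h2
    rw [hc00, C_0, sub_zero]
    linear_combination -h2
  rw [hPeq]
  have hle : Ideal.span (Set.range fun v : Fin n × Fin 2 => (X v : MvPolynomial (Fin n × Fin 2) k) ^ p) ≤
      Ideal.span (insert (∑ i : Fin n, (X (i, (0 : Fin 2)) * X (i, (1 : Fin 2)) : MvPolynomial (Fin n × Fin 2) k))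
        (Set.range fun v : Fin n × Fin 2 => (X v : MvPolynomial (Fin n × Fin 2) k) ^ p)) :=
    Ideal.span_mono (Set.subset_insert _ _)
  refine Ideal.sub_mem _ (Ideal.sub_mem _ (hle hG0p) (hle hρT)) (Ideal.mul_mem_left _ _ ?_)
  exact Ideal.subset_span (Set.mem_insert _ _)


theorem main (hn : 3 ≤ n) :
    ¬ FrobAlg.IsFLiftable p k
      (MvPolynomial (Fin n × Fin 2) k ⧸ Ideal.span
        {(∑ i : Fin n, MvPolynomial.X (i, (0 : Fin 2)) * MvPolynomial.X (i, (1 : Fin 2)) : MvPolynomial (Fin n × Fin 2) k)}) := by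
  intro hF
  obtain ⟨P, hP⟩ := exists_PZ n p
  apply PZ_not_mem n p k hn P hP
  let f : Fin 1 → MvPolynomial (Fin (n * 2)) k := fun _ => rename (ee n) (QQ k n)
  have hIJ : Ideal.span (Set.range f) = (Ideal.span
      {(∑ i : Fin n, MvPolynomial.X (i, (0 : Fin 2)) * MvPolynomial.X (i, (1 : Fin 2)) : MvPolynomial (Fin n × Fin 2) k)}).map
        ((renameEquiv k (ee n) : MvPolynomial (Fin n × Fin 2) k ≃ₐ[k] MvPolynomial (Fin (n * 2)) k) :
          MvPolynomial (Fin n × Fin 2) k →+* MvPolynomial (Fin (n * 2)) k) := by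
    rw [Ideal.map_span, Set.image_singleton, Set.range_const]
    rfl
  have hF' : FrobAlg.IsFLiftable p k (MvPolynomial (Fin (n * 2)) k ⧸ Ideal.span (Set.range f)) :=
    isFLiftable_of_algEquiv p k (Ideal.quotientEquivAlg _ _ (renameEquiv k (ee n)) hIJ) hF
  obtain ⟨f', h, hf', hcong⟩ := exists_of_isFLiftable p k f hF'
  have hcong0 := hcong 0
  rw [Set.range_unique] at hcong0
  obtain ⟨g, c, hrel⟩ := key p k n (f' 0) h (hf' 0) hcong0 P hP
  exact mem_of_relation p k n _ g c P hP hrel

end main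

end Groth.Agent.Helper7.QuadFL
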