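import Groth.Agent.Helper7.QuadUnit

set_option autoImplicit false
universe u v

namespace Groth.Agent.Helper7.QuadH90

variable {S : Type u} {R : Type v} [CommRing S] [CommRing R] [Algebra S R]
  (lam : R ≃+* R) (hlam : Function.Involutive lam) (hS : RInv.IsFixedRing S R lam)
  [IsLocalRing S]

include hlam hS in
theorem result (hq : RInv.IsQuadEtale S R) (r : Rˣ) (hr : lam r * r = 1) :
    ∃ a : Rˣ, (r : R) = (a⁻¹ : Rˣ) * lam a := by
  haveI : Nontrivial R := hS.1.nontrivial
  suffices h : ∃ c : R, IsUnit (c + lam (r * c)) by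
    obtain ⟨c, a, ha⟩ := h
    refine ⟨a, ?_⟩
    have h1 : lam (a : R) = r * a := by
      rw [ha, map_add, hlam, mul_add, map_mul]
      have : (r : R) * (lam r * lam c) = lam c := by
        rw [← mul_assoc, mul_comm (r : R), hr, one_mul]
      rw [this, add_comm]
    rw [h1, mul_left_comm, Units.inv_mul, mul_one]
  obtain ⟨M, hM⟩ := Ideal.exists_maximal R
  haveI : M.IsMaximal := hM
  set M' := M.comap (lam : R →+* R) with hM'def
  haveI hM'max : M'.IsMaximal := Ideal.comap_isMaximal_of_surjective _ lam.surjective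
  have hall : ∀ N : Ideal R, N.IsMaximal → N = M ∨ N = M' := fun N hN => by
    haveI := hN; exact QuadMax.maximal_dichotomy lam hlam hS M N
  have hunit : ∀ x : R, x ∉ M → x ∉ M' → IsUnit x := by
    intro x h1 h2
    by_contra hx
    obtain ⟨N, hN, hxN⟩ := exists_max_ideal_of_mem_nonunits (mem_nonunits_iff.mpr hx)
    rcases hall N hN with h | h
    · rw [h] at hxN; exact h1 hxN
    · rw [h] at hxN; exact h2 hxN
  by_cases hMM : M' = M
  · obtain ⟨t, ht⟩ := QuadUnit.result74 lam hlam hS hq
    by_cases h1 : (1 : R) + lam (r * 1) ∈ M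
    · have hnot : t + lam (r * t) ∉ M := by
        intro hmem
        have : t - lam t ∈ M := by
          have e : t - lam t = (t + lam (r * t)) - lam t * (1 + lam (r * 1)) := by
            rw [map_mul, map_mul, map_one]; ring
          rw [e]; exact M.sub_mem hmem (M.mul_mem_left _ h1)
        exact hM.ne_top (Ideal.eq_top_of_isUnit_mem _ this ht)
      exact ⟨t, hunit _ hnot (by rw [hMM]; exact hnot)⟩
    · exact ⟨1, hunit _ h1 (by rw [hMM]; exact h1)⟩
  · have hnle : ¬ (M' ≤ M) := fun hle => hMM (hM'max.eq_of_le hM.ne_top hle)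
    obtain ⟨c, hcM', hcM⟩ := SetLike.not_le_iff_exists.mp hnle
    have hcM'' : lam c ∈ M := hcM'
    refine ⟨c, hunit _ ?_ ?_⟩
    · intro hmem
      have h2 : lam (r * c) ∈ M := by rw [map_mul]; exact M.mul_mem_left _ hcM''
      exact hcM (by have := M.sub_mem hmem h2; simpa using this)
    · intro hmem
      have h2 : lam (r * c) ∈ M' := by have := M'.sub_mem hmem hcM'; simpa using this
      have h3 : (r : R) * c ∈ M := by
        have : lam (lam (r * c)) ∈ M := h2
        rwa [hlam] at this
      rcases hM.isPrime.mem_or_mem h3 with h | h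
      · exact hM.ne_top (Ideal.eq_top_of_isUnit_mem _ h r.isUnit)
      · exact hcM h

end Groth.Agent.Helper7.QuadH90
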