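import Mathlib
import Groth.Agent.Helper7.QuadBranch

set_option autoImplicit false
universe u v w

namespace Groth.Agent.Helper7.QuadHomeo

open RInv TensorProduct Groth.Agent.Helper7.QuadOpen

variable {S : Type u} {R : Type v} [CommRing S] [CommRing R] [Algebra S R]
  (lam : R ≃+* R) (hlam : Function.Involutive lam) (hS : RInv.IsFixedRing S R lam)
  (W : Set (PrimeSpectrum S))
  (hW : W = {p : PrimeSpectrum S | ¬ RInv.IsQuadEtale (Localization.AtPrime p.asIdeal)
    (Localization.AtPrime p.asIdeal ⊗[S] R)})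

include hlam hS hW in
/-- the branch locus is closed -/
lemma mem_W_of_le (p : PrimeSpectrum S) (hp : PrimeSpectrum.vanishingIdeal W ≤ p.asIdeal) : p ∈ W := by
  by_contra hpW
  rw [hW, Set.mem_ofPred_eq, not_not] at hpW
  obtain ⟨r, y, s, hs, h⟩ := exists_dvd lam hlam hS p hpW
  apply hs
  apply hp
  rw [PrimeSpectrum.mem_vanishingIdeal]
  intro p' hp'
  by_contra hsp'
  rw [hW] at hp'
  exact hp' (isQuadEtale_of_isUnit lam hlam hS _ r y s h
    (IsLocalization.map_units (M := p'.asIdeal.primeCompl) (Localization.AtPrime p'.asIdeal) ⟨s, hsp'⟩))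

include hlam hS in
/-- lying over, landing above the radical of the extension of an ideal contained in the prime -/
lemma exists_over (I : Ideal S) (p : Ideal S) [p.IsPrime] (hp : I ≤ p) :
    ∃ Q : Ideal R, Q.IsPrime ∧ Q.comap (algebraMap S R) = p ∧ (I.map (algebraMap S R)).radical ≤ Q := by
  have := QuadMax.isIntegral lam hlam hS
  obtain ⟨Q, -, hQ, hQp⟩ := Ideal.exists_ideal_over_prime_of_isIntegral p (⊥ : Ideal R)
    (by
      rw [← RingHom.ker_eq_comap_bot, (RingHom.injective_iff_ker_eq_bot _).1 hS.1]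
      exact bot_le)
  refine ⟨Q, hQ, hQp, ?_⟩
  rw [hQ.isRadical.radical_le_iff, Ideal.map_le_iff_le_comap, hQp]
  exact hp

variable (J : Ideal R) (hJ : J = ((PrimeSpectrum.vanishingIdeal W).map (algebraMap S R)).radical)
  (hIJ : PrimeSpectrum.vanishingIdeal W ≤ J.comap (algebraMap S R))

local notation "φ" => Ideal.quotientMap J (algebraMap S R) hIJ

include hlam hS in
lemma isIntegral_quotientMap : (φ).IsIntegral := by
  have hint := QuadMax.isIntegral lam hlam hS
  intro x
  obtain ⟨r, rfl⟩ := Ideal.Quotient.mk_surjective x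
  obtain ⟨P, hP, hPr⟩ := hint.isIntegral r
  refine ⟨P.map (Ideal.Quotient.mk _), hP.map _, ?_⟩
  rw [Polynomial.eval₂_map]
  have hcomp : (φ).comp (Ideal.Quotient.mk (PrimeSpectrum.vanishingIdeal W)) =
      (Ideal.Quotient.mk J).comp (algebraMap S R) := by
    ext s; simp
  rw [hcomp, ← Polynomial.hom_eval₂, hPr, map_zero]

lemma comap_comm (Q : Ideal (R ⧸ J)) :
    ((Q.comap (Ideal.Quotient.mk J)).comap (algebraMap S R)) =
      (Q.comap (φ)).comap (Ideal.Quotient.mk (PrimeSpectrum.vanishingIdeal W)) := by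
  ext s
  simp [Ideal.mem_comap]

include hlam hS hW hJ in
theorem comap_bijective : Function.Bijective (PrimeSpectrum.comap (φ)) := by
  constructor
  · intro Q₁ Q₂ h
    have h' : (Q₁.asIdeal.comap (φ)) = (Q₂.asIdeal.comap (φ)) := congrArg PrimeSpectrum.asIdeal h
    have h12 : (Q₁.asIdeal.comap (Ideal.Quotient.mk J)).comap (algebraMap S R) =
        (Q₂.asIdeal.comap (Ideal.Quotient.mk J)).comap (algebraMap S R) := by
      rw [comap_comm W J hIJ, comap_comm W J hIJ, h']
    -- the common contraction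
    let 𝔭 : PrimeSpectrum S := ⟨(Q₁.asIdeal.comap (Ideal.Quotient.mk J)).comap (algebraMap S R),
      inferInstance⟩
    have h𝔭 : PrimeSpectrum.vanishingIdeal W ≤ 𝔭.asIdeal := by
      intro s hs
      change algebraMap S R s ∈ Q₁.asIdeal.comap (Ideal.Quotient.mk J)
      rw [Ideal.mem_comap]
      have : Ideal.Quotient.mk J (algebraMap S R s) = 0 := by
        rw [Ideal.Quotient.eq_zero_iff_mem]
        exact hIJ hs
      rw [this]; exact Q₁.asIdeal.zero_mem
    have hmem := mem_W_of_le lam hlam hS W hW 𝔭 h𝔭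
    rw [hW] at hmem
    obtain ⟨q, -, huniq, -⟩ := (QuadBranch.branch_iff lam hlam hS 𝔭).1 hmem
    have e1 := huniq ⟨Q₁.asIdeal.comap (Ideal.Quotient.mk J), inferInstance⟩ rfl
    have e2 := huniq ⟨Q₂.asIdeal.comap (Ideal.Quotient.mk J), inferInstance⟩ h12.symm
    have e3 : Q₁.asIdeal.comap (Ideal.Quotient.mk J) = Q₂.asIdeal.comap (Ideal.Quotient.mk J) := by
      have := e1.trans e2.symm
      exact congrArg PrimeSpectrum.asIdeal this
    apply PrimeSpectrum.ext
    exact Ideal.comap_injective_of_surjective _ Ideal.Quotient.mk_surjective e3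
  · intro P
    have hle : PrimeSpectrum.vanishingIdeal W ≤ P.asIdeal.comap (Ideal.Quotient.mk _) := by
      intro s hs
      rw [Ideal.mem_comap, Ideal.Quotient.eq_zero_iff_mem.2 hs]
      exact P.asIdeal.zero_mem
    obtain ⟨Q, hQ, hQp, hQJ⟩ := exists_over lam hlam hS (PrimeSpectrum.vanishingIdeal W)
      (P.asIdeal.comap (Ideal.Quotient.mk _)) hle
    rw [← hJ] at hQJ
    have hker : RingHom.ker (Ideal.Quotient.mk J) ≤ Q := by rwa [Ideal.mk_ker]
    have hQ' : (Q.map (Ideal.Quotient.mk J)).IsPrime :=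
      Ideal.map_isPrime_of_surjective Ideal.Quotient.mk_surjective hker
    have hcm : (Q.map (Ideal.Quotient.mk J)).comap (Ideal.Quotient.mk J) = Q := by
      rw [Ideal.comap_map_of_surjective _ Ideal.Quotient.mk_surjective, ← RingHom.ker_eq_comap_bot]
      exact sup_eq_left.2 hker
    refine ⟨⟨Q.map (Ideal.Quotient.mk J), hQ'⟩, ?_⟩
    apply PrimeSpectrum.ext
    change (Q.map (Ideal.Quotient.mk J)).comap (φ) = P.asIdeal
    apply Ideal.comap_injective_of_surjective _ Ideal.Quotient.mk_surjective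
    rw [← comap_comm W J hIJ, hcm, hQp]

include hlam hS hW hJ in
theorem isHomeomorph_comap : IsHomeomorph (PrimeSpectrum.comap (φ)) := by
  rw [isHomeomorph_iff_continuous_isClosedMap_bijective]
  exact ⟨PrimeSpectrum.continuous_comap _,
    PrimeSpectrum.isClosedMap_comap_of_isIntegral _ (isIntegral_quotientMap lam hlam hS W J hIJ),
    comap_bijective lam hlam hS W hW J hJ hIJ⟩

include hlam hS hW hJ in
theorem bijective_of_two (h2 : IsUnit (2 : S)) : Function.Bijective (φ) := by
  constructor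
  · rw [injective_iff_map_eq_zero]
    intro x hx
    obtain ⟨s, rfl⟩ := Ideal.Quotient.mk_surjective x
    rw [Ideal.quotientMap_mk, Ideal.Quotient.eq_zero_iff_mem] at hx
    rw [Ideal.Quotient.eq_zero_iff_mem, PrimeSpectrum.mem_vanishingIdeal]
    intro p hp
    have hle : PrimeSpectrum.vanishingIdeal W ≤ p.asIdeal := by
      intro t ht
      exact (PrimeSpectrum.mem_vanishingIdeal W t).1 ht p hp
    obtain ⟨Q, hQ, hQp, hQJ⟩ := exists_over lam hlam hS (PrimeSpectrum.vanishingIdeal W) p.asIdeal hle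
    rw [← hJ] at hQJ
    have : algebraMap S R s ∈ Q := hQJ hx
    rw [← hQp]
    exact this
  · intro x
    obtain ⟨r, rfl⟩ := Ideal.Quotient.mk_surjective x
    obtain ⟨u, hu⟩ := h2
    have hfix : lam (r + lam r) = r + lam r := by rw [map_add, hlam r, add_comm]
    obtain ⟨t, ht⟩ := (hS.2 _).1 hfix
    refine ⟨Ideal.Quotient.mk _ (((u⁻¹ : Sˣ) : S) * t), ?_⟩
    rw [Ideal.quotientMap_mk, Ideal.Quotient.eq, map_mul, ht]
    have h1 : algebraMap S R ((u⁻¹ : Sˣ) : S) * (r + lam r) - r =
        algebraMap S R ((u⁻¹ : Sˣ) : S) * (lam r - r) := by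
      have h2' : algebraMap S R ((u⁻¹ : Sˣ) : S) * 2 = 1 := by
        have : (((u⁻¹ : Sˣ) : S) * 2) = 1 := by rw [← hu]; exact Units.inv_mul u
        have := congrArg (algebraMap S R) this
        rw [map_mul, map_one, map_ofNat] at this
        exact this
      calc algebraMap S R ((u⁻¹ : Sˣ) : S) * (r + lam r) - r
          = algebraMap S R ((u⁻¹ : Sˣ) : S) * (r + lam r) - (algebraMap S R ((u⁻¹ : Sˣ) : S) * 2) * r := by
            rw [h2', one_mul]
        _ = algebraMap S R ((u⁻¹ : Sˣ) : S) * (lam r - r) := by ring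
    rw [h1, hJ]
    exact Ideal.mul_mem_left _ _ (sub_mem_radical lam hlam hS W hW r)

end Groth.Agent.Helper7.QuadHomeo
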