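import Groth.Prelude.Def_W4c2azumayainvolQEt
import Mathlib

set_option autoImplicit false
universe u v

namespace Groth.Agent.Helper7.QuadJac

open RInv

theorem result (S : Type u) (R : Type v) [CommRing S]
    [CommRing R] [Algebra S R] [IsLocalRing S] (hq : RInv.IsQuadEtale S R) :
    Ring.jacobson R = (IsLocalRing.maximalIdeal S).map (algebraMap S R) := by
  obtain ⟨hfin, -, hunr, -⟩ := hq
  haveI := hfin
  haveI := hunr
  haveI : Algebra.IsIntegral S R := Algebra.IsIntegral.of_finite S R
  apply le_antisymm
  · -- J(R) ≤ mR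
    set I := (IsLocalRing.maximalIdeal S).map (algebraMap S R) with hI
    letI : Field (S ⧸ IsLocalRing.maximalIdeal S) := Ideal.Quotient.field _
    haveI : Module.Finite (S ⧸ IsLocalRing.maximalIdeal S) (R ⧸ I) :=
      Module.Finite.of_restrictScalars_finite S _ _
    haveI : Algebra.FormallyUnramified (S ⧸ IsLocalRing.maximalIdeal S) (R ⧸ I) :=
      Algebra.FormallyUnramified.of_restrictScalars S _ _
    haveI : IsReduced (R ⧸ I) :=
      Algebra.FormallyUnramified.isReduced_of_field (S ⧸ IsLocalRing.maximalIdeal S) (R ⧸ I)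
    haveI : IsArtinianRing (R ⧸ I) := IsArtinianRing.of_finite (S ⧸ IsLocalRing.maximalIdeal S) _
    have hjac : I.jacobson = I := by
      rw [Ideal.jacobson_eq_iff_jacobson_quotient_eq_bot, IsArtinianRing.jacobson_eq_radical]
      exact nilradical_eq_zero (R ⧸ I)
    calc Ring.jacobson R ≤ I.jacobson := Ideal.ringJacobson_le_jacobson
      _ = I := hjac
  · -- mR ≤ J(R)
    rw [Ring.jacobson_eq_sInf_isMaximal]
    apply le_sInf
    intro M hM
    haveI : M.IsMaximal := hM
    rw [Ideal.map_le_iff_le_comap]
    have hmax : (M.comap (algebraMap S R)).IsMaximal :=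
      Ideal.isMaximal_comap_of_isIntegral_of_isMaximal M
    rw [IsLocalRing.eq_maximalIdeal hmax]

end Groth.Agent.Helper7.QuadJac
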