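import Groth.Agent.Helper7.QuadEt

set_option autoImplicit false
universe u v

namespace Groth.Agent.Helper7.QuadMax

open RInv Polynomial

variable {S : Type u} {R : Type v} [CommRing S] [CommRing R] [Algebra S R]
  (lam : R ≃+* R) (hlam : Function.Involutive lam) (hS : RInv.IsFixedRing S R lam)

include hlam hS in
lemma exists_trace_norm (x : R) : ∃ t n : S, algebraMap S R t = x + lam x ∧ algebraMap S R n = x * lam x := by
  have hfix1 : lam (x + lam x) = x + lam x := by rw [map_add, hlam x]; ring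
  have hfix2 : lam (x * lam x) = x * lam x := by rw [map_mul, hlam x]; ring
  obtain ⟨t, ht⟩ := (hS.2 _).mp hfix1
  obtain ⟨n, hn⟩ := (hS.2 _).mp hfix2
  exact ⟨t, n, ht, hn⟩

include hlam hS in
lemma isIntegral : Algebra.IsIntegral S R := by
  constructor
  intro x
  obtain ⟨t, n, ht, hn⟩ := exists_trace_norm lam hlam hS x
  refine ⟨X ^ 2 - C t * X + C n, ?_, ?_⟩
  · have h1 : (X ^ 2 - C t * X + C n : S[X]) = X ^ 2 - (C t * X - C n) := by ring
    rw [h1]
    apply monic_X_pow_sub
    refine lt_of_le_of_lt (degree_sub_le _ _) ?_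
    rw [max_lt_iff]
    exact ⟨lt_of_le_of_lt (degree_C_mul_X_le t) (by exact_mod_cast one_lt_two),
      lt_of_le_of_lt degree_C_le (by exact_mod_cast zero_lt_two)⟩
  · simp only [eval₂_add, eval₂_sub, eval₂_pow, eval₂_X, eval₂_mul, eval₂_C, ht, hn]
    ring

variable [IsLocalRing S]

include hlam hS in
lemma maximal_dichotomy (M M' : Ideal R) [hM : M.IsMaximal] [hM' : M'.IsMaximal] :
    M' = M ∨ M' = M.comap (lam : R →+* R) := by
  haveI := isIntegral lam hlam hS
  by_contra hcon
  push_neg at hcon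
  haveI hlM : (M.comap (lam : R →+* R)).IsMaximal :=
    Ideal.comap_isMaximal_of_surjective _ lam.surjective
  have hnot : ¬ ((M' : Set R) ⊆ (M : Set R) ∪ (M.comap (lam : R →+* R) : Set R)) := by
    intro hsub
    rcases Ideal.subset_union.mp hsub with h | h
    · exact hcon.1 (hM'.eq_of_le hM.ne_top h)
    · exact hcon.2 (hM'.eq_of_le hlM.ne_top h)
  obtain ⟨x, hxM', hx⟩ := Set.not_subset.mp hnot
  rw [Set.mem_union, not_or] at hx
  obtain ⟨t, nn, ht, hn⟩ := exists_trace_norm lam hlam hS x
  have hnM' : nn ∈ M'.comap (algebraMap S R) := by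
    rw [Ideal.mem_comap, hn]; exact M'.mul_mem_right _ hxM'
  have h1 : M'.comap (algebraMap S R) = IsLocalRing.maximalIdeal S :=
    IsLocalRing.eq_maximalIdeal (Ideal.isMaximal_comap_of_isIntegral_of_isMaximal M')
  have h2 : M.comap (algebraMap S R) = IsLocalRing.maximalIdeal S :=
    IsLocalRing.eq_maximalIdeal (Ideal.isMaximal_comap_of_isIntegral_of_isMaximal M)
  have hnM : x * lam x ∈ M := by
    rw [← hn]
    have : nn ∈ M.comap (algebraMap S R) := by rw [h2, ← h1]; exact hnM'
    exact this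
  rcases hM.isPrime.mem_or_mem hnM with h | h
  · exact hx.1 h
  · exact hx.2 h

include hlam hS in
theorem result76 (h : ∃ r : R, lam r - r ∉ Ring.jacobson R) : RInv.IsQuadEtale S R := by
  obtain ⟨r, hr⟩ := h
  rw [Ring.jacobson_eq_sInf_isMaximal, Submodule.mem_sInf] at hr
  push_neg at hr
  obtain ⟨M, hM, hrM⟩ : ∃ M : Ideal R, M.IsMaximal ∧ lam r - r ∉ M := hr
  haveI : M.IsMaximal := hM
  set u := lam r - r with hu
  have hlu : lam u = -u := by rw [hu, map_sub, hlam r]; ring
  have hunit : IsUnit u := by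
    by_contra hnu
    obtain ⟨M', hM', huM'⟩ := exists_max_ideal_of_mem_nonunits (mem_nonunits_iff.mpr hnu)
    haveI : M'.IsMaximal := hM'
    rcases maximal_dichotomy lam hlam hS M M' with h | h
    · rw [h] at huM'; exact hrM huM'
    · rw [h] at huM'
      have h3 : lam u ∈ M := huM'
      rw [hlu] at h3
      exact hrM (by simpa using M.neg_mem h3)
  apply QuadEt.result lam hlam hS r
  have : r - lam r = -u := by rw [hu]; ring
  rw [this]
  exact hunit.neg

end Groth.Agent.Helper7.QuadMax
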