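import Groth.Agent.Helper7.QuadUnit

set_option autoImplicit false
universe u v

namespace Groth.Agent.Helper7.QuadRes

open RInv QuadUnit

variable {S : Type u} {R : Type v} [CommRing S] [CommRing R] [Algebra S R] [IsLocalRing S]

attribute [local instance] Ideal.Quotient.field

local notation "mS" => IsLocalRing.maximalIdeal S
local notation "IR" => Ideal.map (algebraMap S R) (IsLocalRing.maximalIdeal S)
local notation "kk" => S ⧸ IsLocalRing.maximalIdeal S
local notation "KK" => R ⧸ Ideal.map (algebraMap S R) (IsLocalRing.maximalIdeal S)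

theorem result (hq : RInv.IsQuadEtale S R) :
    (IsField KK ∧ Module.finrank kk KK = 2 ∧ Algebra.IsSeparable kk KK) ∨
      Nonempty (KK ≃ₐ[kk] (kk × kk)) := by
  obtain ⟨hfin, hproj, hunr, hrank⟩ := hq
  haveI := hfin
  haveI := hproj
  haveI := hunr
  haveI : Module.Free S R := Module.free_of_flat_of_isLocalRing
  have hfr : Module.finrank S R = 2 := by
    have := hrank (IsLocalRing.closedPoint S)
    rw [Module.rankAtStalk_eq_finrank_of_free] at this
    exact this
  haveI : Nontrivial R := Module.nontrivial_of_finrank_pos (R := S) (by omega)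
  obtain ⟨b, hb0⟩ := exists_basis_one (Module.finBasisOfFinrankEq S R hfr)
  have hδ := isUnit_delta b hb0
  have hsq := theta_sq b hb0
  set θ := b 1 with hθ
  set t := τ b with ht
  set n := ν b with hn
  have hprime : (mS).IsPrime := (IsLocalRing.maximalIdeal.isMaximal S).isPrime
  have hfrK : Module.finrank kk KK = 2 := by rw [IsLocalRing.finrank_quotient_map, hfr]
  haveI : Nontrivial KK := Module.nontrivial_of_finrank_pos (R := kk) (by omega)
  have hItop : IR ≠ ⊤ := Ideal.Quotient.nontrivial_iff.mp inferInstance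
  have hdisc : algebraMap S R (t ^ 2 - 4 * n) = δ b * δ b := by
    rw [δ]
    simp only [map_sub, map_mul, map_pow, map_ofNat]
    linear_combination (-4) * hsq
  have hdisc_nm : t ^ 2 - 4 * n ∉ mS := by
    intro hmem
    have h1 : δ b * δ b ∈ IR := by rw [← hdisc]; exact Ideal.mem_map_of_mem _ hmem
    exact hItop (Ideal.eq_top_of_isUnit_mem _ h1 (hδ.mul hδ))
  by_cases hroot : ∃ a : S, a ^ 2 - t * a + n ∈ mS
  · right
    obtain ⟨a, ha⟩ := hroot
    let bK := IsLocalRing.basisQuotient b
    have hbK0 : bK 0 = 1 := by rw [IsLocalRing.basisQuotient_apply, hb0, map_one]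
    have hbK1 : bK 1 = Ideal.Quotient.mk IR θ := IsLocalRing.basisQuotient_apply b 1
    set α : kk := Ideal.Quotient.mk mS a with hαdef
    set β : kk := Ideal.Quotient.mk mS (t - a) with hβdef
    set tb : kk := Ideal.Quotient.mk mS t with htb
    set nb : kk := Ideal.Quotient.mk mS n with hnb
    have hα : α ^ 2 - tb * α + nb = 0 := by
      rw [hαdef, htb, hnb, ← map_pow, ← map_mul, ← map_sub, ← map_add]
      exact Ideal.Quotient.eq_zero_iff_mem.mpr ha
    have hβ : β ^ 2 - tb * β + nb = 0 := by
      have e : (t - a) ^ 2 - t * (t - a) + n = a ^ 2 - t * a + n := by ring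
      rw [hβdef, htb, hnb, ← map_pow, ← map_mul, ← map_sub, ← map_add, e]
      exact Ideal.Quotient.eq_zero_iff_mem.mpr ha
    have hαβ : α - β ≠ 0 := by
      intro h0
      apply hdisc_nm
      have e : t ^ 2 - 4 * n = (a - (t - a)) ^ 2 - 4 * (a ^ 2 - t * a + n) := by ring
      rw [e]
      refine (mS).sub_mem ?_ ((mS).mul_mem_left _ ha)
      have h1 : a - (t - a) ∈ mS := by
        rw [← Ideal.Quotient.eq_zero_iff_mem, map_sub]; exact h0
      rw [pow_two]; exact (mS).mul_mem_left _ h1
    have hsqK : bK 1 * bK 1 = tb • bK 1 - nb • bK 0 := by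
      rw [hbK1, hbK0, ← map_mul, hsq, map_sub, map_mul, Algebra.smul_def, Algebra.smul_def,
        mul_one]
      rfl
    let φl : KK →ₗ[kk] kk × kk := bK.constr kk ![((1 : kk), (1 : kk)), (α, β)]
    have hφ0 : φl (bK 0) = (1, 1) := by simp [φl]
    have hφ1 : φl (bK 1) = (α, β) := by simp [φl]
    have hmul : ∀ x y, φl (x * y) = φl x * φl y := by
      have h2 : (LinearMap.mul kk KK).compr₂ φl
          = ((LinearMap.mul kk (kk × kk)).compl₁₂ φl φl) := by
        apply bK.ext; intro i; apply bK.ext; intro j
        simp only [LinearMap.compr₂_apply, LinearMap.mul_apply', LinearMap.compl₁₂_apply]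
        fin_cases i <;> fin_cases j
        · simp only [Fin.zero_eta, hbK0, mul_one]
          rw [← hbK0, hφ0]; simp
        · simp only [Fin.zero_eta, Fin.mk_one, hbK0, one_mul]
          rw [← hbK0, hφ0, ← Prod.one_eq_mk, one_mul]
        · simp only [Fin.zero_eta, Fin.mk_one, hbK0, mul_one]
          rw [← hbK0, hφ0, ← Prod.one_eq_mk, mul_one]
        · simp only [Fin.mk_one]
          rw [hsqK, map_sub, map_smul, map_smul, hφ0, hφ1]
          refine Prod.ext ?_ ?_
          · simp only [Prod.fst_sub, Prod.smul_fst, Prod.fst_mul, smul_eq_mul, mul_one]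
            linear_combination (-1 : kk) * hα
          · simp only [Prod.snd_sub, Prod.smul_snd, Prod.snd_mul, smul_eq_mul, mul_one]
            linear_combination (-1 : kk) * hβ
      intro x y
      exact LinearMap.congr_fun₂ h2 x y
    have hone : φl 1 = 1 := by rw [← hbK0, hφ0]; rfl
    let φ : KK →ₐ[kk] kk × kk := AlgHom.ofLinearMap φl hone hmul
    haveI : Module.Finite kk KK := Module.Finite.of_basis bK
    have hinj : Function.Injective φl := by
      rw [injective_iff_map_eq_zero]
      intro x hx
      have hxd : x = bK.repr x 0 • bK 0 + bK.repr x 1 • bK 1 := by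
        conv_lhs => rw [← bK.sum_repr x, Fin.sum_univ_two]
      set p := bK.repr x 0
      set q := bK.repr x 1
      rw [hxd, map_add, map_smul, map_smul, hφ0, hφ1] at hx
      have h1 : p + q * α = 0 := by simpa using congrArg Prod.fst hx
      have h2 : p + q * β = 0 := by simpa using congrArg Prod.snd hx
      have h3 : q * (α - β) = 0 := by linear_combination h1 - h2
      have hq0 : q = 0 := by
        rcases mul_eq_zero.mp h3 with h | h
        · exact h
        · exact absurd h hαβ
      have hp0 : p = 0 := by rw [hq0, zero_mul, add_zero] at h1; exact h1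
      rw [hxd, hp0, hq0, zero_smul, zero_smul, add_zero]
    have hfrkk : Module.finrank kk KK = Module.finrank kk (kk × kk) := by
      rw [hfrK, Module.finrank_prod, Module.finrank_self]
    have hsurj : Function.Surjective φl :=
      (LinearMap.injective_iff_surjective_of_finrank_eq_finrank hfrkk).mp hinj
    exact ⟨AlgEquiv.ofBijective φ ⟨hinj, hsurj⟩⟩
  · left
    push_neg at hroot
    have hunit : ∀ x : R, x ∉ IR → IsUnit x := by
      intro x hx
      have hxd := decomp b hb0 x
      set s0 := b.repr x 0 with hs0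
      set s1 := b.repr x 1 with hs1
      have hnot : ¬ (s0 ∈ mS ∧ s1 ∈ mS) := by
        rintro ⟨h0, h1⟩
        apply hx
        rw [hxd]
        exact (IR).add_mem (Ideal.mem_map_of_mem _ h0)
          ((IR).mul_mem_right _ (Ideal.mem_map_of_mem _ h1))
      have hN : (algebraMap S R s0 + algebraMap S R s1 * θ) *
          (algebraMap S R s0 + algebraMap S R s1 * algebraMap S R t - algebraMap S R s1 * θ)
          = algebraMap S R (s0 ^ 2 + s0 * s1 * t + s1 ^ 2 * n) := by
        simp only [map_add, map_mul, map_pow]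
        linear_combination (-(algebraMap S R s1) ^ 2) * hsq
      have hNunit : s0 ^ 2 + s0 * s1 * t + s1 ^ 2 * n ∉ mS := by
        intro hmem
        by_cases h1 : s1 ∈ mS
        · have h0 : s0 ∉ mS := fun h0 => hnot ⟨h0, h1⟩
          have h2 : s0 ^ 2 ∈ mS := by
            have e : s0 ^ 2 = (s0 ^ 2 + s0 * s1 * t + s1 ^ 2 * n) - s1 * (s0 * t + s1 * n) := by
              ring
            rw [e]; exact (mS).sub_mem hmem ((mS).mul_mem_right _ h1)
          exact h0 (hprime.mem_of_pow_mem 2 h2)
        · have hu : IsUnit s1 := IsLocalRing.notMem_maximalIdeal.mp h1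
          obtain ⟨u, hu⟩ := hu
          have huu : (u : S) * ((u⁻¹ : Sˣ) : S) = 1 := Units.mul_inv u
          set v : S := ((u⁻¹ : Sˣ) : S) with hv
          set c := -(s0 * v) with hc
          have e : s1 ^ 2 * (c ^ 2 - t * c + n) = s0 ^ 2 + s0 * s1 * t + s1 ^ 2 * n := by
            rw [← hu, hc]
            linear_combination (s0 ^ 2 * ((u : S) * v + 1) + t * s0 * u) * huu
          have h2 : s1 ^ 2 * (c ^ 2 - t * c + n) ∈ mS := by rw [e]; exact hmem
          rcases hprime.mem_or_mem h2 with h | h
          · exact h1 (hprime.mem_of_pow_mem 2 h)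
          · exact hroot c h
      have h3 : IsUnit (algebraMap S R (s0 ^ 2 + s0 * s1 * t + s1 ^ 2 * n)) :=
        (IsLocalRing.notMem_maximalIdeal.mp hNunit).map _
      rw [← hN, ← hxd] at h3
      exact isUnit_of_mul_isUnit_left h3
    haveI hmax : (IR).IsMaximal := by
      rw [Ideal.isMaximal_iff]
      refine ⟨fun h1 => hItop ((Ideal.eq_top_iff_one _).mpr h1), ?_⟩
      intro J x hIJ hxI hxJ
      exact (Ideal.eq_top_iff_one _).mp (Ideal.eq_top_of_isUnit_mem _ hxJ (hunit x hxI))
    refine ⟨(Ideal.Quotient.maximal_ideal_iff_isField_quotient IR).mp hmax, hfrK, ?_⟩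
    haveI : Algebra.FormallyUnramified S KK :=
      Algebra.FormallyUnramified.of_surjective (IsScalarTower.toAlgHom S R KK)
        Ideal.Quotient.mk_surjective
    haveI : Algebra.FormallyUnramified kk KK :=
      Algebra.FormallyUnramified.of_restrictScalars S kk KK
    haveI : Module.Finite kk KK := Module.Finite.of_restrictScalars_finite S _ _
    exact Algebra.FormallyUnramified.isSeparable kk KK

end Groth.Agent.Helper7.QuadRes
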