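import Mathlib
import Groth.Agent.Helper7.BrauerGen

set_option autoImplicit false
universe u u' v w x

namespace Groth.Agent.Helper7.Quat

open TensorProduct Module Groth.Agent.Helper7.BrauerMax Groth.Agent.Helper7.BrauerBasic

section structure_thm
variable (k : Type u) [Field k] (D : Type v) [DivisionRing D] [Algebra k D]
  [Algebra.IsCentral k D] [FiniteDimensional k D]

/-- a non-central element squaring into `k`. -/
theorem exists_sq_mem (h2 : (2 : k) ≠ 0) (hd : finrank k D = 2 ^ 2) :
    ∃ (i' : D) (a : k), i' * i' = algebraMap k D a ∧ ∀ c : k, algebraMap k D c ≠ i' := by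
  classical
  obtain ⟨L, _, _, _, j, hL2, -, -⟩ := exists_splitting_subfield k D 2 hd
  have hjinj : Function.Injective j := (j : L →+* D).injective
  -- a non-scalar element of L
  obtain ⟨u, hu⟩ : ∃ u : L, ∀ c : k, algebraMap k L c ≠ u := by
    by_contra hcon
    push_neg at hcon
    have : (⊥ : Subalgebra k L) = ⊤ := by
      rw [eq_top_iff]
      intro x _
      obtain ⟨c, hc⟩ := hcon x
      exact Algebra.mem_bot.2 ⟨c, hc⟩
    rw [Subalgebra.bot_eq_top_iff_finrank_eq_one] at this
    omega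
  have hli : LinearIndependent k ![(1 : L), u] := by
    rw [LinearIndependent.pair_iff]
    intro s t hst
    by_cases ht : t = 0
    · subst ht
      simp at hst
      exact ⟨hst, rfl⟩
    · exfalso
      apply hu (-(s / t))
      have h1 : t • u = -(s • (1 : L)) := by
        rw [eq_neg_iff_add_eq_zero, add_comm]; exact hst
      have h2' : u = t⁻¹ • (t • u) := by rw [smul_smul, inv_mul_cancel₀ ht, one_smul]
      rw [h2', h1, Algebra.algebraMap_eq_smul_one, smul_neg, smul_smul, neg_smul]
      congr 2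
      field_simp
  have hspan : Submodule.span k (Set.range ![(1 : L), u]) = ⊤ :=
    hli.span_eq_top_of_card_eq_finrank' (by simp [hL2])
  have hmem : u * u ∈ Submodule.span k (Set.range ![(1 : L), u]) := by rw [hspan]; trivial
  rw [Submodule.mem_span_range_iff_exists_fun] at hmem
  obtain ⟨cf, hcf⟩ := hmem
  rw [Fin.sum_univ_two] at hcf
  obtain ⟨n', t, hnt⟩ : ∃ n' t : k, n' • (1 : L) + t • u = u * u := ⟨cf 0, cf 1, hcf⟩
  -- complete the square
  refine ⟨j (u - (t / 2) • 1), n' + t ^ 2 / 4, ?_, ?_⟩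
  · rw [← map_mul, ← AlgHom.commutes j]
    congr 1
    have h4 : (4 : k) ≠ 0 := by
      have : (4 : k) = 2 * 2 := by norm_num
      rw [this]; exact mul_ne_zero h2 h2
    have : (u - (t / 2) • 1) * (u - (t / 2) • 1) = u * u - t • u + (t ^ 2 / 4) • 1 := by
      simp only [sub_mul, mul_sub, smul_mul_assoc, mul_smul_comm, one_mul, mul_one, smul_sub,
        smul_smul]
      have e1 : t / 2 * (t / 2) = t ^ 2 / 4 := by field_simp; ring
      rw [e1]
      have e2 : t • u = (t / 2) • u + (t / 2) • u := by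
        rw [← add_smul]; congr 1; field_simp; ring
      rw [e2]
      abel
    rw [this, ← hnt, Algebra.algebraMap_eq_smul_one, add_smul]
    abel
  · intro c hc
    rw [← AlgHom.commutes j] at hc
    have := hjinj hc
    apply hu (c + t / 2)
    rw [map_add, this, Algebra.algebraMap_eq_smul_one (t / 2)]
    abel

/-- a central division algebra of dimension 4 in characteristic not 2 is a quaternion algebra. -/
theorem exists_quaternion_equiv (h2 : (2 : k) ≠ 0) (hd : finrank k D = 2 ^ 2) :
    ∃ a b : k, Nonempty (QuaternionAlgebra k a 0 b ≃ₐ[k] D) := by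
  classical
  obtain ⟨i', a, hi2, hinc⟩ := exists_sq_mem k D h2 hd
  have hi0 : i' ≠ 0 := by
    rintro rfl
    exact hinc 0 (map_zero _)
  have ha0 : a ≠ 0 := by
    rintro rfl
    rw [map_zero] at hi2
    exact hi0 (mul_self_eq_zero.1 hi2)
  -- an element not commuting with i'
  obtain ⟨d, hdc⟩ : ∃ d : D, i' * d ≠ d * i' := by
    by_contra hcon
    push_neg at hcon
    have : i' ∈ Subalgebra.center k D := by
      rw [Subalgebra.mem_center_iff]
      intro d'
      exact (hcon d').symm
    obtain ⟨c, hc⟩ := Algebra.IsCentral.out (K := k) this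
    exact hinc c hc
  set jj : D := d - a⁻¹ • (i' * d * i') with hjj
  have h1 : i' * jj = i' * d - d * i' := by
    rw [hjj, mul_sub, mul_smul_comm, ← mul_assoc, ← mul_assoc, hi2, ← Algebra.smul_def,
      smul_mul_assoc, smul_smul, inv_mul_cancel₀ ha0, one_smul]
  have h2' : jj * i' = d * i' - i' * d := by
    rw [hjj, sub_mul, smul_mul_assoc, mul_assoc (i' * d), hi2, ← Algebra.commutes a (i' * d),
      ← Algebra.smul_def, smul_smul, inv_mul_cancel₀ ha0, one_smul]
  have hanti : jj * i' = -(i' * jj) := by rw [h1, h2']; abel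
  have hjj0 : jj ≠ 0 := by
    intro h0
    rw [h0, mul_zero] at h1
    exact hdc (sub_eq_zero.1 h1.symm)
  -- independence of 1, i', jj, i' * jj
  have hli : LinearIndependent k ![(1 : D), i', jj, i' * jj] := by
    rw [Fintype.linearIndependent_iff]
    intro g hg
    rw [Fin.sum_univ_four] at hg
    replace hg : g 0 • (1 : D) + g 1 • i' + g 2 • jj + g 3 • (i' * jj) = 0 := hg
    set α := g 0
    set β := g 1
    set γ := g 2
    set δ := g 3
    -- commutator with i'
    have hcomm : (2 : k) • ((γ • i' + (δ * a) • (1 : D)) * jj) = 0 := by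
      have e1 : i' * (α • (1 : D) + β • i' + γ • jj + δ • (i' * jj)) -
          (α • (1 : D) + β • i' + γ • jj + δ • (i' * jj)) * i' =
          (2 : k) • ((γ • i' + (δ * a) • (1 : D)) * jj) := by
        have e2 : i' * jj * i' = -(i' * i' * jj) := by
          rw [mul_assoc, hanti, mul_neg, mul_assoc]
        simp only [mul_add, add_mul, mul_smul_comm, smul_mul_assoc, mul_one, one_mul]
        rw [hanti, e2, ← mul_assoc, hi2, ← Algebra.smul_def]
        simp only [smul_neg, two_smul, mul_smul, smul_add]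
        rw [smul_comm δ a jj]
        abel
      rw [← e1, hg, mul_zero, zero_mul, sub_zero]
    have hγδ : γ • i' + (δ * a) • (1 : D) = 0 := by
      rcases smul_eq_zero.1 hcomm with h | h
      · exact absurd h h2
      · rcases mul_eq_zero.1 h with h' | h'
        · exact h'
        · exact absurd h' hjj0
    have hγ : γ = 0 := by
      by_contra hγ0
      apply hinc (-(γ⁻¹ * (δ * a)))
      have : γ • i' = -((δ * a) • (1 : D)) := eq_neg_of_add_eq_zero_left hγδ
      have e3 : i' = γ⁻¹ • (γ • i') := by rw [smul_smul, inv_mul_cancel₀ hγ0, one_smul]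
      rw [e3, this, Algebra.algebraMap_eq_smul_one, smul_neg, smul_smul, neg_smul]
    have hδ : δ = 0 := by
      rw [hγ, zero_smul, zero_add] at hγδ
      rcases smul_eq_zero.1 hγδ with h | h
      · exact (mul_eq_zero.1 h).resolve_right ha0
      · exact absurd h one_ne_zero
    rw [hγ, hδ, zero_smul, zero_smul, add_zero, add_zero] at hg
    have hβ : β = 0 := by
      by_contra hβ0
      apply hinc (-(β⁻¹ * α))
      have : β • i' = -(α • (1 : D)) := eq_neg_of_add_eq_zero_right hg
      have e3 : i' = β⁻¹ • (β • i') := by rw [smul_smul, inv_mul_cancel₀ hβ0, one_smul]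
      rw [e3, this, Algebra.algebraMap_eq_smul_one, smul_neg, smul_smul, neg_smul]
    have hα : α = 0 := by
      rw [hβ, zero_smul, add_zero] at hg
      rcases smul_eq_zero.1 hg with h | h
      · exact h
      · exact absurd h one_ne_zero
    intro i
    fin_cases i
    · exact hα
    · exact hβ
    · exact hγ
    · exact hδ
  have hspan : Submodule.span k (Set.range ![(1 : D), i', jj, i' * jj]) = ⊤ :=
    hli.span_eq_top_of_card_eq_finrank' (by simp [hd])
  -- jj^2 is central
  have hjc : jj * jj ∈ Subalgebra.center k D := by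
    rw [Subalgebra.mem_center_iff]
    intro z
    have hz : z ∈ Submodule.span k (Set.range ![(1 : D), i', jj, i' * jj]) := by
      rw [hspan]; trivial
    have hanti' : i' * jj = -(jj * i') := by rw [hanti, neg_neg]
    have hi'c : i' * (jj * jj) = jj * jj * i' := by
      calc i' * (jj * jj) = (i' * jj) * jj := (mul_assoc _ _ _).symm
        _ = -(jj * i') * jj := by rw [hanti']
        _ = -(jj * (i' * jj)) := by rw [neg_mul, mul_assoc]
        _ = -(jj * -(jj * i')) := by rw [hanti']
        _ = jj * jj * i' := by rw [mul_neg, neg_neg, mul_assoc]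
    refine Submodule.span_induction (p := fun z _ => z * (jj * jj) = jj * jj * z) ?_ ?_ ?_ ?_ hz
    · rintro _ ⟨i, rfl⟩
      fin_cases i
      · simp
      · exact hi'c
      · simp [mul_assoc]
      · show i' * jj * (jj * jj) = jj * jj * (i' * jj)
        calc i' * jj * (jj * jj) = i' * (jj * jj) * jj := by simp only [mul_assoc]
          _ = jj * jj * i' * jj := by rw [hi'c]
          _ = jj * jj * (i' * jj) := by rw [mul_assoc]
    · simp
    · intro x y _ _ hx hy; rw [add_mul, mul_add, hx, hy]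
    · intro c x _ hx; rw [smul_mul_assoc, mul_smul_comm, hx]
  obtain ⟨b, hb⟩ := Algebra.IsCentral.out (K := k) hjc
  have hb' : jj * jj = algebraMap k D b := hb.symm
  -- the quaternion basis
  let q : QuaternionAlgebra.Basis D a 0 b :=
    { i := i'
      j := jj
      k := i' * jj
      i_mul_i := by rw [hi2, zero_smul, add_zero, Algebra.algebraMap_eq_smul_one]
      j_mul_j := by rw [hb', Algebra.algebraMap_eq_smul_one]
      i_mul_j := rfl
      j_mul_i := by rw [zero_smul, zero_sub, hanti] }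
  have hsurj : Function.Surjective q.liftHom := by
    have hr : LinearMap.range q.liftHom.toLinearMap = ⊤ := by
      rw [eq_top_iff, ← hspan, Submodule.span_le]
      rintro _ ⟨i, rfl⟩
      fin_cases i
      · exact ⟨1, map_one q.liftHom⟩
      · exact ⟨⟨0, 1, 0, 0⟩, by
          simp [QuaternionAlgebra.Basis.liftHom, QuaternionAlgebra.Basis.lift, q]⟩
      · exact ⟨⟨0, 0, 1, 0⟩, by
          simp [QuaternionAlgebra.Basis.liftHom, QuaternionAlgebra.Basis.lift, q]⟩
      · exact ⟨⟨0, 0, 0, 1⟩, by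
          simp [QuaternionAlgebra.Basis.liftHom, QuaternionAlgebra.Basis.lift, q]⟩
    exact LinearMap.range_eq_top.1 hr
  have hfr : finrank k (QuaternionAlgebra k a 0 b) = finrank k D := by
    rw [QuaternionAlgebra.finrank_eq_four, hd]; norm_num
  have hinj : Function.Injective q.liftHom :=
    (LinearMap.injective_iff_surjective_of_finrank_eq_finrank
      (f := q.liftHom.toLinearMap) hfr).2 hsurj
  exact ⟨a, b, ⟨AlgEquiv.ofBijective q.liftHom ⟨hinj, hsurj⟩⟩⟩

end structure_thm

open Groth.Agent.Helper7.BrauerPeriod Groth.Agent.Helper7.BrauerPer Groth.Agent.Helper7.BrauerPrime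
  Groth.Agent.Helper7.BrauerIdx Groth.Agent.Helper7.TPow Groth.Agent.Helper7.BrauerSplit

section main
variable (k : Type u) [Field k]

theorem isUnitOrEqZero {R : Type*} [Ring R] (h : ∀ x : R, x ≠ 0 → IsUnit x) (x : R) :
    IsUnit x ∨ x = 0 := by
  by_cases hx : x = 0
  · exact Or.inr hx
  · exact Or.inl (h x hx)

theorem quat_central (A : Type v) [Ring A] [Algebra k A] [Algebra.IsCentral k A] [IsSimpleRing A]
    [FiniteDimensional k A] (a b : k) (m : ℕ)
    (e : A ≃ₐ[k] Matrix (Fin m) (Fin m) (QuaternionAlgebra k a 0 b)) :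
    m ≠ 0 ∧ Algebra.IsCentral k (QuaternionAlgebra k a 0 b) := by
  have hm : m ≠ 0 := matrix_size_ne_zero e
  haveI : NeZero m := ⟨hm⟩
  haveI : Algebra.IsCentral k (Matrix (Fin m) (Fin m) (QuaternionAlgebra k a 0 b)) :=
    Groth.Agent.S0200.isCentral_of_algEquiv' e.symm
  exact ⟨hm, Groth.Agent.Helper5.CSA.isCentral_of_matrix k _ m⟩

theorem quat_index (A : Type v) [Ring A] [Algebra k A] [Algebra.IsCentral k A] [IsSimpleRing A]
    [FiniteDimensional k A] (a b : k) (m : ℕ)
    (hunit : ∀ x : QuaternionAlgebra k a 0 b, x ≠ 0 → IsUnit x)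
    (e : A ≃ₐ[k] Matrix (Fin m) (Fin m) (QuaternionAlgebra k a 0 b)) :
    CSAGal.IsPeriod k A 2 ∧ CSAGal.IsIndex k A 2 := by
  classical
  obtain ⟨hm, hc⟩ := quat_central k A a b m e
  letI : DivisionRing (QuaternionAlgebra k a 0 b) :=
    DivisionRing.ofIsUnitOrEqZero (isUnitOrEqZero hunit)
  have hfin : finrank k (QuaternionAlgebra k a 0 b) = 2 ^ 2 := by
    rw [QuaternionAlgebra.finrank_eq_four]; norm_num
  obtain ⟨r, hr, D, _, _, _, _, ⟨eA⟩⟩ := wedderburn k A
  obtain ⟨⟨f⟩, -⟩ := matrix_unique k D (QuaternionAlgebra k a 0 b) r m hr.ne hm (eA.symm.trans e)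
  have hfinD : finrank k D = 2 ^ 2 := by rw [f.toLinearEquiv.finrank_eq, hfin]
  refine ⟨⟨two_pos, splits_tpow_index k A D r eA 2 hfinD, fun e' he' hlt hs => ?_⟩,
    ⟨two_pos, r, D, inferInstance, inferInstance, Nat.pos_of_ne_zero hr.ne, hfinD, ⟨eA⟩⟩⟩
  have he1 : e' = 1 := by omega
  subst he1
  have hA : Curves.Splits k A k := splits_of_algEquiv (tpowOne k A) hs
  have := index_dvd_of_splits k A D r eA hr.ne 2 hfinD k hA
  rw [Module.finrank_self] at this
  omega

theorem quat_unique (A : Type v) [Ring A] [Algebra k A] [Algebra.IsCentral k A] [IsSimpleRing A]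
    [FiniteDimensional k A] (a b a' b' : k) (m m' : ℕ)
    (hunit : ∀ x : QuaternionAlgebra k a 0 b, x ≠ 0 → IsUnit x)
    (hunit' : ∀ x : QuaternionAlgebra k a' 0 b', x ≠ 0 → IsUnit x)
    (e : A ≃ₐ[k] Matrix (Fin m) (Fin m) (QuaternionAlgebra k a 0 b))
    (e' : A ≃ₐ[k] Matrix (Fin m') (Fin m') (QuaternionAlgebra k a' 0 b')) :
    Nonempty (QuaternionAlgebra k a 0 b ≃ₐ[k] QuaternionAlgebra k a' 0 b') := by
  classical
  obtain ⟨hm, hc⟩ := quat_central k A a b m e
  obtain ⟨hm', hc'⟩ := quat_central k A a' b' m' e'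
  letI : DivisionRing (QuaternionAlgebra k a 0 b) :=
    DivisionRing.ofIsUnitOrEqZero (isUnitOrEqZero hunit)
  letI : DivisionRing (QuaternionAlgebra k a' 0 b') :=
    DivisionRing.ofIsUnitOrEqZero (isUnitOrEqZero hunit')
  exact (matrix_unique k (QuaternionAlgebra k a 0 b) (QuaternionAlgebra k a' 0 b') m m' hm hm'
    (e.symm.trans e')).1

theorem result14211 (h2 : (2 : k) ≠ 0)
    (A : Type v) [Ring A] [Algebra k A] [Algebra.IsCentral k A] [IsSimpleRing A]
    [FiniteDimensional k A] :
    ((CSAGal.IsPeriod k A 2 ∧ CSAGal.IsIndex k A 2) ↔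
      ∃ (a b : k) (m : ℕ), 0 < m ∧ (∀ x : QuaternionAlgebra k a 0 b, x ≠ 0 → IsUnit x) ∧
        Nonempty (A ≃ₐ[k] Matrix (Fin m) (Fin m) (QuaternionAlgebra k a 0 b))) ∧
    (∀ (a b a' b' : k) (m m' : ℕ),
      (∀ x : QuaternionAlgebra k a 0 b, x ≠ 0 → IsUnit x) →
      (∀ x : QuaternionAlgebra k a' 0 b', x ≠ 0 → IsUnit x) →
      Nonempty (A ≃ₐ[k] Matrix (Fin m) (Fin m) (QuaternionAlgebra k a 0 b)) →
      Nonempty (A ≃ₐ[k] Matrix (Fin m') (Fin m') (QuaternionAlgebra k a' 0 b')) →
      Nonempty (QuaternionAlgebra k a 0 b ≃ₐ[k] QuaternionAlgebra k a' 0 b')) := by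
  classical
  refine ⟨⟨?_, ?_⟩, ?_⟩
  · rintro ⟨-, hind⟩
    obtain ⟨m, D, _, _, _, _, hm, hfin, ⟨e⟩⟩ := isIndex_unpack k A 2 hind
    obtain ⟨a, b, ⟨f⟩⟩ := exists_quaternion_equiv k D h2 hfin
    refine ⟨a, b, m, Nat.pos_of_ne_zero hm, fun x hx => ?_, ⟨e.trans (f.symm.mapMatrix (m := Fin m))⟩⟩
    have h1 : f x ≠ 0 := fun h => hx (f.injective (by rw [h, map_zero]))
    have h3 : IsUnit (f x) := isUnit_iff_ne_zero.2 h1
    have h4 := h3.map (f.symm : D →* QuaternionAlgebra k a 0 b)
    simpa using h4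
  · rintro ⟨a, b, m, -, hunit, ⟨e⟩⟩
    exact quat_index k A a b m hunit e
  · rintro a b a' b' m m' hunit hunit' ⟨e⟩ ⟨e'⟩
    exact quat_unique k A a b a' b' m m' hunit hunit' e e'

end main

end Groth.Agent.Helper7.Quat
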