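import Mathlib
import Groth.Prelude
import Groth.Agent.Helper7.QuietB

set_option autoImplicit false
set_option linter.style.haveILetI false
set_option linter.unusedSectionVars false

namespace Groth.Agent.Helper7.QuietRT

open AlgebraicGeometry CategoryTheory Groth.Agent.Helper7.FrobSm

universe u

section alg

variable (p : ℕ) [hp : Fact p.Prime] (k : Type u) [Field k] [CharP k p] [PerfectRing k p]
  (S : Type u) [CommRing S] [Algebra k S] [CharP S p] [Algebra.Smooth k S]

include k in
theorem frobenius_faithfullyFlat : (frobenius S p).FaithfullyFlat := by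
  rw [RingHom.FaithfullyFlat.iff_flat_and_comap_surjective]
  constructor
  · have h1 : frobenius S p = (FrobAlg.relFrob p k S).comp (twI p k S) := by
      ext b
      exact (twF_twI p k S b).symm
    rw [h1]
    exact RingHom.Flat.comp (RingHom.Flat.of_bijective (twI_bijective p k S)) (relFrob_flat p k S)
  · intro P
    refine ⟨P, ?_⟩
    ext a
    show a ^ p ∈ P.asIdeal ↔ a ∈ P.asIdeal
    exact P.isPrime.pow_mem_iff_mem p hp.out.pos

end alg

end Groth.Agent.Helper7.QuietRT
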