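import Mathlib
import Groth.Prelude
import Groth.Agent.Helper7.QuietB

set_option autoImplicit false
set_option linter.style.haveILetI false
set_option linter.unusedSectionVars false

namespace Groth.Agent.Helper7.QuietRT

open AlgebraicGeometry CategoryTheory Groth.Agent.Helper7.FrobSm

universe u

section sch

variable {X : Scheme.{u}}

/-- restriction of global sections as an algebra structure. -/
@[reducible] noncomputable def restrAlg (V : X.Opens) : Algebra Γ(X, ⊤) Γ(X, V) :=
  (X.presheaf.map (homOfLE (le_top : V ≤ ⊤)).op).hom.toAlgebra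

theorem isLocalization_of_eq_basicOpen [IsAffine X] (r : Γ(X, ⊤)) (V : X.Opens)
    (hV : V = X.basicOpen r) :
    @IsLocalization.Away _ _ r Γ(X, V) _ (restrAlg V) := by
  subst hV
  exact (isAffineOpen_top X).isLocalization_basicOpen r

end sch

section main

variable (p : ℕ) [hp : Fact p.Prime] (k : Type u) [Field k] [CharP k p] [PerfectRing k p]
  (A : Type u) [CommRing A] [Algebra k A] [CharP A p] [Algebra.Smooth k A]

include k in
theorem isPthRoot_frobenius :
    Quiet.IsPthRoot p (Spec.map (CommRingCat.ofHom (frobenius A p))) := by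
  intro x
  obtain ⟨g, hg, n, H⟩ := core p k A x.asIdeal
  let iso := Scheme.ΓSpecIso (CommRingCat.of A)
  let h : A ≃+* Γ(Spec (CommRingCat.of A), ⊤) := iso.symm.commRingCatIsoToRingEquiv
  have hnat : ∀ a : A, (Spec.map (CommRingCat.ofHom (frobenius A p))).appTop (h a) = h (a ^ p) := by
    intro a
    have := congrArg (fun m => m.hom a)
      (Scheme.ΓSpecIso_inv_naturality (CommRingCat.ofHom (frobenius A p)))
    exact this.symm
  have hU0 : IsAffineOpen ((Spec (CommRingCat.of A)).basicOpen (h g)) :=
    (isAffineOpen_top _).basicOpen (h g)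
  have hxU : x ∈ (Spec (CommRingCat.of A)).basicOpen (h g) := by
    have : (Spec (CommRingCat.of A)).basicOpen (h g) = PrimeSpectrum.basicOpen g :=
      basicOpen_eq_of_affine (R := CommRingCat.of A) g
    rw [this]
    exact hg
  refine ⟨⟨(Spec (CommRingCat.of A)).basicOpen (h g), hU0⟩, hxU,
    hU0.preimage (Spec.map (CommRingCat.ofHom (frobenius A p))), ?_⟩
  refine ⟨n, ?_⟩
  -- the preimage is the same basic open
  have hV : (Spec.map (CommRingCat.ofHom (frobenius A p))) ⁻¹ᵁ (Spec (CommRingCat.of A)).basicOpen (h g) = (Spec (CommRingCat.of A)).basicOpen (h g) := by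
    rw [Scheme.preimage_basicOpen_top, hnat, map_pow, Scheme.basicOpen_pow _ _ hp.out.pos]
  -- localizations
  haveI locR : IsLocalization.Away (h g) Γ((Spec (CommRingCat.of A)), (Spec (CommRingCat.of A)).basicOpen (h g)) :=
    (isAffineOpen_top (Spec (CommRingCat.of A))).isLocalization_basicOpen (h g)
  letI algV : Algebra Γ((Spec (CommRingCat.of A)), ⊤) Γ((Spec (CommRingCat.of A)), (Spec.map (CommRingCat.ofHom (frobenius A p))) ⁻¹ᵁ (Spec (CommRingCat.of A)).basicOpen (h g)) := restrAlg _
  haveI locS : IsLocalization.Away (h g) Γ((Spec (CommRingCat.of A)), (Spec.map (CommRingCat.ofHom (frobenius A p))) ⁻¹ᵁ (Spec (CommRingCat.of A)).basicOpen (h g)) :=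
    isLocalization_of_eq_basicOpen (h g) _ hV
  have HM : (Submonoid.powers g).map h.toMonoidHom = Submonoid.powers (h g) := by
    rw [Submonoid.map_powers]; rfl
  let eR : Loc A g ≃+* Γ((Spec (CommRingCat.of A)), (Spec (CommRingCat.of A)).basicOpen (h g)) :=
    IsLocalization.ringEquivOfRingEquiv (Loc A g) Γ((Spec (CommRingCat.of A)), (Spec (CommRingCat.of A)).basicOpen (h g)) h HM
  let eS : Loc A g ≃+* Γ((Spec (CommRingCat.of A)), (Spec.map (CommRingCat.ofHom (frobenius A p))) ⁻¹ᵁ (Spec (CommRingCat.of A)).basicOpen (h g)) :=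
    IsLocalization.ringEquivOfRingEquiv (Loc A g) Γ((Spec (CommRingCat.of A)), (Spec.map (CommRingCat.ofHom (frobenius A p))) ⁻¹ᵁ (Spec (CommRingCat.of A)).basicOpen (h g)) h HM
  refine H _ _ eR eS ((Spec.map (CommRingCat.ofHom (frobenius A p))).app ((Spec (CommRingCat.of A)).basicOpen (h g))).hom ?_
  -- compatibility
  haveI : Nontrivial (Loc A g) := nontrivial_away A x.asIdeal g hg
  haveI : CharP (Loc A g) p := charP_of_nontrivial p A _
  have hcomp : (((Spec.map (CommRingCat.ofHom (frobenius A p))).app ((Spec (CommRingCat.of A)).basicOpen (h g))).hom.comp (eR : Loc A g →+* _)) =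
      (eS : Loc A g →+* _).comp (frobenius (Loc A g) p) := by
    apply IsLocalization.ringHom_ext (Submonoid.powers g)
    ext a
    simp only [RingHom.comp_apply, RingEquiv.coe_toRingHom]
    rw [frobenius_def, ← map_pow]
    show ((Spec.map (CommRingCat.ofHom (frobenius A p))).app ((Spec (CommRingCat.of A)).basicOpen (h g))).hom (eR (algebraMap A (Loc A g) a)) =
      eS (algebraMap A (Loc A g) (a ^ p))
    rw [IsLocalization.ringEquivOfRingEquiv_eq, IsLocalization.ringEquivOfRingEquiv_eq, ← hnat]
    have hn := (Spec.map (CommRingCat.ofHom (frobenius A p))).naturality (homOfLE (le_top : (Spec (CommRingCat.of A)).basicOpen (h g) ≤ ⊤)).op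
    have := congrArg (fun m => m.hom (h a)) hn
    exact this
  intro c
  have := congrArg (fun m => m c) hcomp
  simpa [frobenius_def] using this

end main

end Groth.Agent.Helper7.QuietRT
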