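import Mathlib
import Groth.Prelude
import Groth.Agent.Helper7.QuietC
import Groth.Agent.Helper2.RegPow

set_option autoImplicit false
set_option linter.style.haveILetI false
set_option linter.unusedSectionVars false

namespace Groth.Agent.Helper7.QuietRT

open TensorProduct RingTheory.Sequence MvPolynomial

universe u

/-- the base change of a faithfully flat ring map to a quotient is faithfully flat. -/
theorem faithfullyFlat_quotientMap {R S : Type*} [CommRing R] [CommRing S] (f : R →+* S)
    (hf : f.FaithfullyFlat) (I : Ideal R) :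
    (Ideal.quotientMap (I.map f) f Ideal.le_comap_map).FaithfullyFlat := by
  letI := f.toAlgebra
  haveI : Module.FaithfullyFlat R S := hf
  let e := Algebra.TensorProduct.quotIdealMapEquivQuotTensor S I
  have h2 : Module.FaithfullyFlat (R ⧸ I) (S ⧸ I.map (algebraMap R S)) :=
    Module.FaithfullyFlat.of_linearEquiv _ _ e.toLinearEquiv
  have h3 : algebraMap (R ⧸ I) (S ⧸ I.map (algebraMap R S)) =
      Ideal.quotientMap (I.map f) f Ideal.le_comap_map := by
    ext x
    rfl
  have h4 : (algebraMap (R ⧸ I) (S ⧸ I.map (algebraMap R S))).FaithfullyFlat :=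
    RingHom.faithfullyFlat_algebraMap_iff.mpr h2
  rw [h3] at h4
  exact h4

section reg

variable {A : Type u} [CommRing A] (p : ℕ) (hp : 1 ≤ p) {n r m : ℕ} (t : Fin n → A)
  (v : Fin m → MvPolynomial (Fin r) A)

theorem ofList_ofFn {R : Type*} [CommRing R] {n : ℕ} (f : Fin n → R) :
    Ideal.ofList (List.ofFn f) = Ideal.span (Set.range f) := by
  unfold Ideal.ofList
  congr 1
  ext x
  simp [List.mem_ofFn]

include hp in
theorem weaklyRegular_pows (ht : IsWeaklyRegular A (List.ofFn t))
    (hv : IsWeaklyRegular (MvPolynomial (Fin r) A ⧸ Ideal.span (Set.range fun i => C (t i) ^ p))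
      (List.ofFn fun j => Ideal.Quotient.mk (Ideal.span (Set.range fun i => C (t i) ^ p)) (v j))) :
    IsWeaklyRegular (MvPolynomial (Fin r) A)
      (List.ofFn (fun i => (C (t i) : MvPolynomial (Fin r) A) ^ (p ^ 2)) ++
        List.ofFn (fun j => v j ^ p)) := by
  -- step 1: `C t_i` weakly regular
  have h1 : IsWeaklyRegular (MvPolynomial (Fin r) A)
      (List.ofFn fun i => (C (t i) : MvPolynomial (Fin r) A)) := by
    have := ht.of_flat (S := MvPolynomial (Fin r) A)
    rwa [List.map_ofFn] at this
  -- step 2: `C t_i ^ p`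
  have h2 : IsWeaklyRegular (MvPolynomial (Fin r) A)
      (List.ofFn fun i => (C (t i) : MvPolynomial (Fin r) A) ^ p) :=
    Groth.Agent.Helper2.RegPow.main n _ _ (fun _ => p) (fun _ => hp) h1
  -- step 3: append `v`
  have h3 : IsWeaklyRegular (MvPolynomial (Fin r) A)
      (List.ofFn (fun i => (C (t i) : MvPolynomial (Fin r) A) ^ p) ++ List.ofFn v) := by
    rw [isWeaklyRegular_append_iff]
    refine ⟨h2, ?_⟩
    have hv' : IsWeaklyRegular
        (MvPolynomial (Fin r) A ⧸ Ideal.span (Set.range fun i => C (t i) ^ p)) (List.ofFn v) := by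
      rw [← isWeaklyRegular_map_algebraMap_iff
        (MvPolynomial (Fin r) A ⧸ Ideal.span (Set.range fun i => C (t i) ^ p)), List.map_ofFn]
      exact hv
    have heq : (Ideal.span (Set.range fun i => (C (t i) : MvPolynomial (Fin r) A) ^ p) :
        Submodule (MvPolynomial (Fin r) A) (MvPolynomial (Fin r) A)) =
        (Ideal.ofList (List.ofFn fun i => (C (t i) : MvPolynomial (Fin r) A) ^ p) • ⊤ :
          Submodule (MvPolynomial (Fin r) A) (MvPolynomial (Fin r) A)) := by
      rw [ofList_ofFn, Ideal.smul_top_eq_map]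
      simp
    exact ((Submodule.quotEquivOfEq _ _ heq).isWeaklyRegular_congr _).mp hv'
  -- step 4: powers
  have h4 := Groth.Agent.Helper2.RegPow.main (n + m) (MvPolynomial (Fin r) A)
    (Fin.append (fun i => (C (t i) : MvPolynomial (Fin r) A) ^ p) v) (fun _ => p) (fun _ => hp)
    (by rw [List.ofFn_fin_append]; exact h3)
  have h5 : (fun i => Fin.append (fun i => (C (t i) : MvPolynomial (Fin r) A) ^ p) v i ^ p) =
      Fin.append (fun i => (C (t i) : MvPolynomial (Fin r) A) ^ (p ^ 2)) (fun j => v j ^ p) := by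
    funext i
    refine Fin.addCases (fun i => ?_) (fun j => ?_) i
    · rw [Fin.append_left, Fin.append_left, ← pow_mul, sq]
    · rw [Fin.append_right, Fin.append_right]
  rw [h5, List.ofFn_fin_append] at h4
  exact h4

include hp in
theorem regular_pows (ht : IsRegular A (List.ofFn t))
    (hv : IsRegular (MvPolynomial (Fin r) A ⧸ Ideal.span (Set.range fun i => C (t i) ^ p))
      (List.ofFn fun j => Ideal.Quotient.mk (Ideal.span (Set.range fun i => C (t i) ^ p)) (v j))) :
    IsRegular (MvPolynomial (Fin r) A)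
      (List.ofFn (fun i => (C (t i) : MvPolynomial (Fin r) A) ^ (p ^ 2)) ++
        List.ofFn (fun j => v j ^ p)) := by
  refine ⟨weaklyRegular_pows p hp t v ht.toIsWeaklyRegular hv.toIsWeaklyRegular, ?_⟩
  intro htop
  apply hv.top_ne_smul
  rw [smul_eq_mul, Ideal.mul_top] at htop ⊢
  rw [Ideal.ofList_append, ofList_ofFn, ofList_ofFn] at htop
  rw [ofList_ofFn]
  symm
  rw [eq_top_iff]
  have h1 := congrArg (Ideal.map (Ideal.Quotient.mk
    (Ideal.span (Set.range fun i => (C (t i) : MvPolynomial (Fin r) A) ^ p)))) htop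
  rw [Ideal.map_top] at h1
  rw [h1, Ideal.map_sup, Ideal.map_span, Ideal.map_span]
  refine sup_le ?_ ?_
  · rw [Ideal.span_le]
    rintro _ ⟨_, ⟨i, rfl⟩, rfl⟩
    have : Ideal.Quotient.mk (Ideal.span (Set.range fun i => (C (t i) : MvPolynomial (Fin r) A) ^ p))
        ((C (t i) : MvPolynomial (Fin r) A) ^ (p ^ 2)) = 0 := by
      rw [Ideal.Quotient.eq_zero_iff_mem, sq, pow_mul]
      exact Ideal.pow_mem_of_mem _ (Ideal.subset_span (Set.mem_range_self i)) p (by omega)
    rw [this]
    exact Ideal.zero_mem _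
  · rw [Ideal.span_le]
    rintro _ ⟨_, ⟨j, rfl⟩, rfl⟩
    rw [map_pow]
    exact Ideal.pow_mem_of_mem _ (Ideal.subset_span (Set.mem_range_self j)) p (by omega)

end reg

end Groth.Agent.Helper7.QuietRT
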