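import Mathlib
import Groth.Prelude
import Groth.Agent.Helper7.QuietC

set_option autoImplicit false
set_option linter.style.haveILetI false
set_option linter.unusedSectionVars false

namespace Groth.Agent.Helper7.QuietRT

open TensorProduct Groth.Agent.Helper7.FrobSm

universe u

section quot

variable (p : ℕ) [hp : Fact p.Prime] {n : ℕ} {C R₁ S₁ : Type u} [CommRing C] [CharP C p]
  [CommRing R₁] [CommRing S₁] (t : Fin n → C)

/-- the semilinear monomial map. -/
noncomputable def Theta (c : (Fin n → Fin p) → C) : C :=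
  ∑ e, c e ^ p * ∏ i, t i ^ (e i : ℕ)

theorem Theta_add (c d : (Fin n → Fin p) → C) : Theta p t (c + d) = Theta p t c + Theta p t d := by
  unfold Theta
  rw [← Finset.sum_add_distrib]
  refine Finset.sum_congr rfl fun e _ => ?_
  rw [Pi.add_apply, add_pow_char, add_mul]

theorem Theta_smul (z : C) (c : (Fin n → Fin p) → C) :
    Theta p t (fun e => z * c e) = z ^ p * Theta p t c := by
  unfold Theta
  rw [Finset.mul_sum]
  refine Finset.sum_congr rfl fun e _ => ?_
  rw [mul_pow, mul_assoc]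

theorem Theta_zero : Theta p t (0 : (Fin n → Fin p) → C) = 0 := by
  unfold Theta
  refine Finset.sum_eq_zero fun e _ => ?_
  rw [Pi.zero_apply, zero_pow hp.out.ne_zero, zero_mul]

variable (h : Function.Bijective (Theta p t))

include h in
theorem exists_of_mem_map (K : Ideal C) (x : C) (hx : x ∈ K.map (frobenius C p)) :
    ∃ c : (Fin n → Fin p) → C, (∀ e, c e ∈ K) ∧ Theta p t c = x := by
  have key : ∀ x ∈ K.map (frobenius C p), ∀ a : C,
      ∃ c : (Fin n → Fin p) → C, (∀ e, c e ∈ K) ∧ Theta p t c = a * x := by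
    intro x hx
    refine Submodule.span_induction (p := fun x _ => ∀ a : C,
      ∃ c : (Fin n → Fin p) → C, (∀ e, c e ∈ K) ∧ Theta p t c = a * x) ?_ ?_ ?_ ?_ hx
    · rintro _ ⟨z, hz, rfl⟩ a
      obtain ⟨c, hc⟩ := h.2 a
      refine ⟨fun e => z * c e, fun e => K.mul_mem_right _ hz, ?_⟩
      rw [Theta_smul, hc, frobenius_def, mul_comm]
    · intro a
      exact ⟨0, fun e => K.zero_mem, by rw [Theta_zero, mul_zero]⟩
    · intro x y _ _ hx hy a
      obtain ⟨c, hc, hc'⟩ := hx a
      obtain ⟨d, hd, hd'⟩ := hy a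
      exact ⟨c + d, fun e => K.add_mem (hc e) (hd e), by rw [Theta_add, hc', hd', mul_add]⟩
    · intro b x _ hx a
      obtain ⟨c, hc, hc'⟩ := hx (a * b)
      exact ⟨c, hc, by rw [hc', smul_eq_mul, mul_assoc]⟩
  obtain ⟨c, hc, hc'⟩ := key x hx 1
  exact ⟨c, hc, by rw [hc', one_mul]⟩

variable (c₁ : C →+* R₁) (c₂ : C →+* S₁) (ψ : R₁ →+* S₁)
  (hc₁ : Function.Surjective c₁) (hc₂ : Function.Surjective c₂)
  (hψ : ∀ y, ψ (c₁ y) = c₂ (y ^ p))
  (hker : RingHom.ker c₂ = (RingHom.ker c₁).map (frobenius C p))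

include h hc₁ hc₂ hψ hker in
/-- a monomial basis for the Frobenius passes to quotients. -/
theorem monoBij_quot :
    letI := ψ.toAlgebra
    MonoBij p n R₁ S₁ (fun i => c₂ (t i)) := by
  letI := ψ.toAlgebra
  have hΦ : ∀ y : (Fin n → Fin p) → C,
      (∑ e, algebraMap R₁ S₁ (c₁ (y e)) * ∏ i, (c₂ (t i)) ^ (e i : ℕ)) = c₂ (Theta p t y) := by
    intro y
    unfold Theta
    rw [map_sum]
    refine Finset.sum_congr rfl fun e _ => ?_
    rw [map_mul, map_prod]
    congr 1
    · exact hψ (y e)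
    · refine Finset.prod_congr rfl fun i _ => ?_
      rw [map_pow]
  unfold MonoBij
  constructor
  · intro r r' hrr'
    choose y hy using fun e => hc₁ (r e)
    choose y' hy' using fun e => hc₁ (r' e)
    have e1 : r = fun e => c₁ (y e) := funext fun e => (hy e).symm
    have e2 : r' = fun e => c₁ (y' e) := funext fun e => (hy' e).symm
    rw [e1, e2] at hrr'
    simp only at hrr'
    rw [hΦ, hΦ] at hrr'
    have hmem : Theta p t y - Theta p t y' ∈ (RingHom.ker c₁).map (frobenius C p) := by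
      rw [← hker, RingHom.mem_ker, map_sub, hrr', sub_self]
    obtain ⟨w, hw, hw'⟩ := exists_of_mem_map p t h _ _ hmem
    have h3 : Theta p t y = Theta p t (y' + w) := by
      rw [Theta_add, hw']; ring
    have h4 := h.1 h3
    rw [e1, e2]
    funext e
    show c₁ (y e) = c₁ (y' e)
    rw [h4, Pi.add_apply, map_add]
    have : c₁ (w e) = 0 := hw e
    rw [this, add_zero]
  · intro s
    obtain ⟨x, rfl⟩ := hc₂ s
    obtain ⟨y, rfl⟩ := h.2 x
    exact ⟨fun e => c₁ (y e), hΦ y⟩

end quot

section locquot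

variable {P : Type u} [CommRing P] (J : Ideal P) (g : P) (C : Type u) [CommRing C] [Algebra P C]
  [IsLocalization.Away g C] (R₁ : Type u) [CommRing R₁] [Algebra (P ⧸ J) R₁]
  [IsLocalization.Away (Ideal.Quotient.mk J g) R₁]

include g in
/-- a localization of a quotient is a quotient of the localization. -/
theorem exists_surjective_of_away :
    ∃ c₁ : C →+* R₁, Function.Surjective c₁ ∧
      (∀ x : P, c₁ (algebraMap P C x) = algebraMap (P ⧸ J) R₁ (Ideal.Quotient.mk J x)) ∧
      RingHom.ker c₁ = J.map (algebraMap P C) := by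
  have hM : Algebra.algebraMapSubmonoid (P ⧸ J) (Submonoid.powers g) =
      Submonoid.powers (Ideal.Quotient.mk J g) := by
    unfold Algebra.algebraMapSubmonoid
    rw [Submonoid.map_powers]
    rfl
  haveI : IsLocalization (Submonoid.powers (Ideal.Quotient.mk J g))
      (C ⧸ J.map (algebraMap P C)) := by
    rw [← hM]
    infer_instance
  let e : (C ⧸ J.map (algebraMap P C)) ≃ₐ[P ⧸ J] R₁ :=
    IsLocalization.algEquiv (Submonoid.powers (Ideal.Quotient.mk J g)) _ _
  refine ⟨(e : (C ⧸ J.map (algebraMap P C)) →+* R₁).comp (Ideal.Quotient.mk _), ?_, ?_, ?_⟩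
  · exact e.surjective.comp Ideal.Quotient.mk_surjective
  · intro x
    show e (Ideal.Quotient.mk _ (algebraMap P C x)) = _
    have : Ideal.Quotient.mk (J.map (algebraMap P C)) (algebraMap P C x) =
        algebraMap (P ⧸ J) (C ⧸ J.map (algebraMap P C)) (Ideal.Quotient.mk J x) := rfl
    rw [this, e.commutes]
  · ext y
    rw [RingHom.mem_ker, RingHom.comp_apply]
    show e (Ideal.Quotient.mk _ y) = 0 ↔ _
    rw [map_eq_zero_iff e e.injective, Ideal.Quotient.eq_zero_iff_mem]

include J g in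
theorem nontrivial_of_away (Q : Ideal (P ⧸ J)) [Q.IsPrime] (hg : Ideal.Quotient.mk J g ∉ Q) :
    Nontrivial R₁ := by
  by_contra hnt
  rw [not_nontrivial_iff_subsingleton] at hnt
  have h01 : algebraMap (P ⧸ J) R₁ 1 = algebraMap (P ⧸ J) R₁ 0 := Subsingleton.elim _ _
  obtain ⟨⟨_, m, rfl⟩, hm⟩ :=
    (IsLocalization.eq_iff_exists (Submonoid.powers (Ideal.Quotient.mk J g)) R₁).mp h01
  simp only [mul_one, mul_zero] at hm
  have : (Ideal.Quotient.mk J g) ^ m ∈ Q := by rw [hm]; exact Q.zero_mem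
  exact hg (Ideal.IsPrime.mem_of_pow_mem inferInstance m this)

end locquot

section core2

variable (p : ℕ) [hp : Fact p.Prime] (k : Type u) [Field k] [CharP k p] [PerfectRing k p]
  (S : Type u) [CommRing S] [Algebra k S] [CharP S p] [Algebra.Smooth k S] (J : Ideal S)

include k in
/-- algebraic core for quotients: near every prime of `S ⧸ J`, the map induced by the Frobenius
on the localizations of `S ⧸ J` and `S ⧸ J^{[p]}` is a root tower. -/
theorem core_quot (Q : Ideal (S ⧸ J)) [Q.IsPrime] :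
    ∃ g : S, Ideal.Quotient.mk J g ∉ Q ∧ ∃ n : ℕ,
      ∀ (R₁ S₁ : Type u) [CommRing R₁] [CommRing S₁] [Algebra (S ⧸ J) R₁]
        [Algebra (S ⧸ J.map (frobenius S p)) S₁]
        [IsLocalization.Away (Ideal.Quotient.mk J g) R₁]
        [IsLocalization.Away (Ideal.Quotient.mk (J.map (frobenius S p)) g) S₁] (ψ : R₁ →+* S₁),
        (∀ x, ψ (algebraMap (S ⧸ J) R₁ x) = algebraMap (S ⧸ J.map (frobenius S p)) S₁
          (Ideal.quotientMap (J.map (frobenius S p)) (frobenius S p) Ideal.le_comap_map x)) →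
        letI := ψ.toAlgebra
        Quiet.IsRootTower p n R₁ S₁ := by
  let q : Ideal S := Q.comap (Ideal.Quotient.mk J)
  haveI : q.IsPrime := Ideal.comap_isPrime _ _
  obtain ⟨g, hg, n, alg, tower, het⟩ := exists_chart k S q
  refine ⟨g, hg, n, ?_⟩
  intro R₁ S₁ _ _ _ _ _ _ ψ hψ
  haveI : Nontrivial (Loc S g) := nontrivial_away S q g hg
  haveI : CharP (Loc S g) p := charP_of_nontrivial p S _
  haveI : Nontrivial R₁ := nontrivial_of_away J g R₁ Q hg
  letI := ψ.toAlgebra
  have hb := frob_bijective p k (Loc S g) n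
  obtain ⟨c₁, hc₁s, hc₁c, hc₁k⟩ := exists_surjective_of_away J g (Loc S g) R₁
  obtain ⟨c₂, hc₂s, hc₂c, hc₂k⟩ :=
    exists_surjective_of_away (J.map (frobenius S p)) g (Loc S g) S₁
  have hψ' : ∀ y, ψ (c₁ y) = c₂ (y ^ p) := by
    have : ψ.comp c₁ = c₂.comp (frobenius (Loc S g) p) := by
      apply IsLocalization.ringHom_ext (Submonoid.powers g)
      ext x
      simp only [RingHom.comp_apply]
      rw [hc₁c, hψ, frobenius_def, ← map_pow, hc₂c]
      rfl
    intro y
    exact RingHom.congr_fun this y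
  have hker : RingHom.ker c₂ = (RingHom.ker c₁).map (frobenius (Loc S g) p) := by
    rw [hc₂k, hc₁k, Ideal.map_map, Ideal.map_map]
    congr 1
    ext x
    simp [frobenius_def]
  have hm := monoBij_quot p (coord k (Loc S g) n) hb c₁ c₂ ψ hc₁s hc₂s hψ' hker
  refine isRootTower_of_monoBij p hp.out.ne_zero n R₁ S₁ (fun i => c₂ (coord k (Loc S g) n i))
    (fun i => c₁ (coord k (Loc S g) n i)) ?_ hm
  intro i
  show ψ (c₁ _) = _
  rw [hψ', map_pow]

end core2

end Groth.Agent.Helper7.QuietRT
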