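import Mathlib
import Groth.Prelude
import Groth.Agent.Helper7.QuietD
import Groth.Agent.Helper7.QuietE
import Groth.Agent.Helper7.QuietF

set_option autoImplicit false
set_option linter.style.haveILetI false
set_option linter.unusedSectionVars false

namespace Groth.Agent.Helper7.QuietRT

open AlgebraicGeometry CategoryTheory Groth.Agent.Helper7.FrobSm

universe u

theorem isLocalization_away_of_ringEquiv {R R' T : Type*} [CommRing R] [CommRing R'] [CommRing T]
    [Algebra R' T] (h : R ≃+* R') (g : R) [IsLocalization.Away (h g) T] :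
    @IsLocalization.Away R _ g T _ ((algebraMap R' T).comp (h : R →+* R')).toAlgebra := by
  letI : Algebra R T := ((algebraMap R' T).comp (h : R →+* R')).toAlgebra
  have halg : ∀ x : R, algebraMap R T x = algebraMap R' T (h x) := fun x => rfl
  constructor; constructor
  · rintro ⟨_, m, rfl⟩
    rw [halg, map_pow]
    exact IsLocalization.map_units T (⟨h g ^ m, m, rfl⟩ : Submonoid.powers (h g))
  · intro z
    obtain ⟨⟨x', ⟨_, m, rfl⟩⟩, e⟩ := IsLocalization.surj (Submonoid.powers (h g)) z
    refine ⟨(h.symm x', ⟨g ^ m, m, rfl⟩), ?_⟩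
    simp only at e ⊢
    rw [halg, halg, map_pow, RingEquiv.apply_symm_apply]
    exact e
  · intro x y hxy
    rw [halg, halg] at hxy
    obtain ⟨⟨_, m, rfl⟩, hc⟩ := IsLocalization.exists_of_eq (M := Submonoid.powers (h g)) hxy
    refine ⟨⟨g ^ m, m, rfl⟩, ?_⟩
    apply h.injective
    simp only at hc ⊢
    rw [map_mul, map_mul, map_pow]
    exact hc

section sch

variable {R S : Type u} [CommRing R] [CommRing S] (p : ℕ) (hp : 0 < p) (φ : R →+* S)

include hp in
/-- a ring map which is a root tower on suitable principal localizations near every prime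
induces an extraction of `p`-th roots on spectra. -/
theorem isPthRoot_of_local
    (H : ∀ Q : Ideal R, Q.IsPrime → ∃ (g : R) (g' : S), g ∉ Q ∧ φ g = g' ^ p ∧ ∃ n : ℕ,
      ∀ (R₁ S₁ : Type u) [CommRing R₁] [CommRing S₁] [Algebra R R₁] [Algebra S S₁]
        [IsLocalization.Away g R₁] [IsLocalization.Away g' S₁] (ψ : R₁ →+* S₁),
        (∀ x, ψ (algebraMap R R₁ x) = algebraMap S S₁ (φ x)) →
        letI := ψ.toAlgebra
        Quiet.IsRootTower p n R₁ S₁) :
    Quiet.IsPthRoot p (Spec.map (CommRingCat.ofHom φ)) := by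
  intro x
  obtain ⟨g, g', hg, hgg', n, Hn⟩ := H x.asIdeal x.isPrime
  let hR : R ≃+* Γ(Spec (CommRingCat.of R), ⊤) :=
    (Scheme.ΓSpecIso (CommRingCat.of R)).symm.commRingCatIsoToRingEquiv
  let hS : S ≃+* Γ(Spec (CommRingCat.of S), ⊤) :=
    (Scheme.ΓSpecIso (CommRingCat.of S)).symm.commRingCatIsoToRingEquiv
  have hnat : ∀ a : R, (Spec.map (CommRingCat.ofHom φ)).appTop (hR a) = hS (φ a) := by
    intro a
    have := congrArg (fun m => m.hom a)
      (Scheme.ΓSpecIso_inv_naturality (CommRingCat.ofHom φ))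
    exact this.symm
  have hU0 : IsAffineOpen ((Spec (CommRingCat.of R)).basicOpen (hR g)) :=
    (isAffineOpen_top _).basicOpen (hR g)
  have hxU : x ∈ (Spec (CommRingCat.of R)).basicOpen (hR g) := by
    have : (Spec (CommRingCat.of R)).basicOpen (hR g) = PrimeSpectrum.basicOpen g :=
      basicOpen_eq_of_affine (R := CommRingCat.of R) g
    rw [this]
    exact hg
  refine ⟨⟨(Spec (CommRingCat.of R)).basicOpen (hR g), hU0⟩, hxU,
    hU0.preimage (Spec.map (CommRingCat.ofHom φ)), n, ?_⟩
  have hV : (Spec.map (CommRingCat.ofHom φ)) ⁻¹ᵁ (Spec (CommRingCat.of R)).basicOpen (hR g) =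
      (Spec (CommRingCat.of S)).basicOpen (hS g') := by
    rw [Scheme.preimage_basicOpen_top, hnat, hgg', map_pow, Scheme.basicOpen_pow _ _ hp]
  -- localizations
  letI algR0 : Algebra Γ(Spec (CommRingCat.of R), ⊤)
      Γ(Spec (CommRingCat.of R), (Spec (CommRingCat.of R)).basicOpen (hR g)) := restrAlg _
  haveI locR0 : IsLocalization.Away (hR g)
      Γ(Spec (CommRingCat.of R), (Spec (CommRingCat.of R)).basicOpen (hR g)) :=
    (isAffineOpen_top (Spec (CommRingCat.of R))).isLocalization_basicOpen (hR g)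
  letI algS0 : Algebra Γ(Spec (CommRingCat.of S), ⊤)
      Γ(Spec (CommRingCat.of S), (Spec.map (CommRingCat.ofHom φ)) ⁻¹ᵁ
        (Spec (CommRingCat.of R)).basicOpen (hR g)) := restrAlg _
  haveI locS0 : IsLocalization.Away (hS g')
      Γ(Spec (CommRingCat.of S), (Spec.map (CommRingCat.ofHom φ)) ⁻¹ᵁ
        (Spec (CommRingCat.of R)).basicOpen (hR g)) :=
    isLocalization_of_eq_basicOpen (hS g') _ hV
  letI algR : Algebra R
      Γ(Spec (CommRingCat.of R), (Spec (CommRingCat.of R)).basicOpen (hR g)) :=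
    ((algebraMap Γ(Spec (CommRingCat.of R), ⊤)
      Γ(Spec (CommRingCat.of R), (Spec (CommRingCat.of R)).basicOpen (hR g))).comp
        (hR : R →+* Γ(Spec (CommRingCat.of R), ⊤))).toAlgebra
  letI algS : Algebra S
      Γ(Spec (CommRingCat.of S), (Spec.map (CommRingCat.ofHom φ)) ⁻¹ᵁ
        (Spec (CommRingCat.of R)).basicOpen (hR g)) :=
    ((algebraMap Γ(Spec (CommRingCat.of S), ⊤)
      Γ(Spec (CommRingCat.of S), (Spec.map (CommRingCat.ofHom φ)) ⁻¹ᵁ
        (Spec (CommRingCat.of R)).basicOpen (hR g))).comp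
        (hS : S →+* Γ(Spec (CommRingCat.of S), ⊤))).toAlgebra
  haveI locR : IsLocalization.Away g
      Γ(Spec (CommRingCat.of R), (Spec (CommRingCat.of R)).basicOpen (hR g)) :=
    isLocalization_away_of_ringEquiv hR g
  haveI locS : IsLocalization.Away g'
      Γ(Spec (CommRingCat.of S), (Spec.map (CommRingCat.ofHom φ)) ⁻¹ᵁ
        (Spec (CommRingCat.of R)).basicOpen (hR g)) :=
    isLocalization_away_of_ringEquiv hS g'
  refine Hn _ _ ((Spec.map (CommRingCat.ofHom φ)).app
    ((Spec (CommRingCat.of R)).basicOpen (hR g))).hom ?_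
  intro a
  have hn := (Spec.map (CommRingCat.ofHom φ)).naturality
    (homOfLE (le_top : (Spec (CommRingCat.of R)).basicOpen (hR g) ≤ ⊤)).op
  have h1 := congrArg (fun m => m.hom (hR a)) hn
  show ((Spec.map (CommRingCat.ofHom φ)).app ((Spec (CommRingCat.of R)).basicOpen (hR g))).hom
    ((Spec (CommRingCat.of R)).presheaf.map (homOfLE le_top).op (hR a)) =
    (Spec (CommRingCat.of S)).presheaf.map (homOfLE le_top).op (hS (φ a))
  rw [← hnat]
  exact h1

end sch

section final

variable (p : ℕ) [hp : Fact p.Prime] (k : Type u) [Field k] [CharP k p] [PerfectRing k p]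
  (S : Type u) [CommRing S] [Algebra k S] [CharP S p] [Algebra.Smooth k S] (J : Ideal S)

include k in
/-- for a smooth algebra `S` over a perfect field and any ideal `J`, the map
`S ⧸ J → S ⧸ J^{[p]}` induced by the Frobenius is an extraction of `p`-th roots on spectra. -/
theorem isPthRoot_quotientMap :
    Quiet.IsPthRoot p (Spec.map (CommRingCat.ofHom
      (Ideal.quotientMap (J.map (frobenius S p)) (frobenius S p) Ideal.le_comap_map))) := by
  refine isPthRoot_of_local p hp.out.pos _ ?_
  intro Q hQ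
  obtain ⟨g, hg, n, Hn⟩ := core_quot p k S J Q
  refine ⟨Ideal.Quotient.mk J g, Ideal.Quotient.mk _ g, hg, ?_, n, ?_⟩
  · rw [Ideal.quotientMap_mk, frobenius_def, map_pow]
  · intro R₁ S₁ _ _ _ _ _ _ ψ hψ
    exact Hn R₁ S₁ ψ hψ

include k in
theorem faithfullyFlat_quotientMap_frobenius :
    (Ideal.quotientMap (J.map (frobenius S p)) (frobenius S p) Ideal.le_comap_map).FaithfullyFlat :=
  faithfullyFlat_quotientMap _ (frobenius_faithfullyFlat p k S) J

end final

section stmt

open MvPolynomial RingTheory.Sequence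

variable (p : ℕ) [hp : Fact p.Prime] (k : Type u) [Field k] [CharP k p] [PerfectRing k p]
  (A : Type u) [CommRing A] [Algebra k A] [CharP A p] [Algebra.Smooth k A]

include k in
theorem main (n : ℕ) (t : Fin n → A) (ht : IsRegular A (List.ofFn t))
    (r m : ℕ) (v : Fin m → MvPolynomial (Fin r) A)
    (hv : IsRegular
      (MvPolynomial (Fin r) A ⧸ Ideal.span (Set.range fun i => C (t i) ^ p))
      (List.ofFn fun j => Ideal.Quotient.mk (Ideal.span (Set.range fun i => C (t i) ^ p)) (v j))) :
    IsRegular (MvPolynomial (Fin r) A)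
        (List.ofFn (fun i => C (t i) ^ (p ^ 2)) ++ List.ofFn (fun j => v j ^ p)) ∧
      (Ideal.quotientMap ((Ideal.span (Set.range (fun i => C (t i) ^ p) ∪ Set.range v)).map
        (frobenius (MvPolynomial (Fin r) A) p)) (frobenius (MvPolynomial (Fin r) A) p)
          Ideal.le_comap_map).FaithfullyFlat ∧
      Quiet.IsPthRoot p (Spec.map (CommRingCat.ofHom (Ideal.quotientMap
        ((Ideal.span (Set.range (fun i => C (t i) ^ p) ∪ Set.range v)).map
          (frobenius (MvPolynomial (Fin r) A) p)) (frobenius (MvPolynomial (Fin r) A) p)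
            Ideal.le_comap_map))) := by
  haveI : Algebra.Smooth A (MvPolynomial (Fin r) A) := ⟨inferInstance, inferInstance⟩
  haveI : Algebra.Smooth k (MvPolynomial (Fin r) A) := Algebra.Smooth.comp k A _
  exact ⟨regular_pows p hp.out.one_le t v ht hv,
    faithfullyFlat_quotientMap_frobenius p k _ _, isPthRoot_quotientMap p k _ _⟩

end stmt

end Groth.Agent.Helper7.QuietRT
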