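import Groth.Agent.Helper7.ModPB

namespace Groth.Agent.Helper7.QuotPB

open CategoryTheory CategoryTheory.Limits

universe u v

theorem main (A : Type u) [CommRing A] (M : Type v) [AddCommGroup M] [Module A M]
    (P Q : Submodule A M) :
    IsPullback (ModuleCat.ofHom (Submodule.factor (inf_le_left : P ⊓ Q ≤ P)))
      (ModuleCat.ofHom (Submodule.factor (inf_le_right : P ⊓ Q ≤ Q)))
      (ModuleCat.ofHom (Submodule.factor (le_sup_left : P ≤ P ⊔ Q)))
      (ModuleCat.ofHom (Submodule.factor (le_sup_right : Q ≤ P ⊔ Q))) := by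
  apply ModPB.isPullback_of_concrete
  · ext x
    rfl
  · intro x h1 h2
    obtain ⟨m, rfl⟩ := Submodule.Quotient.mk_surjective _ x
    change Submodule.factor (inf_le_left : P ⊓ Q ≤ P) (Submodule.mkQ _ m) = 0 at h1
    change Submodule.factor (inf_le_right : P ⊓ Q ≤ Q) (Submodule.mkQ _ m) = 0 at h2
    rw [Submodule.factor_mk, Submodule.mkQ_apply, Submodule.Quotient.mk_eq_zero] at h1 h2
    exact (Submodule.Quotient.mk_eq_zero _).mpr ⟨h1, h2⟩
  · intro y z hyz
    obtain ⟨m₁, rfl⟩ := Submodule.Quotient.mk_surjective _ y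
    obtain ⟨m₂, rfl⟩ := Submodule.Quotient.mk_surjective _ z
    change Submodule.factor (le_sup_left : P ≤ P ⊔ Q) (Submodule.mkQ _ m₁) =
      Submodule.factor (le_sup_right : Q ≤ P ⊔ Q) (Submodule.mkQ _ m₂) at hyz
    rw [Submodule.factor_mk, Submodule.factor_mk, Submodule.mkQ_apply, Submodule.mkQ_apply,
      Submodule.Quotient.eq, Submodule.mem_sup] at hyz
    obtain ⟨p, hp, q, hq, hpq⟩ := hyz
    refine ⟨Submodule.Quotient.mk (m₁ - p), ?_, ?_⟩
    · change Submodule.factor (inf_le_left : P ⊓ Q ≤ P) (Submodule.mkQ _ (m₁ - p)) = _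
      rw [Submodule.factor_mk, Submodule.mkQ_apply, Submodule.Quotient.eq]
      simpa using P.neg_mem hp
    · change Submodule.factor (inf_le_right : P ⊓ Q ≤ Q) (Submodule.mkQ _ (m₁ - p)) = _
      rw [Submodule.factor_mk, Submodule.mkQ_apply, Submodule.Quotient.eq]
      have : m₁ - p - m₂ = q := by
        have : m₁ - p - m₂ = (m₁ - m₂) - p := by abel
        rw [this, ← hpq]; abel
      rw [this]; exact hq

end Groth.Agent.Helper7.QuotPB
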