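import Mathlib
import Groth.Prelude.Def_W4sga3xxiRoot
import Groth.Agent.Helper2.RootD2

set_option autoImplicit false
open Set RootPairing Module RootD
open Groth.Agent.Helper2

namespace Groth.Agent.Helper7.RIa

variable {ι M N : Type*} [AddCommGroup M] [AddCommGroup N] {P : RootPairing ι ℤ M N}
variable {Δ : Set ι} (hΔ : IsSimpleSys P Δ)

include hΔ in
theorem not_pos_neg (a : ι) (h1 : P.root a ∈ natSpan P Δ) (h2 : - P.root a ∈ natSpan P Δ) : False := by
  have h := (RD2.posOf_isPosSys hΔ).disjoint (i := a) h1
  apply h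
  show P.root (P.reflectionPerm a a) ∈ natSpan P Δ
  rw [RD.root_neg]
  exact h2

include hΔ in
/-- Key counting lemma: if `w⁻¹ c` is positive then `σ_c w` has more inversions than `w`. -/
theorem ncard_lt [Finite ι] (w : Equiv.Perm ι) (W : M ≃ₗ[ℤ] M) (hW : ∀ a, P.root (w a) = W (P.root a))
    (c : ι) (hc : P.root c ∈ natSpan P Δ) (hδ : P.root (w.symm c) ∈ natSpan P Δ) :
    Set.ncard {a : ι | P.root a ∈ natSpan P Δ ∧ - P.root (w a) ∈ natSpan P Δ} <
      Set.ncard {a : ι | P.root a ∈ natSpan P Δ ∧
        - P.root ((P.reflectionPerm c * w) a) ∈ natSpan P Δ} := by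
  classical
  set δ := w.symm c with hδdef
  have hrootδ : W (P.root δ) = P.root c := by
    rw [← hW, hδdef, Equiv.apply_symm_apply]
  set N1 : Set ι := {a : ι | P.root a ∈ natSpan P Δ ∧ - P.root (w a) ∈ natSpan P Δ} with hN1
  set N2 : Set ι := {a : ι | P.root a ∈ natSpan P Δ ∧
        - P.root ((P.reflectionPerm c * w) a) ∈ natSpan P Δ} with hN2
  -- τ = w⁻¹ σ_c w
  let τ : ι → ι := fun a => w.symm (P.reflectionPerm c (w a))
  have hτroot : ∀ a, P.root (τ a) = P.root a - (P.coroot' c (W (P.root a))) • P.root δ := by
    intro a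
    have h1 : W (P.root (τ a)) = P.root (P.reflectionPerm c (w a)) := by
      rw [← hW]; show P.root (w (w.symm _)) = _; rw [Equiv.apply_symm_apply]
    apply W.injective
    rw [h1, root_reflectionPerm, RootPairing.reflection_apply, hW, map_sub, map_smul, hrootδ]
  have hσroot : ∀ a, P.root ((P.reflectionPerm c * w) a) =
      W (P.root a) - (P.coroot' c (W (P.root a))) • P.root c := by
    intro a
    rw [Equiv.Perm.mul_apply, root_reflectionPerm, RootPairing.reflection_apply, hW]
  let φ : ι → ι := fun a => if - P.root ((P.reflectionPerm c * w) a) ∈ natSpan P Δ then a else τ a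
  have hδN2 : δ ∈ N2 := by
    refine ⟨hδ, ?_⟩
    rw [Equiv.Perm.mul_apply, hδdef, Equiv.apply_symm_apply, RD.root_neg, neg_neg]
    exact hc
  have hδN1 : δ ∉ N1 := by
    rintro ⟨_, h2⟩
    rw [hδdef, Equiv.apply_symm_apply] at h2
    exact not_pos_neg hΔ c hc h2
  -- key sign lemma
  have key : ∀ a ∈ N1, ¬ (- P.root ((P.reflectionPerm c * w) a) ∈ natSpan P Δ) →
      P.root (τ a) ∈ natSpan P Δ := by
    intro a ha hna
    rcases hΔ.mem_or_neg_mem (τ a) with h | h
    · exact h
    · exfalso
      set k := P.coroot' c (W (P.root a)) with hk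
      by_cases hk0 : k ≤ 0
      · -- then root (τ a) is positive as well
        have : P.root (τ a) ∈ natSpan P Δ := by
          rw [hτroot a]
          have e : P.root a - k • P.root δ = P.root a + (-k).toNat • P.root δ := by
            rw [← natCast_zsmul, Int.toNat_of_nonneg (by omega), neg_smul, sub_eq_add_neg]
          rw [e]
          exact add_mem ha.1 (AddSubmonoid.nsmul_mem _ hδ _)
        exact not_pos_neg hΔ (τ a) this h
      · apply hna
        rw [hσroot a, neg_sub]
        have e : k • P.root c - W (P.root a) = k.toNat • P.root c + - W (P.root a) := by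
          rw [← natCast_zsmul, Int.toNat_of_nonneg (by omega), sub_eq_add_neg]
        rw [e, ← hW]
        exact add_mem (AddSubmonoid.nsmul_mem _ hc _) ha.2
  have hmaps : ∀ a ∈ N1, φ a ∈ N2 \ {δ} := by
    intro a ha
    by_cases hcase : - P.root ((P.reflectionPerm c * w) a) ∈ natSpan P Δ
    · have hφ : φ a = a := if_pos hcase
      rw [hφ]
      refine ⟨⟨ha.1, hcase⟩, ?_⟩
      rintro rfl
      exact hδN1 ha
    · have hφ : φ a = τ a := if_neg hcase
      rw [hφ]
      refine ⟨⟨key a ha hcase, ?_⟩, ?_⟩
      · have : (P.reflectionPerm c * w) (τ a) = w a := by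
          show P.reflectionPerm c (w (w.symm (P.reflectionPerm c (w a)))) = w a
          rw [Equiv.apply_symm_apply, reflectionPerm_self]
        rw [this]
        exact ha.2
      · intro h
        have h' : τ a = δ := h
        -- then w a = σ_c c, so root a = - root δ
        have h1 : P.reflectionPerm c (w a) = c := by
          have := congrArg w h'
          simp only [τ, hδdef, Equiv.apply_symm_apply] at this
          exact this
        have h2 : P.root (w a) = - P.root c := by
          have := congrArg (fun j => P.root (P.reflectionPerm c j)) h1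
          simp only [reflectionPerm_self] at this
          rw [this, RD.root_neg]
        have h3 : P.root a = - P.root δ := by
          apply W.injective
          rw [← hW, h2, map_neg, hrootδ]
        have : - P.root a ∈ natSpan P Δ := by rw [h3, neg_neg]; exact hδ
        exact not_pos_neg hΔ a ha.1 this
  have hinj : Set.InjOn φ N1 := by
    intro a₁ h₁ a₂ h₂ he
    by_cases hc1 : - P.root ((P.reflectionPerm c * w) a₁) ∈ natSpan P Δ <;>
    by_cases hc2 : - P.root ((P.reflectionPerm c * w) a₂) ∈ natSpan P Δ
    · have e1 : φ a₁ = a₁ := if_pos hc1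
      have e2 : φ a₂ = a₂ := if_pos hc2
      rw [e1, e2] at he; exact he
    · exfalso
      have e1 : φ a₁ = a₁ := if_pos hc1
      have e2 : φ a₂ = τ a₂ := if_neg hc2
      have he' : a₁ = τ a₂ := by rw [e1, e2] at he; exact he
      have : w a₁ = (P.reflectionPerm c * w) a₂ := by
        rw [he']; show w (w.symm _) = _; rw [Equiv.apply_symm_apply]; rfl
      apply hc2
      rw [← this]
      exact h₁.2
    · exfalso
      have e1 : φ a₁ = τ a₁ := if_neg hc1
      have e2 : φ a₂ = a₂ := if_pos hc2
      have he' : τ a₁ = a₂ := by rw [e1, e2] at he; exact he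
      have : w a₂ = (P.reflectionPerm c * w) a₁ := by
        rw [← he']; show w (w.symm _) = _; rw [Equiv.apply_symm_apply]; rfl
      apply hc1
      rw [← this]
      exact h₂.2
    · have e1 : φ a₁ = τ a₁ := if_neg hc1
      have e2 : φ a₂ = τ a₂ := if_neg hc2
      have he' : τ a₁ = τ a₂ := by rw [e1, e2] at he; exact he
      have := w.symm.injective he'
      exact w.injective ((P.reflectionPerm c).injective this)
  calc Set.ncard N1 ≤ Set.ncard (N2 \ {δ}) :=
        Set.ncard_le_ncard_of_injOn φ hmaps hinj (Set.toFinite _)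
    _ < Set.ncard N2 := Set.ncard_sdiff_singleton_lt_of_mem hδN2 (Set.toFinite _)

end Groth.Agent.Helper7.RIa
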