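import Mathlib
import Groth.Prelude.Def_RedSub
import Groth.Agent.Helper7.RIa

set_option autoImplicit false
open Set RootPairing Module RootD
open Groth.Agent.Helper2

namespace Groth.Agent.Helper7.RIb

variable {idx M N : Type} [AddCommGroup M] [AddCommGroup N]

/-- The linear automorphism attached to a word. -/
noncomputable def wordLin (P : RootPairing idx ℤ M N) (l : List idx) : M ≃ₗ[ℤ] M :=
  (l.map P.reflection).prod

theorem root_wordPerm (P : RootPairing idx ℤ M N) (l : List idx) (a : idx) :
    P.root (RedSub.wordPerm P l a) = wordLin P l (P.root a) := by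
  induction l generalizing a with
  | nil => simp [RedSub.wordPerm, wordLin]
  | cons i l ih =>
    have h1 : RedSub.wordPerm P (i :: l) = P.reflectionPerm i * RedSub.wordPerm P l := by
      simp [RedSub.wordPerm]
    have h2 : wordLin P (i :: l) = P.reflection i * wordLin P l := by
      simp [wordLin]
    rw [h1, h2, Equiv.Perm.mul_apply, root_reflectionPerm, ih]
    rfl

theorem main [Finite idx] (P : RootPairing idx ℤ M N) [P.IsReduced] (b : P.Base) (l : List idx) (c : idx)
    (hc : c ∈ RedSub.posRoots P b) :
    Set.ncard {a : idx | a ∈ RedSub.posRoots P b ∧ RedSub.wordPerm P l a ∈ RedSub.negRoots P b} <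
        Set.ncard {a : idx | a ∈ RedSub.posRoots P b ∧
          (P.reflectionPerm c * RedSub.wordPerm P l) a ∈ RedSub.negRoots P b} ↔
      (RedSub.wordPerm P l)⁻¹ c ∈ RedSub.posRoots P b := by
  have hΔ : IsSimpleSys P (b.support : Set idx) := ⟨b.linearIndepOn_root, b.root_mem_or_neg_mem⟩
  constructor
  · intro hlt
    by_contra hneg
    have hneg' : - P.root ((RedSub.wordPerm P l).symm c) ∈ natSpan P (b.support : Set idx) := by
      rcases hΔ.mem_or_neg_mem ((RedSub.wordPerm P l).symm c) with h | h
      · exact absurd h hneg
      · exact h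
    -- apply the key lemma to w' = σ_c w
    have hw' : RedSub.wordPerm P (c :: l) = P.reflectionPerm c * RedSub.wordPerm P l := by
      simp [RedSub.wordPerm]
    have hsymm : (RedSub.wordPerm P (c :: l)).symm c =
        (RedSub.wordPerm P l).symm (P.reflectionPerm c c) := by
      rw [hw']
      show (RedSub.wordPerm P l).symm ((P.reflectionPerm c).symm c) = _
      rw [reflectionPerm_symm]
    have hpos : P.root ((RedSub.wordPerm P (c :: l)).symm c) ∈ natSpan P (b.support : Set idx) := by
      rw [hsymm]
      have e : P.root ((RedSub.wordPerm P l).symm (P.reflectionPerm c c)) =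
          - P.root ((RedSub.wordPerm P l).symm c) := by
        apply (wordLin P l).injective
        rw [← root_wordPerm, Equiv.apply_symm_apply, map_neg, ← root_wordPerm, Equiv.apply_symm_apply,
          RD.root_neg]
      rw [e]
      exact hneg'
    have := RIa.ncard_lt hΔ (RedSub.wordPerm P (c :: l)) (wordLin P (c :: l)) (root_wordPerm P (c :: l))
      c hc hpos
    have hback : P.reflectionPerm c * RedSub.wordPerm P (c :: l) = RedSub.wordPerm P l := by
      rw [hw', ← mul_assoc]
      have : P.reflectionPerm c * P.reflectionPerm c = 1 := by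
        rw [← sq]; exact P.reflectionPerm_sq c
      rw [this, one_mul]
    rw [hback, hw'] at this
    exact absurd hlt (not_lt.mpr (le_of_lt this))
  · intro hpos
    exact RIa.ncard_lt hΔ (RedSub.wordPerm P l) (wordLin P l) (root_wordPerm P l) c hc hpos

end Groth.Agent.Helper7.RIb
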