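import Mathlib
import Groth.Agent.Lead.RegLocal
import Groth.Agent.Helper7.NodeLen

set_option linter.style.haveILetI false
set_option linter.unusedSectionVars false

namespace Groth.Agent.Helper7.RLR2

open IsLocalRing

universe u

variable {A : Type u} [CommRing A]

/-- A regular local ring of dimension one is a principal ideal ring. -/
theorem isPrincipalIdealRing_of_dim_one [IsRegularLocalRing A] (hA : ringKrullDim A = 1) :
    IsPrincipalIdealRing A := by
  haveI : IsDomain A := Groth.Agent.Lead.RegLocal.isDomain_of_isRegularLocalRing A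
  have hs : ((maximalIdeal A).spanFinrank : WithBot ℕ∞) = 1 := by
    rw [IsRegularLocalRing.spanFinrank_maximalIdeal, hA]
  have hs1 : (maximalIdeal A).spanFinrank = 1 := by exact_mod_cast hs
  have hfg : (maximalIdeal A).FG := (maximalIdeal A).fg_of_isNoetherianRing
  have hgen := Submodule.FG.generators_ncard hfg
  rw [hs1, Set.ncard_eq_one] at hgen
  obtain ⟨a, ha⟩ := hgen
  have hspan : maximalIdeal A = Ideal.span {a} := by
    have := (maximalIdeal A).span_generators
    rw [ha] at this
    exact this.symm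
  have hprin : (maximalIdeal A).IsPrincipal := ⟨⟨a, hspan⟩⟩
  exact ((tfae_of_isNoetherianRing_of_isLocalRing_of_isDomain A).out 4 0).mp hprin

theorem exists_prime_elt [IsRegularLocalRing A] (hA : ringKrullDim A = 2) :
    ∃ x : A, x ∈ maximalIdeal A ∧ Prime x ∧ IsPrincipalIdealRing (A ⧸ Ideal.span {x}) := by
  haveI : IsDomain A := Groth.Agent.Lead.RegLocal.isDomain_of_isRegularLocalRing A
  have hdim : ¬ ringKrullDim A ≤ 0 := by
    rw [hA]; norm_num
  obtain ⟨x, hx, hx2, -⟩ := Groth.Agent.Lead.RegLocal.exists_mem_notMem_sq_minimalPrimes hdim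
  obtain ⟨hreg, hd, -⟩ := Groth.Agent.Lead.RegLocal.quotient_isRegularLocalRing hx hx2
  have hd1 : ringKrullDim (A ⧸ Ideal.span {x}) = 1 := by
    rw [hA] at hd
    obtain ⟨e, he⟩ := WithBot.ne_bot_iff_exists.mp
      (ringKrullDim_ne_bot (R := A ⧸ Ideal.span {x}))
    rw [← he] at hd ⊢
    have h2 : e + 1 = 1 + 1 := by
      have : ((e + 1 : ℕ∞) : WithBot ℕ∞) = ((2 : ℕ∞) : WithBot ℕ∞) := by
        rw [WithBot.coe_add]; exact hd
      have h3 : e + 1 = 2 := WithBot.coe_injective this
      rw [h3]; norm_num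
    have h4 : e = 1 := ENat.add_left_injective_of_ne_top ENat.one_ne_top h2
    rw [h4]; rfl
  haveI := hreg
  haveI : IsDomain (A ⧸ Ideal.span {x}) :=
    Groth.Agent.Lead.RegLocal.isDomain_of_isRegularLocalRing _
  have hx0 : x ≠ 0 := by
    rintro rfl
    apply hx2
    exact zero_mem _
  have hprime : (Ideal.span {x}).IsPrime := (Ideal.Quotient.isDomain_iff_prime _).mp inferInstance
  exact ⟨x, hx, (Ideal.span_singleton_prime hx0).mp hprime, isPrincipalIdealRing_of_dim_one hd1⟩

/-- In a regular local ring of dimension two, every prime other than `0` and `𝔪` is principal. -/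
theorem prime_principal [IsRegularLocalRing A] (hA : ringKrullDim A = 2) (p : Ideal A) [hp : p.IsPrime]
    (hpm : p ≠ maximalIdeal A) : ∃ f : A, p = Ideal.span {f} := by
  haveI : IsDomain A := Groth.Agent.Lead.RegLocal.isDomain_of_isRegularLocalRing A
  obtain ⟨x, hxm, hxp, hpid⟩ := exists_prime_elt hA
  have hx0 : x ≠ 0 := hxp.ne_zero
  haveI hxprime : (Ideal.span {x}).IsPrime := (Ideal.span_singleton_prime hx0).mpr hxp
  by_cases hx : x ∈ p
  · refine ⟨x, ?_⟩
    by_contra hne
    have h1 : Ideal.span {x} < p :=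
      lt_of_le_of_ne ((Ideal.span_singleton_le_iff_mem _).mpr hx) (Ne.symm hne)
    have h0 : (⊥ : Ideal A) < Ideal.span {x} := by
      rw [bot_lt_iff_ne_bot]
      intro h
      exact hx0 (Ideal.span_singleton_eq_bot.mp h)
    have h2 : p < maximalIdeal A := lt_of_le_of_ne (le_maximalIdeal hp.ne_top) hpm
    haveI : (⊥ : Ideal A).IsPrime := Ideal.isPrime_bot
    have e0 := Ideal.height_strict_mono_of_isPrime_of_isPrime h0
    have e1 := Ideal.height_strict_mono_of_isPrime_of_isPrime h1
    have e2 := Ideal.height_strict_mono_of_isPrime_of_isPrime h2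
    have e3 : ((maximalIdeal A).height : WithBot ℕ∞) ≤ 2 := by
      rw [← hA]
      exact Ideal.height_le_ringKrullDim_of_ne_top (maximalIdeal.isMaximal A).ne_top
    have e3' : (maximalIdeal A).height ≤ 2 := by
      have : ((maximalIdeal A).height : WithBot ℕ∞) ≤ ((2 : ℕ∞) : WithBot ℕ∞) := e3
      exact WithBot.coe_le_coe.mp this
    have f1 : (1 : ℕ∞) ≤ (Ideal.span {x}).height :=
      Order.one_le_iff_pos.mpr (lt_of_le_of_lt bot_le e0)
    have f2 : (2 : ℕ∞) ≤ p.height := by
      have := Order.add_one_le_of_lt (lt_of_le_of_lt f1 e1)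
      simpa [one_add_one_eq_two] using this
    have f3 : (3 : ℕ∞) ≤ (maximalIdeal A).height := by
      have := Order.add_one_le_of_lt (lt_of_le_of_lt f2 e2)
      have h23 : (2 : ℕ∞) + 1 = 3 := by norm_num
      rwa [h23] at this
    have : (3 : ℕ∞) ≤ 2 := f3.trans e3'
    exact absurd this (by norm_num)
  · -- the image of p in A/(x) is principal
    let mk := Ideal.Quotient.mk (Ideal.span {x})
    have hmk : Function.Surjective mk := Ideal.Quotient.mk_surjective
    obtain ⟨g, hg⟩ := (IsPrincipalIdealRing.principal (p.map mk)).principal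
    have hgmem : g ∈ p.map mk := by rw [hg]; exact Submodule.mem_span_singleton_self g
    rw [Ideal.mem_map_iff_of_surjective mk hmk] at hgmem
    obtain ⟨f, hfp, hfg⟩ := hgmem
    refine ⟨f, le_antisymm ?_ ((Ideal.span_singleton_le_iff_mem _).mpr hfp)⟩
    have hfgp : (p : Submodule A A).FG := p.fg_of_isNoetherianRing
    apply Submodule.le_of_le_smul_of_le_jacobson_bot hfgp
      (show maximalIdeal A ≤ Ideal.jacobson ⊥ from by
        rw [IsLocalRing.jacobson_eq_maximalIdeal ⊥ bot_ne_top])
    intro a ha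
    have h1 : mk a ∈ p.map mk := Ideal.mem_map_of_mem mk ha
    rw [hg] at h1
    obtain ⟨c, hc⟩ := Submodule.mem_span_singleton.mp h1
    obtain ⟨c, rfl⟩ := hmk c
    have h2 : mk (a - c * f) = 0 := by
      rw [map_sub, map_mul, hfg, ← hc, smul_eq_mul, sub_self]
    rw [Ideal.Quotient.eq_zero_iff_mem, Ideal.mem_span_singleton] at h2
    obtain ⟨b, hb⟩ := h2
    have hbp : b ∈ p := by
      have h3 : x * b ∈ p := by
        rw [← hb]
        exact p.sub_mem ha (p.mul_mem_left c hfp)
      exact (hp.mem_or_mem h3).resolve_left hx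
    have : a = c * f + x * b := by rw [← hb]; ring
    rw [this]
    apply Submodule.add_mem_sup
    · exact Ideal.mem_span_singleton.mpr ⟨c, by ring⟩
    · rw [smul_eq_mul]
      exact Ideal.mul_mem_mul hxm hbp

/-- A regular local ring of dimension two is factorial. -/
theorem ufd [IsRegularLocalRing A] (hA : ringKrullDim A = 2) :
    haveI : IsDomain A := Groth.Agent.Lead.RegLocal.isDomain_of_isRegularLocalRing A
    UniqueFactorizationMonoid A := by
  haveI : IsDomain A := Groth.Agent.Lead.RegLocal.isDomain_of_isRegularLocalRing A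
  rw [UniqueFactorizationMonoid.iff_exists_prime_mem_of_isPrime]
  intro p hp0 hp
  by_cases hpm : p = maximalIdeal A
  · obtain ⟨x, hxm, hxp, -⟩ := exists_prime_elt hA
    exact ⟨x, hpm ▸ hxm, hxp⟩
  · obtain ⟨f, hf⟩ := prime_principal hA p hpm
    have hf0 : f ≠ 0 := by
      rintro rfl
      apply hp0
      rw [hf]
      simp
    refine ⟨f, hf ▸ Ideal.mem_span_singleton_self f, ?_⟩
    rw [← Ideal.span_singleton_prime hf0, ← hf]
    exact hp

/-- `(f) ⊓ J = (f) * J`-type statement: if `f` is prime and `g ∉ (f)` then `(f) ⊓ (g) = (f g)`. -/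
theorem span_inf_span [IsDomain A] {f g : A} (hf : Prime f) (hg : ¬ f ∣ g) :
    Ideal.span {f} ⊓ Ideal.span {g} = Ideal.span {f * g} := by
  apply le_antisymm
  · rintro a ⟨ha1, ha2⟩
    rw [SetLike.mem_coe, Ideal.mem_span_singleton] at ha1 ha2
    obtain ⟨b, rfl⟩ := ha2
    have : f ∣ b := (hf.dvd_or_dvd ha1).resolve_left hg
    obtain ⟨c, rfl⟩ := this
    exact Ideal.mem_span_singleton.mpr ⟨c, by ring⟩
  · apply le_inf
    · exact Ideal.span_singleton_le_span_singleton.mpr (dvd_mul_right _ _)
    · exact Ideal.span_singleton_le_span_singleton.mpr (dvd_mul_left _ _)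

theorem s0226 [IsRegularLocalRing A] (hdim : ringKrullDim A = 2)
    (I : Ideal A) (hI : I ≤ IsLocalRing.maximalIdeal A) [IsReduced (A ⧸ I)] :
    I = ⊥ ∨ I = IsLocalRing.maximalIdeal A ∨
      ∃ f ∈ IsLocalRing.maximalIdeal A, f ≠ 0 ∧ I = Ideal.span {f} := by
  haveI : IsDomain A := Groth.Agent.Lead.RegLocal.isDomain_of_isRegularLocalRing A
  have hrad : I.IsRadical := (Ideal.isRadical_iff_quotient_reduced I).mpr inferInstance
  have hI_eq : sInf I.minimalPrimes = I := by rw [Ideal.sInf_minimalPrimes, hrad.radical]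
  have hfin : I.minimalPrimes.Finite := Ideal.finite_minimalPrimes_of_isNoetherianRing A I
  by_cases h0 : (⊥ : Ideal A) ∈ I.minimalPrimes
  · left
    exact le_bot_iff.mp h0.1.2
  by_cases hm : maximalIdeal A ∈ I.minimalPrimes
  · right; left
    have hall : ∀ p ∈ I.minimalPrimes, p = maximalIdeal A := by
      intro p hp
      have hple : p ≤ maximalIdeal A := le_maximalIdeal hp.1.1.ne_top
      exact le_antisymm hple (hm.2 hp.1 hple)
    rw [← hI_eq]
    apply le_antisymm
    · exact sInf_le hm
    · exact le_sInf (fun p hp => (hall p hp).ge)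
  right; right
  have hprin : ∀ p ∈ I.minimalPrimes, ∃ f : A, Prime f ∧ p = Ideal.span {f} := by
    intro p hp
    haveI := hp.1.1
    have hp0 : p ≠ ⊥ := fun h => h0 (h ▸ hp)
    have hpm : p ≠ maximalIdeal A := fun h => hm (h ▸ hp)
    obtain ⟨f, hf⟩ := prime_principal hdim p hpm
    have hf0 : f ≠ 0 := by
      rintro rfl
      apply hp0
      rw [hf]; simp
    refine ⟨f, ?_, hf⟩
    rw [← Ideal.span_singleton_prime hf0, ← hf]
    exact hp.1.1
  have key : ∀ T : Finset (Ideal A), (∀ p ∈ T, p ∈ I.minimalPrimes) →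
      ∃ g : A, g ≠ 0 ∧ T.inf id = Ideal.span {g} := by
    intro T
    induction T using Finset.induction_on with
    | empty =>
      intro _
      exact ⟨1, one_ne_zero, by simp⟩
    | insert p T hpT ih =>
      intro hT
      obtain ⟨g, hg0, hg⟩ := ih (fun q hq => hT q (Finset.mem_insert_of_mem hq))
      have hpmin := hT p (Finset.mem_insert_self p T)
      obtain ⟨f, hfprime, hf⟩ := hprin p hpmin
      have hfg : ¬ f ∣ g := by
        intro hdvd
        have hgp : Ideal.span {g} ≤ p := by
          rw [hf]; exact Ideal.span_singleton_le_span_singleton.mpr hdvd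
        rw [← hg] at hgp
        haveI := hpmin.1.1
        obtain ⟨q, hqT, hqp⟩ := (Ideal.IsPrime.inf_le' (hpmin.1.1)).mp hgp
        have hqmin := hT q (Finset.mem_insert_of_mem hqT)
        have : p = q := le_antisymm (hpmin.2 hqmin.1 hqp) hqp
        exact hpT (this ▸ hqT)
      refine ⟨f * g, mul_ne_zero hfprime.ne_zero hg0, ?_⟩
      rw [Finset.inf_insert, id, hg, hf, span_inf_span hfprime hfg]
  obtain ⟨g, hg0, hg⟩ := key hfin.toFinset (fun p hp => hfin.mem_toFinset.mp hp)
  have hIg : I = Ideal.span {g} := by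
    rw [← hg, Finset.inf_id_eq_sInf, Set.Finite.coe_toFinset, hI_eq]
  refine ⟨g, hI ?_, hg0, hIg⟩
  rw [hIg]; exact Ideal.mem_span_singleton_self g

theorem s7917 [IsRegularLocalRing A]
    (hA : ringKrullDim A = 2) (f g h : A) (hfg : IsRelPrime f g) :
    Module.length A (A ⧸ Ideal.span ({f * h, g} : Set A)) =
      Module.length A (A ⧸ Ideal.span ({f, g} : Set A)) +
        Module.length A (A ⧸ Ideal.span ({h, g} : Set A)) := by
  haveI : IsDomain A := Groth.Agent.Lead.RegLocal.isDomain_of_isRegularLocalRing A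
  haveI : UniqueFactorizationMonoid A := ufd hA
  apply Groth.Agent.Helper7.Node.len_mul
  intro a b hab
  obtain ⟨a, rfl⟩ := Ideal.Quotient.mk_surjective a
  obtain ⟨b, rfl⟩ := Ideal.Quotient.mk_surjective b
  have h1 : Ideal.Quotient.mk (Ideal.span ({g} : Set A)) (f * (a - b)) = 0 := by
    rw [mul_sub, map_sub, sub_eq_zero]
    simpa [Algebra.smul_def] using hab
  rw [Ideal.Quotient.eq_zero_iff_mem, Ideal.mem_span_singleton] at h1
  have h2 : g ∣ a - b := hfg.symm.dvd_of_dvd_mul_left h1
  rw [← sub_eq_zero, ← map_sub, Ideal.Quotient.eq_zero_iff_mem, Ideal.mem_span_singleton]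
  exact h2

end Groth.Agent.Helper7.RLR2
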