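import Mathlib

set_option autoImplicit false
set_option maxSynthPendingDepth 3

namespace Groth.Agent.Helper7.RNN

open Polynomial

/-- transitivity-type lemma: if `x` is a root of `G - c` with `G` monic of positive degree with
coefficients (through `ψ`) integral over `P`, and `c` integral over `P`, then `x` is integral. -/
theorem isIntegralElem_of_monic {P R A : Type*} [CommRing P] [CommRing R] [CommRing A]
    (φ : P →+* A) (ψ : R →+* A) (x : A) (G : R[X]) (hG : G.Monic) (hdeg : 0 < G.natDegree)
    (h1 : ∀ b : R, φ.IsIntegralElem (ψ b)) (h2 : φ.IsIntegralElem (eval₂ ψ x G)) :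
    φ.IsIntegralElem x := by
  rcases subsingleton_or_nontrivial A with hA | hA
  · rw [Subsingleton.elim x (φ 0)]
    exact φ.isIntegralElem_map
  algebraize [φ]
  let IC := integralClosure P A
  have h1' : ∀ b : R, ψ b ∈ IC := fun b => h1 b
  let θ : R →+* IC := ψ.codRestrict IC.toSubring h1'
  have hθ : (algebraMap IC A).comp θ = ψ := by
    ext b
    rfl
  let c : IC := ⟨eval₂ ψ x G, h2⟩
  have hmon : (G.map θ - C c).Monic := by
    apply (hG.map θ).sub_of_left
    rw [degree_eq_natDegree (hG.map θ).ne_zero, hG.natDegree_map]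
    refine lt_of_le_of_lt degree_C_le ?_
    exact_mod_cast hdeg
  have hx : IsIntegral IC x := by
    refine ⟨G.map θ - C c, hmon, ?_⟩
    rw [eval₂_sub, eval₂_map, hθ, eval₂_C]
    exact sub_self _
  exact isIntegral_trans (R := P) (A := IC) x hx

end Groth.Agent.Helper7.RNN
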