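import Groth.Agent.Helper7.NN2
import Groth.Agent.Helper7.RNN1

set_option autoImplicit false
set_option maxSynthPendingDepth 3

namespace Groth.Agent.Helper7.RNN

open MvPolynomial Groth.Agent.Helper7.NN Groth.Agent.Helper7.NN.NNorm

variable {k : Type*} [Field k] {n : ℕ}

theorem eval₂_rename_succ_finSuccEquiv (g : MvPolynomial (Fin (n + 1)) k) :
    Polynomial.eval₂ ((rename Fin.succ : MvPolynomial (Fin n) k →ₐ[k] _) : _ →+* _) (X 0)
      (finSuccEquiv k n g) = g := by
  induction g using MvPolynomial.induction_on with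
  | C a =>
    have : finSuccEquiv k n (C a) = Polynomial.C (C a) := by
      simp [finSuccEquiv_apply]
    rw [this, Polynomial.eval₂_C]
    simp
  | add p q hp hq => rw [map_add, Polynomial.eval₂_add, hp, hq]
  | mul_X p i hp =>
    rw [map_mul, Polynomial.eval₂_mul, hp]
    congr 1
    cases i using Fin.cases with
    | zero => rw [finSuccEquiv_X_zero, Polynomial.eval₂_X]
    | succ j =>
      rw [finSuccEquiv_X_succ, Polynomial.eval₂_C]
      simp

/-- decomposition `g = X 0 * h + rename succ c`. -/
theorem exists_decomp (g : MvPolynomial (Fin (n + 1)) k) :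
    ∃ (h : MvPolynomial (Fin (n + 1)) k) (c : MvPolynomial (Fin n) k),
      g = X 0 * h + rename Fin.succ c := by
  set p := finSuccEquiv k n g with hp
  refine ⟨(finSuccEquiv k n).symm p.divX, p.coeff 0, ?_⟩
  apply (finSuccEquiv k n).injective
  rw [map_add, map_mul, AlgEquiv.apply_symm_apply, finSuccEquiv_X_zero, finSuccEquiv_rename_succ,
    ← hp, Polynomial.X_mul_divX_add]

end Groth.Agent.Helper7.RNN
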