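import Groth.Agent.Helper7.RNN2

set_option autoImplicit false
set_option maxSynthPendingDepth 3

namespace Groth.Agent.Helper7.RNN

open MvPolynomial Groth.Agent.Helper7.NN Groth.Agent.Helper7.NN.NNorm

variable {k : Type*} [Field k]

section step

variable {n : ℕ} (f : MvPolynomial (Fin (n + 1)) k)

/-- the embedding `B → A`, `X i ↦ X (i+1) - X 0 ^ e`. -/
noncomputable def psi : MvPolynomial (Fin n) k →ₐ[k] MvPolynomial (Fin (n + 1)) k :=
  (T1 f (-1)).comp (rename Fin.succ)

theorem T1_neg_T (g : MvPolynomial (Fin (n + 1)) k) : T1 f (-1) (T f g) = g := by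
  have := (T f).symm_apply_apply g
  exact this

theorem T1_neg_X0 : T1 f (-1) (X 0) = X 0 := by
  simp [T1]

theorem eval₂_psi (g : MvPolynomial (Fin (n + 1)) k) :
    Polynomial.eval₂ ((psi f : _ →ₐ[k] _) : _ →+* _) (X 0) (finSuccEquiv k n (T f g)) = g := by
  have h1 := eval₂_rename_succ_finSuccEquiv (T f g)
  have h2 := congrArg (T1 f (-1)) h1
  rw [T1_neg_T] at h2
  conv_rhs => rw [← h2]
  have h3 := Polynomial.hom_eval₂ (finSuccEquiv k n (T f g))
    ((rename Fin.succ : MvPolynomial (Fin n) k →ₐ[k] MvPolynomial (Fin (n + 1)) k) :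
      MvPolynomial (Fin n) k →+* MvPolynomial (Fin (n + 1)) k)
    ((T1 f (-1) : MvPolynomial (Fin (n + 1)) k →ₐ[k] MvPolynomial (Fin (n + 1)) k) :
      MvPolynomial (Fin (n + 1)) k →+* MvPolynomial (Fin (n + 1)) k) (X 0)
  rw [RingHom.coe_coe, T1_neg_X0] at h3
  rw [h3]
  rfl

theorem eval₂_psi' (g : MvPolynomial (Fin (n + 1)) k) :
    Polynomial.eval₂ (psi f).toRingHom (X 0) (finSuccEquiv k n (T f g)) = g :=
  eval₂_psi f g

theorem natDegree_pos (hf : ¬ IsUnit f) (hu : IsUnit (finSuccEquiv k n (T f f)).leadingCoeff) :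
    0 < (finSuccEquiv k n (T f f)).natDegree := by
  by_contra h0
  have h0 : (finSuccEquiv k n (T f f)).natDegree = 0 := by omega
  apply hf
  have h1 := Polynomial.eq_C_of_natDegree_eq_zero h0
  have h2 : IsUnit (finSuccEquiv k n (T f f)) := by
    rw [h1]
    apply Polynomial.isUnit_C.mpr
    rw [h1, Polynomial.leadingCoeff_C] at hu
    exact hu
  have h3 : IsUnit (T f f) := (isUnit_map_iff (finSuccEquiv k n) _).mp h2
  exact (isUnit_map_iff (T f) _).mp h3

end step

end Groth.Agent.Helper7.RNN
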