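import Groth.Agent.Helper7.RNN3

set_option autoImplicit false
set_option maxSynthPendingDepth 3

namespace Groth.Agent.Helper7.RNN

open MvPolynomial Groth.Agent.Helper7.NN Groth.Agent.Helper7.NN.NNorm

variable {k : Type*} [Field k]

section step

variable {n : ℕ} (f : MvPolynomial (Fin (n + 1)) k)
  (φ' : MvPolynomial (Fin n) k →ₐ[k] MvPolynomial (Fin n) k)

/-- the new normalization map. -/
noncomputable def phi : MvPolynomial (Fin (n + 1)) k →ₐ[k] MvPolynomial (Fin (n + 1)) k :=
  aeval (Fin.cons f (fun i => psi f (φ' (X i))) : Fin (n + 1) → MvPolynomial (Fin (n + 1)) k)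

theorem phi_X0 : phi f φ' (X 0) = f := by
  simp [phi]

theorem phi_Xsucc (i : Fin n) : phi f φ' (X i.succ) = psi f (φ' (X i)) := by
  simp [phi]

theorem phi_rename (b : MvPolynomial (Fin n) k) :
    phi f φ' (rename Fin.succ b) = psi f (φ' b) := by
  have : (phi f φ').comp (rename Fin.succ) = (psi f).comp φ' := by
    apply MvPolynomial.algHom_ext
    intro i
    simp [phi_Xsucc]
  exact AlgHom.congr_fun this b

theorem psi_X (i : Fin n) :
    psi f (X i) = X i.succ + (-1 : k) • X 0 ^ ((2 + f.totalDegree) ^ (i.succ : ℕ)) := by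
  simp [psi, T1, Fin.succ_ne_zero]

theorem phi_isIntegral (hf0 : f ≠ 0) (hfu : ¬ IsUnit f)
    (hφ' : φ'.toRingHom.IsIntegral) :
    (phi f φ').toRingHom.IsIntegral := by
  set Φ : MvPolynomial (Fin (n + 1)) k →+* MvPolynomial (Fin (n + 1)) k := (phi f φ').toRingHom
    with hΦ
  -- elements `ψ b` are integral
  have h1 : ∀ b : MvPolynomial (Fin n) k, Φ.IsIntegralElem (psi f b) := by
    intro b
    obtain ⟨p, hp, hpb⟩ := hφ' b
    have h2 : (Φ.comp (rename Fin.succ :
        MvPolynomial (Fin n) k →ₐ[k] MvPolynomial (Fin (n + 1)) k).toRingHom).IsIntegralElem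
        (psi f b) := by
      refine ⟨p, hp, ?_⟩
      have h3 : Φ.comp (rename Fin.succ :
          MvPolynomial (Fin n) k →ₐ[k] MvPolynomial (Fin (n + 1)) k).toRingHom =
          (psi f).toRingHom.comp φ'.toRingHom := by
        ext b
        · simp [hΦ]
        · simp [hΦ, phi_Xsucc]
      rw [h3]
      have h4 := Polynomial.hom_eval₂ p φ'.toRingHom (psi f).toRingHom b
      exact h4.symm.trans (by rw [hpb, map_zero])
    exact RingHom.IsIntegralElem.of_comp h2
  have hf : Φ.IsIntegralElem f := by
    have := Φ.isIntegralElem_map (x := X 0)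
    rwa [hΦ, AlgHom.toRingHom_eq_coe, RingHom.coe_coe, phi_X0] at this
  -- `X 0` is integral
  have hu := T_leadingcoeff_isUnit f hf0
  have h0 : Φ.IsIntegralElem (X 0) := by
    refine isIntegralElem_of_monic Φ (psi f).toRingHom (X 0)
      (hu.unit⁻¹ • finSuccEquiv k n (T f f)) (Polynomial.monic_of_isUnit_leadingCoeff_inv_smul hu)
      ?_ (fun b => h1 b) ?_
    · rw [Units.smul_def, Polynomial.natDegree_smul_of_smul_regular]
      · exact natDegree_pos f hfu hu
      · exact (IsUnit.isSMulRegular _ (Units.isUnit _))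
    · rw [Units.smul_def, Polynomial.eval₂_smul, eval₂_psi']
      exact RingHom.IsIntegralElem.mul _ (h1 _) hf
  intro g
  induction g using MvPolynomial.induction_on with
  | C a =>
    have := Φ.isIntegralElem_map (x := C a)
    rwa [hΦ, AlgHom.toRingHom_eq_coe, RingHom.coe_coe, algHom_C] at this
  | add p q hp hq => exact RingHom.IsIntegralElem.add _ hp hq
  | mul_X p i hp =>
    refine RingHom.IsIntegralElem.mul _ hp ?_
    cases i using Fin.cases with
    | zero => exact h0
    | succ j =>
      have h5 : (X j.succ : MvPolynomial (Fin (n + 1)) k) =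
          psi f (X j) + C (1 : k) * X 0 ^ ((2 + f.totalDegree) ^ (j.succ : ℕ)) := by
        rw [psi_X, neg_smul, one_smul, map_one, one_mul]
        ring
      rw [h5]
      refine RingHom.IsIntegralElem.add _ (h1 _) (RingHom.IsIntegralElem.mul _ ?_ ?_)
      · have := Φ.isIntegralElem_map (x := C 1)
        rwa [hΦ, AlgHom.toRingHom_eq_coe, RingHom.coe_coe, algHom_C] at this
      · -- power
        have h6 : ∀ m : ℕ, Φ.IsIntegralElem ((X 0 : MvPolynomial (Fin (n + 1)) k) ^ m) := by
          intro m
          induction m with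
          | zero =>
            rw [pow_zero]
            have := Φ.isIntegralElem_map (x := 1)
            rwa [map_one] at this
          | succ m ih =>
            rw [pow_succ]
            exact RingHom.IsIntegralElem.mul _ ih h0
        exact h6 _

end step

end Groth.Agent.Helper7.RNN
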