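import Groth.Agent.Helper7.RNN4

set_option autoImplicit false
set_option maxSynthPendingDepth 3

namespace Groth.Agent.Helper7.RNN

open MvPolynomial Groth.Agent.Helper7.NN Groth.Agent.Helper7.NN.NNorm

variable {k : Type*} [Field k]

section step

variable {n : ℕ} (f : MvPolynomial (Fin (n + 1)) k)
  (φ' : MvPolynomial (Fin n) k →ₐ[k] MvPolynomial (Fin n) k)

theorem comap_phi (I : Ideal (MvPolynomial (Fin (n + 1)) k)) (hfI : f ∈ I) (d' : ℕ)
    (hcomap' : (I.comap (psi f)).comap φ' = Ideal.span (X '' {i : Fin n | (i : ℕ) < d'})) :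
    I.comap (phi f φ') = Ideal.span (X '' {i : Fin (n + 1) | (i : ℕ) < d' + 1}) := by
  apply le_antisymm
  · intro g hg
    rw [Ideal.mem_comap] at hg
    obtain ⟨h, c, rfl⟩ := exists_decomp g
    have hX0 : (X 0 : MvPolynomial (Fin (n + 1)) k) ∈
        Ideal.span (X '' {i : Fin (n + 1) | (i : ℕ) < d' + 1}) :=
      Ideal.subset_span ⟨0, by simp, rfl⟩
    refine Ideal.add_mem _ (Ideal.mul_mem_right _ _ hX0) ?_
    rw [map_add, map_mul, phi_X0, phi_rename] at hg
    have h1 : psi f (φ' c) ∈ I := by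
      have := Ideal.sub_mem _ hg (Ideal.mul_mem_right (phi f φ' h) _ hfI)
      simpa using this
    have h2 : c ∈ (I.comap (psi f)).comap φ' := h1
    rw [hcomap'] at h2
    have h3 : rename Fin.succ c ∈ Ideal.map (rename Fin.succ :
        MvPolynomial (Fin n) k →ₐ[k] MvPolynomial (Fin (n + 1)) k)
        (Ideal.span (X '' {i : Fin n | (i : ℕ) < d'})) := Ideal.mem_map_of_mem _ h2
    rw [Ideal.map_span] at h3
    refine Ideal.span_mono ?_ h3
    rintro _ ⟨_, ⟨i, hi, rfl⟩, rfl⟩
    refine ⟨i.succ, ?_, by simp⟩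
    simp only [Set.mem_ofPred_eq, Fin.val_succ] at hi ⊢
    omega
  · rw [Ideal.span_le]
    rintro _ ⟨j, hj, rfl⟩
    simp only [SetLike.mem_coe, Ideal.mem_comap]
    cases j using Fin.cases with
    | zero => rw [phi_X0]; exact hfI
    | succ i =>
      rw [phi_Xsucc]
      have h1 : X i ∈ (I.comap (psi f)).comap φ' := by
        rw [hcomap']
        refine Ideal.subset_span ⟨i, ?_, rfl⟩
        simp only [Set.mem_ofPred_eq, Fin.val_succ] at hj ⊢
        omega
      exact h1

end step

/-- Refined Noether normalization for an arbitrary proper ideal. -/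
theorem exists_normalization (n : ℕ) (I : Ideal (MvPolynomial (Fin n) k)) (hI : I ≠ ⊤) :
    ∃ d ≤ n, ∃ φ : MvPolynomial (Fin n) k →ₐ[k] MvPolynomial (Fin n) k,
      φ.toRingHom.IsIntegral ∧
      I.comap φ = Ideal.span (X '' {i : Fin n | (i : ℕ) < d}) := by
  induction n with
  | zero =>
    refine ⟨0, le_rfl, AlgHom.id _ _, ?_, ?_⟩
    · exact RingHom.isIntegral_of_surjective _ (fun x => ⟨x, rfl⟩)
    · have : {i : Fin 0 | (i : ℕ) < 0} = ∅ := by ext i; simp
      rw [this, Set.image_empty, Ideal.span_empty]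
      rw [eq_bot_iff]
      intro a ha
      rw [Ideal.mem_comap] at ha
      change a ∈ I at ha
      rw [Ideal.mem_bot]
      by_contra hne
      have eq := eq_C_of_isEmpty a
      have hc : coeff 0 a ≠ 0 := fun h => hne (by rw [eq, h, map_zero])
      apply hI
      rw [Ideal.eq_top_iff_one]
      have h1 : C (coeff 0 a)⁻¹ * a ∈ I := Ideal.mul_mem_left _ _ ha
      rw [eq, ← map_mul] at h1
      simpa [inv_mul_cancel₀ hc] using h1
  | succ n ih =>
    by_cases h0 : I = ⊥
    · refine ⟨0, Nat.zero_le _, AlgHom.id _ _, ?_, ?_⟩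
      · exact RingHom.isIntegral_of_surjective _ (fun x => ⟨x, rfl⟩)
      · have : {i : Fin (n + 1) | (i : ℕ) < 0} = ∅ := by ext i; simp
        rw [this, Set.image_empty, Ideal.span_empty, h0]
        ext a
        simp
    · obtain ⟨f, hfI, hf0⟩ := Submodule.exists_mem_ne_zero_of_ne_bot h0
      have hfu : ¬ IsUnit f := fun hu => hI (Ideal.eq_top_of_isUnit_mem _ hfI hu)
      have hI' : I.comap (psi f) ≠ ⊤ := Ideal.comap_ne_top _ hI
      obtain ⟨d', hd', φ', hφ', hcomap'⟩ := ih (I.comap (psi f)) hI'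
      exact ⟨d' + 1, by omega, phi f φ', phi_isIntegral f φ' hf0 hfu hφ',
        comap_phi f φ' I hfI d' hcomap'⟩

end Groth.Agent.Helper7.RNN
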