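import Mathlib

set_option autoImplicit false
set_option maxSynthPendingDepth 3

universe u v

namespace Groth.Agent.Helper7.RNN

open MvPolynomial

section quot

variable {k : Type u} [Field k] {σ : Type v} (s : Set σ)

theorem killCompl_X_of_mem {i : σ} (hi : i ∈ s) :
    killCompl (Subtype.val_injective : Function.Injective (Subtype.val : {i // i ∉ s} → σ))
      (X i : MvPolynomial σ k) = 0 := by
  classical
  rw [killCompl, aeval_X, dif_neg]
  rintro ⟨⟨j, hj⟩, rfl⟩
  exact hj hi

theorem span_le_ker_killCompl :
    Ideal.span (X '' s : Set (MvPolynomial σ k)) ≤ RingHom.ker (killCompl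
      (Subtype.val_injective : Function.Injective (Subtype.val : {i // i ∉ s} → σ)) :
      MvPolynomial σ k →ₐ[k] _) := by
  rw [Ideal.span_le]
  rintro _ ⟨i, hi, rfl⟩
  exact killCompl_X_of_mem s hi

theorem sub_rename_killCompl_mem (p : MvPolynomial σ k) :
    p - rename Subtype.val (killCompl
      (Subtype.val_injective : Function.Injective (Subtype.val : {i // i ∉ s} → σ)) p) ∈
      Ideal.span (X '' s : Set (MvPolynomial σ k)) := by
  classical
  induction p using MvPolynomial.induction_on with
  | C a => simp
  | add p q hp hq =>
    rw [map_add, map_add]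
    have := Ideal.add_mem _ hp hq
    convert this using 1
    ring
  | mul_X p i hp =>
    rw [map_mul, map_mul]
    by_cases hi : i ∈ s
    · rw [killCompl_X_of_mem s hi, map_zero, mul_zero, sub_zero]
      exact Ideal.mul_mem_left _ _ (Ideal.subset_span ⟨i, hi, rfl⟩)
    · have h1 : rename Subtype.val (killCompl
          (Subtype.val_injective : Function.Injective (Subtype.val : {i // i ∉ s} → σ))
          (X i : MvPolynomial σ k)) = X i := by
        have : (X i : MvPolynomial σ k) = rename Subtype.val (X (⟨i, hi⟩ : {i // i ∉ s})) := by
          simp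
        rw [this, killCompl_rename_app]
      rw [h1, ← sub_mul]
      exact Ideal.mul_mem_right _ _ hp

theorem trdeg_quot_span_X :
    Algebra.trdeg k (MvPolynomial σ k ⧸ Ideal.span (X '' s : Set (MvPolynomial σ k))) =
      Cardinal.lift.{u} (Cardinal.mk {i // i ∉ s}) := by
  set J := Ideal.span (X '' s : Set (MvPolynomial σ k)) with hJ
  let g : MvPolynomial {i // i ∉ s} k →ₐ[k] MvPolynomial σ k ⧸ J :=
    (Ideal.Quotient.mkₐ k J).comp (rename Subtype.val)
  have hg : Function.Bijective g := by
    constructor
    · rw [injective_iff_map_eq_zero]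
      intro p hp
      have h1 : rename Subtype.val p ∈ J := by
        rw [← Ideal.Quotient.eq_zero_iff_mem]
        exact hp
      have h2 := span_le_ker_killCompl (k := k) s h1
      rw [RingHom.mem_ker] at h2
      have h3 := killCompl_rename_app
        (Subtype.val_injective : Function.Injective (Subtype.val : {i // i ∉ s} → σ)) p
      rw [← h3]
      exact h2
    · intro y
      obtain ⟨p, rfl⟩ := Ideal.Quotient.mk_surjective y
      refine ⟨killCompl Subtype.val_injective p, ?_⟩
      symm
      exact Ideal.Quotient.eq.mpr (sub_rename_killCompl_mem s p)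
  have e := AlgEquiv.ofBijective g hg
  rw [← e.trdeg_eq, MvPolynomial.trdeg_of_isDomain]

end quot

end Groth.Agent.Helper7.RNN
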