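import Mathlib

set_option autoImplicit false
set_option maxSynthPendingDepth 3
set_option linter.style.haveILetI false

universe u

namespace Groth.Agent.Helper7.RNN

section trdeg

variable {k : Type u} [Field k] {P A : Type u} [CommRing P] [CommRing A]
    [Algebra k P] [Algebra k A] [Algebra P A] [IsScalarTower k P A] [Algebra.IsIntegral P A]

theorem trdeg_residueField_of_isIntegral (q : Ideal A) [q.IsPrime] :
    Algebra.trdeg k q.ResidueField = Algebra.trdeg k (P ⧸ q.under P) := by
  set p := q.under P with hp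
  haveI : p.IsPrime := Ideal.IsPrime.under P q
  letI : Algebra (P ⧸ p) q.ResidueField :=
    ((algebraMap (A ⧸ q) q.ResidueField).comp (algebraMap (P ⧸ p) (A ⧸ q))).toAlgebra
  haveI : IsScalarTower (P ⧸ p) (A ⧸ q) q.ResidueField := IsScalarTower.of_algebraMap_eq' rfl
  haveI : IsScalarTower k (P ⧸ p) q.ResidueField := by
    refine IsScalarTower.of_algebraMap_eq' ?_
    rw [IsScalarTower.algebraMap_eq k (A ⧸ q) q.ResidueField,
      IsScalarTower.algebraMap_eq k (P ⧸ p) (A ⧸ q)]
    rfl
  haveI : FaithfulSMul k (P ⧸ p) := by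
    rw [faithfulSMul_iff_algebraMap_injective]
    exact (algebraMap k (P ⧸ p)).injective
  haveI : FaithfulSMul (P ⧸ p) q.ResidueField := by
    rw [faithfulSMul_iff_algebraMap_injective]
    exact (IsFractionRing.injective (A ⧸ q) q.ResidueField).comp
      (FaithfulSMul.algebraMap_injective (P ⧸ p) (A ⧸ q))
  haveI : Algebra.IsAlgebraic (A ⧸ q) q.ResidueField :=
    IsLocalization.isAlgebraic _ (nonZeroDivisors (A ⧸ q))
  haveI : Algebra.IsAlgebraic (P ⧸ p) q.ResidueField :=
    Algebra.IsIntegral.trans_isAlgebraic (P ⧸ p) (A ⧸ q) q.ResidueField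
  have h1 := trdeg_add_eq k (P ⧸ p) (A := q.ResidueField)
  rw [trdeg_eq_zero (R := P ⧸ p), add_zero] at h1
  exact h1.symm

end trdeg

theorem trdeg_residueField_of_isIntegral' {k : Type u} [Field k] {P A : Type u} [CommRing P]
    [CommRing A] [Algebra k P] [Algebra k A] (φ : P →ₐ[k] A) (hφ : φ.toRingHom.IsIntegral)
    (q : Ideal A) [q.IsPrime] :
    Algebra.trdeg k q.ResidueField = Algebra.trdeg k (P ⧸ q.comap φ) := by
  letI : Algebra P A := φ.toRingHom.toAlgebra
  haveI : IsScalarTower k P A := IsScalarTower.of_algebraMap_eq' φ.comp_algebraMap.symm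
  haveI : Algebra.IsIntegral P A := ⟨hφ⟩
  exact trdeg_residueField_of_isIntegral (P := P) q

end Groth.Agent.Helper7.RNN
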