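import Groth.Agent.Helper7.RNN5
import Groth.Agent.Helper7.RNN6
import Groth.Agent.Helper7.RNN7

set_option autoImplicit false
set_option maxSynthPendingDepth 3
set_option linter.style.haveILetI false

universe u

namespace Groth.Agent.Helper7.RNN

open MvPolynomial

theorem comap_span_algEquiv {k A A' : Type*} [CommRing k] [CommRing A] [CommRing A'] [Algebra k A]
    [Algebra k A'] (e : A ≃ₐ[k] A') (S : Set A') :
    (Ideal.span S).comap e = Ideal.span (e.symm '' S) := by
  apply le_antisymm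
  · intro x hx
    rw [Ideal.mem_comap] at hx
    have h1 : e.symm (e x) ∈ Ideal.map e.symm (Ideal.span S) := Ideal.mem_map_of_mem _ hx
    rw [Ideal.map_span, e.symm_apply_apply] at h1
    exact h1
  · rw [Ideal.span_le]
    rintro _ ⟨y, hy, rfl⟩
    simp only [SetLike.mem_coe, Ideal.mem_comap, AlgEquiv.apply_symm_apply]
    exact Ideal.subset_span hy

theorem card_not_lt (n d : ℕ) (hd : d ≤ n) :
    Cardinal.mk {i : Fin n // i ∉ {i : Fin n | (i : ℕ) < d}} = ((n - d : ℕ) : Cardinal) := by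
  classical
  rw [Cardinal.mk_fintype]
  congr 1
  have h1 := Fintype.card_subtype_compl (fun i : Fin n => (i : ℕ) < d)
  rw [Fintype.card_fin_lt_of_le hd, Fintype.card_fin] at h1
  rw [← h1]
  exact Fintype.card_congr (Equiv.refl _)

theorem trdeg_eq {k : Type u} [Field k] (n d : ℕ) (hd : d ≤ n)
    (q : Ideal (MvPolynomial (Fin n) k)) [q.IsPrime]
    (φ₀ : MvPolynomial (Fin n) k →ₐ[k] MvPolynomial (Fin n) k) (hint : φ₀.toRingHom.IsIntegral)
    (hcomap : q.comap φ₀ = Ideal.span (X '' {i : Fin n | (i : ℕ) < d})) :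
    Algebra.trdeg k q.ResidueField = ((n - d : ℕ) : Cardinal) := by
  have key : Algebra.trdeg k q.ResidueField =
      Algebra.trdeg k (MvPolynomial (Fin n) k ⧸ q.comap φ₀) := by
    exact trdeg_residueField_of_isIntegral' φ₀ hint q
  rw [key, hcomap, trdeg_quot_span_X, card_not_lt n d hd]
  simp

theorem main_2100 {k : Type u} [Field k] (n r : ℕ) (q : Ideal (MvPolynomial (Fin n) k))
    [q.IsPrime] (hr : Algebra.trdeg k q.ResidueField = r) :
    ∃ φ : MvPolynomial (Fin n) k →ₐ[k] MvPolynomial (Fin n) k, φ.toRingHom.Finite ∧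
      q.comap φ = Ideal.span (Set.range fun i : {i : Fin n // r ≤ (i : ℕ)} =>
        MvPolynomial.X (i : Fin n)) := by
  obtain ⟨d, hd, φ₀, hint, hcomap⟩ := exists_normalization n q (Ideal.IsPrime.ne_top inferInstance)
  have h1 := trdeg_eq n d hd q φ₀ hint hcomap
  rw [hr] at h1
  have hrd : r = n - d := by exact_mod_cast h1
  let ρ : MvPolynomial (Fin n) k ≃ₐ[k] MvPolynomial (Fin n) k := renameEquiv k Fin.revPerm
  have hρsymm : ∀ i : Fin n, ρ.symm (X i) = X (Fin.rev i) := by
    intro i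
    simp [ρ]
  refine ⟨φ₀.comp ρ.toAlgHom, ?_, ?_⟩
  · have hfin0 : φ₀.toRingHom.Finite := by
      have fin : Algebra.FiniteType k (MvPolynomial (Fin n) k) := inferInstance
      have h : algebraMap k (MvPolynomial (Fin n) k) =
          φ₀.toRingHom.comp (algebraMap k (MvPolynomial (Fin n) k)) := φ₀.comp_algebraMap.symm
      exact hint.to_finite (h ▸ RingHom.finiteType_algebraMap.mpr fin).of_comp_finiteType
    have hfin1 : ρ.toAlgHom.toRingHom.Finite := RingHom.Finite.of_surjective _ ρ.surjective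
    exact hfin0.comp hfin1
  · have h2 : q.comap (φ₀.comp ρ.toAlgHom) = (q.comap φ₀).comap ρ := rfl
    rw [h2, hcomap, comap_span_algEquiv]
    congr 1
    ext x
    constructor
    · rintro ⟨_, ⟨i, hi, rfl⟩, rfl⟩
      refine ⟨⟨Fin.rev i, ?_⟩, ?_⟩
      · simp only [Set.mem_ofPred_eq] at hi
        rw [Fin.val_rev]
        omega
      · simp only [hρsymm]
    · rintro ⟨⟨j, hj⟩, rfl⟩
      refine ⟨X (Fin.rev j), ⟨Fin.rev j, ?_, rfl⟩, ?_⟩
      · simp only [Set.mem_ofPred_eq, Fin.val_rev]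
        have := j.isLt
        omega
      · rw [hρsymm, Fin.rev_rev]

end Groth.Agent.Helper7.RNN
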