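import Mathlib
import Groth.Agent.Helper1.PBW4

/-!
# Restricted enveloping algebra, part a: unitriangular maps and leading terms on `Multiset ι →₀ k`
-/

set_option autoImplicit false

namespace Groth.Agent.Helper7.RU

open Multiset Groth.Agent.Helper1.PBW

section tri
variable {k : Type*} [CommRing k] {J : Type*} (d : J → ℕ)

/-- strict degree filtration on the free module. -/
def G (k : Type*) [CommRing k] {J : Type*} (d : J → ℕ) (n : ℕ) : Submodule k (J →₀ k) :=
  Finsupp.supported k k {j | d j < n}

lemma G_mono {m n : ℕ} (h : m ≤ n) : G k d m ≤ G k d n :=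
  Finsupp.supported_mono fun _ hj => lt_of_lt_of_le hj h

lemma G_zero : G k d 0 = ⊥ := by
  have : {j | d j < 0} = (∅ : Set J) := by ext; simp
  rw [G, this, Finsupp.supported_empty]

lemma single_mem_G {j : J} {n : ℕ} (h : d j < n) (c : k) : Finsupp.single j c ∈ G k d n :=
  Finsupp.single_mem_supported k c h

lemma exists_mem_G (v : J →₀ k) : ∃ n, v ∈ G k d n := by
  refine ⟨v.support.sup d + 1, ?_⟩
  rw [G, Finsupp.mem_supported]
  intro j hj
  exact Nat.lt_succ_of_le (Finset.le_sup (f := d) hj)

lemma map_mem_of_single {J' : Type*} (d' : J' → ℕ) (f : (J →₀ k) →ₗ[k] (J' →₀ k)) {n m : ℕ}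
    (h : ∀ j, d j < n → f (Finsupp.single j 1) ∈ G k d' m) : ∀ v ∈ G k d n, f v ∈ G k d' m := by
  intro v hv
  rw [← Finsupp.sum_single v, Finsupp.sum, _root_.map_sum]
  refine Submodule.sum_mem _ fun j hj => ?_
  have hd : d j < n := (Finsupp.mem_supported k v).1 hv hj
  have : Finsupp.single j (v j) = v j • Finsupp.single j (1:k) := by
    rw [Finsupp.smul_single, smul_eq_mul, mul_one]
  rw [this, _root_.map_smul]
  exact Submodule.smul_mem _ _ (h j hd)

theorem bijective_of_unitriangular (T : (J →₀ k) →ₗ[k] (J →₀ k))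
    (hT : ∀ j, T (Finsupp.single j 1) - Finsupp.single j 1 ∈ G k d (d j)) :
    Function.Bijective T := by
  set N := T - LinearMap.id with hN
  have hNG : ∀ n, ∀ v ∈ G k d (n+1), N v ∈ G k d n := by
    intro n
    apply map_mem_of_single d d N
    intro j hj
    rw [hN, LinearMap.sub_apply, LinearMap.id_apply]
    exact G_mono d (Nat.lt_succ_iff.1 hj) (hT j)
  have hTN : ∀ v, T v = v + N v := by intro v; rw [hN]; simp
  constructor
  · rw [← LinearMap.ker_eq_bot, LinearMap.ker_eq_bot']
    intro v hv
    by_contra hne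
    classical
    have hex := exists_mem_G (k := k) d v
    have hn : v ∈ G k d (Nat.find hex) := Nat.find_spec hex
    rcases Nat.eq_zero_or_pos (Nat.find hex) with h0 | hpos
    · rw [h0, G_zero] at hn; exact hne ((Submodule.mem_bot k).1 hn)
    · obtain ⟨m, hm⟩ := Nat.exists_eq_succ_of_ne_zero hpos.ne'
      rw [hm] at hn
      have h1 : v = - N v := by
        have := hTN v; rw [hv] at this; exact eq_neg_of_add_eq_zero_left this.symm
      have hv' : v ∈ G k d m := by rw [h1]; exact Submodule.neg_mem _ (hNG m v hn)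
      exact Nat.find_min hex (by omega) hv'
  · have : ∀ n, G k d n ≤ LinearMap.range T := by
      intro n
      induction n with
      | zero => rw [G_zero]; exact bot_le
      | succ n ih =>
        intro v hv
        have h1 : N v ∈ LinearMap.range T := ih (hNG n v hv)
        have h2 : v = T v - N v := by rw [hTN]; abel
        rw [h2]
        exact Submodule.sub_mem _ (LinearMap.mem_range_self T v) h1
    intro v
    obtain ⟨n, hn⟩ := exists_mem_G (k := k) d v
    exact this n hn

end tri

section lead
variable {k : Type*} [CommRing k] {ι : Type*}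

/-- the strict degree filtration on `Multiset ι →₀ k`. -/
abbrev GV (k : Type*) [CommRing k] (ι : Type*) (n : ℕ) : Submodule k (Multiset ι →₀ k) :=
  G k (fun M : Multiset ι => card M) n

lemma degLE_eq (n : ℕ) : degLE k ι n = GV k ι (n + 1) := by
  rw [degLE, GV, G]
  congr 1
  ext M
  exact Nat.lt_succ_iff.symm

/-- the shift operator `e_M ↦ e_{K + M}`. -/
noncomputable def shift (k : Type*) [CommRing k] {ι : Type*} (K : Multiset ι) :
    (Multiset ι →₀ k) →ₗ[k] (Multiset ι →₀ k) :=
  Finsupp.lmapDomain k k (fun M => K + M)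

@[simp] lemma shift_single (K M : Multiset ι) (c : k) :
    shift k K (Finsupp.single M c) = Finsupp.single (K + M) c := by
  rw [shift, Finsupp.lmapDomain_apply, Finsupp.mapDomain_single]

lemma shift_mem (K : Multiset ι) (m : ℕ) : ∀ v ∈ GV k ι m, shift k K v ∈ GV k ι (m + card K) := by
  apply map_mem_of_single
  intro M hM
  rw [shift_single]
  apply single_mem_G
  rw [Multiset.card_add]
  omega

lemma shift_zero : shift k (0 : Multiset ι) = LinearMap.id := by
  apply Finsupp.lhom_ext
  intro M c
  rw [shift_single, zero_add, LinearMap.id_apply]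

lemma shift_add (K K' : Multiset ι) : shift k (K + K') = shift k K ∘ₗ shift k K' := by
  apply Finsupp.lhom_ext
  intro M c
  rw [LinearMap.comp_apply, shift_single, shift_single, shift_single, add_assoc]

/-- `A` has leading term `shift K`. -/
def IsLead (A : (Multiset ι →₀ k) →ₗ[k] (Multiset ι →₀ k)) (K : Multiset ι) : Prop :=
  ∀ m, ∀ v ∈ GV k ι (m + 1), A v - shift k K v ∈ GV k ι (m + card K)

variable {A B : (Multiset ι →₀ k) →ₗ[k] (Multiset ι →₀ k)} {K K' : Multiset ι}

lemma IsLead.map_mem (h : IsLead A K) (m : ℕ) : ∀ v ∈ GV k ι m, A v ∈ GV k ι (m + card K) := by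
  intro v hv
  rcases Nat.eq_zero_or_pos m with h0 | hpos
  · rw [h0, GV, G_zero] at hv
    rw [(Submodule.mem_bot k).1 hv, _root_.map_zero]; exact Submodule.zero_mem _
  · obtain ⟨m', rfl⟩ := Nat.exists_eq_succ_of_ne_zero hpos.ne'
    have h1 := h m' v hv
    have h2 := shift_mem (k := k) K (m' + 1) v hv
    have h3 : A v = (A v - shift k K v) + shift k K v := by abel
    rw [h3]
    exact Submodule.add_mem _ (G_mono _ (by omega) h1) h2

lemma IsLead.comp (hA : IsLead A K) (hB : IsLead B K') : IsLead (A ∘ₗ B) (K + K') := by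
  intro m v hv
  have h1 : B v - shift k K' v ∈ GV k ι (m + card K') := hB m v hv
  have h2 : A (B v - shift k K' v) ∈ GV k ι (m + card K' + card K) := hA.map_mem _ _ h1
  have h3 : shift k K' v ∈ GV k ι (m + card K' + 1) := by
    have := shift_mem (k := k) K' (m + 1) v hv
    rwa [show m + 1 + card K' = m + card K' + 1 by omega] at this
  have h4 := hA (m + card K') _ h3
  have h5 : (A ∘ₗ B) v - shift k (K + K') v =
      A (B v - shift k K' v) + (A (shift k K' v) - shift k K (shift k K' v)) := by
    rw [shift_add, LinearMap.comp_apply, LinearMap.comp_apply, _root_.map_sub]; abel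
  rw [h5, Multiset.card_add, show m + (card K + card K') = m + card K' + card K by omega]
  exact Submodule.add_mem _ h2 h4

lemma IsLead.sub_lower (hA : IsLead A K)
    (hB : ∀ m, ∀ v ∈ GV k ι (m + 1), B v ∈ GV k ι (m + card K)) : IsLead (A - B) K := by
  intro m v hv
  have h : (A - B) v - shift k K v = (A v - shift k K v) - B v := by
    rw [LinearMap.sub_apply]; abel
  rw [h]
  exact Submodule.sub_mem _ (hA m v hv) (hB m v hv)

lemma isLead_id : IsLead (LinearMap.id : (Multiset ι →₀ k) →ₗ[k] _) (0 : Multiset ι) := by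
  intro m v _
  rw [shift_zero, sub_self]; exact Submodule.zero_mem _

lemma isLead_one : IsLead (1 : Module.End k (Multiset ι →₀ k)) (0 : Multiset ι) := isLead_id

lemma IsLead.mul {A B : Module.End k (Multiset ι →₀ k)} (hA : IsLead A K) (hB : IsLead B K') :
    IsLead (A * B) (K + K') := hA.comp hB

lemma IsLead.pow {A : Module.End k (Multiset ι →₀ k)} (hA : IsLead A K) (n : ℕ) :
    IsLead (A ^ n) (n • K) := by
  induction n with
  | zero => rw [pow_zero, zero_smul]; exact isLead_one
  | succ n ih => rw [pow_succ, succ_nsmul]; exact ih.mul hA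

end lead

section pbw
variable {k : Type*} [CommRing k] {L : Type*} [LieRing L] [LieAlgebra k L]
variable {ι : Type*} [LinearOrder ι] (b : Module.Basis ι k L)

lemma isLead_Xop (i : ι) : IsLead (Xop b i) ({i} : Multiset ι) := by
  intro m
  have : ∀ v ∈ GV k ι (m + 1), (Xop b i - shift k ({i} : Multiset ι)) v ∈ GV k ι (m + 1) := by
    apply map_mem_of_single
    intro M hM
    rw [LinearMap.sub_apply, Xop_single, one_smul, shift_single, Multiset.singleton_add]
    have := X_sub_mem b M i
    rw [degLE_eq] at this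
    exact G_mono _ (by omega) this
  intro v hv
  rw [Multiset.card_singleton]
  exact this v hv

lemma Xop_mem (i : ι) (m : ℕ) : ∀ v ∈ GV k ι m, Xop b i v ∈ GV k ι (m + 1) := by
  intro v hv
  have := (isLead_Xop b i).map_mem m v hv
  rwa [Multiset.card_singleton] at this

lemma rho_mem (x : L) (m : ℕ) : ∀ v ∈ GV k ι m, rho b x v ∈ GV k ι (m + 1) := by
  intro v hv
  rw [rho_apply]
  refine Submodule.sum_mem _ fun t _ => ?_
  exact Submodule.smul_mem _ _ (Xop_mem b t m v hv)

end pbw

end Groth.Agent.Helper7.RU
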