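import Mathlib
import Groth.Agent.Helper7.RUa

/-!
# Restricted enveloping algebra, part b: the basis `c^N · mon M` for central elements `c i`
with leading term `x_i^p`
-/

set_option autoImplicit false

namespace Groth.Agent.Helper7.RU

open Groth.Agent.Helper1.PBW

section divmod
variable {ι : Type*} [DecidableEq ι] (p : ℕ)

/-- multiplicities divided by `p`. -/
noncomputable def mdiv (K : Multiset ι) : Multiset ι :=
  Finsupp.toMultiset ((Multiset.toFinsupp K).mapRange (· / p) (Nat.zero_div p))

/-- multiplicities modulo `p`. -/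
noncomputable def mmod (K : Multiset ι) : Multiset ι :=
  Finsupp.toMultiset ((Multiset.toFinsupp K).mapRange (· % p) (Nat.zero_mod p))

lemma count_mdiv (K : Multiset ι) (i : ι) : (mdiv p K).count i = K.count i / p := by
  rw [mdiv, Finsupp.count_toMultiset, Finsupp.mapRange_apply, Multiset.toFinsupp_apply]

lemma count_mmod (K : Multiset ι) (i : ι) : (mmod p K).count i = K.count i % p := by
  rw [mmod, Finsupp.count_toMultiset, Finsupp.mapRange_apply, Multiset.toFinsupp_apply]

lemma mdiv_add_mmod (K : Multiset ι) : p • mdiv p K + mmod p K = K := by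
  ext i
  rw [Multiset.count_add, Multiset.count_nsmul, count_mdiv, count_mmod, Nat.div_add_mod]

/-- restricted multisets: all multiplicities `< p`. -/
def Restr (K : Multiset ι) : Prop := ∀ i, K.count i < p

variable {p}

lemma mmod_restr (hp : 0 < p) (K : Multiset ι) : Restr p (mmod p K) := fun i => by
  rw [count_mmod]; exact Nat.mod_lt _ hp

lemma mdiv_eq_zero_iff (hp : 0 < p) (K : Multiset ι) : mdiv p K = 0 ↔ Restr p K := by
  constructor
  · intro h i
    have := congrArg (Multiset.count i) h
    rw [count_mdiv, Multiset.count_zero] at this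
    exact (Nat.div_eq_zero_iff.1 this).resolve_left hp.ne'
  · intro h
    ext i
    rw [count_mdiv, Multiset.count_zero]
    exact Nat.div_eq_of_lt (h i)

lemma mdiv_of_add {N M : Multiset ι} (hM : Restr p M) : mdiv p (p • N + M) = N := by
  ext i
  have hp : 0 < p := lt_of_le_of_lt (Nat.zero_le _) (hM i)
  rw [count_mdiv, Multiset.count_add, Multiset.count_nsmul, add_comm, Nat.add_mul_div_left _ _ hp,
    Nat.div_eq_of_lt (hM i), zero_add]

lemma mmod_of_add {N M : Multiset ι} (hM : Restr p M) : mmod p (p • N + M) = M := by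
  ext i
  rw [count_mmod, Multiset.count_add, Multiset.count_nsmul, add_comm, Nat.add_mul_mod_self_left,
    Nat.mod_eq_of_lt (hM i)]

lemma mmod_of_restr {M : Multiset ι} (hM : Restr p M) : mmod p M = M := by
  have := mmod_of_add (N := 0) hM
  rwa [smul_zero, zero_add] at this

lemma not_restr_of_mdiv_ne_zero (hp : 0 < p) {K : Multiset ι} (h : mdiv p K ≠ 0) : ¬ Restr p K :=
  fun hK => h ((mdiv_eq_zero_iff hp K).2 hK)

lemma not_restr_c_mul (hp : 0 < p) (i : ι) (K : Multiset ι) :
    ¬ Restr p (p • (i ::ₘ mdiv p K) + mmod p K) := by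
  apply not_restr_of_mdiv_ne_zero hp
  rw [mdiv_of_add (mmod_restr hp K)]
  exact Multiset.cons_ne_zero

end divmod

section main
variable {k : Type*} [CommRing k] {L : Type*} [LieRing L] [LieAlgebra k L]
variable {ι : Type*} [LinearOrder ι] (b : Module.Basis ι k L)


variable (c : ι → Subalgebra.center k (UniversalEnvelopingAlgebra k L))

/-- the product of the central elements over a multiset. -/
noncomputable def cpow (N : Multiset ι) : UniversalEnvelopingAlgebra k L :=
  ((N.map c).prod : Subalgebra.center k (UniversalEnvelopingAlgebra k L))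

lemma cpow_zero : cpow c 0 = 1 := by simp [cpow]

lemma cpow_cons (i : ι) (N : Multiset ι) : cpow c (i ::ₘ N) = (c i : UniversalEnvelopingAlgebra k L) * cpow c N := by
  simp [cpow]

lemma cpow_comm (N : Multiset ι) (u : UniversalEnvelopingAlgebra k L) : cpow c N * u = u * cpow c N :=
  ((Subalgebra.mem_center_iff.1 ((N.map c).prod).2) u).symm

lemma c_comm (i : ι) (u : UniversalEnvelopingAlgebra k L) : (c i : UniversalEnvelopingAlgebra k L) * u = u * (c i : UniversalEnvelopingAlgebra k L) :=
  ((Subalgebra.mem_center_iff.1 (c i).2) u).symm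

variable (p : ℕ) (hlead : ∀ i, IsLead (act b (c i : UniversalEnvelopingAlgebra k L)) (p • ({i} : Multiset ι)))
include hlead

lemma isLead_cpow (N : Multiset ι) : IsLead (act b (cpow c N)) (p • N) := by
  induction N using Multiset.induction with
  | empty => rw [cpow_zero, _root_.map_one, smul_zero]; exact isLead_one
  | cons i N ih =>
    rw [cpow_cons, _root_.map_mul, ← Multiset.singleton_add, smul_add]
    exact (hlead i).mul ih

/-- the unitriangular map -/
noncomputable def Tmap : (Multiset ι →₀ k) →ₗ[k] (Multiset ι →₀ k) :=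
  Finsupp.linearCombination k
    (fun K => act b (cpow c (mdiv p K)) (Finsupp.single (mmod p K) 1))

omit hlead in
lemma Tmap_single (K : Multiset ι) (r : k) :
    Tmap b c p (Finsupp.single K r) =
      r • act b (cpow c (mdiv p K)) (Finsupp.single (mmod p K) 1) := by
  rw [Tmap, Finsupp.linearCombination_single]

lemma Tmap_bijective : Function.Bijective (Tmap b c p) := by
  apply bijective_of_unitriangular (fun M : Multiset ι => Multiset.card M)
  intro K
  rw [Tmap_single, one_smul]
  have h1 : (Finsupp.single (mmod p K) (1 : k)) ∈ GV k ι (Multiset.card (mmod p K) + 1) :=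
    single_mem_G _ (Nat.lt_succ_self _) 1
  have h2 := isLead_cpow b c p hlead (mdiv p K) _ _ h1
  rw [shift_single, mdiv_add_mmod] at h2
  have h3 : Multiset.card (mmod p K) + Multiset.card (p • mdiv p K) = Multiset.card K := by
    conv_rhs => rw [← mdiv_add_mmod p K]
    rw [Multiset.card_add, add_comm]
  rw [h3] at h2
  exact h2

/-- the basis isomorphism `e_K ↦ c^(K div p) · mon (K mod p)`. -/
noncomputable def Psi : (Multiset ι →₀ k) ≃ₗ[k] UniversalEnvelopingAlgebra k L :=
  (LinearEquiv.ofBijective (Tmap b c p) (Tmap_bijective b c p hlead)).trans (thetaEquiv b)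

lemma Psi_single (K : Multiset ι) (r : k) :
    Psi b c p hlead (Finsupp.single K r) = r • (cpow c (mdiv p K) * mon b (mmod p K)) := by
  rw [Psi, LinearEquiv.trans_apply, LinearEquiv.ofBijective_apply, Tmap_single, _root_.map_smul,
    thetaEquiv_apply, theta_act, theta_single, one_smul]

lemma Psi_single_restr {K : Multiset ι} (hK : Restr p K) (r : k) :
    Psi b c p hlead (Finsupp.single K r) = r • mon b K := by
  rcases Multiset.empty_or_exists_mem K with h0 | ⟨i, hi⟩
  · subst h0
    have h1 : mdiv p (0 : Multiset ι) = 0 := by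
      ext i; rw [count_mdiv, Multiset.count_zero, Nat.zero_div]
    have h2 : mmod p (0 : Multiset ι) = 0 := by
      ext i; rw [count_mmod, Multiset.count_zero, Nat.zero_mod]
    rw [Psi_single, h1, h2, cpow_zero, one_mul]
  · have hp : 0 < p := lt_of_le_of_lt (Nat.zero_le _) (hK i)
    rw [Psi_single, (mdiv_eq_zero_iff hp K).2 hK, mmod_of_restr hK, cpow_zero, one_mul]

/-- left multiplication by `c i` in the new basis. -/
lemma c_mul_Psi_single (hp : 0 < p) (i : ι) (K : Multiset ι) (r : k) :
    (c i : UniversalEnvelopingAlgebra k L) * Psi b c p hlead (Finsupp.single K r) =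
      Psi b c p hlead (Finsupp.single (p • (i ::ₘ mdiv p K) + mmod p K) r) := by
  rw [Psi_single, Psi_single, mdiv_of_add (mmod_restr hp K), mmod_of_add (mmod_restr hp K),
    cpow_cons, mul_smul_comm, mul_assoc]

lemma c_mul_mem (hp : 0 < p) (i : ι) (a : UniversalEnvelopingAlgebra k L) :
    (Psi b c p hlead).symm ((c i : UniversalEnvelopingAlgebra k L) * a) ∈
      Finsupp.supported k k {K : Multiset ι | ¬ Restr p K} := by
  obtain ⟨v, rfl⟩ := (Psi b c p hlead).surjective a
  induction v using Finsupp.induction_linear with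
  | zero => rw [_root_.map_zero, mul_zero, _root_.map_zero]; exact Submodule.zero_mem _
  | add v w hv hw => rw [_root_.map_add, mul_add, _root_.map_add]; exact Submodule.add_mem _ hv hw
  | single K r =>
    rw [c_mul_Psi_single b c p hlead hp, LinearEquiv.symm_apply_apply]
    exact Finsupp.single_mem_supported k r (not_restr_c_mul hp i K)

/-- the left ideal generated by the `c i` is spanned by the basis vectors with non-restricted
index. -/
theorem mem_span_iff (hp : 0 < p) (u : UniversalEnvelopingAlgebra k L) :
    u ∈ Ideal.span (Set.range fun i => (c i : UniversalEnvelopingAlgebra k L)) ↔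
      (Psi b c p hlead).symm u ∈ Finsupp.supported k k {K : Multiset ι | ¬ Restr p K} := by
  constructor
  · intro hu
    rw [Ideal.span, Finsupp.mem_span_range_iff_exists_finsupp] at hu
    obtain ⟨a, rfl⟩ := hu
    rw [Finsupp.sum, _root_.map_sum]
    refine Submodule.sum_mem _ fun i _ => ?_
    rw [smul_eq_mul, ← c_comm]
    exact c_mul_mem b c p hlead hp i _
  · intro hu
    have h1 : u = Psi b c p hlead ((Psi b c p hlead).symm u) := by
      rw [LinearEquiv.apply_symm_apply]
    rw [h1]
    generalize (Psi b c p hlead).symm u = v at hu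
    rw [← Finsupp.sum_single v, Finsupp.sum, _root_.map_sum]
    refine Submodule.sum_mem _ fun K hK => ?_
    have hKr : ¬ Restr p K := (Finsupp.mem_supported k v).1 hu hK
    have hne : mdiv p K ≠ 0 := fun h => hKr ((mdiv_eq_zero_iff hp K).1 h)
    obtain ⟨i, hi⟩ := Multiset.exists_mem_of_ne_zero hne
    obtain ⟨N, hN⟩ := Multiset.exists_cons_of_mem hi
    rw [Psi_single, hN, cpow_cons, mul_assoc, c_comm, ← smul_mul_assoc]
    exact Ideal.mul_mem_left _ _ (Ideal.subset_span ⟨i, rfl⟩)

end main

end Groth.Agent.Helper7.RU
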