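import Mathlib
import Groth.Prelude.Def_PLie
import Groth.Agent.Helper7.RUb
import Groth.Agent.Helper8.PLieJac

/-!
# Restricted enveloping algebra, part c: the central elements `x^p - x^[p]` of `U(L)`
-/

set_option autoImplicit false

namespace Groth.Agent.Helper7.RU

open Groth.Agent.Helper1.PBW Groth.Agent.Helper8.PLieJac

attribute [local instance 100] LieRing.ofAssociativeRing

section xi
variable {k : Type*} [CommRing k] (p : ℕ) [hp : Fact p.Prime] [CharP k p]
variable {L : Type*} [LieRing L] [LieAlgebra k L] (φ : PLie.PMap k p L)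

/-- `x ↦ x^p - x^[p]` in `U(L)`. -/
noncomputable def xi (x : L) : UniversalEnvelopingAlgebra k L :=
  UniversalEnvelopingAlgebra.ι k x ^ p - UniversalEnvelopingAlgebra.ι k (φ x)

omit hp [CharP k p] in
lemma ι_lie (x y : L) : (UniversalEnvelopingAlgebra.ι k : L →ₗ⁅k⁆ _).toLinearMap ⁅x, y⁆ =
    (UniversalEnvelopingAlgebra.ι k : L →ₗ⁅k⁆ _).toLinearMap x *
      (UniversalEnvelopingAlgebra.ι k : L →ₗ⁅k⁆ _).toLinearMap y -
    (UniversalEnvelopingAlgebra.ι k : L →ₗ⁅k⁆ _).toLinearMap y *
      (UniversalEnvelopingAlgebra.ι k : L →ₗ⁅k⁆ _).toLinearMap x := by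
  simp only [LieHom.coe_toLinearMap, LieHom.map_lie, Ring.lie_def]

lemma xi_comm_ι (x y : L) :
    xi p φ x * UniversalEnvelopingAlgebra.ι k y = UniversalEnvelopingAlgebra.ι k y * xi p φ x := by
  have h1 := map_ad_pow (R := k) (UniversalEnvelopingAlgebra.ι k : L →ₗ⁅k⁆ _).toLinearMap
    (ι_lie (k := k) (L := L)) x y p
  rw [ad_pow_char, ← φ.ad_map, LieAlgebra.ad_apply, ι_lie] at h1
  simp only [LieHom.coe_toLinearMap] at h1
  rw [xi, sub_mul, mul_sub]
  have h2 : UniversalEnvelopingAlgebra.ι k x ^ p * UniversalEnvelopingAlgebra.ι k y -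
      UniversalEnvelopingAlgebra.ι k y * UniversalEnvelopingAlgebra.ι k x ^ p =
      UniversalEnvelopingAlgebra.ι k (φ x) * UniversalEnvelopingAlgebra.ι k y -
      UniversalEnvelopingAlgebra.ι k y * UniversalEnvelopingAlgebra.ι k (φ x) := h1.symm
  have h3 := sub_eq_sub_iff_add_eq_add.1 h2
  rw [sub_eq_sub_iff_add_eq_add, h3, add_comm]

lemma xi_mem_center (x : L) : xi p φ x ∈ Subalgebra.center k (UniversalEnvelopingAlgebra k L) := by
  have h : Subalgebra.centralizer k {xi p φ x} = ⊤ := by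
    apply subalgebra_eq_top
    intro y
    rw [Subalgebra.mem_centralizer_iff]
    intro g hg
    rw [Set.mem_singleton_iff] at hg
    rw [hg]
    exact xi_comm_ι p φ x y
  rw [Subalgebra.mem_center_iff]
  intro u
  have hu : u ∈ Subalgebra.centralizer k {xi p φ x} := h ▸ Algebra.mem_top
  rw [Subalgebra.mem_centralizer_iff] at hu
  exact (hu _ rfl).symm

lemma xi_add (x y : L) : xi p φ (x + y) = xi p φ x + xi p φ y := by
  have h := map_jacobson p (UniversalEnvelopingAlgebra.ι k : L →ₗ⁅k⁆ _).toLinearMap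
    (ι_lie (k := k) (L := L)) x y
  simp only [LieHom.coe_toLinearMap] at h
  rw [xi, xi, xi, map_add, assoc_jacobson (R := k) p, φ.map_add, map_sub, map_add, h]
  abel

lemma xi_smul (c : k) (x : L) : xi p φ (c • x) = c ^ p • xi p φ x := by
  rw [xi, xi, φ.map_smul, map_smul, map_smul, smul_pow, smul_sub]

lemma xi_zero : xi p φ 0 = 0 := by
  have := xi_smul p φ 0 0
  rwa [zero_smul, zero_pow hp.out.ne_zero, zero_smul] at this

lemma xi_sum {α : Type*} (s : Finset α) (f : α → L) : xi p φ (∑ a ∈ s, f a) = ∑ a ∈ s, xi p φ (f a) := by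
  classical
  induction s using Finset.induction_on with
  | empty => simp [xi_zero]
  | insert a s ha ih => rw [Finset.sum_insert ha, Finset.sum_insert ha, xi_add, ih]

variable {ι : Type*} (b : Module.Basis ι k L)

lemma xi_eq_sum (x : L) :
    xi p φ x = ∑ i ∈ (b.repr x).support, (b.repr x i) ^ p • xi p φ (b i) := by
  conv_lhs => rw [← b.linearCombination_repr x, Finsupp.linearCombination_apply, Finsupp.sum]
  rw [xi_sum]
  exact Finset.sum_congr rfl fun i _ => xi_smul p φ _ _

lemma xi_mem_span (x : L) :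
    xi p φ x ∈ Ideal.span (Set.range fun i => xi p φ (b i)) := by
  rw [xi_eq_sum p φ b x]
  refine Submodule.sum_mem _ fun i _ => ?_
  rw [Algebra.smul_def]
  exact Ideal.mul_mem_left _ _ (Ideal.subset_span ⟨i, rfl⟩)

end xi

section lead
variable {k : Type*} [CommRing k] (p : ℕ) [hp : Fact p.Prime] [CharP k p]
variable {L : Type*} [LieRing L] [LieAlgebra k L] (φ : PLie.PMap k p L)
variable {ι : Type*} [LinearOrder ι] (b : Module.Basis ι k L)

/-- the central elements `z_i = x_i^p - x_i^[p]`. -/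
noncomputable def zc (i : ι) : Subalgebra.center k (UniversalEnvelopingAlgebra k L) :=
  ⟨xi p φ (b i), xi_mem_center p φ (b i)⟩

lemma zc_coe (i : ι) : (zc p φ b i : UniversalEnvelopingAlgebra k L) = xi p φ (b i) := rfl

lemma isLead_zc (i : ι) :
    IsLead (act b (zc p φ b i : UniversalEnvelopingAlgebra k L)) (p • ({i} : Multiset ι)) := by
  rw [zc_coe, xi, map_sub, map_pow, act_ι, act_ι, rho_basis]
  refine ((isLead_Xop b i).pow p).sub_lower ?_
  intro m v hv
  have h1 := rho_mem b (φ (b i)) (m + 1) v hv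
  have h2 : Multiset.card (p • ({i} : Multiset ι)) = p := by
    rw [Multiset.card_nsmul, Multiset.card_singleton, mul_one]
  rw [h2]
  exact G_mono _ (by have := hp.out.two_le; omega) h1

end lead

end Groth.Agent.Helper7.RU
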