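import Mathlib
import Groth.Prelude.Def_PLie
import Groth.Agent.Helper7.RUc

/-!
# Restricted enveloping algebra, part d: `u(L) = U(L)/(x^p - x^[p])` and its PBW basis
-/

set_option autoImplicit false

namespace Groth.Agent.Helper7.RU

open Groth.Agent.Helper1.PBW

attribute [local instance 100] LieRing.ofAssociativeRing

section defs
variable {k : Type*} [CommRing k] (p : ℕ) [hp : Fact p.Prime] [CharP k p]
variable {L : Type*} [LieRing L] [LieAlgebra k L] (φ : PLie.PMap k p L)

/-- the ideal generated by the `x^p - x^[p]`. -/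
noncomputable def Jp : Ideal (UniversalEnvelopingAlgebra k L) := Ideal.span (Set.range (xi p φ))

lemma xi_mem_Jp (x : L) : xi p φ x ∈ Jp p φ := Ideal.subset_span ⟨x, rfl⟩

instance instIsTwoSidedJp : (Jp p φ).IsTwoSided := ⟨fun {a} b' ha => by
  refine Submodule.span_induction (p := fun a _ => a * b' ∈ Jp p φ) ?_ ?_ ?_ ?_ ha
  · rintro _ ⟨x, rfl⟩
    rw [← (Subalgebra.mem_center_iff.1 (xi_mem_center p φ x)) b']
    exact Ideal.mul_mem_left _ _ (xi_mem_Jp p φ x)
  · rw [zero_mul]; exact Submodule.zero_mem _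
  · intro x y _ _ hx hy; rw [add_mul]; exact Submodule.add_mem _ hx hy
  · intro r x _ hx; rw [smul_eq_mul, mul_assoc]; exact Ideal.mul_mem_left _ _ hx⟩

/-- the restricted enveloping algebra. -/
abbrev Uu : Type _ := UniversalEnvelopingAlgebra k L ⧸ Jp p φ

/-- the quotient map `U(L) → u(L)`. -/
noncomputable abbrev mkU : UniversalEnvelopingAlgebra k L →ₐ[k] Uu p φ := Ideal.Quotient.mkₐ k (Jp p φ)

lemma mkU_surjective : Function.Surjective (mkU p φ) := Ideal.Quotient.mkₐ_surjective k _

lemma mkU_eq_zero_iff (u : UniversalEnvelopingAlgebra k L) : mkU p φ u = 0 ↔ u ∈ Jp p φ :=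
  Ideal.Quotient.eq_zero_iff_mem

/-- the canonical map `L → u(L)`. -/
noncomputable def ιu : L →ₗ[k] Uu p φ :=
  (mkU p φ).toLinearMap ∘ₗ (UniversalEnvelopingAlgebra.ι k : L →ₗ⁅k⁆ _).toLinearMap

lemma ιu_apply (x : L) : ιu p φ x = mkU p φ (UniversalEnvelopingAlgebra.ι k x) := rfl

lemma ιu_lie (x y : L) : ιu p φ ⁅x, y⁆ = ιu p φ x * ιu p φ y - ιu p φ y * ιu p φ x := by
  simp only [ιu_apply, LieHom.map_lie, Ring.lie_def, map_sub, map_mul]

lemma ιu_pmap (x : L) : ιu p φ (φ x) = ιu p φ x ^ p := by
  have h := (mkU_eq_zero_iff p φ _).2 (xi_mem_Jp p φ x)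
  rw [xi, map_sub, map_pow, sub_eq_zero] at h
  rw [ιu_apply, ιu_apply, h]

/-- a subalgebra of `u(L)` containing `L` is everything. -/
lemma subalgebra_eq_top_u (S : Subalgebra k (Uu p φ)) (hS : ∀ x : L, ιu p φ x ∈ S) : S = ⊤ := by
  have h : S.comap (mkU p φ) = ⊤ := subalgebra_eq_top _ fun x => hS x
  rw [eq_top_iff]
  intro u _
  obtain ⟨v, rfl⟩ := mkU_surjective p φ u
  have : v ∈ S.comap (mkU p φ) := h ▸ Algebra.mem_top
  exact this

variable {B : Type*} [Ring B] [Algebra k B]

/-- algebra maps out of `u(L)` are determined by their values on `L`. -/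
lemma hom_ext_u {f g : Uu p φ →ₐ[k] B} (h : ∀ x : L, f (ιu p φ x) = g (ιu p φ x)) : f = g := by
  have hS : AlgHom.equalizer f g = ⊤ := subalgebra_eq_top_u p φ _ h
  ext u
  have : u ∈ AlgHom.equalizer f g := hS ▸ Algebra.mem_top
  exact this

/-- a linear map respecting commutators, as a Lie homomorphism. -/
def mkLieHom (f : L →ₗ[k] B) (hf : ∀ x y : L, f ⁅x, y⁆ = f x * f y - f y * f x) : L →ₗ⁅k⁆ B :=
  { f with map_lie' := fun {x y} => (hf x y).trans (Ring.lie_def _ _).symm }

omit hp [CharP k p] in
lemma mkLieHom_apply (f : L →ₗ[k] B) (hf : ∀ x y : L, f ⁅x, y⁆ = f x * f y - f y * f x) (x : L) :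
    mkLieHom f hf x = f x := rfl

/-- the universal property of `u(L)`. -/
noncomputable def liftU (f : L →ₗ[k] B) (hf : ∀ x y : L, f ⁅x, y⁆ = f x * f y - f y * f x)
    (hfp : ∀ x : L, f (φ x) = f x ^ p) : Uu p φ →ₐ[k] B :=
  Ideal.Quotient.liftₐ (Jp p φ) (UniversalEnvelopingAlgebra.lift k (mkLieHom f hf))
    (by
      intro a ha
      rw [← RingHom.mem_ker]
      revert a
      change Jp p φ ≤ RingHom.ker _
      rw [Jp, Ideal.span_le]
      rintro _ ⟨x, rfl⟩
      rw [SetLike.mem_coe, RingHom.mem_ker, xi]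
      simp only [map_sub, map_pow, UniversalEnvelopingAlgebra.lift_ι_apply, mkLieHom_apply]
      rw [hfp, sub_self])

lemma liftU_ιu (f : L →ₗ[k] B) (hf : ∀ x y : L, f ⁅x, y⁆ = f x * f y - f y * f x)
    (hfp : ∀ x : L, f (φ x) = f x ^ p) (x : L) : liftU p φ f hf hfp (ιu p φ x) = f x := by
  rw [liftU, ιu_apply]
  change Ideal.Quotient.liftₐ (Jp p φ) _ _ (Ideal.Quotient.mk _ _) = _
  rw [Ideal.Quotient.liftₐ_apply, Ideal.Quotient.lift_mk]
  simp only [AlgHom.coe_toRingHom, UniversalEnvelopingAlgebra.lift_ι_apply, mkLieHom_apply]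

end defs

section basis
variable {k : Type*} [CommRing k] (p : ℕ) [hp : Fact p.Prime] [CharP k p]
variable {L : Type*} [LieRing L] [LieAlgebra k L] (φ : PLie.PMap k p L)
variable {ι : Type*} [LinearOrder ι] (b : Module.Basis ι k L)

lemma Jp_eq : Jp p φ = Ideal.span (Set.range fun i => (zc p φ b i : UniversalEnvelopingAlgebra k L)) := by
  apply le_antisymm
  · rw [Jp, Ideal.span_le]
    rintro _ ⟨x, rfl⟩
    exact xi_mem_span p φ b x
  · apply Ideal.span_mono
    rintro _ ⟨i, rfl⟩
    exact ⟨b i, rfl⟩

/-- the basis isomorphism adapted to `Jp`. -/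
noncomputable def PsiU : (Multiset ι →₀ k) ≃ₗ[k] UniversalEnvelopingAlgebra k L :=
  Psi b (zc p φ b) p (isLead_zc p φ b)

lemma PsiU_single_restr {K : Multiset ι} (hK : Restr p K) (r : k) :
    PsiU p φ b (Finsupp.single K r) = r • mon b K :=
  Psi_single_restr b _ p _ hK r

lemma mem_Jp_iff (u : UniversalEnvelopingAlgebra k L) :
    u ∈ Jp p φ ↔ (PsiU p φ b).symm u ∈ Finsupp.supported k k {K : Multiset ι | ¬ Restr p K} := by
  rw [Jp_eq p φ b]
  exact mem_span_iff b _ p _ hp.out.pos u

/-- the restricted ordered monomials in `u(L)`. -/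
noncomputable def monu (M : {M : Multiset ι // Restr p M}) : Uu p φ := mkU p φ (mon b M.1)

lemma linearCombination_monu (l : {M : Multiset ι // Restr p M} →₀ k) :
    Finsupp.linearCombination k (monu p φ b) l =
      mkU p φ (PsiU p φ b (l.mapDomain Subtype.val)) := by
  induction l using Finsupp.induction_linear with
  | zero => simp
  | add v w hv hw => rw [map_add, hv, hw, Finsupp.mapDomain_add, map_add, map_add]
  | single M r =>
    rw [Finsupp.linearCombination_single, Finsupp.mapDomain_single, PsiU_single_restr p φ b M.2,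
      map_smul, monu]

theorem linearIndependent_monu : LinearIndependent k (monu p φ b) := by
  rw [linearIndependent_iff]
  intro l hl
  rw [linearCombination_monu, mkU_eq_zero_iff, mem_Jp_iff p φ b, LinearEquiv.symm_apply_apply] at hl
  have h0 : l.mapDomain Subtype.val = 0 := by
    rw [← Finsupp.support_eq_empty, Finset.eq_empty_iff_forall_notMem]
    intro K hK
    have h1 : ¬ Restr p K := (Finsupp.mem_supported k _).1 hl hK
    have h2 := Finsupp.mapDomain_support hK
    rw [Finset.mem_image] at h2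
    obtain ⟨M, _, rfl⟩ := h2
    exact h1 M.2
  exact Finsupp.mapDomain_injective Subtype.val_injective (h0.trans Finsupp.mapDomain_zero.symm)

theorem span_monu : ⊤ ≤ Submodule.span k (Set.range (monu p φ b)) := by
  intro u hu
  clear hu
  obtain ⟨v, rfl⟩ := mkU_surjective p φ u
  obtain ⟨w, rfl⟩ := (PsiU p φ b).surjective v
  induction w using Finsupp.induction_linear with
  | zero => rw [map_zero, map_zero]; exact Submodule.zero_mem _
  | add v w hv hw => rw [map_add, map_add]; exact Submodule.add_mem _ hv hw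
  | single K r =>
    by_cases hK : Restr p K
    · rw [PsiU_single_restr p φ b hK, map_smul]
      exact Submodule.smul_mem _ _ (Submodule.subset_span ⟨⟨K, hK⟩, rfl⟩)
    · have : PsiU p φ b (Finsupp.single K r) ∈ Jp p φ := by
        rw [mem_Jp_iff p φ b, LinearEquiv.symm_apply_apply]
        exact Finsupp.single_mem_supported k r hK
      rw [(mkU_eq_zero_iff p φ _).2 this]
      exact Submodule.zero_mem _

/-- the restricted PBW basis of `u(L)`. -/
noncomputable def basisU : Module.Basis {M : Multiset ι // Restr p M} k (Uu p φ) :=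
  Module.Basis.mk (linearIndependent_monu p φ b) (span_monu p φ b)

lemma basisU_apply (M : {M : Multiset ι // Restr p M}) : basisU p φ b M = mkU p φ (mon b M.1) := by
  rw [basisU, Module.Basis.mk_apply, monu]

omit hp [CharP k p] in
lemma mon_singleton (i : ι) : mon b ({i} : Multiset ι) = UniversalEnvelopingAlgebra.ι k (b i) := by
  have h : LeAll i (0 : Multiset ι) := fun a ha => absurd ha (Multiset.notMem_zero a)
  have := mon_cons b h
  rwa [mon_zero, mul_one, Multiset.cons_zero] at this

lemma restr_singleton (i : ι) : Restr p ({i} : Multiset ι) := fun j => by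
  have := hp.out.two_le
  rw [Multiset.count_singleton]
  split_ifs <;> omega

lemma ιu_basis (i : ι) : ιu p φ (b i) = basisU p φ b ⟨{i}, restr_singleton p i⟩ := by
  rw [basisU_apply, ιu_apply, mon_singleton]

include b in
theorem ιu_injective : Function.Injective (ιu p φ) := by
  rw [← LinearMap.ker_eq_bot, LinearMap.ker_eq_bot']
  intro x hx
  have h1 : ιu p φ x = ∑ i ∈ (b.repr x).support,
      (b.repr x i) • basisU p φ b ⟨{i}, restr_singleton p i⟩ := by
    conv_lhs => rw [← b.linearCombination_repr x, Finsupp.linearCombination_apply, Finsupp.sum,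
      map_sum]
    exact Finset.sum_congr rfl fun i _ => by rw [map_smul, ιu_basis]
  rw [hx] at h1
  have hinj : Function.Injective fun i : ι => (⟨{i}, restr_singleton p i⟩ : {M : Multiset ι // Restr p M}) := by
    intro i j hij
    exact Multiset.singleton_inj.1 (congrArg Subtype.val hij)
  have hli := ((basisU p φ b).linearIndependent.comp _ hinj)
  rw [linearIndependent_iff'] at hli
  have h2 := hli (b.repr x).support (fun i => b.repr x i) h1.symm
  apply b.repr.injective
  ext i
  by_cases hi : i ∈ (b.repr x).support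
  · rw [h2 i hi, map_zero, Finsupp.zero_apply]
  · rw [Finsupp.notMem_support_iff.1 hi, map_zero, Finsupp.zero_apply]

lemma finite_restr [Finite ι] : Finite {M : Multiset ι // Restr p M} := by
  have : Function.Injective (fun M : {M : Multiset ι // Restr p M} =>
      (fun i => (⟨M.1.count i, M.2 i⟩ : Fin p))) := by
    intro M N h
    apply Subtype.ext
    ext i
    have := congrFun h i
    exact congrArg Fin.val this
  exact Finite.of_injective _ this

include b in
theorem finite_Uu [Finite ι] : Module.Finite k (Uu p φ) := by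
  haveI := finite_restr (ι := ι) p
  exact Module.Finite.of_basis (basisU p φ b)

end basis

end Groth.Agent.Helper7.RU
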