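import Mathlib
import Groth.Prelude.Def_PLie
import Groth.Agent.Helper7.RUd

/-!
# Restricted enveloping algebra, part e: a faithful restricted representation
-/

set_option autoImplicit false

namespace Groth.Agent.Helper7.RU

attribute [local instance 100] LieRing.ofAssociativeRing

theorem exists_faithful_rep (k : Type*) [Field k] (p : ℕ) [Fact p.Prime] [CharP k p]
    (L : Type*) [LieRing L] [LieAlgebra k L] [Module.Finite k L] (φ : PLie.PMap k p L) :
    ∃ (n : ℕ) (e : L →ₗ[k] Matrix (Fin n) (Fin n) k), PLie.IsPSubOfAssoc φ e := by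
  classical
  let b := Module.finBasis k L
  haveI : Module.Finite k (Uu p φ) := finite_Uu p φ b
  let B := Module.finBasis k (Uu p φ)
  let F : Uu p φ →ₐ[k] Matrix (Fin (Module.finrank k (Uu p φ))) (Fin (Module.finrank k (Uu p φ))) k :=
    (LinearMap.toMatrixAlgEquiv B).toAlgHom.comp (Algebra.lmul k (Uu p φ))
  have hF : Function.Injective F := by
    intro u v huv
    exact Algebra.lmul_injective ((LinearMap.toMatrixAlgEquiv B).injective huv)
  refine ⟨_, F.toLinearMap ∘ₗ ιu p φ, ?_, ?_, ?_⟩
  · exact hF.comp (ιu_injective p φ b)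
  · intro x y
    simp only [LinearMap.comp_apply, AlgHom.toLinearMap_apply]
    rw [ιu_lie, map_sub, map_mul, map_mul]
  · intro x
    simp only [LinearMap.comp_apply, AlgHom.toLinearMap_apply]
    rw [ιu_pmap, map_pow]

end Groth.Agent.Helper7.RU
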