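import Mathlib
import Groth.Prelude.Def_PLie
import Groth.Agent.Helper7.RUd

/-!
# Restricted enveloping algebra, part f: the bialgebra structure on `u(L)`
-/

set_option autoImplicit false

namespace Groth.Agent.Helper7.RU

open TensorProduct

attribute [local instance 100] LieRing.ofAssociativeRing

section bialg
variable {k : Type*} [Field k] (p : ℕ) [hp : Fact p.Prime] [CharP k p]
variable {L : Type*} [LieRing L] [LieAlgebra k L] (φ : PLie.PMap k p L)

/-- the counit of `u(L)`. -/
noncomputable def counitU : Uu p φ →ₐ[k] k :=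
  liftU p φ (0 : L →ₗ[k] k) (fun x y => by simp) (fun x => by simp [zero_pow hp.out.ne_zero])

lemma counitU_ιu (x : L) : counitU p φ (ιu p φ x) = 0 := by
  rw [counitU, liftU_ιu]; rfl

instance instNontrivialUu : Nontrivial (Uu p φ) := (counitU p φ).toRingHom.domain_nontrivial

instance instCharPUu : CharP (Uu p φ) p :=
  charP_of_injective_algebraMap (algebraMap k (Uu p φ)).injective p

instance instNontrivialUuUu : Nontrivial (Uu p φ ⊗[k] Uu p φ) :=
  ((Algebra.TensorProduct.lmul' k (S := k)).comp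
    (Algebra.TensorProduct.map (counitU p φ) (counitU p φ))).toRingHom.domain_nontrivial

instance instCharPUuUu : CharP (Uu p φ ⊗[k] Uu p φ) p :=
  charP_of_injective_algebraMap (algebraMap k (Uu p φ ⊗[k] Uu p φ)).injective p

/-- `x ↦ x ⊗ 1 + 1 ⊗ x`. -/
noncomputable def primMap : L →ₗ[k] Uu p φ ⊗[k] Uu p φ :=
  (TensorProduct.mk k _ _).flip 1 ∘ₗ ιu p φ + TensorProduct.mk k _ _ 1 ∘ₗ ιu p φ

lemma primMap_apply (x : L) : primMap p φ x = ιu p φ x ⊗ₜ 1 + 1 ⊗ₜ ιu p φ x := rfl

lemma primMap_lie (x y : L) :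
    primMap p φ ⁅x, y⁆ = primMap p φ x * primMap p φ y - primMap p φ y * primMap p φ x := by
  simp only [primMap_apply, ιu_lie, mul_add, add_mul, Algebra.TensorProduct.tmul_mul_tmul, mul_one,
    one_mul, TensorProduct.sub_tmul, TensorProduct.tmul_sub]
  abel

lemma primMap_pmap (x : L) : primMap p φ (φ x) = primMap p φ x ^ p := by
  have hc : Commute (ιu p φ x ⊗ₜ[k] (1 : Uu p φ)) ((1 : Uu p φ) ⊗ₜ[k] ιu p φ x) := by
    rw [Commute, SemiconjBy, Algebra.TensorProduct.tmul_mul_tmul, Algebra.TensorProduct.tmul_mul_tmul,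
      mul_one, one_mul]
  rw [primMap_apply, primMap_apply, add_pow_char_of_commute p hc, Algebra.TensorProduct.tmul_pow,
    Algebra.TensorProduct.tmul_pow, one_pow, ιu_pmap]

/-- the comultiplication of `u(L)`. -/
noncomputable def comulU : Uu p φ →ₐ[k] Uu p φ ⊗[k] Uu p φ :=
  liftU p φ (primMap p φ) (primMap_lie p φ) (primMap_pmap p φ)

lemma comulU_ιu (x : L) : comulU p φ (ιu p φ x) = ιu p φ x ⊗ₜ 1 + 1 ⊗ₜ ιu p φ x := by
  rw [comulU, liftU_ιu, primMap_apply]

noncomputable instance instBialgebraUu : Bialgebra k (Uu p φ) :=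
  .ofAlgHom (comulU p φ) (counitU p φ)
    (by
      apply hom_ext_u
      intro x
      simp only [AlgHom.comp_apply, comulU_ιu, map_add, Algebra.TensorProduct.map_tmul, map_one,
        AlgHom.id_apply, Algebra.TensorProduct.one_def,
        TensorProduct.add_tmul, TensorProduct.tmul_add]
      abel)
    (by
      apply hom_ext_u
      intro x
      simp [comulU_ιu, counitU_ιu])
    (by
      apply hom_ext_u
      intro x
      simp [comulU_ιu, counitU_ιu])

lemma comul_ιu (x : L) :
    Coalgebra.comul (R := k) (ιu p φ x) = ιu p φ x ⊗ₜ 1 + 1 ⊗ₜ ιu p φ x := comulU_ιu p φ x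

lemma counit_ιu (x : L) : Coalgebra.counit (R := k) (ιu p φ x) = 0 := counitU_ιu p φ x

lemma comulAlgHom_eq : Bialgebra.comulAlgHom k (Uu p φ) = comulU p φ := rfl

lemma counitAlgHom_eq : Bialgebra.counitAlgHom k (Uu p φ) = counitU p φ := rfl

instance instIsCocommUu : Coalgebra.IsCocomm k (Uu p φ) where
  comm_comp_comul := by
    have h : (Algebra.TensorProduct.comm k (Uu p φ) (Uu p φ)).toAlgHom.comp
        (Bialgebra.comulAlgHom k _) = Bialgebra.comulAlgHom k (Uu p φ) := by
      apply hom_ext_u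
      intro x
      simp only [AlgHom.comp_apply, comulAlgHom_eq, comulU_ιu, map_add, AlgEquiv.coe_toAlgHom,
        Algebra.TensorProduct.comm_tmul]
      abel
    exact congr(($h).toLinearMap)

end bialg

end Groth.Agent.Helper7.RU
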