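import Mathlib

/-!
# Antipode axioms from generators
-/

set_option autoImplicit false

namespace Groth.Agent.Helper7.RU

open TensorProduct

section general
variable {k A : Type*} [CommRing k] [Ring A] [Bialgebra k A] (s : A →ₗ[k] A)

/-- `c ⊗ d ↦ (w ↦ s c * w * d)`. -/
noncomputable def sandR : A ⊗[k] A →ₗ[k] Module.End k A :=
  TensorProduct.lift (LinearMap.mk₂ k (fun c d => LinearMap.mulRight k d ∘ₗ LinearMap.mulLeft k (s c))
    (fun c c' d => by ext w; simp [add_mul])
    (fun r c d => by ext w; simp)
    (fun c d d' => by ext w; simp [mul_add])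
    (fun r c d => by ext w; simp))

@[simp] lemma sandR_tmul (c d w : A) : sandR s (c ⊗ₜ d) w = s c * w * d := by
  simp [sandR]

/-- `a ⊗ b ↦ (w ↦ a * w * s b)`. -/
noncomputable def sandL : A ⊗[k] A →ₗ[k] Module.End k A :=
  TensorProduct.lift (LinearMap.mk₂ k (fun a b => LinearMap.mulRight k (s b) ∘ₗ LinearMap.mulLeft k a)
    (fun c c' d => by ext w; simp [add_mul])
    (fun r c d => by ext w; simp)
    (fun c d d' => by ext w; simp [mul_add])
    (fun r c d => by ext w; simp))

@[simp] lemma sandL_tmul (a b w : A) : sandL s (a ⊗ₜ b) w = a * w * s b := by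
  simp [sandL]

lemma sandR_one (t : A ⊗[k] A) : sandR s t 1 = LinearMap.mul' k A (s.rTensor A t) := by
  induction t using TensorProduct.induction_on with
  | zero => simp
  | tmul a b => simp
  | add x y hx hy => simp only [map_add, LinearMap.add_apply, hx, hy]

lemma sandL_one (t : A ⊗[k] A) : sandL s t 1 = LinearMap.mul' k A (s.lTensor A t) := by
  induction t using TensorProduct.induction_on with
  | zero => simp
  | tmul a b => simp
  | add x y hx hy => simp only [map_add, LinearMap.add_apply, hx, hy]

variable (hsm : ∀ a b, s (a * b) = s b * s a)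
include hsm

lemma sandR_mul (t r : A ⊗[k] A) (w : A) : sandR s (t * r) w = sandR s r (sandR s t w) := by
  induction t using TensorProduct.induction_on with
  | zero => simp
  | add x y hx hy => simp only [add_mul, map_add, LinearMap.add_apply, hx, hy]
  | tmul a b =>
    induction r using TensorProduct.induction_on with
    | zero => simp
    | add x y hx hy => simp only [mul_add, map_add, LinearMap.add_apply, hx, hy]
    | tmul c d =>
      rw [Algebra.TensorProduct.tmul_mul_tmul, sandR_tmul, sandR_tmul, sandR_tmul, hsm]
      noncomm_ring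

lemma sandL_mul (t r : A ⊗[k] A) (w : A) : sandL s (t * r) w = sandL s t (sandL s r w) := by
  induction t using TensorProduct.induction_on with
  | zero => simp
  | add x y hx hy => simp only [add_mul, map_add, LinearMap.add_apply, hx, hy]
  | tmul a b =>
    induction r using TensorProduct.induction_on with
    | zero => simp
    | add x y hx hy => simp only [mul_add, map_add, LinearMap.add_apply, hx, hy]
    | tmul c d =>
      rw [Algebra.TensorProduct.tmul_mul_tmul, sandL_tmul, sandL_tmul, sandL_tmul, hsm]
      noncomm_ring

variable (hs1 : s 1 = 1)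
include hs1

/-- the elements satisfying the antipode axioms form a subalgebra. -/
noncomputable def antipodeSubalgebra : Subalgebra k A where
  carrier := {u | LinearMap.mul' k A (s.rTensor A (Coalgebra.comul (R := k) u)) =
      algebraMap k A (Coalgebra.counit (R := k) u) ∧
    LinearMap.mul' k A (s.lTensor A (Coalgebra.comul (R := k) u)) =
      algebraMap k A (Coalgebra.counit (R := k) u)}
  mul_mem' := by
    rintro u v ⟨hu1, hu2⟩ ⟨hv1, hv2⟩
    rw [← sandR_one] at hu1 hv1
    rw [← sandL_one] at hu2 hv2
    refine ⟨?_, ?_⟩
    · rw [← sandR_one, Bialgebra.comul_mul, sandR_mul s hsm, hu1, Algebra.algebraMap_eq_smul_one,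
        map_smul, hv1, Bialgebra.counit_mul, map_mul, Algebra.smul_def]
    · rw [← sandL_one, Bialgebra.comul_mul, sandL_mul s hsm, hv2, Algebra.algebraMap_eq_smul_one,
        map_smul, hu2, Bialgebra.counit_mul, map_mul, Algebra.smul_def]
      exact Algebra.commutes _ _
  add_mem' := by
    rintro u v ⟨hu1, hu2⟩ ⟨hv1, hv2⟩
    exact ⟨by simp only [map_add, hu1, hv1], by simp only [map_add, hu2, hv2]⟩
  algebraMap_mem' := by
    intro r
    refine ⟨?_, ?_⟩
    · rw [Bialgebra.comul_algebraMap, Bialgebra.counit_algebraMap]
      simp [Algebra.TensorProduct.one_def, hs1, Algebra.algebraMap_eq_smul_one]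
    · rw [Bialgebra.comul_algebraMap, Bialgebra.counit_algebraMap]
      simp [Algebra.TensorProduct.one_def, hs1, Algebra.algebraMap_eq_smul_one]

lemma mem_antipodeSubalgebra (u : A) : u ∈ antipodeSubalgebra s hsm hs1 ↔
    (LinearMap.mul' k A (s.rTensor A (Coalgebra.comul (R := k) u)) =
      algebraMap k A (Coalgebra.counit (R := k) u) ∧
    LinearMap.mul' k A (s.lTensor A (Coalgebra.comul (R := k) u)) =
      algebraMap k A (Coalgebra.counit (R := k) u)) := Iff.rfl

/-- a Hopf algebra structure from an anti-multiplicative antipode satisfying the axioms on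
generators. -/
@[instance_reducible]
noncomputable def hopfOfSubalgebraTop (h : antipodeSubalgebra s hsm hs1 = ⊤) : HopfAlgebra k A where
  antipode := s
  mul_antipode_rTensor_comul := by
    ext u
    have : u ∈ antipodeSubalgebra s hsm hs1 := h ▸ Algebra.mem_top
    simpa using this.1
  mul_antipode_lTensor_comul := by
    ext u
    have : u ∈ antipodeSubalgebra s hsm hs1 := h ▸ Algebra.mem_top
    simpa using this.2

end general

end Groth.Agent.Helper7.RU
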