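import Mathlib
import Groth.Prelude.Def_PLie
import Groth.Agent.Helper7.RUf
import Groth.Agent.Helper7.RUg

/-!
# Restricted enveloping algebra, part h: the Hopf algebra structure on `u(L)`
-/

set_option autoImplicit false

namespace Groth.Agent.Helper7.RU

open TensorProduct

attribute [local instance 100] LieRing.ofAssociativeRing

section hopf
variable {k : Type*} [Field k] (p : ℕ) [hp : Fact p.Prime] [CharP k p]
variable {L : Type*} [LieRing L] [LieAlgebra k L] (φ : PLie.PMap k p L)

/-- `x ↦ op (-x)`. -/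
noncomputable def negOp : L →ₗ[k] (Uu p φ)ᵐᵒᵖ :=
  (MulOpposite.opLinearEquiv k).toLinearMap ∘ₗ (-(ιu p φ))

lemma negOp_apply (x : L) : negOp p φ x = MulOpposite.op (-(ιu p φ x)) := rfl

lemma negOp_lie (x y : L) :
    negOp p φ ⁅x, y⁆ = negOp p φ x * negOp p φ y - negOp p φ y * negOp p φ x := by
  simp only [negOp_apply, ιu_lie, ← MulOpposite.op_mul, ← MulOpposite.op_sub]
  congr 1
  noncomm_ring

lemma negOp_pmap (x : L) : negOp p φ (φ x) = negOp p φ x ^ p := by
  rw [negOp_apply, negOp_apply, ← MulOpposite.op_pow, ιu_pmap, neg_pow, neg_one_pow_char (Uu p φ) p,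
    neg_one_mul]

/-- the antipode as an algebra map to the opposite algebra. -/
noncomputable def antipodeOp : Uu p φ →ₐ[k] (Uu p φ)ᵐᵒᵖ :=
  liftU p φ (negOp p φ) (negOp_lie p φ) (negOp_pmap p φ)

/-- the antipode of `u(L)`. -/
noncomputable def antipodeU : Uu p φ →ₗ[k] Uu p φ :=
  (MulOpposite.opLinearEquiv k).symm.toLinearMap ∘ₗ (antipodeOp p φ).toLinearMap

lemma antipodeU_apply (u : Uu p φ) : antipodeU p φ u = MulOpposite.unop (antipodeOp p φ u) := rfl

lemma antipodeU_ιu (x : L) : antipodeU p φ (ιu p φ x) = - ιu p φ x := by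
  rw [antipodeU_apply, antipodeOp, liftU_ιu, negOp_apply, MulOpposite.unop_op]

lemma antipodeU_mul (a b : Uu p φ) : antipodeU p φ (a * b) = antipodeU p φ b * antipodeU p φ a := by
  rw [antipodeU_apply, map_mul, MulOpposite.unop_mul]; rfl

lemma antipodeU_one : antipodeU p φ 1 = 1 := by
  rw [antipodeU_apply, map_one, MulOpposite.unop_one]

lemma antipodeSubalgebra_eq_top :
    antipodeSubalgebra (antipodeU p φ) (antipodeU_mul p φ) (antipodeU_one p φ) = ⊤ := by
  apply subalgebra_eq_top_u
  intro x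
  rw [mem_antipodeSubalgebra, comul_ιu, counit_ιu]
  simp [antipodeU_ιu, antipodeU_one]

noncomputable instance instHopfAlgebraUu : HopfAlgebra k (Uu p φ) :=
  hopfOfSubalgebraTop (antipodeU p φ) (antipodeU_mul p φ) (antipodeU_one p φ)
    (antipodeSubalgebra_eq_top p φ)

lemma antipode_ιu (x : L) : HopfAlgebra.antipode k (ιu p φ x) = - ιu p φ x := antipodeU_ιu p φ x

end hopf

end Groth.Agent.Helper7.RU
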