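import Mathlib
import Groth.Prelude.Def_CartDual2

/-!
# Dual of a cocommutative Hopf algebra generated by primitives in characteristic `p`:
`p`-th powers in the dual
-/

set_option autoImplicit false

namespace Groth.Agent.Helper7.RU

open TensorProduct CartDual

section frob
variable {k : Type*} [Field k] (p : ℕ) [hp : Fact p.Prime] [CharP k p]
variable {H : Type*} [Ring H] [HopfAlgebra k H] [Coalgebra.IsCocomm k H] [Module.Finite k H]

instance instNontrivialD : Nontrivial (D k H) :=
  (Bialgebra.counitAlgHom k (D k H)).toRingHom.domain_nontrivial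

instance instCharPD : CharP (D k H) p :=
  charP_of_injective_algebraMap (algebraMap k (D k H)).injective p

instance instNontrivialDD : Nontrivial (D k H ⊗[k] D k H) :=
  ((Algebra.TensorProduct.lmul' k (S := k)).comp
    (Algebra.TensorProduct.map (Bialgebra.counitAlgHom k (D k H))
      (Bialgebra.counitAlgHom k (D k H)))).toRingHom.domain_nontrivial

instance instCharPDD : CharP (D k H ⊗[k] D k H) p :=
  charP_of_injective_algebraMap (algebraMap k (D k H ⊗[k] D k H)).injective p

omit hp [CharP k p] in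
lemma pow_apply_one (f : D k H) (n : ℕ) : (f ^ n) 1 = (f 1) ^ n := by
  exact map_pow (Bialgebra.counitAlgHom k (D k H)) f n

omit hp [CharP k p] [Coalgebra.IsCocomm k H] in
lemma mul_apply_prim (f g : D k H) {x : H}
    (hx : Coalgebra.comul (R := k) x = x ⊗ₜ 1 + 1 ⊗ₜ x) : (f * g) x = f x * g 1 + f 1 * g x := by
  rw [LinearMap.convMul_apply, hx]
  simp [coe_apply]

omit hp [CharP k p] in
lemma pow_apply_prim (f : D k H) {x : H}
    (hx : Coalgebra.comul (R := k) x = x ⊗ₜ 1 + 1 ⊗ₜ x) (n : ℕ) :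
    (f ^ (n + 1)) x = (n + 1 : ℕ) * (f 1) ^ n * f x := by
  induction n with
  | zero =>
    simp
  | succ n ih =>
    rw [pow_succ, mul_apply_prim _ _ hx, ih, pow_apply_one]
    push_cast
    ring

lemma pow_p_apply_prim (f : D k H) {x : H}
    (hx : Coalgebra.comul (R := k) x = x ⊗ₜ 1 + 1 ⊗ₜ x) : (f ^ p) x = 0 := by
  obtain ⟨n, hn⟩ := Nat.exists_eq_succ_of_ne_zero hp.out.ne_zero
  rw [hn, pow_apply_prim f hx, ← Nat.succ_eq_add_one, ← hn, CharP.cast_eq_zero, zero_mul, zero_mul]

/-- the key multiplicativity: Frobenius on `D ⊗ D`. -/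
lemma ev₂_pow_p (u v : H)
    (hu : ∀ f : D k H, (f ^ p) u = (f 1) ^ p * Coalgebra.counit (R := k) u)
    (hv : ∀ f : D k H, (f ^ p) v = (f 1) ^ p * Coalgebra.counit (R := k) v)
    (y : D k H ⊗[k] D k H) :
    ev₂ k H (y ^ p) (u ⊗ₜ v) =
      (ev₂ k H y (1 ⊗ₜ 1)) ^ p * (Coalgebra.counit (R := k) u * Coalgebra.counit (R := k) v) := by
  induction y using TensorProduct.induction_on with
  | zero =>
    rw [zero_pow (M₀ := D k H ⊗[k] D k H) hp.out.ne_zero]
    simp [zero_pow hp.out.ne_zero]
  | tmul a b =>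
    rw [Algebra.TensorProduct.tmul_pow, ev₂_tmul, ev₂_tmul, hu, hv, mul_pow]
    ring
  | add y y' hy hy' =>
    rw [add_pow_char (R := D k H ⊗[k] D k H) y y' p, map_add, LinearMap.add_apply, hy, hy',
      map_add, LinearMap.add_apply, add_pow_char, add_mul]

variable (S : Set H) (hS : Algebra.adjoin k S = ⊤)
  (hprim : ∀ x ∈ S, Coalgebra.comul (R := k) x = x ⊗ₜ 1 + 1 ⊗ₜ x)
  (hcounit : ∀ x ∈ S, Coalgebra.counit (R := k) x = 0)
include hS hprim hcounit

theorem pow_p_apply (f : D k H) (u : H) :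
    (f ^ p) u = (f 1) ^ p * Coalgebra.counit (R := k) u := by
  have hu : u ∈ Algebra.adjoin k S := hS ▸ Algebra.mem_top
  revert f
  induction hu using Algebra.adjoin_induction with
  | mem x hx =>
    intro f
    rw [pow_p_apply_prim p f (hprim x hx), hcounit x hx, mul_zero]
  | algebraMap r =>
    intro f
    have h2 : Coalgebra.counit (R := k) (algebraMap k H r) = r := Bialgebra.counit_algebraMap r
    have : (f ^ p) (algebraMap k H r) = r * (f ^ p) 1 := by
      rw [Algebra.algebraMap_eq_smul_one, coe_apply, map_smul, smul_eq_mul, ← coe_apply]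
    rw [this, pow_apply_one, mul_comm, h2]
  | add x y _ _ hx hy =>
    intro f
    have : (f ^ p) (x + y) = (f ^ p) x + (f ^ p) y := by
      rw [coe_apply, map_add, ← coe_apply, ← coe_apply]
    rw [this, hx, hy, map_add, mul_add]
  | mul x y _ _ hx hy =>
    intro f
    have h1 : (f ^ p) (x * y) = ev₂ k H (Coalgebra.comul (R := k) (f ^ p)) (x ⊗ₜ y) :=
      (ev₂_coalgebra_comul_tmul k H _ x y).symm
    rw [h1, Bialgebra.comul_pow, ev₂_pow_p p x y hx hy, ev₂_coalgebra_comul_tmul, mul_one,
      Bialgebra.counit_mul]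

theorem pow_p_eq_zero (f : D k H) (hf : Bialgebra.counitAlgHom k (D k H) f = 0) : f ^ p = 0 := by
  have h1 : f 1 = 0 := hf
  apply WithConv.ext
  apply LinearMap.ext
  intro u
  have := pow_p_apply p S hS hprim hcounit f u
  rw [h1, zero_pow hp.out.ne_zero, zero_mul] at this
  exact this

end frob

end Groth.Agent.Helper7.RU
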