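import Mathlib
import Groth.Prelude.Def_CartDual2

/-!
# Left-invariant derivations of the dual of a finite-dimensional cocommutative Hopf algebra
-/

set_option autoImplicit false

namespace Groth.Agent.Helper7.RU

open TensorProduct CartDual

section der
variable {k : Type*} [Field k]
variable {H : Type*} [Ring H] [HopfAlgebra k H] [Coalgebra.IsCocomm k H] [Module.Finite k H]

/-- right multiplication transposed, `(Rm y f) u = f (u * y)`, as a linear map in `y`. -/
noncomputable def RmLin : H →ₗ[k] Module.End k (D k H) where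
  toFun y := transposeLin k (LinearMap.mulRight k y)
  map_add' y y' := by
    apply LinearMap.ext; intro f; apply WithConv.ext; apply LinearMap.ext; intro u
    simp [transposeLin, mul_add]
  map_smul' r y := by
    apply LinearMap.ext; intro f; apply WithConv.ext; apply LinearMap.ext; intro u
    simp [transposeLin]

omit [Coalgebra.IsCocomm k H] [Module.Finite k H] in
@[simp] lemma RmLin_apply (y : H) (f : D k H) (u : H) : RmLin y f u = f (u * y) := rfl

/-- `Rm` as an algebra homomorphism `H → End (D k H)`. -/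
noncomputable def Rm : H →ₐ[k] Module.End k (D k H) :=
  AlgHom.ofLinearMap RmLin
    (by
      apply LinearMap.ext; intro f; apply WithConv.ext; apply LinearMap.ext; intro u
      simp [coe_apply])
    (by
      intro y y'
      apply LinearMap.ext; intro f; apply WithConv.ext; apply LinearMap.ext; intro u
      change RmLin (y * y') f u = RmLin y (RmLin y' f) u
      rw [RmLin_apply, RmLin_apply, RmLin_apply, mul_assoc])

omit [Coalgebra.IsCocomm k H] [Module.Finite k H] in
@[simp] lemma Rm_apply (y : H) (f : D k H) (u : H) : Rm y f u = f (u * y) := rfl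

omit [Coalgebra.IsCocomm k H] [Module.Finite k H] in
lemma Rm_leibniz_aux {x : H} (f g : D k H) (t : H ⊗[k] H) :
    LinearMap.mul' k k (TensorProduct.map f.ofConv g.ofConv (t * (x ⊗ₜ 1 + 1 ⊗ₜ x))) =
      LinearMap.mul' k k (TensorProduct.map (Rm x f).ofConv g.ofConv t) +
      LinearMap.mul' k k (TensorProduct.map f.ofConv (Rm x g).ofConv t) := by
  induction t using TensorProduct.induction_on with
  | zero => simp
  | tmul a b =>
    rw [mul_add, Algebra.TensorProduct.tmul_mul_tmul, Algebra.TensorProduct.tmul_mul_tmul, map_add,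
      map_add]
    simp only [TensorProduct.map_tmul, LinearMap.mul'_apply, mul_one]
    rfl
  | add t t' ht ht' =>
    rw [add_mul, map_add, map_add, ht, ht', map_add, map_add, map_add, map_add]
    abel

omit [Coalgebra.IsCocomm k H] [Module.Finite k H] in
lemma Rm_leibniz {x : H} (hx : Coalgebra.comul (R := k) x = x ⊗ₜ 1 + 1 ⊗ₜ x) (f g : D k H) :
    Rm x (f * g) = Rm x f * g + f * Rm x g := by
  apply WithConv.ext; apply LinearMap.ext; intro u
  change (f * g) (u * x) = (Rm x f * g) u + (f * Rm x g) u
  rw [LinearMap.convMul_apply, LinearMap.convMul_apply, LinearMap.convMul_apply,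
    Bialgebra.comul_mul, hx, Rm_leibniz_aux]

/-- the derivation attached to a primitive element. -/
noncomputable def derOfPrim {x : H} (hx : Coalgebra.comul (R := k) x = x ⊗ₜ 1 + 1 ⊗ₜ x) :
    Derivation k (D k H) (D k H) :=
  Derivation.mk' (Rm x) (fun f g => by
    rw [Rm_leibniz hx, smul_eq_mul, smul_eq_mul, mul_comm g, add_comm])

lemma derOfPrim_toLinearMap {x : H} (hx : Coalgebra.comul (R := k) x = x ⊗ₜ 1 + 1 ⊗ₜ x) :
    (derOfPrim hx).toLinearMap = Rm x := rfl

lemma derOfPrim_apply {x : H} (hx : Coalgebra.comul (R := k) x = x ⊗ₜ 1 + 1 ⊗ₜ x) (f : D k H)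
    (u : H) : derOfPrim hx f u = f (u * x) := rfl

omit [Coalgebra.IsCocomm k H] in
lemma ev₂_lTensor_Rm (y : H) (t : D k H ⊗[k] D k H) (u v : H) :
    ev₂ k H ((Rm y).lTensor (D k H) t) (u ⊗ₜ v) = ev₂ k H t (u ⊗ₜ (v * y)) := by
  induction t using TensorProduct.induction_on with
  | zero => simp
  | tmul a b => simp
  | add t t' ht ht' => simp only [map_add, LinearMap.add_apply, ht, ht']

omit [Coalgebra.IsCocomm k H] in
/-- `Rm y` is left invariant. -/
lemma comul_Rm (y : H) :
    CoalgebraStruct.comul (R := k) (A := D k H) ∘ₗ (Rm y) =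
      LinearMap.lTensor (D k H) (Rm y) ∘ₗ CoalgebraStruct.comul (R := k) (A := D k H) := by
  apply LinearMap.ext; intro f
  apply (ev₂ k H).injective
  apply TensorProduct.ext'
  intro u v
  simp only [LinearMap.coe_comp, Function.comp_apply]
  rw [ev₂_lTensor_Rm, ev₂_coalgebra_comul_tmul, ev₂_coalgebra_comul_tmul, Rm_apply, mul_assoc]

omit [Coalgebra.IsCocomm k H] in
lemma ev₂_lTensor_of (E : D k H →ₗ[k] D k H) (y : H) (hy : ∀ f : D k H, f y = E f 1)
    (t : D k H ⊗[k] D k H) (u : H) :
    ev₂ k H (E.lTensor (D k H) t) (u ⊗ₜ 1) = ev₂ k H t (u ⊗ₜ y) := by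
  induction t using TensorProduct.induction_on with
  | zero => simp
  | tmul a b => simp [hy]
  | add t t' ht ht' => simp only [map_add, LinearMap.add_apply, ht, ht']

omit [Coalgebra.IsCocomm k H] in
/-- a left-invariant endomorphism is right multiplication by an element. -/
lemma exists_eq_Rm (E : D k H →ₗ[k] D k H)
    (hE : CoalgebraStruct.comul (R := k) (A := D k H) ∘ₗ E =
      LinearMap.lTensor (D k H) E ∘ₗ CoalgebraStruct.comul (R := k) (A := D k H)) :
    ∃ y : H, E = Rm y := by
  let δ : Module.Dual k (Module.Dual k H) :=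
    (LinearMap.applyₗ (1 : H)) ∘ₗ (toDual k H).toLinearMap ∘ₗ E ∘ₗ (toDual k H).symm.toLinearMap
  let y : H := (Module.evalEquiv k H).symm δ
  have hy : ∀ f : D k H, f y = E f 1 := by
    intro f
    have := Module.apply_evalEquiv_symm_apply k H (toDual k H f) δ
    exact this
  refine ⟨y, ?_⟩
  apply LinearMap.ext; intro f; apply WithConv.ext; apply LinearMap.ext; intro u
  have h1 : ev₂ k H (Coalgebra.comul (R := k) (E f)) (u ⊗ₜ 1) = E f u := by
    rw [ev₂_coalgebra_comul_tmul, mul_one]
  have h2 := congrArg (fun g => g f) hE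
  simp only [LinearMap.coe_comp, Function.comp_apply] at h2
  change E f u = f (u * y)
  rw [← h1, h2, ev₂_lTensor_of E y hy, ev₂_coalgebra_comul_tmul]

omit [Coalgebra.IsCocomm k H] in
lemma eq_zero_of_ev₂ (w : H ⊗[k] H) (h : ∀ f g : D k H, ev₂ k H (f ⊗ₜ g) w = 0) : w = 0 := by
  rw [← Module.forall_dual_apply_eq_zero_iff k w]
  intro F
  obtain ⟨t, rfl⟩ := (ev₂ k H).surjective F
  induction t using TensorProduct.induction_on with
  | zero => simp
  | tmul a b => exact h a b
  | add t t' ht ht' => rw [map_add, LinearMap.add_apply, ht, ht', add_zero]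

/-- if right multiplication by `y` is a derivation then `y` is primitive. -/
lemma prim_of_derivation (Dv : Derivation k (D k H) (D k H)) (y : H) (hy : Dv.toLinearMap = Rm y) :
    Coalgebra.comul (R := k) y = y ⊗ₜ 1 + 1 ⊗ₜ y := by
  rw [← sub_eq_zero]
  apply eq_zero_of_ev₂
  intro f g
  have hD : ∀ h : D k H, Dv h = Rm y h := fun h => congrArg (fun E => E h) hy
  have h1 : ev₂ k H (f ⊗ₜ g) (Coalgebra.comul (R := k) y) = (f * g) y := by
    rw [ev₂_tmul_eq', LinearMap.convMul_apply]; rfl
  have h2 : (f * g) y = f 1 * g y + g 1 * f y := by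
    have h3 : (f * g) y = Dv (f * g) 1 := by rw [hD, Rm_apply, one_mul]
    have h4 : ∀ a b : D k H, (a * b) 1 = a 1 * b 1 := fun a b => counit_mul' k H a b
    rw [h3, Derivation.leibniz, smul_eq_mul, smul_eq_mul]
    change (f * Dv g) 1 + (g * Dv f) 1 = _
    rw [h4, h4, hD, hD, Rm_apply, Rm_apply, one_mul]
  rw [map_sub, map_add, h1, h2, ev₂_tmul, ev₂_tmul]
  ring

end der

end Groth.Agent.Helper7.RU
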