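import Mathlib
import Groth.Prelude.Def_PLie
import Groth.Agent.Helper7.RUh

/-!
# Restricted enveloping algebra, part k: the primitive elements of `u(L)` are `L`
-/

set_option autoImplicit false

namespace Groth.Agent.Helper7.RU

open TensorProduct Groth.Agent.Helper1.PBW

attribute [local instance 100] LieRing.ofAssociativeRing

section prim
variable {k : Type*} [Field k] (p : ℕ) [hp : Fact p.Prime] [CharP k p]
variable {L : Type*} [LieRing L] [LieAlgebra k L] (φ : PLie.PMap k p L)
variable {ι : Type*} [LinearOrder ι] (b : Module.Basis ι k L)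

/-- ordered monomials in `u(L)` (for all multisets). -/
noncomputable def mu (M : Multiset ι) : Uu p φ := mkU p φ (mon b M)

lemma mu_zero : mu p φ b 0 = 1 := by rw [mu, mon_zero, map_one]

lemma mu_cons {j : ι} {M : Multiset ι} (h : LeAll j M) :
    mu p φ b (j ::ₘ M) = ιu p φ (b j) * mu p φ b M := by
  rw [mu, mon_cons b h, map_mul, ιu_apply, mu]

lemma mu_singleton (i : ι) : mu p φ b {i} = ιu p φ (b i) := by
  rw [mu, mon_singleton, ιu_apply]

lemma basisU_eq_mu (K : {M : Multiset ι // Restr p M}) : basisU p φ b K = mu p φ b K.1 :=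
  basisU_apply p φ b K

omit hp [CharP k p] in
lemma leAll_of_le {j : ι} {B M : Multiset ι} (h : LeAll j M) (hB : B ≤ M) : LeAll j B :=
  fun a ha => h a (Multiset.mem_of_le hB ha)

lemma comul_mu (M : Multiset ι) :
    Coalgebra.comul (R := k) (mu p φ b M) =
      ((Multiset.antidiagonal M).map (fun q => mu p φ b q.1 ⊗ₜ[k] mu p φ b q.2)).sum := by
  induction M using induction_leAll with
  | h0 =>
    rw [mu_zero, Bialgebra.comul_one, Multiset.antidiagonal_zero, Multiset.map_singleton,
      Multiset.sum_singleton, mu_zero, Algebra.TensorProduct.one_def]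
  | hc j M hjM ih =>
    rw [mu_cons p φ b hjM, Bialgebra.comul_mul, ih, comul_ιu, add_mul, ← Multiset.sum_map_mul_left,
      ← Multiset.sum_map_mul_left, Multiset.antidiagonal_cons, Multiset.map_add, Multiset.sum_add,
      Multiset.map_map, Multiset.map_map, add_comm]
    congr 1
    · congr 1
      refine Multiset.map_congr rfl fun q hq => ?_
      rw [Multiset.mem_antidiagonal] at hq
      have hC : LeAll j q.2 := leAll_of_le hjM (hq ▸ Multiset.le_add_left _ _)
      simp only [Function.comp_apply, Prod.map_fst, Prod.map_snd, id_eq,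
        Algebra.TensorProduct.tmul_mul_tmul, one_mul, mu_cons p φ b hC]
    · congr 1
      refine Multiset.map_congr rfl fun q hq => ?_
      rw [Multiset.mem_antidiagonal] at hq
      have hB : LeAll j q.1 := leAll_of_le hjM (hq ▸ Multiset.le_add_right _ _)
      simp only [Function.comp_apply, Prod.map_fst, Prod.map_snd, id_eq,
        Algebra.TensorProduct.tmul_mul_tmul, one_mul, mu_cons p φ b hB]

lemma counit_mu (M : Multiset ι) :
    Coalgebra.counit (R := k) (mu p φ b M) = if M = 0 then 1 else 0 := by
  induction M using induction_leAll with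
  | h0 => rw [mu_zero, Bialgebra.counit_one, if_pos rfl]
  | hc j M hjM _ =>
    rw [mu_cons p φ b hjM, Bialgebra.counit_mul, counit_ιu, zero_mul,
      if_neg (Multiset.cons_ne_zero)]

/-- the coordinate functional of `x_i`. -/
noncomputable def piC (i : ι) : Uu p φ →ₗ[k] k :=
  (basisU p φ b).coord ⟨{i}, restr_singleton p i⟩

lemma piC_mu (i : ι) {N : Multiset ι} (hN : Restr p N) :
    piC p φ b i (mu p φ b N) = if N = {i} then 1 else 0 := by
  have h : mu p φ b N = basisU p φ b ⟨N, hN⟩ := (basisU_eq_mu p φ b ⟨N, hN⟩).symm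
  rw [h, piC, Module.Basis.coord_apply, Module.Basis.repr_self, Finsupp.single_apply]
  by_cases hNi : N = {i}
  · subst hNi; rw [if_pos rfl, if_pos rfl]
  · rw [if_neg hNi, if_neg]
    intro h'
    exact hNi (congrArg Subtype.val h')

/-- the operator `u ↦ Σ f(u₁) u₂`. -/
noncomputable def Ef (f : Uu p φ →ₗ[k] k) : Uu p φ →ₗ[k] Uu p φ :=
  (TensorProduct.lid k (Uu p φ)).toLinearMap ∘ₗ f.rTensor (Uu p φ) ∘ₗ Coalgebra.comul

lemma Ef_apply (f : Uu p φ →ₗ[k] k) (u : Uu p φ) :
    Ef p φ f u = TensorProduct.lid k _ (f.rTensor _ (Coalgebra.comul (R := k) u)) := rfl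

lemma Ef_mu (f : Uu p φ →ₗ[k] k) (M : Multiset ι) :
    Ef p φ f (mu p φ b M) =
      ((Multiset.antidiagonal M).map (fun q => f (mu p φ b q.1) • mu p φ b q.2)).sum := by
  rw [Ef_apply, comul_mu, map_multiset_sum, map_multiset_sum, Multiset.map_map, Multiset.map_map]
  congr 1

lemma Ef_counit (u : Uu p φ) : Ef p φ (Coalgebra.counit (R := k)) u = u := by
  rw [Ef_apply, Coalgebra.rTensor_counit_comul, TensorProduct.lid_tmul, one_smul]

lemma Ef_prim (f : Uu p φ →ₗ[k] k) {y : Uu p φ}
    (hy : Coalgebra.comul (R := k) y = y ⊗ₜ 1 + 1 ⊗ₜ y) : Ef p φ f y = f y • 1 + f 1 • y := by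
  rw [Ef_apply, hy, map_add, map_add, LinearMap.rTensor_tmul, LinearMap.rTensor_tmul,
    TensorProduct.lid_tmul, TensorProduct.lid_tmul]

omit hp [CharP k p] in
lemma restr_of_le {B K : Multiset ι} (hK : Restr p K) (hB : B ≤ K) : Restr p B :=
  fun i => lt_of_le_of_lt (Multiset.count_le_of_le i hB) (hK i)

/-- the key formula: `E_i (x^K) = K_i x^(K - i)` for restricted `K`. -/
lemma Ef_piC_mu (i : ι) (K : Multiset ι) (hK : Restr p K) :
    Ef p φ (piC p φ b i) (mu p φ b K) = (K.count i : k) • mu p φ b (K.erase i) := by
  induction K using induction_leAll with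
  | h0 =>
    rw [Ef_mu, Multiset.antidiagonal_zero, Multiset.map_singleton, Multiset.sum_singleton,
      piC_mu p φ b i hK, if_neg (Multiset.singleton_ne_zero i).symm, zero_smul,
      Multiset.count_zero, Nat.cast_zero, zero_smul]
  | hc j M hjM ih =>
    have hM : Restr p M := restr_of_le p hK (Multiset.le_cons_self M j)
    have ihM := ih hM
    rw [Ef_mu] at ihM
    have hε := Ef_counit p φ (mu p φ b M)
    rw [Ef_mu] at hε
    rw [Ef_mu, Multiset.antidiagonal_cons, Multiset.map_add, Multiset.sum_add, Multiset.map_map,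
      Multiset.map_map]
    have h1 : ((Multiset.antidiagonal M).map
        ((fun q : Multiset ι × Multiset ι => piC p φ b i (mu p φ b q.1) • mu p φ b q.2) ∘
          Prod.map id (Multiset.cons j))).sum =
        ιu p φ (b j) * ((M.count i : k) • mu p φ b (M.erase i)) := by
      rw [← ihM, ← Multiset.sum_map_mul_left]
      congr 1
      refine Multiset.map_congr rfl fun q hq => ?_
      rw [Multiset.mem_antidiagonal] at hq
      have hC : LeAll j q.2 := leAll_of_le hjM (hq ▸ Multiset.le_add_left _ _)
      simp only [Function.comp_apply, Prod.map_fst, Prod.map_snd, id_eq, mu_cons p φ b hC,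
        mul_smul_comm]
    have h2 : ((Multiset.antidiagonal M).map
        ((fun q : Multiset ι × Multiset ι => piC p φ b i (mu p φ b q.1) • mu p φ b q.2) ∘
          Prod.map (Multiset.cons j) id)).sum =
        (if j = i then (1 : k) else 0) • mu p φ b M := by
      conv_rhs => rw [← hε, Multiset.smul_sum, Multiset.map_map]
      congr 1
      refine Multiset.map_congr rfl fun q hq => ?_
      rw [Multiset.mem_antidiagonal] at hq
      have hB : j ::ₘ q.1 ≤ j ::ₘ M := Multiset.cons_le_cons j (hq ▸ Multiset.le_add_right _ _)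
      simp only [Function.comp_apply, Prod.map_fst, Prod.map_snd, id_eq]
      rw [piC_mu p φ b i (restr_of_le p hK hB), counit_mu, smul_smul]
      congr 1
      by_cases hji : j = i
      · subst hji
        by_cases hq0 : q.1 = 0
        · rw [hq0, if_pos rfl, if_pos rfl, if_pos (Multiset.cons_zero j)]; simp
        · rw [if_neg hq0, if_neg, mul_zero]
          intro h
          apply hq0
          have := congrArg Multiset.card h
          rw [Multiset.card_cons, Multiset.card_singleton] at this
          exact Multiset.card_eq_zero.1 (by omega)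
      · rw [if_neg hji, zero_mul, if_neg]
        intro h
        apply hji
        have : j ∈ ({i} : Multiset ι) := h ▸ Multiset.mem_cons_self j _
        exact Multiset.mem_singleton.1 this
    rw [h1, h2]
    by_cases hji : j = i
    · subst hji
      rw [if_pos rfl, one_smul, Multiset.erase_cons_head, Multiset.count_cons_self, Nat.cast_add,
        Nat.cast_one, add_smul, one_smul, mul_smul_comm]
      congr 1
      by_cases hjM' : j ∈ M
      · have hL : LeAll j (M.erase j) := leAll_of_le hjM (Multiset.erase_le j M)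
        rw [← mu_cons p φ b hL, Multiset.cons_erase hjM']
      · rw [Multiset.count_eq_zero_of_notMem hjM', Nat.cast_zero, zero_smul, zero_smul]
    · rw [if_neg hji, zero_smul, add_zero, Multiset.erase_cons_tail M hji,
        Multiset.count_cons_of_ne (Ne.symm hji), mul_smul_comm]
      have hL : LeAll j (M.erase i) := leAll_of_le hjM (Multiset.erase_le i M)
      rw [← mu_cons p φ b hL]

/-- coefficient extraction. -/
lemma repr_Ef (i : ι) (u : Uu p φ) (K : {M : Multiset ι // Restr p M}) (hi : i ∈ K.1) :
    (basisU p φ b).repr (Ef p φ (piC p φ b i) u)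
        ⟨K.1.erase i, restr_of_le p K.2 (Multiset.erase_le _ _)⟩ =
      (K.1.count i : k) * (basisU p φ b).repr u K := by
  set N : {M : Multiset ι // Restr p M} :=
    ⟨K.1.erase i, restr_of_le p K.2 (Multiset.erase_le _ _)⟩ with hN
  have key : (Finsupp.lapply N) ∘ₗ (basisU p φ b).repr.toLinearMap ∘ₗ Ef p φ (piC p φ b i) =
      (K.1.count i : k) • ((Finsupp.lapply K) ∘ₗ (basisU p φ b).repr.toLinearMap) := by
    apply (basisU p φ b).ext
    intro K'
    simp only [LinearMap.coe_comp, Function.comp_apply, LinearEquiv.coe_coe, LinearMap.smul_apply,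
      Finsupp.lapply_apply, Module.Basis.repr_self, smul_eq_mul]
    rw [basisU_eq_mu, Ef_piC_mu p φ b i K'.1 K'.2]
    have h1 : mu p φ b (K'.1.erase i) =
        basisU p φ b ⟨K'.1.erase i, restr_of_le p K'.2 (Multiset.erase_le _ _)⟩ :=
      (basisU_eq_mu p φ b ⟨K'.1.erase i, restr_of_le p K'.2 (Multiset.erase_le _ _)⟩).symm
    rw [h1, map_smul, Module.Basis.repr_self, Finsupp.smul_apply, smul_eq_mul,
      Finsupp.single_apply, Finsupp.single_apply]
    by_cases hKK : K' = K
    · subst hKK
      rw [if_pos rfl, if_pos rfl]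
    · rw [if_neg hKK, mul_zero]
      by_cases hc : K'.1.count i = 0
      · rw [hc, Nat.cast_zero, zero_mul]
      · rw [if_neg, mul_zero]
        intro h
        apply hKK
        have hi' : i ∈ K'.1 := Multiset.count_pos.1 (Nat.pos_of_ne_zero hc)
        have h2 : K'.1.erase i = K.1.erase i := congrArg Subtype.val h
        apply Subtype.ext
        rw [← Multiset.cons_erase hi', ← Multiset.cons_erase hi, h2]
  have := congrArg (fun F => F u) key
  simpa using this

lemma counit_eq_repr (u : Uu p φ) :
    Coalgebra.counit (R := k) u = (basisU p φ b).repr u ⟨0, fun i => by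
      rw [Multiset.count_zero]; exact hp.out.pos⟩ := by
  have key : (Coalgebra.counit (R := k) : Uu p φ →ₗ[k] k) =
      (Finsupp.lapply (⟨0, fun i => by rw [Multiset.count_zero]; exact hp.out.pos⟩ :
        {M : Multiset ι // Restr p M})) ∘ₗ (basisU p φ b).repr.toLinearMap := by
    apply (basisU p φ b).ext
    intro K'
    simp only [LinearMap.coe_comp, Function.comp_apply, LinearEquiv.coe_coe,
      Finsupp.lapply_apply, Module.Basis.repr_self]
    rw [basisU_eq_mu, counit_mu, Finsupp.single_apply]
    by_cases h0 : K'.1 = 0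
    · rw [if_pos h0, if_pos (Subtype.ext h0)]
    · rw [if_neg h0, if_neg]
      intro h
      exact h0 (congrArg Subtype.val h)
  exact congrArg (fun F => F u) key

lemma counit_prim {y : Uu p φ} (hy : Coalgebra.comul (R := k) y = y ⊗ₜ 1 + 1 ⊗ₜ y) :
    Coalgebra.counit (R := k) y = 0 := by
  have h1 := Ef_counit p φ y
  rw [Ef_prim p φ _ hy, Bialgebra.counit_one, one_smul, add_eq_right] at h1
  have h2 := congrArg (Coalgebra.counit (R := k)) h1
  rwa [map_smul, Bialgebra.counit_one, smul_eq_mul, mul_one, map_zero] at h2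

include b in
/-- **the primitive elements of `u(L)` are exactly `L`.** -/
theorem prim_mem_range (y : Uu p φ) (hy : Coalgebra.comul (R := k) y = y ⊗ₜ 1 + 1 ⊗ₜ y) :
    y ∈ LinearMap.range (ιu p φ) := by
  have hsupp : ∀ K ∈ ((basisU p φ b).repr y).support, Multiset.card K.1 = 1 := by
    intro K hK
    rw [Finsupp.mem_support_iff] at hK
    by_contra hcard
    rcases Nat.lt_or_ge (Multiset.card K.1) 1 with h0 | h2
    · have hK0 : K.1 = 0 := Multiset.card_eq_zero.1 (by omega)
      apply hK
      have := counit_eq_repr p φ b y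
      rw [counit_prim p φ hy] at this
      rw [this]
      congr 1
      exact Subtype.ext hK0
    · have h2' : 2 ≤ Multiset.card K.1 := by omega
      have hne : K.1 ≠ 0 := by
        intro h; rw [h, Multiset.card_zero] at h2'; omega
      obtain ⟨i, hi⟩ := Multiset.exists_mem_of_ne_zero hne
      have h3 := repr_Ef p φ b i y K hi
      have hpi1 : piC p φ b i 1 = 0 := by
        have := piC_mu p φ b i (N := 0) (fun j => by rw [Multiset.count_zero]; exact hp.out.pos)
        rw [mu_zero, if_neg (Multiset.singleton_ne_zero i).symm] at this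
        exact this
      rw [Ef_prim p φ _ hy, hpi1, zero_smul, add_zero, map_smul, Finsupp.smul_apply] at h3
      have h4 : (basisU p φ b).repr (1 : Uu p φ)
          ⟨K.1.erase i, restr_of_le p K.2 (Multiset.erase_le _ _)⟩ = 0 := by
        have h5 : (1 : Uu p φ) = basisU p φ b ⟨0, fun j => by
            rw [Multiset.count_zero]; exact hp.out.pos⟩ := by
          rw [basisU_eq_mu, mu_zero]
        rw [h5, Module.Basis.repr_self, Finsupp.single_apply, if_neg]
        intro h
        have h6 : (0 : Multiset ι) = K.1.erase i := congrArg Subtype.val h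
        have h7 := congrArg Multiset.card h6
        rw [Multiset.card_zero, Multiset.card_erase_of_mem hi, Nat.pred_eq_sub_one] at h7
        omega
      rw [h4, smul_zero] at h3
      have hcnt : ((K.1.count i : ℕ) : k) ≠ 0 := by
        rw [Ne, CharP.cast_eq_zero_iff k p]
        intro hdvd
        have h8 : 0 < K.1.count i := Multiset.count_pos.2 hi
        have h9 := K.2 i
        exact absurd (Nat.le_of_dvd h8 hdvd) (by omega)
      rcases mul_eq_zero.1 h3.symm with h | h
      · exact hcnt h
      · exact hK h
  rw [← (basisU p φ b).linearCombination_repr y, Finsupp.linearCombination_apply, Finsupp.sum]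
  refine Submodule.sum_mem _ fun K hK => ?_
  refine Submodule.smul_mem _ _ ?_
  obtain ⟨i, hi⟩ := Multiset.card_eq_one.1 (hsupp K hK)
  rw [basisU_eq_mu, hi, mu_singleton]
  exact LinearMap.mem_range_self _ _

end prim

end Groth.Agent.Helper7.RU
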