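import Mathlib
import Groth.Prelude.Def_PLie
import Groth.Prelude.Def_CartDual2
import Groth.Agent.Helper7.RUi
import Groth.Agent.Helper7.RUj
import Groth.Agent.Helper7.RUk

/-!
# Restricted Lie algebras are Lie algebras of height ≤ 1 group schemes
-/

set_option autoImplicit false

namespace Groth.Agent.Helper7.RU

open TensorProduct CartDual

attribute [local instance 100] LieRing.ofAssociativeRing

universe u

section final
variable {k : Type u} [Field k] (p : ℕ) [hp : Fact p.Prime] [CharP k p]
variable {L : Type u} [LieRing L] [LieAlgebra k L] [Module.Finite k L] (φ : PLie.PMap k p L)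

instance instFiniteUu : Module.Finite k (Uu p φ) := finite_Uu p φ (Module.finBasis k L)

/-- the map `L → Der (u(L)^*)`. -/
noncomputable def derMap : L →ₗ[k] Derivation k (D k (Uu p φ)) (D k (Uu p φ)) where
  toFun x := derOfPrim (comul_ιu p φ x)
  map_add' x y := by
    apply Derivation.ext; intro f
    apply WithConv.ext; apply LinearMap.ext; intro u
    change f (u * ιu p φ (x + y)) = f (u * ιu p φ x) + f (u * ιu p φ y)
    rw [map_add, mul_add, coe_apply, map_add]
  map_smul' r x := by
    apply Derivation.ext; intro f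
    apply WithConv.ext; apply LinearMap.ext; intro u
    change f (u * ιu p φ (r • x)) = r • f (u * ιu p φ x)
    rw [map_smul, mul_smul_comm, coe_apply, map_smul]

lemma derMap_apply (x : L) (f : D k (Uu p φ)) (u : Uu p φ) :
    derMap p φ x f u = f (u * ιu p φ x) := rfl

lemma derMap_toLinearMap (x : L) : (derMap p φ x).toLinearMap = Rm (ιu p φ x) := rfl

lemma adjoin_range_ιu : Algebra.adjoin k (Set.range (ιu p φ)) = ⊤ :=
  subalgebra_eq_top_u p φ _ fun x => Algebra.subset_adjoin ⟨x, rfl⟩

theorem main :
    ∃ (A : Type u) (_ : CommRing A) (_ : HopfAlgebra k A), Module.Finite k A ∧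
      (∀ f : A, Bialgebra.counitAlgHom k A f = 0 → f ^ p = 0) ∧
      ∃ e : L →ₗ[k] Derivation k A A, Function.Injective e ∧
        Set.range e = {D : Derivation k A A | CoalgebraStruct.comul (R := k) (A := A) ∘ₗ D.toLinearMap =
          LinearMap.lTensor A D.toLinearMap ∘ₗ CoalgebraStruct.comul (R := k) (A := A)} ∧
        (∀ x y : L, e ⁅x, y⁆ = ⁅e x, e y⁆) ∧
        (∀ x : L, (e (φ x)).toLinearMap = (e x).toLinearMap ^ p) := by
  refine ⟨D k (Uu p φ), inferInstance, inferInstance, inferInstance, ?_, derMap p φ, ?_, ?_, ?_, ?_⟩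
  · intro f hf
    exact pow_p_eq_zero p (Set.range (ιu p φ)) (adjoin_range_ιu p φ)
      (by rintro _ ⟨x, rfl⟩; exact comul_ιu p φ x) (by rintro _ ⟨x, rfl⟩; exact counit_ιu p φ x) f hf
  · intro x x' hxx'
    apply ιu_injective p φ (Module.finBasis k L)
    rw [← sub_eq_zero, ← Module.forall_dual_apply_eq_zero_iff k]
    intro g
    have h1 := congrArg (fun E => E ((toDual k (Uu p φ)).symm g) 1) hxx'
    simp only [derMap_apply, one_mul] at h1
    rw [map_sub, sub_eq_zero]
    exact h1
  · ext Dv
    simp only [Set.mem_range, Set.mem_ofPred_eq]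
    constructor
    · rintro ⟨x, rfl⟩
      rw [derMap_toLinearMap]
      exact comul_Rm (ιu p φ x)
    · intro hD
      obtain ⟨y, hy⟩ := exists_eq_Rm Dv.toLinearMap hD
      have hprim := prim_of_derivation Dv y hy
      obtain ⟨x, rfl⟩ := prim_mem_range p φ (Module.finBasis k L) y hprim
      refine ⟨x, ?_⟩
      apply Derivation.ext; intro f
      have := congrArg (fun E => E f) hy
      exact this.symm
  · intro x y
    apply Derivation.ext; intro f
    apply WithConv.ext; apply LinearMap.ext; intro u
    rw [Derivation.commutator_apply]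
    change f (u * ιu p φ ⁅x, y⁆) = f (u * ιu p φ x * ιu p φ y) - f (u * ιu p φ y * ιu p φ x)
    rw [ιu_lie, mul_sub, coe_apply, map_sub, mul_assoc, mul_assoc]
  · intro x
    rw [derMap_toLinearMap, derMap_toLinearMap, ιu_pmap, map_pow]

end final

end Groth.Agent.Helper7.RU
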