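import Mathlib
import Groth.Prelude.Def_FrobAlg

set_option linter.style.haveILetI false
set_option linter.unusedSectionVars false

universe u

namespace Groth.Agent.Helper7.RaduAndre

open TensorProduct

variable (p : ℕ) [Fact p.Prime] (k K : Type u) [Field k] [Field K] [Algebra k K]
  [CharP k p] [CharP K p]

theorem relFrob_tmul (b : K) (a : FrobAlg.Twist p k) :
    FrobAlg.relFrob p k K (b ⊗ₜ a) = b ^ p * algebraMap k K ((FrobAlg.toTwist p k).symm a) := by
  simp only [FrobAlg.relFrob, FrobAlg.frobHom, FrobAlg.inclHom, RingHom.coe_comp,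
    Function.comp_apply, AlgHom.toRingHom_eq_coe, RingHom.coe_coe,
    Algebra.TensorProduct.lift_tmul]
  rfl

/-- `D (relFrob z) = 0` for all `z`. -/
theorem D_relFrob (z : FrobAlg.BaseChange p k K) :
    KaehlerDifferential.D k K (FrobAlg.relFrob p k K z) = 0 := by
  induction z using TensorProduct.induction_on with
  | zero => simp
  | tmul b a =>
    rw [relFrob_tmul, mul_comm, ← Algebra.smul_def, Derivation.map_smul, Derivation.leibniz_pow,
      ← Nat.cast_smul_eq_nsmul K, CharP.cast_eq_zero K p, zero_smul, smul_zero]
  | add x y hx hy => rw [map_add, map_add, hx, hy, add_zero]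

theorem isSeparable_of_surjective (hfg : (⊤ : IntermediateField k K).FG)
    (h : Function.Surjective (FrobAlg.relFrob p k K)) : Algebra.IsSeparable k K := by
  haveI : Algebra.EssFiniteType k K := IntermediateField.fg_top_iff.mp hfg
  haveI : Algebra.FormallyUnramified k K := by
    refine ⟨?_⟩
    have hspan := KaehlerDifferential.span_range_derivation k K
    have : (⊤ : Submodule K (Ω[K⁄k])) = ⊥ := by
      rw [← hspan, Submodule.span_eq_bot]
      rintro _ ⟨x, rfl⟩
      obtain ⟨z, rfl⟩ := h x
      exact D_relFrob p k K z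
    exact (Submodule.subsingleton_iff K).mp (subsingleton_of_bot_eq_top this.symm)
  exact Algebra.FormallyUnramified.isSeparable k K

theorem relFrob_sum {ι : Type*} (v : ι → K) (c : ι →₀ FrobAlg.Twist p k) :
    FrobAlg.relFrob p k K (c.sum fun i n => v i ⊗ₜ[k] n) =
      c.sum fun i n => ((FrobAlg.toTwist p k).symm n) • (v i) ^ p := by
  rw [Finsupp.sum, map_sum, Finsupp.sum]
  refine Finset.sum_congr rfl fun i _ => ?_
  rw [relFrob_tmul, mul_comm, ← Algebra.smul_def]

theorem bijective_of_isSeparable [Algebra.IsSeparable k K] :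
    Function.Bijective (FrobAlg.relFrob p k K) := by
  classical
  haveI : ExpChar k p := ExpChar.prime Fact.out
  let v := Module.Basis.ofVectorSpace k K
  have hli : LinearIndependent k (fun i => v i ^ p ^ 1) :=
    v.linearIndependent.map_pow_expChar_pow_of_isSeparable p 1
  have hsp : Submodule.span k (Set.range (fun i => v i ^ p ^ 1)) = ⊤ :=
    Field.span_map_pow_expChar_pow_eq_top_of_isSeparable p 1 v.span_eq
  simp only [pow_one] at hli hsp
  constructor
  · rw [injective_iff_map_eq_zero]
    intro z hz
    obtain ⟨c, rfl⟩ := TensorProduct.eq_repr_basis_left v z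
    rw [relFrob_sum] at hz
    have hc : c.mapRange (FrobAlg.toTwist p k).symm (map_zero _) = 0 := by
      apply linearIndependent_iff.mp hli
      rw [Finsupp.linearCombination_apply, Finsupp.sum_mapRange_index (by simp)]
      exact hz
    have hc0 : c = 0 := by
      ext i
      have := DFunLike.congr_fun hc i
      simpa using this
    rw [hc0]
    simp
  · intro x
    have hx : x ∈ Submodule.span k (Set.range (fun i => v i ^ p)) := by rw [hsp]; trivial
    obtain ⟨l, rfl⟩ := (Finsupp.mem_span_range_iff_exists_finsupp).mp hx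
    refine ⟨(l.mapRange (FrobAlg.toTwist p k) (map_zero _)).sum fun i n => v i ⊗ₜ[k] n, ?_⟩
    rw [relFrob_sum, Finsupp.sum_mapRange_index (by simp)]
    simp

theorem s11147 (hfg : (⊤ : IntermediateField k K).FG) :
    Function.Bijective (FrobAlg.relFrob p k K) ↔ Algebra.IsSeparable k K :=
  ⟨fun h => isSeparable_of_surjective p k K hfg h.2, fun _ => bijective_of_isSeparable p k K⟩

end Groth.Agent.Helper7.RaduAndre
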