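import Groth.Agent.Helper1.FibreDim2
import Groth.Agent.Helper7.ImgProj

namespace Groth.Agent.Helper7.RankBC

open TensorProduct Topology Groth.Agent.Helper1.FibreDim

universe u v

variable {B : Type u} [CommRing B] {K K' : Type v} [AddCommGroup K] [Module B K]
  [AddCommGroup K'] [Module B K'] [Module.Finite B K']

/-- rank of the fibre of the image + fibre dimension of the cokernel = fibre dimension of target -/
theorem finrank_range_add (φ : K →ₗ[B] K') (y : PrimeSpectrum B) :
    Module.finrank y.asIdeal.ResidueField
        ↥(LinearMap.range (φ.baseChange y.asIdeal.ResidueField)) +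
      fibreDim (K' ⧸ LinearMap.range φ) y = fibreDim K' y := by
  let κ := y.asIdeal.ResidueField
  let q : κ ⊗[B] K' →ₗ[κ] κ ⊗[B] (K' ⧸ LinearMap.range φ) :=
    (LinearMap.range φ).mkQ.baseChange κ
  have hq : q = (LinearMap.range φ).mkQ.baseChange κ := rfl
  have hex : Function.Exact φ (LinearMap.range φ).mkQ := by
    rw [LinearMap.exact_iff, Submodule.ker_mkQ]
  have hex2 : Function.Exact (φ.baseChange κ) q := by
    have := lTensor_exact κ hex (Submodule.mkQ_surjective _)
    intro z
    have h := this z
    simpa [LinearMap.baseChange_eq_ltensor, hq] using h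
  have hsurj : Function.Surjective q := by
    have := LinearMap.lTensor_surjective κ (Submodule.mkQ_surjective (LinearMap.range φ))
    intro z
    obtain ⟨w, hw⟩ := this z
    exact ⟨w, by simpa [LinearMap.baseChange_eq_ltensor, hq] using hw⟩
  have hker : LinearMap.ker q = LinearMap.range (φ.baseChange κ) :=
    (LinearMap.exact_iff.mp hex2)
  have h1 := LinearMap.finrank_range_add_finrank_ker q
  rw [LinearMap.range_eq_top.mpr hsurj, finrank_top, hker] at h1
  unfold fibreDim
  rw [add_comm]
  exact h1

/-- S14336 -/
theorem lowerSemicontinuous_range [IsNoetherianRing B] [Module.Flat B K'] (φ : K →ₗ[B] K') :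
    LowerSemicontinuous (fun y : PrimeSpectrum B => Module.finrank y.asIdeal.ResidueField
      ↥(LinearMap.range (φ.baseChange y.asIdeal.ResidueField))) := by
  intro x c hc
  haveI : Module.FinitePresentation B K' := Module.finitePresentation_of_finite B K'
  filter_upwards [fibreDim_eventually_eq K' x,
    fibreDim_eventually_le (K' ⧸ LinearMap.range φ) x] with y h1 h2
  have e1 := finrank_range_add φ y
  have e2 := finrank_range_add φ x
  simp only at hc ⊢
  omega

/-- kernel version -/
theorem finrank_ker_add [Module.Finite B K] (φ : K →ₗ[B] K') (y : PrimeSpectrum B) :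
    Module.finrank y.asIdeal.ResidueField
        ↥(LinearMap.ker (φ.baseChange y.asIdeal.ResidueField)) + fibreDim K' y =
      fibreDim K y + fibreDim (K' ⧸ LinearMap.range φ) y := by
  have h1 := LinearMap.finrank_range_add_finrank_ker (φ.baseChange y.asIdeal.ResidueField)
  have h2 := finrank_range_add φ y
  unfold fibreDim at h2 ⊢
  omega

/-- S14609 -/
theorem upperSemicontinuous_ker [IsNoetherianRing B] [Module.Finite B K] [Module.Flat B K']
    (φ : K →ₗ[B] K') :
    UpperSemicontinuous (fun y : PrimeSpectrum B => Module.finrank y.asIdeal.ResidueField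
      ↥(LinearMap.ker (φ.baseChange y.asIdeal.ResidueField))) := by
  intro x c hc
  haveI : Module.FinitePresentation B K' := Module.finitePresentation_of_finite B K'
  filter_upwards [fibreDim_eventually_eq K' x,
    fibreDim_eventually_le (K' ⧸ LinearMap.range φ) x, fibreDim_eventually_le K x] with y h1 h2 h3
  have e1 := finrank_ker_add φ y
  have e2 := finrank_ker_add φ x
  simp only at hc ⊢
  omega

/-- S14338 -/
theorem projective_of_const (B : Type u) [CommRing B] [IsNoetherianRing B] (K K' : Type u)
    [AddCommGroup K] [Module B K] [Module.Finite B K] [Module.Flat B K] [AddCommGroup K']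
    [Module B K'] [Module.Finite B K'] [Module.Flat B K'] (φ : K →ₗ[B] K') [IsReduced B]
    (hconst : ∃ c : ℕ, ∀ y : PrimeSpectrum B, Module.finrank y.asIdeal.ResidueField
      ↥(LinearMap.range (φ.baseChange y.asIdeal.ResidueField)) = c) :
    Module.Projective B (K' ⧸ LinearMap.range φ) ∧ Module.Projective B ↥(LinearMap.range φ) := by
  obtain ⟨c, hc⟩ := hconst
  haveI : Module.FinitePresentation B K' := Module.finitePresentation_of_finite B K'
  have hflat : Module.Flat B (K' ⧸ LinearMap.range φ) := by
    apply flat_of_fibreDim_eventually_eq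
    intro x
    filter_upwards [fibreDim_eventually_eq K' x] with y h1
    have e1 := finrank_range_add φ y
    have e2 := finrank_range_add φ x
    rw [hc] at e1 e2
    omega
  haveI : Module.FinitePresentation B (K' ⧸ LinearMap.range φ) :=
    Module.finitePresentation_of_finite B _
  have hproj : Module.Projective B (K' ⧸ LinearMap.range φ) :=
    Module.Flat.projective_of_finitePresentation
  exact ⟨hproj, (ImgProj.result B K K' φ hproj).1⟩

end Groth.Agent.Helper7.RankBC
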