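import Groth.Agent.Helper7.RankBC

namespace Groth.Agent.Helper7.RankBC

open TensorProduct Topology Groth.Agent.Helper1.FibreDim

universe u v

/-- S14610 -/
theorem projective_of_locallyConstant_ker (A : Type u) [CommRing A]
    [IsNoetherianRing A] [IsReduced A] (M : Type v) (F : Type v) [AddCommGroup M] [Module A M]
    [Module.Finite A M] [AddCommGroup F] [Module A F] [Module.Finite A F] [Module.Free A F]
    (δ : M →ₗ[A] F)
    (h : IsLocallyConstant (fun x : PrimeSpectrum A =>
      Module.finrank x.asIdeal.ResidueField
        (LinearMap.ker (δ.baseChange x.asIdeal.ResidueField)))) :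
    Module.Projective A M ∧ Module.Projective A (LinearMap.ker δ) ∧
      Module.Projective A (F ⧸ LinearMap.range δ) ∧
      ∀ (N : Type v) [AddCommGroup N] [Module A N],
        Function.Injective (LinearMap.rTensor N (LinearMap.ker δ).subtype) ∧
        Function.Exact (LinearMap.rTensor N (LinearMap.ker δ).subtype) (LinearMap.rTensor N δ) := by
  haveI : Module.FinitePresentation A F := Module.finitePresentation_of_finite A F
  haveI : Module.FinitePresentation A M := Module.finitePresentation_of_finite A M
  haveI : Module.FinitePresentation A (F ⧸ LinearMap.range δ) :=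
    Module.finitePresentation_of_finite A _
  have hboth : ∀ x : PrimeSpectrum A, ∀ᶠ y in 𝓝 x, fibreDim M y = fibreDim M x ∧
      fibreDim (F ⧸ LinearMap.range δ) y = fibreDim (F ⧸ LinearMap.range δ) x := by
    intro x
    filter_upwards [fibreDim_eventually_eq F x, fibreDim_eventually_le (F ⧸ LinearMap.range δ) x,
      fibreDim_eventually_le M x, h.eventually_eq x] with y h1 h2 h3 h4
    have e1 := finrank_ker_add δ y
    have e2 := finrank_ker_add δ x
    replace h4 : Module.finrank y.asIdeal.ResidueField
        (LinearMap.ker (δ.baseChange y.asIdeal.ResidueField)) =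
        Module.finrank x.asIdeal.ResidueField
        (LinearMap.ker (δ.baseChange x.asIdeal.ResidueField)) := h4
    omega
  have hMflat : Module.Flat A M :=
    flat_of_fibreDim_eventually_eq M (fun x => (hboth x).mono fun y hy => hy.1)
  have hCflat : Module.Flat A (F ⧸ LinearMap.range δ) :=
    flat_of_fibreDim_eventually_eq _ (fun x => (hboth x).mono fun y hy => hy.2)
  have hM : Module.Projective A M := Module.Flat.projective_of_finitePresentation
  have hC : Module.Projective A (F ⧸ LinearMap.range δ) :=
    Module.Flat.projective_of_finitePresentation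
  -- splitting of F → C
  obtain ⟨s, hs⟩ := Module.projective_lifting_property (LinearMap.range δ).mkQ LinearMap.id
    (Submodule.mkQ_surjective _)
  -- retraction r : F → I
  let r : F →ₗ[A] ↥(LinearMap.range δ) :=
    LinearMap.codRestrict (LinearMap.range δ) (LinearMap.id - s ∘ₗ (LinearMap.range δ).mkQ) (by
      intro f
      have hmem : ∀ g : F, (LinearMap.range δ).mkQ g = 0 → g ∈ LinearMap.range δ := by
        intro g hg
        rwa [← LinearMap.mem_ker, Submodule.ker_mkQ] at hg
      apply hmem
      rw [LinearMap.sub_apply,
        map_sub, LinearMap.id_apply, LinearMap.comp_apply]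
      have := LinearMap.congr_fun hs ((LinearMap.range δ).mkQ f)
      rw [LinearMap.comp_apply, LinearMap.id_apply] at this
      rw [this, sub_self])
  have hr : r ∘ₗ (LinearMap.range δ).subtype = LinearMap.id := by
    ext ⟨f, hf⟩
    change f - s ((LinearMap.range δ).mkQ f) = f
    have : (LinearMap.range δ).mkQ f = 0 := by
      rw [← LinearMap.mem_ker, Submodule.ker_mkQ]; exact hf
    rw [this, map_zero, sub_zero]
  have hI : Module.Projective A ↥(LinearMap.range δ) :=
    Module.Projective.of_split (LinearMap.range δ).subtype r hr
  -- splitting of M → I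
  obtain ⟨t, ht⟩ := Module.projective_lifting_property δ.rangeRestrict LinearMap.id
    δ.surjective_rangeRestrict
  let ρ : M →ₗ[A] ↥(LinearMap.ker δ) :=
    LinearMap.codRestrict (LinearMap.ker δ) (LinearMap.id - t ∘ₗ δ.rangeRestrict) (by
      intro m
      rw [LinearMap.mem_ker, LinearMap.sub_apply, map_sub, LinearMap.id_apply,
        LinearMap.comp_apply]
      have := LinearMap.congr_fun ht (δ.rangeRestrict m)
      rw [LinearMap.comp_apply, LinearMap.id_apply] at this
      have h2 : δ (t (δ.rangeRestrict m)) = δ m := congrArg Subtype.val this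
      rw [h2, sub_self])
  have hρ : ρ ∘ₗ (LinearMap.ker δ).subtype = LinearMap.id := by
    ext ⟨m, hm⟩
    change m - t (δ.rangeRestrict m) = m
    have : δ.rangeRestrict m = 0 := Subtype.ext (LinearMap.mem_ker.mp hm)
    rw [this, map_zero, sub_zero]
  have hZ : Module.Projective A ↥(LinearMap.ker δ) :=
    Module.Projective.of_split (LinearMap.ker δ).subtype ρ hρ
  refine ⟨hM, hZ, hC, ?_⟩
  intro N _ _
  constructor
  · apply Function.LeftInverse.injective (g := LinearMap.rTensor N ρ)
    intro z
    rw [← LinearMap.comp_apply, ← LinearMap.rTensor_comp, hρ, LinearMap.rTensor_id,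
      LinearMap.id_apply]
  · have hex : Function.Exact (LinearMap.ker δ).subtype δ.rangeRestrict := by
      rw [LinearMap.exact_iff, Submodule.range_subtype, LinearMap.ker_rangeRestrict]
    have hex2 := rTensor_exact N hex δ.surjective_rangeRestrict
    have hfac : LinearMap.rTensor N δ =
        LinearMap.rTensor N (LinearMap.range δ).subtype ∘ₗ LinearMap.rTensor N δ.rangeRestrict := by
      rw [← LinearMap.rTensor_comp]
      congr 1
    have hinj : Function.Injective (LinearMap.rTensor N (LinearMap.range δ).subtype) := by
      apply Function.LeftInverse.injective (g := LinearMap.rTensor N r)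
      intro z
      rw [← LinearMap.comp_apply, ← LinearMap.rTensor_comp, hr, LinearMap.rTensor_id,
        LinearMap.id_apply]
    intro z
    rw [hfac, LinearMap.comp_apply, ← hex2 z]
    constructor
    · intro h0
      apply hinj
      rw [h0, map_zero]
    · intro h0
      rw [h0, map_zero]

end Groth.Agent.Helper7.RankBC
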