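import Mathlib

set_option autoImplicit false

namespace Groth.Agent.Helper7.RatClos

open TensorProduct

universe u

theorem main (k K A : Type u) [Field k] [Field K] [Algebra k K]
    [CommRing A] [Algebra k A] (S : Set (A →ₐ[k] k)) :
    Ideal.map (Algebra.TensorProduct.includeRight : A →ₐ[k] K ⊗[k] A) (⨅ σ ∈ S, RingHom.ker σ) =
      ⨅ σ ∈ S, RingHom.ker ((Algebra.TensorProduct.rid k K K).toAlgHom.comp
        (Algebra.TensorProduct.map (AlgHom.id K K) σ)) := by
  classical
  apply le_antisymm
  · rw [Ideal.map_le_iff_le_comap]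
    intro a ha
    rw [Ideal.mem_comap]
    simp only [Ideal.mem_iInf] at ha ⊢
    intro σ hσ
    have := ha σ hσ
    rw [RingHom.mem_ker] at this ⊢
    simp [this]
  · intro z hz
    simp only [Ideal.mem_iInf, RingHom.mem_ker] at hz
    let ℬ := Module.Basis.ofVectorSpace k K
    obtain ⟨c, rfl⟩ := TensorProduct.eq_repr_basis_left ℬ z
    have hc : ∀ i ∈ c.support, c i ∈ ⨅ σ ∈ S, RingHom.ker σ := by
      intro i _
      simp only [Ideal.mem_iInf, RingHom.mem_ker]
      intro σ hσ
      have h1 := hz σ hσ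
      rw [Finsupp.sum, map_sum] at h1
      have h2 : ∑ j ∈ c.support, (σ (c j)) • ℬ j = 0 := by
        rw [← h1]
        apply Finset.sum_congr rfl
        intro j _
        simp [Algebra.smul_def, mul_comm]
      have h3 := (linearIndependent_iff'.mp ℬ.linearIndependent) c.support (fun j => σ (c j)) h2
      by_cases hi : i ∈ c.support
      · exact h3 i hi
      · rw [Finsupp.notMem_support_iff.mp hi, map_zero]
    rw [Finsupp.sum]
    apply Ideal.sum_mem
    intro i hi
    have h4 : ℬ i ⊗ₜ[k] c i = (ℬ i ⊗ₜ[k] (1 : A)) *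
        (Algebra.TensorProduct.includeRight : A →ₐ[k] K ⊗[k] A) (c i) := by
      simp
    rw [h4]
    exact Ideal.mul_mem_left _ _ (Ideal.mem_map_of_mem _ (hc i hi))

end Groth.Agent.Helper7.RatClos
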