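import Mathlib

set_option autoImplicit false

namespace Groth.Agent.Helper7.RatClos

open TensorProduct

universe u

/-- the "tensor product of two points" -/
noncomputable abbrev pt2 {k B B' : Type u} [Field k] [CommRing B] [Algebra k B] [CommRing B'] [Algebra k B']
    (τ : B →ₐ[k] k) (τ' : B' →ₐ[k] k) : B ⊗[k] B' →ₐ[k] k :=
  (Algebra.TensorProduct.lmul' (S := k) k).comp (Algebra.TensorProduct.map τ τ')

theorem eq_zero_of_points {k B B' : Type u} [Field k] [CommRing B] [Algebra k B] [CommRing B']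
    [Algebra k B'] (T : Set (B →ₐ[k] k)) (T' : Set (B' →ₐ[k] k))
    (hT : ∀ b : B, (∀ τ ∈ T, τ b = 0) → b = 0) (hT' : ∀ b : B', (∀ τ ∈ T', τ b = 0) → b = 0)
    (ζ : B ⊗[k] B') (hζ : ∀ τ ∈ T, ∀ τ' ∈ T', pt2 τ τ' ζ = 0) : ζ = 0 := by
  classical
  let ℬ := Module.Basis.ofVectorSpace k B
  obtain ⟨c, rfl⟩ := TensorProduct.eq_repr_basis_left ℬ ζ
  have hc : ∀ i ∈ c.support, c i = 0 := by
    intro i hi
    apply hT'
    intro τ' hτ'
    have hw : ∑ j ∈ c.support, (τ' (c j)) • ℬ j = 0 := by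
      apply hT
      intro τ hτ
      have h1 := hζ τ hτ τ' hτ'
      rw [Finsupp.sum, map_sum] at h1
      rw [map_sum, ← h1]
      apply Finset.sum_congr rfl
      intro j _
      simp [mul_comm]
    exact (linearIndependent_iff'.mp ℬ.linearIndependent) c.support (fun j => τ' (c j)) hw i hi
  rw [Finsupp.sum]
  apply Finset.sum_eq_zero
  intro i hi
  rw [hc i hi, tmul_zero]

theorem main2 (k A A' : Type u) [Field k] [CommRing A] [Algebra k A]
    [CommRing A'] [Algebra k A']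
    (S : Set (A →ₐ[k] k)) (S' : Set (A' →ₐ[k] k)) :
    (⨅ σ ∈ S, ⨅ σ' ∈ S', RingHom.ker ((Algebra.TensorProduct.lmul' (S := k) k).comp
        (Algebra.TensorProduct.map σ σ'))) =
      Ideal.map (Algebra.TensorProduct.includeLeft : A →ₐ[k] A ⊗[k] A') (⨅ σ ∈ S, RingHom.ker σ) ⊔
        Ideal.map (Algebra.TensorProduct.includeRight : A' →ₐ[k] A ⊗[k] A') (⨅ σ' ∈ S', RingHom.ker σ') := by
  classical
  set I : Ideal A := ⨅ σ ∈ S, RingHom.ker σ with hI
  set I' : Ideal A' := ⨅ σ' ∈ S', RingHom.ker σ' with hI'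
  let π : A →ₐ[k] A ⧸ I := Ideal.Quotient.mkₐ k I
  let π' : A' →ₐ[k] A' ⧸ I' := Ideal.Quotient.mkₐ k I'
  have hπ : Function.Surjective π := Ideal.Quotient.mkₐ_surjective k I
  have hπ' : Function.Surjective π' := Ideal.Quotient.mkₐ_surjective k I'
  have hkerπ : RingHom.ker π = I := Ideal.Quotient.mkₐ_ker k I
  have hkerπ' : RingHom.ker π' = I' := Ideal.Quotient.mkₐ_ker k I'
  have hker := Algebra.TensorProduct.map_ker π π' hπ hπ'
  rw [hkerπ, hkerπ'] at hker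
  rw [← hker]
  -- lifted points
  have hSI : ∀ σ ∈ S, ∀ a ∈ I, σ a = 0 := by
    intro σ hσ a ha
    rw [hI] at ha
    simp only [Ideal.mem_iInf] at ha
    exact ha σ hσ
  have hSI' : ∀ σ ∈ S', ∀ a ∈ I', σ a = 0 := by
    intro σ hσ a ha
    rw [hI'] at ha
    simp only [Ideal.mem_iInf] at ha
    exact ha σ hσ
  let T : Set (A ⧸ I →ₐ[k] k) := {τ | ∃ σ ∈ S, τ.comp π = σ}
  let T' : Set (A' ⧸ I' →ₐ[k] k) := {τ | ∃ σ ∈ S', τ.comp π' = σ}
  have hlift : ∀ σ ∈ S, ∃ τ ∈ T, τ.comp π = σ := by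
    intro σ hσ
    refine ⟨Ideal.Quotient.liftₐ I σ (hSI σ hσ), ⟨σ, hσ, ?_⟩, ?_⟩ <;>
    · ext a; simp [π]
  have hlift' : ∀ σ ∈ S', ∃ τ ∈ T', τ.comp π' = σ := by
    intro σ hσ
    refine ⟨Ideal.Quotient.liftₐ I' σ (hSI' σ hσ), ⟨σ, hσ, ?_⟩, ?_⟩ <;>
    · ext a; simp [π']
  have hT : ∀ b : A ⧸ I, (∀ τ ∈ T, τ b = 0) → b = 0 := by
    intro b hb
    obtain ⟨a, rfl⟩ := hπ b
    have : a ∈ I := by
      rw [hI]
      simp only [Ideal.mem_iInf, RingHom.mem_ker]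
      intro σ hσ
      obtain ⟨τ, hτ, hτσ⟩ := hlift σ hσ
      rw [← hτσ]
      exact hb τ hτ
    rw [← hkerπ] at this
    exact this
  have hT' : ∀ b : A' ⧸ I', (∀ τ ∈ T', τ b = 0) → b = 0 := by
    intro b hb
    obtain ⟨a, rfl⟩ := hπ' b
    have : a ∈ I' := by
      rw [hI']
      simp only [Ideal.mem_iInf, RingHom.mem_ker]
      intro σ hσ
      obtain ⟨τ, hτ, hτσ⟩ := hlift' σ hσ
      rw [← hτσ]
      exact hb τ hτ
    rw [← hkerπ'] at this
    exact this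
  have hcomp : ∀ (τ : A ⧸ I →ₐ[k] k) (τ' : A' ⧸ I' →ₐ[k] k) (z : A ⊗[k] A'),
      pt2 τ τ' (Algebra.TensorProduct.map π π' z) = pt2 (τ.comp π) (τ'.comp π') z := by
    intro τ τ' z
    induction z using TensorProduct.induction_on with
    | zero => simp
    | tmul a b => simp [pt2]
    | add x y hx hy => simp only [map_add, hx, hy]
  ext z
  simp only [Ideal.mem_iInf, RingHom.mem_ker]
  constructor
  · intro hz
    apply eq_zero_of_points T T' hT hT'
    rintro τ ⟨σ, hσ, hτσ⟩ τ' ⟨σ', hσ', hτσ'⟩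
    rw [hcomp, hτσ, hτσ']
    exact hz σ hσ σ' hσ'
  · intro hz σ hσ σ' hσ'
    obtain ⟨τ, hτ, hτσ⟩ := hlift σ hσ
    obtain ⟨τ', hτ', hτσ'⟩ := hlift' σ' hσ'
    have := hcomp τ τ' z
    rw [hτσ, hτσ'] at this
    rw [show (Algebra.TensorProduct.map π π') z = 0 from hz, map_zero] at this
    exact this.symm

end Groth.Agent.Helper7.RatClos
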