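import Mathlib

set_option autoImplicit false
universe u
open Polynomial

namespace Groth.Agent.Helper7.RealCharpoly

lemma reverse_X_sub_C' (a : ℂ) : reverse (X - C a) = 1 - C a * X := by
  have h : (X - C a : ℂ[X]) = X + C (-a) := by rw [C_neg]; ring
  rw [h, reverse_add_C]
  have : reverse (X : ℂ[X]) = 1 := by
    have := reverse_mul_X (1 : ℂ[X])
    rw [one_mul] at this
    rw [this, ← C_1, reverse_C]
  rw [this, natDegree_X, pow_one, C_neg]; ring

lemma key (s : Multiset ℂ) (hs : ∀ z ∈ s, z ≠ 0) :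
    C ((-1 : ℂ) ^ Multiset.card s) * C (s.prod)⁻¹ * reverse ((s.map (fun z => X - C z)).prod) =
      (s.map (fun z => X - C z⁻¹)).prod := by
  induction s using Multiset.induction_on with
  | empty =>
    have : reverse (1 : ℂ[X]) = 1 := by rw [← C_1, reverse_C]
    simp [this]
  | cons a s ih =>
    have ha : a ≠ 0 := hs a (Multiset.mem_cons_self a s)
    have ih' := ih (fun z hz => hs z (Multiset.mem_cons_of_mem hz))
    rw [Multiset.card_cons, Multiset.prod_cons, Multiset.map_cons, Multiset.prod_cons,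
      Multiset.map_cons, Multiset.prod_cons, reverse_mul_of_domain, ← ih', reverse_X_sub_C',
      mul_inv, pow_succ]
    have h1 : (X - C a⁻¹ : ℂ[X]) = C (-1) * C a⁻¹ * (1 - C a * X) := by
      have : (C a⁻¹ * C a : ℂ[X]) = 1 := by rw [← C_mul, inv_mul_cancel₀ ha, C_1]
      calc (X - C a⁻¹ : ℂ[X]) = (C a⁻¹ * C a) * X - C a⁻¹ := by rw [this, one_mul]
        _ = C (-1) * C a⁻¹ * (1 - C a * X) := by rw [C_neg, C_1]; ring
    rw [h1]
    simp only [C_mul, C_pow, C_neg, C_1]
    ring

theorem result (L : Type u) [Field L] (ι : L →+* ℂ)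
    {r : ℕ} (M : Matrix (Fin r) (Fin r) L)
    (hM : ∀ z ∈ ((Matrix.charpoly M).map ι).roots, ‖z‖ = 1) (n : ℕ) :
    (ι ((Matrix.fromBlocks M 0 0 (M⁻¹).transpose).charpoly.coeff n)).im = 0 := by
  set N : Matrix (Fin r) (Fin r) ℂ := M.map ι with hN
  set p : ℂ[X] := N.charpoly with hp
  have hpmap : (Matrix.charpoly M).map ι = p := by
    rw [hp, hN]; exact (Matrix.charpoly_map M ι).symm
  rw [hpmap] at hM
  set s := p.roots with hs
  have hs0 : ∀ z ∈ s, z ≠ 0 := fun z hz h0 => by
    have := hM z hz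
    rw [h0, norm_zero] at this
    exact zero_ne_one this
  have hpmonic : p.Monic := Matrix.charpoly_monic N
  have hpprod : p = (s.map (fun z => X - C z)).prod :=
    (IsAlgClosed.splits p).eq_prod_roots_of_monic hpmonic
  have hcard : Multiset.card s = r := by
    rw [hs, ← (IsAlgClosed.splits p).natDegree_eq_card_roots, hp, Matrix.charpoly_natDegree_eq_dim,
      Fintype.card_fin]
  have hdet : N.det = s.prod := Matrix.det_eq_prod_roots_charpoly N
  have hdet0 : N.det ≠ 0 := by
    rw [hdet]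
    exact Multiset.prod_ne_zero (fun h => hs0 0 h rfl)
  have hNunit : IsUnit N := (Matrix.isUnit_iff_isUnit_det N).mpr (isUnit_iff_ne_zero.mpr hdet0)
  have hMdet : M.det ≠ 0 := by
    intro h
    apply hdet0
    rw [hN, ← RingHom.mapMatrix_apply, ← RingHom.map_det, h, map_zero]
  have hMunit : IsUnit M.det := isUnit_iff_ne_zero.mpr hMdet
  have hinv : (M⁻¹).map ι = N⁻¹ := by
    symm
    apply Matrix.inv_eq_right_inv
    rw [hN, ← Matrix.map_mul, Matrix.mul_nonsing_inv M hMunit]
    simp
  have hNinv : N⁻¹.charpoly = (s.map (fun z => X - C z⁻¹)).prod := by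
    rw [Matrix.charpoly_inv N hNunit, ← Matrix.reverse_charpoly, ← hp, Fintype.card_fin,
      Ring.inverse_eq_inv', hdet, ← key s hs0, hcard, ← hpprod]
    simp only [C_pow, C_neg, C_1]
  have hconj : (s.map (fun z => X - C z⁻¹)).prod = p.map (starRingEnd ℂ) := by
    conv_rhs => rw [hpprod]
    rw [Polynomial.map_multiset_prod, Multiset.map_map]
    congr 1
    refine Multiset.map_congr rfl (fun z hz => ?_)
    have hz1 : ‖z‖ = 1 := hM z hz
    have : z⁻¹ = (starRingEnd ℂ) z := by
      rw [Complex.inv_def, Complex.normSq_eq_norm_sq, hz1]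
      simp
    simp [this]
  have hQ : ((Matrix.fromBlocks M 0 0 (M⁻¹).transpose).charpoly).map ι = p * p.map (starRingEnd ℂ) := by
    rw [Matrix.charpoly_fromBlocks_zero₁₂, Matrix.charpoly_transpose, Polynomial.map_mul, hpmap,
      ← Matrix.charpoly_map, hinv, hNinv, hconj]
  rw [← Polynomial.coeff_map, hQ, ← Complex.conj_eq_iff_im, ← Polynomial.coeff_map,
    Polynomial.map_mul, Polynomial.map_map]
  have : (starRingEnd ℂ).comp (starRingEnd ℂ) = RingHom.id ℂ := by
    ext z; simp
  rw [this, Polynomial.map_id, mul_comm]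

end Groth.Agent.Helper7.RealCharpoly
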