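import Mathlib
import Groth.Agent.Helper7.RectDepthD

/-!
# Rectified depth over a regular Jacobson base: depth at nearby closed points (S4896)
-/

set_option autoImplicit false
set_option linter.unusedSectionVars false
set_option linter.unusedVariables false
set_option linter.style.haveILetI false

open CategoryTheory AlgebraicGeometry
universe u

namespace Groth.Agent.Helper7.RectDepthE

open Groth.Agent.Helper5.LocDim Groth.Agent.Helper5.EquiDim Groth.Agent.Helper5.UCat
open Groth.Agent.Helper7.RectDepth Groth.Agent.Helper7.RectDepthC Groth.Agent.Helper7.RectDepthD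

section Top

theorem topDim_closure_of_isClosed {T : Type*} [TopologicalSpace T] (y : T)
    (hy : IsClosed ({y} : Set T)) : topologicalKrullDim ↥(closure ({y} : Set T)) = 0 := by
  rw [hy.closure_eq]
  have h1 : topologicalKrullDim ↥({y} : Set T) ≤ 0 :=
    topologicalKrullDim_zero_of_discreteTopology _
  have h2 : topologicalKrullDim ↥({y} : Set T) ≠ ⊥ := by
    haveI : Nonempty ↥({y} : Set T) := ⟨⟨y, rfl⟩⟩
    exact Groth.Agent.Helper7.RectDepthB.topDim_ne_bot _
  obtain ⟨a, ha⟩ := WithBot.ne_bot_iff_exists.mp h2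
  rw [← ha] at h1 ⊢
  have : a ≤ 0 := by exact_mod_cast h1
  rw [nonpos_iff_eq_zero.mp this]
  rfl

end Top

section Main

variable {X S : Scheme.{u}} [IsLocallyNoetherian S] [JacobsonSpace S]

theorem depth_eq_top_of_subsingleton (F : X.Modules) (y : X)
    (hsub : Subsingleton (F.presheaf.stalk y)) :
    LocCoh.depth ↑(X.presheaf.stalk y) ↑(F.presheaf.stalk y) = ⊤ := by
  unfold LocCoh.depth LocCoh.idealDepth
  rw [if_pos (Subsingleton.elim _ _)]

/-- arithmetic: from `v + p = d` extract natural numbers -/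
theorem arith_split (v p : WithBot ℕ∞) (d : ℕ) (h : v + p = (d : WithBot ℕ∞)) :
    ∃ a e : ℕ, v = (a : WithBot ℕ∞) ∧ p = (e : WithBot ℕ∞) ∧ a + e = d := by
  induction v using WithBot.recBotCoe with
  | bot => simp at h
  | coe a =>
    induction p using WithBot.recBotCoe with
    | bot => simp at h
    | coe e =>
      induction a using ENat.recTopCoe with
      | top =>
        exfalso
        rw [← WithBot.coe_add, top_add] at h
        have : ((⊤ : ℕ∞) : WithBot ℕ∞) = ((d : ℕ∞) : WithBot ℕ∞) := h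
        exact ENat.top_ne_natCast d (WithBot.coe_injective this)
      | coe a =>
        induction e using ENat.recTopCoe with
        | top =>
          exfalso
          rw [← WithBot.coe_add, add_top] at h
          have : ((⊤ : ℕ∞) : WithBot ℕ∞) = ((d : ℕ∞) : WithBot ℕ∞) := h
          exact ENat.top_ne_natCast d (WithBot.coe_injective this)
        | coe e =>
          have h' : a + e = d := by exact_mod_cast h
          exact ⟨a, e, rfl, rfl, h'⟩

/-- a neighbourhood on which the depth at the closed points of `cl{x}` is the rectified depth -/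
theorem good_nhd
    (hreg : ∀ s : S, IsRegularLocalRing ↑(S.presheaf.stalk s))
    (h3 : ∀ S' ∈ irreducibleComponents (S : Type u), ∀ s ∈ S', IsClosed ({s} : Set S) →
      topologicalKrullDim (↥S' : Type u) = topologicalKrullDim ↥{t : S | t ∈ S' ∧ t ⤳ s})
    (g : X ⟶ S) [LocallyOfFiniteType g] (F : X.Modules) (hF : Coh.IsCoh F) (x : X) :
    ∃ (U : X.Opens) (n0 : ℕ∞), x ∈ U ∧
      ((n0 : WithBot ℕ∞) =
        ((LocCoh.depth ↑(X.presheaf.stalk x) ↑(F.presheaf.stalk x) : ℕ∞) : WithBot ℕ∞) +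
          topologicalKrullDim ↥(closure ({x} : Set X))) ∧
      ∀ x' : X, x' ∈ U → x' ∈ closure ({x} : Set X) → IsClosed ({x'} : Set X) →
        LocCoh.depth ↑(X.presheaf.stalk x') ↑(F.presheaf.stalk x') = n0 := by
  haveI : F.IsQuasicoherent := hF.1
  by_cases hsub : Subsingleton (F.presheaf.stalk x)
  · refine ⟨⟨(CohB1.support F)ᶜ, (Groth.Agent.S0020.result X F hF.2).isOpen_compl⟩, ⊤,
      fun h => h hsub, ?_, ?_⟩
    · rw [rect_eq_top_of_subsingleton F x hsub]; rfl
    · intro x' hx' _ _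
      exact depth_eq_top_of_subsingleton F x' (not_not.mp hx')
  · obtain ⟨W, hx, R, _, _, M, _, _, _, ψ, N, d, hψ, hN, hxN, hkey⟩ :=
      local_structure hreg h3 g F hF x
    obtain ⟨a, e, hv, hp, hae⟩ := arith_split _ _ d ((hkey x hx hxN).2 hsub)
    have hOpen : IsOpen (Groth.Agent.Helper1.RegBound.pdLocus (ModuleCat.of R M) e) :=
      Groth.Agent.Helper1.RegBound.isOpen_pdLocus e _
    have hmem : ∀ (Q : PrimeSpectrum R) (k : ℕ),
        Q ∈ Groth.Agent.Helper1.RegBound.pdLocus (ModuleCat.of R M) k ↔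
          projectiveDimension (ModuleCat.of (Localization.AtPrime Q.asIdeal)
            (LocalizedModule Q.asIdeal.primeCompl M)) ≤ (k : WithBot ℕ∞) :=
      fun Q k => Groth.Agent.Helper1.Syzygy.hasPdLE_loc_iff M Q.asIdeal.primeCompl k
    refine ⟨⟨Subtype.val '' (ψ ⁻¹' (N ∩ Groth.Agent.Helper1.RegBound.pdLocus (ModuleCat.of R M) e)),
      W.isOpen.isOpenMap_subtype_val _ ((hN.inter hOpen).preimage hψ)⟩, (a : ℕ∞), ?_, ?_, ?_⟩
    · exact ⟨⟨x, hx⟩, ⟨hxN, (hmem _ e).mpr hp.le⟩, rfl⟩
    · rw [hv]; rfl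
    · rintro _ ⟨⟨x', hx'W⟩, ⟨hx'N, hx'e⟩, rfl⟩ hx'cl hx'closed
      have hsp : x ⤳ x' := specializes_iff_mem_closure.mpr hx'cl
      have hne' : ¬ Subsingleton (F.presheaf.stalk x') := by
        have := Groth.Agent.Helper4.SuppDict.stableUnderSpecialization_support F hsp hsub
        exact this
      have hform := (hkey x' hx'W hx'N).2 hne'
      rw [topDim_closure_of_isClosed x' hx'closed, add_zero] at hform
      obtain ⟨b, e', hb, he', hbe⟩ := arith_split _ _ d hform
      have hle1 : e' ≤ e := by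
        have := (hmem _ e).mp hx'e
        rw [he'] at this
        exact_mod_cast this
      have hle2 : e ≤ e' := by
        have h1 : ψ ⟨x', hx'W⟩ ∈ Groth.Agent.Helper1.RegBound.pdLocus (ModuleCat.of R M) e' :=
          (hmem _ e').mpr he'.le
        have hsp' : ψ ⟨x, hx⟩ ⤳ ψ ⟨x', hx'W⟩ :=
          ((subtype_specializes_iff (⟨x, hx⟩ : ↥W) ⟨x', hx'W⟩).mpr hsp).map hψ
        have h2 := hsp'.mem_open (Groth.Agent.Helper1.RegBound.isOpen_pdLocus e' _) h1
        have h3' := (hmem _ e').mp h2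
        rw [hp] at h3'
        exact_mod_cast h3'
      have hba : b = a := by omega
      have : (LocCoh.depth ↑(X.presheaf.stalk x') ↑(F.presheaf.stalk x') : WithBot ℕ∞) =
          ((a : ℕ∞) : WithBot ℕ∞) := by rw [hb, hba]; rfl
      exact WithBot.coe_injective this

/-- S4896 -/
theorem s4896
    (hreg : ∀ s : S, IsRegularLocalRing ↑(S.presheaf.stalk s))
    (h3 : ∀ S' ∈ irreducibleComponents (S : Type u), ∀ s ∈ S', IsClosed ({s} : Set S) →
      topologicalKrullDim (↥S' : Type u) = topologicalKrullDim ↥{t : S | t ∈ S' ∧ t ⤳ s})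
    (g : X ⟶ S) [LocallyOfFiniteType g] (F : X.Modules) (hF : Coh.IsCoh F) (x : X) (n : ℕ∞) :
      (∃ U : X.Opens, x ∈ U ∧ ∀ x' : ↥U, (x' : X) ∈ closure ({x} : Set X) →
        IsClosed ({x'} : Set ↥U) →
        LocCoh.depth ↑(X.presheaf.stalk (x' : X)) ↑(F.presheaf.stalk (x' : X)) = n) ↔
      ((n : WithBot ℕ∞) =
        ((LocCoh.depth ↑(X.presheaf.stalk x) ↑(F.presheaf.stalk x) : ℕ∞) : WithBot ℕ∞) +
          topologicalKrullDim ↥(closure ({x} : Set X))) := by
  haveI : JacobsonSpace X := LocallyOfFiniteType.jacobsonSpace g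
  obtain ⟨U0, n0, hxU0, hn0, hU0⟩ := good_nhd hreg h3 g F hF x
  have hclosed : ∀ (U : X.Opens) (x' : ↥U),
      IsClosed ({x'} : Set ↥U) ↔ IsClosed ({(x' : X)} : Set X) := by
    intro U x'
    have := U.isOpen.isOpenEmbedding_subtypeVal.preimage_closedPoints
    exact (Set.ext_iff.mp this x').symm
  constructor
  · rintro ⟨U, hxU, hU⟩
    have hlc : IsLocallyClosed ((U : Set X) ∩ (U0 : Set X) ∩ closure ({x} : Set X)) :=
      ((U.isOpen.inter U0.isOpen).isLocallyClosed).inter isClosed_closure.isLocallyClosed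
    obtain ⟨z, ⟨⟨hzU, hzU0⟩, hzcl⟩, hzclosed⟩ :=
      nonempty_inter_closedPoints
        (Z := (U : Set X) ∩ (U0 : Set X) ∩ closure ({x} : Set X))
        ⟨x, ⟨hxU, hxU0⟩, subset_closure rfl⟩ hlc
    have h1 := hU ⟨z, hzU⟩ hzcl ((hclosed U ⟨z, hzU⟩).mpr hzclosed)
    have h2 := hU0 z hzU0 hzcl hzclosed
    have : n = n0 := h1.symm.trans h2
    rw [this]; exact hn0
  · intro hn
    have : n = n0 := WithBot.coe_injective (hn.trans hn0.symm)
    subst this
    exact ⟨U0, hxU0, fun x' hx'cl hx'closed =>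
      hU0 x' x'.2 hx'cl ((hclosed U0 x').mp hx'closed)⟩

end Main

end Groth.Agent.Helper7.RectDepthE
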