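import Mathlib

namespace Groth.Agent.Helper7.ResTensor

universe u v

open TensorProduct

/-- vanishing of `1 ⊗ x` in `κ(p) ⊗ N` -/
theorem exists_smul_mem_of_one_tmul_eq_zero {A : Type u} [CommRing A] (p : Ideal A) [p.IsPrime]
    {N : Type v} [AddCommGroup N] [Module A N] (x : N)
    (hx : (1 : p.ResidueField) ⊗ₜ[A] x = 0) :
    ∃ s : A, s ∉ p ∧ s • x ∈ p • (⊤ : Submodule A N) := by
  -- step 1: pass to κ ⊗_{A/p} (A/p ⊗_A N)
  have h1 : (1 : p.ResidueField) ⊗ₜ[A ⧸ p] ((1 : A ⧸ p) ⊗ₜ[A] x) = 0 := by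
    apply (AlgebraTensorModule.cancelBaseChange A (A ⧸ p) (A ⧸ p) p.ResidueField N).injective
    rw [AlgebraTensorModule.cancelBaseChange_tmul, one_smul, map_zero]
    exact hx
  -- step 2: localized module
  have h2 := (IsLocalizedModule.eq_zero_iff (nonZeroDivisors (A ⧸ p))
    (TensorProduct.mk (A ⧸ p) p.ResidueField ((A ⧸ p) ⊗[A] N) 1)
    (m := (1 : A ⧸ p) ⊗ₜ[A] x)).mp h1
  obtain ⟨⟨c, hc⟩, hcx⟩ := h2
  obtain ⟨s, rfl⟩ := Ideal.Quotient.mk_surjective c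
  refine ⟨s, ?_, ?_⟩
  · intro hs
    have : Ideal.Quotient.mk p s = 0 := Ideal.Quotient.eq_zero_iff_mem.mpr hs
    exact nonZeroDivisors.ne_zero hc this
  · have h3 : (1 : A ⧸ p) ⊗ₜ[A] (s • x) = 0 := by
      have : (Ideal.Quotient.mk p s) • ((1 : A ⧸ p) ⊗ₜ[A] x) = (1 : A ⧸ p) ⊗ₜ[A] (s • x) := by
        rw [TensorProduct.smul_tmul', smul_eq_mul, mul_one, ← TensorProduct.smul_tmul]
        congr 1
        rw [Algebra.smul_def, mul_one]
        rfl
      rw [← this]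
      exact hcx
    rw [← (quotTensorEquivQuotSMul N p).map_eq_zero_iff,
      quotTensorEquivQuotSMul_mk_one_tmul, Submodule.Quotient.mk_eq_zero] at h3
    exact h3

end Groth.Agent.Helper7.ResTensor
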