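import Groth.Agent.Helper7.LocNak
import Groth.Agent.Helper7.ResTensor
import Groth.Agent.Helper7.FlatMilnor2

namespace Groth.Agent.Helper7.RedFib

universe u v

open TensorProduct

theorem main (A : Type u) (B : Type v)
    [CommRing A] [CommRing B] [Algebra A B] [IsNoetherianRing B]
    [Module.Flat A (B ⧸ nilradical B)]
    (hfib : ∀ p : PrimeSpectrum A, IsReduced (p.asIdeal.ResidueField ⊗[A] B)) :
    IsReduced B := by
  rw [← nilradical_eq_bot_iff]
  apply LocNak.eq_bot_of_local_smul B (nilradical B) (IsNoetherian.noetherian _)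
  intro q hq x hx
  haveI : q.IsPrime := hq.isPrime
  let p : Ideal A := q.comap (algebraMap A B)
  haveI hp : p.IsPrime := Ideal.comap_isPrime _ _
  let NA : Submodule A B := (nilradical B).restrictScalars A
  let f : ↥NA →ₗ[A] B := NA.subtype
  let g : B →ₗ[A] B ⧸ nilradical B := (Ideal.Quotient.mkₐ A (nilradical B)).toLinearMap
  have hf : Function.Injective f := Subtype.val_injective
  have hg : Function.Surjective g := Ideal.Quotient.mk_surjective
  have hfg : Function.Exact f g := by
    intro b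
    constructor
    · intro hb
      have : b ∈ nilradical B := Ideal.Quotient.eq_zero_iff_mem.mp hb
      exact ⟨⟨b, this⟩, rfl⟩
    · rintro ⟨⟨y, hy⟩, rfl⟩
      exact Ideal.Quotient.eq_zero_iff_mem.mpr hy
  have hinj := FlatMilnor2.lTensor_injective_of_flat_quotient f g hf hg hfg p.ResidueField
  have hred : IsReduced (p.ResidueField ⊗[A] B) := hfib ⟨p, hp⟩
  have h1 : (1 : p.ResidueField) ⊗ₜ[A] (⟨x, hx⟩ : ↥NA) = 0 := by
    apply hinj
    rw [map_zero, LinearMap.lTensor_tmul]
    change (1 : p.ResidueField) ⊗ₜ[A] x = 0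
    obtain ⟨k, hk⟩ := mem_nilradical.mp hx
    apply IsReduced.eq_zero
    refine ⟨k, ?_⟩
    rw [Algebra.TensorProduct.tmul_pow, hk, TensorProduct.tmul_zero]
  obtain ⟨s, hs, hsx⟩ := ResTensor.exists_smul_mem_of_one_tmul_eq_zero p (⟨x, hx⟩ : ↥NA) h1
  refine ⟨algebraMap A B s, fun h => hs h, ?_⟩
  -- transfer membership
  let S : Submodule A ↥NA := Submodule.comap NA.subtype ((q * nilradical B).restrictScalars A)
  have hle : p • (⊤ : Submodule A ↥NA) ≤ S := by
    rw [Submodule.smul_le]
    intro a ha y _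
    change ((a • y : ↥NA) : B) ∈ q * nilradical B
    rw [Submodule.coe_smul, Algebra.smul_def]
    exact Ideal.mul_mem_mul ha y.2
  have := hle hsx
  change ((s • (⟨x, hx⟩ : ↥NA) : ↥NA) : B) ∈ q * nilradical B at this
  rwa [Submodule.coe_smul, Algebra.smul_def] at this

end Groth.Agent.Helper7.RedFib
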