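import Groth.Agent.Helper7.RedFib

namespace Groth.Agent.Helper7.RedFib

universe u v

open TensorProduct

theorem dvr (A : Type u) [CommRing A]
    [IsDomain A] [IsDiscreteValuationRing A] (B : Type v) [CommRing B] [Algebra A B]
    [IsNoetherianRing B] (hirr : (nilradical B).IsPrime)
    (hdom : (nilradical B).comap (algebraMap A B) = ⊥)
    (hfib : ∀ p : PrimeSpectrum A, IsReduced (p.asIdeal.ResidueField ⊗[A] B)) :
    IsReduced B ∧ Module.Flat A B := by
  haveI : IsDomain (B ⧸ nilradical B) := Ideal.Quotient.isDomain _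
  have htors : Submodule.torsion A (B ⧸ nilradical B) = ⊥ := by
    rw [eq_bot_iff]
    intro b hb
    rw [Submodule.mem_torsion_iff] at hb
    obtain ⟨⟨a, ha⟩, hab⟩ := hb
    rw [Submodule.mem_bot]
    change a • b = 0 at hab
    rw [Algebra.smul_def, mul_eq_zero] at hab
    rcases hab with h | h
    · exfalso
      have h1 : algebraMap A (B ⧸ nilradical B) a = Ideal.Quotient.mk _ (algebraMap A B a) := rfl
      rw [h1, Ideal.Quotient.eq_zero_iff_mem] at h
      have h2 : a ∈ (nilradical B).comap (algebraMap A B) := h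
      rw [hdom, Ideal.mem_bot] at h2
      exact nonZeroDivisors.ne_zero ha h2
    · exact h
  haveI : Module.Flat A (B ⧸ nilradical B) :=
    (Module.Flat.flat_iff_torsion_eq_bot_of_isBezout).mpr htors
  have hred : IsReduced B := main A B hfib
  refine ⟨hred, ?_⟩
  have hbot : nilradical B = ⊥ := nilradical_eq_bot_iff.mpr hred
  have htorsB : Submodule.torsion A B = ⊥ := by
    rw [eq_bot_iff]
    intro b hb
    rw [Submodule.mem_torsion_iff] at hb
    obtain ⟨⟨a, ha⟩, hab⟩ := hb
    rw [Submodule.mem_bot]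
    have h1 : (Ideal.Quotient.mk (nilradical B) b) ∈ Submodule.torsion A (B ⧸ nilradical B) := by
      rw [Submodule.mem_torsion_iff]
      refine ⟨⟨a, ha⟩, ?_⟩
      change a • Ideal.Quotient.mk (nilradical B) b = 0
      change a • b = 0 at hab
      rw [← Ideal.Quotient.mkₐ_eq_mk A, ← map_smul, hab, map_zero]
    rw [htors, Submodule.mem_bot, Ideal.Quotient.eq_zero_iff_mem, hbot, Ideal.mem_bot] at h1
    exact h1
  exact (Module.Flat.flat_iff_torsion_eq_bot_of_isBezout).mpr htorsB

end Groth.Agent.Helper7.RedFib
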