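import Mathlib

/-!
# Reductions modulo almost all primes: torsion-freeness for almost all primes
-/

set_option autoImplicit false
set_option linter.style.haveILetI false
set_option linter.unusedSectionVars false
universe u

namespace Groth.Agent.Helper7.RedModP

/-- the prime numbers lying in a given prime ideal form a subsingleton -/
lemma subsingleton_primes_mem {A : Type*} [CommRing A] (P : Ideal A) [hP : P.IsPrime] :
    {p : ℕ | p.Prime ∧ (p : A) ∈ P}.Subsingleton := by
  rintro p ⟨hp, hpP⟩ q ⟨hq, hqP⟩
  by_contra hne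
  have hcop : IsCoprime (p : ℤ) (q : ℤ) := by
    rw [Int.isCoprime_iff_gcd_eq_one]
    exact (Nat.coprime_primes hp hq).mpr hne
  obtain ⟨u, v, huv⟩ := hcop
  have h1 : (1 : A) ∈ P := by
    have : ((u * p + v * q : ℤ) : A) = 1 := by rw [huv]; simp
    rw [← this]
    push_cast
    exact P.add_mem (P.mul_mem_left _ hpP) (P.mul_mem_left _ hqP)
  exact hP.ne_top ((Ideal.eq_top_iff_one _).mpr h1)

/-- a finite module over a Noetherian ring is `p`-torsion-free for almost all primes `p` -/
theorem finite_torsion (A : Type*) [CommRing A] [IsNoetherianRing A] (M : Type*)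
    [AddCommGroup M] [Module A M] [Module.Finite A M] :
    ∃ E : Set ℕ, E.Finite ∧ ∀ p : ℕ, p.Prime → p ∉ E → ∀ m : M, (p : A) • m = 0 → m = 0 := by
  refine ⟨⋃ P ∈ associatedPrimes A M, {p : ℕ | p.Prime ∧ (p : A) ∈ P}, ?_, ?_⟩
  · apply Set.Finite.biUnion (associatedPrimes.finite A M)
    intro P hP
    haveI : P.IsPrime := (AssociatedPrimes.mem_iff.mp hP).isPrime
    exact (subsingleton_primes_mem P).finite
  · intro p hp hpE m hm
    by_contra hm0
    obtain ⟨P, hP, hle⟩ := exists_le_isAssociatedPrime_of_isNoetherianRing A m hm0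
    apply hpE
    simp only [Set.mem_iUnion, Set.mem_ofPred_eq, exists_prop]
    refine ⟨P, AssociatedPrimes.mem_iff.mpr hP, hp, hle ?_⟩
    rw [Submodule.mem_colon_singleton]
    simpa using hm

end Groth.Agent.Helper7.RedModP
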