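import Mathlib
import Groth.Agent.Helper7.RedModPA
import Groth.Agent.Helper1.FieldSmooth6
import Groth.Agent.Helper2.SepTensorReg
import Groth.Agent.Lead.RegLocal

/-!
# Reductions modulo almost all primes: generic smoothness in characteristic zero
-/

set_option autoImplicit false
set_option linter.style.haveILetI false
set_option linter.unusedSectionVars false
universe u

namespace Groth.Agent.Helper7.RedModP

open TensorProduct

section Smooth

variable (D : Type u) [CommRing D] [IsDomain D] [Algebra.FiniteType ℤ D] [CharZero D]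

/-- generic smoothness over `ℤ` of a finite type domain of characteristic zero -/
theorem exists_smooth : ∃ h : D, h ≠ 0 ∧ Algebra.FormallySmooth ℤ (Localization.Away h) := by
  haveI : Algebra.FinitePresentation ℤ D :=
    Algebra.FinitePresentation.of_finiteType.mp inferInstance
  haveI : CharZero (FractionRing D) :=
    charZero_of_injective_algebraMap (IsFractionRing.injective D (FractionRing D))
  haveI h1 : Algebra.FormallySmooth ℤ ℚ :=
    Algebra.FormallySmooth.of_isLocalization (nonZeroDivisors ℤ)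
  haveI h2 : Algebra.FormallySmooth ℚ (FractionRing D) :=
    Groth.Agent.Helper1.FieldSmooth.formallySmooth_of_charZero
  haveI : @IsScalarTower ℤ ℚ (FractionRing D) Algebra.toSMul Algebra.toSMul Algebra.toSMul :=
    IsScalarTower.of_algebraMap_eq' (Subsingleton.elim _ _)
  haveI h3 : Algebra.FormallySmooth ℤ (FractionRing D) :=
    Algebra.FormallySmooth.comp ℤ ℚ (FractionRing D)
  haveI hbot : (⊥ : Ideal D).IsPrime := Ideal.isPrime_bot
  have hcompl : (⊥ : Ideal D).primeCompl = nonZeroDivisors D := by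
    ext x
    rw [mem_nonZeroDivisors_iff_ne_zero]
    exact Iff.rfl
  haveI hloc : IsLocalization (⊥ : Ideal D).primeCompl (FractionRing D) := by
    rw [hcompl]
    infer_instance
  let e : FractionRing D ≃ₐ[D] Localization.AtPrime (⊥ : Ideal D) :=
    IsLocalization.algEquiv (⊥ : Ideal D).primeCompl _ _
  have h4 : Algebra.FormallySmooth ℤ (Localization.AtPrime (⊥ : Ideal D)) :=
    Algebra.FormallySmooth.of_equiv (e.restrictScalars ℤ)
  have hmem : (⟨⊥, hbot⟩ : PrimeSpectrum D) ∈ Algebra.smoothLocus ℤ D := h4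
  obtain ⟨_, ⟨_, ⟨h, rfl⟩, rfl⟩, hh, hsub⟩ := PrimeSpectrum.isBasis_basic_opens.exists_subset_of_mem_open
    hmem Algebra.isOpen_smoothLocus
  refine ⟨h, ?_, Algebra.basicOpen_subset_smoothLocus_iff.mp hsub⟩
  rintro rfl
  exact hh (zero_mem _)

end Smooth

section Reduced

/-- a regular ring is reduced -/
lemma isReduced_of_isRegularRing (R : Type*) [CommRing R] [IsRegularRing R] : IsReduced R := by
  apply isReduced_ofLocalizationMaximal
  intro P hP
  haveI : IsDomain (Localization.AtPrime P) :=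
    Groth.Agent.Lead.RegLocal.isDomain_of_isRegularLocalRing _
  infer_instance

variable (B : Type u) [CommRing B] [Algebra.FiniteType ℤ B] [Algebra.FormallySmooth ℤ B]

/-- the reduction modulo `p` of a smooth `ℤ`-algebra is reduced -/
theorem isRadical_span_of_smooth (p : ℕ) (hp : p.Prime) :
    (Ideal.span {(p : B)}).IsRadical := by
  haveI : Fact p.Prime := ⟨hp⟩
  let k := ULift.{u} (ZMod p)
  haveI : Algebra.FormallySmooth k (k ⊗[ℤ] B) := inferInstance
  haveI : Algebra.FiniteType k (k ⊗[ℤ] B) := inferInstance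
  haveI : IsRegularRing (k ⊗[ℤ] B) :=
    Groth.Agent.Helper2.SepTensorReg.isRegularRing_of_formallySmooth k (k ⊗[ℤ] B)
  haveI : IsReduced (k ⊗[ℤ] B) := isReduced_of_isRegularRing _
  let I : Ideal ℤ := Ideal.span {(p : ℤ)}
  let e0 : (ℤ ⧸ I) ≃ₐ[ℤ] k :=
    ((Int.quotientSpanNatEquivZMod p).trans (ULift.ringEquiv (R := ZMod p)).symm).toIntAlgEquiv
  let e1 := Algebra.TensorProduct.quotIdealMapEquivQuotTensor B I
  let e2 : (ℤ ⧸ I) ⊗[ℤ] B ≃ₐ[ℤ] k ⊗[ℤ] B := Algebra.TensorProduct.congr e0 AlgEquiv.refl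
  have hmap : I.map (algebraMap ℤ B) = Ideal.span {(p : B)} := by
    rw [Ideal.map_span, Set.image_singleton]
    simp
  haveI : IsReduced (B ⧸ I.map (algebraMap ℤ B)) :=
    isReduced_of_injective ((e2 : (ℤ ⧸ I) ⊗[ℤ] B →+* k ⊗[ℤ] B).comp
      (e1 : (B ⧸ I.map (algebraMap ℤ B)) →+* (ℤ ⧸ I) ⊗[ℤ] B))
      (e2.injective.comp e1.injective)
  rw [← hmap]
  exact (Ideal.isRadical_iff_quotient_reduced _).mpr inferInstance

end Reduced

end Groth.Agent.Helper7.RedModP
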