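import Mathlib
import Groth.Agent.Helper7.RedModPB

/-!
# Reductions modulo almost all primes of a reduced finite type `ℤ`-algebra are reduced
-/

set_option autoImplicit false
set_option linter.style.haveILetI false
set_option linter.unusedSectionVars false
universe u

namespace Groth.Agent.Helper7.RedModP

open TensorProduct

/-- domain of characteristic zero -/
theorem exists_finite_charZero (D : Type u) [CommRing D] [IsDomain D] [Algebra.FiniteType ℤ D]
    [CharZero D] :
    ∃ E : Set ℕ, E.Finite ∧ ∀ p : ℕ, p.Prime → p ∉ E → (Ideal.span {(p : D)}).IsRadical := by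
  obtain ⟨h, hh0, hsm⟩ := exists_smooth D
  haveI : IsNoetherianRing D := Algebra.FiniteType.isNoetherianRing ℤ D
  obtain ⟨E, hE, htor⟩ := finite_torsion D (D ⧸ Ideal.span {h})
  refine ⟨E, hE, fun p hp hpE => ?_⟩
  haveI : Algebra.FiniteType D (Localization.Away h) :=
    IsLocalization.finiteType_of_monoid_fg (Submonoid.powers h) _
  have hft : Algebra.FiniteType ℤ (Localization.Away h) :=
    Algebra.FiniteType.trans (inferInstance : Algebra.FiniteType ℤ D) inferInstance
  have e : (Ring.toIntAlgebra (Localization.Away h)) = OreLocalization.instAlgebra :=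
    Subsingleton.elim _ _
  have hft' : @Algebra.FiniteType ℤ (Localization.Away h) _ _ (Ring.toIntAlgebra _) := by
    rw [e]; exact hft
  have hsm' : @Algebra.FormallySmooth ℤ (Localization.Away h) _ _ (Ring.toIntAlgebra _) := by
    rw [e]; exact hsm
  have hrad := @isRadical_span_of_smooth (Localization.Away h) _ hft' hsm' p hp
  have key : ∀ a b : D, h * a = p * b → a ∈ Ideal.span {(p : D)} := by
    intro a b hab
    have h1 : (p : D) • (Ideal.Quotient.mk (Ideal.span {h}) b) = 0 := by
      rw [Algebra.smul_def, Ideal.Quotient.algebraMap_eq, ← map_mul, ← hab,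
        Ideal.Quotient.eq_zero_iff_mem]
      exact Ideal.mul_mem_right _ _ (Ideal.mem_span_singleton_self h)
    have h2 := htor p hp hpE _ h1
    rw [Ideal.Quotient.eq_zero_iff_mem, Ideal.mem_span_singleton'] at h2
    obtain ⟨c, rfl⟩ := h2
    rw [Ideal.mem_span_singleton']
    refine ⟨c, ?_⟩
    apply mul_left_cancel₀ hh0
    rw [hab]
    ring
  have keypow : ∀ (k : ℕ) (a b : D), h ^ k * a = p * b → a ∈ Ideal.span {(p : D)} := by
    intro k
    induction k with
    | zero =>
      intro a b hab
      rw [pow_zero, one_mul] at hab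
      rw [hab]
      exact Ideal.mul_mem_right _ _ (Ideal.mem_span_singleton_self _)
    | succ k ih =>
      intro a b hab
      have h1 : h * (h ^ k * a) = p * b := by rw [← hab]; ring
      have h2 := key _ _ h1
      rw [Ideal.mem_span_singleton'] at h2
      obtain ⟨c, hc⟩ := h2
      exact ih a c (by rw [← hc]; ring)
  intro a ha
  obtain ⟨n, hn⟩ := ha
  have hinj : Function.Injective (algebraMap D (Localization.Away h)) :=
    IsLocalization.injective _ (powers_le_nonZeroDivisors_of_noZeroDivisors hh0)
  have h1 : (algebraMap D (Localization.Away h) a) ^ n ∈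
      Ideal.span {(p : Localization.Away h)} := by
    rw [Ideal.mem_span_singleton'] at hn ⊢
    obtain ⟨c, hc⟩ := hn
    refine ⟨algebraMap D _ c, ?_⟩
    rw [← map_pow, ← hc, map_mul, map_natCast]
  have h2 := hrad ⟨n, h1⟩
  rw [Ideal.mem_span_singleton'] at h2
  obtain ⟨z, hz⟩ := h2
  obtain ⟨⟨b, ⟨s, hs⟩⟩, hzb⟩ := IsLocalization.surj (Submonoid.powers h) z
  obtain ⟨k, rfl⟩ := hs
  have h3 : h ^ k * a = p * b := by
    apply hinj
    rw [map_mul, map_mul, map_natCast, ← hz]
    simp only at hzb
    rw [← hzb]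
    ring
  exact keypow k a b h3

/-- domain of positive characteristic -/
theorem exists_finite_charP (D : Type u) [CommRing D] (ℓ : ℕ) (hℓ : ℓ.Prime) [CharP D ℓ] :
    ∃ E : Set ℕ, E.Finite ∧ ∀ p : ℕ, p.Prime → p ∉ E → (Ideal.span {(p : D)}).IsRadical := by
  refine ⟨{ℓ}, Set.finite_singleton ℓ, fun p hp hpE => ?_⟩
  have hne : p ≠ ℓ := hpE
  have hcop : IsCoprime (p : ℤ) (ℓ : ℤ) := by
    rw [Int.isCoprime_iff_gcd_eq_one]
    exact (Nat.coprime_primes hp hℓ).mpr hne
  obtain ⟨u, v, huv⟩ := hcop
  have h1 : ((u : D)) * (p : D) = 1 := by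
    have : ((u * p + v * ℓ : ℤ) : D) = 1 := by rw [huv]; simp
    push_cast at this
    rw [CharP.cast_eq_zero D ℓ, mul_zero, add_zero] at this
    exact this
  have htop : Ideal.span {(p : D)} = ⊤ :=
    Ideal.span_singleton_eq_top.mpr (IsUnit.of_mul_eq_one _ (by rw [mul_comm]; exact h1))
  rw [htop]
  intro x _
  exact Submodule.mem_top

/-- any finite type domain -/
theorem exists_finite_domain (D : Type u) [CommRing D] [IsDomain D] [Algebra.FiniteType ℤ D] :
    ∃ E : Set ℕ, E.Finite ∧ ∀ p : ℕ, p.Prime → p ∉ E → (Ideal.span {(p : D)}).IsRadical := by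
  obtain ⟨c, hc⟩ := CharP.exists D
  rcases CharP.char_is_prime_or_zero D c with hprime | h0
  · exact exists_finite_charP D c hprime
  · subst h0
    haveI : CharZero D := CharP.charP_to_charZero D
    exact exists_finite_charZero D

end Groth.Agent.Helper7.RedModP
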