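import Mathlib
import Groth.Agent.Helper7.RedModPC

/-!
# Reductions modulo almost all primes of a reduced finite type `ℤ`-algebra are reduced
-/

set_option autoImplicit false
set_option linter.style.haveILetI false
set_option linter.unusedSectionVars false
universe u

namespace Groth.Agent.Helper7.RedModP

theorem exists_finite (A : Type u) [CommRing A] [Algebra.FiniteType ℤ A] [IsReduced A] :
    ∃ E : Set ℕ, E.Finite ∧ ∀ p : ℕ, p.Prime → p ∉ E → (Ideal.span {(p : A)}).IsRadical := by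
  classical
  haveI : IsNoetherianRing A := Algebra.FiniteType.isNoetherianRing ℤ A
  have hfin : (minimalPrimes A).Finite := minimalPrimes.finite_of_isNoetherianRing A
  let ι := {P : Ideal A // P ∈ minimalPrimes A}
  haveI : Finite ι := hfin.to_subtype
  haveI hprime : ∀ i : ι, i.1.IsPrime := fun i => i.2.1.1
  -- the domains
  have hdom : ∀ i : ι, ∃ E : Set ℕ, E.Finite ∧
      ∀ p : ℕ, p.Prime → p ∉ E → (Ideal.span {(p : A ⧸ i.1)}).IsRadical := by
    intro i
    haveI : IsDomain (A ⧸ i.1) := Ideal.Quotient.isDomain i.1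
    have hft : Algebra.FiniteType ℤ (A ⧸ i.1) :=
      Algebra.FiniteType.of_surjective (Ideal.Quotient.mkₐ ℤ i.1) Ideal.Quotient.mk_surjective
    have e : (Ring.toIntAlgebra (A ⧸ i.1)) = Ideal.Quotient.algebra ℤ := Subsingleton.elim _ _
    have hft' : @Algebra.FiniteType ℤ (A ⧸ i.1) _ _ (Ring.toIntAlgebra _) := by
      rw [e]; exact hft
    exact @exists_finite_domain (A ⧸ i.1) _ _ hft'
  choose E hE hgood using hdom
  -- the product and the cokernel
  let φ : A →ₗ[A] (∀ i : ι, A ⧸ i.1) := Algebra.linearMap A (∀ i : ι, A ⧸ i.1)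
  have hφ : ∀ a i, φ a i = Ideal.Quotient.mk i.1 a := fun a i => rfl
  have hinj : Function.Injective φ := by
    rw [← LinearMap.ker_eq_bot, eq_bot_iff]
    intro a ha
    rw [LinearMap.mem_ker] at ha
    have hmem : a ∈ sInf (minimalPrimes A) := by
      rw [Submodule.mem_sInf]
      intro P hP
      have := congrFun ha ⟨P, hP⟩
      rw [hφ] at this
      exact Ideal.Quotient.eq_zero_iff_mem.mp this
    have h0 : sInf (minimalPrimes A) = ⊥ := by
      show sInf ((⊥ : Ideal A).minimalPrimes) = ⊥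
      rw [Ideal.sInf_minimalPrimes]
      exact nilradical_eq_zero A
    rw [h0] at hmem
    exact hmem
  obtain ⟨EC, hEC, htor⟩ := finite_torsion A ((∀ i : ι, A ⧸ i.1) ⧸ LinearMap.range φ)
  refine ⟨EC ∪ ⋃ i, E i, hEC.union (Set.finite_iUnion hE), fun p hp hpE => ?_⟩
  have hpEC : p ∉ EC := fun h => hpE (Or.inl h)
  have hpEi : ∀ i, p ∉ E i := fun i h => hpE (Or.inr (Set.mem_iUnion.mpr ⟨i, h⟩))
  intro a ha
  obtain ⟨n, hn⟩ := ha
  have hcomp : ∀ i : ι, ∃ b : A ⧸ i.1, Ideal.Quotient.mk i.1 a = (p : A ⧸ i.1) * b := by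
    intro i
    have h1 : (Ideal.Quotient.mk i.1 a) ^ n ∈ Ideal.span {(p : A ⧸ i.1)} := by
      rw [Ideal.mem_span_singleton'] at hn ⊢
      obtain ⟨c, hc⟩ := hn
      refine ⟨Ideal.Quotient.mk i.1 c, ?_⟩
      rw [← map_pow, ← hc, map_mul, map_natCast]
    have h2 := hgood i p hp (hpEi i) ⟨n, h1⟩
    rw [Ideal.mem_span_singleton'] at h2
    obtain ⟨b, hb⟩ := h2
    exact ⟨b, by rw [← hb]; ring⟩
  choose b hb using hcomp
  have h3 : (p : A) • (Submodule.Quotient.mk b :
      (∀ i : ι, A ⧸ i.1) ⧸ LinearMap.range φ) = 0 := by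
    rw [← Submodule.Quotient.mk_smul, Submodule.Quotient.mk_eq_zero]
    refine ⟨a, ?_⟩
    funext i
    rw [hφ, hb i, Pi.smul_apply, Algebra.smul_def, Ideal.Quotient.algebraMap_eq, map_natCast]
  have h4 := htor p hp hpEC _ h3
  rw [Submodule.Quotient.mk_eq_zero] at h4
  obtain ⟨c, hc⟩ := h4
  have h5 : a = p * c := by
    apply hinj
    funext i
    rw [hφ, hb i, ← hc, hφ, hφ, map_mul, map_natCast]
  rw [h5]
  exact Ideal.mul_mem_right _ _ (Ideal.mem_span_singleton_self _)

/-- **S14101** -/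
theorem main (A : Type u) [CommRing A] [Algebra.FiniteType ℤ A] [IsReduced A] :
    {p : ℕ | p.Prime ∧ ¬ IsReduced (A ⧸ Ideal.span {(p : A)})}.Finite := by
  obtain ⟨E, hE, h⟩ := exists_finite A
  apply hE.subset
  rintro p ⟨hp, hnr⟩
  by_contra hpE
  exact hnr ((Ideal.isRadical_iff_quotient_reduced _).mp (h p hp hpE))

end Groth.Agent.Helper7.RedModP
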