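import Mathlib

namespace Groth.Agent.Helper7.ReesPres

universe u

section abstract_cancel

variable {Q : Type*} [CommRing Q] {n : ℕ} (u : Q) (α t : Fin n → Q)

/-- `I_k = (u, α_i : i < k)` -/
def Iab (k : ℕ) : Ideal Q := Ideal.span ({u} ∪ α '' {i : Fin n | (i : ℕ) < k})

/-- `J_k = (u t_i - α_i : i < k)` -/
def Jab (k : ℕ) : Ideal Q := Ideal.span ((fun i => u * t i - α i) '' {i : Fin n | (i : ℕ) < k})

lemma Jab_mono {k l : ℕ} (h : k ≤ l) : Jab u α t k ≤ Jab u α t l :=
  Ideal.span_mono (Set.image_mono (fun _ hi => lt_of_lt_of_le hi h))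

lemma gen_mem_Jab {k : ℕ} (i : Fin n) (hi : (i : ℕ) < k) : u * t i - α i ∈ Jab u α t k :=
  Ideal.subset_span ⟨i, hi, rfl⟩

lemma Jab_succ (k : ℕ) (hk : k < n) :
    Jab u α t (k + 1) = Jab u α t k ⊔ Ideal.span {u * t ⟨k, hk⟩ - α ⟨k, hk⟩} := by
  have : {i : Fin n | (i : ℕ) < k + 1} = {i : Fin n | (i : ℕ) < k} ∪ {⟨k, hk⟩} := by
    ext i
    simp only [Set.mem_ofPred_eq, Set.union_singleton, Set.mem_insert_iff, Fin.ext_iff]
    omega
  rw [Jab, this, Set.image_union, Ideal.span_union, Set.image_singleton]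
  rfl

lemma Iab_le_sup (k : ℕ) : Iab u α k ≤ Ideal.span {u} ⊔ Jab u α t k := by
  rw [Iab, Ideal.span_le]
  rintro x (hx | ⟨i, hi, rfl⟩)
  · rw [Set.mem_singleton_iff] at hx
    rw [hx]
    exact Ideal.mem_sup_left (Ideal.subset_span rfl)
  · have : α i = u * t i - (u * t i - α i) := by ring
    rw [SetLike.mem_coe, this]
    refine Ideal.sub_mem _ (Ideal.mem_sup_left ?_) (Ideal.mem_sup_right (gen_mem_Jab u α t i hi))
    exact Ideal.mul_mem_right _ _ (Ideal.subset_span rfl)

lemma sup_le_Iab (k : ℕ) : Ideal.span {u} ⊔ Jab u α t k ≤ Iab u α k := by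
  have hu : u ∈ Iab u α k := Ideal.subset_span (Or.inl rfl)
  refine sup_le ?_ ?_
  · rw [Ideal.span_le]
    rintro _ rfl
    exact hu
  · rw [Jab, Ideal.span_le]
    rintro _ ⟨i, hi, rfl⟩
    refine Ideal.sub_mem _ (Ideal.mul_mem_right _ _ hu) ?_
    exact Ideal.subset_span (Or.inr ⟨i, hi, rfl⟩)

theorem cancel_abstract (hu : ∀ g, u * g = 0 → g = 0)
    (hreg : ∀ (k : Fin n) (h : Q), α k * h ∈ Iab u α k → h ∈ Iab u α k) :
    ∀ k, k ≤ n → ∀ g : Q, u * g ∈ Jab u α t k → g ∈ Jab u α t k := by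
  intro k
  induction k with
  | zero =>
    intro _ g hg
    have h0 : Jab u α t 0 = ⊥ := by simp [Jab]
    rw [h0, Ideal.mem_bot] at hg ⊢
    exact hu g hg
  | succ k ih =>
    intro hk g hg
    have hk' : k < n := hk
    rw [Jab_succ u α t k hk', Submodule.mem_sup] at hg
    obtain ⟨j, hj, z, hz, hsum⟩ := hg
    obtain ⟨h, rfl⟩ := Ideal.mem_span_singleton'.1 hz
    have h1 : α ⟨k, hk'⟩ * h ∈ Iab u α k := by
      apply sup_le_Iab u α t k
      have : α ⟨k, hk'⟩ * h = u * (t ⟨k, hk'⟩ * h - g) + j := by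
        linear_combination (-1 : Q) * hsum
      rw [this]
      exact Ideal.add_mem _ (Ideal.mem_sup_left (Ideal.mul_mem_right _ _ (Ideal.subset_span rfl)))
        (Ideal.mem_sup_right hj)
    have h2 : h ∈ Iab u α k := hreg ⟨k, hk'⟩ h h1
    have h3 := Iab_le_sup u α t k h2
    rw [Submodule.mem_sup] at h3
    obtain ⟨y, hy, j', hj', hsum'⟩ := h3
    obtain ⟨h', rfl⟩ := Ideal.mem_span_singleton'.1 hy
    have h4 : u * (g - h' * (u * t ⟨k, hk'⟩ - α ⟨k, hk'⟩)) ∈ Jab u α t k := by
      have : u * (g - h' * (u * t ⟨k, hk'⟩ - α ⟨k, hk'⟩)) =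
          j + j' * (u * t ⟨k, hk'⟩ - α ⟨k, hk'⟩) := by
        rw [← hsum'] at hsum
        linear_combination (-1 : Q) * hsum
      rw [this]
      exact Ideal.add_mem _ hj (Ideal.mul_mem_right _ _ hj')
    have h5 := ih (by omega) _ h4
    have h6 : g = (g - h' * (u * t ⟨k, hk'⟩ - α ⟨k, hk'⟩)) +
        h' * (u * t ⟨k, hk'⟩ - α ⟨k, hk'⟩) := by ring
    rw [h6]
    refine Ideal.add_mem _ (Jab_mono u α t (Nat.le_succ k) h5) ?_
    exact Ideal.mul_mem_left _ _ (gen_mem_Jab u α t ⟨k, hk'⟩ (by simp))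

end abstract_cancel

section koszul

variable {R : Type*} [CommRing R]

/-- Koszul syzygies: a syzygy of a sequence which is regular (in the sense that each term is a
non-zero-divisor modulo the previous ones) is a combination of Koszul syzygies. -/
theorem koszul : ∀ {n : ℕ} (r : Fin n → R)
    (_ : ∀ (k : Fin n) (h : R), r k * h ∈ Ideal.span (r '' {i : Fin n | i < k}) →
      h ∈ Ideal.span (r '' {i : Fin n | i < k}))
    (g : Fin n → R), ∑ i, r i * g i = 0 →
    ∃ h : Fin n → Fin n → R, ∀ j, g j = ∑ l, (h j l - h l j) * r l := by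
  intro n
  induction n with
  | zero =>
    intro r _ g _
    exact ⟨fun _ _ => 0, fun j => j.elim0⟩
  | succ n ih =>
    intro r hreg g hg
    set r' : Fin n → R := fun i => r i.castSucc with hr'
    have himg : ∀ k : Fin n, r '' {i : Fin (n + 1) | i < k.castSucc} = r' '' {i : Fin n | i < k} := by
      intro k
      ext x
      constructor
      · rintro ⟨i, hi, rfl⟩
        have hi' : (i : ℕ) < n := lt_of_lt_of_le (Fin.lt_def.1 hi) (by simp)
        refine ⟨⟨i, hi'⟩, ?_, rfl⟩
        exact Fin.lt_def.2 (Fin.lt_def.1 hi)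
      · rintro ⟨i, hi, rfl⟩
        exact ⟨i.castSucc, Fin.castSucc_lt_castSucc_iff.2 hi, rfl⟩
    have hlast : r '' {i : Fin (n + 1) | i < Fin.last n} = Set.range r' := by
      ext x
      constructor
      · rintro ⟨i, hi, rfl⟩
        have hi' : (i : ℕ) < n := Fin.lt_def.1 hi
        exact ⟨⟨i, hi'⟩, rfl⟩
      · rintro ⟨i, rfl⟩
        exact ⟨i.castSucc, Fin.castSucc_lt_last i, rfl⟩
    rw [Fin.sum_univ_castSucc] at hg
    have h1 : r (Fin.last n) * g (Fin.last n) ∈ Ideal.span (r '' {i : Fin (n + 1) | i < Fin.last n}) := by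
      have : r (Fin.last n) * g (Fin.last n) = - ∑ i : Fin n, r' i * g i.castSucc := by
        linear_combination hg
      rw [this, hlast]
      refine Ideal.neg_mem_iff _ |>.2 (Ideal.sum_mem _ fun i _ => ?_)
      exact Ideal.mul_mem_right _ _ (Ideal.subset_span ⟨i, rfl⟩)
    have h2 := hreg (Fin.last n) _ h1
    rw [hlast] at h2
    obtain ⟨e, he⟩ := (Ideal.mem_span_range_iff_exists_fun).1 h2
    have hreg' : ∀ (k : Fin n) (h : R), r' k * h ∈ Ideal.span (r' '' {i : Fin n | i < k}) →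
        h ∈ Ideal.span (r' '' {i : Fin n | i < k}) := by
      intro k h hk
      rw [← himg k] at hk ⊢
      exact hreg k.castSucc h hk
    have hg' : ∑ i : Fin n, r' i * (g i.castSucc + r (Fin.last n) * e i) = 0 := by
      have : ∑ i : Fin n, r' i * (g i.castSucc + r (Fin.last n) * e i) =
          ∑ i : Fin n, r' i * g i.castSucc + r (Fin.last n) * ∑ i : Fin n, e i * r' i := by
        rw [Finset.mul_sum, ← Finset.sum_add_distrib]
        apply Finset.sum_congr rfl
        intro i _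
        ring
      rw [this, he]
      exact hg
    obtain ⟨h', hh'⟩ := ih r' hreg' _ hg'
    refine ⟨fun j l => Fin.lastCases (Fin.lastCases 0 (fun l' => e l') l)
      (fun j' => Fin.lastCases 0 (fun l' => h' j' l') l) j, ?_⟩
    intro j
    induction j using Fin.lastCases with
    | last =>
      rw [Fin.sum_univ_castSucc]
      simp only [Fin.lastCases_last, Fin.lastCases_castSucc, sub_zero, sub_self, zero_mul,
        add_zero]
      exact he.symm
    | cast j' =>
      rw [Fin.sum_univ_castSucc]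
      simp only [Fin.lastCases_last, Fin.lastCases_castSucc, zero_sub]
      have := hh' j'
      linear_combination this

end koszul

end Groth.Agent.Helper7.ReesPres
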