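import Mathlib
import Groth.Agent.Helper7.ReesA

namespace Groth.Agent.Helper7.ReesPres

open MvPolynomial

universe u

variable {A : Type u} [CommRing A] {n : ℕ} (a : Fin n → A)

/-- generators of the Rees ideal -/
noncomputable def lgen (p : Fin n × Fin n) : MvPolynomial (Fin n) A :=
  C (a p.1) * X p.2 - C (a p.2) * X p.1

/-- the ideal of the linear relations `a_i X_j - a_j X_i` -/
noncomputable def L : Ideal (MvPolynomial (Fin n) A) := Ideal.span (Set.range (lgen a))

omit a in
lemma X_regular (k : Fin n) (h : MvPolynomial (Fin n) A)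
    (hk : (X k : MvPolynomial (Fin n) A) * h ∈
      Ideal.span ((fun i => (X i : MvPolynomial (Fin n) A)) '' {i : Fin n | i < k})) :
    h ∈ Ideal.span ((fun i => (X i : MvPolynomial (Fin n) A)) '' {i : Fin n | i < k}) := by
  rw [mem_ideal_span_X_image] at hk ⊢
  intro m hm
  have : Finsupp.single k 1 + m ∈ (X k * h).support := by
    rw [mem_support_iff, coeff_X_mul]; exact mem_support_iff.1 hm
  obtain ⟨i, hi, hne⟩ := hk _ this
  refine ⟨i, hi, ?_⟩
  have hik : k ≠ i := (ne_of_lt hi).symm
  simpa [Finsupp.single_apply, hik] using hne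

/-- Lemma K -/
lemma lemmaK (g : Fin n → MvPolynomial (Fin n) A) (hg : ∑ i, X i * g i ∈ L a) :
    ∑ i, C (a i) * g i ∈ L a := by
  obtain ⟨c, hc⟩ := (Ideal.mem_span_range_iff_exists_fun).1 hg
  set d : Fin n → MvPolynomial (Fin n) A := fun j => ∑ i, (c (i, j) - c (j, i)) * C (a i) with hd
  have hc' : ∑ p : Fin n × Fin n, c p * lgen a p = ∑ j, X j * d j := by
    rw [Fintype.sum_prod_type]
    simp only [lgen, hd, Finset.mul_sum]
    have e1 : ∑ x : Fin n, ∑ y : Fin n, c (x, y) * (C (a x) * X y - C (a y) * X x) =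
        ∑ x : Fin n, ∑ y : Fin n, c (x, y) * (C (a x) * X y) -
          ∑ x : Fin n, ∑ y : Fin n, c (x, y) * (C (a y) * X x) := by
      rw [← Finset.sum_sub_distrib]
      apply Finset.sum_congr rfl; intro x _
      rw [← Finset.sum_sub_distrib]
      apply Finset.sum_congr rfl; intro y _
      ring
    have e2 : ∑ x : Fin n, ∑ i : Fin n, X x * ((c (i, x) - c (x, i)) * C (a i)) =
        ∑ x : Fin n, ∑ i : Fin n, c (i, x) * (C (a i) * X x) -
          ∑ x : Fin n, ∑ i : Fin n, c (x, i) * (C (a i) * X x) := by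
      rw [← Finset.sum_sub_distrib]
      apply Finset.sum_congr rfl; intro x _
      rw [← Finset.sum_sub_distrib]
      apply Finset.sum_congr rfl; intro y _
      ring
    rw [e1, e2]
    congr 1
    exact Finset.sum_comm
  have hzero : ∑ j, X j * (g j - d j) = 0 := by
    simp only [mul_sub, Finset.sum_sub_distrib]
    rw [← hc', hc, sub_self]
  obtain ⟨h, hh⟩ := koszul (fun i => (X i : MvPolynomial (Fin n) A)) X_regular _ hzero
  have hgj : ∀ j, g j = d j + ∑ l, (h j l - h l j) * X l := fun j => by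
    rw [← hh j]; ring
  have e3 : ∑ j, C (a j) * d j = 0 := by
    simp only [hd, Finset.mul_sum]
    have : ∑ x : Fin n, ∑ i : Fin n, C (a x) * ((c (i, x) - c (x, i)) * C (a i)) =
        ∑ x : Fin n, ∑ i : Fin n, c (i, x) * (C (a i) * C (a x)) -
          ∑ x : Fin n, ∑ i : Fin n, c (x, i) * (C (a x) * C (a i)) := by
      rw [← Finset.sum_sub_distrib]
      apply Finset.sum_congr rfl; intro x _
      rw [← Finset.sum_sub_distrib]
      apply Finset.sum_congr rfl; intro y _
      ring
    rw [this, sub_eq_zero]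
    exact Finset.sum_comm
  have e4 : ∑ j, C (a j) * ∑ l, (h j l - h l j) * X l = ∑ p : Fin n × Fin n, h p.1 p.2 * lgen a p := by
    rw [Fintype.sum_prod_type]
    simp only [lgen, Finset.mul_sum]
    have e5 : ∑ x : Fin n, ∑ i : Fin n, C (a x) * ((h x i - h i x) * X i) =
        ∑ x : Fin n, ∑ i : Fin n, h x i * (C (a x) * X i) -
          ∑ x : Fin n, ∑ i : Fin n, h i x * (C (a x) * X i) := by
      rw [← Finset.sum_sub_distrib]
      apply Finset.sum_congr rfl; intro x _
      rw [← Finset.sum_sub_distrib]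
      apply Finset.sum_congr rfl; intro y _
      ring
    have e6 : ∑ x : Fin n, ∑ y : Fin n, h x y * (C (a x) * X y - C (a y) * X x) =
        ∑ x : Fin n, ∑ y : Fin n, h x y * (C (a x) * X y) -
          ∑ x : Fin n, ∑ y : Fin n, h x y * (C (a y) * X x) := by
      rw [← Finset.sum_sub_distrib]
      apply Finset.sum_congr rfl; intro x _
      rw [← Finset.sum_sub_distrib]
      apply Finset.sum_congr rfl; intro y _
      ring
    rw [e5, e6]
    congr 1
    exact Finset.sum_comm
  have : ∑ i, C (a i) * g i = ∑ p : Fin n × Fin n, h p.1 p.2 * lgen a p := by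
    rw [← e4]
    have : ∑ i, C (a i) * g i = ∑ j, C (a j) * d j + ∑ j, C (a j) * ∑ l, (h j l - h l j) * X l := by
      rw [← Finset.sum_add_distrib]
      apply Finset.sum_congr rfl; intro j _
      rw [hgj j]; ring
    rw [this, e3, zero_add]
  rw [this]
  exact Ideal.sum_mem _ fun p _ => Ideal.mul_mem_left _ _ (Ideal.subset_span ⟨p, rfl⟩)


/-- F2: elimination of the auxiliary variable. -/
theorem elim (F : MvPolynomial (Fin n) A) (G : Fin n → Polynomial (MvPolynomial (Fin n) A))
    (hF : Polynomial.C F = ∑ i, G i * (Polynomial.X * Polynomial.C (X i) - Polynomial.C (C (a i)))) :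
    F ∈ L a := by
  set S : ℕ → MvPolynomial (Fin n) A := fun k => ∑ i, C (a i) * (G i).coeff k with hS
  have hcoeff : ∀ (i : Fin n) (k : ℕ),
      (G i * (Polynomial.X * Polynomial.C (X i) - Polynomial.C (C (a i)))).coeff (k + 1) =
        X i * (G i).coeff k - C (a i) * (G i).coeff (k + 1) := by
    intro i k
    rw [mul_sub, Polynomial.coeff_sub, ← mul_assoc, Polynomial.coeff_mul_C, Polynomial.coeff_mul_C,
      Polynomial.coeff_mul_X]
    ring
  have hcoeff0 : ∀ (i : Fin n),
      (G i * (Polynomial.X * Polynomial.C (X i) - Polynomial.C (C (a i)))).coeff 0 =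
        - (C (a i) * (G i).coeff 0) := by
    intro i
    rw [mul_sub, Polynomial.coeff_sub, ← mul_assoc, Polynomial.coeff_mul_C, Polynomial.coeff_mul_C,
      Polynomial.coeff_zero_eq_eval_zero, Polynomial.eval_mul, Polynomial.eval_X]
    simp only [mul_zero, zero_mul, zero_sub]
    rw [Polynomial.coeff_zero_eq_eval_zero]
    ring
  have h0 : F = - S 0 := by
    have := congrArg (fun q => Polynomial.coeff q 0) hF
    simp only [Polynomial.coeff_C_zero, Polynomial.finsetSum_coeff, hcoeff0] at this
    rw [this, hS, Finset.sum_neg_distrib]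
  have hk : ∀ k, ∑ i, X i * (G i).coeff k = S (k + 1) := by
    intro k
    have := congrArg (fun q => Polynomial.coeff q (k + 1)) hF
    simp only [Polynomial.coeff_C_succ, Polynomial.finsetSum_coeff, hcoeff,
      Finset.sum_sub_distrib] at this
    rw [hS]
    exact (sub_eq_zero.1 this.symm)
  have hstep : ∀ k, S (k + 1) ∈ L a → S k ∈ L a := by
    intro k hk1
    rw [← hk k] at hk1
    exact lemmaK a _ hk1
  set N := Finset.univ.sup (fun i => (G i).natDegree) with hN
  have hbig : S (N + 1) ∈ L a := by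
    have : S (N + 1) = 0 := by
      rw [hS]
      apply Finset.sum_eq_zero
      intro i _
      have : (G i).natDegree ≤ N := Finset.le_sup (f := fun i => (G i).natDegree) (Finset.mem_univ i)
      rw [Polynomial.coeff_eq_zero_of_natDegree_lt (by omega), mul_zero]
    rw [this]; exact Ideal.zero_mem _
  have hS0 : S 0 ∈ L a :=
    Nat.decreasingInduction (motive := fun k _ => S k ∈ L a) (fun k _ h => hstep k h) hbig
      (Nat.zero_le _)
  rw [h0]
  exact Ideal.neg_mem_iff _ |>.2 hS0


section F1

/-- the auxiliary data in `Q = P[s]` -/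
noncomputable def uQ : Polynomial (MvPolynomial (Fin n) A) := Polynomial.X

noncomputable def αQ (i : Fin n) : Polynomial (MvPolynomial (Fin n) A) := Polynomial.C (C (a i))

noncomputable def tQ (i : Fin n) : Polynomial (MvPolynomial (Fin n) A) := Polynomial.C (X i)

lemma uQ_cancel (g : Polynomial (MvPolynomial (Fin n) A)) (hg : uQ (A := A) (n := n) * g = 0) :
    g = 0 := by
  apply Polynomial.ext
  intro k
  have := congrArg (fun q => Polynomial.coeff q (k + 1)) hg
  simpa [uQ, Polynomial.coeff_X_mul] using this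

variable (hA : ∀ (k : Fin n) (x : A), a k * x ∈ Ideal.span (a '' {i : Fin n | (i : ℕ) < k}) →
  x ∈ Ideal.span (a '' {i : Fin n | (i : ℕ) < k}))

lemma Iab_le (k : ℕ) : Iab (uQ (A := A) (n := n)) (αQ a) k ≤
    Ideal.comap Polynomial.constantCoeff
      (Ideal.map (C : A →+* MvPolynomial (Fin n) A) (Ideal.span (a '' {i : Fin n | (i : ℕ) < k}))) := by
  rw [Iab, Ideal.span_le]
  rintro x (hx | ⟨i, hi, rfl⟩)
  · rw [Set.mem_singleton_iff] at hx
    rw [hx, SetLike.mem_coe, Ideal.mem_comap]
    simp [uQ]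
  · rw [SetLike.mem_coe, Ideal.mem_comap]
    simp only [αQ, Polynomial.constantCoeff_apply, Polynomial.coeff_C_zero]
    exact Ideal.mem_map_of_mem _ (Ideal.subset_span ⟨i, hi, rfl⟩)

lemma mem_Iab_of_coeff (k : ℕ) (h : Polynomial (MvPolynomial (Fin n) A))
    (hh : h.coeff 0 ∈ Ideal.map (C : A →+* MvPolynomial (Fin n) A)
      (Ideal.span (a '' {i : Fin n | (i : ℕ) < k}))) :
    h ∈ Iab (uQ (A := A) (n := n)) (αQ a) k := by
  have h1 : Ideal.map (C : A →+* MvPolynomial (Fin n) A) (Ideal.span (a '' {i : Fin n | (i : ℕ) < k})) ≤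
      Ideal.comap Polynomial.C (Iab (uQ (A := A) (n := n)) (αQ a) k) := by
    rw [Ideal.map_le_iff_le_comap, Ideal.span_le]
    rintro _ ⟨i, hi, rfl⟩
    rw [SetLike.mem_coe, Ideal.mem_comap, Ideal.mem_comap]
    exact Ideal.subset_span (Or.inr ⟨i, hi, rfl⟩)
  have h2 := h1 hh
  rw [Ideal.mem_comap] at h2
  rw [← Polynomial.X_mul_divX_add h]
  refine Ideal.add_mem _ (Ideal.mul_mem_right _ _ (Ideal.subset_span (Or.inl rfl))) h2

include hA in
lemma hregQ (k : Fin n) (h : Polynomial (MvPolynomial (Fin n) A))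
    (hk : αQ a k * h ∈ Iab (uQ (A := A) (n := n)) (αQ a) k) :
    h ∈ Iab (uQ (A := A) (n := n)) (αQ a) k := by
  have h1 := Iab_le a k hk
  rw [Ideal.mem_comap] at h1
  simp only [αQ, Polynomial.constantCoeff_apply, Polynomial.mul_coeff_zero,
    Polynomial.coeff_C_zero] at h1
  apply mem_Iab_of_coeff
  rw [mem_map_C_iff] at h1 ⊢
  intro m
  have := h1 m
  rw [coeff_C_mul] at this
  exact hA k _ this

include hA in
lemma cancelQ (g : Polynomial (MvPolynomial (Fin n) A))
    (hg : uQ (A := A) (n := n) * g ∈ Jab uQ (αQ a) tQ n) : g ∈ Jab uQ (αQ a) tQ n :=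
  cancel_abstract uQ (αQ a) tQ uQ_cancel (hregQ a hA) n le_rfl g hg

include hA in
lemma cancelQ_pow (d : ℕ) (g : Polynomial (MvPolynomial (Fin n) A))
    (hg : uQ (A := A) (n := n) ^ d * g ∈ Jab uQ (αQ a) tQ n) : g ∈ Jab uQ (αQ a) tQ n := by
  induction d with
  | zero => simpa using hg
  | succ d ih =>
    apply ih
    apply cancelQ a hA
    rw [← mul_assoc, ← pow_succ']
    exact hg

/-- the value of a monomial at `a` -/
noncomputable def ev (m : Fin n →₀ ℕ) : A := ∏ i, a i ^ m i

lemma monomial_mod (m : Fin n →₀ ℕ) (c : A) :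
    uQ (A := A) (n := n) ^ (∑ i, m i) * Polynomial.C (monomial m c) -
      Polynomial.C (C (c * ev a m)) ∈ Jab uQ (αQ a) tQ n := by
  rw [← Ideal.Quotient.eq]
  have hi : ∀ i : Fin n, Ideal.Quotient.mk (Jab uQ (αQ a) tQ n) (uQ * tQ i) =
      Ideal.Quotient.mk (Jab uQ (αQ a) tQ n) (αQ a i) := by
    intro i
    rw [Ideal.Quotient.eq]
    exact gen_mem_Jab _ _ _ i i.2
  have e1 : uQ (A := A) (n := n) ^ (∑ i, m i) * Polynomial.C (monomial m c) =
      Polynomial.C (C c) * ∏ i, (uQ * tQ i) ^ m i := by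
    rw [monomial_eq, Finsupp.prod_fintype _ _ (fun i => by simp)]
    simp only [map_mul, map_prod, map_pow, mul_pow, Finset.prod_mul_distrib,
      Finset.prod_pow_eq_pow_sum, tQ]
    ring
  have e2 : Polynomial.C (C (c * ev a m)) =
      Polynomial.C (C c) * ∏ i, (αQ a i) ^ m i := by
    simp only [ev, map_mul, map_prod, map_pow, αQ]
  rw [e1, e2]
  simp only [map_mul, map_prod, map_pow, hi]


include hA in
theorem F1 (F : MvPolynomial (Fin n) A)
    (hF : MvPolynomial.aeval (R := A)
      (fun i : Fin n => Polynomial.C (a i) * (Polynomial.X : Polynomial A)) F = 0) :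
    Polynomial.C F ∈ Jab uQ (αQ a) tQ n := by
  set deg : (Fin n →₀ ℕ) → ℕ := fun m => ∑ i, m i with hdeg
  have hmon : ∀ (m : Fin n →₀ ℕ) (c : A),
      MvPolynomial.aeval (R := A)
        (fun i : Fin n => Polynomial.C (a i) * (Polynomial.X : Polynomial A)) (monomial m c) =
      Polynomial.C (c * ev a m) * Polynomial.X ^ deg m := by
    intro m c
    rw [aeval_monomial, Finsupp.prod_fintype _ _ (fun i => by simp)]
    simp only [mul_pow, Finset.prod_mul_distrib, Finset.prod_pow_eq_pow_sum, ev, map_mul,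
      map_prod, map_pow, hdeg]
    rw [Polynomial.algebraMap_eq, mul_assoc]
  have h1 : MvPolynomial.aeval (R := A)
        (fun i : Fin n => Polynomial.C (a i) * (Polynomial.X : Polynomial A)) F =
      ∑ m ∈ F.support, Polynomial.C (coeff m F * ev a m) * Polynomial.X ^ deg m := by
    conv_lhs => rw [F.as_sum]
    rw [map_sum]
    exact Finset.sum_congr rfl (fun m _ => hmon m _)
  have hd : ∀ d, ∑ m ∈ F.support.filter (fun m => deg m = d), coeff m F * ev a m = 0 := by
    intro d
    have h2 := congrArg (fun q => Polynomial.coeff q d) (h1.symm.trans hF)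
    simp only [Polynomial.finsetSum_coeff, Polynomial.coeff_C_mul_X_pow, Polynomial.coeff_zero] at h2
    rw [Finset.sum_filter]
    refine Eq.trans ?_ h2
    apply Finset.sum_congr rfl
    intro m _
    by_cases h : deg m = d
    · simp [h]
    · have : ¬ d = deg m := fun h' => h h'.symm
      simp [h, this]
  have hFd : ∀ d, Polynomial.C (∑ m ∈ F.support.filter (fun m => deg m = d),
      monomial m (coeff m F)) ∈ Jab uQ (αQ a) tQ n := by
    intro d
    apply cancelQ_pow a hA d
    have e1 : uQ (A := A) (n := n) ^ d * Polynomial.C (∑ m ∈ F.support.filter (fun m => deg m = d),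
        monomial m (coeff m F)) =
        ∑ m ∈ F.support.filter (fun m => deg m = d),
          (uQ (A := A) (n := n) ^ (∑ i, m i) * Polynomial.C (monomial m (coeff m F)) -
            Polynomial.C (C (coeff m F * ev a m))) +
        Polynomial.C (C (∑ m ∈ F.support.filter (fun m => deg m = d), coeff m F * ev a m)) := by
      rw [map_sum, Finset.mul_sum, Finset.sum_sub_distrib, map_sum, map_sum]
      rw [sub_add_cancel]
      apply Finset.sum_congr rfl
      intro m hm
      have : deg m = d := (Finset.mem_filter.1 hm).2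
      rw [← this]
    rw [e1, hd d, map_zero, map_zero, add_zero]
    exact Ideal.sum_mem _ (fun m _ => monomial_mod a m _)
  have hsum : F = ∑ d ∈ F.support.image deg, ∑ m ∈ F.support.filter (fun m => deg m = d),
      monomial m (coeff m F) := by
    conv_lhs => rw [F.as_sum]
    exact (Finset.sum_fiberwise_of_maps_to (fun m hm => Finset.mem_image_of_mem deg hm) _).symm
  rw [hsum, map_sum]
  exact Ideal.sum_mem _ (fun d _ => hFd d)

end F1


lemma regular_of_weaklyRegular (ha : RingTheory.Sequence.IsWeaklyRegular A (List.ofFn a))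
    (k : Fin n) (x : A) (hx : a k * x ∈ Ideal.span (a '' {i : Fin n | (i : ℕ) < k})) :
    x ∈ Ideal.span (a '' {i : Fin n | (i : ℕ) < k}) := by
  have h := ha.regular_mod_prev k (by simp)
  have hset : {x | x ∈ (List.ofFn a).take k} = a '' {i : Fin n | (i : ℕ) < k} := by
    ext y
    simp only [Set.mem_ofPred_eq, List.mem_take_iff_getElem, List.length_ofFn, List.getElem_ofFn,
      Set.mem_image]
    constructor
    · rintro ⟨i, hi, rfl⟩
      rw [lt_inf_iff] at hi
      exact ⟨⟨i, hi.2⟩, hi.1, rfl⟩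
    · rintro ⟨i, hi, rfl⟩
      exact ⟨i, lt_inf_iff.2 ⟨hi, i.2⟩, rfl⟩
  have h0 : (Ideal.ofList ((List.ofFn a).take k) • ⊤ : Submodule A A) =
      Ideal.span (a '' {i : Fin n | (i : ℕ) < k}) := by
    rw [smul_eq_mul, Ideal.mul_top, Ideal.ofList, hset]
  have h1 : (List.ofFn a)[(k : ℕ)]'(by simp) = a k := by simp
  rw [h1] at h
  have h2 := @h (Submodule.Quotient.mk x) 0 (by
    simp only [smul_zero]
    rw [← Submodule.Quotient.mk_smul, Submodule.Quotient.mk_eq_zero, h0]
    simpa [smul_eq_mul] using hx)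
  rw [Submodule.Quotient.mk_eq_zero, h0] at h2
  exact h2

theorem main (ha : RingTheory.Sequence.IsWeaklyRegular A (List.ofFn a)) :
    RingHom.ker (MvPolynomial.aeval (R := A)
      (fun i : Fin n => Polynomial.C (a i) * (Polynomial.X : Polynomial A))) =
      Ideal.span {q : MvPolynomial (Fin n) A | ∃ i j : Fin n,
        q = MvPolynomial.C (a i) * MvPolynomial.X j - MvPolynomial.C (a j) * MvPolynomial.X i} := by
  have hset : {q : MvPolynomial (Fin n) A | ∃ i j : Fin n,
        q = MvPolynomial.C (a i) * MvPolynomial.X j - MvPolynomial.C (a j) * MvPolynomial.X i} =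
      Set.range (lgen a) := by
    ext q
    constructor
    · rintro ⟨i, j, rfl⟩; exact ⟨(i, j), rfl⟩
    · rintro ⟨p, rfl⟩; exact ⟨p.1, p.2, rfl⟩
  rw [hset]
  change _ = L a
  apply le_antisymm
  · intro F hF
    have hF' : MvPolynomial.aeval (R := A)
      (fun i : Fin n => Polynomial.C (a i) * (Polynomial.X : Polynomial A)) F = 0 := hF
    have h1 := F1 a (regular_of_weaklyRegular a ha) F hF'
    have huniv : {i : Fin n | (i : ℕ) < n} = Set.univ := by ext i; simp
    rw [Jab, huniv, Set.image_univ] at h1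
    obtain ⟨G, hG⟩ := (Ideal.mem_span_range_iff_exists_fun).1 h1
    exact elim a F G hG.symm
  · rw [L, Ideal.span_le]
    rintro _ ⟨p, rfl⟩
    rw [SetLike.mem_coe, RingHom.mem_ker]
    simp only [lgen, map_sub, map_mul, aeval_C, aeval_X, Polynomial.algebraMap_eq]
    ring

end Groth.Agent.Helper7.ReesPres
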