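import Mathlib

/-!
# Factors of monomials in (Laurent) polynomial rings over a domain; Nagata's criterion (helper7)
-/

set_option autoImplicit false
set_option linter.unusedSectionVars false
set_option linter.style.haveILetI false

namespace Groth.Agent.Helper7.ReesUFD

open Polynomial LaurentPolynomial

universe u

section Poly

variable {A : Type u} [CommRing A] [IsDomain A]

/-- a factor of a nonzero monomial over a domain is a monomial -/
theorem poly_monomial_of_mul_eq {p q : A[X]} {a : A} {k : ℕ} (ha : a ≠ 0)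
    (h : p * q = Polynomial.C a * X ^ k) : ∃ (b : A) (i : ℕ), p = Polynomial.C b * X ^ i := by
  have hne : Polynomial.C a * (X : A[X]) ^ k ≠ 0 := by
    rw [C_mul_X_pow_eq_monomial]
    exact (monomial_eq_zero_iff a k).not.mpr ha
  have hp : p ≠ 0 := by
    rintro rfl
    rw [zero_mul] at h
    exact hne h.symm
  have hq : q ≠ 0 := by
    rintro rfl
    rw [mul_zero] at h
    exact hne h.symm
  have h1 : (p * q).natDegree = p.natDegree + q.natDegree := natDegree_mul hp hq
  have h2 : (p * q).natTrailingDegree = p.natTrailingDegree + q.natTrailingDegree :=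
    natTrailingDegree_mul hp hq
  have h3 : (p * q).natDegree = k := by rw [h, natDegree_C_mul_X_pow k a ha]
  have h4 : (p * q).natTrailingDegree = k := by
    rw [h, C_mul_X_pow_eq_monomial, natTrailingDegree_monomial ha]
  have h5 := natTrailingDegree_le_natDegree (p := p)
  have h6 := natTrailingDegree_le_natDegree (p := q)
  have h7 : p.natTrailingDegree = p.natDegree := by omega
  refine ⟨p.leadingCoeff, p.natDegree, ?_⟩
  ext i
  rw [coeff_C_mul_X_pow]
  split_ifs with hi
  · rw [hi]; rfl
  · rcases lt_or_gt_of_ne hi with hlt | hgt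
    · exact coeff_eq_zero_of_lt_natTrailingDegree (h7 ▸ hlt)
    · exact coeff_eq_zero_of_natDegree_lt hgt

/-- a factor of a nonzero monomial in a Laurent polynomial ring over a domain is a monomial -/
theorem laurent_monomial_of_mul_eq {f g : A[T;T⁻¹]} {a : A} {n : ℤ} (ha : a ≠ 0)
    (h : f * g = LaurentPolynomial.C a * T n) :
    ∃ (b : A) (m : ℤ), f = LaurentPolynomial.C b * T m := by
  obtain ⟨N, p, hp⟩ := exists_T_pow f
  obtain ⟨M, q, hq⟩ := exists_T_pow g
  set K : ℕ := n.natAbs with hK
  set k : ℕ := (n + N + K + M).toNat with hk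
  have hk' : (k : ℤ) = n + N + K + M := by
    rw [hk, Int.toNat_of_nonneg]
    omega
  have h1 : toLaurent ((p * X ^ K) * q) = toLaurent (Polynomial.C a * X ^ k) := by
    rw [map_mul, map_mul, hp, hq, Polynomial.toLaurent_C_mul_X_pow, Polynomial.toLaurent_X_pow,
      hk']
    calc f * T ↑N * T ↑K * (g * T ↑M) = (f * g) * (T ↑N * T ↑K * T ↑M) := by ring
      _ = LaurentPolynomial.C a * T n * (T ↑N * T ↑K * T ↑M) := by rw [h]
      _ = LaurentPolynomial.C a * T (n + ↑N + ↑K + ↑M) := by
        rw [T_add, T_add, T_add]; ring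
  have h2 := Polynomial.toLaurent_injective h1
  obtain ⟨b, i, hbi⟩ := poly_monomial_of_mul_eq ha h2
  refine ⟨b, (i : ℤ) - N - K, ?_⟩
  have h3 : f * T ↑N * T ↑K = LaurentPolynomial.C b * T ↑i := by
    rw [← hp, ← Polynomial.toLaurent_X_pow, ← map_mul, hbi, Polynomial.toLaurent_C_mul_X_pow]
  calc f = f * T ↑N * T ↑K * (T (-(N : ℤ)) * T (-(K : ℤ))) := by
        rw [mul_assoc, mul_assoc, ← T_add, ← T_add, ← T_add]
        have : ((N : ℤ) + (↑K + (-↑N + -↑K))) = 0 := by ring
        rw [this, T_zero, mul_one]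
    _ = LaurentPolynomial.C b * T ↑i * (T (-(N : ℤ)) * T (-(K : ℤ))) := by rw [h3]
    _ = LaurentPolynomial.C b * T ((i : ℤ) - N - K) := by
        rw [mul_assoc, ← T_add, ← T_add]
        congr 2
        ring

end Poly


section Coeff

variable {A : Type u} [CommRing A]

theorem coeff_C_mul_T (x : A) (i j : ℤ) :
    (LaurentPolynomial.C x * T i : A[T;T⁻¹]).coeff j = if i = j then x else 0 := by
  classical
  rw [← single_eq_C_mul_T, AddMonoidAlgebra.coeff_single, Finsupp.single_apply]

theorem C_mul_T_inj {x y : A} {i j : ℤ} (hy : y ≠ 0)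
    (h : (LaurentPolynomial.C x * T i : A[T;T⁻¹]) = LaurentPolynomial.C y * T j) :
    x = y ∧ i = j := by
  have h1 := congrArg (fun f : A[T;T⁻¹] => f.coeff j) h
  simp only [coeff_C_mul_T, if_true] at h1
  by_cases hij : i = j
  · rw [if_pos hij] at h1
    exact ⟨h1, hij⟩
  · rw [if_neg hij] at h1
    exact absurd h1.symm hy

theorem C_mul_T_mul (x y : A) (i j : ℤ) :
    (LaurentPolynomial.C x * T i : A[T;T⁻¹]) * (LaurentPolynomial.C y * T j) =
      LaurentPolynomial.C (x * y) * T (i + j) := by
  rw [map_mul, T_add]; ring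

theorem coeff_C_mul (x : A) (g : A[T;T⁻¹]) (j : ℤ) :
    (LaurentPolynomial.C x * g).coeff j = x * g.coeff j := by
  rw [← LaurentPolynomial.smul_eq_C_mul]
  rfl

theorem dvd_of_C_dvd_C {x y : A} (h : (LaurentPolynomial.C x : A[T;T⁻¹]) ∣ LaurentPolynomial.C y) :
    x ∣ y := by
  obtain ⟨g, hg⟩ := h
  refine ⟨g.coeff 0, ?_⟩
  have h1 := congrArg (fun f : A[T;T⁻¹] => f.coeff 0) hg
  simp only [coeff_C_mul] at h1
  rw [← h1]
  have := coeff_C_mul_T y 0 0
  rw [T_zero, mul_one, if_pos rfl] at this
  exact this.symm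

end Coeff

section Descent

variable {A : Type u} [CommRing A] [IsDomain A]

/-- a monomial which is a unit has a unit coefficient -/
theorem isUnit_of_isUnit_C_mul_T {a : A} {n : ℤ}
    (h : IsUnit (LaurentPolynomial.C a * T n : A[T;T⁻¹])) : IsUnit a := by
  obtain ⟨g, hg⟩ := h.exists_right_inv
  have h1 : g * (LaurentPolynomial.C a * T n : A[T;T⁻¹]) =
      LaurentPolynomial.C (1 : A) * T 0 := by
    rw [mul_comm, hg, T_zero, map_one, mul_one]
  obtain ⟨c, m, rfl⟩ := laurent_monomial_of_mul_eq one_ne_zero h1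
  rw [C_mul_T_mul] at h1
  obtain ⟨h2, -⟩ := C_mul_T_inj one_ne_zero h1
  exact IsUnit.of_mul_eq_one c (by rw [mul_comm]; exact h2)

/-- a prime monomial has a prime coefficient -/
theorem prime_of_prime_C_mul_T {b : A} {m : ℤ}
    (h : Prime (LaurentPolynomial.C b * T m : A[T;T⁻¹])) : Prime b := by
  have hC : Prime (LaurentPolynomial.C b : A[T;T⁻¹]) := by
    have hass : Associated (LaurentPolynomial.C b * T m : A[T;T⁻¹]) (LaurentPolynomial.C b) :=
      associated_mul_unit_left _ _ (isUnit_T m)
    exact hass.prime h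
  refine ⟨?_, ?_, ?_⟩
  · rintro rfl
    exact hC.ne_zero (map_zero _)
  · intro hu
    exact hC.not_isUnit (hu.map _)
  · intro x y hxy
    have h1 : (LaurentPolynomial.C b : A[T;T⁻¹]) ∣ LaurentPolynomial.C x * LaurentPolynomial.C y := by
      rw [← map_mul]
      exact map_dvd _ hxy
    rcases hC.dvd_or_dvd h1 with h2 | h2
    · exact Or.inl (dvd_of_C_dvd_C h2)
    · exact Or.inr (dvd_of_C_dvd_C h2)

theorem exists_prime_factors_of_laurent (F : Multiset A[T;T⁻¹]) :
    ∀ (a : A) (n : ℤ), a ≠ 0 → (∀ f ∈ F, Prime f) →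
      Associated F.prod (LaurentPolynomial.C a * T n) →
      ∃ F' : Multiset A, (∀ b ∈ F', Prime b) ∧ Associated F'.prod a := by
  induction F using Multiset.induction_on with
  | empty =>
    intro a n ha _ hass
    rw [Multiset.prod_zero] at hass
    have hu : IsUnit (LaurentPolynomial.C a * T n : A[T;T⁻¹]) :=
      (associated_one_iff_isUnit.mp hass.symm)
    have hua := isUnit_of_isUnit_C_mul_T hu
    refine ⟨0, by simp, ?_⟩
    rw [Multiset.prod_zero]
    exact (associated_one_iff_isUnit.mpr hua).symm
  | cons f F₀ ih =>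
    intro a n ha hF hass
    rw [Multiset.prod_cons] at hass
    obtain ⟨w, hw⟩ := hass
    have h1 : f * (F₀.prod * (w : A[T;T⁻¹])) = LaurentPolynomial.C a * T n := by
      rw [← mul_assoc]; exact hw
    obtain ⟨b, m, hb⟩ := laurent_monomial_of_mul_eq ha h1
    have h1' : (F₀.prod * (w : A[T;T⁻¹])) * f = LaurentPolynomial.C a * T n := by
      rw [mul_comm]; exact h1
    obtain ⟨c, l, hc⟩ := laurent_monomial_of_mul_eq ha h1'
    rw [hb, hc, C_mul_T_mul] at h1
    obtain ⟨hbc, -⟩ := C_mul_T_inj ha h1
    have hc0 : c ≠ 0 := by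
      rintro rfl
      rw [mul_zero] at hbc
      exact ha hbc.symm
    have hass₀ : Associated F₀.prod (LaurentPolynomial.C c * T l) := ⟨w, hc⟩
    obtain ⟨F', hF', hprod⟩ := ih c l hc0 (fun g hg => hF g (Multiset.mem_cons_of_mem hg)) hass₀
    have hbp : Prime b := by
      apply prime_of_prime_C_mul_T (m := m)
      rw [← hb]
      exact hF f (Multiset.mem_cons_self f F₀)
    refine ⟨b ::ₘ F', ?_, ?_⟩
    · intro x hx
      rcases Multiset.mem_cons.mp hx with rfl | hx
      · exact hbp
      · exact hF' x hx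
    · rw [Multiset.prod_cons, ← hbc]
      exact hprod.mul_left b

/-- if the Laurent polynomial ring over a domain `A` is factorial, so is `A` -/
theorem ufd_of_laurent [UniqueFactorizationMonoid A[T;T⁻¹]] : UniqueFactorizationMonoid A := by
  apply UniqueFactorizationMonoid.of_exists_prime_factors
  intro a ha
  have hne : (LaurentPolynomial.C a : A[T;T⁻¹]) ≠ 0 := by
    intro h
    apply ha
    have := coeff_C_mul_T a 0 0
    rw [T_zero, mul_one, if_pos rfl, h] at this
    exact this.symm
  obtain ⟨F, hF, hprod⟩ := UniqueFactorizationMonoid.exists_prime_factors _ hne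
  refine exists_prime_factors_of_laurent F a 0 ha hF ?_
  rw [T_zero, mul_one]
  exact hprod

end Descent

section Nagata

variable {R : Type u} [CommRing R] [IsDomain R]

theorem dvd_of_mul_pow_eq {u y : R} (hu : Prime u) (hy : ¬ u ∣ y) :
    ∀ (k : ℕ) (a c : R), a * u ^ k = y * c → y ∣ a := by
  intro k
  induction k with
  | zero =>
    intro a c h
    rw [pow_zero, mul_one] at h
    exact ⟨c, h⟩
  | succ k ih =>
    intro a c h
    have h1 : u ∣ y * c := ⟨a * u ^ k, by rw [← h, pow_succ]; ring⟩
    rcases hu.dvd_or_dvd h1 with h2 | h2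
    · exact absurd h2 hy
    · obtain ⟨c', rfl⟩ := h2
      apply ih a c'
      have h3 : u * (a * u ^ k) = u * (y * c') := by
        rw [pow_succ] at h
        calc u * (a * u ^ k) = a * (u ^ k * u) := by ring
          _ = y * (u * c') := h
          _ = u * (y * c') := by ring
      exact mul_left_cancel₀ hu.ne_zero h3

/-- **Nagata's criterion**: a domain with ascending chain condition on principal ideals, a prime
element `u` and factorial localization at `u` is factorial -/
theorem nagata [WfDvdMonoid R] (u : R) (hu : Prime u) (L : Type u) [CommRing L] [Algebra R L]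
    [IsLocalization.Away u L] [UniqueFactorizationMonoid L] : UniqueFactorizationMonoid R := by
  have hle : Submonoid.powers u ≤ nonZeroDivisors R :=
    Submonoid.powers_le.mpr (mem_nonZeroDivisors_of_ne_zero hu.ne_zero)
  haveI : IsDomain L := IsLocalization.isDomain_of_le_nonZeroDivisors L hle
  have hinj : Function.Injective (algebraMap R L) := IsLocalization.injective L hle
  rw [UniqueFactorizationMonoid.iff_exists_prime_mem_of_isPrime]
  intro P hP0 hP
  by_cases huP : u ∈ P
  · exact ⟨u, huP, hu⟩
  have hdisj : Disjoint (Submonoid.powers u : Set R) (P : Set R) := by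
    rw [Set.disjoint_left]
    rintro _ ⟨n, rfl⟩ hn
    exact huP (hP.mem_of_pow_mem n hn)
  haveI hP' : (P.map (algebraMap R L)).IsPrime :=
    IsLocalization.isPrime_of_isPrime_disjoint (Submonoid.powers u) L P hP hdisj
  have hcomap : (P.map (algebraMap R L)).comap (algebraMap R L) = P :=
    IsLocalization.under_map_of_isPrime_disjoint (Submonoid.powers u) L hP hdisj
  have hne : P.map (algebraMap R L) ≠ ⊥ := by
    intro h
    apply hP0
    rw [eq_bot_iff]
    intro x hx
    have h1 : algebraMap R L x ∈ P.map (algebraMap R L) := Ideal.mem_map_of_mem _ hx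
    rw [h, Ideal.mem_bot] at h1
    rw [Ideal.mem_bot]
    exact hinj (h1.trans (map_zero _).symm)
  obtain ⟨q, hqP, hq⟩ := Ideal.IsPrime.exists_mem_prime_of_ne_bot hP' hne
  obtain ⟨⟨x, s⟩, hxs⟩ := IsLocalization.surj (Submonoid.powers u) q
  have hs : IsUnit (algebraMap R L s) := IsLocalization.map_units L s
  have hxq : Associated q (algebraMap R L x) := ⟨hs.unit, hxs⟩
  have hxprime : Prime (algebraMap R L x) := hxq.prime hq
  have hxP : x ∈ P := by
    rw [← hcomap, Ideal.mem_comap, ← hxs]
    exact Ideal.mul_mem_right _ _ hqP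
  have hx0 : x ≠ 0 := by
    rintro rfl
    exact hxprime.ne_zero (map_zero _)
  obtain ⟨n, y, hy, hxy⟩ := WfDvdMonoid.max_power_factor hx0 hu.irreducible
  have hyP : y ∈ P := by
    rw [hxy] at hxP
    rcases hP.mem_or_mem hxP with h | h
    · exact absurd (hP.mem_of_pow_mem n h) huP
    · exact h
  have hun : IsUnit (algebraMap R L (u ^ n)) :=
    IsLocalization.map_units L (⟨u ^ n, n, rfl⟩ : Submonoid.powers u)
  have hyprime : Prime (algebraMap R L y) := by
    have hass : Associated (algebraMap R L x) (algebraMap R L y) := by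
      rw [hxy, map_mul]
      exact associated_unit_mul_left _ _ hun
    exact hass.prime hxprime
  refine ⟨y, hyP, ?_, ?_, ?_⟩
  · rintro rfl
    rw [mul_zero] at hxy
    exact hx0 hxy
  · intro hyu
    exact hP.ne_top (Ideal.eq_top_of_isUnit_mem _ hyP hyu)
  · intro a b hab
    have key : ∀ a : R, algebraMap R L y ∣ algebraMap R L a → y ∣ a := by
      intro a ⟨g, hg⟩
      obtain ⟨⟨c, t⟩, hct⟩ := IsLocalization.surj (Submonoid.powers u) g
      obtain ⟨k, hk⟩ := t.2
      have hk' : u ^ k = (t : R) := hk
      have hct' : g * algebraMap R L (t : R) = algebraMap R L c := hct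
      have h1 : algebraMap R L (a * u ^ k) = algebraMap R L (y * c) := by
        rw [map_mul, map_mul, hg, ← hct', hk']
        ring
      exact dvd_of_mul_pow_eq hu hy k a c (hinj h1)
    have h1 : algebraMap R L y ∣ algebraMap R L a * algebraMap R L b := by
      rw [← map_mul]
      exact map_dvd _ hab
    rcases hyprime.dvd_or_dvd h1 with h2 | h2
    · exact Or.inl (key a h2)
    · exact Or.inr (key b h2)

end Nagata

end Groth.Agent.Helper7.ReesUFD
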