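import Mathlib
import Groth.Prelude.Def_W4c2filtblowupsingRees
import Groth.Agent.Helper7.ReesUFD1
import Groth.Agent.Helper7.ExtRees2

/-!
# Factoriality of the extended Rees algebra (helper7)
-/

set_option autoImplicit false
set_option linter.unusedSectionVars false
set_option linter.style.haveILetI false

namespace Groth.Agent.Helper7.ReesUFD

open Polynomial LaurentPolynomial Groth.Agent.Helper7.ExtRees

universe u

variable {A : Type u} [CommRing A] [IsDomain A] (𝓕 : FiltBl.IdealFiltration A)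

theorem u_ne_zero : 𝓕.u ≠ 0 := by
  intro h
  have h1 : (T (-1) : A[T;T⁻¹]) = 0 := congrArg Subtype.val h
  exact (isUnit_T (-1)).ne_zero h1

/-- a monomial `b T^m` of the extended Rees algebra with `b` a unit has `m ≤ 0` -/
theorem le_zero_of_unit_monomial (hsep : ⨅ n, 𝓕.F n = ⊥) {b : A} (hb : IsUnit b) {m : ℤ}
    (h : (LaurentPolynomial.C b * T m : A[T;T⁻¹]) ∈ 𝓕.extRees) : m ≤ 0 := by
  by_contra hm
  push Not at hm
  have h1 := h m
  rw [coeff_C_mul_T, if_pos rfl] at h1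
  have h2 : b ∈ 𝓕.F 1 := 𝓕.antitone (show 1 ≤ m.toNat by omega) h1
  exact F_one_ne_top 𝓕 hsep (Ideal.eq_top_of_isUnit_mem _ h2 hb)

theorem isUnit_of_C (x : ↥𝓕.extRees) {b : A} (hb : IsUnit b)
    (hx : (x : A[T;T⁻¹]) = LaurentPolynomial.C b * T 0) : IsUnit x := by
  obtain ⟨c, hc⟩ := hb.exists_right_inv
  refine IsUnit.of_mul_eq_one (algebraMap A ↥𝓕.extRees c) ?_
  apply Subtype.ext
  rw [Subalgebra.coe_mul, hx, T_zero, mul_one, Subalgebra.coe_algebraMap,
    LaurentPolynomial.algebraMap_apply, Algebra.algebraMap_self, RingHom.id_apply, ← map_mul, hc,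
    map_one]
  rfl

theorem u_irreducible (hsep : ⨅ n, 𝓕.F n = ⊥) : Irreducible 𝓕.u := by
  constructor
  · intro hu
    obtain ⟨v, hv⟩ := hu.exists_right_inv
    have h1 : (T (-1) : A[T;T⁻¹]) * (v : A[T;T⁻¹]) = 1 := congrArg Subtype.val hv
    have h2 : (v : A[T;T⁻¹]) = LaurentPolynomial.C 1 * T 1 := by
      calc (v : A[T;T⁻¹]) = T 1 * (T (-1) * (v : A[T;T⁻¹])) := by
            rw [← mul_assoc, ← T_add]; simp
        _ = LaurentPolynomial.C 1 * T 1 := by rw [h1, mul_one, map_one, one_mul]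
    have h3 : (LaurentPolynomial.C (1 : A) * T 1 : A[T;T⁻¹]) ∈ 𝓕.extRees := h2 ▸ v.2
    have := le_zero_of_unit_monomial 𝓕 hsep isUnit_one h3
    omega
  · intro x y hxy
    have h1 : (x : A[T;T⁻¹]) * (y : A[T;T⁻¹]) = LaurentPolynomial.C 1 * T (-1) := by
      rw [map_one, one_mul]
      exact (congrArg Subtype.val hxy).symm
    obtain ⟨b, m, hb⟩ := laurent_monomial_of_mul_eq one_ne_zero h1
    have h1' : (y : A[T;T⁻¹]) * (x : A[T;T⁻¹]) = LaurentPolynomial.C 1 * T (-1) := by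
      rw [mul_comm]; exact h1
    obtain ⟨c, l, hc⟩ := laurent_monomial_of_mul_eq one_ne_zero h1'
    rw [hb, hc, C_mul_T_mul] at h1
    obtain ⟨hbc, hml⟩ := C_mul_T_inj one_ne_zero h1
    have hbu : IsUnit b := IsUnit.of_mul_eq_one c hbc
    have hcu : IsUnit c := IsUnit.of_mul_eq_one b (by rw [mul_comm]; exact hbc)
    have hm : m ≤ 0 := le_zero_of_unit_monomial 𝓕 hsep hbu (hb ▸ x.2)
    have hl : l ≤ 0 := le_zero_of_unit_monomial 𝓕 hsep hcu (hc ▸ y.2)
    by_cases hm0 : m = 0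
    · left
      exact isUnit_of_C 𝓕 x hbu (hm0 ▸ hb)
    · right
      have hl0 : l = 0 := by omega
      exact isUnit_of_C 𝓕 y hcu (hl0 ▸ hc)

theorem ufd_laurent_of_ufd [UniqueFactorizationMonoid A] : UniqueFactorizationMonoid A[T;T⁻¹] :=
  UniqueFactorizationMonoid.of_isLocalization (Submonoid.powers (X : A[X])) A[T;T⁻¹]

theorem main [IsNoetherianRing A] (hsep : ⨅ n, 𝓕.F n = ⊥)
    (hfg : Algebra.FiniteType A 𝓕.rees) [IsDomain 𝓕.extRees] :
    UniqueFactorizationMonoid 𝓕.extRees ↔ (UniqueFactorizationMonoid A ∧ IsDomain 𝓕.Gr) := by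
  constructor
  · intro hU
    haveI : UniqueFactorizationMonoid A[T;T⁻¹] :=
      UniqueFactorizationMonoid.of_isLocalization (Submonoid.powers 𝓕.u) A[T;T⁻¹]
    refine ⟨ufd_of_laurent, ?_⟩
    have hp : Prime 𝓕.u := UniqueFactorizationMonoid.irreducible_iff_prime.mp (u_irreducible 𝓕 hsep)
    have : (Ideal.span {𝓕.u}).IsPrime := (Ideal.span_singleton_prime (u_ne_zero 𝓕)).mpr hp
    exact Ideal.Quotient.isDomain _
  · rintro ⟨hA, hG⟩
    haveI := hA
    haveI : UniqueFactorizationMonoid A[T;T⁻¹] := ufd_laurent_of_ufd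
    have hprime : (Ideal.span {𝓕.u}).IsPrime := (Ideal.Quotient.isDomain_iff_prime _).mp hG
    have hp : Prime 𝓕.u := (Ideal.span_singleton_prime (u_ne_zero 𝓕)).mp hprime
    haveI : IsNoetherianRing ↥𝓕.extRees := isNoetherianRing 𝓕 hfg
    exact nagata 𝓕.u hp A[T;T⁻¹]

end Groth.Agent.Helper7.ReesUFD
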