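import Mathlib

set_option autoImplicit false
set_option maxSynthPendingDepth 3
set_option linter.style.haveILetI false
set_option linter.unusedSectionVars false

namespace Groth.Agent.Helper7.Reg

open Polynomial Function

variable {K : Type*} [Field K] {ι : Type*} [Fintype ι] [DecidableEq ι]

/-- the finite product of primary cyclic modules, as a ring. -/
abbrev SS (p : ι → K[X]) (e : ι → ℕ) : Type _ := ∀ i, K[X] ⧸ Ideal.span {p i ^ e i}

theorem crt_surj (p : ι → K[X]) (e : ι → ℕ) (hp : ∀ i, Irreducible (p i))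
    (hgood : ∀ i j, i ≠ j → 0 < e i → 0 < e j → ¬ Associated (p i) (p j)) :
    Function.Surjective (algebraMap K[X] (SS p e)) := by
  have hI : Pairwise (IsCoprime on fun i => Ideal.span {p i ^ e i}) := by
    intro i j hij
    show IsCoprime (Ideal.span {p i ^ e i}) (Ideal.span {p j ^ e j})
    rw [Ideal.isCoprime_span_singleton_iff]
    rcases Nat.eq_zero_or_pos (e i) with h0 | hi
    · rw [h0, pow_zero]; exact isCoprime_one_left
    rcases Nat.eq_zero_or_pos (e j) with h0 | hj
    · rw [h0, pow_zero]; exact isCoprime_one_right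
    apply IsCoprime.pow
    rw [(hp i).coprime_iff_not_dvd]
    intro hdvd
    exact hgood i j hij hi hj ((hp i).associated_of_dvd (hp j) hdvd)
  intro x
  obtain ⟨r, hr⟩ := Ideal.pi_quotient_surjective hI x
  refine ⟨r, ?_⟩
  funext i
  exact hr i


section caseA

variable (p : ι → K[X]) (e : ι → ℕ) (a b : ι)

/-- the off-diagonal map `W a → W b`, `1 ↦ p_b^(e_b-1)`. -/
noncomputable def nu (hea : 0 < e a) (hass : Associated (p a) (p b)) :
    (K[X] ⧸ Ideal.span {p a ^ e a}) →ₗ[K[X]] (K[X] ⧸ Ideal.span {p b ^ e b}) :=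
  Submodule.liftQ _ (LinearMap.toSpanSingleton K[X] (K[X] ⧸ Ideal.span {p b ^ e b})
    (Ideal.Quotient.mk _ (p b ^ (e b - 1)))) (by
    intro r hr
    rw [LinearMap.mem_ker, LinearMap.toSpanSingleton_apply]
    obtain ⟨s, rfl⟩ := Ideal.mem_span_singleton'.mp hr
    rw [Algebra.smul_def, Ideal.Quotient.algebraMap_eq, ← map_mul, Ideal.Quotient.eq_zero_iff_mem,
      Ideal.mem_span_singleton]
    obtain ⟨u, hu⟩ := hass.symm
    -- p a = p b * u
    have h1 : p b ∣ p a ^ e a := by
      rw [← hu]
      exact Dvd.dvd.pow (Dvd.intro _ rfl) hea.ne'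
    obtain ⟨c, hc⟩ := h1
    by_cases heb : e b = 0
    · rw [heb, pow_zero]; exact one_dvd _
    have : p b ^ e b = p b ^ (e b - 1) * p b := by
      rw [← pow_succ]; congr 1; omega
    rw [this, hc]
    exact ⟨s * c, by ring⟩)

theorem nu_one (hea : 0 < e a) (hass : Associated (p a) (p b)) :
    nu p e a b hea hass 1 = Ideal.Quotient.mk _ (p b ^ (e b - 1)) := by
  have : (1 : K[X] ⧸ Ideal.span {p a ^ e a}) = Submodule.Quotient.mk 1 := rfl
  rw [this, nu, Submodule.liftQ_apply, LinearMap.toSpanSingleton_apply, one_smul]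

theorem nu_one_ne (hp : Irreducible (p b)) (hea : 0 < e a) (heb : 0 < e b)
    (hass : Associated (p a) (p b)) :
    nu p e a b hea hass 1 ≠ 0 := by
  rw [nu_one, Ne, Ideal.Quotient.eq_zero_iff_mem, Ideal.mem_span_singleton,
    pow_dvd_pow_iff hp.ne_zero hp.not_isUnit]
  omega

/-- the off-diagonal endomorphism. -/
noncomputable def NN (hea : 0 < e a) (hass : Associated (p a) (p b)) :
    SS p e →ₗ[K[X]] SS p e :=
  (LinearMap.single K[X] (fun i => K[X] ⧸ Ideal.span {p i ^ e i}) b) ∘ₗ (nu p e a b hea hass) ∘ₗ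
    (LinearMap.proj a)

theorem NN_apply (hea : 0 < e a) (hass : Associated (p a) (p b)) (s : SS p e) :
    NN p e a b hea hass s = Pi.single b (nu p e a b hea hass (s a)) := rfl

/-- the injection `S × K → End_{K[X]}(S)`. -/
noncomputable def Phi (hea : 0 < e a) (hass : Associated (p a) (p b)) :
    (SS p e × K) →ₗ[K] (SS p e →ₗ[K[X]] SS p e) where
  toFun st := LinearMap.mulLeft K[X] st.1 + st.2 • NN p e a b hea hass
  map_add' x y := by
    apply LinearMap.ext; intro s; funext i
    simp only [Prod.fst_add, Prod.snd_add, LinearMap.add_apply, LinearMap.mulLeft_apply,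
      LinearMap.smul_apply, Pi.add_apply, Pi.mul_apply, Pi.smul_apply]
    rw [add_mul, add_smul]
    abel
  map_smul' c x := by
    apply LinearMap.ext; intro s; funext i
    simp only [Prod.smul_fst, Prod.smul_snd, LinearMap.add_apply, LinearMap.mulLeft_apply,
      LinearMap.smul_apply, Pi.add_apply, Pi.mul_apply, Pi.smul_apply, RingHom.id_apply, smul_eq_mul]
    rw [smul_mul_assoc, mul_smul, smul_add]

theorem Phi_apply (hea : 0 < e a) (hass : Associated (p a) (p b)) (st : SS p e × K) (s : SS p e) :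
    Phi p e a b hea hass st s = st.1 * s + st.2 • NN p e a b hea hass s := rfl

theorem Phi_injective (hp : Irreducible (p b)) (hab : a ≠ b) (hea : 0 < e a) (heb : 0 < e b)
    (hass : Associated (p a) (p b)) :
    Function.Injective (Phi p e a b hea hass) := by
  rw [injective_iff_map_eq_zero]
  rintro ⟨s, t⟩ h
  have h1 := congrFun (LinearMap.congr_fun h (Pi.single a 1)) b
  rw [Phi_apply, NN_apply] at h1
  simp only [Pi.add_apply, Pi.mul_apply, Pi.smul_apply, Pi.single_eq_same, LinearMap.zero_apply,
    Pi.zero_apply, Pi.single_eq_of_ne hab.symm, mul_zero, zero_add] at h1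
  have ht : t = 0 := by
    rcases smul_eq_zero.mp h1 with h | h
    · exact h
    · exact absurd h (nu_one_ne p e a b hp hea heb hass)
  subst ht
  have h2 := LinearMap.congr_fun h 1
  rw [Phi_apply] at h2
  simp only [mul_one, zero_smul, add_zero, LinearMap.zero_apply] at h2
  rw [h2]
  rfl

end caseA

end Groth.Agent.Helper7.Reg
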