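import Groth.Agent.Helper7.Reg1

set_option autoImplicit false
set_option maxSynthPendingDepth 3
set_option linter.style.haveILetI false
set_option linter.unusedSectionVars false

namespace Groth.Agent.Helper7.Reg

open Polynomial Function
open scoped DirectSum

universe u

variable {K : Type u} [Field K] {n : ℕ}

/-- structure theorem: `K^n` with `h` is, as a `K[X]`-module, a finite product of primary cyclic
modules. -/
theorem exists_theta (h : Matrix (Fin n) (Fin n) K) :
    ∃ (ι : Type u) (_ : Fintype ι) (_ : DecidableEq ι) (p : ι → K[X]) (_ : ∀ i, Irreducible (p i))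
      (e : ι → ℕ) (θ : (Fin n → K) ≃ₗ[K] SS p e),
      ∀ (f : K[X]) (v : Fin n → K), θ ((aeval h f).mulVec v) = f • θ v := by
  classical
  set φ : Module.End K (Fin n → K) := Matrix.toLin' h with hφ
  have htors : Module.IsTorsion K[X] (Module.AEval' φ) :=
    Module.AEval.isTorsion_of_finiteDimensional K (Fin n → K) φ
  obtain ⟨ι, hι, p, hp, e, ⟨E⟩⟩ := Module.equiv_directSum_of_isTorsion htors
  let T : Module.AEval' φ ≃ₗ[K[X]] SS p e :=
    E.trans (DirectSum.linearEquivFunOnFintype K[X] ι (fun i => K[X] ⧸ Ideal.span {p i ^ e i}))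
  refine ⟨ι, hι, inferInstance, p, hp, e,
    (Module.AEval'.of φ).trans (T.restrictScalars K), ?_⟩
  intro f v
  have h1 : (aeval h f).mulVec v = (aeval φ f) v := by
    have : aeval φ f = Matrix.toLin' (aeval h f) := by
      rw [hφ]
      have := Polynomial.aeval_algHom_apply (Matrix.toLinAlgEquiv' (R := K) (n := Fin n)).toAlgHom h f
      exact this
    rw [this, Matrix.toLin'_apply]
  rw [h1]
  simp only [LinearEquiv.trans_apply, LinearEquiv.restrictScalars_apply]
  have h2 : Module.AEval'.of φ ((aeval φ f) v) = f • Module.AEval'.of φ v :=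
    Module.AEval.of_aeval_smul φ f v
  rw [h2, map_smul]

end Groth.Agent.Helper7.Reg
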