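import Groth.Agent.Helper7.Reg2

set_option autoImplicit false
set_option maxSynthPendingDepth 3
set_option linter.style.haveILetI false
set_option linter.unusedSectionVars false

namespace Groth.Agent.Helper7.Reg

open Polynomial Function

universe u

variable {K : Type u} [Field K] {n : ℕ} {ι : Type u} [Fintype ι] [DecidableEq ι]
  {p : ι → K[X]} {e : ι → ℕ}

section Xi

variable (h : Matrix (Fin n) (Fin n) K) (θ : (Fin n → K) ≃ₗ[K] SS p e)
  (hθ : ∀ (f : K[X]) (v : Fin n → K), θ ((aeval h f).mulVec v) = f • θ v)

include hθ in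
theorem theta_X (v : Fin n → K) : θ (h.mulVec v) = (X : K[X]) • θ v := by
  have := hθ X v
  rwa [aeval_X] at this

/-- conjugate of an endomorphism, as a `K`-linear map on `K^n`. -/
noncomputable def conjLin (f : SS p e →ₗ[K[X]] SS p e) : (Fin n → K) →ₗ[K] (Fin n → K) :=
  θ.symm.toLinearMap ∘ₗ (f.restrictScalars K) ∘ₗ θ.toLinearMap

theorem conjLin_apply (f : SS p e →ₗ[K[X]] SS p e) (v : Fin n → K) :
    conjLin θ f v = θ.symm (f (θ v)) := rfl

include hθ in
theorem conjLin_comm (f : SS p e →ₗ[K[X]] SS p e) :
    h * LinearMap.toMatrix' (conjLin θ f) = LinearMap.toMatrix' (conjLin θ f) * h := by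
  have e1 : h = LinearMap.toMatrix' (Matrix.toLin' h) := (LinearMap.toMatrix'_toLin' h).symm
  conv_lhs => rw [e1]
  conv_rhs => rw [e1]
  rw [← LinearMap.toMatrix'_comp, ← LinearMap.toMatrix'_comp]
  congr 1
  apply LinearMap.ext
  intro v
  simp only [LinearMap.comp_apply, Matrix.toLin'_apply, conjLin_apply]
  apply θ.injective
  rw [theta_X h θ hθ, LinearEquiv.apply_symm_apply, theta_X h θ hθ, LinearEquiv.apply_symm_apply,
    map_smul]

/-- the embedding of `End_{K[X]}(S)` into the centralizer of `h`. -/
noncomputable def Xi : (SS p e →ₗ[K[X]] SS p e) →ₗ[K]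
    Subalgebra.centralizer K ({h} : Set (Matrix (Fin n) (Fin n) K)) where
  toFun f := ⟨LinearMap.toMatrix' (conjLin θ f), by
    rw [Subalgebra.mem_centralizer_iff]
    intro g hg
    rw [Set.mem_singleton_iff] at hg
    subst hg
    exact conjLin_comm g θ hθ f⟩
  map_add' f g := by
    apply Subtype.ext
    show LinearMap.toMatrix' (conjLin θ (f + g)) =
      LinearMap.toMatrix' (conjLin θ f) + LinearMap.toMatrix' (conjLin θ g)
    rw [← map_add]
    congr 1
    apply LinearMap.ext
    intro v
    simp only [conjLin_apply, LinearMap.add_apply, map_add]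
  map_smul' c f := by
    apply Subtype.ext
    show LinearMap.toMatrix' (conjLin θ (c • f)) = c • LinearMap.toMatrix' (conjLin θ f)
    rw [← map_smul]
    congr 1
    apply LinearMap.ext
    intro v
    simp only [conjLin_apply, LinearMap.smul_apply, map_smul]

theorem Xi_injective : Function.Injective (Xi h θ hθ) := by
  intro f g hfg
  have h1 : LinearMap.toMatrix' (conjLin θ f) = LinearMap.toMatrix' (conjLin θ g) :=
    congrArg Subtype.val hfg
  have h2 : conjLin θ f = conjLin θ g := LinearMap.toMatrix'.injective h1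
  apply LinearMap.ext
  intro s
  have h3 := LinearMap.congr_fun h2 (θ.symm s)
  rw [conjLin_apply, conjLin_apply, LinearEquiv.apply_symm_apply] at h3
  exact θ.symm.injective h3

end Xi

end Groth.Agent.Helper7.Reg
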