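import Groth.Agent.Helper7.Reg3

set_option autoImplicit false
set_option maxSynthPendingDepth 3
set_option linter.style.haveILetI false
set_option linter.unusedSectionVars false

namespace Groth.Agent.Helper7.Reg

open Polynomial Function

universe u

variable {K : Type u} [Field K] {n : ℕ}

/-- the Krylov matrix `[v, h v, …, h^(n-1) v]`. -/
def kry {R : Type*} [CommRing R] (h : Matrix (Fin n) (Fin n) R) (v : Fin n → R) :
    Matrix (Fin n) (Fin n) R :=
  Matrix.of fun i j => ((h ^ (j : ℕ)).mulVec v) i

theorem kry_mulVec {R : Type*} [CommRing R] (h : Matrix (Fin n) (Fin n) R) (v c : Fin n → R) :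
    (kry h v).mulVec c = (∑ j : Fin n, c j • h ^ (j : ℕ)).mulVec v := by
  funext i
  simp only [Matrix.mulVec, dotProduct, kry, Matrix.of_apply, Matrix.sum_apply, Matrix.smul_apply,
    smul_eq_mul, Finset.sum_mul]
  rw [Finset.sum_comm]
  apply Finset.sum_congr rfl
  intro j _
  apply Finset.sum_congr rfl
  intro l _
  ring

theorem exists_cyclic (h : Matrix (Fin n) (Fin n) K)
    (hreg : Module.finrank K (Subalgebra.centralizer K ({h} : Set (Matrix (Fin n) (Fin n) K))) = n) :
    ∃ v : Fin n → K, (kry h v).det ≠ 0 := by
  classical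
  obtain ⟨ι, hι, hdec, p, hp, e, θ, hθ⟩ := exists_theta h
  haveI : Module.Finite K (SS p e) := Module.Finite.equiv θ
  have hfr : Module.finrank K (SS p e) = n := by
    rw [← θ.finrank_eq, Module.finrank_fin_fun]
  by_cases hbad : ∃ a b, a ≠ b ∧ 0 < e a ∧ 0 < e b ∧ Associated (p a) (p b)
  · exfalso
    obtain ⟨a, b, hab, hea, heb, hass⟩ := hbad
    have hinj : Function.Injective ((Xi h θ hθ) ∘ₗ (Phi p e a b hea hass)) :=
      (Xi_injective h θ hθ).comp (Phi_injective p e a b (hp b) hab hea heb hass)
    have := LinearMap.finrank_le_finrank_of_injective hinj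
    rw [Module.finrank_prod, hfr, Module.finrank_self, hreg] at this
    omega
  · push Not at hbad
    have hsurj := crt_surj p e hp (fun i j hij hi hj => hbad i j hij hi hj)
    refine ⟨θ.symm 1, ?_⟩
    -- every vector is `f(h) v`
    have hall : ∀ w : Fin n → K, ∃ f : K[X], w = (aeval h f).mulVec (θ.symm 1) := by
      intro w
      obtain ⟨f, hf⟩ := hsurj (θ w)
      refine ⟨f, ?_⟩
      apply θ.injective
      rw [hθ, LinearEquiv.apply_symm_apply, ← hf, Algebra.smul_def, mul_one]
    -- reduce mod charpoly
    have hsur : Function.Surjective (kry h (θ.symm 1)).mulVec := by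
      intro w
      obtain ⟨f, hf⟩ := hall w
      set r := f %ₘ h.charpoly with hr
      have hdeg : r.natDegree < n ∨ n = 0 := by
        rcases Nat.eq_zero_or_pos n with h0 | hpos
        · right; exact h0
        left
        have h1 := Polynomial.natDegree_modByMonic_lt f (Matrix.charpoly_monic h)
          (by
            intro h1
            have := Matrix.charpoly_natDegree_eq_dim h
            rw [h1, natDegree_one, Fintype.card_fin] at this
            omega)
        rwa [Matrix.charpoly_natDegree_eq_dim, Fintype.card_fin] at h1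
      rcases hdeg with hdeg | h0
      · have hfr' : aeval h f = aeval h r := by
          conv_lhs => rw [← Polynomial.modByMonic_add_div f h.charpoly]
          rw [map_add, map_mul, Matrix.aeval_self_charpoly, zero_mul, add_zero]
        refine ⟨fun j => r.coeff j, ?_⟩
        rw [kry_mulVec, hf, hfr']
        congr 1
        rw [Polynomial.aeval_eq_sum_range' hdeg, Finset.sum_range]
      · subst h0
        exact ⟨0, Subsingleton.elim _ _⟩
    have hunit := Matrix.mulVec_surjective_iff_isUnit.mp hsur
    exact ((Matrix.isUnit_iff_isUnit_det _).mp hunit).ne_zero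

end Groth.Agent.Helper7.Reg
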