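import Groth.Agent.Helper7.Reg4

set_option autoImplicit false
set_option maxSynthPendingDepth 3
set_option linter.style.haveILetI false
set_option linter.unusedSectionVars false

namespace Groth.Agent.Helper7.Reg

open Polynomial Function

variable {B : Type*} [CommRing B] {n : ℕ}

/-- `∑ c_j g^j`. -/
def pol (g : Matrix (Fin n) (Fin n) B) (c : Fin n → B) : Matrix (Fin n) (Fin n) B :=
  ∑ j : Fin n, c j • g ^ (j : ℕ)

theorem pol_eq_aeval (g : Matrix (Fin n) (Fin n) B) (c : Fin n → B) :
    pol g c = aeval g (∑ j : Fin n, C (c j) * X ^ (j : ℕ)) := by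
  rw [pol, map_sum]
  apply Finset.sum_congr rfl
  intro j _
  rw [map_mul, aeval_C, map_pow, aeval_X, Algebra.smul_def]

theorem pol_comm (g : Matrix (Fin n) (Fin n) B) (c c' : Fin n → B) :
    pol g c * pol g c' = pol g c' * pol g c := by
  rw [pol_eq_aeval, pol_eq_aeval, ← map_mul, ← map_mul, mul_comm]

theorem pol_comm_pow (g : Matrix (Fin n) (Fin n) B) (c : Fin n → B) (j : ℕ) :
    pol g c * g ^ j = g ^ j * pol g c := by
  have : g ^ j = aeval g (X ^ j : B[X]) := by rw [map_pow, aeval_X]
  rw [pol_eq_aeval, this, ← map_mul, ← map_mul, mul_comm]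

theorem kry_mulVec' (g : Matrix (Fin n) (Fin n) B) (v c : Fin n → B) :
    (kry g v).mulVec c = (pol g c).mulVec v := kry_mulVec g v c

theorem mul_kry_apply (M g : Matrix (Fin n) (Fin n) B) (v : Fin n → B) (i j : Fin n) :
    (M * kry g v) i j = (M.mulVec ((g ^ (j : ℕ)).mulVec v)) i := rfl

theorem comm_pow {x g : Matrix (Fin n) (Fin n) B} (hx : x * g = g * x) (j : ℕ) :
    x * g ^ j = g ^ j * x := by
  have : Commute x g := hx
  exact (this.pow_right j)

theorem key (g : Matrix (Fin n) (Fin n) B) (v : Fin n → B) (x : Matrix (Fin n) (Fin n) B)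
    (hx : x * g = g * x) :
    ∃ c : Fin n → B, (kry g v).det ^ 2 • x = (kry g v).det • pol g c := by
  set P := kry g v with hP
  set d := P.det with hd
  set c := P.adjugate.mulVec (x.mulVec v) with hc
  refine ⟨c, ?_⟩
  have h1 : (pol g c).mulVec v = d • x.mulVec v := by
    rw [← kry_mulVec', ← hP, hc, Matrix.mulVec_mulVec, Matrix.mul_adjugate, Matrix.smul_mulVec,
      Matrix.one_mulVec]
  have h2 : (d • x) * P = pol g c * P := by
    ext i j
    rw [hP, mul_kry_apply, mul_kry_apply, Matrix.mulVec_mulVec, Matrix.mulVec_mulVec,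
      Matrix.smul_mul, comm_pow hx, pol_comm_pow, ← Matrix.mulVec_mulVec,
      h1, Matrix.smul_mulVec, Matrix.mulVec_smul, Matrix.mulVec_mulVec]
  calc d ^ 2 • x = (d • x) * (P * P.adjugate) := by
        rw [Matrix.mul_adjugate, ← hd, Matrix.mul_smul, Matrix.mul_one, smul_smul, pow_two]
    _ = ((d • x) * P) * P.adjugate := by rw [Matrix.mul_assoc]
    _ = (pol g c * P) * P.adjugate := by rw [h2]
    _ = d • pol g c := by
        rw [Matrix.mul_assoc, Matrix.mul_adjugate, ← hd, Matrix.mul_smul, Matrix.mul_one]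

theorem uniq (g : Matrix (Fin n) (Fin n) B) (v : Fin n → B) (c : Fin n → B) (h0 : pol g c = 0) :
    (kry g v).det • c = 0 := by
  have h1 : (kry g v).mulVec c = 0 := by rw [kry_mulVec', h0, Matrix.zero_mulVec]
  have h2 := congrArg (kry g v).adjugate.mulVec h1
  rwa [Matrix.mulVec_mulVec, Matrix.adjugate_mul, Matrix.smul_mulVec, Matrix.one_mulVec,
    Matrix.mulVec_zero] at h2

theorem comm_of_local (g : Matrix (Fin n) (Fin n) B)
    (hloc : ∀ m : Ideal B, m.IsMaximal → ∃ v : Fin n → B, (kry g v).det ∉ m)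
    (x y : Matrix (Fin n) (Fin n) B) (hx : x * g = g * x) (hy : y * g = g * y) :
    x * y = y * x := by
  set z := x * y - y * x with hz
  let J : Ideal B :=
    { carrier := {b | b • z = 0}
      add_mem' := fun {a b} ha hb => by
        simp only [Set.mem_ofPred_eq] at ha hb ⊢
        rw [add_smul, ha, hb, add_zero]
      zero_mem' := by simp only [Set.mem_ofPred_eq, zero_smul]
      smul_mem' := fun r b hb => by
        simp only [Set.mem_ofPred_eq] at hb ⊢
        rw [smul_eq_mul, mul_smul, hb, smul_zero] }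
  have hJ : J = ⊤ := by
    by_contra hne
    obtain ⟨m, hm, hJm⟩ := Ideal.exists_le_maximal J hne
    obtain ⟨v, hv⟩ := hloc m hm
    obtain ⟨c, hc⟩ := key g v x hx
    obtain ⟨c', hc'⟩ := key g v y hy
    set d := (kry g v).det with hd
    have h4 : d ^ 4 ∈ J := by
      show d ^ 4 • z = 0
      have e1 : d ^ 4 • (x * y) = (d ^ 2 • x) * (d ^ 2 • y) := by
        rw [Matrix.smul_mul, Matrix.mul_smul, smul_smul]; congr 1; ring
      have e2 : d ^ 4 • (y * x) = (d ^ 2 • y) * (d ^ 2 • x) := by
        rw [Matrix.smul_mul, Matrix.mul_smul, smul_smul]; congr 1; ring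
      rw [hz, smul_sub, e1, e2, hc, hc', Matrix.smul_mul, Matrix.mul_smul, Matrix.smul_mul,
        Matrix.mul_smul, pol_comm, sub_self]
    exact hv (hm.isPrime.mem_of_pow_mem 4 (hJm h4))
  have h1 : (1 : B) ∈ J := by rw [hJ]; exact Submodule.mem_top
  have h2 : (1 : B) • z = 0 := h1
  rw [one_smul] at h2
  exact sub_eq_zero.mp h2

end Groth.Agent.Helper7.Reg
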