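import Groth.Agent.Helper7.Reg5

set_option autoImplicit false
set_option maxSynthPendingDepth 3
set_option linter.style.haveILetI false
set_option linter.unusedSectionVars false

namespace Groth.Agent.Helper7.Reg

open Polynomial Function

universe u

theorem kry_map {R S : Type*} [CommRing R] [CommRing S] {n : ℕ} (f : R →+* S)
    (g : Matrix (Fin n) (Fin n) R) (v : Fin n → R) :
    (kry g v).map f = kry (g.map f) (f ∘ v) := by
  ext i j
  simp only [Matrix.map_apply, kry, Matrix.of_apply]
  have e : g.map f ^ (j : ℕ) = (g ^ (j : ℕ)).map f := (map_pow f.mapMatrix g j).symm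
  rw [e, RingHom.map_mulVec]

variable {A : Type u} [CommRing A] {n : ℕ} (g : Matrix (Fin n) (Fin n) A)
  (hreg : ∀ (K : Type u) [Field K] (φ : A →+* K),
      Module.finrank K (Subalgebra.centralizer K ({g.map φ} : Set (Matrix (Fin n) (Fin n) K))) = n)

include hreg in
theorem local_cyclic (B : Type u) [CommRing B] [Algebra A B] (m : Ideal B) (hm : m.IsMaximal) :
    ∃ v : Fin n → B, (kry (g.map (algebraMap A B)) v).det ∉ m := by
  letI : Field (B ⧸ m) := Ideal.Quotient.field m
  set φ : A →+* (B ⧸ m) := (Ideal.Quotient.mk m).comp (algebraMap A B) with hφ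
  obtain ⟨vb, hvb⟩ := exists_cyclic (g.map φ) (hreg (B ⧸ m) φ)
  choose v hv using fun i => Ideal.Quotient.mk_surjective (vb i)
  refine ⟨v, ?_⟩
  intro hmem
  apply hvb
  have h1 : (Ideal.Quotient.mk m) ∘ v = vb := funext hv
  have h2 : (g.map (algebraMap A B)).map (Ideal.Quotient.mk m) = g.map φ := by
    rw [Matrix.map_map]; rfl
  rw [← h1, ← h2, ← kry_map, ← RingHom.mapMatrix_apply, ← RingHom.map_det]
  exact Ideal.Quotient.eq_zero_iff_mem.mpr hmem

include hreg in
theorem main_15842 (B : Type u) [CommRing B] [Algebra A B] (x y : Matrix (Fin n) (Fin n) B)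
    (hxg : x * g.map (algebraMap A B) = g.map (algebraMap A B) * x)
    (hyg : y * g.map (algebraMap A B) = g.map (algebraMap A B) * y) :
    x * y = y * x :=
  comm_of_local (g.map (algebraMap A B)) (fun m hm => local_cyclic g hreg B m hm) x y hxg hyg

end Groth.Agent.Helper7.Reg
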