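import Groth.Agent.Helper7.Reg6

set_option autoImplicit false
set_option maxSynthPendingDepth 3
set_option linter.style.haveILetI false
set_option linter.unusedSectionVars false

namespace Groth.Agent.Helper7.Reg

open Polynomial Function

universe u

section general

variable {B : Type*} [CommRing B] {n : ℕ}

theorem eq_zero_of_local {M : Type*} [AddCommGroup M] [Module B M] (z : M)
    (h : ∀ m : Ideal B, m.IsMaximal → ∃ d : B, d ∉ m ∧ d • z = 0) : z = 0 := by
  set J : Ideal B := LinearMap.ker (LinearMap.toSpanSingleton B M z) with hJ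
  have hJtop : J = ⊤ := by
    by_contra hne
    obtain ⟨m, hm, hJm⟩ := Ideal.exists_le_maximal J hne
    obtain ⟨d, hd, hdz⟩ := h m hm
    apply hd
    apply hJm
    rw [hJ, LinearMap.mem_ker, LinearMap.toSpanSingleton_apply]
    exact hdz
  have h1 : (1 : B) ∈ J := by rw [hJtop]; exact Submodule.mem_top
  rw [hJ, LinearMap.mem_ker, LinearMap.toSpanSingleton_apply, one_smul] at h1
  exact h1

theorem pol_sub (g : Matrix (Fin n) (Fin n) B) (c c' : Fin n → B) :
    pol g (c - c') = pol g c - pol g c' := by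
  simp only [pol, Pi.sub_apply, sub_smul, Finset.sum_sub_distrib]

theorem pol_map {S : Type*} [CommRing S] (f : B →+* S) (g : Matrix (Fin n) (Fin n) B)
    (c : Fin n → B) : (pol g c).map f = pol (g.map f) (f ∘ c) := by
  have h1 : (pol g c).map f = f.mapMatrix (pol g c) := rfl
  rw [h1, pol, map_sum, pol]
  apply Finset.sum_congr rfl
  intro j _
  rw [RingHom.mapMatrix_apply, Matrix.map_smul' _ _ _ (fun a b => map_mul f a b),
    ← RingHom.mapMatrix_apply, map_pow]
  rfl

theorem pol_comm_g (g : Matrix (Fin n) (Fin n) B) (c : Fin n → B) :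
    pol g c * g = g * pol g c := by
  have := pol_comm_pow g c 1
  rwa [pow_one] at this

theorem global_uniq (g : Matrix (Fin n) (Fin n) B)
    (hloc : ∀ m : Ideal B, m.IsMaximal → ∃ v : Fin n → B, (kry g v).det ∉ m)
    (c : Fin n → B) (h0 : pol g c = 0) : c = 0 := by
  apply eq_zero_of_local (B := B) c
  intro m hm
  obtain ⟨v, hv⟩ := hloc m hm
  exact ⟨_, hv, uniq g v c h0⟩

theorem global_exists (g : Matrix (Fin n) (Fin n) B)
    (hloc : ∀ m : Ideal B, m.IsMaximal → ∃ v : Fin n → B, (kry g v).det ∉ m)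
    (x : Matrix (Fin n) (Fin n) B) (hx : x * g = g * x) : ∃ c : Fin n → B, x = pol g c := by
  set N : Submodule B (Matrix (Fin n) (Fin n) B) :=
    Submodule.span B (Set.range (fun j : Fin n => g ^ (j : ℕ))) with hN
  have hpol : ∀ c : Fin n → B, pol g c ∈ N := by
    intro c
    rw [hN, Submodule.mem_span_range_iff_exists_fun]
    exact ⟨c, rfl⟩
  have hxN : x ∈ N := by
    rw [← Submodule.Quotient.mk_eq_zero]
    apply eq_zero_of_local (B := B)
    intro m hm
    obtain ⟨v, hv⟩ := hloc m hm
    obtain ⟨c, hc⟩ := key g v x hx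
    refine ⟨(kry g v).det ^ 2, fun h => hv (hm.isPrime.mem_of_pow_mem 2 h), ?_⟩
    rw [← Submodule.Quotient.mk_smul, hc, Submodule.Quotient.mk_eq_zero]
    exact N.smul_mem _ (hpol c)
  rw [hN, Submodule.mem_span_range_iff_exists_fun] at hxN
  obtain ⟨c, hc⟩ := hxN
  exact ⟨c, hc.symm⟩

end general

end Groth.Agent.Helper7.Reg
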