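import Groth.Agent.Helper7.Reg7

set_option autoImplicit false
set_option maxSynthPendingDepth 3
set_option linter.style.haveILetI false
set_option linter.unusedSectionVars false

namespace Groth.Agent.Helper7.Reg

open Function

universe u

variable {A : Type u} [CommRing A] {n : ℕ} (g : Matrix (Fin n) (Fin n) A)

/-- the polynomial ring in the matrix entries. -/
abbrev PP (A : Type u) [CommRing A] (n : ℕ) : Type u := MvPolynomial (Fin n × Fin n) A

/-- the polynomial ring in the coefficients. -/
abbrev QQ (A : Type u) [CommRing A] (n : ℕ) : Type u := MvPolynomial (Fin n) A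

/-- the commutator matrix `X g - g X`. -/
noncomputable def commMat : Matrix (Fin n) (Fin n) (PP A n) :=
  Matrix.mvPolynomialX (Fin n) (Fin n) A * g.map MvPolynomial.C -
    g.map MvPolynomial.C * Matrix.mvPolynomialX (Fin n) (Fin n) A

/-- the ideal of the centralizer. -/
noncomputable def cenIdeal : Ideal (PP A n) :=
  Ideal.span (Set.range fun ij : Fin n × Fin n => (commMat g) ij.1 ij.2)

/-- the universal polynomial matrix `∑ C_l g^l` over `Q`. -/
noncomputable def YY : Matrix (Fin n) (Fin n) (QQ A n) :=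
  pol (g.map (algebraMap A (QQ A n))) (fun l => MvPolynomial.X l)

/-- `α : P → Q`, `x_ij ↦ (∑ C_l g^l)_ij`. -/
noncomputable def alpha : PP A n →ₐ[A] QQ A n :=
  MvPolynomial.aeval (fun ij : Fin n × Fin n => (YY g) ij.1 ij.2)

theorem X_map_alpha : (Matrix.mvPolynomialX (Fin n) (Fin n) A).map (alpha g) = YY g := by
  ext i j
  simp only [Matrix.map_apply, Matrix.mvPolynomialX_apply, alpha, MvPolynomial.aeval_X]

theorem gC_map_alpha : (g.map MvPolynomial.C).map (alpha g) = g.map (algebraMap A (QQ A n)) := by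
  ext i j
  simp only [Matrix.map_apply, alpha, MvPolynomial.aeval_C]

theorem commMat_map_alpha : (commMat g).map (alpha g) = 0 := by
  have h1 : (commMat g).map (alpha g) = (alpha g).toRingHom.mapMatrix (commMat g) := rfl
  rw [h1, commMat, map_sub, map_mul, map_mul]
  have h2 : (alpha g).toRingHom.mapMatrix (Matrix.mvPolynomialX (Fin n) (Fin n) A) = YY g :=
    X_map_alpha g
  have h3 : (alpha g).toRingHom.mapMatrix (g.map MvPolynomial.C) =
      g.map (algebraMap A (QQ A n)) := gC_map_alpha g
  rw [h2, h3, YY, pol_comm_g, sub_self]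

theorem alpha_kills : ∀ a ∈ cenIdeal g, alpha g a = 0 := by
  intro a ha
  have hle : cenIdeal g ≤ RingHom.ker (alpha g).toRingHom := by
    rw [cenIdeal, Ideal.span_le]
    rintro _ ⟨ij, rfl⟩
    rw [SetLike.mem_coe, RingHom.mem_ker]
    have := congrFun (congrFun (commMat_map_alpha g) ij.1) ij.2
    exact this
  exact hle ha

/-- `ᾱ : R → Q`. -/
noncomputable def alphaBar : (PP A n ⧸ cenIdeal g) →ₐ[A] QQ A n :=
  Ideal.Quotient.liftₐ (cenIdeal g) (alpha g) (alpha_kills g)

theorem alphaBar_mk (a : PP A n) : alphaBar g (Ideal.Quotient.mk _ a) = alpha g a := rfl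


/-- the universal commuting matrix over `R`. -/
noncomputable def Xbar : Matrix (Fin n) (Fin n) (PP A n ⧸ cenIdeal g) :=
  (Matrix.mvPolynomialX (Fin n) (Fin n) A).map (Ideal.Quotient.mk (cenIdeal g))

theorem gR_eq : g.map (algebraMap A (PP A n ⧸ cenIdeal g)) =
    (g.map MvPolynomial.C).map (Ideal.Quotient.mk (cenIdeal g)) := by
  ext i j
  simp only [Matrix.map_apply]
  rfl

theorem commMat_map_mk : (commMat g).map (Ideal.Quotient.mk (cenIdeal g)) = 0 := by
  ext i j
  simp only [Matrix.map_apply, Matrix.zero_apply]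
  rw [Ideal.Quotient.eq_zero_iff_mem]
  exact Ideal.subset_span ⟨(i, j), rfl⟩

theorem Xbar_comm : Xbar g * g.map (algebraMap A (PP A n ⧸ cenIdeal g)) =
    g.map (algebraMap A (PP A n ⧸ cenIdeal g)) * Xbar g := by
  have h1 : (commMat g).map (Ideal.Quotient.mk (cenIdeal g)) =
      (Ideal.Quotient.mk (cenIdeal g)).mapMatrix (commMat g) := rfl
  have h0 := commMat_map_mk g
  rw [h1, commMat, map_sub, map_mul, map_mul, sub_eq_zero] at h0
  rw [gR_eq, Xbar]
  exact h0

section reg

variable (hreg : ∀ (K : Type u) [Field K] (φ : A →+* K),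
      Module.finrank K (Subalgebra.centralizer K ({g.map φ} : Set (Matrix (Fin n) (Fin n) K))) = n)

include hreg in
theorem exists_c : ∃ c : Fin n → (PP A n ⧸ cenIdeal g),
    Xbar g = pol (g.map (algebraMap A (PP A n ⧸ cenIdeal g))) c :=
  global_exists _ (fun m hm => local_cyclic g hreg (PP A n ⧸ cenIdeal g) m hm) _ (Xbar_comm g)

/-- the coefficients of the universal commuting matrix. -/
noncomputable def cc : Fin n → (PP A n ⧸ cenIdeal g) := (exists_c g hreg).choose

theorem cc_spec : Xbar g = pol (g.map (algebraMap A (PP A n ⧸ cenIdeal g))) (cc g hreg) :=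
  (exists_c g hreg).choose_spec

/-- `β : Q → R`. -/
noncomputable def beta : QQ A n →ₐ[A] (PP A n ⧸ cenIdeal g) :=
  MvPolynomial.aeval (cc g hreg)

theorem map_algHom_g {S T : Type u} [CommRing S] [CommRing T] [Algebra A S] [Algebra A T]
    (f : S →ₐ[A] T) : (g.map (algebraMap A S)).map f = g.map (algebraMap A T) := by
  ext i j
  simp only [Matrix.map_apply, AlgHom.commutes]

theorem beta_alphaBar : (beta g hreg).comp (alphaBar g) = AlgHom.id A _ := by
  apply Ideal.Quotient.algHom_ext
  apply MvPolynomial.algHom_ext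
  rintro ⟨i, j⟩
  show beta g hreg (alphaBar g (Ideal.Quotient.mk _ (MvPolynomial.X (i, j)))) =
    Ideal.Quotient.mk _ (MvPolynomial.X (i, j))
  rw [alphaBar_mk, alpha, MvPolynomial.aeval_X]
  have h1 : beta g hreg ((YY g) i j) = ((YY g).map (beta g hreg)) i j := rfl
  rw [h1]
  have h2 : (YY g).map (beta g hreg) = Xbar g := by
    have : (YY g).map (beta g hreg) = (YY g).map (beta g hreg).toRingHom := rfl
    rw [this, YY, pol_map, cc_spec g hreg]
    congr 1
    · exact map_algHom_g g (beta g hreg)
    · funext l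
      simp only [comp_apply, beta]
      exact MvPolynomial.aeval_X _ l
  rw [h2]
  rfl

include hreg in
theorem alphaBar_beta : (alphaBar g).comp (beta g hreg) = AlgHom.id A _ := by
  apply MvPolynomial.algHom_ext
  intro l
  show alphaBar g (beta g hreg (MvPolynomial.X l)) = MvPolynomial.X l
  rw [beta, MvPolynomial.aeval_X]
  -- apply ᾱ to `Xbar = pol g_R cc`
  have h1 : (Xbar g).map (alphaBar g) = YY g := by
    rw [Xbar, Matrix.map_map]
    exact X_map_alpha g
  have h2 : (Xbar g).map (alphaBar g) =
      pol (g.map (algebraMap A (QQ A n))) ((alphaBar g) ∘ (cc g hreg)) := by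
    have : (Xbar g).map (alphaBar g) = (Xbar g).map (alphaBar g).toRingHom := rfl
    rw [this, cc_spec g hreg, pol_map]
    congr 1
    exact map_algHom_g g (alphaBar g)
  have h3 : pol (g.map (algebraMap A (QQ A n)))
      ((alphaBar g) ∘ (cc g hreg) - fun l => MvPolynomial.X l) = 0 := by
    rw [pol_sub, ← h2, h1, YY, sub_self]
  have h4 := global_uniq _ (fun m hm => local_cyclic g hreg (QQ A n) m hm) _ h3
  have h5 := congrFun h4 l
  simp only [Pi.sub_apply, comp_apply, Pi.zero_apply] at h5
  exact sub_eq_zero.mp h5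

/-- `R ≃ Q`. -/
noncomputable def RQequiv : (PP A n ⧸ cenIdeal g) ≃ₐ[A] QQ A n :=
  AlgEquiv.ofAlgHom (alphaBar g) (beta g hreg) (alphaBar_beta g hreg) (beta_alphaBar g hreg)

include hreg in
theorem flat_R : Module.Flat A (PP A n ⧸ cenIdeal g) :=
  Module.Flat.of_linearEquiv (RQequiv g hreg).toLinearEquiv

include hreg in
theorem main_15843 : Module.Flat A (Localization.Away
      (Ideal.Quotient.mk (Ideal.span (Set.range fun ij : Fin n × Fin n =>
        (Matrix.mvPolynomialX (Fin n) (Fin n) A * g.map MvPolynomial.C -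
          g.map MvPolynomial.C * Matrix.mvPolynomialX (Fin n) (Fin n) A :
            Matrix (Fin n) (Fin n) (MvPolynomial (Fin n × Fin n) A)) ij.1 ij.2))
        (Matrix.mvPolynomialX (Fin n) (Fin n) A).det)) := by
  haveI : Module.Flat A (MvPolynomial (Fin n × Fin n) A ⧸
      (Ideal.span (Set.range fun ij : Fin n × Fin n =>
        (Matrix.mvPolynomialX (Fin n) (Fin n) A * g.map MvPolynomial.C -
          g.map MvPolynomial.C * Matrix.mvPolynomialX (Fin n) (Fin n) A :
            Matrix (Fin n) (Fin n) (MvPolynomial (Fin n × Fin n) A)) ij.1 ij.2))) :=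
    flat_R g hreg
  exact Module.Flat.trans A (MvPolynomial (Fin n × Fin n) A ⧸
      (Ideal.span (Set.range fun ij : Fin n × Fin n =>
        (Matrix.mvPolynomialX (Fin n) (Fin n) A * g.map MvPolynomial.C -
          g.map MvPolynomial.C * Matrix.mvPolynomialX (Fin n) (Fin n) A :
            Matrix (Fin n) (Fin n) (MvPolynomial (Fin n × Fin n) A)) ij.1 ij.2))) _

end reg

end Groth.Agent.Helper7.Reg
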