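import Groth.Agent.Helper7.Reg8

set_option autoImplicit false
set_option maxSynthPendingDepth 3
set_option linter.style.haveILetI false
set_option linter.unusedSectionVars false

namespace Groth.Agent.Helper7.Reg

open Function

universe u

theorem comm_pol {B : Type*} [CommRing B] {n : ℕ} {x g : Matrix (Fin n) (Fin n) B}
    (hx : x * g = g * x) (c : Fin n → B) : x * pol g c = pol g c * x := by
  rw [pol, Finset.mul_sum, Finset.sum_mul]
  apply Finset.sum_congr rfl
  intro j _
  rw [Matrix.mul_smul, Matrix.smul_mul, comm_pow hx]

theorem main_15844 (A : Type u) [CommRing A] (n : ℕ)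
    (u X : Matrix (Fin n) (Fin n) A)
    (hureg : ∀ (K : Type u) [Field K] (φ : A →+* K),
      Module.finrank K (Subalgebra.centralizer K ({u.map φ} : Set (Matrix (Fin n) (Fin n) K))) = n)
    (hXreg : ∀ (K : Type u) [Field K] (φ : A →+* K),
      Module.finrank K (Subalgebra.centralizer K ({X.map φ} : Set (Matrix (Fin n) (Fin n) K))) = n)
    (hXu : X * u = u * X)
    (B : Type u) [CommRing B] [Algebra A B] (x : Matrix (Fin n) (Fin n) B) :
    x * u.map (algebraMap A B) = u.map (algebraMap A B) * x ↔
      x * X.map (algebraMap A B) = X.map (algebraMap A B) * x := by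
  have hXuB : X.map (algebraMap A B) * u.map (algebraMap A B) =
      u.map (algebraMap A B) * X.map (algebraMap A B) := by
    have := congrArg (algebraMap A B).mapMatrix hXu
    rwa [map_mul, map_mul] at this
  obtain ⟨c, hc⟩ := global_exists (u.map (algebraMap A B))
    (fun m hm => local_cyclic u hureg B m hm) (X.map (algebraMap A B)) hXuB
  obtain ⟨c', hc'⟩ := global_exists (X.map (algebraMap A B))
    (fun m hm => local_cyclic X hXreg B m hm) (u.map (algebraMap A B)) hXuB.symm
  constructor
  · intro h
    rw [hc]
    exact comm_pol h c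
  · intro h
    rw [hc']
    exact comm_pol h c'

end Groth.Agent.Helper7.Reg
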