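import Mathlib
import Groth.Agent.Helper2.RegDescent
import Groth.Agent.Helper2.RegFlat
import Groth.Agent.Helper2.SmoothDense

set_option linter.style.haveILetI false
set_option linter.unusedSectionVars false

/-! Regularity at a rational point is invariant under extension of the base field. -/

namespace Groth.Agent.Helper7.RegBC

open IsLocalRing TensorProduct
attribute [local instance] RingHom.ker_isPrime

universe u

section
variable (k K A : Type u) [Field k] [Field K] [Algebra k K] [CommRing A] [Algebra k A]
  (π : A →ₐ[k] k)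

/-- the augmentation `K ⊗ A → K` -/
noncomputable abbrev φ : K ⊗[k] A →ₐ[K] K :=
  (Algebra.TensorProduct.rid k K K).toAlgHom.comp (Algebra.TensorProduct.map (AlgHom.id K K) π)

/-- the inclusion `A → K ⊗ A` -/
noncomputable def ι : A →+* K ⊗[k] A :=
  (Algebra.TensorProduct.includeRight : A →ₐ[k] K ⊗[k] A).toRingHom

theorem ι_apply (a : A) : ι k K A a = (1 : K) ⊗ₜ[k] a := rfl

theorem ι_flat : (ι k K A).Flat := by
  have h1 : (algebraMap A (A ⊗[k] K)).Flat := RingHom.flat_algebraMap_iff.mpr inferInstance
  have h2 : ((Algebra.TensorProduct.comm k A K).toAlgHom.toRingHom).Flat :=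
    RingHom.Flat.of_bijective (Algebra.TensorProduct.comm k A K).bijective
  have h3 : ι k K A = ((Algebra.TensorProduct.comm k A K).toAlgHom.toRingHom).comp
      (algebraMap A (A ⊗[k] K)) := by
    ext a
    simp [ι_apply, Algebra.TensorProduct.algebraMap_apply]
  rw [h3]
  exact h1.comp h2

theorem φ_tmul (c : K) (a : A) : φ k K A π (c ⊗ₜ a) = c * algebraMap k K (π a) := by
  simp [φ, Algebra.smul_def, mul_comm]

theorem sub_mem (t : K ⊗[k] A) :
    t - (φ k K A π t) ⊗ₜ[k] (1 : A) ∈ (RingHom.ker π.toRingHom).map (ι k K A) := by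
  induction t using TensorProduct.induction_on with
  | zero => simp
  | tmul c a =>
    have h1 : (φ k K A π (c ⊗ₜ a)) ⊗ₜ[k] (1 : A) = c ⊗ₜ[k] (algebraMap k A (π a)) := by
      rw [φ_tmul, mul_comm, ← Algebra.smul_def, TensorProduct.smul_tmul,
        Algebra.algebraMap_eq_smul_one]
    have h2 : c ⊗ₜ[k] a - c ⊗ₜ[k] (algebraMap k A (π a)) =
        (c ⊗ₜ[k] (1 : A)) * ι k K A (a - algebraMap k A (π a)) := by
      rw [ι_apply, Algebra.TensorProduct.tmul_mul_tmul, mul_one, one_mul, TensorProduct.tmul_sub]
    rw [h1, h2]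
    apply Ideal.mul_mem_left
    apply Ideal.mem_map_of_mem
    rw [RingHom.mem_ker]
    change π (a - algebraMap k A (π a)) = 0
    rw [map_sub, π.commutes]
    simp
  | add x y hx hy =>
    have : x + y - (φ k K A π (x + y)) ⊗ₜ[k] (1 : A) =
        (x - (φ k K A π x) ⊗ₜ[k] (1 : A)) + (y - (φ k K A π y) ⊗ₜ[k] (1 : A)) := by
      rw [map_add, TensorProduct.add_tmul]; ring
    rw [this]
    exact Ideal.add_mem _ hx hy

theorem ker_φ : RingHom.ker (φ k K A π) = (RingHom.ker π.toRingHom).map (ι k K A) := by
  apply le_antisymm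
  · intro t ht
    rw [RingHom.mem_ker] at ht
    have := sub_mem k K A π t
    rwa [ht, TensorProduct.zero_tmul, sub_zero] at this
  · rw [Ideal.map_le_iff_le_comap]
    intro a ha
    rw [RingHom.mem_ker] at ha
    rw [Ideal.mem_comap, RingHom.mem_ker, ι_apply, φ_tmul]
    have : π a = 0 := ha
    rw [this, map_zero, mul_zero]

end

theorem s15595 (k K A : Type u) [Field k] [Field K]
    [Algebra k K] [CommRing A] [Algebra k A] [IsLocalRing A] [IsNoetherianRing A]
    (π : A →ₐ[k] k) (hπ : RingHom.ker π = IsLocalRing.maximalIdeal A)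
    [IsNoetherianRing (Localization.AtPrime (RingHom.ker
      ((Algebra.TensorProduct.rid k K K).toAlgHom.comp
        (Algebra.TensorProduct.map (AlgHom.id K K) π))))] :
    IsRegularLocalRing A ↔ IsRegularLocalRing (Localization.AtPrime (RingHom.ker
      ((Algebra.TensorProduct.rid k K K).toAlgHom.comp
        (Algebra.TensorProduct.map (AlgHom.id K K) π)))) := by
  have hP : RingHom.ker (φ k K A π) = (maximalIdeal A).map (ι k K A) := by
    rw [ker_φ]
    congr 1
  let g : A →+* Localization.AtPrime (RingHom.ker (φ k K A π)) :=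
    (algebraMap (K ⊗[k] A) (Localization.AtPrime (RingHom.ker (φ k K A π)))).comp (ι k K A)
  letI : Algebra A (Localization.AtPrime (RingHom.ker (φ k K A π))) := g.toAlgebra
  have hgflat : g.Flat :=
    (ι_flat k K A).comp (RingHom.flat_algebraMap_iff.mpr inferInstance)
  haveI : Module.Flat A (Localization.AtPrime (RingHom.ker (φ k K A π))) := hgflat
  have hmax : (maximalIdeal A).map (algebraMap A (Localization.AtPrime (RingHom.ker (φ k K A π)))) =
      maximalIdeal (Localization.AtPrime (RingHom.ker (φ k K A π))) := by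
    change (maximalIdeal A).map g = _
    rw [← Ideal.map_map, ← hP]
    exact Localization.AtPrime.map_eq_maximalIdeal
  haveI : IsLocalHom (algebraMap A (Localization.AtPrime (RingHom.ker (φ k K A π)))) :=
    ((local_hom_TFAE _).out 2 0).mp hmax.le
  constructor
  · intro hreg
    refine Groth.Agent.Helper2.RegFlat.isRegularLocalRing_of_flat_of_fibre (A := A) ?_
    rw [hmax]
    exact Groth.Agent.Helper2.SmoothDense.isRegularLocalRing_of_isField
      ((Ideal.Quotient.maximal_ideal_iff_isField_quotient _).mp inferInstance)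
  · intro hreg
    exact Groth.Agent.Helper2.RegDescent.isRegularLocalRing_of_flat A
      (Localization.AtPrime (RingHom.ker (φ k K A π)))

end Groth.Agent.Helper7.RegBC
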