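import Mathlib

set_option autoImplicit false
set_option maxSynthPendingDepth 3

namespace Groth.Agent.Helper7.RegInf

open RingTheory.Sequence Ideal

variable {A : Type*} [CommRing A]

theorem mk_mem_smul_top (K L : Ideal A) (a : A) :
    (Ideal.Quotient.mk K a ∈ (L • ⊤ : Submodule A (A ⧸ K))) ↔ a ∈ K ⊔ L := by
  rw [Ideal.smul_top_eq_map, Submodule.restrictScalars_mem, sup_comm]
  exact Ideal.mem_quotient_iff_mem_sup

theorem isSMulRegular_cyc (K L : Ideal A) (r : A) :
    IsSMulRegular ((A ⧸ K) ⧸ (L • ⊤ : Submodule A (A ⧸ K))) r ↔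
      ∀ a, r * a ∈ K ⊔ L → a ∈ K ⊔ L := by
  rw [isSMulRegular_quotient_iff_mem_of_smul_mem]
  constructor
  · intro h a ha
    have := h (Ideal.Quotient.mk K a) (by
      rw [← mk_mem_smul_top] at ha
      simpa [Algebra.smul_def] using ha)
    rwa [mk_mem_smul_top] at this
  · intro h x hx
    obtain ⟨a, rfl⟩ := Ideal.Quotient.mk_surjective x
    rw [mk_mem_smul_top]
    apply h
    rw [← mk_mem_smul_top]
    simpa [Algebra.smul_def] using hx

theorem isWeaklyRegular_cyc (K : Ideal A) (rs : List A) :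
    IsWeaklyRegular (A ⧸ K) rs ↔ ∀ i (h : i < rs.length), ∀ a,
      rs[i] * a ∈ K ⊔ ofList (rs.take i) → a ∈ K ⊔ ofList (rs.take i) := by
  rw [isWeaklyRegular_iff]
  refine forall_congr' fun i => forall_congr' fun h => ?_
  exact isSMulRegular_cyc K _ _

theorem ofList_take_succ (rs : List A) (i : ℕ) (h : i < rs.length) :
    ofList (rs.take (i + 1)) = ofList (rs.take i) ⊔ Ideal.span {rs[i]} := by
  rw [List.take_succ_eq_append_getElem h, ofList_append, ofList_singleton]

theorem core (I J : Ideal A) (rs : List A)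
    (hI : IsWeaklyRegular (A ⧸ I) rs) (hJ : IsWeaklyRegular (A ⧸ J) rs)
    (hIJ : IsWeaklyRegular (A ⧸ (I ⊔ J)) (rs.take (rs.length - 1))) :
    IsWeaklyRegular (A ⧸ (I ⊓ J)) rs := by
  rw [isWeaklyRegular_cyc] at hI hJ hIJ ⊢
  have key : ∀ i, i ≤ rs.length - 1 →
      (I ⊔ ofList (rs.take i)) ⊓ (J ⊔ ofList (rs.take i)) ≤ (I ⊓ J) ⊔ ofList (rs.take i) := by
    intro i
    induction i with
    | zero =>
      intro _
      simp
    | succ i ih =>
      intro hi
      have hi' : i < rs.length := by omega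
      have hi'' : i < (rs.take (rs.length - 1)).length := by
        rw [List.length_take]; omega
      have hreg := hIJ i hi''
      have e1 : (rs.take (rs.length - 1))[i] = rs[i] := by
        rw [List.getElem_take]
      have e2 : (rs.take (rs.length - 1)).take i = rs.take i := by
        rw [List.take_take, min_eq_left (by omega)]
      rw [e1, e2] at hreg
      rw [ofList_take_succ rs i hi']
      set F := ofList (rs.take i) with hF
      set f := rs[i] with hf
      rintro a ⟨ha1, ha2⟩
      rw [← sup_assoc] at ha1 ha2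
      obtain ⟨u, hu, w1, hw1, rfl⟩ := Submodule.mem_sup.mp ha1
      obtain ⟨v, hv, w2, hw2, hvw⟩ := Submodule.mem_sup.mp ha2
      obtain ⟨s, rfl⟩ := Ideal.mem_span_singleton'.mp hw1
      obtain ⟨t, rfl⟩ := Ideal.mem_span_singleton'.mp hw2
      -- f * (s - t) = v - u ∈ I ⊔ J ⊔ F
      have h1 : f * (s - t) ∈ I ⊔ J ⊔ F := by
        have : f * (s - t) = v - u := by linear_combination -hvw
        rw [this]
        have hv' : v ∈ I ⊔ J ⊔ F := by
          have : J ⊔ F ≤ I ⊔ J ⊔ F := sup_le_sup_right le_sup_right _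
          exact this hv
        have hu' : u ∈ I ⊔ J ⊔ F := by
          have : I ⊔ F ≤ I ⊔ J ⊔ F := sup_le_sup_right le_sup_left _
          exact this hu
        exact sub_mem hv' hu'
      have h2 := hreg _ h1
      have h3 : I ⊔ J ⊔ F = (I ⊔ F) ⊔ (J ⊔ F) := by
        rw [sup_sup_sup_comm, sup_idem]
      rw [h3] at h2
      obtain ⟨α, hα, β, hβ, hαβ⟩ := Submodule.mem_sup.mp h2
      -- w := s - α
      have h4 : u + s * f - (s - α) * f ∈ (I ⊔ F) ⊓ (J ⊔ F) := by
        constructor
        · have : u + s * f - (s - α) * f = u + α * f := by ring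
          rw [this]
          exact add_mem hu (Ideal.mul_mem_right _ _ hα)
        · have : u + s * f - (s - α) * f = v - β * f := by
            have hst : s - α = t + β := by linear_combination -hαβ
            rw [hst]
            linear_combination -hvw
          rw [this]
          exact sub_mem hv (Ideal.mul_mem_right _ _ hβ)
      have h5 := ih (by omega) h4
      have h6 : u + s * f = (u + s * f - (s - α) * f) + (s - α) * f := by ring
      rw [h6, ← sup_assoc]
      exact Submodule.add_mem_sup h5 (Ideal.mem_span_singleton'.mpr ⟨_, rfl⟩)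
  intro i h a ha
  have h1 : rs[i] * a ∈ I ⊔ ofList (rs.take i) :=
    (sup_le_sup_right inf_le_left _ : (I ⊓ J) ⊔ ofList (rs.take i) ≤ _) ha
  have h2 : rs[i] * a ∈ J ⊔ ofList (rs.take i) :=
    (sup_le_sup_right inf_le_right _ : (I ⊓ J) ⊔ ofList (rs.take i) ≤ _) ha
  exact key i (by omega) ⟨hI i h a h1, hJ i h a h2⟩

theorem main_11257 (A : Type*) [CommRing A] [IsLocalRing A] (I J : Ideal A) (d : ℕ)
    (f : Fin d → A) (hf : ∀ k, f k ∈ IsLocalRing.maximalIdeal A)
    (hI : RingTheory.Sequence.IsRegular (A ⧸ I) (List.ofFn f))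
    (hJ : RingTheory.Sequence.IsRegular (A ⧸ J) (List.ofFn f))
    (hIJ : RingTheory.Sequence.IsRegular (A ⧸ (I ⊔ J)) ((List.ofFn f).take (d - 1))) :
    RingTheory.Sequence.IsRegular (A ⧸ (I ⊓ J)) (List.ofFn f) := by
  have hw : IsWeaklyRegular (A ⧸ (I ⊓ J)) (List.ofFn f) := by
    apply core I J _ hI.toIsWeaklyRegular hJ.toIsWeaklyRegular
    rw [List.length_ofFn]
    exact hIJ.toIsWeaklyRegular
  have hnt : Nontrivial (A ⧸ I) := hI.nontrivial
  have hne : I ⊓ J ≠ ⊤ := by
    intro h
    have : I = ⊤ := top_le_iff.mp (h ▸ inf_le_left)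
    exact (Ideal.Quotient.nontrivial_iff.mp hnt) this
  have : Nontrivial (A ⧸ (I ⊓ J)) := Ideal.Quotient.nontrivial_iff.mpr hne
  rw [IsLocalRing.isRegular_iff_isWeaklyRegular_of_subset_maximalIdeal]
  · exact hw
  · intro r hr
    rw [List.mem_ofFn] at hr
    obtain ⟨k, rfl⟩ := hr
    exact hf k

end Groth.Agent.Helper7.RegInf
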