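import Mathlib

set_option autoImplicit false
universe u

namespace Groth.Agent.Helper7.RegNilCent

variable {R : Type u} [CommRing R] {n : ℕ} (x N : Matrix (Fin n) (Fin n) R)

theorem lower_zero
    (hN0 : ∀ i j : Fin n, j ≤ i → N i j = 0)
    (hN1 : ∀ i j : Fin n, (j : ℕ) = i + 1 → IsUnit (N i j))
    (hc : x * N = N * x) : ∀ i j : Fin n, j < i → x i j = 0 := by
  have hQ : ∀ t d : ℕ, d + t = n → 1 ≤ d → ∀ i j : Fin n, (j : ℕ) + d ≤ i → x i j = 0 := by
    intro t
    induction t with
    | zero =>
      intro d hd _ i j hij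
      have := i.2
      omega
    | succ t ih =>
      intro d hd hd1
      have Q1 : ∀ i j : Fin n, (j : ℕ) + (d + 1) ≤ i → x i j = 0 := ih (d + 1) (by omega) (by omega)
      have inner : ∀ jn : ℕ, ∀ i j : Fin n, (j : ℕ) = jn → (i : ℕ) = jn + d → x i j = 0 := by
        intro jn
        induction jn with
        | zero =>
          intro i j hj hi
          have hi1 : (i : ℕ) - 1 < n := by have := i.2; omega
          have E := congrFun (congrFun hc ⟨(i : ℕ) - 1, hi1⟩) j
          simp only [Matrix.mul_apply] at E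
          have hL : ∑ l, x ⟨(i : ℕ) - 1, hi1⟩ l * N l j = 0 := by
            refine Finset.sum_eq_zero (fun l _ => ?_)
            rw [hN0 l j (by rw [Fin.le_def]; omega), mul_zero]
          have hR : ∑ l, N ⟨(i : ℕ) - 1, hi1⟩ l * x l j = N ⟨(i : ℕ) - 1, hi1⟩ i * x i j := by
            refine Finset.sum_eq_single i (fun l _ hl => ?_) (fun h => absurd (Finset.mem_univ _) h)
            by_cases hl' : (l : ℕ) ≤ (i : ℕ) - 1
            · rw [hN0 _ l (by rw [Fin.le_def]; exact hl'), zero_mul]
            · have hne : (l : ℕ) ≠ i := fun h => hl (Fin.ext h)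
              rw [Q1 l j (by omega), mul_zero]
          rw [hL, hR] at E
          exact ((hN1 ⟨(i : ℕ) - 1, hi1⟩ i (by simp only; omega)).mul_right_eq_zero).mp E.symm
        | succ m ihm =>
          intro i j hj hi
          have hi1 : (i : ℕ) - 1 < n := by have := i.2; omega
          have E := congrFun (congrFun hc ⟨(i : ℕ) - 1, hi1⟩) j
          simp only [Matrix.mul_apply] at E
          have hL : ∑ l, x ⟨(i : ℕ) - 1, hi1⟩ l * N l j = 0 := by
            refine Finset.sum_eq_zero (fun l _ => ?_)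
            by_cases hl : (j : ℕ) ≤ l
            · rw [hN0 l j (by rw [Fin.le_def]; exact hl), mul_zero]
            · by_cases hl1 : (l : ℕ) + 1 = j
              · rw [ihm ⟨(i : ℕ) - 1, hi1⟩ l (by omega) (by simp only; omega), zero_mul]
              · rw [Q1 ⟨(i : ℕ) - 1, hi1⟩ l (by simp only; omega), zero_mul]
          have hR : ∑ l, N ⟨(i : ℕ) - 1, hi1⟩ l * x l j = N ⟨(i : ℕ) - 1, hi1⟩ i * x i j := by
            refine Finset.sum_eq_single i (fun l _ hl => ?_) (fun h => absurd (Finset.mem_univ _) h)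
            by_cases hl' : (l : ℕ) ≤ (i : ℕ) - 1
            · rw [hN0 _ l (by rw [Fin.le_def]; exact hl'), zero_mul]
            · have hne : (l : ℕ) ≠ i := fun h => hl (Fin.ext h)
              rw [Q1 l j (by omega), mul_zero]
          rw [hL, hR] at E
          exact ((hN1 ⟨(i : ℕ) - 1, hi1⟩ i (by simp only; omega)).mul_right_eq_zero).mp E.symm
      intro i j hij
      by_cases h : (j : ℕ) + (d + 1) ≤ i
      · exact Q1 i j h
      · exact inner j i j rfl (by omega)
  intro i j hij
  have hn : 1 ≤ n := by have := i.2; omega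
  exact hQ (n - 1) 1 (by omega) le_rfl i j (by rw [Fin.lt_def] at hij; omega)

theorem diag_const
    (hN0 : ∀ i j : Fin n, j ≤ i → N i j = 0)
    (hN1 : ∀ i j : Fin n, (j : ℕ) = i + 1 → IsUnit (N i j))
    (hc : x * N = N * x) : ∀ i j : Fin n, x i i = x j j := by
  have hlow := lower_zero x N hN0 hN1 hc
  have step : ∀ i j : Fin n, (j : ℕ) = i + 1 → x i i = x j j := by
    intro i j hij
    have E := congrFun (congrFun hc i) j
    simp only [Matrix.mul_apply] at E
    have hL : ∑ l, x i l * N l j = x i i * N i j := by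
      refine Finset.sum_eq_single i (fun l _ hl => ?_) (fun h => absurd (Finset.mem_univ _) h)
      by_cases hl' : (l : ℕ) < i
      · rw [hlow i l (by rw [Fin.lt_def]; exact hl'), zero_mul]
      · have hne : (l : ℕ) ≠ i := fun h => hl (Fin.ext h)
        rw [hN0 l j (by rw [Fin.le_def]; omega), mul_zero]
    have hR : ∑ l, N i l * x l j = N i j * x j j := by
      refine Finset.sum_eq_single j (fun l _ hl => ?_) (fun h => absurd (Finset.mem_univ _) h)
      by_cases hl' : (l : ℕ) ≤ i
      · rw [hN0 i l (by rw [Fin.le_def]; exact hl'), zero_mul]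
      · have hne : (l : ℕ) ≠ j := fun h => hl (Fin.ext h)
        rw [hlow l j (by rw [Fin.lt_def]; omega), mul_zero]
    rw [hL, hR, mul_comm] at E
    exact (hN1 i j hij).mul_right_injective E
  have all0 : ∀ m : ℕ, ∀ (hm : m < n) (h0 : 0 < n), x ⟨m, hm⟩ ⟨m, hm⟩ = x ⟨0, h0⟩ ⟨0, h0⟩ := by
    intro m
    induction m with
    | zero => intro _ _; rfl
    | succ m ih =>
      intro hm h0
      rw [← ih (by omega) h0]
      exact (step ⟨m, by omega⟩ ⟨m + 1, hm⟩ rfl).symm
  intro i j
  have h0 : 0 < n := by have := i.2; omega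
  have hi := all0 i i.2 h0
  have hj := all0 j j.2 h0
  simp only [Fin.eta] at hi hj
  rw [hi, hj]

theorem result (k : Type u) [Field k] (n : ℕ)
    (u : Matrix (Fin n) (Fin n) k) (htri : ∀ i j : Fin n, j < i → u i j = 0) (hdiag : ∀ i j : Fin n, u i i = u j j)
    (hreg : ∀ (i j : Fin n), j.val = i.val + 1 → u i j ≠ 0)
    (R : Type u) [CommRing R] [Algebra k R] (x : Matrix (Fin n) (Fin n) R)
    (hxu : x * u.map (algebraMap k R) = u.map (algebraMap k R) * x) :
    (∀ i j : Fin n, j < i → x i j = 0) ∧ (∀ i j : Fin n, x i i = x j j) := by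
  rcases Nat.eq_zero_or_pos n with hn | hn
  · subst hn
    exact ⟨fun i => i.elim0, fun i => i.elim0⟩
  set c : R := algebraMap k R (u ⟨0, hn⟩ ⟨0, hn⟩) with hcdef
  set N : Matrix (Fin n) (Fin n) R := u.map (algebraMap k R) - Matrix.scalar (Fin n) c with hNdef
  have hc : x * N = N * x := by
    rw [hNdef, mul_sub, sub_mul, hxu]
    congr 1
    exact ((Matrix.scalar_commute c (fun r' => Commute.all _ _) x).eq).symm
  have hN0 : ∀ i j : Fin n, j ≤ i → N i j = 0 := by
    intro i j hij
    rcases eq_or_lt_of_le hij with rfl | hlt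
    · simp [hNdef, hcdef, hdiag j ⟨0, hn⟩]
    · have hne : i ≠ j := (ne_of_lt hlt).symm
      simp [hNdef, htri i j hlt, hne]
  have hN1 : ∀ i j : Fin n, (j : ℕ) = i + 1 → IsUnit (N i j) := by
    intro i j hij
    have hne : i ≠ j := fun h => by rw [h] at hij; omega
    have : N i j = algebraMap k R (u i j) := by simp [hNdef, hne]
    rw [this]
    exact (isUnit_iff_ne_zero.mpr (hreg i j hij)).map (algebraMap k R)
  exact ⟨lower_zero x N hN0 hN1 hc, diag_const x N hN0 hN1 hc⟩

end Groth.Agent.Helper7.RegNilCent
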