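import Mathlib
import Groth.Agent.Helper1.RegSeqChain2

set_option autoImplicit false
universe u

namespace Groth.Agent.Helper7.RegSame

open RingTheory.Sequence IsLocalRing Groth.Agent.Helper1.RegSeqChain
open scoped Pointwise

variable {A : Type u} [CommRing A]

/-- exchange lemma -/
theorem exchange [IsLocalRing A] : ∀ (u : List A) (b : A), b ∈ Ideal.ofList u →
    b ∉ maximalIdeal A * Ideal.ofList u →
    ∃ (a : A) (u' : List A) (c : A) (t : A), u.Perm (a :: u') ∧ IsUnit c ∧ t ∈ Ideal.ofList u' ∧
      b = c * a + t := by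
  intro u
  induction u with
  | nil =>
    intro b hb hnb
    exfalso
    rw [Ideal.ofList_nil, Ideal.mem_bot] at hb
    subst hb
    exact hnb (zero_mem _)
  | cons a₀ u₀ ih =>
    intro b hb hnb
    rw [Ideal.ofList_cons, Ideal.mem_span_singleton_sup] at hb
    obtain ⟨r, s, hs, rfl⟩ := hb
    by_cases hr : IsUnit r
    · exact ⟨a₀, u₀, r, s, List.Perm.refl _, hr, hs, rfl⟩
    · have hrm : r ∈ maximalIdeal A := (mem_maximalIdeal r).2 hr
      have hsn : s ∉ maximalIdeal A * Ideal.ofList u₀ := by
        intro hs'
        apply hnb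
        refine add_mem ?_ ?_
        · exact Ideal.mul_mem_mul hrm (by
            rw [Ideal.ofList_cons]
            exact Ideal.mem_sup_left (Ideal.mem_span_singleton_self a₀))
        · refine Ideal.mul_mono_right ?_ hs'
          rw [Ideal.ofList_cons]
          exact le_sup_right
      obtain ⟨a, u', c, t, hperm, hc, ht, hst⟩ := ih s hs hsn
      refine ⟨a, a₀ :: u', c, r * a₀ + t, ?_, hc, ?_, ?_⟩
      · exact (List.Perm.cons a₀ hperm).trans (List.Perm.swap a a₀ u')
      · rw [Ideal.ofList_cons]
        exact add_mem (Ideal.mem_sup_left (Ideal.mul_mem_left _ _ (Ideal.mem_span_singleton_self a₀)))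
          (Ideal.mem_sup_right ht)
      · rw [hst]; ring

lemma ofList_perm {u v : List A} (h : u.Perm v) : Ideal.ofList u = Ideal.ofList v :=
  congrArg Ideal.span (Set.ext fun _ => h.mem_iff)

/-- replacing the last element -/
lemma good_concat_replace {I : Ideal A} {u' : List A} {a b c t : A}
    (hg : Good I (u' ++ [a])) (hc : IsUnit c) (ht : t ∈ Ideal.ofList u') (hb : b = c * a + t) :
    Good I (u' ++ [b]) := by
  obtain ⟨hw, hI⟩ := hg
  rw [isWeaklyRegular_append_iff, isWeaklyRegular_singleton_iff] at hw
  refine ⟨?_, ?_⟩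
  · rw [isWeaklyRegular_append_iff, isWeaklyRegular_singleton_iff]
    refine ⟨hw.1, ?_⟩
    have h1 : IsSMulRegular (A ⧸ (Ideal.ofList u' • ⊤ : Submodule A A)) (c * a) :=
      IsSMulRegular.mul (hc.isSMulRegular _) hw.2
    have h2 : ∀ x : A ⧸ (Ideal.ofList u' • ⊤ : Submodule A A), b • x = (c * a) • x := by
      intro x
      obtain ⟨y, rfl⟩ := Submodule.Quotient.mk_surjective _ x
      rw [hb, add_smul]
      have : t • (Submodule.Quotient.mk y : A ⧸ (Ideal.ofList u' • ⊤ : Submodule A A)) = 0 := by
        rw [← Submodule.Quotient.mk_smul, Submodule.Quotient.mk_eq_zero]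
        exact Submodule.smul_mem_smul ht trivial
      rw [this, add_zero]
    intro x y hxy
    apply h1
    show (c * a) • x = (c * a) • y
    rw [← h2, ← h2]
    exact hxy
  · rw [← hI, Ideal.ofList_append, Ideal.ofList_append, Ideal.ofList_singleton,
      Ideal.ofList_singleton]
    apply le_antisymm
    · refine sup_le le_sup_left ?_
      rw [Ideal.span_singleton_le_iff_mem, hb]
      exact add_mem (Ideal.mem_sup_right (Ideal.mul_mem_left _ _ (Ideal.mem_span_singleton_self a)))
        (Ideal.mem_sup_left ht)
    · refine sup_le le_sup_left ?_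
      rw [Ideal.span_singleton_le_iff_mem]
      obtain ⟨c', rfl⟩ := hc
      have : a = (↑c'⁻¹ : A) * b - ↑c'⁻¹ * t := by
        rw [hb, mul_add, add_sub_cancel_right, ← mul_assoc, Units.inv_mul, one_mul]
      rw [this]
      exact sub_mem (Ideal.mem_sup_right (Ideal.mul_mem_left _ _ (Ideal.mem_span_singleton_self b)))
        (Ideal.mem_sup_left (Ideal.mul_mem_left _ _ ht))

theorem main : ∀ (n : ℕ) (A : Type u) [CommRing A] [IsLocalRing A] [IsNoetherianRing A]
    (I : Ideal A), I ≤ maximalIdeal A → ∀ (u v : List A), u.length = n → v.length = n →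
    Good I u → Ideal.ofList v = I → Good I v := by
  intro n
  induction n with
  | zero =>
    intro A _ _ _ I _ u v _ hv _ hvI
    have : v = [] := List.length_eq_zero_iff.1 hv
    subst this
    exact ⟨IsWeaklyRegular.nil A A, hvI⟩
  | succ n ih =>
    intro A _ _ _ I hI u v hu hv hgu hvI
    -- I ≠ ⊥
    have hIne : I ≠ ⊥ := by
      intro h0
      cases u with
      | nil => simp at hu
      | cons a u₀ =>
        have ha : a ∈ Ideal.ofList (a :: u₀) := Ideal.subset_span (by simp)
        rw [hgu.2, h0, Ideal.mem_bot] at ha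
        subst ha
        have hreg : IsSMulRegular A (0 : A) := ((isWeaklyRegular_cons_iff A 0 u₀).1 hgu.1).1
        have : (1 : A) = 0 := hreg (by simp)
        exact one_ne_zero this
    -- some b ∈ v not in m * I
    have hex : ∃ b ∈ v, b ∉ maximalIdeal A * I := by
      by_contra hcon
      push_neg at hcon
      apply hIne
      have hle : I ≤ maximalIdeal A * I := by
        rw [← hvI]
        refine Ideal.span_le.2 ?_
        intro x hx
        rw [hvI]
        exact hcon x hx
      have := Submodule.eq_bot_of_le_smul_of_le_jacobson_bot (maximalIdeal A) I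
        (IsNoetherian.noetherian I) hle
        (by rw [IsLocalRing.jacobson_eq_maximalIdeal ⊥ bot_ne_top])
      exact this
    obtain ⟨b, hbv, hbn⟩ := hex
    obtain ⟨s, t', rfl⟩ := List.append_of_mem hbv
    have hpv : (s ++ b :: t').Perm (b :: (s ++ t')) := List.perm_middle
    have hbI : b ∈ I := by
      rw [← hvI]; exact Ideal.subset_span (by simp)
    have hlenv' : (s ++ t').length = n := by
      simp only [List.length_append, List.length_cons] at hv ⊢
      omega
    -- exchange
    obtain ⟨a, u', c, t, hperm, hc, ht, hb⟩ := exchange u b (by rw [hgu.2]; exact hbI)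
      (by rw [hgu.2]; exact hbn)
    have hlenu' : u'.length = n := by
      have := hperm.length_eq
      simp only [List.length_cons] at this
      omega
    have hg1 : Good I (u' ++ [a]) :=
      hgu.perm hI (hperm.trans (List.perm_append_singleton a u').symm)
    have hg2 : Good I (u' ++ [b]) := good_concat_replace hg1 hc ht hb
    have hg3 : Good I (b :: u') := hg2.perm hI (List.perm_append_singleton b u')
    have hreg : IsSMulRegular A b := ((isWeaklyRegular_cons_iff A b u').1 hg3.1).1
    have hbm : b ∈ maximalIdeal A := hI hbI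
    haveI : Nontrivial (A ⧸ Ideal.span {b}) := by
      rw [Ideal.Quotient.nontrivial_iff]
      intro htop
      have : Ideal.span {b} ≤ maximalIdeal A := (Ideal.span_singleton_le_iff_mem _).2 hbm
      exact (maximalIdeal.isMaximal A).ne_top (top_le_iff.1 (htop ▸ this))
    haveI : IsLocalRing (A ⧸ Ideal.span {b}) :=
      IsLocalRing.of_surjective' (Ideal.Quotient.mk (Ideal.span {b})) Ideal.Quotient.mk_surjective
    haveI hlocal : IsLocalHom (Ideal.Quotient.mk (Ideal.span {b})) :=
      IsLocalHom.of_surjective _ Ideal.Quotient.mk_surjective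
    have hIbar : I.map (Ideal.Quotient.mk (Ideal.span {b})) ≤
        maximalIdeal (A ⧸ Ideal.span {b}) := by
      rw [Ideal.map_le_iff_le_comap]
      intro y hy
      rw [Ideal.mem_comap, mem_maximalIdeal, mem_nonunits_iff]
      intro hunit
      exact (mem_maximalIdeal y).1 (hI hy) (hlocal.map_nonunit y hunit)
    have hgu' := (good_cons_iff b u' I hbI hreg).1 hg3
    have hvI' : Ideal.ofList (b :: (s ++ t')) = I := by
      rw [← ofList_perm hpv]; exact hvI
    have hv' := (ofList_cons_eq_iff b (s ++ t') I hbI).1 hvI'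
    have hmid := ih (A ⧸ Ideal.span {b}) _ hIbar _ _ (by simpa using hlenu')
      (by simpa using hlenv') hgu' hv'
    have hfin : Good I (b :: (s ++ t')) := (good_cons_iff b (s ++ t') I hbI hreg).2 hmid
    exact hfin.perm hI hpv.symm

theorem result {A : Type u} [CommRing A] [IsLocalRing A] [IsNoetherianRing A]
    {n : ℕ} (a b : Fin n → A) (ha : RingTheory.Sequence.IsRegular A (List.ofFn a))
    (hab : Ideal.span (Set.range a) = Ideal.span (Set.range b)) :
    RingTheory.Sequence.IsRegular A (List.ofFn b) := by
  have hof : ∀ f : Fin n → A, Ideal.ofList (List.ofFn f) = Ideal.span (Set.range f) := by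
    intro f
    refine congrArg Ideal.span (Set.ext fun x => ?_)
    simp [List.mem_ofFn]
  have hne : Ideal.ofList (List.ofFn a) ≠ ⊤ := by
    intro h
    apply ha.top_ne_smul
    rw [h, Submodule.top_smul]
  have hI : Ideal.ofList (List.ofFn a) ≤ maximalIdeal A := IsLocalRing.le_maximalIdeal hne
  have hg : Good (Ideal.ofList (List.ofFn a)) (List.ofFn b) :=
    main n A _ hI (List.ofFn a) (List.ofFn b) (by simp) (by simp) ⟨ha.toIsWeaklyRegular, rfl⟩
      (by rw [hof, hof, hab])
  refine IsRegular.of_isWeaklyRegular_of_mem_maximalIdeal A ?_ hg.1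
  intro r hr
  apply hI
  rw [← hg.2]
  exact Ideal.subset_span hr

end Groth.Agent.Helper7.RegSame
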