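import Mathlib

set_option autoImplicit false
universe u v

namespace Groth.Agent.Helper7.RepFin

open Polynomial Module

variable {K : Type u} [Field K]

/-- the shift operator on sequences -/
def shift : Module.End K (ℕ → K) where
  toFun u := fun m => u (m + 1)
  map_add' _ _ := rfl
  map_smul' _ _ := rfl

lemma shift_apply (u : ℕ → K) (m : ℕ) : shift u m = u (m + 1) := rfl

lemma shift_mul (u v : ℕ → K) : shift (u * v) = shift u * shift v := rfl

/-- `shift - θ` -/
abbrev dsh (θ : K) : Module.End K (ℕ → K) := shift - θ • (1 : Module.End K (ℕ → K))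

lemma dsh_apply (θ : K) (u : ℕ → K) (m : ℕ) : dsh θ u m = u (m + 1) - θ * u m := by
  simp [dsh, shift_apply]

lemma dsh_mul (θ θ' : K) (u v : ℕ → K) :
    dsh (θ * θ') (u * v) = (dsh θ u) * shift v + θ • (u * (dsh θ' v)) := by
  funext m
  simp only [dsh_apply, Pi.mul_apply, Pi.add_apply, Pi.smul_apply, shift_apply, smul_eq_mul]
  ring

lemma dsh_pow_shift (θ : K) (b : ℕ) (v : ℕ → K) :
    (dsh θ ^ b) (shift v) = shift ((dsh θ ^ b) v) := by
  have hc : Commute (dsh θ ^ b) (shift (K := K)) := by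
    apply Commute.pow_left
    apply Commute.sub_left (Commute.refl _)
    exact (Commute.one_left _).smul_left θ
  have := congrArg (fun f : Module.End K (ℕ → K) => f v) hc.eq
  simpa [Module.End.mul_apply] using this

lemma mul_pow_eq_zero (θ θ' : K) :
    ∀ (N a b : ℕ) (u v : ℕ → K), a + b ≤ N →
      (dsh θ ^ a) u = 0 → (dsh θ' ^ b) v = 0 → (dsh (θ * θ') ^ N) (u * v) = 0 := by
  intro N
  induction N with
  | zero =>
    intro a b u v hab hu hv
    have ha : a = 0 := by omega
    subst ha
    simp only [pow_zero, Module.End.one_apply] at hu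
    simp [hu]
  | succ N ih =>
    intro a b u v hab hu hv
    rcases Nat.eq_zero_or_pos a with ha | ha
    · subst ha
      simp only [pow_zero, Module.End.one_apply] at hu
      simp [hu]
    rcases Nat.eq_zero_or_pos b with hb | hb
    · subst hb
      simp only [pow_zero, Module.End.one_apply] at hv
      simp [hv]
    obtain ⟨a', rfl⟩ : ∃ a', a = a' + 1 := ⟨a - 1, by omega⟩
    obtain ⟨b', rfl⟩ : ∃ b', b = b' + 1 := ⟨b - 1, by omega⟩
    rw [pow_succ, Module.End.mul_apply, dsh_mul, map_add, map_smul]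
    have h1 : (dsh (θ * θ') ^ N) ((dsh θ u) * shift v) = 0 := by
      apply ih a' (b' + 1) _ _ (by omega)
      · rw [← Module.End.mul_apply, ← pow_succ]; exact hu
      · rw [dsh_pow_shift, hv]; rfl
    have h2 : (dsh (θ * θ') ^ N) (u * (dsh θ' v)) = 0 := by
      apply ih (a' + 1) b' _ _ (by omega) hu
      rw [← Module.End.mul_apply, ← pow_succ]; exact hv
    rw [h1, h2, smul_zero, add_zero]

lemma mul_mem_maxGenEigenspace {θ θ' : K} {u v : ℕ → K}
    (hu : u ∈ (shift (K := K)).maxGenEigenspace θ) (hv : v ∈ (shift (K := K)).maxGenEigenspace θ') :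
    u * v ∈ (shift (K := K)).maxGenEigenspace (θ * θ') := by
  rw [Module.End.mem_maxGenEigenspace] at hu hv ⊢
  obtain ⟨a, ha⟩ := hu
  obtain ⟨b, hb⟩ := hv
  exact ⟨a + b, mul_pow_eq_zero θ θ' (a + b) a b u v le_rfl ha hb⟩

/-- sum of the generalised eigenspaces of the shift with eigenvalues in `Λ` -/
def ES (Λ : Set K) : Submodule K (ℕ → K) := ⨆ θ : Λ, (shift (K := K)).maxGenEigenspace θ.1

lemma ES_mono {Λ Λ' : Set K} (h : Λ ⊆ Λ') : ES Λ ≤ ES Λ' := by
  apply iSup_le
  intro θ
  exact le_iSup (fun θ : Λ' => (shift (K := K)).maxGenEigenspace θ.1) ⟨θ.1, h θ.2⟩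

lemma maxGen_le_ES {Λ : Set K} {θ : K} (h : θ ∈ Λ) : (shift (K := K)).maxGenEigenspace θ ≤ ES Λ :=
  le_iSup (fun θ : Λ => (shift (K := K)).maxGenEigenspace θ.1) ⟨θ, h⟩

open Pointwise in
lemma mul_mem_ES {Λ Λ' : Set K} {u v : ℕ → K} (hu : u ∈ ES Λ) (hv : v ∈ ES Λ') :
    u * v ∈ ES (Λ * Λ') := by
  unfold ES at hu
  induction hu using Submodule.iSup_induction' with
  | mem θ x hx =>
    unfold ES at hv
    induction hv using Submodule.iSup_induction' with
    | mem θ' y hy =>
      exact maxGen_le_ES (Set.mul_mem_mul θ.2 θ'.2) (mul_mem_maxGenEigenspace hx hy)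
    | zero => simp
    | add y z _ _ hy hz => rw [mul_add]; exact add_mem hy hz
  | zero => simp
  | add x y _ _ hx hy => rw [add_mul]; exact add_mem hx hy

/-- constant sequences -/
lemma const_mem_ES (c : K) : (fun _ : ℕ => c) ∈ ES ({1} : Set K) := by
  apply maxGen_le_ES (Set.mem_singleton _)
  rw [Module.End.mem_maxGenEigenspace]
  refine ⟨1, ?_⟩
  funext m
  simp [shift_apply]

/-- geometric sequences -/
def geo (μ : K) : ℕ → K := fun m => μ ^ m

lemma geo_mem (μ : K) : geo μ ∈ (shift (K := K)).maxGenEigenspace μ := by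
  rw [Module.End.mem_maxGenEigenspace]
  refine ⟨1, ?_⟩
  funext m
  simp [shift_apply, geo, pow_succ, mul_comm]

lemma not_mem_ES_of_geo {Λ : Set K} {μ : K} (hμ : μ ∉ Λ) : geo μ ∉ ES Λ := by
  intro h
  have hind := Module.End.independent_maxGenEigenspace (shift (K := K))
  have hd := hind μ
  have hle : ES Λ ≤ ⨆ (j : K) (_ : j ≠ μ), (shift (K := K)).maxGenEigenspace j := by
    apply iSup_le
    intro θ
    have hne : θ.1 ≠ μ := fun e => hμ (e ▸ θ.2)
    exact le_iSup₂_of_le θ.1 hne le_rfl
  have h0 : geo μ = 0 := by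
    have := hd.le_bot ⟨geo_mem μ, hle h⟩
    simpa using this
  have := congrFun h0 0
  simp [geo] at this

/-- kernel of a split polynomial in an operator lies in the sum of generalised eigenspaces -/
lemma ker_aeval_le {V : Type v} [AddCommGroup V] [Module K V] (T : Module.End K V)
    (Λ : Finset K) (N : ℕ) :
    LinearMap.ker (aeval T (∏ θ ∈ Λ, (X - C θ) ^ N)) ≤
      ⨆ θ : (Λ : Set K), T.maxGenEigenspace θ.1 := by
  classical
  induction Λ using Finset.induction_on with
  | empty =>
    intro x hx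
    have : x = 0 := by simpa using hx
    rw [this]; exact zero_mem _
  | insert θ₀ Λ hθ₀ ih =>
    rw [Finset.prod_insert hθ₀]
    have hcop : IsCoprime ((X - C θ₀) ^ N) (∏ θ ∈ Λ, (X - C θ) ^ N) := by
      apply IsCoprime.prod_right
      intro θ hθ
      apply IsCoprime.pow
      apply Polynomial.isCoprime_X_sub_C_of_isUnit_sub
      apply IsUnit.mk0
      intro h
      apply hθ₀
      rw [sub_eq_zero] at h
      rw [h]; exact hθ
    rw [← Polynomial.sup_ker_aeval_eq_ker_aeval_mul_of_coprime T hcop]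
    apply sup_le
    · intro x hx
      have hmem : θ₀ ∈ ((insert θ₀ Λ : Finset K) : Set K) := by simp
      apply le_iSup (fun θ : ((insert θ₀ Λ : Finset K) : Set K) => T.maxGenEigenspace θ.1) ⟨θ₀, hmem⟩
      rw [Module.End.mem_maxGenEigenspace]
      refine ⟨N, ?_⟩
      have : aeval T ((X - C θ₀) ^ N) = (T - θ₀ • 1) ^ N := by
        rw [map_pow, map_sub, aeval_X, aeval_C, Module.algebraMap_end_eq_smul_id]
        rfl
      rw [← this]
      exact hx
    · refine ih.trans ?_
      apply iSup_le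
      intro θ
      have hmem : θ.1 ∈ ((insert θ₀ Λ : Finset K) : Set K) := by
        have := θ.2
        simp only [Finset.coe_insert, Set.mem_insert_iff]
        right; exact this
      exact le_iSup (fun θ : ((insert θ₀ Λ : Finset K) : Set K) => T.maxGenEigenspace θ.1) ⟨θ.1, hmem⟩

section powSeq
variable {n : ℕ} (g : Matrix (Fin n) (Fin n) K) (i j : Fin n)

/-- entries of `g ^ m * A` as a sequence in `m` -/
def phiSeq : Matrix (Fin n) (Fin n) K →ₗ[K] (ℕ → K) where
  toFun A := fun m => (g ^ m * A) i j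
  map_add' A B := by funext m; simp [mul_add]
  map_smul' c A := by funext m; simp

lemma phiSeq_apply (A : Matrix (Fin n) (Fin n) K) (m : ℕ) : phiSeq g i j A m = (g ^ m * A) i j := rfl

lemma shift_phiSeq (A : Matrix (Fin n) (Fin n) K) : shift (phiSeq g i j A) = phiSeq g i j (g * A) := by
  funext m
  rw [shift_apply, phiSeq_apply, phiSeq_apply, pow_succ, mul_assoc]

lemma shift_pow_phiSeq (k : ℕ) (A : Matrix (Fin n) (Fin n) K) :
    (shift ^ k) (phiSeq g i j A) = phiSeq g i j (g ^ k * A) := by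
  induction k generalizing A with
  | zero => simp
  | succ k ih =>
    rw [pow_succ, Module.End.mul_apply, shift_phiSeq, ih, pow_succ, mul_assoc]

lemma aeval_shift_phiSeq (q : K[X]) (A : Matrix (Fin n) (Fin n) K) :
    aeval (shift (K := K)) q (phiSeq g i j A) = phiSeq g i j (aeval g q * A) := by
  rw [Polynomial.aeval_eq_sum_range, Polynomial.aeval_eq_sum_range]
  simp only [LinearMap.sum_apply, LinearMap.smul_apply, shift_pow_phiSeq, Finset.sum_mul,
    map_sum, smul_mul_assoc, map_smul]

/-- the sequence of `(i,j)` entries of the powers of `g` -/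
def powSeq : ℕ → K := fun m => (g ^ m) i j

lemma powSeq_eq : powSeq g i j = phiSeq g i j 1 := by
  funext m; simp [powSeq, phiSeq_apply]

lemma powSeq_mem_ker : powSeq g i j ∈ LinearMap.ker (aeval (shift (K := K)) g.charpoly) := by
  rw [LinearMap.mem_ker, powSeq_eq, aeval_shift_phiSeq, Matrix.aeval_self_charpoly, zero_mul, map_zero]

lemma powSeq_mem_ES (lam : Fin n → K) (hlam : g.charpoly = ∏ l, (X - C (lam l))) :
    powSeq g i j ∈ ES (Set.range lam) := by
  classical
  set Λ : Finset K := Finset.univ.image lam with hΛ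
  have hdvd : g.charpoly ∣ ∏ θ ∈ Λ, (X - C θ) ^ n := by
    rw [hlam, Finset.prod_pow]
    have h1 : ∀ l ∈ (Finset.univ : Finset (Fin n)), (X - C (lam l)) ∣ ∏ θ ∈ Λ, (X - C θ) := by
      intro l _
      exact Finset.dvd_prod_of_mem (fun θ => X - C θ) (Finset.mem_image_of_mem lam (Finset.mem_univ l))
    have h2 := Finset.prod_dvd_prod_of_dvd (fun l => X - C (lam l)) (fun _ => ∏ θ ∈ Λ, (X - C θ)) h1
    simpa using h2
  obtain ⟨R, hR⟩ := hdvd
  have hker : powSeq g i j ∈ LinearMap.ker (aeval (shift (K := K)) (∏ θ ∈ Λ, (X - C θ) ^ n)) := by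
    rw [hR, mul_comm, map_mul, LinearMap.mem_ker, Module.End.mul_apply]
    have := powSeq_mem_ker g i j
    rw [LinearMap.mem_ker] at this
    rw [this, map_zero]
  have h3 := ker_aeval_le (shift (K := K)) Λ n hker
  have hle : (⨆ θ : (Λ : Set K), (shift (K := K)).maxGenEigenspace θ.1) ≤ ES (Set.range lam) := by
    apply iSup_le
    intro θ
    have hθ : θ.1 ∈ Set.range lam := by
      have := θ.2
      simpa [hΛ] using this
    exact le_iSup (fun θ : Set.range lam => (shift (K := K)).maxGenEigenspace θ.1) ⟨θ.1, hθ⟩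
  exact hle h3

end powSeq

end Groth.Agent.Helper7.RepFin
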