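import Groth.Agent.Helper7.RepFinC

set_option autoImplicit false
universe u

namespace Groth.Agent.Helper7.RepFin

open Polynomial Module

variable {K : Type u} [Field K] {n : ℕ}

/-- monomials of degree at most `r` in the values `lam i` -/
def Mon (lam : Fin n → K) (r : ℕ) : Set K :=
  {x | ∃ α : Fin n → ℕ, ∑ i, α i ≤ r ∧ x = ∏ i, lam i ^ α i}

lemma Mon_mono (lam : Fin n → K) {r s : ℕ} (h : r ≤ s) : Mon lam r ⊆ Mon lam s := by
  rintro x ⟨α, hα, rfl⟩
  exact ⟨α, hα.trans h, rfl⟩

lemma one_mem_Mon (lam : Fin n → K) (r : ℕ) : (1 : K) ∈ Mon lam r :=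
  ⟨0, by simp, by simp⟩

open Pointwise in
lemma Mon_mul (lam : Fin n → K) (r s : ℕ) : Mon lam r * Mon lam s ⊆ Mon lam (r + s) := by
  rintro _ ⟨x, ⟨α, hα, rfl⟩, y, ⟨β, hβ, rfl⟩, rfl⟩
  refine ⟨α + β, ?_, ?_⟩
  · simp only [Pi.add_apply, Finset.sum_add_distrib]
    omega
  · simp only [Pi.add_apply, pow_add, Finset.prod_mul_distrib]

lemma range_subset_Mon (lam : Fin n → K) : Set.range lam ⊆ Mon lam 1 := by
  classical
  rintro _ ⟨i, rfl⟩
  refine ⟨Pi.single i 1, ?_, ?_⟩
  · simp
  · rw [Finset.prod_eq_single i]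
    · simp
    · intro j _ hj
      simp [Pi.single_eq_of_ne hj]
    · intro h; exact absurd (Finset.mem_univ _) h

/-- the graded pieces -/
def W (lam : Fin n → K) (r : ℕ) : Submodule K (ℕ → K) := ES (Mon lam r)

lemma W_mono (lam : Fin n → K) {r s : ℕ} (h : r ≤ s) : W lam r ≤ W lam s :=
  ES_mono (Mon_mono lam h)

lemma one_mem_W (lam : Fin n → K) : (1 : ℕ → K) ∈ W lam 0 := by
  have h := const_mem_ES (K := K) 1
  have hsub : ({1} : Set K) ⊆ Mon lam 0 := by
    intro x hx
    rw [Set.mem_singleton_iff] at hx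
    rw [hx]; exact one_mem_Mon lam 0
  exact ES_mono hsub h

lemma mul_mem_W (lam : Fin n → K) {r s : ℕ} {u v : ℕ → K} (hu : u ∈ W lam r) (hv : v ∈ W lam s) :
    u * v ∈ W lam (r + s) :=
  ES_mono (Mon_mul lam r s) (mul_mem_ES hu hv)

lemma pow_mem_W (lam : Fin n → K) {u : ℕ → K} (hu : u ∈ W lam 1) (b : ℕ) : u ^ b ∈ W lam b := by
  induction b with
  | zero => rw [pow_zero]; exact one_mem_W lam
  | succ b ih => rw [pow_succ]; exact mul_mem_W lam ih hu

lemma monomial_mem_W {ι : Type*} (lam : Fin n → K) (x : ι → (ℕ → K)) (hx : ∀ i, x i ∈ W lam 1)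
    (s : ι →₀ ℕ) : (s.prod fun i e => x i ^ e) ∈ W lam (s.sum fun _ e => e) := by
  classical
  induction s using Finsupp.induction with
  | zero => simp only [Finsupp.prod_zero_index, Finsupp.sum_zero_index]; exact one_mem_W lam
  | single_add a b f ha hb ih =>
    rw [Finsupp.prod_add_index' (fun _ => pow_zero _) (fun _ _ _ => pow_add _ _ _),
      Finsupp.sum_add_index' (fun _ => rfl) (fun _ _ _ => rfl)]
    have h1 : ((fun₀ | a => b).prod fun i e => x i ^ e) = x a ^ b :=
      Finsupp.prod_single_index (pow_zero _)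
    have h2 : ((fun₀ | a => b).sum fun _ e => e) = b := Finsupp.sum_single_index rfl
    rw [h1, h2]
    exact mul_mem_W lam (pow_mem_W lam (hx a) b) ih

lemma aeval_mem_W {ι : Type*} (lam : Fin n → K) (x : ι → (ℕ → K)) (hx : ∀ i, x i ∈ W lam 1)
    (F : MvPolynomial ι K) : MvPolynomial.aeval x F ∈ W lam F.totalDegree := by
  rw [MvPolynomial.as_sum F, map_sum]
  apply Submodule.sum_mem
  intro s hs
  rw [MvPolynomial.aeval_monomial, Algebra.algebraMap_eq_smul_one, smul_mul_assoc, one_mul]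
  apply Submodule.smul_mem
  rw [← MvPolynomial.as_sum F]
  exact W_mono lam (MvPolynomial.le_totalDegree hs) (monomial_mem_W lam x hx s)

lemma aeval_seq_apply {ι : Type*} (x : ι → (ℕ → K)) (F : MvPolynomial ι K) (m : ℕ) :
    MvPolynomial.aeval x F m = MvPolynomial.eval (fun i => x i m) F := by
  have h : (Pi.evalAlgHom K (fun _ : ℕ => K) m).comp (MvPolynomial.aeval x) =
      MvPolynomial.aeval (fun i => x i m) := by
    apply MvPolynomial.algHom_ext
    intro i
    simp
  have := congrArg (fun f : MvPolynomial ι K →ₐ[K] K => f F) h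
  simpa [MvPolynomial.aeval_eq_eval] using this

end Groth.Agent.Helper7.RepFin

namespace Groth.Agent.Helper7.RepFin

open Polynomial Module

variable {K : Type u} [Field K] {n d : ℕ}

lemma exists_eigenvector (a : Matrix (Fin d) (Fin d) K) (μ : K) (hμ : a.charpoly.IsRoot μ) :
    ∃ v : Fin d → K, v ≠ 0 ∧ a.mulVec v = μ • v := by
  have h : (Matrix.scalar (Fin d) μ - a).det = 0 := by
    rw [← Matrix.eval_charpoly]; exact hμ
  obtain ⟨v, hv0, hv⟩ := Matrix.exists_mulVec_eq_zero_iff.2 h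
  refine ⟨v, hv0, ?_⟩
  rw [Matrix.sub_mulVec, sub_eq_zero] at hv
  rw [← hv]
  funext i
  simp [Matrix.mulVec, dotProduct, Matrix.scalar_apply, Matrix.diagonal_apply]

lemma pow_mulVec_eigen (a : Matrix (Fin d) (Fin d) K) (μ : K) (v : Fin d → K)
    (hv : a.mulVec v = μ • v) (m : ℕ) : (a ^ m).mulVec v = μ ^ m • v := by
  induction m with
  | zero => simp
  | succ m ih =>
    rw [pow_succ, ← Matrix.mulVec_mulVec, hv, Matrix.mulVec_smul, ih, smul_smul, pow_succ, mul_comm]

/-- every eigenvalue of `a` is a monomial of bounded degree in the eigenvalues of `g`, if the entries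
of the powers of `a` are fixed polynomials in the entries of the powers of `g` -/
theorem eigen_mem_Mon (g : Matrix (Fin n) (Fin n) K) (a : Matrix (Fin d) (Fin d) K)
    (F : Fin d → Fin d → MvPolynomial (Fin n × Fin n) K) (r : ℕ)
    (hr : ∀ i j, (F i j).totalDegree ≤ r)
    (hF : ∀ m i j, (a ^ m) i j = MvPolynomial.eval (fun p => (g ^ m) p.1 p.2) (F i j))
    (lam : Fin n → K) (hlam : g.charpoly = ∏ l, (X - C (lam l)))
    (μ : K) (hμ : a.charpoly.IsRoot μ) : μ ∈ Mon lam r := by
  by_contra hcon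
  obtain ⟨v, hv0, hv⟩ := exists_eigenvector a μ hμ
  obtain ⟨i, hi⟩ : ∃ i, v i ≠ 0 := by
    by_contra h
    simp only [not_exists, not_not] at h
    exact hv0 (funext h)
  set x : Fin n × Fin n → (ℕ → K) := fun p => powSeq g p.1 p.2 with hx
  have hx1 : ∀ p, x p ∈ W lam 1 := fun p =>
    ES_mono (range_subset_Mon lam) (powSeq_mem_ES g p.1 p.2 lam hlam)
  have hs : ∀ j, powSeq a i j ∈ W lam r := by
    intro j
    have h1 : powSeq a i j = MvPolynomial.aeval x (F i j) := by
      funext m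
      rw [aeval_seq_apply]
      exact hF m i j
    rw [h1]
    exact W_mono lam (hr i j) (aeval_mem_W lam x hx1 (F i j))
  have hgeo : geo μ = (v i)⁻¹ • ∑ j, v j • powSeq a i j := by
    funext m
    have h2 := congrFun (pow_mulVec_eigen a μ v hv m) i
    simp only [Matrix.mulVec, dotProduct, Pi.smul_apply, smul_eq_mul] at h2
    simp only [geo, Pi.smul_apply, Finset.sum_apply, smul_eq_mul, powSeq]
    have h3 : ∑ j, v j * (a ^ m) i j = μ ^ m * v i := by
      rw [← h2]
      exact Finset.sum_congr rfl fun j _ => mul_comm _ _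
    rw [h3]
    field_simp
  have hmem : geo μ ∈ W lam r := by
    rw [hgeo]
    apply Submodule.smul_mem
    apply Submodule.sum_mem
    intro j _
    exact Submodule.smul_mem _ _ (hs j)
  exact not_mem_ES_of_geo hcon hmem

end Groth.Agent.Helper7.RepFin
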