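import Mathlib
import Groth.Agent.Helper2.PtsDense

set_option autoImplicit false
universe u

namespace Groth.Agent.Helper7.RepFin

open Polynomial

section defs
variable (K : Type u) [Field K] (n d r : ℕ)

/-- the monomial with exponent vector `α` -/
noncomputable def mono (α : Fin n → Fin (r + 1)) : MvPolynomial (Fin n) K :=
  ∏ i, MvPolynomial.X i ^ (α i : ℕ)

/-- the universal polynomial killing all sums of `d` monomials of exponents at most `r` -/
noncomputable def PL : (MvPolynomial (Fin n) K)[X] :=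
  ∏ β : Fin d → (Fin n → Fin (r + 1)), (X - C (∑ j, mono K n r (β j)))

variable {K n d r}

lemma rename_mono (σ : Equiv.Perm (Fin n)) (α : Fin n → Fin (r + 1)) :
    MvPolynomial.rename σ (mono K n r α) = mono K n r (α ∘ σ.symm) := by
  unfold mono
  rw [map_prod]
  simp only [map_pow, MvPolynomial.rename_X, Function.comp_apply]
  have h := Equiv.prod_comp σ
    (fun i => (MvPolynomial.X i : MvPolynomial (Fin n) K) ^ (α (σ.symm i) : ℕ))
  simp only [Equiv.symm_apply_apply] at h
  exact h

lemma PL_map_rename (σ : Equiv.Perm (Fin n)) :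
    (PL K n d r).map (MvPolynomial.rename σ : MvPolynomial (Fin n) K →ₐ[K] _).toRingHom =
      PL K n d r := by
  unfold PL
  rw [Polynomial.map_prod]
  let e : (Fin d → (Fin n → Fin (r + 1))) ≃ (Fin d → (Fin n → Fin (r + 1))) :=
    Equiv.piCongrRight (fun _ => Equiv.arrowCongr σ (Equiv.refl _))
  refine Fintype.prod_equiv e _ _ ?_
  intro β
  rw [Polynomial.map_sub, Polynomial.map_X, Polynomial.map_C]
  congr 2
  simp only [AlgHom.toRingHom_eq_coe, RingHom.coe_coe, map_sum, rename_mono]
  rfl

lemma PL_monic : (PL K n d r).Monic := by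
  unfold PL
  exact Polynomial.monic_prod_of_monic _ _ (fun β _ => Polynomial.monic_X_sub_C _)

lemma coeff_PL_isSymmetric (k : ℕ) : ((PL K n d r).coeff k).IsSymmetric := by
  intro σ
  have h := congrArg (fun p => Polynomial.coeff p k) (PL_map_rename (K := K) (n := n) (d := d) (r := r) σ)
  simp only [Polynomial.coeff_map] at h
  exact h

/-- the ring map `e_i ↦ esymm (i+1)` -/
noncomputable def iota (K : Type u) [Field K] (n : ℕ) :
    MvPolynomial (Fin n) K →ₐ[K] MvPolynomial (Fin n) K :=
  MvPolynomial.aeval (fun i : Fin n => MvPolynomial.esymm (Fin n) K (i + 1))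

lemma iota_injective : Function.Injective (iota K n) := by
  intro p q h
  apply (MvPolynomial.esymmAlgHom_fin_bijective K n).1
  apply Subtype.ext
  rw [MvPolynomial.esymmAlgHom_apply, MvPolynomial.esymmAlgHom_apply]
  exact h

lemma exists_PE : ∃ PE : (MvPolynomial (Fin n) K)[X], PE.Monic ∧
    PE.map (iota K n).toRingHom = PL K n d r := by
  have hmem : PL K n d r ∈ (Polynomial.mapRingHom (iota K n).toRingHom).range := by
    rw [Polynomial.mem_map_range]
    intro k
    obtain ⟨q, hq⟩ := (MvPolynomial.esymmAlgHom_fin_bijective K n).2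
      ⟨(PL K n d r).coeff k, coeff_PL_isSymmetric k⟩
    refine ⟨q, ?_⟩
    have := congrArg Subtype.val hq
    rw [MvPolynomial.esymmAlgHom_apply] at this
    exact this
  obtain ⟨PE, hPE⟩ := hmem
  refine ⟨PE, ?_, hPE⟩
  apply Polynomial.monic_of_injective (f := (iota K n).toRingHom) iota_injective
  have : PE.map (iota K n).toRingHom = PL K n d r := hPE
  rw [this]
  exact PL_monic

end defs

section integral
variable {K : Type u} [Field K] [IsAlgClosed K] {n d r : ℕ}
  {B : Type u} [CommRing B] [Algebra K B] [Algebra.FiniteType K B] [IsReduced B]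

omit [IsAlgClosed K] in
lemma eval_mono (lam : Fin n → K) (α : Fin n → Fin (r + 1)) :
    MvPolynomial.eval lam (mono K n r α) = ∏ i, lam i ^ (α i : ℕ) := by
  unfold mono
  rw [map_prod]
  simp

/-- pointwise criterion for integrality over the subalgebra generated by `c` -/
theorem isIntegral_of_pointwise (c : Fin n → B) (χ : B)
    (h : ∀ φ : B →ₐ[K] K, ∃ lam : Fin n → K,
      (∀ i, φ (c i) = MvPolynomial.eval lam (MvPolynomial.esymm (Fin n) K (i + 1))) ∧
      ∃ β : Fin d → (Fin n → Fin (r + 1)), φ χ = ∑ j, ∏ i, lam i ^ (β j i : ℕ)) :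
    IsIntegral (Algebra.adjoin K (Set.range c)) χ := by
  obtain ⟨PE, hmonic, hPE⟩ := exists_PE (K := K) (n := n) (d := d) (r := r)
  set S₀ := Algebra.adjoin K (Set.range c) with hS₀
  let γ₀ : MvPolynomial (Fin n) K →ₐ[K] S₀ :=
    MvPolynomial.aeval (fun i => (⟨c i, Algebra.subset_adjoin ⟨i, rfl⟩⟩ : S₀))
  refine ⟨PE.map γ₀.toRingHom, hmonic.map _, ?_⟩
  rw [Polynomial.eval₂_map]
  apply Groth.Agent.Helper2.PtsDense.eq_zero_of_forall_algHom' (k := K)
  intro φ
  obtain ⟨lam, hc, β, hβ⟩ := h φ
  have hφ : φ (eval₂ ((algebraMap S₀ B).comp γ₀.toRingHom) χ PE) =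
      eval₂ ((φ : B →+* K).comp ((algebraMap S₀ B).comp γ₀.toRingHom)) (φ χ) PE :=
    Polynomial.hom_eval₂ PE _ (φ : B →+* K) χ
  rw [hφ]
  have hhom : (φ : B →+* K).comp ((algebraMap S₀ B).comp γ₀.toRingHom) =
      (MvPolynomial.eval lam).comp (iota K n).toRingHom := by
    apply MvPolynomial.ringHom_ext
    · intro a
      simp
    · intro i
      simp only [RingHom.comp_apply, AlgHom.toRingHom_eq_coe, RingHom.coe_coe, γ₀, iota,
        MvPolynomial.aeval_X]
      exact hc i
  rw [hhom, ← Polynomial.eval₂_map, hPE]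
  unfold PL
  rw [Polynomial.eval₂_finsetProd]
  apply Finset.prod_eq_zero (Finset.mem_univ β)
  rw [Polynomial.eval₂_sub, Polynomial.eval₂_X, Polynomial.eval₂_C, map_sum]
  simp only [eval_mono]
  change φ χ - _ = 0
  rw [hβ, sub_self]

end integral

end Groth.Agent.Helper7.RepFin
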