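import Mathlib

set_option autoImplicit false
universe u v

namespace Groth.Agent.Helper7.RepFin

open Module Set.powersetCard

section cpd
variable {R : Type u} [CommRing R] {n : ℕ} (i : ℕ)

/-- the `i`-th compound matrix (matrix of `i × i` minors) -/
noncomputable def cpd (M : Matrix (Fin n) (Fin n) R) :
    Matrix (Set.powersetCard (Fin n) i) (Set.powersetCard (Fin n) i) R :=
  fun s t => (M.submatrix (ofFinEmbEquiv.symm s) (ofFinEmbEquiv.symm t)).det

lemma cpd_apply (M : Matrix (Fin n) (Fin n) R) (s t : Set.powersetCard (Fin n) i) :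
    cpd i M s t = (M.submatrix (ofFinEmbEquiv.symm s) (ofFinEmbEquiv.symm t)).det := rfl

lemma cpd_map {S : Type v} [CommRing S] (f : R →+* S) (M : Matrix (Fin n) (Fin n) R) :
    (cpd i M).map f = cpd i (M.map f) := by
  ext s t
  rw [Matrix.map_apply, cpd_apply, cpd_apply, RingHom.map_det]
  rfl

lemma cpd_eq_toMatrix (M : Matrix (Fin n) (Fin n) R) :
    cpd i M = LinearMap.toMatrix ((Pi.basisFun R (Fin n)).exteriorPower i)
      ((Pi.basisFun R (Fin n)).exteriorPower i) (exteriorPower.map i (Matrix.toLin' M)) := by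
  ext s t
  rw [LinearMap.toMatrix_apply, exteriorPower.basis_apply, exteriorPower.map_apply_ιMulti_family,
    exteriorPower.basis_repr_apply, exteriorPower.ιMulti_family, exteriorPower.ιMultiDual_apply_ιMulti,
    cpd_apply, ← Matrix.det_transpose]
  congr 1
  ext a c
  simp [Matrix.transpose_apply, Matrix.submatrix_apply, Matrix.toLin'_apply, Pi.basisFun_apply]

lemma cpd_mul (M N : Matrix (Fin n) (Fin n) R) : cpd i (M * N) = cpd i M * cpd i N := by
  rw [cpd_eq_toMatrix, cpd_eq_toMatrix, cpd_eq_toMatrix, Matrix.toLin'_mul, exteriorPower.map_comp,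
    LinearMap.toMatrix_comp _ ((Pi.basisFun R (Fin n)).exteriorPower i)]

lemma cpd_one : cpd i (1 : Matrix (Fin n) (Fin n) R) = 1 := by
  rw [cpd_eq_toMatrix, Matrix.toLin'_one, exteriorPower.map_id, LinearMap.toMatrix_id]

lemma cpd_diag (M : Matrix (Fin n) (Fin n) R) (s : Set.powersetCard (Fin n) i) :
    cpd i M s s = (M.submatrix (Subtype.val : s.val → Fin n) (Subtype.val : s.val → Fin n)).det := by
  rw [cpd_apply]
  let e : Fin i ≃ s.val := (s.val.orderIsoOfFin s.prop).toEquiv
  rw [← Matrix.det_submatrix_equiv_self e]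
  congr 1

lemma trace_cpd (M : Matrix (Fin n) (Fin n) R) :
    (cpd i M).trace = ∑ s ∈ (Finset.univ : Finset (Fin n)).powersetCard i,
      (M.submatrix (Subtype.val : s → Fin n) (Subtype.val : s → Fin n)).det := by
  rw [Matrix.trace]
  simp only [Matrix.diag_apply, cpd_diag]
  symm
  apply Finset.sum_subtype ((Finset.univ : Finset (Fin n)).powersetCard i)
    (p := fun s => s ∈ Set.powersetCard (Fin n) i)
    (f := fun s : Finset (Fin n) =>
      (M.submatrix (Subtype.val : s → Fin n) (Subtype.val : s → Fin n)).det)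
  intro s
  simp [Set.powersetCard.mem_iff]

lemma charpoly_coeff_eq_trace_cpd (M : Matrix (Fin n) (Fin n) R) (hi : i ≤ n) :
    M.charpoly.coeff (n - i) = (-1) ^ i * (cpd i M).trace := by
  have h := Matrix.charpoly_coeff_eq_sum_minors M i (by simpa using hi)
  rw [Fintype.card_fin] at h
  rw [h, trace_cpd]

end cpd

section field
variable {K : Type u} [Field K] {n : ℕ}

/-- over a field, the trace of the compound matrix is the elementary symmetric function of the
eigenvalues -/
lemma trace_cpd_eq_esymm (g : Matrix (Fin n) (Fin n) K) (lam : Fin n → K)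
    (hlam : g.charpoly = ∏ l, (Polynomial.X - Polynomial.C (lam l))) (i : ℕ) (hi : i ≤ n) :
    (cpd i g).trace = MvPolynomial.eval lam (MvPolynomial.esymm (Fin n) K i) := by
  have h1 := charpoly_coeff_eq_trace_cpd i g hi
  set s : Multiset K := Finset.univ.val.map lam with hs
  have hcard : Multiset.card s = n := by simp [hs]
  have hprod : g.charpoly = (s.map fun t => Polynomial.X - Polynomial.C t).prod := by
    rw [hlam, hs, Multiset.map_map]
    rfl
  have h2 := Multiset.prod_X_sub_C_coeff s (k := n - i) (by rw [hcard]; omega)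
  rw [← hprod, hcard] at h2
  have h3 : n - (n - i) = i := by omega
  rw [h3, h1] at h2
  have h4 : (cpd i g).trace = s.esymm i := by
    have hu : IsUnit ((-1 : K) ^ i) := (isUnit_one.neg).pow i
    exact hu.mul_left_cancel h2
  rw [h4, hs, ← MvPolynomial.aeval_esymm_eq_multiset_esymm (Fin n) K i lam,
    MvPolynomial.aeval_eq_eval]

end field

end Groth.Agent.Helper7.RepFin
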