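import Groth.Agent.Helper8.Chev3
import Groth.Agent.Helper7.RepFinF

set_option autoImplicit false
universe u v w

namespace Groth.Agent.Helper7.RepFin

open TensorProduct
open Groth.Agent.Helper8.Chev

section mult
variable {k : Type u} [CommRing k] {A : Type v} [CommRing A] [Bialgebra k A]
  {ι : Type w} [Fintype ι] [DecidableEq ι]

lemma isMult_iff_map (M : Matrix ι ι A) :
    IsMult k M ↔
      M.map (Bialgebra.comulAlgHom k A) =
        M.map (Algebra.TensorProduct.includeLeft : A →ₐ[k] A ⊗[k] A) *
          M.map (Algebra.TensorProduct.includeRight : A →ₐ[k] A ⊗[k] A) ∧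
      M.map (Bialgebra.counitAlgHom k A) = 1 := by
  constructor
  · intro hM
    constructor
    · ext l j
      simp only [Matrix.map_apply, Bialgebra.comulAlgHom_apply, hM.comul, Matrix.mul_apply,
        Algebra.TensorProduct.includeLeft_apply, Algebra.TensorProduct.includeRight_apply,
        Algebra.TensorProduct.tmul_mul_tmul, mul_one, one_mul]
    · ext l j
      simp only [Matrix.map_apply, Bialgebra.counitAlgHom_apply, hM.counit, Matrix.one_apply]
  · rintro ⟨h1, h2⟩
    constructor
    · intro l j
      have := congrFun (congrFun h1 l) j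
      simpa only [Matrix.map_apply, Bialgebra.comulAlgHom_apply, Matrix.mul_apply,
        Algebra.TensorProduct.includeLeft_apply, Algebra.TensorProduct.includeRight_apply,
        Algebra.TensorProduct.tmul_mul_tmul, mul_one, one_mul] using this
    · intro l j
      have := congrFun (congrFun h2 l) j
      simpa only [Matrix.map_apply, Bialgebra.counitAlgHom_apply, Matrix.one_apply] using this

end mult

section cpdmult
variable {k : Type u} [CommRing k] {A : Type v} [CommRing A] [Bialgebra k A] {n : ℕ}

theorem isMult_cpd {M : Matrix (Fin n) (Fin n) A} (hM : IsMult k M) (i : ℕ) :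
    IsMult k (cpd i M) := by
  rw [isMult_iff_map] at hM ⊢
  obtain ⟨h1, h2⟩ := hM
  constructor
  · have e1 : (cpd i M).map (Bialgebra.comulAlgHom k A) =
        cpd i (M.map (Bialgebra.comulAlgHom k A)) :=
      cpd_map i (Bialgebra.comulAlgHom k A : A →+* A ⊗[k] A) M
    have e2 : (cpd i M).map (Algebra.TensorProduct.includeLeft : A →ₐ[k] A ⊗[k] A) =
        cpd i (M.map (Algebra.TensorProduct.includeLeft : A →ₐ[k] A ⊗[k] A)) :=
      cpd_map i ((Algebra.TensorProduct.includeLeft : A →ₐ[k] A ⊗[k] A) : A →+* A ⊗[k] A) M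
    have e3 : (cpd i M).map (Algebra.TensorProduct.includeRight : A →ₐ[k] A ⊗[k] A) =
        cpd i (M.map (Algebra.TensorProduct.includeRight : A →ₐ[k] A ⊗[k] A)) :=
      cpd_map i ((Algebra.TensorProduct.includeRight : A →ₐ[k] A ⊗[k] A) : A →+* A ⊗[k] A) M
    rw [e1, e2, e3, h1, cpd_mul]
  · have e1 : (cpd i M).map (Bialgebra.counitAlgHom k A) =
        cpd i (M.map (Bialgebra.counitAlgHom k A)) :=
      cpd_map i (Bialgebra.counitAlgHom k A : A →+* k) M
    rw [e1, h2, cpd_one]

end cpdmult

end Groth.Agent.Helper7.RepFin
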