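import Groth.Agent.Helper7.RepFinG

set_option autoImplicit false
universe u v w

namespace Groth.Agent.Helper7.RepFin

open TensorProduct
open Groth.Agent.Helper8.Chev Groth.Agent.Helper8.GLnEmb

section chr
variable (k : Type u) [Field k] (B : Type v) [CommRing B] [Bialgebra k B]

/-- the character of a comodule structure on a coordinate space -/
noncomputable def chr (p : Σ d : ℕ, HopfRep.Comod k B (Fin d → k)) : B :=
  ∑ i : Fin p.1, TensorProduct.lid k B (LinearMap.rTensor B (LinearMap.proj i)
    (@HopfRep.Comod.coact k B _ _ _ _ (Fin p.1 → k) _ _ p.2 (Pi.single i 1)))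

variable {k B}

lemma chr_eq_trace {d : ℕ} (c : HopfRep.Comod k B (Fin d → k)) (M : Matrix (Fin d) (Fin d) B)
    (hM : ∀ j, c.coact (Pi.single j 1) = ∑ i, (Pi.single i (1 : k)) ⊗ₜ[k] M i j) :
    chr k B ⟨d, c⟩ = M.trace := by
  unfold chr
  simp only [Matrix.trace, Matrix.diag_apply]
  refine Finset.sum_congr rfl fun i _ => ?_
  rw [hM i]
  simp only [map_sum, LinearMap.rTensor_tmul, LinearMap.proj_apply, TensorProduct.lid_tmul]
  rw [Finset.sum_eq_single i]
  · simp
  · intro j _ hj
    simp [Pi.single_eq_of_ne hj.symm]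
  · intro h; exact absurd (Finset.mem_univ _) h

/-- characters are exactly the traces of multiplicative matrices -/
lemma mem_range_chr_iff (x : B) :
    x ∈ Set.range (chr k B) ↔ ∃ (d : ℕ) (M : Matrix (Fin d) (Fin d) B), IsMult k M ∧ x = M.trace := by
  constructor
  · rintro ⟨⟨d, c⟩, rfl⟩
    obtain ⟨M, hM, hmult⟩ := exists_matrix' c (Pi.basisFun k (Fin d))
    refine ⟨d, M, hmult, ?_⟩
    apply chr_eq_trace c M
    intro j
    have := hM j
    simpa only [Pi.basisFun_apply] using this
  · rintro ⟨d, M, hM, rfl⟩
    refine ⟨⟨d, matComod M hM⟩, ?_⟩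
    apply chr_eq_trace
    intro j
    exact matCoact_single M j

lemma trace_mem_range_chr {ι : Type w} [Fintype ι] [DecidableEq ι] (M : Matrix ι ι B)
    (hM : IsMult k M) : M.trace ∈ Set.range (chr k B) := by
  rw [mem_range_chr_iff]
  let e : ι ≃ Fin (Fintype.card ι) := Fintype.equivFin ι
  refine ⟨Fintype.card ι, M.submatrix e.symm e.symm, ⟨?_, ?_⟩, ?_⟩
  · intro l j
    simp only [Matrix.submatrix_apply, hM.comul]
    exact (Equiv.sum_comp e.symm (fun i => M (e.symm l) i ⊗ₜ[k] M i (e.symm j))).symm
  · intro l j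
    simp only [Matrix.submatrix_apply, hM.counit, EmbeddingLike.apply_eq_iff_eq]
  · simp only [Matrix.trace, Matrix.diag_apply, Matrix.submatrix_apply]
    exact (Equiv.sum_comp e.symm (fun i => M i i)).symm

end chr

section map
variable {k : Type u} [CommRing k] {A : Type v} [CommRing A] [Bialgebra k A]
  {B : Type w} [CommRing B] [Bialgebra k B] {ι : Type*} [Fintype ι] [DecidableEq ι]

lemma IsMult_map (π : A →ₐc[k] B) {M : Matrix ι ι A} (hM : IsMult k M) : IsMult k (M.map π) := by
  constructor
  · intro l j
    simp only [Matrix.map_apply]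
    have h := CoalgHomClass.map_comp_comul_apply π (M l j)
    rw [← h, hM.comul, map_sum]
    simp
  · intro l j
    simp only [Matrix.map_apply]
    have h := CoalgHomClass.counit_comp_apply π (M l j)
    rw [h, hM.counit]

end map

section faithful
variable (k : Type u) [Field k] (A : Type u) [CommRing A] [HopfAlgebra k A] [Algebra.FiniteType k A]

/-- a faithful multiplicative matrix: its entries generate the algebra -/
theorem exists_faithful :
    ∃ (n : ℕ) (w : Matrix (Fin n) (Fin n) A), IsMult k w ∧
      Algebra.adjoin k (Set.range fun p : Fin n × Fin n => w p.1 p.2) = ⊤ := by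
  classical
  obtain ⟨V, hVfin, hVsub, hVadj⟩ := exists_fd (k := k) (A := A) inferInstance
  haveI := hVfin
  let b := Module.finBasis k V
  let c : HopfRep.Comod k A V := ComodSub.Comod.restr (HopfRep.Comod.regular k A) V hVsub
  obtain ⟨M, hM, hmult⟩ := exists_matrix' c b
  refine ⟨_, M, hmult, ?_⟩
  set S := Algebra.adjoin k (Set.range fun p : Fin (Module.finrank k V) × Fin (Module.finrank k V) =>
    M p.1 p.2) with hS
  have hent : ∀ i j, M i j ∈ S := fun i j => Algebra.subset_adjoin ⟨(i, j), rfl⟩
  have hrange : ∀ j, (b j : A) ∈ S := by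
    intro j
    have h1 : Coalgebra.comul (R := k) (b j : A) = ∑ i, (b i : A) ⊗ₜ[k] M i j := by
      have := ComodSub.restr_coact_coe (HopfRep.Comod.regular k A) V hVsub (b j)
      have hM' := hM j
      rw [hM'] at this
      simp only [map_sum, LinearMap.rTensor_tmul, Submodule.subtype_apply] at this
      exact this.symm
    have h2 := Coalgebra.rTensor_counit_comul (R := k) (b j : A)
    rw [h1, map_sum] at h2
    simp only [LinearMap.rTensor_tmul] at h2
    have h3 := congrArg (TensorProduct.lid k A) h2
    simp only [map_sum, TensorProduct.lid_tmul, one_smul] at h3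
    rw [← h3]
    apply Subalgebra.sum_mem
    intro i _
    exact Subalgebra.smul_mem _ (hent i j) _
  have hV : (V : Set A) ⊆ (S : Set A) := by
    intro v hv
    have h := b.sum_repr ⟨v, hv⟩
    have h' : v = ∑ j, b.repr ⟨v, hv⟩ j • (b j : A) := by
      have := congrArg (V.subtype) h
      simp only [map_sum, map_smul, Submodule.subtype_apply] at this
      exact this.symm
    rw [h']
    apply Subalgebra.sum_mem
    intro j _
    exact Subalgebra.smul_mem _ (hrange j) _
  rw [eq_top_iff, ← hVadj]
  exact Algebra.adjoin_le hV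

end faithful

section ptPow
variable {K : Type u} [Field K] {B : Type v} [CommRing B] [Bialgebra K B]

/-- convolution powers of a point -/
noncomputable def ptPow (φ : B →ₐ[K] K) : ℕ → (B →ₐ[K] K)
  | 0 => Bialgebra.counitAlgHom K B
  | m + 1 => (Algebra.TensorProduct.lift (ptPow φ m) φ (fun _ _ => Commute.all _ _)).comp
      (Bialgebra.comulAlgHom K B)

lemma map_ptPow {ι : Type*} [Fintype ι] [DecidableEq ι] (φ : B →ₐ[K] K) {M : Matrix ι ι B}
    (hM : IsMult K M) (m : ℕ) : M.map (ptPow φ m) = (M.map φ) ^ m := by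
  induction m with
  | zero =>
    rw [pow_zero]
    ext l j
    simp only [ptPow, Matrix.map_apply, Bialgebra.counitAlgHom_apply, hM.counit, Matrix.one_apply]
  | succ m ih =>
    rw [pow_succ, ← ih]
    ext l j
    simp only [ptPow, Matrix.map_apply, AlgHom.comp_apply, Bialgebra.comulAlgHom_apply, hM.comul,
      map_sum, Algebra.TensorProduct.lift_tmul, Matrix.mul_apply]

end ptPow

end Groth.Agent.Helper7.RepFin
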