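import Groth.Agent.Helper7.RepFinD
import Groth.Agent.Helper7.RepFinE
import Groth.Agent.Helper7.RepFinH

set_option autoImplicit false
universe u v w

namespace Groth.Agent.Helper7.RepFin

open Polynomial
open Groth.Agent.Helper8.Chev

lemma exists_fin_enum {α : Type*} (s : Multiset α) (d : ℕ) (h : Multiset.card s = d) :
    ∃ f : Fin d → α, s = Finset.univ.val.map f := by
  induction s using Quotient.inductionOn with
  | _ l =>
    have hl : l.length = d := by simpa using h
    subst hl
    refine ⟨fun i => l.get i, ?_⟩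
    rw [Fin.univ_val_map, List.ofFn_get]
    rfl

lemma exists_lam {K : Type u} [Field K] [IsAlgClosed K] {n : ℕ} (g : Matrix (Fin n) (Fin n) K) :
    ∃ lam : Fin n → K, g.charpoly = ∏ l, (X - C (lam l)) := by
  have hs := IsAlgClosed.splits g.charpoly
  have hcard : Multiset.card g.charpoly.roots = n := by
    rw [← hs.natDegree_eq_card_roots, Matrix.charpoly_natDegree_eq_dim, Fintype.card_fin]
  obtain ⟨lam, hlam⟩ := exists_fin_enum g.charpoly.roots n hcard
  refine ⟨lam, ?_⟩
  have h1 := hs.eq_prod_roots_of_monic g.charpoly_monic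
  rw [hlam, Multiset.map_map] at h1
  rw [h1]
  rfl

section main
variable {K : Type u} [Field K] [IsAlgClosed K] {B : Type u} [CommRing B] [Bialgebra K B]
  [Algebra.FiniteType K B] [IsReduced B] {n : ℕ}

omit [IsAlgClosed K] [Algebra.FiniteType K B] [IsReduced B] in
lemma algHom_aeval_apply {σ : Type*} (ψ : B →ₐ[K] K) (f : σ → B) (F : MvPolynomial σ K) :
    ψ (MvPolynomial.aeval f F) = MvPolynomial.eval (fun p => ψ (f p)) F := by
  have h : ψ.comp (MvPolynomial.aeval f) = MvPolynomial.aeval (fun p => ψ (f p)) := by
    apply MvPolynomial.algHom_ext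
    intro i
    simp
  have := congrArg (fun g : MvPolynomial σ K →ₐ[K] K => g F) h
  simpa [MvPolynomial.aeval_eq_eval] using this

/-- the trace of any multiplicative matrix is integral over the subalgebra generated by the
traces of the compound matrices of a faithful multiplicative matrix -/
theorem isIntegral_trace (w : Matrix (Fin n) (Fin n) B) (hw : IsMult K w)
    (hgen : Algebra.adjoin K (Set.range fun p : Fin n × Fin n => w p.1 p.2) = ⊤)
    {d : ℕ} (a : Matrix (Fin d) (Fin d) B) (ha : IsMult K a) :
    IsIntegral (Algebra.adjoin K (Set.range fun i : Fin n => (cpd (i + 1) w).trace)) a.trace := by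
  classical
  set f : Fin n × Fin n → B := fun p => w p.1 p.2 with hf
  have hex : ∀ i j, ∃ F : MvPolynomial (Fin n × Fin n) K, MvPolynomial.aeval f F = a i j := by
    intro i j
    have : a i j ∈ Algebra.adjoin K (Set.range f) := by rw [hgen]; trivial
    rw [Algebra.adjoin_range_eq_range_aeval] at this
    exact this
  choose F hF using hex
  set r : ℕ := Finset.univ.sup (fun p : Fin d × Fin d => (F p.1 p.2).totalDegree) with hr
  have hrle : ∀ i j, (F i j).totalDegree ≤ r := fun i j =>
    Finset.le_sup (f := fun p : Fin d × Fin d => (F p.1 p.2).totalDegree) (Finset.mem_univ (i, j))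
  apply isIntegral_of_pointwise (d := d) (r := r)
  intro φ
  set g : Matrix (Fin n) (Fin n) K := w.map φ with hg
  obtain ⟨lam, hlam⟩ := exists_lam g
  refine ⟨lam, ?_, ?_⟩
  · intro i
    have h1 : φ ((cpd (i + 1) w).trace) = ((cpd (i + 1) w).map φ).trace := by
      simp only [Matrix.trace, map_sum, Matrix.diag_apply, Matrix.map_apply]
    have h2 : (cpd ((i : ℕ) + 1) w).map φ = cpd ((i : ℕ) + 1) g := cpd_map _ (φ : B →+* K) w
    rw [h1, h2]
    exact trace_cpd_eq_esymm g lam hlam _ (Nat.succ_le_of_lt i.2)
  · set a' : Matrix (Fin d) (Fin d) K := a.map φ with ha'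
    have hpow : ∀ m i j, (a' ^ m) i j =
        MvPolynomial.eval (fun p => (g ^ m) p.1 p.2) (F i j) := by
      intro m i j
      rw [ha', ← map_ptPow φ ha m, hg, ← map_ptPow φ hw m, Matrix.map_apply, ← hF i j,
        algHom_aeval_apply]
      rfl
    have hsplit := IsAlgClosed.splits a'.charpoly
    have hcard : Multiset.card a'.charpoly.roots = d := by
      rw [← hsplit.natDegree_eq_card_roots, Matrix.charpoly_natDegree_eq_dim, Fintype.card_fin]
    obtain ⟨μ, hμ⟩ := exists_fin_enum a'.charpoly.roots d hcard
    have hmem : ∀ j, μ j ∈ Mon lam r := by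
      intro j
      apply eigen_mem_Mon g a' F r hrle hpow lam hlam
      apply Polynomial.isRoot_of_mem_roots
      rw [hμ]
      exact Multiset.mem_map_of_mem μ (Finset.mem_univ_val j)
    choose α hα1 hα2 using hmem
    refine ⟨fun j i => ⟨α j i, Nat.lt_succ_of_le
      ((Finset.single_le_sum (f := α j) (fun _ _ => Nat.zero_le _) (Finset.mem_univ i)).trans
        (hα1 j))⟩, ?_⟩
    have h1 : φ a.trace = a'.trace := by
      simp only [Matrix.trace, map_sum, Matrix.diag_apply, ha', Matrix.map_apply]
    rw [h1, Matrix.trace_eq_sum_roots_charpoly, hμ]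
    change ∑ j, μ j = _
    exact Finset.sum_congr rfl fun j _ => hα2 j

end main

end Groth.Agent.Helper7.RepFin
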