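import Groth.Agent.Helper7.RepFinI
import Groth.Agent.Helper7.HopfCartier
import Groth.Agent.Helper5.NagataRed
import Groth.Agent.Helper5.N2Field

set_option autoImplicit false
universe u

namespace Groth.Agent.Helper7.RepFin

open Groth.Agent.Helper8.Chev

theorem isNagata_of_finiteType (K : Type u) [Field K] (R : Type u) [CommRing R] [Algebra K R]
    [Algebra.FiniteType K R] : CAlg.IsNagata R := by
  refine ⟨Algebra.FiniteType.isNoetherianRing K R, ?_⟩
  intro p hp
  exact Groth.Agent.Helper5.N2Field.isN2_of_finiteType K (R ⧸ p)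

/-- spans over a smaller subalgebra are contained in spans over a bigger one -/
lemma span_subalgebra_mono {K : Type u} [CommRing K] {B : Type u} [CommRing B] [Algebra K B]
    {S₀ S : Subalgebra K B} (h : S₀ ≤ S) (T : Set B) :
    (Submodule.span S₀ T : Set B) ⊆ Submodule.span S T := by
  intro x hx
  induction hx using Submodule.span_induction with
  | mem x hx => exact Submodule.subset_span hx
  | zero => exact Submodule.zero_mem _
  | add x y _ _ hx hy => exact Submodule.add_mem _ hx hy
  | smul a x _ hx =>
    have : a • x = (⟨a.1, h a.2⟩ : S) • x := rfl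
    rw [this]
    exact Submodule.smul_mem _ _ hx

/-- `R(H)` is a finite `R(G)`-module, in character form -/
theorem main (K : Type u) [Field K] [IsAlgClosed K] [CharZero K]
    (A B : Type u) [CommRing A] [HopfAlgebra K A] [Algebra.FiniteType K A]
    [CommRing B] [HopfAlgebra K B] [Algebra.FiniteType K B]
    (π : A →ₐc[K] B) (hπ : Function.Surjective π) :
    ∃ F : Finset B, (↑F : Set B) ⊆ Set.range (chr K B) ∧
      (↑(Submodule.span K (Set.range (chr K B))) : Set B) ⊆
        ↑(Submodule.span (Algebra.adjoin K (π '' Set.range (chr K A))) (↑F : Set B)) := by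
  classical
  haveI : IsReduced B := Groth.Agent.Helper7.HopfCartier.isReduced K B
  obtain ⟨n, w, hw, hgen⟩ := exists_faithful K A
  set w' : Matrix (Fin n) (Fin n) B := w.map π with hw'def
  have hw' : IsMult K w' := IsMult_map π hw
  have hgen' : Algebra.adjoin K (Set.range fun p : Fin n × Fin n => w' p.1 p.2) = ⊤ := by
    have h1 : (Set.range fun p : Fin n × Fin n => w' p.1 p.2) =
        (π : A →ₐ[K] B) '' (Set.range fun p : Fin n × Fin n => w p.1 p.2) := by
      ext x
      simp [hw'def]
    rw [h1, Algebra.adjoin_image, hgen, Algebra.map_top]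
    exact (AlgHom.range_eq_top _).2 hπ
  set c : Fin n → B := fun i => (cpd (i + 1) w').trace with hc
  set S₀ := Algebra.adjoin K (Set.range c) with hS₀
  set S := Algebra.adjoin K (π '' Set.range (chr K A)) with hS
  have hS₀S : S₀ ≤ S := by
    apply Algebra.adjoin_le
    rintro _ ⟨i, rfl⟩
    apply Algebra.subset_adjoin
    refine ⟨(cpd (i + 1) w).trace, trace_mem_range_chr _ (isMult_cpd hw _), ?_⟩
    have h2 : (cpd ((i : ℕ) + 1) w).map π = cpd ((i : ℕ) + 1) w' :=
      cpd_map _ ((π : A →ₐ[K] B) : A →+* B) w
    simp only [hc, ← h2, Matrix.trace, map_sum, Matrix.diag_apply, Matrix.map_apply]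
  have hint : ∀ x ∈ Set.range (chr K B), IsIntegral S₀ x := by
    intro x hx
    obtain ⟨d, a, ha, rfl⟩ := (mem_range_chr_iff x).1 hx
    exact isIntegral_trace w' hw' hgen' a ha
  haveI hft : Algebra.FiniteType K S₀ := by
    rw [← Subalgebra.fg_iff_finiteType]
    have : Set.range c = ((Finset.univ.image c : Finset B) : Set B) := by simp
    rw [hS₀, this]
    exact Subalgebra.fg_adjoin_finset _
  haveI : IsNoetherianRing S₀ := Algebra.FiniteType.isNoetherianRing K S₀
  haveI : Algebra.FiniteType S₀ B := Algebra.FiniteType.of_restrictScalars_finiteType K S₀ B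
  have hfin : Module.Finite S₀ (integralClosure S₀ B) :=
    Groth.Agent.Helper5.NagataRed.main S₀ (isNagata_of_finiteType K S₀) B
  haveI : IsNoetherian S₀ (integralClosure S₀ B) := isNoetherian_of_isNoetherianRing_of_finite S₀ _
  haveI : IsNoetherian S₀ (Subalgebra.toSubmodule (integralClosure S₀ B)) := ‹_›
  have hle : Submodule.span S₀ (Set.range (chr K B)) ≤
      Subalgebra.toSubmodule (integralClosure S₀ B) := by
    rw [Submodule.span_le]
    intro x hx
    exact hint x hx
  have hfg : (Submodule.span S₀ (Set.range (chr K B))).FG :=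
    isNoetherian_submodule.1 ‹_› _ hle
  obtain ⟨F, hF1, hF2⟩ := (Submodule.fg_span_iff_fg_span_finset_subset _).1 hfg
  refine ⟨F, hF1, ?_⟩
  intro x hx
  have h1 : x ∈ Submodule.span S₀ (Set.range (chr K B)) :=
    Submodule.span_le_restrictScalars K S₀ _ hx
  rw [hF2] at h1
  exact span_subalgebra_mono hS₀S _ h1

end Groth.Agent.Helper7.RepFin
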