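import Mathlib
import Groth.Prelude.Def_HopfRep

set_option autoImplicit false
set_option linter.unusedSectionVars false
universe u v w

namespace Groth.Agent.Helper7.ResLin

open TensorProduct

section Sub

variable {R : Type u} [CommRing R] {A : Type v} [AddCommGroup A] [Module R A] [Coalgebra R A]
  [Module.Flat R A]
variable {V : Type w} [AddCommGroup V] [Module R V] [HopfRep.Comod R A V]

omit [Coalgebra R A] [HopfRep.Comod R A V] [Module.Flat R A] in
theorem rTensor_subtype_injective (W : Submodule R V) (P : Type*) [AddCommGroup P] [Module R P]
    [Module.Flat R P] : Function.Injective (W.subtype.rTensor P) :=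
  Module.Flat.rTensor_preserves_injective_linearMap _ W.injective_subtype

omit [Module.Flat R A] in
theorem coassoc_apply (v : V) :
    (TensorProduct.assoc R V A A) ((HopfRep.Comod.coact (k := R) (A := A)).rTensor A
      (HopfRep.Comod.coact (k := R) (A := A) v)) =
    (CoalgebraStruct.comul (R := R) (A := A)).lTensor V (HopfRep.Comod.coact (k := R) (A := A) v) :=
  LinearMap.congr_fun (HopfRep.Comod.coassoc (k := R) (A := A) (V := V)) v

omit [Module.Flat R A] in
theorem counit_apply (v : V) :
    (CoalgebraStruct.counit (R := R) (A := A)).lTensor V (HopfRep.Comod.coact (k := R) (A := A) v) =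
      v ⊗ₜ[R] (1 : R) :=
  LinearMap.congr_fun (HopfRep.Comod.counit_comp (k := R) (A := A) (V := V)) v

/-- the restricted coaction on a subcomodule -/
noncomputable def subCoact (W : Submodule R V) (hW : HopfRep.IsSubcomod (k := R) (A := A) W) :
    W →ₗ[R] W ⊗[R] A :=
  (LinearEquiv.ofInjective (W.subtype.rTensor A) (rTensor_subtype_injective W A)).symm.toLinearMap ∘ₗ
    LinearMap.codRestrict (LinearMap.range (W.subtype.rTensor A))
      (HopfRep.Comod.coact (k := R) (A := A) ∘ₗ W.subtype) (fun w => hW w w.2)

theorem rTensor_subCoact (W : Submodule R V) (hW : HopfRep.IsSubcomod (k := R) (A := A) W) (w : W) :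
    W.subtype.rTensor A (subCoact W hW w) = HopfRep.Comod.coact (k := R) (A := A) (w : V) := by
  unfold subCoact
  rw [LinearMap.comp_apply]
  have := LinearEquiv.apply_symm_apply
    (LinearEquiv.ofInjective (W.subtype.rTensor A) (rTensor_subtype_injective W A))
    (LinearMap.codRestrict (LinearMap.range (W.subtype.rTensor A))
      (HopfRep.Comod.coact (k := R) (A := A) ∘ₗ W.subtype) (fun w => hW w w.2) w)
  have h2 := congrArg Subtype.val this
  rw [LinearEquiv.ofInjective_apply] at h2
  exact h2

omit [Coalgebra R A] [HopfRep.Comod R A V] [Module.Flat R A] in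
theorem rTensor_assoc_natural (W : Submodule R V) (t : (W ⊗[R] A) ⊗[R] A) :
    W.subtype.rTensor (A ⊗[R] A) ((TensorProduct.assoc R W A A) t) =
      (TensorProduct.assoc R V A A) ((W.subtype.rTensor A).rTensor A t) := by
  induction t using TensorProduct.induction_on with
  | zero => simp
  | add x y hx hy => simp only [map_add, hx, hy]
  | tmul y a =>
    induction y using TensorProduct.induction_on with
    | zero => simp
    | add x y hx hy => simp only [TensorProduct.add_tmul, map_add, hx, hy]
    | tmul w a' => simp

/-- a subcomodule is a comodule (flat coalgebra over a ring) -/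
@[reducible] noncomputable def subComod (W : Submodule R V)
    (hW : HopfRep.IsSubcomod (k := R) (A := A) W) : HopfRep.Comod R A W where
  coact := subCoact W hW
  coassoc := by
    ext w
    apply rTensor_subtype_injective W (A ⊗[R] A)
    simp only [LinearMap.comp_apply, LinearEquiv.coe_coe]
    rw [rTensor_assoc_natural]
    have h1 : ∀ y : W ⊗[R] A, (W.subtype.rTensor A).rTensor A ((subCoact W hW).rTensor A y) =
        (HopfRep.Comod.coact (k := R) (A := A) (V := V)).rTensor A
          (W.subtype.rTensor A y) := by
      intro y
      induction y using TensorProduct.induction_on with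
      | zero => simp
      | add x y hx hy => simp only [map_add, hx, hy]
      | tmul w' a =>
        simp only [LinearMap.rTensor_tmul, rTensor_subCoact, Submodule.subtype_apply]
    rw [h1, rTensor_subCoact, coassoc_apply]
    rw [← LinearMap.comp_apply (W.subtype.rTensor (A ⊗[R] A)), LinearMap.rTensor_comp_lTensor,
      ← LinearMap.lTensor_comp_rTensor, LinearMap.comp_apply, rTensor_subCoact]
  counit_comp := by
    ext w
    apply rTensor_subtype_injective W R
    simp only [LinearMap.comp_apply]
    rw [← LinearMap.comp_apply (W.subtype.rTensor R), LinearMap.rTensor_comp_lTensor,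
      ← LinearMap.lTensor_comp_rTensor, LinearMap.comp_apply, rTensor_subCoact, counit_apply]
    simp

theorem subComod_coact (W : Submodule R V) (hW : HopfRep.IsSubcomod (k := R) (A := A) W) (w : W) :
    W.subtype.rTensor A (@HopfRep.Comod.coact R A _ _ _ _ W _ _ (subComod W hW) w) =
      HopfRep.Comod.coact (k := R) (A := A) (w : V) := rTensor_subCoact W hW w

end Sub

end Groth.Agent.Helper7.ResLin
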