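import Mathlib
import Groth.Prelude.Def_HopfRep
import Groth.Agent.Helper7.ResLinA

set_option autoImplicit false
set_option linter.unusedSectionVars false
universe u v w

namespace Groth.Agent.Helper7.ResLin

open TensorProduct

section Coef

variable {R : Type u} [CommRing R] {A : Type v} [CommRing A] [Bialgebra R A]
variable {E : Type w} [AddCommGroup E] [Module R E] [HopfRep.Comod R A E]

/-- the coefficient map `x ⊗ b ↦ l x • b`, linear in the functional `l`. -/
noncomputable def coef (P : Type*) [AddCommGroup P] [Module R P] :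
    (E →ₗ[R] R) →ₗ[R] (E ⊗[R] P →ₗ[R] P) where
  toFun l := (TensorProduct.lid R P).toLinearMap ∘ₗ l.rTensor P
  map_add' l l' := by
    apply TensorProduct.ext'
    intro x b
    simp
  map_smul' c l := by
    apply TensorProduct.ext'
    intro x b
    simp

omit [HopfRep.Comod R A E] in
@[simp] theorem coef_tmul (P : Type*) [AddCommGroup P] [Module R P] (l : E →ₗ[R] R) (x : E)
    (b : P) : coef (R := R) (E := E) P l (x ⊗ₜ[R] b) = l x • b := by
  simp [coef]

variable {d : ℕ} (e : Fin d → E) (φ : Fin d → (E →ₗ[R] R))
  (hdual : ∀ x : E, ∑ j, φ j x • e j = x)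

include hdual in
omit [HopfRep.Comod R A E] in
theorem expand (P : Type*) [AddCommGroup P] [Module R P] (z : E ⊗[R] P) :
    z = ∑ l, e l ⊗ₜ[R] coef P (φ l) z := by
  induction z using TensorProduct.induction_on with
  | zero => simp
  | tmul x b =>
    simp only [coef_tmul]
    conv_lhs => rw [← hdual x, TensorProduct.sum_tmul]
    refine Finset.sum_congr rfl fun l _ => ?_
    rw [TensorProduct.smul_tmul]
  | add z z' hz hz' =>
    conv_lhs => rw [hz, hz']
    rw [← Finset.sum_add_distrib]
    refine Finset.sum_congr rfl fun l _ => ?_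
    rw [map_add, TensorProduct.tmul_add]

/-- the matrix coefficients. -/
noncomputable def amat (i j : Fin d) : A :=
  coef A (φ i) (HopfRep.Comod.coact (k := R) (A := A) (e j))

include hdual in
theorem coact_e (j : Fin d) :
    HopfRep.Comod.coact (k := R) (A := A) (e j) = ∑ l, e l ⊗ₜ[R] amat (A := A) e φ l j :=
  expand e φ hdual A _

omit [HopfRep.Comod R A E] in
theorem comul_coef (l : E →ₗ[R] R) (z : E ⊗[R] A) :
    CoalgebraStruct.comul (R := R) (coef A l z) =
      coef (A ⊗[R] A) l ((CoalgebraStruct.comul (R := R) (A := A)).lTensor E z) := by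
  induction z using TensorProduct.induction_on with
  | zero => simp
  | tmul x b => simp
  | add z z' hz hz' => simp only [map_add, hz, hz']

omit [HopfRep.Comod R A E] in
theorem coef_assoc (l : E →ₗ[R] R) (w : E ⊗[R] A) (c : A) :
    coef (A ⊗[R] A) l (TensorProduct.assoc R E A A (w ⊗ₜ[R] c)) = coef A l w ⊗ₜ[R] c := by
  induction w using TensorProduct.induction_on with
  | zero => simp
  | tmul x b => simp [TensorProduct.smul_tmul']
  | add z z' hz hz' => simp only [TensorProduct.add_tmul, map_add, hz, hz']

include hdual in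
theorem comul_amat (i j : Fin d) :
    CoalgebraStruct.comul (R := R) (amat (A := A) e φ i j) =
      ∑ l, amat (A := A) e φ i l ⊗ₜ[R] amat (A := A) e φ l j := by
  unfold amat
  rw [comul_coef, ← coassoc_apply]
  conv_lhs => rw [coact_e e φ hdual j]
  rw [map_sum, map_sum, map_sum]
  refine Finset.sum_congr rfl fun l _ => ?_
  rw [LinearMap.rTensor_tmul, coef_assoc]
  rfl

omit [HopfRep.Comod R A E] in
theorem counit_coef (l : E →ₗ[R] R) (z : E ⊗[R] A) :
    CoalgebraStruct.counit (R := R) (coef A l z) =
      coef R l ((CoalgebraStruct.counit (R := R) (A := A)).lTensor E z) := by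
  induction z using TensorProduct.induction_on with
  | zero => simp
  | tmul x b => simp
  | add z z' hz hz' => simp only [map_add, hz, hz']

theorem counit_coef_coact (l : E →ₗ[R] R) (x : E) :
    CoalgebraStruct.counit (R := R) (coef A l (HopfRep.Comod.coact (k := R) (A := A) x)) = l x := by
  rw [counit_coef, counit_apply, coef_tmul, smul_eq_mul, mul_one]

theorem counit_amat (i j : Fin d) :
    CoalgebraStruct.counit (R := R) (amat (A := A) e φ i j) = φ i (e j) :=
  counit_coef_coact _ _

include hdual in
theorem amat_mul_P (i j : Fin d) :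
    ∑ l, φ l (e j) • amat (A := A) e φ i l = amat (A := A) e φ i j := by
  unfold amat
  simp only [← map_smul, ← map_sum]
  rw [hdual (e j)]

include hdual in
theorem P_mul_amat (i j : Fin d) :
    ∑ l, φ i (e l) • amat (A := A) e φ l j = amat (A := A) e φ i j := by
  unfold amat
  have h1 : ∑ l, φ i (e l) • φ l = φ i := by
    apply LinearMap.ext
    intro x
    rw [LinearMap.sum_apply]
    simp only [LinearMap.smul_apply, smul_eq_mul]
    conv_rhs => rw [← hdual x, map_sum]
    refine Finset.sum_congr rfl fun l _ => ?_
    rw [map_smul, smul_eq_mul, mul_comm]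
  conv_rhs => rw [← h1]
  rw [map_sum, LinearMap.sum_apply]
  refine Finset.sum_congr rfl fun l _ => ?_
  rw [map_smul, LinearMap.smul_apply]

include hdual in
omit [HopfRep.Comod R A E] in
theorem P_idem (i j : Fin d) : ∑ l, φ i (e l) * φ l (e j) = φ i (e j) := by
  conv_rhs => rw [← hdual (e j), map_sum]
  refine Finset.sum_congr rfl fun l _ => ?_
  rw [map_smul, smul_eq_mul, mul_comm]

end Coef

end Groth.Agent.Helper7.ResLin
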