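import Mathlib
import Groth.Prelude.Def_HopfRep
import Groth.Agent.Helper7.ResLinB

set_option autoImplicit false
set_option linter.unusedSectionVars false
universe u v w

namespace Groth.Agent.Helper7.ResLin

open TensorProduct

section Mat

variable {R : Type u} [CommRing R] {A : Type v} [CommRing A] [Bialgebra R A]
variable {d : ℕ} (a : Fin d → Fin d → A) (P : Fin d → Fin d → R)

/-- the complementary idempotent -/
def qmat (i j : Fin d) : R := (if i = j then 1 else 0) - P i j

/-- the corrected matrix `a + (1 - P)` -/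
noncomputable def cmat (i j : Fin d) : A := a i j + qmat P i j • (1 : A)

variable (hΔ : ∀ i j, CoalgebraStruct.comul (R := R) (a i j) = ∑ l, a i l ⊗ₜ[R] a l j)
  (hε : ∀ i j, CoalgebraStruct.counit (R := R) (a i j) = P i j)
  (haP : ∀ i j, ∑ l, P l j • a i l = a i j)
  (hPa : ∀ i j, ∑ l, P i l • a l j = a i j)
  (hPP : ∀ i j, ∑ l, P i l * P l j = P i j)

include haP in
theorem a_mul_q (i j : Fin d) : ∑ l, qmat P l j • a i l = 0 := by
  unfold qmat
  simp only [sub_smul, Finset.sum_sub_distrib, haP, ite_smul, one_smul, zero_smul,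
    Finset.sum_ite_eq', Finset.mem_univ, if_true, sub_self]

include hPa in
theorem q_mul_a (i j : Fin d) : ∑ l, qmat P i l • a l j = 0 := by
  unfold qmat
  simp only [sub_smul, Finset.sum_sub_distrib, hPa, ite_smul, one_smul, zero_smul,
    Finset.sum_ite_eq, Finset.mem_univ, if_true, sub_self]

include hPP in
theorem q_mul_q (i j : Fin d) : ∑ l, qmat P i l * qmat P l j = qmat P i j := by
  unfold qmat
  simp only [sub_mul, mul_sub, Finset.sum_sub_distrib, hPP, ite_mul, one_mul, zero_mul,
    mul_ite, mul_one, mul_zero, Finset.sum_ite_eq, Finset.sum_ite_eq', Finset.mem_univ, if_true]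
  ring

include hΔ haP hPa hPP in
theorem comul_cmat (i j : Fin d) :
    CoalgebraStruct.comul (R := R) (cmat a P i j) = ∑ l, cmat a P i l ⊗ₜ[R] cmat a P l j := by
  have h1 : ∑ l, a i l ⊗ₜ[R] (qmat P l j • (1 : A)) = 0 := by
    have : ∀ l, a i l ⊗ₜ[R] (qmat P l j • (1 : A)) = (qmat P l j • a i l) ⊗ₜ[R] (1 : A) := by
      intro l
      rw [TensorProduct.smul_tmul]
    simp only [this]
    rw [← TensorProduct.sum_tmul, a_mul_q a P haP, TensorProduct.zero_tmul]
  have h2 : ∑ l, (qmat P i l • (1 : A)) ⊗ₜ[R] a l j = 0 := by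
    have : ∀ l, (qmat P i l • (1 : A)) ⊗ₜ[R] a l j = (1 : A) ⊗ₜ[R] (qmat P i l • a l j) := by
      intro l
      rw [TensorProduct.smul_tmul]
    simp only [this]
    rw [← TensorProduct.tmul_sum, q_mul_a a P hPa, TensorProduct.tmul_zero]
  have h3 : ∑ l, (qmat P i l • (1 : A)) ⊗ₜ[R] (qmat P l j • (1 : A)) =
      qmat P i j • ((1 : A) ⊗ₜ[R] (1 : A)) := by
    have : ∀ l, (qmat P i l • (1 : A)) ⊗ₜ[R] (qmat P l j • (1 : A)) =
        (qmat P i l * qmat P l j) • ((1 : A) ⊗ₜ[R] (1 : A)) := by
      intro l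
      rw [TensorProduct.smul_tmul_smul]
    simp only [this]
    rw [← Finset.sum_smul, q_mul_q P hPP]
  unfold cmat
  simp only [TensorProduct.add_tmul, TensorProduct.tmul_add, Finset.sum_add_distrib]
  rw [h1, h2, h3, map_add, hΔ, map_smul, Bialgebra.comul_one]
  simp [Algebra.TensorProduct.one_def]

include hε in
theorem counit_cmat (i j : Fin d) :
    CoalgebraStruct.counit (R := R) (cmat a P i j) = if i = j then 1 else 0 := by
  unfold cmat qmat
  rw [map_add, hε, map_smul, Bialgebra.counit_one]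
  simp

end Mat

section Antipode

variable {R : Type u} [CommRing R] {A : Type v} [CommRing A] [HopfAlgebra R A]
variable {d : ℕ} (a : Matrix (Fin d) (Fin d) A)

theorem mul_map_antipode
    (hΔ : ∀ i j, CoalgebraStruct.comul (R := R) (a i j) = ∑ l, a i l ⊗ₜ[R] a l j)
    (hε : ∀ i j, CoalgebraStruct.counit (R := R) (a i j) = if i = j then 1 else 0) :
    a * a.map (HopfAlgebra.antipode R) = 1 := by
  ext i j
  rw [Matrix.mul_apply]
  simp only [Matrix.map_apply]
  have := HopfAlgebra.sum_mul_antipode_eq_algebraMap_counit (R := R) (a := a i j)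
    ⟨Finset.univ, fun l => a i l, fun l => a l j, (hΔ i j).symm⟩
  rw [this, hε, Matrix.one_apply]
  split_ifs <;> simp

theorem exists_det_inv
    (hΔ : ∀ i j, CoalgebraStruct.comul (R := R) (a i j) = ∑ l, a i l ⊗ₜ[R] a l j)
    (hε : ∀ i j, CoalgebraStruct.counit (R := R) (a i j) = if i = j then 1 else 0) :
    (a.map (HopfAlgebra.antipode R)).det * a.det = 1 := by
  rw [mul_comm, ← Matrix.det_mul, mul_map_antipode a hΔ hε, Matrix.det_one]

end Antipode

end Groth.Agent.Helper7.ResLin
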