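import Mathlib
import Groth.Prelude.Def_HopfRep
import Groth.Agent.Helper2.ComodSerre
import Groth.Agent.Helper7.ResLinC

set_option autoImplicit false
set_option linter.unusedSectionVars false
universe u v w

namespace Groth.Agent.Helper7.ResLin

open TensorProduct

section Gen

variable {R : Type u} [CommRing R] {A : Type v} [CommRing A] [Bialgebra R A]
variable {E : Type w} [AddCommGroup E] [Module R E] [HopfRep.Comod R A E]
variable {d : ℕ} (e : Fin d → E) (φ : Fin d → (E →ₗ[R] R)) (hdual : ∀ x : E, ∑ j, φ j x • e j = x)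

include hdual in
theorem hom_e (ψ : E →ₗ[R] A)
    (hψ : ∀ x, CoalgebraStruct.comul (R := R) (ψ x) =
      ψ.rTensor A (HopfRep.Comod.coact (k := R) (A := A) x)) (j : Fin d) :
    ψ (e j) = ∑ l, CoalgebraStruct.counit (R := R) (ψ (e l)) • amat (A := A) e φ l j := by
  have h1 := Coalgebra.rTensor_counit_comul (R := R) (ψ (e j))
  rw [hψ, coact_e e φ hdual j, map_sum, map_sum] at h1
  simp only [LinearMap.rTensor_tmul] at h1
  have h2 := congrArg (TensorProduct.lid R A) h1
  rw [map_sum] at h2
  simpa using h2.symm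

include hdual in
theorem hom_mem_span (ψ : E →ₗ[R] A)
    (hψ : ∀ x, CoalgebraStruct.comul (R := R) (ψ x) =
      ψ.rTensor A (HopfRep.Comod.coact (k := R) (A := A) x)) (x : E) :
    ψ x ∈ Submodule.span R (Set.range fun p : Fin d × Fin d => amat (A := A) e φ p.1 p.2) := by
  rw [← hdual x, map_sum]
  refine Submodule.sum_mem _ fun j _ => ?_
  rw [map_smul]
  refine Submodule.smul_mem _ _ ?_
  rw [hom_e e φ hdual ψ hψ j]
  refine Submodule.sum_mem _ fun l _ => ?_
  refine Submodule.smul_mem _ _ ?_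
  exact Submodule.subset_span ⟨(l, j), rfl⟩

end Gen

section Main

theorem main (R : Type u) [CommRing R] [IsNoetherianRing R]
    (A : Type u) [CommRing A] [HopfAlgebra R A] [Module.Flat R A] [Algebra.FiniteType R A]
    (hRE : ∀ (F : Type u) [AddCommGroup F] [Module R F] [HopfRep.Comod R A F] [Module.Finite R F],
      ∃ (E : Type u) (_ : AddCommGroup E) (_ : Module R E) (_ : HopfRep.Comod R A E) (π : E →ₗ[R] F),
        Module.Finite R E ∧ Module.Projective R E ∧ Function.Surjective π ∧
        HopfRep.Comod.coact (k := R) (A := A) ∘ₗ π = π.rTensor A ∘ₗ HopfRep.Comod.coact (k := R) (A := A) (V := E)) :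
    ∃ (d : ℕ) (a : Matrix (Fin d) (Fin d) A),
      (∀ i j, CoalgebraStruct.comul (R := R) (a i j) = ∑ l, a i l ⊗ₜ[R] a l j) ∧
      (∀ i j, CoalgebraStruct.counit (R := R) (a i j) = if i = j then 1 else 0) ∧
      ∃ u : A, u * a.det = 1 ∧ Algebra.adjoin R (Set.range (fun p : Fin d × Fin d => a p.1 p.2) ∪ {u}) = ⊤ := by
  classical
  obtain ⟨s, hs⟩ := Algebra.FiniteType.out (R := R) (A := A)
  obtain ⟨W, hW, hsW, hWfg⟩ := Groth.Agent.Helper2.ComodSerre.main (R := R) (C := A) (V := A)
    (Submodule.span R (s : Set A)) (Submodule.fg_span s.finite_toSet)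
  letI : HopfRep.Comod R A W := subComod W hW
  haveI : Module.Finite R W := Module.Finite.iff_fg.mpr hWfg
  obtain ⟨E, _, _, _, π, hEfin, hEproj, hπ, hπc⟩ := hRE W
  obtain ⟨d, p, hp⟩ := Module.Finite.exists_fin' R E
  obtain ⟨sec, hsec⟩ := Module.projective_lifting_property p LinearMap.id hp
  let e : Fin d → E := fun j => p (Pi.single j 1)
  let φ : Fin d → (E →ₗ[R] R) := fun j => LinearMap.proj j ∘ₗ sec
  have hdual : ∀ x : E, ∑ j, φ j x • e j = x := by
    intro x
    have h1 : ∑ j, (sec x) j • (Pi.single j (1 : R) : Fin d → R) = sec x := by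
      ext i
      simp [Finset.sum_apply, Pi.single_apply]
    have h2 := LinearMap.congr_fun hsec x
    simp only [LinearMap.comp_apply, LinearMap.id_apply] at h2
    conv_rhs => rw [← h2, ← h1, map_sum]
    refine Finset.sum_congr rfl fun j _ => ?_
    rw [map_smul]
    rfl
  let ψ : E →ₗ[R] A := W.subtype ∘ₗ π
  have hψ : ∀ x, CoalgebraStruct.comul (R := R) (ψ x) =
      ψ.rTensor A (HopfRep.Comod.coact (k := R) (A := A) x) := by
    intro x
    have h1 := subComod_coact W hW (π x)
    have h2 := LinearMap.congr_fun hπc x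
    simp only [LinearMap.comp_apply] at h2
    rw [h2] at h1
    show HopfRep.Comod.coact (k := R) (A := A) ((π x : W) : A) = _
    rw [← h1, LinearMap.rTensor_comp, LinearMap.comp_apply]
  let a₀ : Fin d → Fin d → A := amat (A := A) e φ
  let P : Fin d → Fin d → R := fun i j => φ i (e j)
  let a : Matrix (Fin d) (Fin d) A := Matrix.of (cmat a₀ P)
  have hΔ : ∀ i j, CoalgebraStruct.comul (R := R) (a i j) = ∑ l, a i l ⊗ₜ[R] a l j := by
    intro i j
    exact comul_cmat a₀ P (comul_amat e φ hdual) (amat_mul_P e φ hdual) (P_mul_amat e φ hdual)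
      (P_idem e φ hdual) i j
  have hε : ∀ i j, CoalgebraStruct.counit (R := R) (a i j) = if i = j then 1 else 0 := by
    intro i j
    exact counit_cmat a₀ P (counit_amat e φ) i j
  refine ⟨d, a, hΔ, hε, (a.map (HopfAlgebra.antipode R)).det, exists_det_inv a hΔ hε, ?_⟩
  rw [eq_top_iff, ← hs]
  apply Algebra.adjoin_le
  intro g hg
  have hgW : g ∈ W := hsW (Submodule.subset_span hg)
  obtain ⟨x, hx⟩ := hπ ⟨g, hgW⟩
  have hgx : g = ψ x := by
    show g = ((π x : W) : A)
    rw [hx]
  have hmem := hom_mem_span e φ hdual ψ hψ x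
  rw [← hgx] at hmem
  have hle : Submodule.span R (Set.range fun p : Fin d × Fin d => a₀ p.1 p.2) ≤
      Subalgebra.toSubmodule (Algebra.adjoin R
        (Set.range (fun p : Fin d × Fin d => a p.1 p.2) ∪ {(a.map (HopfAlgebra.antipode R)).det})) := by
    rw [Submodule.span_le]
    rintro _ ⟨⟨i, j⟩, rfl⟩
    show a₀ i j ∈ Algebra.adjoin R _
    have h1 : a₀ i j = a i j - qmat P i j • (1 : A) := by
      show a₀ i j = cmat a₀ P i j - _
      unfold cmat
      ring
    rw [h1]
    refine Subalgebra.sub_mem _ (Algebra.subset_adjoin (Or.inl ⟨(i, j), rfl⟩)) ?_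
    exact Subalgebra.smul_mem _ (Subalgebra.one_mem _) _
  exact hle hmem

end Main

end Groth.Agent.Helper7.ResLin
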