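import Mathlib
import Groth.Agent.Helper9.Reynolds2

set_option autoImplicit false
universe u

namespace Groth.Agent.Helper7.ReyBC

open TensorProduct Groth.Agent.Helper9

section

variable {k : Type u} [Field k] {H : Type u} [CommRing H] [HopfAlgebra k H]
variable {A : Type u} [CommRing A] [Algebra k A]
variable {M : Type u} [AddCommGroup M] [Module k M] [Module A M] [IsScalarTower k A M]
  [HopfRep.Comod k H M]

/-- scalar multiplication by `a` as a `k`-linear map -/
def sm (a : A) : M →ₗ[k] M where
  toFun m := a • m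
  map_add' := smul_add a
  map_smul' c m := smul_comm a c m

omit [HopfRep.Comod k H M] in
lemma sm_rTensor (a : A) (z : M ⊗[k] H) : (sm (k := k) (M := M) a).rTensor H z = a • z := by
  induction z using TensorProduct.induction_on with
  | zero => simp
  | add x y hx hy => rw [map_add, hx, hy, smul_add]
  | tmul m h => rw [LinearMap.rTensor_tmul, TensorProduct.smul_tmul']; rfl

lemma isComodHom_sm
    (hlin : ∀ (a : A) (m : M), HopfRep.Comod.coact (k := k) (A := H) (a • m) =
      a • HopfRep.Comod.coact (k := k) (A := H) m) (a : A) :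
    Hoch.IsComodHom H (sm (k := k) (M := M) a) := by
  apply LinearMap.ext
  intro m
  simp only [LinearMap.comp_apply]
  rw [sm_rTensor]
  exact hlin a m

end

/-- S15115 -/
theorem fixedPts_baseChange (k : Type u) [Field k]
    (H : Type u) [CommRing H] [HopfAlgebra k H] (hred : HopfRep.IsLinearlyReductive k H)
    (A : Type u) [CommRing A] [Algebra k A]
    (M : Type u) [AddCommGroup M] [Module k M] [Module A M] [IsScalarTower k A M] [HopfRep.Comod k H M]
    (hlin : ∀ (a : A) (m : M), HopfRep.Comod.coact (k := k) (A := H) (a • m) = a • HopfRep.Comod.coact (k := k) (A := H) m)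
    (A' : Type u) [CommRing A'] [Algebra k A'] [Algebra A A'] [IsScalarTower k A A']
    (N : Type u) [AddCommGroup N] [Module k N] [Module A N] [Module A' N]
    [IsScalarTower k A N] [IsScalarTower A A' N] [IsScalarTower k A' N] [HopfRep.Comod k H N]
    (φ : M →ₗ[A] N) (hφ : IsBaseChange A' φ)
    (hcomp : ∀ m : M, HopfRep.Comod.coact (k := k) (A := H) (φ m) =
      LinearMap.rTensor H (φ.restrictScalars k) (HopfRep.Comod.coact (k := k) (A := H) m))
    (hlinN : ∀ (a' : A') (n : N), HopfRep.Comod.coact (k := k) (A := H) (a' • n) = a' • HopfRep.Comod.coact (k := k) (A := H) n)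
    (P : Submodule A M) (hP : (P : Set M) = (HopfRep.fixedPts k H M : Set M)) :
    Function.Injective (TensorProduct.lift (((Algebra.lsmul A A N : A' →ₐ[A] Module.End A N).toLinearMap).compl₂ (φ ∘ₗ P.subtype))) ∧
      Set.range (TensorProduct.lift (((Algebra.lsmul A A N : A' →ₐ[A] Module.End A N).toLinearMap).compl₂ (φ ∘ₗ P.subtype))) =
        (HopfRep.fixedPts k H N : Set N) := by
  have hssM : HopfRep.IsSemisimpleComod k H M :=
    semisimple_of_finite (fun V' _ _ _ hf => hred V' hf)
  have hssN : HopfRep.IsSemisimpleComod k H N :=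
    semisimple_of_finite (fun V' _ _ _ hf => hred V' hf)
  obtain ⟨EM, hEM1, hEM2, hEM3⟩ := exists_reynolds hssM
  obtain ⟨EN, hEN1, hEN2, hEN3⟩ := exists_reynolds hssN
  have hPmem : ∀ m : M, m ∈ P ↔ m ∈ HopfRep.fixedPts k H M := fun m => by
    rw [← SetLike.mem_coe, hP, SetLike.mem_coe]
  -- linearity of the Reynolds operators
  have hEMlin : ∀ (a : A) (m : M), EM (a • m) = a • EM m := fun a m =>
    reynolds_comm hssM EM hEM1 hEM2 hEM3 EM hEM1 hEM2 hEM3 (sm a) (isComodHom_sm hlin a) m
  have hENlin : ∀ (a' : A') (n : N), EN (a' • n) = a' • EN n := fun a' n =>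
    reynolds_comm hssN EN hEN1 hEN2 hEN3 EN hEN1 hEN2 hEN3 (sm a') (isComodHom_sm hlinN a') n
  have hφcom : Hoch.IsComodHom H (φ.restrictScalars k) := by
    apply LinearMap.ext
    intro m
    exact hcomp m
  have hENφ : ∀ m : M, EN (φ m) = φ (EM m) := fun m =>
    reynolds_comm hssM EM hEM1 hEM2 hEM3 EN hEN1 hEN2 hEN3 (φ.restrictScalars k) hφcom m
  have hEMmem : ∀ m : M, EM m ∈ P := fun m => (hPmem _).2 ((hEM3 _).1 (hEM2 m))
  -- the retraction onto P
  let r : M →ₗ[A] P :=
    { toFun := fun m => ⟨EM m, hEMmem m⟩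
      map_add' := fun x y => Subtype.ext (map_add EM x y)
      map_smul' := fun a x => Subtype.ext (hEMlin a x) }
  have hr : r ∘ₗ P.subtype = LinearMap.id := by
    apply LinearMap.ext
    intro p
    exact Subtype.ext ((hEM3 _).2 ((hPmem _).1 p.2))
  set Ψ := TensorProduct.lift (((Algebra.lsmul A A N : A' →ₐ[A] Module.End A N).toLinearMap).compl₂
    (φ ∘ₗ P.subtype)) with hΨ
  have hΨt : ∀ (a' : A') (p : P), Ψ (a' ⊗ₜ p) = a' • φ p := fun a' p => by
    rw [hΨ, TensorProduct.lift.tmul]; rfl
  have hΨeq : ∀ x : A' ⊗[A] P, Ψ x = hφ.equiv (P.subtype.lTensor A' x) := by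
    intro x
    induction x using TensorProduct.induction_on with
    | zero => simp
    | add x y hx hy => rw [map_add, hx, hy, map_add, map_add]
    | tmul a' p => rw [hΨt, LinearMap.lTensor_tmul, IsBaseChange.equiv_tmul]; rfl
  have hinjl : Function.Injective (P.subtype.lTensor A') := by
    apply Function.LeftInverse.injective (g := r.lTensor A')
    intro x
    rw [← LinearMap.comp_apply, ← LinearMap.lTensor_comp, hr, LinearMap.lTensor_id,
      LinearMap.id_apply]
  refine ⟨?_, ?_⟩
  · intro x y hxy
    rw [hΨeq, hΨeq] at hxy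
    exact hinjl (hφ.equiv.injective hxy)
  · -- the range
    have hfixN : ∀ (a' : A') (n : N), n ∈ HopfRep.fixedPts k H N →
        a' • n ∈ HopfRep.fixedPts k H N := by
      intro a' n hn
      change HopfRep.Comod.coact (k := k) (A := H) (a' • n) = (a' • n) ⊗ₜ[k] (1 : H)
      have hn' : HopfRep.Comod.coact (k := k) (A := H) n = n ⊗ₜ[k] (1 : H) := hn
      rw [hlinN, hn', TensorProduct.smul_tmul']
    ext n
    constructor
    · rintro ⟨x, rfl⟩
      induction x using TensorProduct.induction_on with
      | zero => rw [map_zero]; exact (HopfRep.fixedPts k H N).zero_mem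
      | add x y hx hy => rw [map_add]; exact (HopfRep.fixedPts k H N).add_mem hx hy
      | tmul a' p =>
        rw [hΨt]
        apply hfixN
        exact map_mem_fixedPts hφcom ((hPmem _).1 p.2)
    · intro hn
      have hn' : EN n = n := (hEN3 n).2 hn
      obtain ⟨x, rfl⟩ := hφ.equiv.surjective n
      have hkey : ∀ x : A' ⊗[A] M, EN (hφ.equiv x) =
          hφ.equiv (P.subtype.lTensor A' (r.lTensor A' x)) := by
        intro x
        induction x using TensorProduct.induction_on with
        | zero => simp
        | add x y hx hy => simp only [map_add, hx, hy]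
        | tmul a' m =>
          rw [IsBaseChange.equiv_tmul, hENlin, hENφ, LinearMap.lTensor_tmul, LinearMap.lTensor_tmul,
            IsBaseChange.equiv_tmul]
          rfl
      refine ⟨r.lTensor A' x, ?_⟩
      rw [hΨeq, ← hkey, hn']

end Groth.Agent.Helper7.ReyBC
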