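import Mathlib

namespace Groth.Agent.Helper7.RisingFac

universe u

variable {A : Type u} [CommRing A]

/-- rising factorial with step `τ` -/
def rf (h τ : A) (n : ℕ) : A := ∏ i ∈ Finset.range n, (h + (i : A) * τ)

theorem rf_succ (h τ : A) (n : ℕ) : rf h τ (n + 1) = rf h τ n * (h + (n : A) * τ) := by
  unfold rf; rw [Finset.prod_range_succ]

/-- coefficient -/
def cf (A : Type u) [CommRing A] (n m s : ℕ) : A :=
  (-1 : A) ^ s * (Nat.factorial s : A) * (Nat.choose n s : A) * (Nat.choose m s : A)

/-- `h_n * (h)_k = (h)_{k+1} + (n - k) τ (h)_k` -/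
theorem mul_rf (h τ : A) (n k : ℕ) :
    (h + (n : A) * τ) * rf h τ k = rf h τ (k + 1) + ((n : A) - (k : A)) * τ * rf h τ k := by
  rw [rf_succ]; ring

theorem key (h τ : A) (m : ℕ) : ∀ n : ℕ, n ≤ m →
    rf h τ n * rf h τ m = ∑ s ∈ Finset.range (n + 1), cf A n m s * τ ^ s * rf h τ (m + n - s) := by
  intro n
  induction n with
  | zero =>
    intro _
    simp [rf, cf]
  | succ n ih =>
    intro hnm
    have ih' := ih (by omega)
    rw [rf_succ, mul_assoc, mul_comm (h + (n : A) * τ), ← mul_assoc, ih', Finset.sum_mul]
    -- each term: cf n m s τ^s rf (m+n-s) * h_n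
    have hterm : ∀ s ∈ Finset.range (n + 1),
        cf A n m s * τ ^ s * rf h τ (m + n - s) * (h + (n : A) * τ) =
        cf A n m s * τ ^ s * rf h τ (m + (n + 1) - s) +
          cf A n m s * ((s : A) - (m : A)) * τ ^ (s + 1) * rf h τ (m + (n + 1) - (s + 1)) := by
      intro s hs
      have hs' := Finset.mem_range.mp hs
      rw [mul_assoc, mul_comm (rf h τ (m + n - s)), mul_rf]
      have e1 : m + n - s + 1 = m + (n + 1) - s := by omega
      have e2 : m + (n + 1) - (s + 1) = m + n - s := by omega
      have e3 : ((m + n - s : ℕ) : A) = (m : A) + (n : A) - (s : A) := by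
        rw [Nat.cast_sub (by omega), Nat.cast_add]
      rw [e1, e2, e3, pow_succ]
      ring
    rw [Finset.sum_congr rfl hterm, Finset.sum_add_distrib]
    -- reindex second sum
    rw [Finset.sum_range_succ' (fun s => cf A (n + 1) m s * τ ^ s * rf h τ (m + (n + 1) - s)) (n + 1)]
    rw [Finset.sum_range_succ' (fun s => cf A n m s * τ ^ s * rf h τ (m + (n + 1) - s)) n]
    have hc0 : cf A (n + 1) m 0 = cf A n m 0 := by simp [cf]
    rw [hc0]
    have hstep : ∀ s ∈ Finset.range (n + 1),
        cf A (n + 1) m (s + 1) * τ ^ (s + 1) * rf h τ (m + (n + 1) - (s + 1)) =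
        (if s < n then cf A n m (s + 1) * τ ^ (s + 1) * rf h τ (m + (n + 1) - (s + 1)) else 0) +
          cf A n m s * ((s : A) - (m : A)) * τ ^ (s + 1) * rf h τ (m + (n + 1) - (s + 1)) := by
      intro s hs
      have hs' := Finset.mem_range.mp hs
      have hcoef : cf A (n + 1) m (s + 1) =
          (if s < n then cf A n m (s + 1) else 0) + cf A n m s * ((s : A) - (m : A)) := by
        have hpas : (Nat.choose (n + 1) (s + 1) : A) = (Nat.choose n s : A) + (Nat.choose n (s + 1) : A) := by
          rw [Nat.choose_succ_succ, Nat.cast_add]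
        have hm : (Nat.choose m (s + 1) : A) * ((s : A) + 1) = (Nat.choose m s : A) * ((m : A) - (s : A)) := by
          have := Nat.choose_succ_right_eq m s
          have hsm : s ≤ m := by omega
          have h2 : ((Nat.choose m (s + 1) * (s + 1) : ℕ) : A) = ((Nat.choose m s * (m - s) : ℕ) : A) := by
            rw [this]
          push_cast [Nat.cast_sub hsm] at h2
          exact h2
        have hfac : (Nat.factorial (s + 1) : A) = ((s : A) + 1) * (Nat.factorial s : A) := by
          rw [Nat.factorial_succ]; push_cast; ring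
        by_cases hsn : s < n
        · rw [if_pos hsn]
          simp only [cf]
          rw [hpas, hfac, pow_succ]
          have : (-1 : A) ^ s * -1 * (((s : A) + 1) * (Nat.factorial s : A)) *
              ((Nat.choose n s : A) + (Nat.choose n (s + 1) : A)) * (Nat.choose m (s + 1) : A) =
              (-1 : A) ^ s * -1 * (Nat.factorial s : A) *
              ((Nat.choose n s : A) + (Nat.choose n (s + 1) : A)) *
              ((Nat.choose m (s + 1) : A) * ((s : A) + 1)) := by ring
          rw [this, hm]
          have hfac2 : (Nat.factorial (s + 1) : A) = ((s : A) + 1) * (Nat.factorial s : A) := hfac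
          have : (-1 : A) ^ s * -1 * (((s : A) + 1) * (Nat.factorial s : A)) *
              (Nat.choose n (s + 1) : A) * (Nat.choose m (s + 1) : A) =
              (-1 : A) ^ s * -1 * (Nat.factorial s : A) * (Nat.choose n (s + 1) : A) *
              ((Nat.choose m (s + 1) : A) * ((s : A) + 1)) := by ring
          rw [this, hm]
          ring
        · rw [if_neg hsn]
          have hsn' : s = n := by omega
          subst hsn'
          simp only [cf]
          rw [hpas, hfac, pow_succ, Nat.choose_succ_self, Nat.cast_zero, add_zero, zero_add]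
          have : (-1 : A) ^ s * -1 * (((s : A) + 1) * (Nat.factorial s : A)) *
              (Nat.choose s s : A) * (Nat.choose m (s + 1) : A) =
              (-1 : A) ^ s * -1 * (Nat.factorial s : A) * (Nat.choose s s : A) *
              ((Nat.choose m (s + 1) : A) * ((s : A) + 1)) := by ring
          rw [this, hm]
          ring
      rw [hcoef]
      split_ifs <;> ring
    rw [Finset.sum_congr rfl hstep, Finset.sum_add_distrib]
    have hsplit : ∑ s ∈ Finset.range (n + 1),
        (if s < n then cf A n m (s + 1) * τ ^ (s + 1) * rf h τ (m + (n + 1) - (s + 1)) else 0) =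
        ∑ s ∈ Finset.range n, cf A n m (s + 1) * τ ^ (s + 1) * rf h τ (m + (n + 1) - (s + 1)) := by
      rw [Finset.sum_range_succ, if_neg (lt_irrefl n), add_zero]
      refine Finset.sum_congr rfl fun s hs => ?_
      rw [if_pos (Finset.mem_range.mp hs)]
    rw [hsplit]
    ring

theorem result (h τ : A) (n m : ℕ) (hnm : n ≤ m) :
    (∏ i ∈ Finset.range n, (h + (i : A) * τ) ^ 2) * ∏ i ∈ Finset.Ico n m, (h + (i : A) * τ) =
      ∑ s ∈ Finset.range (n + 1), (-1 : A) ^ s * (Nat.factorial s : A) * (Nat.choose n s : A) *
        (Nat.choose m s : A) * τ ^ s * ∏ i ∈ Finset.range (m + n - s), (h + (i : A) * τ) := by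
  have h1 : (∏ i ∈ Finset.range n, (h + (i : A) * τ) ^ 2) * ∏ i ∈ Finset.Ico n m, (h + (i : A) * τ) =
      rf h τ n * rf h τ m := by
    unfold rf
    rw [Finset.prod_pow, pow_two, mul_assoc, Finset.prod_range_mul_prod_Ico _ hnm]
  rw [h1, key h τ m n hnm]
  rfl

end Groth.Agent.Helper7.RisingFac
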