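import Mathlib
import Groth.Prelude.Def_RootCh2

set_option autoImplicit false
set_option linter.unusedSectionVars false
universe u v w x

namespace Groth.Agent.Helper7.RC

open RootPairing RootCh Module
open scoped Classical

noncomputable section

section Basic

variable {ι : Type u} {R : Type v} {M : Type w} {N : Type x}
variable [Field R] [AddCommGroup M] [Module R M] [AddCommGroup N] [Module R N]
variable {P : RootPairing ι R M N} [P.IsRootSystem]

lemma coroot'_fundWeight (b : P.Base) (i j : b.support) :
    P.coroot' j (fundWeight b i) = if j = i then 1 else 0 := by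
  by_cases h : j = i
  · subst h
    rw [if_pos rfl, coroot'_fundWeight_self]
  · rw [if_neg h, coroot'_fundWeight_of_ne b i j h]

lemma root'_fundCoweight (b : P.Base) (i j : b.support) :
    P.root' j (fundCoweight b i) = if j = i then 1 else 0 :=
  coroot'_fundWeight (P := P.flip) b.flip i j

/-- two vectors of `M` pairing equally with the simple coroots are equal -/
lemma ext_coroot (b : P.Base) {ξ ξ' : M}
    (h : ∀ j : b.support, P.coroot' j ξ = P.coroot' j ξ') : ξ = ξ' := by
  apply P.toPerfPair.injective
  apply b.toCoweightBasis.ext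
  intro j
  rw [Base.toCoweightBasis_apply]
  exact h j

/-- two vectors of `N` pairing equally with the simple roots are equal -/
lemma ext_root (b : P.Base) {y y' : N}
    (h : ∀ j : b.support, P.root' j y = P.root' j y') : y = y' :=
  ext_coroot (P := P.flip) b.flip h

lemma eq_sum_fundWeight (b : P.Base) (ξ : M) :
    ξ = ∑ j : b.support, P.coroot' j ξ • fundWeight b j := by
  classical
  apply ext_coroot b
  intro i
  rw [map_sum]
  simp only [map_smul, coroot'_fundWeight, smul_eq_mul, mul_ite, mul_one, mul_zero]
  rw [Finset.sum_ite_eq]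
  simp

lemma eq_sum_fundCoweight (b : P.Base) (y : N) :
    y = ∑ j : b.support, P.root' j y • fundCoweight b j :=
  eq_sum_fundWeight (P := P.flip) b.flip y

/-- expansion of a vector of `M` in simple roots, with coefficients the pairings with the
fundamental coweights -/
lemma eq_sum_root (b : P.Base) (ξ : M) :
    ξ = ∑ j : b.support, P.toLinearMap ξ (fundCoweight b j) • P.root j := by
  classical
  have h : ∀ ξ : M, (LinearMap.id : M →ₗ[R] M) ξ =
      (∑ j : b.support, (P.toLinearMap.flip (fundCoweight b j)).smulRight (P.root j)) ξ := by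
    intro ξ
    congr 1
    apply b.toWeightBasis.ext
    intro i
    rw [Base.toWeightBasis_apply, LinearMap.id_apply, LinearMap.sum_apply]
    simp only [LinearMap.smulRight_apply, LinearMap.flip_apply]
    have : ∀ j : b.support, P.toLinearMap (P.root i) (fundCoweight b j) =
        if i = j then 1 else 0 := fun j => root'_fundCoweight b j i
    simp only [this, ite_smul, one_smul, zero_smul]
    rw [Finset.sum_ite_eq]
    simp
  have := h ξ
  rw [LinearMap.id_apply, LinearMap.sum_apply] at this
  simpa using this

lemma eq_sum_coroot (b : P.Base) (y : N) :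
    y = ∑ j : b.support, P.toLinearMap (fundWeight b j) y • P.coroot j :=
  eq_sum_root (P := P.flip) b.flip y

end Basic

section Ordered

variable {ι : Type u} {R : Type v} {M : Type w} {N : Type x}
variable [Field R] [LinearOrder R] [IsStrictOrderedRing R]
variable [AddCommGroup M] [Module R M] [AddCommGroup N] [Module R N] [Finite ι]
variable {P : RootPairing ι R M N} [P.IsRootSystem]

/-- the canonical invariant form is positive on roots -/
lemma rootForm_root_pos [Fintype ι] (k : ι) : 0 < P.RootForm (P.root k) (P.root k) := by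
  apply P.rootForm_pos_of_ne_zero _ (P.ne_zero k)
  rw [RootPairing.rootSpan, IsRootSystem.span_root_eq_top]
  trivial

/-- pairing with a coroot in terms of the invariant form -/
lemma rootForm_mul_coroot' [Fintype ι] (k : ι) (ξ : M) :
    P.RootForm (P.root k) (P.root k) * P.coroot' k ξ = 2 * P.RootForm (P.root k) ξ := by
  have h := congrArg (P.toLinearMap ξ) (P.rootForm_self_smul_coroot k)
  rw [map_smul, map_nsmul, P.toLinearMap_apply_apply_Polarization] at h
  simpa [two_mul] using h

/-- coordinates of `x ∈ closure (root '' s)` are nonnegative -/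
lemma coef_nonneg_of_mem_closure (b : P.Base) {x : M}
    (hx : x ∈ AddSubmonoid.closure (P.root '' (b.support : Set ι))) (j : b.support) :
    0 ≤ P.toLinearMap x (fundCoweight b j) := by
  induction hx using AddSubmonoid.closure_induction with
  | mem x hx =>
    obtain ⟨i, hi, rfl⟩ := hx
    have := root'_fundCoweight b j ⟨i, hi⟩
    change P.toLinearMap (P.root i) (fundCoweight b j) = _ at this
    rw [this]
    split_ifs <;> simp
  | zero => simp
  | add x y _ _ hx hy =>
    rw [map_add, LinearMap.add_apply]
    exact add_nonneg hx hy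

/-- the coordinates of a root in the simple roots are integers, all of the same sign, and
the sign is that of the height -/
lemma exists_int_coef (b : P.Base) (k : ι) :
    ∃ f : b.support → ℤ,
      (∀ j, P.toLinearMap (P.root k) (fundCoweight b j) = (f j : R)) ∧
      ((b.IsPos k ∧ ∀ j, 0 ≤ f j) ∨ (¬ b.IsPos k ∧ ∀ j, f j ≤ 0)) := by
  obtain ⟨f, hf₀, hf₁, hf₂⟩ := b.exists_root_eq_sum_int k
  refine ⟨fun j => f j, ?_, ?_⟩
  · intro j
    have h1 : P.toLinearMap (P.root k) (fundCoweight b j) =
        ∑ i ∈ b.support, (f i : R) * P.toLinearMap (P.root i) (fundCoweight b j) := by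
      conv_lhs => rw [hf₂]
      rw [map_sum, LinearMap.sum_apply]
      refine Finset.sum_congr rfl fun i _ => ?_
      rw [map_zsmul, LinearMap.smul_apply, zsmul_eq_mul]
    rw [h1, Finset.sum_eq_single (j : ι)]
    · have := root'_fundCoweight b j j
      change P.toLinearMap (P.root j) (fundCoweight b j) = _ at this
      rw [this, if_pos rfl, mul_one]
    · intro i hi hij
      have := root'_fundCoweight b j ⟨i, hi⟩
      change P.toLinearMap (P.root i) (fundCoweight b j) = _ at this
      rw [this, if_neg (fun h => hij (congrArg Subtype.val h)), mul_zero]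
    · intro h
      exact absurd j.2 h
  · rw [Base.isPos_iff, Base.height_eq_sum hf₂]
    rcases hf₁ with h | h
    · left
      refine ⟨?_, fun j => h.le j⟩
      obtain ⟨hle, i, hi⟩ := Pi.lt_def.1 h
      have hi' : i ∈ b.support := hf₀ (by simpa using hi.ne')
      exact Finset.sum_pos' (fun j _ => hle j) ⟨i, hi', hi⟩
    · right
      refine ⟨?_, fun j => h.le j⟩
      obtain ⟨hle, i, hi⟩ := Pi.lt_def.1 h
      have hi' : i ∈ b.support := hf₀ (by simpa using hi.ne)
      have : ∑ j ∈ b.support, f j < 0 := Finset.sum_neg' (fun j _ => hle j) ⟨i, hi', hi⟩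
      omega

lemma coef_nonneg_of_isPos (b : P.Base) {k : ι} (hk : b.IsPos k) (j : b.support) :
    0 ≤ P.toLinearMap (P.root k) (fundCoweight b j) := by
  obtain ⟨f, hf, h | h⟩ := exists_int_coef b k
  · rw [hf]
    exact_mod_cast h.2 j
  · exact absurd hk h.1

lemma coef_nonpos_of_not_isPos (b : P.Base) {k : ι} (hk : ¬ b.IsPos k) (j : b.support) :
    P.toLinearMap (P.root k) (fundCoweight b j) ≤ 0 := by
  obtain ⟨f, hf, h | h⟩ := exists_int_coef b k
  · exact absurd h.1 hk
  · rw [hf]
    exact_mod_cast h.2 j

/-- the coordinates of a coroot in simple coroots are positive multiples of those of the root -/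
lemma rootForm_mul_cocoef [Fintype ι] (b : P.Base) (k : ι) (j : b.support) :
    P.RootForm (P.root k) (P.root k) * P.coroot' k (fundWeight b j) =
      P.toLinearMap (P.root k) (fundCoweight b j) * P.RootForm (P.root j) (P.root j) := by
  rw [rootForm_mul_coroot']
  conv_lhs => rw [eq_sum_root b (P.root k)]
  rw [map_sum, LinearMap.sum_apply, Finset.mul_sum, Finset.sum_eq_single j]
  · rw [map_smul, LinearMap.smul_apply, smul_eq_mul, mul_left_comm, ← rootForm_mul_coroot',
      coroot'_fundWeight, if_pos rfl, mul_one]
  · intro i _ hij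
    rw [map_smul, LinearMap.smul_apply, smul_eq_mul, mul_left_comm, ← rootForm_mul_coroot',
      coroot'_fundWeight, if_neg hij, mul_zero, mul_zero]
  · intro h
    exact absurd (Finset.mem_univ j) h

lemma cocoef_nonneg_of_isPos (b : P.Base) {k : ι} (hk : b.IsPos k) (j : b.support) :
    0 ≤ P.coroot' k (fundWeight b j) := by
  have : Fintype ι := Fintype.ofFinite ι
  have h := rootForm_mul_cocoef b k j
  have h1 := rootForm_root_pos (P := P) k
  have h2 := rootForm_root_pos (P := P) (j : ι)
  have h3 := coef_nonneg_of_isPos b hk j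
  by_contra hneg
  rw [not_le] at hneg
  have : P.RootForm (P.root k) (P.root k) * P.coroot' k (fundWeight b j) < 0 :=
    mul_neg_of_pos_of_neg h1 hneg
  rw [h] at this
  exact absurd (mul_nonneg h3 h2.le) (not_le.2 this)

lemma cocoef_nonpos_of_not_isPos (b : P.Base) {k : ι} (hk : ¬ b.IsPos k) (j : b.support) :
    P.coroot' k (fundWeight b j) ≤ 0 := by
  have : Fintype ι := Fintype.ofFinite ι
  have h := rootForm_mul_cocoef b k j
  have h1 := rootForm_root_pos (P := P) k
  have h2 := rootForm_root_pos (P := P) (j : ι)
  have h3 := coef_nonpos_of_not_isPos b hk j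
  by_contra hneg
  rw [not_le] at hneg
  have : 0 < P.RootForm (P.root k) (P.root k) * P.coroot' k (fundWeight b j) :=
    mul_pos h1 hneg
  rw [h] at this
  exact absurd (mul_nonpos_of_nonpos_of_nonneg h3 h2.le) (not_le.2 this)

lemma cocoef_eq_zero_iff (b : P.Base) (k : ι) (j : b.support) :
    P.coroot' k (fundWeight b j) = 0 ↔ P.toLinearMap (P.root k) (fundCoweight b j) = 0 := by
  have : Fintype ι := Fintype.ofFinite ι
  have h := rootForm_mul_cocoef b k j
  have h1 := (rootForm_root_pos (P := P) k).ne'
  have h2 := (rootForm_root_pos (P := P) (j : ι)).ne'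
  constructor
  · intro h0
    rw [h0, mul_zero] at h
    rcases mul_eq_zero.1 h.symm with h' | h'
    · exact h'
    · exact absurd h' h2
  · intro h0
    rw [h0, zero_mul] at h
    rcases mul_eq_zero.1 h with h' | h'
    · exact absurd h' h1
    · exact h'

lemma coroot'_eq_sum (b : P.Base) (k : ι) (ξ : M) :
    P.coroot' k ξ = ∑ j : b.support, P.coroot' j ξ * P.coroot' k (fundWeight b j) := by
  conv_lhs => rw [eq_sum_fundWeight b ξ]
  rw [map_sum]
  refine Finset.sum_congr rfl fun j _ => ?_
  rw [map_smul, smul_eq_mul]

lemma coroot'_nonneg_of_isPos {b : P.Base} {ξ : M} (hξ : ξ ∈ closedChamber b) {k : ι}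
    (hk : b.IsPos k) : 0 ≤ P.coroot' k ξ := by
  rw [coroot'_eq_sum b k ξ]
  exact Finset.sum_nonneg fun j _ => mul_nonneg (hξ j j.2) (cocoef_nonneg_of_isPos b hk j)

lemma coroot'_nonpos_of_not_isPos {b : P.Base} {ξ : M} (hξ : ξ ∈ closedChamber b) {k : ι}
    (hk : ¬ b.IsPos k) : P.coroot' k ξ ≤ 0 := by
  rw [coroot'_eq_sum b k ξ]
  exact Finset.sum_nonpos fun j _ =>
    mul_nonpos_of_nonneg_of_nonpos (hξ j j.2) (cocoef_nonpos_of_not_isPos b hk j)

lemma coroot'_eq_zero_iff {b : P.Base} {ξ : M} (hξ : ξ ∈ closedChamber b) (k : ι) :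
    P.coroot' k ξ = 0 ↔
      ∀ j : b.support, P.coroot' j ξ = 0 ∨ P.coroot' k (fundWeight b j) = 0 := by
  rw [coroot'_eq_sum b k ξ]
  by_cases hk : b.IsPos k
  · rw [Finset.sum_eq_zero_iff_of_nonneg
      (fun (j : b.support) _ => mul_nonneg (hξ j j.2) (cocoef_nonneg_of_isPos b hk j))]
    simp only [Finset.mem_univ, true_implies, mul_eq_zero]
  · rw [Finset.sum_eq_zero_iff_of_nonpos
      (fun (j : b.support) _ =>
        mul_nonpos_of_nonneg_of_nonpos (hξ j j.2) (cocoef_nonpos_of_not_isPos b hk j))]
    simp only [Finset.mem_univ, true_implies, mul_eq_zero]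

end Ordered

end

end Groth.Agent.Helper7.RC
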