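import Mathlib
import Groth.Agent.Helper7.RootA

set_option autoImplicit false
set_option linter.unusedSectionVars false
universe u v w x

namespace Groth.Agent.Helper7.RC

open RootPairing RootCh Module
open scoped Classical

noncomputable section

section Refl

variable {ι : Type u} {R : Type v} {M : Type w} {N : Type x}
variable [Field R] [LinearOrder R] [IsStrictOrderedRing R]
variable [AddCommGroup M] [Module R M] [AddCommGroup N] [Module R N] [Finite ι]
variable {P : RootPairing ι R M N} [P.IsRootSystem] [P.IsCrystallographic] [P.IsReduced]

/-- membership of a root in the positive cone of a base -/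
lemma isPos_iff_mem_closure (b : P.Base) (k : ι) :
    b.IsPos k ↔ P.root k ∈ AddSubmonoid.closure (P.root '' (b.support : Set ι)) := by
  constructor
  · intro hk
    rcases b.root_mem_or_neg_mem k with h | h
    · exact h
    · exfalso
      have h1 : ∀ j : b.support, P.toLinearMap (P.root k) (fundCoweight b j) = 0 := by
        intro j
        have h2 := coef_nonneg_of_mem_closure b h j
        rw [map_neg, LinearMap.neg_apply] at h2
        exact le_antisymm (by linarith) (coef_nonneg_of_isPos b hk j)
      have h3 := eq_sum_root b (P.root k)
      simp only [h1, zero_smul, Finset.sum_const_zero] at h3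
      exact P.ne_zero k h3
  · intro h
    by_contra hk
    have h1 : ∀ j : b.support, P.toLinearMap (P.root k) (fundCoweight b j) = 0 := fun j =>
      le_antisymm (coef_nonpos_of_not_isPos b hk j) (coef_nonneg_of_mem_closure b h j)
    have h3 := eq_sum_root b (P.root k)
    simp only [h1, zero_smul, Finset.sum_const_zero] at h3
    exact P.ne_zero k h3

private lemma refl_closure' (b : P.Base) (i : ι) (x : M) :
    x ∈ AddSubmonoid.closure (P.root '' (P.reflectionPerm i '' (b.support : Set ι))) ↔
      P.reflection i x ∈ AddSubmonoid.closure (P.root '' (b.support : Set ι)) := by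
  have himg : P.root '' (P.reflectionPerm i '' (b.support : Set ι)) =
      (P.reflection i : M →+ M) '' (P.root '' (b.support : Set ι)) := by
    ext x
    constructor
    · rintro ⟨_, ⟨j, hj, rfl⟩, rfl⟩
      exact ⟨P.root j, ⟨j, hj, rfl⟩, (P.root_reflectionPerm i j).symm⟩
    · rintro ⟨_, ⟨j, hj, rfl⟩, rfl⟩
      exact ⟨_, ⟨j, hj, rfl⟩, P.root_reflectionPerm i j⟩
  rw [himg, ← AddMonoidHom.map_mclosure, AddSubmonoid.mem_map]
  constructor
  · rintro ⟨y, hy, hyk⟩
    have : (P.reflection i) x = y := by
      rw [← hyk]
      exact (P.reflection_same i y)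
    rw [this]
    exact hy
  · intro h
    exact ⟨_, h, P.reflection_same i _⟩

private lemma refl_closure (b : P.Base) (i k : ι) :
    P.root k ∈ AddSubmonoid.closure (P.root '' (P.reflectionPerm i '' (b.support : Set ι))) ↔
      P.root (P.reflectionPerm i k) ∈ AddSubmonoid.closure (P.root '' (b.support : Set ι)) := by
  rw [refl_closure', P.root_reflectionPerm]

/-- the base obtained from `b` by reflecting in the root `i` -/
def reflBase (b : P.Base) (i : ι) : P.Base :=
  Base.mk' P (P.reflectionPerm i '' (b.support : Set ι))
    (by
      apply LinearIndepOn.image_of_comp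
      have h1 : (P.root ∘ P.reflectionPerm i : ι → M) = (P.reflection i : M →ₗ[R] M) ∘ P.root := by
        funext j
        simp
      rw [h1]
      exact b.linearIndepOn_root.map_injOn _ (P.reflection i).injective.injOn)
    (by
      intro k
      rw [refl_closure, refl_closure', map_neg, ← P.root_reflectionPerm]
      exact b.root_mem_or_neg_mem _)

lemma coe_reflBase_support (b : P.Base) (i : ι) :
    ((reflBase b i).support : Set ι) = P.reflectionPerm i '' (b.support : Set ι) := by
  simp [reflBase, Base.mk']

lemma mem_reflBase_support (b : P.Base) (i k : ι) :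
    k ∈ (reflBase b i).support ↔ P.reflectionPerm i k ∈ b.support := by
  rw [← Finset.mem_coe, coe_reflBase_support]
  constructor
  · rintro ⟨j, hj, rfl⟩
    rw [P.reflectionPerm_self]
    exact hj
  · intro h
    exact ⟨_, h, P.reflectionPerm_self i k⟩

lemma isPos_reflBase (b : P.Base) (i k : ι) :
    (reflBase b i).IsPos k ↔ b.IsPos (P.reflectionPerm i k) := by
  rw [isPos_iff_mem_closure, isPos_iff_mem_closure, coe_reflBase_support, refl_closure]

lemma root_neg (i : ι) : P.root (P.reflectionPerm i i) = -P.root i := by
  rw [P.root_reflectionPerm, P.reflection_apply_self]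

lemma coroot_neg (i : ι) : P.coroot (P.reflectionPerm i i) = -P.coroot i := by
  rw [P.coroot_reflectionPerm, P.coreflection_apply_self]

lemma isPos_neg_iff (b : P.Base) (i : ι) : b.IsPos (P.reflectionPerm i i) ↔ ¬ b.IsPos i :=
  Base.IsPos.neg_iff_not b i

/-- positive roots of the base reflected in a simple root -/
lemma isPos_reflBase_of_mem (b : P.Base) {i : ι} (hi : i ∈ b.support) (k : ι) :
    (reflBase b i).IsPos k ↔ (b.IsPos k ∧ k ≠ i) ∨ k = P.reflectionPerm i i := by
  rw [isPos_reflBase]
  constructor
  · intro h
    by_cases hk : k = P.reflectionPerm i i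
    · exact Or.inr hk
    · left
      have hne : P.reflectionPerm i k ≠ i := by
        intro h'
        apply hk
        have h'' := congrArg (P.reflectionPerm i) h'
        rw [P.reflectionPerm_self] at h''
        exact h''
      have := h.reflectionPerm hi hne
      rw [P.reflectionPerm_self] at this
      refine ⟨this, ?_⟩
      rintro rfl
      rw [isPos_neg_iff] at h
      exact h (Base.isPos_of_mem_support hi)
  · rintro (⟨hk, hne⟩ | rfl)
    · exact hk.reflectionPerm hi hne
    · rw [P.reflectionPerm_self]
      exact Base.isPos_of_mem_support hi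

/-- every vector lies in the closed chamber of some base -/
theorem exists_mem_closedChamber (ξ : M) : ∃ b : P.Base, ξ ∈ closedChamber b := by
  have key : ∀ (n : ℕ) (b : P.Base),
      {k : ι | b.IsPos k ∧ P.coroot' k ξ < 0}.ncard = n → ∃ b' : P.Base, ξ ∈ closedChamber b' := by
    intro n
    induction n using Nat.strong_induction_on with
    | _ n ih =>
      intro b hn
      by_cases hξ : ξ ∈ closedChamber b
      · exact ⟨b, hξ⟩
      · simp only [closedChamber, Set.mem_ofPred_eq, not_forall, not_le] at hξ
        obtain ⟨i, hi, hneg⟩ := hξ
        refine ih _ ?_ (reflBase b i) rfl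
        rw [← hn]
        apply Set.ncard_lt_ncard _ (Set.toFinite _)
        refine ⟨?_, ?_⟩
        · rintro k ⟨hk, hkneg⟩
          rw [isPos_reflBase_of_mem b hi] at hk
          rcases hk with ⟨hk, -⟩ | rfl
          · exact ⟨hk, hkneg⟩
          · exfalso
            change P.toLinearMap ξ (P.coroot (P.reflectionPerm i i)) < 0 at hkneg
            rw [coroot_neg, map_neg] at hkneg
            change P.toLinearMap ξ (P.coroot i) < 0 at hneg
            linarith
        · intro hsub
          have hmem : i ∈ {k : ι | b.IsPos k ∧ P.coroot' k ξ < 0} :=
            ⟨Base.isPos_of_mem_support hi, hneg⟩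
          have := hsub hmem
          rw [Set.mem_ofPred_eq, isPos_reflBase_of_mem b hi] at this
          rcases this.1 with ⟨-, h⟩ | h
          · exact h rfl
          · have h2 : P.root i = -P.root i := by
              conv_lhs => rw [h]
              exact root_neg i
            have h3 : (2 : R) • P.root i = 0 := by
              rw [two_smul]
              nth_rewrite 1 [h2]
              simp
            rcases smul_eq_zero.1 h3 with h4 | h4
            · exact two_ne_zero h4
            · exact P.ne_zero i h4
  obtain ⟨b⟩ := P.nonempty_base
  exact key _ b rfl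

end Refl

end

end Groth.Agent.Helper7.RC
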