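import Mathlib
import Groth.Agent.Helper7.RootB

set_option autoImplicit false
set_option linter.unusedSectionVars false
universe u v w x

namespace Groth.Agent.Helper7.RC

open RootPairing RootCh Module
open scoped Classical

noncomputable section

section Corners

variable {ι : Type u} {R : Type v} {M : Type w} {N : Type x}
variable [Field R] [LinearOrder R] [IsStrictOrderedRing R]
variable [AddCommGroup M] [Module R M] [AddCommGroup N] [Module R N] [Finite ι]
variable {P : RootPairing ι R M N} [P.IsRootSystem] [P.IsCrystallographic] [P.IsReduced]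

lemma fundCoweight_flip (b : P.Base) (i : b.support) :
    fundCoweight (P := P.flip) b.flip i = fundWeight b i := rfl

/-- the coordinates of a coroot in the simple coroots are integers -/
lemma exists_int_cocoef (b : P.Base) (k : ι) :
    ∃ f : b.support → ℤ, ∀ j, P.coroot' k (fundWeight b j) = (f j : R) := by
  obtain ⟨f, hf, -⟩ := exists_int_coef (P := P.flip) b.flip k
  exact ⟨f, hf⟩

lemma fundWeight_mem_closedChamber (b : P.Base) (i : b.support) :
    fundWeight b i ∈ closedChamber b := by
  intro j hj
  have := coroot'_fundWeight b i ⟨j, hj⟩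
  change P.coroot' j (fundWeight b i) = _ at this
  rw [this]
  split_ifs <;> simp

/-- a fundamental weight lying in the closed chamber of `b` is a fundamental weight of `b` -/
theorem fundWeight_of_mem_closedChamber (b b' : P.Base) (i' : b'.support)
    (h : fundWeight b' i' ∈ closedChamber b) :
    ∃ j : b.support, fundWeight b j = fundWeight b' i' := by
  set ω := fundWeight b' i' with hω
  have hc : ∀ j : b.support, 0 ≤ P.coroot' j ω := fun j => h j j.2
  -- pairing with the simple coroots of `b'`
  have hb : ∀ l : b'.support, l ≠ i' → ∀ j : b.support,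
      P.coroot' j ω = 0 ∨ P.coroot' l (fundWeight b j) = 0 := by
    intro l hl
    have h0 : P.coroot' l ω = 0 := by
      have := coroot'_fundWeight b' i' l
      rw [if_neg hl] at this
      exact this
    exact (coroot'_eq_zero_iff h l).1 h0
  -- at most one positive coordinate
  have huniq : ∀ j₁ j₂ : b.support, 0 < P.coroot' j₁ ω → 0 < P.coroot' j₂ ω → j₁ = j₂ := by
    intro j₁ j₂ h₁ h₂
    by_contra hne
    set η := P.coroot' j₂ ω • fundWeight b j₁ - P.coroot' j₁ ω • fundWeight b j₂ with hη
    have hη' : ∀ l : b'.support, P.coroot' l η =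
        P.coroot' j₂ ω * P.coroot' l (fundWeight b j₁) -
          P.coroot' j₁ ω * P.coroot' l (fundWeight b j₂) := by
      intro l
      rw [hη, map_sub, map_smul, map_smul, smul_eq_mul, smul_eq_mul]
    have hηω : η = P.coroot' i' η • ω := by
      apply ext_coroot b'
      intro l
      rw [map_smul, smul_eq_mul]
      by_cases hl : l = i'
      · subst hl
        have := coroot'_fundWeight b' l l
        rw [if_pos rfl] at this
        rw [this, mul_one]
      · have h0 := coroot'_fundWeight b' i' l
        rw [if_neg hl] at h0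
        rw [h0, mul_zero, hη']
        have e1 := (hb l hl j₁).resolve_left h₁.ne'
        have e2 := (hb l hl j₂).resolve_left h₂.ne'
        rw [e1, e2, mul_zero, mul_zero, sub_zero]
    set t := P.coroot' i' η
    have a1 : P.coroot' j₁ η = P.coroot' j₂ ω := by
      rw [hη, map_sub, map_smul, map_smul, coroot'_fundWeight, coroot'_fundWeight, if_pos rfl,
        if_neg hne]
      simp
    have a2 : P.coroot' j₂ η = -P.coroot' j₁ ω := by
      rw [hη, map_sub, map_smul, map_smul, coroot'_fundWeight, coroot'_fundWeight, if_pos rfl,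
        if_neg (Ne.symm hne)]
      simp
    have b1 : P.coroot' j₁ η = t * P.coroot' j₁ ω := by
      conv_lhs => rw [hηω]
      rw [map_smul, smul_eq_mul]
    have b2 : P.coroot' j₂ η = t * P.coroot' j₂ ω := by
      conv_lhs => rw [hηω]
      rw [map_smul, smul_eq_mul]
    rw [a1] at b1
    rw [a2] at b2
    have ht : 0 < t := by
      by_contra hle
      rw [not_lt] at hle
      have := mul_nonpos_of_nonpos_of_nonneg hle h₁.le
      linarith
    have := mul_pos ht h₂
    linarith
  -- the sum formula for the pairing with the `i'`-th simple coroot of `b'`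
  have hsum : (1 : R) = ∑ j : b.support, P.coroot' j ω * P.coroot' i' (fundWeight b j) := by
    rw [← coroot'_eq_sum b i' ω]
    have := coroot'_fundWeight b' i' i'
    rw [if_pos rfl] at this
    exact this.symm
  obtain ⟨j₀, -, hj₀⟩ : ∃ j ∈ (Finset.univ : Finset b.support),
      P.coroot' j ω * P.coroot' i' (fundWeight b j) ≠ 0 := by
    by_contra hcon
    push Not at hcon
    rw [Finset.sum_eq_zero hcon] at hsum
    exact one_ne_zero hsum
  have hj₀pos : 0 < P.coroot' j₀ ω := lt_of_le_of_ne (hc j₀) (Ne.symm (left_ne_zero_of_mul hj₀))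
  have hzero : ∀ j : b.support, j ≠ j₀ → P.coroot' j ω = 0 := by
    intro j hj
    by_contra hne
    exact hj (huniq j j₀ (lt_of_le_of_ne (hc j) (Ne.symm hne)) hj₀pos)
  have hprod : (1 : R) = P.coroot' j₀ ω * P.coroot' i' (fundWeight b j₀) := by
    rw [hsum, Finset.sum_eq_single j₀]
    · intro j _ hj
      rw [hzero j hj, zero_mul]
    · intro hn
      exact absurd (Finset.mem_univ j₀) hn
  obtain ⟨f, hf⟩ := exists_int_cocoef b' (j₀ : ι)
  obtain ⟨g, hg⟩ := exists_int_cocoef b (i' : ι)
  have hfz : P.coroot' j₀ ω = (f i' : R) := hf i'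
  have hgz : P.coroot' i' (fundWeight b j₀) = (g j₀ : R) := hg j₀
  rw [hfz, hgz] at hprod
  have hint : f i' * g j₀ = 1 := by
    have : ((f i' * g j₀ : ℤ) : R) = ((1 : ℤ) : R) := by
      push_cast
      exact hprod.symm
    exact_mod_cast this
  have hfpos : 0 < f i' := by
    rw [hfz] at hj₀pos
    exact_mod_cast hj₀pos
  have hf1 : f i' = 1 := by
    rcases Int.eq_one_or_neg_one_of_mul_eq_one hint with h1 | h1
    · exact h1
    · omega
  refine ⟨j₀, ?_⟩
  conv_rhs => rw [eq_sum_fundWeight b ω]
  rw [Finset.sum_eq_single j₀]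
  · rw [hfz, hf1]
    simp
  · intro j _ hj
    rw [hzero j hj, zero_smul]
  · intro hn
    exact absurd (Finset.mem_univ j₀) hn

/-- S14227 -/
theorem baseCorners_eq_range (b : P.Base) : baseCorners b = Set.range (fundWeight b) := by
  ext m
  constructor
  · rintro ⟨⟨b', i', rfl⟩, hm⟩
    obtain ⟨j, hj⟩ := fundWeight_of_mem_closedChamber b b' i' hm
    exact ⟨j, hj⟩
  · rintro ⟨j, rfl⟩
    exact ⟨⟨b, j, rfl⟩, fundWeight_mem_closedChamber b j⟩

end Corners

end

end Groth.Agent.Helper7.RC
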