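import Mathlib
import Groth.Prelude.Def_RootCh

set_option autoImplicit false
set_option linter.unusedSectionVars false
universe u v w x

namespace Groth.Agent.Helper7.RootCh1

open RootCh Module
open scoped Classical

variable {ι : Type u} {R : Type v} {M : Type w} {N : Type x}
  [Field R] [LinearOrder R] [IsStrictOrderedRing R]
  [AddCommGroup M] [Module R M] [AddCommGroup N] [Module R N] [Finite ι]
  {P : RootPairing ι R M N} [P.IsRootSystem]

/-- The fundamental weights of a base as a basis of `M`. -/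
noncomputable def fundBasis (b : P.Base) : Basis b.support R M :=
  b.toCoweightBasis.dualBasis.map P.toPerfPair.symm

theorem fundBasis_apply (b : P.Base) (j : b.support) : fundBasis b j = fundWeight b j := by
  rw [fundBasis, Basis.map_apply, Basis.coe_dualBasis]
  rfl

theorem fundBasis_repr (b : P.Base) (ξ : M) (j : b.support) :
    (fundBasis b).repr ξ j = P.coroot' j ξ := by
  rw [fundBasis, Basis.map_repr, LinearEquiv.trans_apply, LinearEquiv.symm_symm,
    Basis.dualBasis_repr, b.toCoweightBasis_apply]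
  rfl

theorem coroot'_fundWeight (b : P.Base) (i j : b.support) :
    P.coroot' i (fundWeight b j) = if i = j then 1 else 0 := by
  by_cases h : i = j
  · subst h
    rw [if_pos rfl, coroot'_fundWeight_self]
  · rw [if_neg h, coroot'_fundWeight_of_ne b j i h]

/-- Expansion of a vector in fundamental weights. -/
theorem sum_fundWeight (b : P.Base) (ξ : M) :
    ξ = ∑ j : b.support, P.coroot' j ξ • fundWeight b j := by
  conv_lhs => rw [← (fundBasis b).sum_repr ξ]
  refine Finset.sum_congr rfl fun j _ => ?_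
  rw [fundBasis_repr, fundBasis_apply]

theorem fundWeight_injective (b : P.Base) : Function.Injective (fundWeight b) := by
  intro i j h
  rw [← fundBasis_apply, ← fundBasis_apply] at h
  exact (fundBasis b).injective h

/-- Coefficient of the coroot `i` at the simple coroot `j`. -/
noncomputable def cc (b : P.Base) (i : ι) (j : b.support) : R := P.coroot' i (fundWeight b j)

theorem coroot_eq_sum (b : P.Base) (i : ι) :
    P.coroot i = ∑ j : b.support, cc b i j • P.coroot j := by
  conv_lhs => rw [← b.toCoweightBasis.sum_repr (P.coroot i)]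
  refine Finset.sum_congr rfl fun j _ => ?_
  rw [b.toCoweightBasis_apply]
  congr 1
  have h : P.toLinearMap (fundWeight b j) = b.toCoweightBasis.coord j :=
    P.toLinearMap.apply_symm_toPerfPair_self _
  show b.toCoweightBasis.repr (P.coroot i) j = P.toLinearMap (fundWeight b j) (P.coroot i)
  rw [h]
  rfl

theorem coroot'_eq_sum (b : P.Base) (i : ι) (ξ : M) :
    P.coroot' i ξ = ∑ j : b.support, cc b i j * P.coroot' j ξ := by
  show P.toLinearMap ξ (P.coroot i) = _
  rw [coroot_eq_sum b i, map_sum]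
  refine Finset.sum_congr rfl fun j _ => ?_
  rw [map_smul, smul_eq_mul]
  rfl

theorem pair_closure_nat (b : P.Base) (x : N)
    (hx : x ∈ AddSubmonoid.closure (P.coroot '' (b.support : Set ι))) (j : b.support) :
    ∃ n : ℕ, P.toLinearMap (fundWeight b j) x = n := by
  induction hx using AddSubmonoid.closure_induction with
  | mem x hx =>
    obtain ⟨l, hl, rfl⟩ := hx
    have h := coroot'_fundWeight b ⟨l, hl⟩ j
    by_cases hlj : (⟨l, hl⟩ : b.support) = j
    · refine ⟨1, ?_⟩
      rw [if_pos hlj] at h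
      rw [Nat.cast_one, ← h]
      rfl
    · refine ⟨0, ?_⟩
      rw [if_neg hlj] at h
      rw [Nat.cast_zero, ← h]
      rfl
  | zero => exact ⟨0, by rw [map_zero, Nat.cast_zero]⟩
  | add x y _ _ hx hy =>
    obtain ⟨n, hn⟩ := hx
    obtain ⟨m, hm⟩ := hy
    exact ⟨n + m, by rw [map_add, hn, hm, Nat.cast_add]⟩

/-- Sign coherence and integrality of the coefficients of a coroot. -/
theorem cc_nat_or_neg (b : P.Base) (i : ι) :
    (∀ j, ∃ n : ℕ, cc b i j = n) ∨ (∀ j, ∃ n : ℕ, cc b i j = -(n : R)) := by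
  rcases b.coroot_mem_or_neg_mem i with h | h
  · left
    intro j
    exact pair_closure_nat b _ h j
  · right
    intro j
    obtain ⟨n, hn⟩ := pair_closure_nat b _ h j
    refine ⟨n, ?_⟩
    rw [map_neg] at hn
    show P.toLinearMap (fundWeight b j) (P.coroot i) = _
    rw [← hn, neg_neg]

theorem cc_int (b : P.Base) (i : ι) (j : b.support) : ∃ z : ℤ, cc b i j = z := by
  rcases cc_nat_or_neg b i with h | h
  · obtain ⟨n, hn⟩ := h j
    exact ⟨n, by rw [hn, Int.cast_natCast]⟩
  · obtain ⟨n, hn⟩ := h j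
    exact ⟨-n, by rw [hn, Int.cast_neg, Int.cast_natCast]⟩

theorem cc_nonneg_or_nonpos (b : P.Base) (i : ι) :
    (∀ j, 0 ≤ cc b i j) ∨ (∀ j, cc b i j ≤ 0) := by
  rcases cc_nat_or_neg b i with h | h
  · left
    intro j
    obtain ⟨n, hn⟩ := h j
    rw [hn]
    exact Nat.cast_nonneg n
  · right
    intro j
    obtain ⟨n, hn⟩ := h j
    rw [hn, neg_nonpos]
    exact Nat.cast_nonneg n

/-- In the closed chamber, the sign of the pairing with a coroot is governed by the coefficients. -/
theorem coroot'_pos_iff (b : P.Base) (i : ι) (ξ : M) (hξ : ξ ∈ closedChamber b)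
    (hi : ∀ j, 0 ≤ cc b i j) :
    0 < P.coroot' i ξ ↔ ∃ j : b.support, 0 < cc b i j ∧ 0 < P.coroot' j ξ := by
  rw [coroot'_eq_sum b i ξ]
  have hnn : ∀ j ∈ (Finset.univ : Finset b.support), 0 ≤ cc b i j * P.coroot' j ξ := fun j _ =>
    mul_nonneg (hi j) (hξ j j.2)
  rw [Finset.sum_pos_iff_of_nonneg hnn]
  constructor
  · rintro ⟨j, _, hj⟩
    refine ⟨j, ?_, ?_⟩
    · rcases (hi j).lt_or_eq with h | h
      · exact h
      · rw [← h, zero_mul] at hj
        exact absurd hj (lt_irrefl _)
    · rcases (hξ j j.2).lt_or_eq with h | h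
      · exact h
      · rw [← h, mul_zero] at hj
        exact absurd hj (lt_irrefl _)
  · rintro ⟨j, h1, h2⟩
    exact ⟨j, Finset.mem_univ _, mul_pos h1 h2⟩

theorem coroot'_nonneg (b : P.Base) (i : ι) (ξ : M) (hξ : ξ ∈ closedChamber b)
    (hi : ∀ j, 0 ≤ cc b i j) : 0 ≤ P.coroot' i ξ := by
  rw [coroot'_eq_sum b i ξ]
  exact Finset.sum_nonneg fun j _ => mul_nonneg (hi j) (hξ j j.2)

theorem coroot'_neg_iff (b : P.Base) (i : ι) (ξ : M) (hξ : ξ ∈ closedChamber b)
    (hi : ∀ j, cc b i j ≤ 0) :
    P.coroot' i ξ < 0 ↔ ∃ j : b.support, cc b i j < 0 ∧ 0 < P.coroot' j ξ := by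
  rw [coroot'_eq_sum b i ξ, ← neg_pos, ← Finset.sum_neg_distrib]
  have hnn : ∀ j ∈ (Finset.univ : Finset b.support), 0 ≤ -(cc b i j * P.coroot' j ξ) := fun j _ => by
    rw [← neg_mul]
    exact mul_nonneg (neg_nonneg.2 (hi j)) (hξ j j.2)
  rw [Finset.sum_pos_iff_of_nonneg hnn]
  constructor
  · rintro ⟨j, _, hj⟩
    rw [← neg_mul] at hj
    refine ⟨j, ?_, ?_⟩
    · rcases (hi j).lt_or_eq with h | h
      · exact h
      · rw [h, neg_zero, zero_mul] at hj
        exact absurd hj (lt_irrefl _)
    · rcases (hξ j j.2).lt_or_eq with h | h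
      · exact h
      · rw [← h, mul_zero] at hj
        exact absurd hj (lt_irrefl _)
  · rintro ⟨j, h1, h2⟩
    refine ⟨j, Finset.mem_univ _, ?_⟩
    rw [← neg_mul]
    exact mul_pos (neg_pos.2 h1) h2

theorem coroot'_nonpos (b : P.Base) (i : ι) (ξ : M) (hξ : ξ ∈ closedChamber b)
    (hi : ∀ j, cc b i j ≤ 0) : P.coroot' i ξ ≤ 0 := by
  rw [coroot'_eq_sum b i ξ]
  exact Finset.sum_nonpos fun j _ => mul_nonpos_of_nonpos_of_nonneg (hi j) (hξ j j.2)

/-- In a closed chamber, the sign vector is determined by which simple coroots pair positively. -/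
theorem sgnVec_eq_of_pos_iff (b : P.Base) (ξ ξ' : M) (hξ : ξ ∈ closedChamber b)
    (hξ' : ξ' ∈ closedChamber b)
    (h : ∀ j : b.support, 0 < P.coroot' j ξ ↔ 0 < P.coroot' j ξ') :
    sgnVec P ξ = sgnVec P ξ' := by
  funext i
  show SignType.sign (P.coroot' i ξ) = SignType.sign (P.coroot' i ξ')
  rcases cc_nonneg_or_nonpos b i with hi | hi
  · have h1 := coroot'_pos_iff b i ξ hξ hi
    have h2 := coroot'_pos_iff b i ξ' hξ' hi
    have h3 : 0 < P.coroot' i ξ ↔ 0 < P.coroot' i ξ' := by
      rw [h1, h2]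
      exact exists_congr fun j => by rw [h j]
    by_cases h4 : 0 < P.coroot' i ξ
    · rw [sign_pos h4, sign_pos (h3.1 h4)]
    · have h5 : P.coroot' i ξ = 0 := le_antisymm (not_lt.1 h4) (coroot'_nonneg b i ξ hξ hi)
      have h6 : P.coroot' i ξ' = 0 :=
        le_antisymm (not_lt.1 (fun h' => h4 (h3.2 h'))) (coroot'_nonneg b i ξ' hξ' hi)
      rw [h5, h6]
  · have h1 := coroot'_neg_iff b i ξ hξ hi
    have h2 := coroot'_neg_iff b i ξ' hξ' hi
    have h3 : P.coroot' i ξ < 0 ↔ P.coroot' i ξ' < 0 := by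
      rw [h1, h2]
      exact exists_congr fun j => by rw [h j]
    by_cases h4 : P.coroot' i ξ < 0
    · rw [sign_neg h4, sign_neg (h3.1 h4)]
    · have h5 : P.coroot' i ξ = 0 := le_antisymm (coroot'_nonpos b i ξ hξ hi) (not_lt.1 h4)
      have h6 : P.coroot' i ξ' = 0 :=
        le_antisymm (coroot'_nonpos b i ξ' hξ' hi) (not_lt.1 (fun h' => h4 (h3.2 h')))
      rw [h5, h6]

theorem fundWeight_mem_closedChamber (b : P.Base) (j : b.support) :
    fundWeight b j ∈ closedChamber b := by
  intro i hi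
  have h := coroot'_fundWeight b ⟨i, hi⟩ j
  have h' : P.coroot' i (fundWeight b j) = if (⟨i, hi⟩ : b.support) = j then 1 else 0 := h
  rw [h']
  split_ifs
  · exact zero_le_one
  · exact le_refl _

/-- The crux: a fundamental weight of some base lying in the closed chamber of `b` is a fundamental
weight of `b`. -/
theorem exists_eq_fundWeight_of_mem_closedChamber (b b' : P.Base) (i' : b'.support)
    (h : fundWeight b' i' ∈ closedChamber b) : ∃ j : b.support, fundWeight b' i' = fundWeight b j := by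
  set ω := fundWeight b' i' with hω
  -- some coefficient is positive
  have hex : ∃ j₀ : b.support, 0 < P.coroot' j₀ ω := by
    by_contra hne
    push Not at hne
    have h0 : ∀ j : b.support, P.coroot' j ω = 0 := fun j => le_antisymm (hne j) (h j j.2)
    have h1 : ω = 0 := by
      rw [sum_fundWeight b ω]
      exact Finset.sum_eq_zero fun j _ => by rw [h0 j, zero_smul]
    have h2 := coroot'_fundWeight_self b' i'
    rw [← hω, h1, map_zero] at h2
    exact zero_ne_one h2
  obtain ⟨j₀, hj₀⟩ := hex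
  -- coefficients at j₀ of the other simple coroots of b' vanish
  have ha : ∀ l : b'.support, l ≠ i' → cc b l j₀ = 0 := by
    intro l hl
    have h0 : P.coroot' l ω = 0 := coroot'_fundWeight_of_ne b' i' l hl
    rcases cc_nonneg_or_nonpos b l with hi | hi
    · by_contra hne
      have hpos : 0 < cc b l j₀ := lt_of_le_of_ne (hi j₀) (Ne.symm hne)
      have := (coroot'_pos_iff b l ω h hi).2 ⟨j₀, hpos, hj₀⟩
      rw [h0] at this
      exact lt_irrefl _ this
    · by_contra hne
      have hneg : cc b l j₀ < 0 := lt_of_le_of_ne (hi j₀) hne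
      have := (coroot'_neg_iff b l ω h hi).2 ⟨j₀, hneg, hj₀⟩
      rw [h0] at this
      exact lt_irrefl _ this
  -- hence ω_{j₀} = t • ω
  set t := cc b i' j₀ with ht
  have hprop : fundWeight b j₀ = t • ω := by
    apply P.toPerfPair.injective
    apply b'.toCoweightBasis.ext
    intro l
    rw [b'.toCoweightBasis_apply, map_smul, LinearMap.smul_apply, smul_eq_mul]
    show P.coroot' l (fundWeight b j₀) = t * P.coroot' l ω
    by_cases hl : l = i'
    · subst hl
      rw [hω, coroot'_fundWeight_self, mul_one]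
      rfl
    · rw [hω, coroot'_fundWeight_of_ne b' i' l hl, mul_zero]
      exact ha l hl
  -- integrality
  have h1 : t * P.coroot' j₀ ω = 1 := by
    have := coroot'_fundWeight_self b j₀
    rw [hprop, map_smul, smul_eq_mul] at this
    exact this
  obtain ⟨z₁, hz₁⟩ := cc_int b i' j₀
  obtain ⟨z₂, hz₂⟩ := cc_int b' j₀ i'
  have hz₂' : P.coroot' j₀ ω = z₂ := hz₂
  rw [← ht] at hz₁
  rw [hz₁, hz₂', ← Int.cast_mul, ← Int.cast_one (R := R), Int.cast_inj] at h1
  have hz₂pos : 0 < z₂ := by
    rw [hz₂'] at hj₀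
    exact_mod_cast hj₀
  have hz₂one : z₂ = 1 := by
    rcases Int.eq_one_or_neg_one_of_mul_eq_one' h1 with ⟨_, h3⟩ | ⟨_, h3⟩
    · exact h3
    · rw [h3] at hz₂pos
      exact absurd hz₂pos (by decide)
  have hz₁one : z₁ = 1 := by
    rw [hz₂one, mul_one] at h1
    exact h1
  refine ⟨j₀, ?_⟩
  rw [hprop, hz₁, hz₁one, Int.cast_one, one_smul]

/-- A positive `ε` small against finitely many positive bounds. -/
theorem exists_eps {κ : Type*} [Finite κ] (a c : κ → R) (ha : ∀ k, 0 < a k) :
    ∃ ε : R, 0 < ε ∧ ∀ k, ε * |c k| < a k := by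
  have := Fintype.ofFinite κ
  have hterm : ∀ k, 0 ≤ (|c k| + 1) / a k := fun k =>
    div_nonneg (add_nonneg (abs_nonneg _) zero_le_one) (ha k).le
  have hS : 0 ≤ ∑ k, (|c k| + 1) / a k := Finset.sum_nonneg fun k _ => hterm k
  have hpos : 0 < 1 + ∑ k, (|c k| + 1) / a k := by linarith
  refine ⟨(1 + ∑ k, (|c k| + 1) / a k)⁻¹, inv_pos.2 hpos, fun k => ?_⟩
  rw [inv_mul_lt_iff₀ hpos]
  have h1 : (|c k| + 1) / a k ≤ ∑ k, (|c k| + 1) / a k :=
    Finset.single_le_sum (fun k _ => hterm k) (Finset.mem_univ k)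
  have h2 : |c k| < (|c k| + 1) / a k * a k := by
    rw [div_mul_cancel₀ _ (ha k).ne']
    linarith
  have h3 : (|c k| + 1) / a k * a k ≤ (1 + ∑ k, (|c k| + 1) / a k) * a k :=
    mul_le_mul_of_nonneg_right (by linarith) (ha k).le
  linarith

variable [P.IsCrystallographic] [P.IsReduced]

/-- Every vector lies in the closed chamber of some base. -/
theorem exists_base_mem_closedChamber (ξ : M) : ∃ b : P.Base, ξ ∈ closedChamber b := by
  -- a regular vector
  obtain ⟨η, hη⟩ : ∃ η : M, ∀ i, P.coroot' i η ≠ 0 := by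
    apply Module.Dual.exists_forall_ne_zero_of_forall_exists (fun i => P.coroot' i)
    intro i
    refine ⟨P.root i, ?_⟩
    rw [P.root_coroot'_eq_pairing, P.pairing_same]
    exact two_ne_zero
  -- a small perturbation
  obtain ⟨ε, hε, hεlt⟩ := exists_eps (κ := {i : ι // P.coroot' i ξ ≠ 0})
    (fun k => |P.coroot' k.1 ξ|) (fun k => P.coroot' k.1 η) (fun k => abs_pos.2 k.2)
  set ξ' := ξ + ε • η with hξ'
  have hval : ∀ i, P.coroot' i ξ' = P.coroot' i ξ + ε * P.coroot' i η := by
    intro i
    rw [hξ', map_add, map_smul, smul_eq_mul]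
  have hne : ∀ i, P.coroot' i ξ' ≠ 0 := by
    intro i
    rw [hval]
    by_cases h0 : P.coroot' i ξ = 0
    · rw [h0, zero_add]
      exact mul_ne_zero hε.ne' (hη i)
    · have := hεlt ⟨i, h0⟩
      intro h1
      have h2 : P.coroot' i ξ = -(ε * P.coroot' i η) := by linarith
      rw [h2, abs_neg, abs_mul, abs_of_pos hε] at this
      exact lt_irrefl _ this
  have hsign : ∀ i, 0 < P.coroot' i ξ' → 0 ≤ P.coroot' i ξ := by
    intro i hi
    by_contra hneg
    push Not at hneg
    have := hεlt ⟨i, hneg.ne⟩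
    rw [hval] at hi
    have h3 : |P.coroot' i ξ| = -P.coroot' i ξ := abs_of_neg hneg
    have h4 : ε * P.coroot' i η ≤ ε * |P.coroot' i η| :=
      mul_le_mul_of_nonneg_left (le_abs_self _) hε.le
    simp only at this
    linarith
  -- the base of the flipped root system attached to ξ'
  let g : Module.Dual R N := P.toLinearMap ξ'
  have hg : ∀ i, g (P.flip.root i) ≠ 0 := fun i => hne i
  let _ := P.flip.indexNeg
  let s : Set ι := IsAddIndecomposable.baseOf P.flip.root (g : N →+ R)
  have hli : LinearIndepOn R P.flip.root s := P.flip.linearIndepOn_root_baseOf' (S := R) g hg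
  have hsp : ∀ i, P.flip.root i ∈ AddSubmonoid.closure (P.flip.root '' s) ∨
      -P.flip.root i ∈ AddSubmonoid.closure (P.flip.root '' s) := fun i =>
    IsAddIndecomposable.mem_or_neg_mem_closure_baseOf P.flip.root (g : N →+ R) i (hg i) (by simp)
  let b' : P.flip.Base := RootPairing.Base.mk' P.flip s hli hsp
  refine ⟨b'.flip, ?_⟩
  intro j hj
  have hj' : j ∈ s := by
    have : j ∈ (Set.toFinite s).toFinset := hj
    exact (Set.Finite.mem_toFinset _).1 this
  have hpos : 0 < g (P.flip.root j) := IsAddIndecomposable.baseOf_subset_pos _ _ hj'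
  exact hsign j hpos

omit [P.IsCrystallographic] [P.IsReduced] in
theorem closure_subset_closedChamber (F : Facet P) (b : P.Base) (ξ : M) (hξF : ξ ∈ F.carrier)
    (hξ : ξ ∈ closedChamber b) : F.closure ⊆ closedChamber b := by
  intro ξ' h' j hj
  have hF : F.sgn j = SignType.sign (P.coroot' j ξ) := by
    have : sgnVec P ξ = F.sgn := hξF
    rw [← this]
    rfl
  have h'j : SignType.sign (P.coroot' j ξ') = 0 ∨ SignType.sign (P.coroot' j ξ') = F.sgn j := h' j
  rcases h'j with h0 | h1
  · rw [sign_eq_zero_iff] at h0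
    exact h0.ge
  · by_contra hneg
    push Not at hneg
    rw [sign_neg hneg, hF] at h1
    have := sign_eq_neg_one_iff.1 h1.symm
    exact absurd (hξ j hj) (not_le.2 this)

omit [P.IsCrystallographic] [P.IsReduced] in
theorem carrier_subset_closedChamber (F : Facet P) (b : P.Base) (ξ : M) (hξF : ξ ∈ F.carrier)
    (hξ : ξ ∈ closedChamber b) : F.carrier ⊆ closedChamber b := by
  intro ξ' h'
  apply closure_subset_closedChamber F b ξ hξF hξ
  intro i
  right
  have : sgnVec P ξ' = F.sgn := h'
  rw [this]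

omit [P.IsCrystallographic] [P.IsReduced] in
theorem sgn_eq (F : Facet P) (ξ : M) (hξF : ξ ∈ F.carrier) (i : ι) :
    F.sgn i = SignType.sign (P.coroot' i ξ) := by
  have : sgnVec P ξ = F.sgn := hξF
  rw [← this]
  rfl

omit [P.IsCrystallographic] [P.IsReduced] in
/-- The corners of a facet, in terms of an adapted base. -/
theorem corners_eq (F : Facet P) (b : P.Base) (ξ : M) (hξF : ξ ∈ F.carrier)
    (hξ : ξ ∈ closedChamber b) :
    F.corners = {w | ∃ j : b.support, 0 < P.coroot' j ξ ∧ fundWeight b j = w} := by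
  ext w
  constructor
  · rintro ⟨⟨b', i', rfl⟩, hw⟩
    have hwb := closure_subset_closedChamber F b ξ hξF hξ hw
    obtain ⟨j, hj⟩ := exists_eq_fundWeight_of_mem_closedChamber b b' i' hwb
    refine ⟨j, ?_, hj.symm⟩
    have h1 : SignType.sign (P.coroot' j (fundWeight b' i')) = 0 ∨
        SignType.sign (P.coroot' j (fundWeight b' i')) = F.sgn j := hw j
    rw [hj, coroot'_fundWeight_self, sign_one, sgn_eq F ξ hξF] at h1
    rcases h1 with h1 | h1
    · exact absurd h1 (by decide)
    · exact sign_eq_one_iff.1 h1.symm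
  · rintro ⟨j, hj, rfl⟩
    refine ⟨⟨b, j, rfl⟩, ?_⟩
    intro i
    show SignType.sign (cc b i j) = 0 ∨ SignType.sign (cc b i j) = F.sgn i
    rw [sgn_eq F ξ hξF]
    rcases cc_nonneg_or_nonpos b i with hi | hi
    · rcases (hi j).lt_or_eq with h | h
      · right
        rw [sign_pos h, sign_pos ((coroot'_pos_iff b i ξ hξ hi).2 ⟨j, h, hj⟩)]
      · left
        rw [← h, sign_zero]
    · rcases (hi j).lt_or_eq with h | h
      · right
        rw [sign_neg h, sign_neg ((coroot'_neg_iff b i ξ hξ hi).2 ⟨j, h, hj⟩)]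
      · left
        rw [h, sign_zero]

omit [P.IsCrystallographic] [P.IsReduced] in
/-- Membership in a facet, in terms of an adapted base. -/
theorem mem_carrier_iff (F : Facet P) (b : P.Base) (ξ : M) (hξF : ξ ∈ F.carrier)
    (hξ : ξ ∈ closedChamber b) (ξ' : M) :
    ξ' ∈ F.carrier ↔ ξ' ∈ closedChamber b ∧
      ∀ j : b.support, 0 < P.coroot' j ξ ↔ 0 < P.coroot' j ξ' := by
  constructor
  · intro h'
    refine ⟨carrier_subset_closedChamber F b ξ hξF hξ h', fun j => ?_⟩
    have h1 := sgn_eq F ξ hξF j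
    have h2 := sgn_eq F ξ' h' j
    rw [← sign_eq_one_iff, ← sign_eq_one_iff, ← h1, ← h2]
  · rintro ⟨h1, h2⟩
    show sgnVec P ξ' = F.sgn
    have : sgnVec P ξ = F.sgn := hξF
    rw [← this]
    exact (sgnVec_eq_of_pos_iff b ξ ξ' hξ h1 h2).symm

end Groth.Agent.Helper7.RootCh1
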