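import Mathlib
import Groth.Prelude.Def_RootCh
import Groth.Agent.Helper7.RootCh1

set_option autoImplicit false
set_option linter.unusedSectionVars false
universe u v w x

namespace Groth.Agent.Helper7.RootChB

open RootCh Module Groth.Agent.Helper7.RootCh1
open scoped Classical

variable {ι : Type u} {R : Type v} {M : Type w} {N : Type x}
  [Field R] [LinearOrder R] [IsStrictOrderedRing R]
  [AddCommGroup M] [Module R M] [AddCommGroup N] [Module R N] [Finite ι]
  {P : RootPairing ι R M N} [P.IsRootSystem]

/-- Coefficient of the root `i` at the simple root `j`. -/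
noncomputable def rc (b : P.Base) (i : ι) (j : b.support) : R := cc (P := P.flip) b.flip i j

theorem rc_def (b : P.Base) (i : ι) (j : b.support) : rc b i j = P.root' i (fundCoweight b j) := rfl

theorem root_eq_sum (b : P.Base) (i : ι) :
    P.root i = ∑ j : b.support, rc b i j • P.root j :=
  coroot_eq_sum (P := P.flip) b.flip i

theorem rc_int (b : P.Base) (i : ι) (j : b.support) : ∃ z : ℤ, rc b i j = z :=
  cc_int (P := P.flip) b.flip i j

/-- Squared lengths of roots and the invariant form: the key identity. -/
theorem exists_lsq_form : ∃ (q : ι → R) (B : M →ₗ[R] M →ₗ[R] R), (∀ i, 0 < q i) ∧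
    (∀ (i : ι) (x : M), q i * P.coroot' i x = 2 * B x (P.root i)) := by
  let _ := Fintype.ofFinite ι
  refine ⟨fun i => P.RootForm (P.root i) (P.root i), P.RootForm, fun i => ?_, fun i x => ?_⟩
  · show 0 < P.RootForm (P.root i) (P.root i)
    rw [P.rootForm_root_self]
    have h1 : P.pairing i i * P.pairing i i ≤ ∑ k, P.pairing i k * P.pairing i k :=
      Finset.single_le_sum (f := fun k => P.pairing i k * P.pairing i k)
        (fun k _ => mul_self_nonneg _) (Finset.mem_univ i)
    rw [P.pairing_same] at h1
    linarith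
  · have h := P.rootForm_self_smul_coroot i
    have h2 := congrArg (fun y => P.toLinearMap x y) h
    simp only [map_smul, smul_eq_mul, RootPairing.Polarization_apply] at h2
    show P.RootForm (P.root i) (P.root i) * P.toLinearMap x (P.coroot i) = _
    rw [h2, P.rootForm_apply_apply, map_nsmul, map_sum, nsmul_eq_mul, Nat.cast_ofNat]
    congr 1
    refine Finset.sum_congr rfl fun k _ => ?_
    rw [map_smul, smul_eq_mul, mul_comm]
    rfl

/-- The relation between the coefficients of a root and of its coroot. -/
theorem exists_lsq : ∃ q : ι → R, (∀ i, 0 < q i) ∧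
    (∀ (b : P.Base) (i : ι) (j : b.support), q i * cc b i j = rc b i j * q j) ∧
    (∀ (i j k : ι) (x : M), P.root k = P.root i + P.root j →
      q k * P.coroot' k x = q i * P.coroot' i x + q j * P.coroot' j x) := by
  obtain ⟨q, B, hq, hK⟩ := exists_lsq_form (P := P)
  refine ⟨q, hq, fun b i j => ?_, fun i j k x hk => ?_⟩
  · show q i * P.coroot' i (fundWeight b j) = _
    rw [hK, root_eq_sum b i, map_sum, Finset.mul_sum]
    rw [Finset.sum_eq_single j]
    · rw [map_smul, smul_eq_mul, mul_left_comm, ← hK, coroot'_fundWeight, if_pos rfl, mul_one]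
    · intro l _ hl
      rw [map_smul, smul_eq_mul, mul_left_comm, ← hK, coroot'_fundWeight, if_neg hl, mul_zero,
        mul_zero]
    · intro h
      exact absurd (Finset.mem_univ j) h
  · rw [hK, hK, hK, hk, map_add]
    ring

theorem cc_pos_iff (b : P.Base) (i : ι) (j : b.support) : 0 < cc b i j ↔ 0 < rc b i j := by
  obtain ⟨q, hq, h, _⟩ := exists_lsq (P := P)
  rw [← mul_pos_iff_of_pos_left (hq i), h b i j, mul_pos_iff_of_pos_right (hq j)]

theorem cc_neg_iff (b : P.Base) (i : ι) (j : b.support) : cc b i j < 0 ↔ rc b i j < 0 := by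
  obtain ⟨q, hq, h, _⟩ := exists_lsq (P := P)
  have h1 : cc b i j < 0 ↔ 0 < q i * -cc b i j := by
    rw [mul_pos_iff_of_pos_left (hq i), neg_pos]
  have h2 : rc b i j < 0 ↔ 0 < -rc b i j * q j := by
    rw [mul_pos_iff_of_pos_right (hq j), neg_pos]
  rw [h1, h2, mul_neg, neg_mul, h b i j]

theorem cc_eq_zero_iff (b : P.Base) (i : ι) (j : b.support) : cc b i j = 0 ↔ rc b i j = 0 := by
  obtain ⟨q, hq, h, _⟩ := exists_lsq (P := P)
  constructor
  · intro h0
    have := h b i j
    rw [h0, mul_zero] at this
    rcases mul_eq_zero.1 this.symm with h1 | h1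
    · exact h1
    · exact absurd h1 (hq j).ne'
  · intro h0
    have := h b i j
    rw [h0, zero_mul] at this
    rcases mul_eq_zero.1 this with h1 | h1
    · exact absurd h1 (hq i).ne'
    · exact h1

/-- Expansion of a covector in fundamental coweights. -/
theorem sum_fundCoweight (b : P.Base) (y : N) :
    y = ∑ j : b.support, P.root' j y • fundCoweight b j :=
  sum_fundWeight (P := P.flip) b.flip y

theorem root'_fundCoweight (b : P.Base) (i j : b.support) :
    P.root' i (fundCoweight b j) = if i = j then 1 else 0 :=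
  coroot'_fundWeight (P := P.flip) b.flip i j

theorem fundCoweight_eq_smul (b b'' : P.Base) (j : b.support) (i'' : b''.support)
    (h : fundWeight b'' i'' = fundWeight b j) :
    fundCoweight b'' i'' = rc b'' j i'' • fundCoweight b j ∧ 0 < rc b'' j i'' := by
  constructor
  · conv_lhs => rw [sum_fundCoweight b (fundCoweight b'' i'')]
    rw [Finset.sum_eq_single j]
    · rfl
    · intro l _ hl
      have h0 : rc b'' l i'' = 0 := by
        rw [← cc_eq_zero_iff]
        show P.coroot' l (fundWeight b'' i'') = 0
        rw [h, coroot'_fundWeight, if_neg hl]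
      have : P.root' l (fundCoweight b'' i'') = rc b'' l i'' := rfl
      rw [this, h0, zero_smul]
    · intro hn
      exact absurd (Finset.mem_univ j) hn
  · rw [← cc_pos_iff]
    show 0 < P.coroot' j (fundWeight b'' i'')
    rw [h, coroot'_fundWeight, if_pos rfl]
    exact zero_lt_one

/-- The fundamental coweight attached to a fundamental weight is well defined. -/
theorem fundCoweight_eq_of_fundWeight_eq (b b'' : P.Base) (j : b.support) (i'' : b''.support)
    (h : fundWeight b'' i'' = fundWeight b j) :
    fundCoweight b'' i'' = fundCoweight b j := by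
  obtain ⟨h1, hc⟩ := fundCoweight_eq_smul b b'' j i'' h
  obtain ⟨h2, hc'⟩ := fundCoweight_eq_smul b'' b i'' j h.symm
  obtain ⟨z, hz⟩ := rc_int b'' j i''
  obtain ⟨z', hz'⟩ := rc_int b i'' j
  have h3 : rc b'' j i'' * rc b i'' j = 1 := by
    have h4 : P.root' j (fundCoweight b j) = 1 := by rw [root'_fundCoweight, if_pos rfl]
    have h5 : fundCoweight b j = (rc b i'' j * rc b'' j i'') • fundCoweight b j := by
      conv_lhs => rw [h2, h1, smul_smul]
    have h6 := congrArg (P.root' j) h5
    rw [map_smul, smul_eq_mul, h4, mul_one] at h6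
    rw [mul_comm]
    exact h6.symm
  rw [hz, hz', ← Int.cast_mul, ← Int.cast_one (R := R), Int.cast_inj] at h3
  have hzpos : 0 < z := by
    rw [hz] at hc
    exact_mod_cast hc
  have hz1 : z = 1 := by
    rcases Int.eq_one_or_neg_one_of_mul_eq_one' h3 with ⟨h5, _⟩ | ⟨h5, _⟩
    · exact h5
    · rw [h5] at hzpos
      exact absurd hzpos (by decide)
  rw [h1, hz, hz1, Int.cast_one, one_smul]

theorem corr_iff (b : P.Base) (j : b.support) (y : N) :
    Corr P (fundWeight b j) y ↔ y = fundCoweight b j := by
  constructor
  · rintro ⟨b'', i'', h1, h2⟩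
    rw [← h2]
    exact fundCoweight_eq_of_fundWeight_eq b b'' j i'' h1
  · rintro rfl
    exact ⟨b, j, rfl, rfl⟩

omit [P.IsRootSystem] in
theorem coroot'_neg (i : ι) (x : M) :
    P.coroot' (P.reflectionPerm i i) x = - P.coroot' i x := by
  rw [P.coroot'_reflectionPerm, LinearMap.comp_apply, LinearEquiv.coe_coe, P.reflection_apply,
    map_sub, map_smul, P.root_coroot'_eq_pairing, P.pairing_same, smul_eq_mul]
  ring

omit [P.IsRootSystem] in
theorem root_neg (i : ι) : P.root (P.reflectionPerm i i) = - P.root i := by
  rw [P.root_reflectionPerm, P.reflection_apply_root, P.pairing_same, two_smul]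
  abel

omit [P.IsRootSystem] in
theorem root'_neg (i : ι) (y : N) :
    P.root' (P.reflectionPerm i i) y = - P.root' i y := by
  show P.toLinearMap (P.root (P.reflectionPerm i i)) y = - P.toLinearMap (P.root i) y
  rw [root_neg, map_neg, LinearMap.neg_apply]

omit [P.IsRootSystem] in
theorem sgn_neg (F : Facet P) (i : ι) : F.sgn (P.reflectionPerm i i) = - F.sgn i := by
  obtain ⟨ξ, hξ⟩ := F.exists_sgnVec_eq
  rw [← hξ]
  show SignType.sign (P.coroot' (P.reflectionPerm i i) ξ) = - SignType.sign (P.coroot' i ξ)
  rw [coroot'_neg, Left.sign_neg]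

theorem cc_neg (b : P.Base) (i : ι) (j : b.support) :
    cc b (P.reflectionPerm i i) j = - cc b i j :=
  coroot'_neg i _

/-- Characterisation of the closure of a facet through the parabolic set. -/
theorem fundWeight_mem_closure_iff (F : Facet P) (b' : P.Base) (i' : b'.support) :
    fundWeight b' i' ∈ F.closure ↔ ∀ i ∈ F.parab, 0 ≤ P.root' i (fundCoweight b' i') := by
  constructor
  · intro hm i hi
    have hi' : F.sgn i ≠ -1 := hi
    by_contra hneg
    push Not at hneg
    have h1 : cc b' i i' < 0 := (cc_neg_iff b' i i').2 hneg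
    have h2 : SignType.sign (cc b' i i') = 0 ∨ SignType.sign (cc b' i i') = F.sgn i := hm i
    rw [sign_neg h1] at h2
    rcases h2 with h2 | h2
    · exact absurd h2 (by decide)
    · exact hi' h2.symm
  · intro H i
    show SignType.sign (cc b' i i') = 0 ∨ SignType.sign (cc b' i i') = F.sgn i
    have key : ∀ k, F.sgn k ≠ -1 → 0 ≤ cc b' k i' := by
      intro k hk
      have := H k hk
      by_contra hneg
      push Not at hneg
      have := (cc_neg_iff b' k i').1 hneg
      have h3 : rc b' k i' = P.root' k (fundCoweight b' i') := rfl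
      linarith
    have hF : F.sgn i = 0 ∨ F.sgn i = 1 ∨ F.sgn i = -1 := by
      cases F.sgn i <;> simp
    rcases hF with h0 | h1 | h1
    · left
      have h2 := key i (by rw [h0]; decide)
      have h3 := key (P.reflectionPerm i i) (by rw [sgn_neg, h0]; decide)
      rw [cc_neg] at h3
      have : cc b' i i' = 0 := le_antisymm (by linarith) h2
      rw [this, sign_zero]
    · have h2 := key i (by rw [h1]; decide)
      rcases h2.lt_or_eq with h3 | h3
      · right
        rw [sign_pos h3, h1]
      · left
        rw [← h3, sign_zero]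
    · have h3 := key (P.reflectionPerm i i) (by rw [sgn_neg, h1]; decide)
      rw [cc_neg] at h3
      have h4 : cc b' i i' ≤ 0 := by linarith
      rcases h4.lt_or_eq with h5 | h5
      · right
        rw [sign_neg h5, h1]
      · left
        rw [h5, sign_zero]

theorem sign_cc_eq (b : P.Base) (i : ι) (j : b.support) :
    SignType.sign (cc b i j) = SignType.sign (rc b i j) := by
  rcases lt_trichotomy (cc b i j) 0 with h | h | h
  · rw [sign_neg h, sign_neg ((cc_neg_iff b i j).1 h)]
  · rw [h, (cc_eq_zero_iff b i j).1 h]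
  · rw [sign_pos h, sign_pos ((cc_pos_iff b i j).1 h)]

theorem fundCoweight_mem_dualClosure_iff (F : Facet P) (b' : P.Base) (i' : b'.support) :
    fundCoweight b' i' ∈ F.dualClosure ↔ fundWeight b' i' ∈ F.closure := by
  show (∀ i, SignType.sign (rc b' i i') = 0 ∨ SignType.sign (rc b' i i') = F.sgn i) ↔
    (∀ i, SignType.sign (cc b' i i') = 0 ∨ SignType.sign (cc b' i i') = F.sgn i)
  simp only [sign_cc_eq]

theorem mem_fundCoweights_iff (y : N) :
    y ∈ fundCoweights P ↔ ∃ (b : P.Base) (i : b.support), fundCoweight b i = y := by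
  constructor
  · rintro ⟨b₁, i, rfl⟩
    exact ⟨b₁.flip, i, rfl⟩
  · rintro ⟨b, i, rfl⟩
    exact ⟨b.flip, i, rfl⟩

end Groth.Agent.Helper7.RootChB
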