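import Mathlib
import Groth.Prelude.Def_RootCh
import Groth.Agent.Helper7.RootChB

set_option autoImplicit false
set_option linter.unusedSectionVars false
universe u v w x

namespace Groth.Agent.Helper7.RootChC

open RootCh Module Groth.Agent.Helper7.RootCh1 Groth.Agent.Helper7.RootChB
open scoped Classical

variable {ι : Type u} {R : Type v} {M : Type w} {N : Type x}
  [Field R] [LinearOrder R] [IsStrictOrderedRing R]
  [AddCommGroup M] [Module R M] [AddCommGroup N] [Module R N] [Finite ι]
  {P : RootPairing ι R M N} [P.IsRootSystem] [P.IsCrystallographic] [P.IsReduced]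

omit [P.IsRootSystem] in
/-- A parabolic set is stable under `s_j` applied to roots pairing negatively with `α̌_j`, `j ∈ S`. -/
theorem refl_mem_of_parabolic (S : Set ι) (hS : IsParabolicSubset P S) (i j : ι) (hi : i ∈ S)
    (hj : j ∈ S) (hc : P.pairing i j < 0) : P.reflectionPerm j i ∈ S := by
  by_cases hli : LinearIndependent R ![P.root j, P.root i]
  · set z := P.pairingIn ℤ i j with hzdef
    have hz : ((z : ℤ) : R) = P.pairing i j := by
      have := P.algebraMap_pairingIn ℤ i j
      rwa [eq_intCast] at this
    have hzneg : z < 0 := by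
      rw [← hz] at hc
      exact_mod_cast hc
    have hroot : P.root (P.reflectionPerm j i) = P.root i + (-z) • P.root j := by
      rw [P.root_reflectionPerm, P.reflection_apply_root, ← hz, Int.cast_smul_eq_zsmul, neg_smul,
        sub_eq_add_neg]
    have hmem := (P.root_add_zsmul_mem_range_iff hli).1 ⟨_, hroot⟩
    have h0 := (P.root_add_zsmul_mem_range_iff hli (z := 0)).1 ⟨i, by rw [zero_smul, add_zero]⟩
    rw [Set.mem_Icc] at hmem h0
    have key : ∀ m : ℕ, (m : ℤ) ≤ -z → ∃ k ∈ S, P.root k = P.root i + (m : ℤ) • P.root j := by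
      intro m
      induction m with
      | zero =>
        intro _
        exact ⟨i, hi, by rw [Nat.cast_zero, zero_smul, add_zero]⟩
      | succ m ih =>
        intro hm
        obtain ⟨k, hk, hkr⟩ := ih (by push_cast at hm; omega)
        have hmem' : P.root i + (((m + 1 : ℕ) : ℤ)) • P.root j ∈ Set.range P.root := by
          rw [P.root_add_zsmul_mem_range_iff hli, Set.mem_Icc]
          constructor
          · have : (0 : ℤ) ≤ ((m + 1 : ℕ) : ℤ) := Int.natCast_nonneg _
            omega
          · omega
        obtain ⟨k', hk'⟩ := hmem'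
        refine ⟨k', hS.1 k j k' hk hj ?_, hk'⟩
        rw [hk', hkr]
        push_cast
        rw [add_smul, one_smul, add_assoc]
    obtain ⟨k, hk, hkr⟩ := key (-z).toNat (by omega)
    have hk2 : k = P.reflectionPerm j i := by
      apply P.root.injective
      rw [hkr, hroot]
      congr 2
      omega
    exact hk2 ▸ hk
  · rcases RootPairing.IsReduced.eq_or_eq_neg (P := P) j i hli with h | h
    · have hij : j = i := P.root.injective h
      subst hij
      rw [P.pairing_same] at hc
      exact absurd hc (by norm_num)
    · have h2 : P.reflectionPerm j i = j := by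
        apply P.root.injective
        have hc2 : P.pairing i j = -2 := by
          show P.toLinearMap (P.root i) (P.coroot j) = -2
          have h3 : P.root i = - P.root j := by rw [h, neg_neg]
          rw [h3, map_neg, LinearMap.neg_apply]
          have := P.pairing_same j
          show -(P.pairing j j) = -2
          rw [this]
        rw [P.root_reflectionPerm, P.reflection_apply_root, hc2, h]
        rw [neg_smul, smul_neg, neg_neg, two_smul]
        abel
      rw [h2]
      exact hj

omit [P.IsRootSystem] [P.IsCrystallographic] [P.IsReduced] in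
theorem pairing_refl (i j : ι) : P.pairing (P.reflectionPerm j i) j = - P.pairing i j := by
  rw [← P.pairing_reflectionPerm, P.pairing_reflectionPerm_self_right]

omit [P.IsRootSystem] [P.IsCrystallographic] [P.IsReduced] in
/-- Abstract positivity of the sum of pairings over a set stable in the negative direction. -/
theorem sum_pairing_pos (T : Finset ι) (j : ι) (hjT : j ∈ T)
    (hneg : ∀ i ∈ T, P.pairing i j < 0 → P.reflectionPerm j i ∈ T)
    (hnj : P.reflectionPerm j j ∉ T) : 0 < ∑ i ∈ T, P.pairing i j := by
  let s := P.reflectionPerm j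
  let T' := T.filter (fun i => P.pairing i j < 0)
  let U := T'.image s
  have hU : ∀ i ∈ T', s i ∈ T ∧ 0 < P.pairing (s i) j ∧ s i ≠ j := by
    intro i hi
    have hi' := Finset.mem_filter.1 hi
    refine ⟨hneg i hi'.1 hi'.2, ?_, ?_⟩
    · show 0 < P.pairing (P.reflectionPerm j i) j
      rw [pairing_refl]
      linarith [hi'.2]
    · intro h
      have h1 : i = P.reflectionPerm j j := by
        have : s (s i) = s j := congrArg s h
        rw [show s (s i) = i from P.reflectionPerm_self j i] at this
        exact this
      rw [← h1] at hnj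
      exact hnj hi'.1
  have hsum : ∑ i ∈ T, P.pairing i j =
      ∑ i ∈ T', P.pairing i j + ∑ i ∈ T.filter (fun i => ¬ P.pairing i j < 0), P.pairing i j :=
    (Finset.sum_filter_add_sum_filter_not T _ _).symm
  have hjU : j ∉ U := by
    intro h
    obtain ⟨i, hi, hij⟩ := Finset.mem_image.1 h
    exact (hU i hi).2.2 hij
  have hsub : insert j U ⊆ T.filter (fun i => ¬ P.pairing i j < 0) := by
    intro x hx
    rcases Finset.mem_insert.1 hx with rfl | hx
    · refine Finset.mem_filter.2 ⟨hjT, ?_⟩
      rw [P.pairing_same]
      norm_num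
    · obtain ⟨i, hi, rfl⟩ := Finset.mem_image.1 hx
      exact Finset.mem_filter.2 ⟨(hU i hi).1, not_lt.2 (hU i hi).2.1.le⟩
  have hge : ∑ i ∈ insert j U, P.pairing i j ≤
      ∑ i ∈ T.filter (fun i => ¬ P.pairing i j < 0), P.pairing i j := by
    apply Finset.sum_le_sum_of_subset_of_nonneg hsub
    intro i hi _
    exact not_lt.1 (Finset.mem_filter.1 hi).2
  have hU2 : ∑ i ∈ U, P.pairing i j = - ∑ i ∈ T', P.pairing i j := by
    rw [Finset.sum_image (fun a _ b _ h => s.injective h), ← Finset.sum_neg_distrib]
    refine Finset.sum_congr rfl fun i _ => ?_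
    exact pairing_refl i j
  rw [Finset.sum_insert hjU, P.pairing_same, hU2] at hge
  rw [hsum]
  linarith

omit [P.IsRootSystem] [P.IsCrystallographic] [P.IsReduced] in
theorem reflectionPerm_neg (i j : ι) :
    P.reflectionPerm (P.reflectionPerm j j) i = P.reflectionPerm j i := by
  apply P.root.injective
  rw [P.root_reflectionPerm, P.root_reflectionPerm, P.reflection_apply_root,
    P.reflection_apply_root, P.pairing_reflectionPerm_self_right, root_neg, neg_smul, smul_neg,
    neg_neg]

omit [P.IsRootSystem] [P.IsCrystallographic] [P.IsReduced] in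
theorem reflectionPerm_of_pairing_eq_zero (i j : ι) (h : P.pairing i j = 0) :
    P.reflectionPerm j i = i := by
  apply P.root.injective
  rw [P.root_reflectionPerm, P.reflection_apply_root, h, zero_smul, sub_zero]

omit [P.IsRootSystem] in
/-- For a parabolic set `S`, the vector `∑_{i ∈ S} α_i` has parabolic set `S`. -/
theorem exists_facet_parab_eq (S : Set ι) (hS : IsParabolicSubset P S) :
    ∃ F : Facet P, F.parab = S := by
  set T := (Set.toFinite S).toFinset with hT
  have hTmem : ∀ i, i ∈ T ↔ i ∈ S := fun i => Set.Finite.mem_toFinset _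
  set ξ := ∑ i ∈ T, P.root i with hξ
  have hsum : ∀ j, P.coroot' j ξ = ∑ i ∈ T, P.pairing i j := by
    intro j
    rw [hξ, map_sum]
    rfl
  -- Claim A
  have hA : ∀ j, j ∈ S → P.reflectionPerm j j ∉ S → 0 < ∑ i ∈ T, P.pairing i j := by
    intro j hj hnj
    apply sum_pairing_pos T j ((hTmem j).2 hj)
    · intro i hi hc
      exact (hTmem _).2 (refl_mem_of_parabolic S hS i j ((hTmem i).1 hi) hj hc)
    · intro h
      exact hnj ((hTmem _).1 h)
  -- Claim B
  have hB : ∀ j, j ∈ S → P.reflectionPerm j j ∈ S → ∑ i ∈ T, P.pairing i j = 0 := by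
    intro j hj hnj
    have hstab : ∀ i, i ∈ T → P.reflectionPerm j i ∈ T := by
      intro i hi
      rw [hTmem] at hi ⊢
      rcases lt_trichotomy (P.pairing i j) 0 with hc | hc | hc
      · exact refl_mem_of_parabolic S hS i j hi hj hc
      · rw [reflectionPerm_of_pairing_eq_zero i j hc]
        exact hi
      · have := refl_mem_of_parabolic S hS i (P.reflectionPerm j j) hi hnj
          (by rw [P.pairing_reflectionPerm_self_right]; linarith)
        rwa [reflectionPerm_neg] at this
    have h2 : ∑ i ∈ T, P.pairing i j = ∑ i ∈ T, P.pairing (P.reflectionPerm j i) j := by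
      symm
      apply Finset.sum_nbij' (fun i => P.reflectionPerm j i) (fun i => P.reflectionPerm j i)
      · intro i hi
        exact hstab i hi
      · intro i hi
        exact hstab i hi
      · intro i _
        exact P.reflectionPerm_self j i
      · intro i _
        exact P.reflectionPerm_self j i
      · intro i _
        rfl
    simp only [pairing_refl, Finset.sum_neg_distrib] at h2
    linarith
  refine ⟨Facet.ofVec P ξ, ?_⟩
  ext j
  show SignType.sign (P.coroot' j ξ) ≠ -1 ↔ j ∈ S
  rw [hsum, Ne, sign_eq_neg_one_iff, not_lt]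
  constructor
  · intro h
    by_contra hjS
    have hnj : P.reflectionPerm j j ∈ S := (hS.2 j).resolve_left hjS
    have hnn : P.reflectionPerm (P.reflectionPerm j j) (P.reflectionPerm j j) ∉ S := by
      rw [reflectionPerm_neg, P.reflectionPerm_self]
      exact hjS
    have := hA _ hnj hnn
    simp only [P.pairing_reflectionPerm_self_right, Finset.sum_neg_distrib] at this
    linarith
  · intro hj
    by_cases hnj : P.reflectionPerm j j ∈ S
    · rw [hB j hj hnj]
    · exact (hA j hj hnj).le

omit [P.IsRootSystem] [P.IsCrystallographic] [P.IsReduced] in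
theorem sgn_cases (F : Facet P) (i : ι) : F.sgn i = 0 ∨ F.sgn i = 1 ∨ F.sgn i = -1 := by
  cases F.sgn i <;> simp

omit [P.IsRootSystem] [P.IsCrystallographic] [P.IsReduced] in
theorem sgn_eq_ite (F : Facet P) (i : ι) :
    F.sgn i = if i ∉ F.parab then -1 else if P.reflectionPerm i i ∉ F.parab then 1 else 0 := by
  have hp : ∀ k, k ∈ F.parab ↔ F.sgn k ≠ -1 := fun k => Iff.rfl
  rcases sgn_cases F i with h | h | h
  · have h1 : i ∈ F.parab := by rw [hp, h]; decide
    have h2 : P.reflectionPerm i i ∈ F.parab := by rw [hp, sgn_neg, h]; decide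
    rw [if_neg (not_not.2 h1), if_neg (not_not.2 h2), h]
  · have h1 : i ∈ F.parab := by rw [hp, h]; decide
    have h2 : P.reflectionPerm i i ∉ F.parab := by rw [hp, sgn_neg, h]; decide
    rw [if_neg (not_not.2 h1), if_pos h2, h]
  · have h1 : i ∉ F.parab := by rw [hp, h]; decide
    rw [if_pos h1, h]

omit [P.IsRootSystem] [P.IsCrystallographic] [P.IsReduced] in
theorem facet_eq_of_parab_eq (F G : Facet P) (h : F.parab = G.parab) : F = G := by
  apply Facet.ext
  funext i
  rw [sgn_eq_ite F i, sgn_eq_ite G i, h]

omit [P.IsCrystallographic] [P.IsReduced] in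
theorem parab_isParabolic (F : Facet P) : IsParabolicSubset P F.parab := by
  obtain ⟨ξ, hξ⟩ := F.exists_sgnVec_eq
  have hp : ∀ k, k ∈ F.parab ↔ 0 ≤ P.coroot' k ξ := by
    intro k
    show F.sgn k ≠ -1 ↔ _
    rw [← hξ]
    show SignType.sign (P.coroot' k ξ) ≠ -1 ↔ _
    rw [Ne, sign_eq_neg_one_iff, not_lt]
  constructor
  · intro i j k hi hj hk
    obtain ⟨q, hq, _, h3⟩ := exists_lsq (P := P)
    rw [hp] at hi hj ⊢
    have := h3 i j k ξ hk
    have h4 : 0 ≤ q k * P.coroot' k ξ := by
      rw [this]
      exact add_nonneg (mul_nonneg (hq i).le hi) (mul_nonneg (hq j).le hj)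
    exact nonneg_of_mul_nonneg_right h4 (hq k)
  · intro i
    rw [hp, hp, coroot'_neg]
    rcases le_total 0 (P.coroot' i ξ) with h | h
    · left
      exact h
    · right
      linarith

omit [P.IsRootSystem] [P.IsCrystallographic] [P.IsReduced] in
theorem le_iff_parab_subset (F G : Facet P) : F ≤ G ↔ F.parab ⊆ G.parab := by
  have hp : ∀ (H : Facet P) k, k ∈ H.parab ↔ H.sgn k ≠ -1 := fun H k => Iff.rfl
  constructor
  · intro h i hi
    rw [hp] at hi ⊢
    rcases h i with h0 | h1
    · rw [h0]
      decide
    · rw [h1]
      exact hi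
  · intro h i
    rcases sgn_cases G i with h0 | h1 | h1
    · left
      exact h0
    · right
      have h2 : P.reflectionPerm i i ∉ G.parab := by rw [hp, sgn_neg, h1]; decide
      have h3 : P.reflectionPerm i i ∉ F.parab := fun h' => h2 (h h')
      rw [hp, sgn_neg, not_not] at h3
      rw [h1]
      have : F.sgn i = - -F.sgn i := (neg_neg _).symm
      rw [this, h3]
      decide
    · right
      have h2 : i ∉ G.parab := by rw [hp, h1]; decide
      have h3 : i ∉ F.parab := fun h' => h2 (h h')
      rw [hp, not_not] at h3
      rw [h1, h3]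

end Groth.Agent.Helper7.RootChC
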