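import Mathlib
import Groth.Prelude.Def_RootCh2
import Groth.Agent.Helper7.RootChC

set_option autoImplicit false
set_option linter.unusedSectionVars false
universe u v w x

namespace Groth.Agent.Helper7.RootChD

open RootCh Module Groth.Agent.Helper7.RootCh1 Groth.Agent.Helper7.RootChB
  Groth.Agent.Helper7.RootChC
open scoped Classical

variable {ι : Type u} {R : Type v} {M : Type w} {N : Type x}
  [Field R] [LinearOrder R] [IsStrictOrderedRing R]
  [AddCommGroup M] [Module R M] [AddCommGroup N] [Module R N] [Finite ι]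
  {P : RootPairing ι R M N} [P.IsRootSystem] [P.IsCrystallographic] [P.IsReduced]

omit [P.IsCrystallographic] [P.IsReduced] in
/-- Corners of a facet are corners of every adjacent chamber. -/
theorem corners_subset_baseCorners (F : Facet P) (b : P.Base) (hb : b ∈ F.cham) :
    F.corners ⊆ baseCorners b := by
  obtain ⟨ξ, hξ⟩ := F.exists_sgnVec_eq
  have hξF : ξ ∈ F.carrier := hξ
  rintro m ⟨hm1, hm2⟩
  exact ⟨hm1, closure_subset_closedChamber F b ξ hξF (hb hξF) hm2⟩

omit [P.IsCrystallographic] [P.IsReduced] in
/-- Pairing a vector of the span of the corners with `d b` does not depend on the adjacent chamber. -/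
theorem pair_eq_of_mem_span_corners (d : P.Base → N) (hd : IsCCS d) (F : Facet P)
    (b b' : P.Base) (hb : b ∈ F.cham) (hb' : b' ∈ F.cham) (x : M)
    (hx : x ∈ Submodule.span R F.corners) :
    P.toLinearMap x (d b) = P.toLinearMap x (d b') := by
  induction hx using Submodule.span_induction with
  | mem m hm =>
    exact hd.corner_eq b b' m (corners_subset_baseCorners F b hb hm)
      (corners_subset_baseCorners F b' hb' hm)
  | zero => rw [map_zero, LinearMap.zero_apply, LinearMap.zero_apply]
  | add x y _ _ hx hy => rw [map_add, LinearMap.add_apply, LinearMap.add_apply, hx, hy]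
  | smul r x _ hx => rw [map_smul, LinearMap.smul_apply, LinearMap.smul_apply, hx]

omit [P.IsCrystallographic] [P.IsReduced] in
theorem rc_refl (b : P.Base) (i l : ι) (j : b.support) :
    rc b (P.reflectionPerm l i) j = rc b i j - P.pairing i l * rc b l j := by
  show P.toLinearMap (P.root (P.reflectionPerm l i)) (fundCoweight b j) = _
  rw [P.root_reflectionPerm, P.reflection_apply_root, map_sub, LinearMap.sub_apply, map_smul,
    LinearMap.smul_apply, smul_eq_mul]
  rfl

/-- The sum of the roots of an elementary set lies in the span of the corners. -/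
theorem sum_root_psi_mem (F : Facet P) (m : M) (hm : m ∈ F.corners) :
    (∑ i ∈ (Set.toFinite (F.Psi m)).toFinset, P.root i) ∈ Submodule.span R F.corners := by
  obtain ⟨ξ, hξ⟩ := F.exists_sgnVec_eq
  have hξF : ξ ∈ F.carrier := hξ
  obtain ⟨b, hb⟩ := exists_base_mem_closedChamber (P := P) ξ
  have hcor := corners_eq F b ξ hξF hb
  rw [hcor] at hm
  obtain ⟨j₀, hj₀, rfl⟩ := hm
  have hPsi : ∀ i, i ∈ F.Psi (fundWeight b j₀) ↔
      (rc b i j₀ = 1 ∧ ∀ j : b.support, 0 < P.coroot' j ξ → j ≠ j₀ → rc b i j = 0) := by
    intro i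
    constructor
    · rintro ⟨h1, h2⟩
      refine ⟨h1 _ ((corr_iff b j₀ _).2 rfl), fun j hj hne => ?_⟩
      exact h2 (fundWeight b j) (by rw [hcor]; exact ⟨j, hj, rfl⟩)
        (fun h => hne (fundWeight_injective b h)) _ ((corr_iff b j _).2 rfl)
    · rintro ⟨h1, h2⟩
      refine ⟨fun x hx => ?_, fun w' hw' hne x hx => ?_⟩
      · rw [(corr_iff b j₀ x).1 hx]
        exact h1
      · rw [hcor] at hw'
        obtain ⟨j, hj, rfl⟩ := hw'
        rw [(corr_iff b j x).1 hx]
        exact h2 j hj (fun h => hne (by rw [h]))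
  set T := (Set.toFinite (F.Psi (fundWeight b j₀))).toFinset with hTdef
  have hT : ∀ i, i ∈ T ↔
      (rc b i j₀ = 1 ∧ ∀ j : b.support, 0 < P.coroot' j ξ → j ≠ j₀ → rc b i j = 0) :=
    fun i => (Set.Finite.mem_toFinset _).trans (hPsi i)
  rw [sum_fundWeight b (∑ i ∈ T, P.root i)]
  refine Submodule.sum_mem _ fun l _ => ?_
  by_cases hl : 0 < P.coroot' l ξ
  · exact Submodule.smul_mem _ _ (Submodule.subset_span (by rw [hcor]; exact ⟨l, hl, rfl⟩))
  · have hrcl : ∀ j : b.support, 0 < P.coroot' j ξ → rc b l j = 0 := by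
      intro j hj
      have hlj : l ≠ j := fun h => hl (h ▸ hj)
      show P.root' l (fundCoweight b j) = 0
      rw [root'_fundCoweight, if_neg hlj]
    have hstab : ∀ i, i ∈ T → P.reflectionPerm l i ∈ T := by
      intro i hi
      rw [hT] at hi ⊢
      refine ⟨?_, fun j hj hne => ?_⟩
      · rw [rc_refl, hrcl j₀ hj₀, mul_zero, sub_zero]
        exact hi.1
      · rw [rc_refl, hrcl j hj, mul_zero, sub_zero]
        exact hi.2 j hj hne
    have h2 : ∑ i ∈ T, P.pairing i l = ∑ i ∈ T, P.pairing (P.reflectionPerm l i) l := by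
      symm
      apply Finset.sum_nbij' (fun i => P.reflectionPerm l i) (fun i => P.reflectionPerm l i)
      · intro i hi
        exact hstab i hi
      · intro i hi
        exact hstab i hi
      · intro i _
        exact P.reflectionPerm_self l i
      · intro i _
        exact P.reflectionPerm_self l i
      · intro i _
        rfl
    simp only [pairing_refl, Finset.sum_neg_distrib] at h2
    have h3 : P.coroot' l (∑ i ∈ T, P.root i) = 0 := by
      rw [map_sum]
      show ∑ i ∈ T, P.pairing i l = 0
      linarith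
    rw [h3, zero_smul]
    exact Submodule.zero_mem _

end Groth.Agent.Helper7.RootChD
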