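import Mathlib
import Groth.Prelude.Def_RootCh2
import Groth.Agent.Helper7.RootChD

set_option autoImplicit false
set_option linter.unusedSectionVars false
universe u v w x

namespace Groth.Agent.Helper7.RootChE

open RootCh Module Groth.Agent.Helper7.RootCh1 Groth.Agent.Helper7.RootChB
  Groth.Agent.Helper7.RootChC Groth.Agent.Helper7.RootChD
open scoped Classical

variable {ι : Type u} {R : Type v} {M : Type w} {N : Type x}
  [Field R] [LinearOrder R] [IsStrictOrderedRing R]
  [AddCommGroup M] [Module R M] [AddCommGroup N] [Module R N] [Finite ι]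
  {P : RootPairing ι R M N} [P.IsRootSystem] [P.IsCrystallographic] [P.IsReduced]

omit [P.IsCrystallographic] [P.IsReduced] in
theorem isPos_iff_rc (b : P.Base) (i : ι) : b.IsPos i ↔ ∀ l : b.support, 0 ≤ rc b i l := by
  obtain ⟨f, hf0, hf1, hf2⟩ := b.exists_root_eq_sum_int i
  have hrc : ∀ l : b.support, rc b i l = (f l : R) := by
    intro l
    show P.toLinearMap (P.root i) (fundCoweight b l) = _
    rw [hf2, map_sum, LinearMap.sum_apply, Finset.sum_eq_single l.1]
    · rw [map_zsmul, LinearMap.smul_apply, zsmul_eq_mul]
      have : P.toLinearMap (P.root l) (fundCoweight b l) = 1 := root'_fundCoweight_self b l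
      rw [this, mul_one]
    · intro j hj hne
      rw [map_zsmul, LinearMap.smul_apply]
      have : P.toLinearMap (P.root j) (fundCoweight b l) = 0 :=
        root'_fundCoweight_of_ne b l ⟨j, hj⟩ (fun h => hne (congrArg Subtype.val h))
      rw [this, smul_zero]
    · intro h
      exact absurd l.2 h
  rw [RootPairing.Base.isPos_iff', RootPairing.Base.height_eq_sum hf2]
  constructor
  · intro hpos l
    rw [hrc]
    have hf : 0 < f := by
      rcases hf1 with h | h
      · exact h
      · exfalso
        have hle : ∑ j ∈ b.support, f j ≤ 0 := Finset.sum_nonpos fun j _ => h.le j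
        have h0 : ∑ j ∈ b.support, f j = 0 := le_antisymm hle hpos
        have := b.height_ne_zero i
        rw [RootPairing.Base.height_eq_sum hf2] at this
        exact this h0
    exact_mod_cast hf.le l
  · intro h
    apply Finset.sum_nonneg
    intro j hj
    have := h ⟨j, hj⟩
    rw [hrc] at this
    exact_mod_cast this

omit [P.IsCrystallographic] [P.IsReduced] in
theorem isPos_iff_cc (b : P.Base) (i : ι) : b.IsPos i ↔ ∀ l : b.support, 0 ≤ cc b i l := by
  rw [isPos_iff_rc]
  constructor
  · intro h l
    by_contra hn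
    push Not at hn
    have := (cc_neg_iff b i l).1 hn
    exact absurd (h l) (not_le.2 this)
  · intro h l
    by_contra hn
    push Not at hn
    have := (cc_neg_iff b i l).2 hn
    exact absurd (h l) (not_le.2 this)

omit [P.IsRootSystem] [P.IsCrystallographic] [P.IsReduced] in
theorem root_image_refl (b : P.Base) (j : ι) :
    P.root '' ((P.reflectionPerm j) '' (b.support : Set ι)) =
      (P.reflection j) '' (P.root '' (b.support : Set ι)) := by
  rw [Set.image_image, Set.image_image]
  refine Set.image_congr fun l _ => ?_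
  exact P.root_reflectionPerm j l

omit [P.IsRootSystem] [P.IsCrystallographic] [P.IsReduced] in
theorem refl_mem_closure (b : P.Base) (j : ι) (x : M)
    (hx : x ∈ AddSubmonoid.closure (P.root '' (b.support : Set ι))) :
    P.reflection j x ∈
      AddSubmonoid.closure (P.root '' ((P.reflectionPerm j) '' (b.support : Set ι))) := by
  rw [root_image_refl]
  have h := AddMonoidHom.map_mclosure ((P.reflection j : M →ₗ[R] M).toAddMonoidHom)
    (P.root '' (b.support : Set ι))
  have h2 : P.reflection j x ∈ (AddSubmonoid.closure (P.root '' (b.support : Set ι))).map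
      ((P.reflection j : M →ₗ[R] M).toAddMonoidHom) := ⟨x, hx, rfl⟩
  rw [h] at h2
  exact h2

/-- The image of a base under a reflection. -/
noncomputable def reflBase (b : P.Base) (j : ι) : P.Base :=
  RootPairing.Base.mk' P ((P.reflectionPerm j) '' (b.support : Set ι))
    (by
      apply LinearIndepOn.image_of_comp
      have h := b.linearIndepOn_root.map_injOn (P.reflection j : M →ₗ[R] M)
        ((P.reflection j).injective.injOn)
      have h2 : (P.root ∘ (P.reflectionPerm j) : ι → M) =
          ((P.reflection j : M →ₗ[R] M) ∘ P.root) := by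
        funext l
        exact P.root_reflectionPerm j l
      rw [h2]
      exact h)
    (by
      intro i
      have hi : P.root i = P.reflection j (P.root (P.reflectionPerm j i)) := by
        rw [← P.root_reflectionPerm, P.reflectionPerm_self]
      rcases b.root_mem_or_neg_mem (P.reflectionPerm j i) with h | h
      · left
        rw [hi]
        exact refl_mem_closure b j _ h
      · right
        rw [hi, ← map_neg]
        exact refl_mem_closure b j _ h)

theorem mem_reflBase_support (b : P.Base) (j k : ι) :
    k ∈ (reflBase b j).support ↔ P.reflectionPerm j k ∈ b.support := by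
  show k ∈ (Set.toFinite ((P.reflectionPerm j) '' (b.support : Set ι))).toFinset ↔ _
  rw [Set.Finite.mem_toFinset]
  constructor
  · rintro ⟨l, hl, rfl⟩
    rw [P.reflectionPerm_self]
    exact hl
  · intro h
    exact ⟨P.reflectionPerm j k, h, P.reflectionPerm_self j k⟩

omit [P.IsCrystallographic] [P.IsReduced] in
theorem eq_fundWeight_iff (b : P.Base) (k : b.support) (x : M) :
    x = fundWeight b k ↔ ∀ k' : b.support, P.coroot' k' x = if k' = k then 1 else 0 := by
  constructor
  · rintro rfl k'
    exact coroot'_fundWeight b k' k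
  · intro h
    rw [sum_fundWeight b x, Finset.sum_eq_single k]
    · rw [h k, if_pos rfl, one_smul]
    · intro k' _ hne
      rw [h k', if_neg hne, zero_smul]
    · intro hn
      exact absurd (Finset.mem_univ k) hn

omit [P.IsCrystallographic] [P.IsReduced] in
theorem eq_fundCoweight_iff (b : P.Base) (k : b.support) (y : N) :
    y = fundCoweight b k ↔ ∀ k' : b.support, P.root' k' y = if k' = k then 1 else 0 :=
  eq_fundWeight_iff (P := P.flip) b.flip k y

/-- The index in the reflected base corresponding to an index of the base. -/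
noncomputable def reflIdx (b : P.Base) (j : ι) (l : b.support) : (reflBase b j).support :=
  ⟨P.reflectionPerm j l, (mem_reflBase_support b j _).2 (by rw [P.reflectionPerm_self]; exact l.2)⟩

theorem reflIdx_surj (b : P.Base) (j : ι) (k : (reflBase b j).support) :
    ∃ l : b.support, reflIdx b j l = k :=
  ⟨⟨P.reflectionPerm j k, (mem_reflBase_support b j _).1 k.2⟩,
    Subtype.ext (P.reflectionPerm_self j k)⟩

theorem reflIdx_inj (b : P.Base) (j : ι) (l l' : b.support) (h : reflIdx b j l = reflIdx b j l') :
    l = l' := by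
  have h1 : P.reflectionPerm j l = P.reflectionPerm j l' := congrArg Subtype.val h
  exact Subtype.ext ((P.reflectionPerm j).injective h1)

omit [P.IsRootSystem] [P.IsCrystallographic] [P.IsReduced] in
theorem root'_reflectionPerm (i k : ι) (y : N) :
    P.root' (P.reflectionPerm i k) y = P.root' k (P.coreflection i y) := by
  have h := P.flip.coroot'_reflectionPerm (i := i) (j := k)
  exact LinearMap.congr_fun h y

theorem fundWeight_reflBase (b : P.Base) (j : ι) (l : b.support) :
    fundWeight (reflBase b j) (reflIdx b j l) = P.reflection j (fundWeight b l) := by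
  symm
  rw [eq_fundWeight_iff]
  intro k'
  obtain ⟨l', rfl⟩ := reflIdx_surj b j k'
  show P.coroot' (P.reflectionPerm j l') (P.reflection j (fundWeight b l)) = _
  rw [P.coroot'_reflectionPerm, LinearMap.comp_apply, LinearEquiv.coe_coe, P.reflection_same,
    coroot'_fundWeight]
  by_cases h : l' = l
  · rw [if_pos h, if_pos (by rw [h])]
  · rw [if_neg h, if_neg (fun h' => h (reflIdx_inj b j _ _ h'))]

theorem fundCoweight_reflBase (b : P.Base) (j : ι) (l : b.support) :
    fundCoweight (reflBase b j) (reflIdx b j l) = P.coreflection j (fundCoweight b l) := by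
  symm
  rw [eq_fundCoweight_iff]
  intro k'
  obtain ⟨l', rfl⟩ := reflIdx_surj b j k'
  show P.root' (P.reflectionPerm j l') (P.coreflection j (fundCoweight b l)) = _
  rw [root'_reflectionPerm, P.coreflection_same, root'_fundCoweight]
  by_cases h : l' = l
  · rw [if_pos h, if_pos (by rw [h])]
  · rw [if_neg h, if_neg (fun h' => h (reflIdx_inj b j _ _ h'))]

theorem rc_reflBase (b : P.Base) (j i : ι) (l : b.support) :
    rc (reflBase b j) i (reflIdx b j l) = rc b (P.reflectionPerm j i) l := by
  show P.root' i (fundCoweight (reflBase b j) (reflIdx b j l)) =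
    P.root' (P.reflectionPerm j i) (fundCoweight b l)
  rw [fundCoweight_reflBase, root'_reflectionPerm]

theorem isPos_reflBase (b : P.Base) (j i : ι) :
    (reflBase b j).IsPos i ↔ b.IsPos (P.reflectionPerm j i) := by
  rw [isPos_iff_rc, isPos_iff_rc]
  constructor
  · intro h l
    rw [← rc_reflBase]
    exact h _
  · intro h k
    obtain ⟨l, rfl⟩ := reflIdx_surj b j k
    rw [rc_reflBase]
    exact h l

omit [P.IsRootSystem] [P.IsCrystallographic] [P.IsReduced] in
theorem isPos_or_neg (b : P.Base) (i : ι) : b.IsPos i ∨ b.IsPos (P.reflectionPerm i i) :=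
  RootPairing.Base.IsPos.or_neg b i

omit [P.IsRootSystem] [P.IsCrystallographic] [P.IsReduced] in
theorem isPos_neg_iff (b : P.Base) (i : ι) : b.IsPos (P.reflectionPerm i i) ↔ ¬ b.IsPos i :=
  RootPairing.Base.IsPos.neg_iff_not b i

omit [P.IsCrystallographic] [P.IsReduced] in
/-- Signs of pairings of a vector of the closed chamber with coroots. -/
theorem coroot'_nonneg_of_isPos (b : P.Base) (ξ : M) (hξ : ξ ∈ closedChamber b) (i : ι)
    (hi : b.IsPos i) : 0 ≤ P.coroot' i ξ :=
  coroot'_nonneg b i ξ hξ ((isPos_iff_cc b i).1 hi)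

omit [P.IsCrystallographic] [P.IsReduced] in
theorem coroot'_nonpos_of_not_isPos (b : P.Base) (ξ : M) (hξ : ξ ∈ closedChamber b) (i : ι)
    (hi : ¬ b.IsPos i) : P.coroot' i ξ ≤ 0 := by
  have h1 : b.IsPos (P.reflectionPerm i i) := (isPos_neg_iff b i).2 hi
  have h2 := coroot'_nonneg_of_isPos b ξ hξ _ h1
  rw [coroot'_neg] at h2
  linarith

omit [P.IsCrystallographic] [P.IsReduced] in
/-- Expansion of a covector in simple coroots. -/
theorem sum_coroot (b : P.Base) (y : N) :
    y = ∑ l : b.support, P.toLinearMap (fundWeight b l) y • P.coroot l := by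
  conv_lhs => rw [← b.toCoweightBasis.sum_repr y]
  refine Finset.sum_congr rfl fun l _ => ?_
  rw [b.toCoweightBasis_apply]
  congr 1
  have h : P.toLinearMap (fundWeight b l) = b.toCoweightBasis.coord l :=
    P.toLinearMap.apply_symm_toPerfPair_self _
  rw [h]
  rfl

omit [P.IsCrystallographic] [P.IsReduced] in
theorem card_support_eq (b b₁ : P.Base) : b₁.support.card = b.support.card := by
  have h1 := Module.finrank_eq_card_basis b.toWeightBasis
  have h2 := Module.finrank_eq_card_basis b₁.toWeightBasis
  rw [Fintype.card_coe] at h1 h2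
  rw [← h1, ← h2]

theorem baseCorners_eq (b : P.Base) : baseCorners b = Set.range (fundWeight b) := by
  ext w
  constructor
  · rintro ⟨⟨b', i', rfl⟩, hw⟩
    obtain ⟨j, hj⟩ := exists_eq_fundWeight_of_mem_closedChamber b b' i' hw
    exact ⟨j, hj.symm⟩
  · rintro ⟨j, rfl⟩
    exact ⟨⟨b, j, rfl⟩, fundWeight_mem_closedChamber b j⟩

theorem adj_fundWeight (b : P.Base) (j : ι) (l : b.support) (hl : (l : ι) ≠ j) (hj : j ∈ b.support) :
    fundWeight (reflBase b j) (reflIdx b j l) = fundWeight b l := by
  rw [fundWeight_reflBase, P.reflection_apply]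
  have h := coroot'_fundWeight b ⟨j, hj⟩ l
  rw [if_neg (fun h' => hl (congrArg Subtype.val h').symm)] at h
  have h' : P.coroot' j (fundWeight b l) = 0 := h
  rw [h', zero_smul, sub_zero]

theorem adj_mem_baseCorners (b : P.Base) (j : ι) (l : b.support) (hl : (l : ι) ≠ j)
    (hj : j ∈ b.support) : fundWeight b l ∈ baseCorners (reflBase b j) := by
  rw [baseCorners_eq]
  exact ⟨reflIdx b j l, adj_fundWeight b j l hl hj⟩

theorem adj_not_mem (b : P.Base) (j : ι) (hj : j ∈ b.support) :
    fundWeight b ⟨j, hj⟩ ∉ baseCorners (reflBase b j) := by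
  rintro ⟨_, h⟩
  have h1 : P.reflectionPerm j j ∈ (reflBase b j).support := by
    rw [mem_reflBase_support, P.reflectionPerm_self]
    exact hj
  have h2 := h _ h1
  rw [coroot'_neg, coroot'_fundWeight_self b ⟨j, hj⟩] at h2
  linarith

theorem adj_ncard (b : P.Base) (j : ι) (hj : j ∈ b.support) :
    (baseCorners (reflBase b j) ∩ baseCorners b).ncard + 1 = (reflBase b j).support.card := by
  have hset : baseCorners (reflBase b j) ∩ baseCorners b =
      ↑((Finset.univ.erase (⟨j, hj⟩ : b.support)).image (fundWeight b)) := by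
    ext x
    simp only [Set.mem_inter_iff, Finset.coe_image, Set.mem_image, Finset.mem_coe,
      Finset.mem_erase, Finset.mem_univ, and_true]
    constructor
    · rintro ⟨h1, h2⟩
      rw [baseCorners_eq b] at h2
      obtain ⟨l, rfl⟩ := h2
      refine ⟨l, ?_, rfl⟩
      rintro rfl
      exact adj_not_mem b j hj h1
    · rintro ⟨l, hl, rfl⟩
      refine ⟨adj_mem_baseCorners b j l (fun h => hl (Subtype.ext h)) hj, ?_⟩
      rw [baseCorners_eq b]
      exact ⟨l, rfl⟩
  rw [hset, Set.ncard_coe_finset, Finset.card_image_of_injective _ (fundWeight_injective b),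
    Finset.card_erase_of_mem (Finset.mem_univ _), Finset.card_univ, Fintype.card_coe,
    card_support_eq b (reflBase b j)]
  have : 0 < b.support.card := Finset.card_pos.2 ⟨j, hj⟩
  omega

theorem adj_pos (b : P.Base) (j : ι) (hj : j ∈ b.support) (k : ι) :
    ((reflBase b j).IsPos k ∧ ¬ b.IsPos k) ↔ k = P.reflectionPerm j j := by
  rw [isPos_reflBase]
  constructor
  · rintro ⟨h1, h2⟩
    by_cases hk : P.reflectionPerm j k = j
    · have : k = P.reflectionPerm j (P.reflectionPerm j k) := (P.reflectionPerm_self j k).symm
      rw [hk] at this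
      exact this
    · exfalso
      have := RootPairing.Base.IsPos.reflectionPerm h1 hj hk
      rw [P.reflectionPerm_self] at this
      exact h2 this
  · rintro rfl
    rw [P.reflectionPerm_self]
    refine ⟨RootPairing.Base.isPos_of_mem_support hj, fun h' => ?_⟩
    exact ((isPos_neg_iff b j).1 h') (RootPairing.Base.isPos_of_mem_support hj)

/-- Across a wall, `d` moves along the simple coroot, in the nonpositive direction. -/
theorem adj_delta (d : P.Base → N) (hd : IsCCS d) (b : P.Base) (j : ι) (hj : j ∈ b.support) :
    ∃ t : R, t ≤ 0 ∧ d b - d (reflBase b j) = t • P.coroot j := by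
  set b₁ := reflBase b j with hb₁
  set δ := d b - d b₁ with hδ
  have hzero : ∀ l : b.support, (l : ι) ≠ j → P.toLinearMap (fundWeight b l) δ = 0 := by
    intro l hl
    have h1 : fundWeight b l ∈ baseCorners b := by
      rw [baseCorners_eq]
      exact ⟨l, rfl⟩
    have h2 := adj_mem_baseCorners b j l hl hj
    have := hd.corner_eq b b₁ _ h1 h2
    rw [hδ, map_sub, this, sub_self]
  refine ⟨P.toLinearMap (fundWeight b ⟨j, hj⟩) δ, ?_, ?_⟩
  · have hdelta : δ = P.toLinearMap (fundWeight b ⟨j, hj⟩) δ • P.coroot j := by
      conv_lhs => rw [sum_coroot b δ]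
      rw [Finset.sum_eq_single (⟨j, hj⟩ : b.support)]
      · intro l _ hl
        rw [hzero l (fun h => hl (Subtype.ext h)), zero_smul]
      · intro h
        exact absurd (Finset.mem_univ _) h
    have hB2 := hd.wall_le b₁ b (P.reflectionPerm j j) (adj_ncard b j hj) (adj_pos b j hj)
    rw [root'_neg, root'_neg, neg_le_neg_iff] at hB2
    have h3 : P.root' j δ ≤ 0 := by
      rw [hδ, map_sub]
      linarith
    rw [hdelta, map_smul, smul_eq_mul] at h3
    have h4 : P.root' j (P.coroot j) = 2 := P.pairing_same j
    rw [h4] at h3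
    linarith
  · conv_lhs => rw [sum_coroot b δ]
    rw [Finset.sum_eq_single (⟨j, hj⟩ : b.support)]
    · intro l _ hl
      rw [hzero l (fun h => hl (Subtype.ext h)), zero_smul]
    · intro h
      exact absurd (Finset.mem_univ _) h

/-- The key inequality: a fundamental weight of `b'` pairs minimally with `d b'`. -/
theorem key_le (d : P.Base → N) (hd : IsCCS d) (b' : P.Base) (i' : b'.support) (b : P.Base) :
    P.toLinearMap (fundWeight b' i') (d b') ≤ P.toLinearMap (fundWeight b' i') (d b) := by
  set m := fundWeight b' i' with hm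
  have hmb' : m ∈ closedChamber b' := fundWeight_mem_closedChamber b' i'
  suffices H : ∀ n : ℕ, ∀ b : P.Base, {i | b'.IsPos i ∧ ¬ b.IsPos i}.ncard = n →
      P.toLinearMap m (d b') ≤ P.toLinearMap m (d b) from H _ b rfl
  intro n
  induction n using Nat.strong_induction_on with
  | _ n ih =>
    intro b hn
    by_cases hall : ∀ j ∈ b.support, b'.IsPos j
    · have hmb : m ∈ closedChamber b := fun j hj =>
        coroot'_nonneg_of_isPos b' m hmb' j (hall j hj)
      have h1 : m ∈ baseCorners b' := ⟨⟨b', i', rfl⟩, hmb'⟩
      have h2 : m ∈ baseCorners b := ⟨⟨b', i', rfl⟩, hmb⟩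
      exact (hd.corner_eq b' b m h1 h2).le
    · push Not at hall
      obtain ⟨j, hj, hjneg⟩ := hall
      set b₁ := reflBase b j with hb₁
      have hnj : P.reflectionPerm j j ∈ {i | b'.IsPos i ∧ ¬ b.IsPos i} := by
        refine ⟨(isPos_neg_iff b' j).2 hjneg, fun h' => ?_⟩
        exact ((isPos_neg_iff b j).1 h') (RootPairing.Base.isPos_of_mem_support hj)
      have hsub : {i | b'.IsPos i ∧ ¬ b₁.IsPos i} ⊆
          {i | b'.IsPos i ∧ ¬ b.IsPos i} \ {P.reflectionPerm j j} := by
        rintro i ⟨hi1, hi2⟩
        rw [hb₁, isPos_reflBase] at hi2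
        refine ⟨⟨hi1, fun hbi => ?_⟩, ?_⟩
        · have hij : i ≠ j := by
            rintro rfl
            exact hjneg hi1
          exact hi2 (RootPairing.Base.IsPos.reflectionPerm hbi hj hij)
        · intro hi
          have hi' : i = P.reflectionPerm j j := hi
          rw [hi', P.reflectionPerm_self] at hi2
          exact hi2 (RootPairing.Base.isPos_of_mem_support hj)
      have hfin : ({i | b'.IsPos i ∧ ¬ b.IsPos i} : Set ι).Finite := Set.toFinite _
      have hlt : {i | b'.IsPos i ∧ ¬ b₁.IsPos i}.ncard < n := by
        rw [← hn]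
        calc {i | b'.IsPos i ∧ ¬ b₁.IsPos i}.ncard
            ≤ ({i | b'.IsPos i ∧ ¬ b.IsPos i} \ {P.reflectionPerm j j}).ncard :=
              Set.ncard_le_ncard hsub (hfin.subset Set.sdiff_subset)
          _ < {i | b'.IsPos i ∧ ¬ b.IsPos i}.ncard :=
              Set.ncard_sdiff_singleton_lt_of_mem hnj hfin
      have hIH := ih _ hlt b₁ rfl
      obtain ⟨t, ht, hdelta⟩ := adj_delta d hd b j hj
      have h5 : P.toLinearMap m (d b) = P.toLinearMap m (d b₁) + t * P.coroot' j m := by
        have : d b = d b₁ + t • P.coroot j := by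
          rw [← hdelta]
          abel
        rw [this, map_add, map_smul, smul_eq_mul]
        rfl
      have h6 : P.coroot' j m ≤ 0 := coroot'_nonpos_of_not_isPos b' m hmb' j hjneg
      have h7 : 0 ≤ t * P.coroot' j m := mul_nonneg_of_nonpos_of_nonpos ht h6
      linarith

end Groth.Agent.Helper7.RootChE
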