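import Mathlib
import Groth.Prelude.Def_RootCh2
import Groth.Agent.Helper7.RootChE
import Groth.Agent.Helper7.Gordan

set_option autoImplicit false
set_option linter.unusedSectionVars false
universe u v w x

namespace Groth.Agent.Helper7.RootChF

open RootCh Module Groth.Agent.Helper7.RootCh1 Groth.Agent.Helper7.RootChB
  Groth.Agent.Helper7.RootChD Groth.Agent.Helper7.RootChE
open scoped Classical

variable {ι : Type u} {R : Type v} {M : Type w} {N : Type x}
  [Field R] [LinearOrder R] [IsStrictOrderedRing R]
  [AddCommGroup M] [Module R M] [AddCommGroup N] [Module R N] [Finite ι]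
  {P : RootPairing ι R M N} [P.IsRootSystem] [P.IsCrystallographic] [P.IsReduced]

omit [LinearOrder R] [IsStrictOrderedRing R] [P.IsRootSystem] [P.IsCrystallographic]
  [P.IsReduced] in
theorem base_support_injective :
    Function.Injective (fun b : P.Base => b.support) := by
  intro b b' h
  cases b
  cases b'
  simp only at h
  subst h
  rfl

omit [LinearOrder R] [IsStrictOrderedRing R] [P.IsRootSystem] [P.IsCrystallographic]
  [P.IsReduced] in
theorem finite_base : Finite P.Base :=
  Finite.of_injective _ (base_support_injective (P := P))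

/-- A perturbation of a vector in a given direction lies with it in a common closed chamber. -/
theorem exists_base_perturb (ξF ξ : M) :
    ∃ ε : R, 0 < ε ∧ ∃ b : P.Base, ξF ∈ closedChamber b ∧ ξF + ε • ξ ∈ closedChamber b := by
  obtain ⟨ε, hε, hεlt⟩ := exists_eps (κ := {i : ι // P.coroot' i ξF ≠ 0})
    (fun k => |P.coroot' k.1 ξF|) (fun k => P.coroot' k.1 ξ) (fun k => abs_pos.2 k.2)
  obtain ⟨b, hb⟩ := exists_base_mem_closedChamber (P := P) (ξF + ε • ξ)
  refine ⟨ε, hε, b, fun j hj => ?_, hb⟩
  by_contra hneg
  push Not at hneg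
  have h1 := hεlt ⟨j, hneg.ne⟩
  have h2 := hb j hj
  rw [map_add, map_smul, smul_eq_mul] at h2
  have h3 : |P.coroot' j ξF| = -P.coroot' j ξF := abs_of_neg hneg
  have h4 : ε * P.coroot' j ξ ≤ ε * |P.coroot' j ξ| :=
    mul_le_mul_of_nonneg_left (le_abs_self _) hε.le
  simp only at h1
  linarith

omit [P.IsCrystallographic] [P.IsReduced] in
theorem convex_hyper (d : P.Base → N) (m : M) : Convex R (hyper d m) := by
  intro x hx y hy a b _ _ hab b' hm
  rw [map_add, map_smul, map_smul, hx b' hm, hy b' hm, ← add_smul, hab, one_smul]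

omit [P.IsCrystallographic] [P.IsReduced] in
theorem convex_halfClosed (d : P.Base → N) (m : M) : Convex R (halfClosed d m) := by
  intro x hx y hy a b ha hb hab b' hm
  have h1 := hx b' hm
  have h2 := hy b' hm
  rw [map_add, map_smul, map_smul, smul_eq_mul, smul_eq_mul]
  have h3 : P.toLinearMap m (d b') = a * P.toLinearMap m (d b') + b * P.toLinearMap m (d b') := by
    rw [← add_mul, hab, one_mul]
  rw [h3]
  exact add_le_add (mul_le_mul_of_nonneg_left h1 ha) (mul_le_mul_of_nonneg_left h2 hb)

omit [P.IsCrystallographic] [P.IsReduced] in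
theorem pair_eq_sum (b : P.Base) (ξ : M) (y : N) :
    P.toLinearMap ξ y = ∑ j : b.support, P.coroot' j ξ * P.toLinearMap (fundWeight b j) y := by
  conv_lhs => rw [sum_fundWeight b ξ]
  simp only [map_sum, map_smul, LinearMap.sum_apply, LinearMap.smul_apply, smul_eq_mul]

/-- The dual solid of a facet is cut out by the hyperplanes of its corners and the half-spaces of
the corners of the adjacent chambers. -/
theorem dualSolid_eq (d : P.Base → N) (hd : IsCCS d) (F : Facet P) :
    dualSolid d F = (⋂ m ∈ F.corners, hyper d m) ∩ ⋂ m ∈ F.corners', halfClosed d m := by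
  apply Set.Subset.antisymm
  · apply convexHull_min
    · rintro _ ⟨b, hb, rfl⟩
      refine ⟨?_, ?_⟩
      · simp only [Set.mem_iInter]
        intro m hm b' hm'
        exact hd.corner_eq b b' m (corners_subset_baseCorners F b hb hm) hm'
      · simp only [Set.mem_iInter]
        intro m _ b' hm'
        rw [baseCorners_eq] at hm'
        obtain ⟨i', rfl⟩ := hm'
        exact key_le d hd b' i' b
    · apply Convex.inter
      · exact convex_iInter₂ fun m _ => convex_hyper d m
      · exact convex_iInter₂ fun m _ => convex_halfClosed d m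
  · rintro y ⟨hy1, hy2⟩
    simp only [Set.mem_iInter] at hy1 hy2
    by_contra hy
    have := finite_base (P := P)
    have hfin : (d '' F.cham).Finite := (Set.toFinite F.cham).image d
    obtain ⟨f, hf⟩ := Gordan.exists_dual_lt_of_notMem (R := R) (d '' F.cham) hfin y hy
    set ξ : M := P.toPerfPair.symm f with hξdef
    have hξ : P.toLinearMap ξ = f := P.toLinearMap.apply_symm_toPerfPair_self f
    obtain ⟨ξF, hξF'⟩ := F.exists_sgnVec_eq
    have hξF : ξF ∈ F.carrier := hξF'
    obtain ⟨ε, hε, b₀, hb1, hb2⟩ := exists_base_perturb (P := P) ξF ξ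
    have hb₀ : b₀ ∈ F.cham := carrier_subset_closedChamber F b₀ ξF hξF hb1
    have hcor := corners_eq F b₀ ξF hξF hb1
    -- pairing with ξF
    have hF : P.toLinearMap ξF y = P.toLinearMap ξF (d b₀) := by
      rw [pair_eq_sum b₀ ξF y, pair_eq_sum b₀ ξF (d b₀)]
      apply Finset.sum_congr rfl
      intro j _
      by_cases hj : 0 < P.coroot' j ξF
      · have hm : fundWeight b₀ j ∈ F.corners := by
          rw [hcor]
          exact ⟨j, hj, rfl⟩
        rw [hy1 _ hm b₀ (corners_subset_baseCorners F b₀ hb₀ hm)]
      · have h0 : P.coroot' j ξF = 0 := le_antisymm (not_lt.1 hj) (hb1 j j.2)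
        rw [h0, zero_mul, zero_mul]
    -- pairing with the perturbation
    have hG : P.toLinearMap (ξF + ε • ξ) (d b₀) ≤ P.toLinearMap (ξF + ε • ξ) y := by
      rw [pair_eq_sum b₀ (ξF + ε • ξ) y, pair_eq_sum b₀ (ξF + ε • ξ) (d b₀)]
      apply Finset.sum_le_sum
      intro j _
      have hm : fundWeight b₀ j ∈ baseCorners b₀ := by
        rw [baseCorners_eq]
        exact ⟨j, rfl⟩
      have hm' : fundWeight b₀ j ∈ F.corners' := by
        simp only [Facet.corners', Set.mem_iUnion]
        exact ⟨b₀, hb₀, hm⟩
      have h1 := hy2 _ hm' b₀ hm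
      exact mul_le_mul_of_nonneg_left h1 (hb2 j j.2)
    rw [map_add, map_smul, LinearMap.add_apply, LinearMap.add_apply, LinearMap.smul_apply,
      LinearMap.smul_apply, hF, hξ, smul_eq_mul, smul_eq_mul] at hG
    have h5 : f (d b₀) ≤ f y := by
      have := (add_le_add_iff_left _).1 hG
      exact le_of_mul_le_mul_left this hε
    exact absurd (hf _ ⟨b₀, hb₀, rfl⟩) (not_lt.2 h5)

end Groth.Agent.Helper7.RootChF
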