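import Mathlib
import Groth.Agent.Helper7.RootC

set_option autoImplicit false
set_option linter.unusedSectionVars false
universe u v w x

namespace Groth.Agent.Helper7.RC

open RootPairing RootCh Module
open scoped Classical

noncomputable section

section Facets

variable {ι : Type u} {R : Type v} {M : Type w} {N : Type x}
variable [Field R] [LinearOrder R] [IsStrictOrderedRing R]
variable [AddCommGroup M] [Module R M] [AddCommGroup N] [Module R N] [Finite ι]
variable {P : RootPairing ι R M N} [P.IsRootSystem] [P.IsCrystallographic] [P.IsReduced]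

lemma sgnVec_apply (ξ : M) (i : ι) : sgnVec P ξ i = SignType.sign (P.coroot' i ξ) := rfl

lemma mem_closedChamber_iff_sgn (b : P.Base) (ξ : M) :
    ξ ∈ closedChamber b ↔ ∀ i ∈ b.support, sgnVec P ξ i ≠ -1 := by
  refine forall₂_congr fun i _ => ?_
  rw [sgnVec_apply, Ne, sign_eq_neg_one_iff, not_lt]

lemma mem_cham_iff (F : Facet P) (b : P.Base) :
    b ∈ F.cham ↔ ∀ i ∈ b.support, F.sgn i ≠ -1 := by
  constructor
  · intro hb i hi
    obtain ⟨ξ, hξ⟩ := F.exists_sgnVec_eq
    have := (mem_closedChamber_iff_sgn b ξ).1 (hb hξ) i hi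
    rwa [hξ] at this
  · intro h ξ hξ
    rw [mem_closedChamber_iff_sgn]
    intro i hi
    have hξ' : sgnVec P ξ = F.sgn := hξ
    rw [hξ']
    exact h i hi

lemma cham_nonempty (F : Facet P) : ∃ b : P.Base, b ∈ F.cham := by
  obtain ⟨ξ, hξ⟩ := F.exists_sgnVec_eq
  obtain ⟨b, hb⟩ := exists_mem_closedChamber (P := P) ξ
  refine ⟨b, (mem_cham_iff F b).2 ?_⟩
  intro i hi
  rw [← hξ]
  exact (mem_closedChamber_iff_sgn b ξ).1 hb i hi

/-- the sign of a coroot on a vector of the closed chamber, in terms of the simple coroots -/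
lemma sgnVec_eq_of_mem_closedChamber {b : P.Base} {ξ : M} (hξ : ξ ∈ closedChamber b) (k : ι) :
    sgnVec P ξ k =
      if ∃ j : b.support, 0 < P.coroot' j ξ ∧ P.coroot' k (fundWeight b j) ≠ 0 then
        (if b.IsPos k then 1 else -1) else 0 := by
  rw [sgnVec_apply]
  by_cases hex : ∃ j : b.support, 0 < P.coroot' j ξ ∧ P.coroot' k (fundWeight b j) ≠ 0
  · rw [if_pos hex]
    have hne : P.coroot' k ξ ≠ 0 := by
      intro h0
      obtain ⟨j, hj1, hj2⟩ := hex
      rcases (coroot'_eq_zero_iff hξ k).1 h0 j with h | h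
      · exact hj1.ne' h
      · exact hj2 h
    by_cases hk : b.IsPos k
    · rw [if_pos hk, sign_eq_one_iff]
      exact lt_of_le_of_ne (coroot'_nonneg_of_isPos hξ hk) (Ne.symm hne)
    · rw [if_neg hk, sign_eq_neg_one_iff]
      exact lt_of_le_of_ne (coroot'_nonpos_of_not_isPos hξ hk) hne
  · rw [if_neg hex, sign_eq_zero_iff, coroot'_eq_zero_iff hξ k]
    intro j
    by_contra hcon
    push Not at hcon
    exact hex ⟨j, lt_of_le_of_ne (hξ j j.2) (Ne.symm hcon.1), hcon.2⟩

/-- two vectors of a closed chamber with the same signs on the simple coroots have the same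
sign vector -/
lemma sgnVec_eq_of_simple {b : P.Base} {ξ ξ' : M} (hξ : ξ ∈ closedChamber b)
    (hξ' : ξ' ∈ closedChamber b)
    (h : ∀ j : b.support, sgnVec P ξ j = sgnVec P ξ' j) : sgnVec P ξ = sgnVec P ξ' := by
  funext k
  rw [sgnVec_eq_of_mem_closedChamber hξ, sgnVec_eq_of_mem_closedChamber hξ']
  have : ∀ j : b.support, 0 < P.coroot' j ξ ↔ 0 < P.coroot' j ξ' := by
    intro j
    have := h j
    rw [sgnVec_apply, sgnVec_apply] at this
    rw [← sign_eq_one_iff, ← sign_eq_one_iff, this]
  simp only [this]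

lemma mem_carrier_iff {F : Facet P} {b : P.Base} (hb : b ∈ F.cham) (ξ : M) :
    ξ ∈ F.carrier ↔ ∀ j : b.support, sgnVec P ξ j = F.sgn j := by
  constructor
  · intro h j
    have h' : sgnVec P ξ = F.sgn := h
    rw [h']
  · intro h
    obtain ⟨ξ₀, hξ₀⟩ := F.exists_sgnVec_eq
    have h0 : ξ₀ ∈ closedChamber b := hb hξ₀
    have h1 : ξ ∈ closedChamber b := by
      rw [mem_closedChamber_iff_sgn]
      intro i hi
      rw [h ⟨i, hi⟩]
      exact (mem_cham_iff F b).1 hb i hi
    change sgnVec P ξ = F.sgn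
    rw [← hξ₀]
    apply sgnVec_eq_of_simple h1 h0
    intro j
    rw [h j, hξ₀]

lemma sgn_simple {F : Facet P} {b : P.Base} (hb : b ∈ F.cham) (j : b.support) :
    F.sgn j = 0 ∨ F.sgn j = 1 := by
  have h := (mem_cham_iff F b).1 hb j j.2
  rcases hs : F.sgn (j : ι) with _ | _ | _
  · left; rfl
  · exact absurd hs h
  · right; rfl

lemma closure_subset_closedChamber {F : Facet P} {b : P.Base} (hb : b ∈ F.cham) :
    F.closure ⊆ closedChamber b := by
  intro ξ hξ
  rw [mem_closedChamber_iff_sgn]
  intro i hi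
  rcases hξ i with h | h
  · rw [h]; decide
  · rw [h]
    exact (mem_cham_iff F b).1 hb i hi

lemma mem_closure_iff {F : Facet P} {b : P.Base} (hb : b ∈ F.cham) (ξ : M) :
    ξ ∈ F.closure ↔ ∀ j : b.support, 0 ≤ P.coroot' j ξ ∧ (F.sgn j = 0 → P.coroot' j ξ = 0) := by
  constructor
  · intro hξ j
    refine ⟨closure_subset_closedChamber hb hξ j j.2, fun h0 => ?_⟩
    rcases hξ j with h | h
    · rwa [sgnVec_apply, sign_eq_zero_iff] at h
    · rw [h0, sgnVec_apply, sign_eq_zero_iff] at h
      exact h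
  · intro h
    have h1 : ξ ∈ closedChamber b := fun i hi => (h ⟨i, hi⟩).1
    obtain ⟨ξ₀, hξ₀⟩ := F.exists_sgnVec_eq
    have h0 : ξ₀ ∈ closedChamber b := hb hξ₀
    intro k
    rw [← hξ₀, sgnVec_eq_of_mem_closedChamber h1, sgnVec_eq_of_mem_closedChamber h0]
    by_cases hex : ∃ j : b.support, 0 < P.coroot' j ξ ∧ P.coroot' k (fundWeight b j) ≠ 0
    · right
      rw [if_pos hex]
      obtain ⟨j, hj1, hj2⟩ := hex
      have hj3 : 0 < P.coroot' j ξ₀ := by
        have hs : F.sgn j = 1 := by
          rcases sgn_simple hb j with h' | h'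
          · exact absurd ((h j).2 h') hj1.ne'
          · exact h'
        rw [← hξ₀, sgnVec_apply, sign_eq_one_iff] at hs
        exact hs
      have e : ∃ j : b.support, 0 < P.coroot' j ξ₀ ∧ P.coroot' k (fundWeight b j) ≠ 0 :=
        ⟨j, hj3, hj2⟩
      rw [if_pos e]
    · left
      rw [if_neg hex]

lemma fundWeight_injective (b : P.Base) : Function.Injective (fundWeight b) := by
  intro i j hij
  by_contra hne
  have h1 := coroot'_fundWeight b i i
  rw [hij, coroot'_fundWeight, if_pos rfl, if_neg hne] at h1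
  exact zero_ne_one h1

lemma linearIndependent_fundWeight (b : P.Base) : LinearIndependent R (fundWeight b) := by
  rw [Fintype.linearIndependent_iff]
  intro g hg j
  have := congrArg (P.coroot' j) hg
  rw [map_sum, map_zero] at this
  simp only [map_smul, coroot'_fundWeight, smul_eq_mul, mul_ite, mul_one, mul_zero] at this
  rw [Finset.sum_ite_eq] at this
  simpa using this

/-- the corners of a facet, in terms of an adjacent chamber -/
lemma corners_eq {F : Facet P} {b : P.Base} (hb : b ∈ F.cham) :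
    F.corners = fundWeight b '' {j : b.support | F.sgn j = 1} := by
  ext m
  constructor
  · rintro ⟨hm, hcl⟩
    have h1 : m ∈ baseCorners b := ⟨hm, closure_subset_closedChamber hb hcl⟩
    rw [baseCorners_eq_range] at h1
    obtain ⟨j, rfl⟩ := h1
    refine ⟨j, ?_, rfl⟩
    rcases sgn_simple hb j with h' | h'
    · have := ((mem_closure_iff hb _).1 hcl j).2 h'
      rw [coroot'_fundWeight, if_pos rfl] at this
      exact absurd this one_ne_zero
    · exact h'
  · rintro ⟨j, hj, rfl⟩
    refine ⟨⟨b, j, rfl⟩, (mem_closure_iff hb _).2 fun i => ?_⟩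
    rw [coroot'_fundWeight]
    refine ⟨by split_ifs <;> simp, fun h0 => ?_⟩
    rw [if_neg]
    rintro rfl
    rw [Set.mem_ofPred_eq] at hj
    rw [hj] at h0
    exact absurd h0 (by decide)

end Facets

end

end Groth.Agent.Helper7.RC
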