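import Mathlib
import Groth.Agent.Helper7.RootD

set_option autoImplicit false
set_option linter.unusedSectionVars false
universe u v w x

namespace Groth.Agent.Helper7.RC

open RootPairing RootCh Module
open scoped Classical

noncomputable section

section Facets2

variable {ι : Type u} {R : Type v} {M : Type w} {N : Type x}
variable [Field R] [LinearOrder R] [IsStrictOrderedRing R]
variable [AddCommGroup M] [Module R M] [AddCommGroup N] [Module R N] [Finite ι]
variable {P : RootPairing ι R M N} [P.IsRootSystem] [P.IsCrystallographic] [P.IsReduced]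

/-- the facet of the chamber of `b` cut out by a set `T` of simple indices -/
def facetOf (b : P.Base) (T : Set b.support) : Facet P :=
  Facet.ofVec P (∑ j : b.support, (if j ∈ T then (1 : R) else 0) • fundWeight b j)

lemma coroot'_facetVec (b : P.Base) (T : Set b.support) (i : b.support) :
    P.coroot' i (∑ j : b.support, (if j ∈ T then (1 : R) else 0) • fundWeight b j) =
      if i ∈ T then 1 else 0 := by
  rw [map_sum]
  simp only [map_smul, coroot'_fundWeight, smul_eq_mul, mul_ite, mul_one, mul_zero]
  rw [Finset.sum_ite_eq]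
  simp

lemma facetOf_sgn (b : P.Base) (T : Set b.support) (i : b.support) :
    (facetOf b T).sgn i = if i ∈ T then 1 else 0 := by
  change sgnVec P _ i = _
  rw [sgnVec_apply, coroot'_facetVec]
  split_ifs <;> simp

lemma mem_cham_facetOf (b : P.Base) (T : Set b.support) : b ∈ (facetOf b T).cham := by
  rw [mem_cham_iff]
  intro i hi
  rw [facetOf_sgn b T ⟨i, hi⟩]
  split_ifs <;> decide

lemma corners_facetOf (b : P.Base) (T : Set b.support) :
    (facetOf b T).corners = fundWeight b '' T := by
  rw [corners_eq (mem_cham_facetOf b T)]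
  congr 1
  ext j
  rw [Set.mem_ofPred_eq, facetOf_sgn]
  by_cases hj : j ∈ T <;> simp [hj]

/-- S14228 -/
theorem linearIndepOn_corners (F : Facet P) : LinearIndepOn R (fun m : M => m) F.corners := by
  obtain ⟨b, hb⟩ := cham_nonempty F
  rw [corners_eq hb]
  apply LinearIndepOn.image_of_comp
  exact (linearIndependent_fundWeight b).linearIndepOn _

/-- S14229 -/
theorem span_carrier_eq (F : Facet P) :
    Submodule.span R F.carrier = Submodule.span R F.corners := by
  obtain ⟨b, hb⟩ := cham_nonempty F
  apply le_antisymm
  · rw [Submodule.span_le]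
    intro ξ hξ
    rw [eq_sum_fundWeight b ξ]
    refine Submodule.sum_mem _ fun j _ => ?_
    rcases sgn_simple hb j with h0 | h1
    · have := (mem_carrier_iff hb ξ).1 hξ j
      rw [h0, sgnVec_apply, sign_eq_zero_iff] at this
      rw [this, zero_smul]
      exact Submodule.zero_mem _
    · apply Submodule.smul_mem
      apply Submodule.subset_span
      rw [corners_eq hb]
      exact ⟨j, h1, rfl⟩
  · rw [Submodule.span_le, corners_eq hb]
    rintro _ ⟨j, hj, rfl⟩
    obtain ⟨ξ₀, hξ₀⟩ := F.exists_sgnVec_eq
    have h0 : ξ₀ ∈ F.carrier := hξ₀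
    have h1 : ξ₀ + fundWeight b j ∈ F.carrier := by
      rw [mem_carrier_iff hb]
      intro i
      have hi := (mem_carrier_iff hb ξ₀).1 h0 i
      rw [sgnVec_apply] at hi ⊢
      rw [map_add, coroot'_fundWeight]
      by_cases hij : i = j
      · subst hij
        rw [if_pos rfl]
        rw [Set.mem_ofPred_eq] at hj
        rw [hj, sign_eq_one_iff] at hi
        rw [hj, sign_eq_one_iff]
        linarith
      · rw [if_neg hij, add_zero, hi]
    have : fundWeight b j = (ξ₀ + fundWeight b j) - ξ₀ := by abel
    rw [this]
    exact Submodule.sub_mem _ (Submodule.subset_span h1) (Submodule.subset_span h0)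

/-- S14232 -/
theorem exists_corners_eq_insert (F : Facet P) (m : M) (hm : m ∈ F.corners') :
    ∃ G : Facet P, G.corners = insert m F.corners := by
  simp only [Facet.corners', Set.mem_iUnion] at hm
  obtain ⟨b, hb, hmb⟩ := hm
  rw [baseCorners_eq_range] at hmb
  obtain ⟨j₀, rfl⟩ := hmb
  refine ⟨facetOf b (insert j₀ {j : b.support | F.sgn j = 1}), ?_⟩
  rw [corners_facetOf, corners_eq hb, Set.image_insert_eq]

/-- S14233 -/
theorem exists_corners_eq_diff (F : Facet P) (m : M) (hm : m ∈ F.corners) :
    ∃ G : Facet P, G.corners = F.corners \ {m} := by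
  obtain ⟨b, hb⟩ := cham_nonempty F
  rw [corners_eq hb] at hm ⊢
  obtain ⟨j₀, hj₀, rfl⟩ := hm
  refine ⟨facetOf b ({j : b.support | F.sgn j = 1} \ {j₀}), ?_⟩
  rw [corners_facetOf, Set.image_sdiff (fundWeight_injective b), Set.image_singleton]

end Facets2

end

end Groth.Agent.Helper7.RC
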