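import Mathlib
import Groth.Agent.Helper7.RootE

set_option autoImplicit false
set_option linter.unusedSectionVars false
universe u v w x

namespace Groth.Agent.Helper7.RC

open RootPairing RootCh Module
open scoped Classical

noncomputable section

section Facets3

variable {ι : Type u} {R : Type v} {M : Type w} {N : Type x}
variable [Field R] [LinearOrder R] [IsStrictOrderedRing R]
variable [AddCommGroup M] [Module R M] [AddCommGroup N] [Module R N] [Finite ι]
variable {P : RootPairing ι R M N} [P.IsRootSystem] [P.IsCrystallographic] [P.IsReduced]

lemma fundWeight_mem_corners_iff {F : Facet P} {b : P.Base} (hb : b ∈ F.cham) (j : b.support) :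
    fundWeight b j ∈ F.corners ↔ F.sgn j = 1 := by
  rw [corners_eq hb]
  constructor
  · rintro ⟨i, hi, hij⟩
    rw [← fundWeight_injective b hij]
    exact hi
  · intro h
    exact ⟨j, h, rfl⟩

/-- S14230 -/
theorem carrier_eq_pos_comb (F : Facet P) :
    F.carrier = {ξ : M | ∃ c : M →₀ R, (c.support : Set M) ⊆ F.corners ∧
      (∀ m ∈ F.corners, 0 < c m) ∧ c.sum (fun m r => r • m) = ξ} := by
  obtain ⟨b, hb⟩ := cham_nonempty F
  ext ξ
  constructor
  · intro hξ
    have hsg := (mem_carrier_iff hb ξ).1 hξ
    let g : b.support →₀ R := Finsupp.equivFunOnFinite.symm (fun j => P.coroot' j ξ)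
    refine ⟨Finsupp.mapDomain (fundWeight b) g, ?_, ?_, ?_⟩
    · intro m hm
      have := Finsupp.mapDomain_support hm
      rw [Finset.mem_image] at this
      obtain ⟨j, hj, rfl⟩ := this
      rw [fundWeight_mem_corners_iff hb]
      rcases sgn_simple hb j with h0 | h1
      · exfalso
        rw [Finsupp.mem_support_iff] at hj
        apply hj
        have := hsg j
        rw [h0, sgnVec_apply, sign_eq_zero_iff] at this
        exact this
      · exact h1
    · intro m hm
      rw [corners_eq hb] at hm
      obtain ⟨j, hj, rfl⟩ := hm
      rw [Finsupp.mapDomain_apply (fundWeight_injective b)]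
      have := hsg j
      rw [Set.mem_ofPred_eq] at hj
      rw [hj, sgnVec_apply, sign_eq_one_iff] at this
      exact this
    · rw [Finsupp.sum_mapDomain_index (by simp) (by intro _ _ _; rw [add_smul])]
      rw [Finsupp.sum_fintype _ _ (by simp)]
      exact (eq_sum_fundWeight b ξ).symm
  · rintro ⟨c, hsupp, hpos, rfl⟩
    rw [mem_carrier_iff hb]
    intro i
    have hval : P.coroot' i (c.sum fun m r => r • m) = c (fundWeight b i) := by
      rw [Finsupp.sum, map_sum]
      have hterm : ∀ m ∈ c.support, P.coroot' i (c m • m) =
          if m = fundWeight b i then c m else 0 := by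
        intro m hm
        have hmc := hsupp hm
        rw [corners_eq hb] at hmc
        obtain ⟨j, -, rfl⟩ := hmc
        rw [map_smul, coroot'_fundWeight, smul_eq_mul]
        by_cases hij : i = j
        · subst hij
          simp
        · rw [if_neg hij, if_neg (fun h => hij (fundWeight_injective b h).symm), mul_zero]
      rw [Finset.sum_congr rfl hterm, Finset.sum_ite_eq']
      split_ifs with h
      · rfl
      · rw [Finsupp.notMem_support_iff] at h
        exact h.symm
    rw [sgnVec_apply, hval]
    rcases sgn_simple hb i with h0 | h1
    · rw [h0, sign_eq_zero_iff]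
      by_contra hne
      have : fundWeight b i ∈ F.corners := hsupp (Finsupp.mem_support_iff.2 hne)
      rw [fundWeight_mem_corners_iff hb, h0] at this
      exact absurd this (by decide)
    · rw [h1, sign_eq_one_iff]
      exact hpos _ ((fundWeight_mem_corners_iff hb i).2 h1)

end Facets3

end

end Groth.Agent.Helper7.RC
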