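import Mathlib
import Groth.Agent.Helper7.RootF

set_option autoImplicit false
set_option linter.unusedSectionVars false
universe u v w x

namespace Groth.Agent.Helper7.RC

open RootPairing RootCh Module
open scoped Classical

noncomputable section

section Dual

variable {ι : Type u} {R : Type v} {M : Type w} {N : Type x}
variable [Field R] [LinearOrder R] [IsStrictOrderedRing R]
variable [AddCommGroup M] [Module R M] [AddCommGroup N] [Module R N] [Finite ι]
variable {P : RootPairing ι R M N} [P.IsRootSystem] [P.IsCrystallographic] [P.IsReduced]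

/-- signs of the pairings of a root with a fundamental coweight and of the coroot with the
fundamental weight agree -/
lemma sign_cocoef_eq (b : P.Base) (k : ι) (j : b.support) :
    SignType.sign (P.coroot' k (fundWeight b j)) = SignType.sign (P.root' k (fundCoweight b j)) := by
  have : Fintype ι := Fintype.ofFinite ι
  have h := rootForm_mul_cocoef b k j
  have h1 := rootForm_root_pos (P := P) k
  have h2 := rootForm_root_pos (P := P) (j : ι)
  have := congrArg SignType.sign h
  rw [sign_mul, sign_mul, sign_pos h1, sign_pos h2, one_mul, mul_one] at this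
  exact this

lemma cosgnVec_apply (x : N) (i : ι) : cosgnVec P x i = SignType.sign (P.root' i x) := rfl

/-- the flipped pairing sees the dual sign vector -/
lemma sgnVec_flip (x : N) : sgnVec P.flip x = cosgnVec P x := rfl

lemma exists_dual_vec (ξ : M) :
    ∃ x : N, ∀ k : ι, SignType.sign (P.root' k x) = SignType.sign (P.coroot' k ξ) := by
  have : Fintype ι := Fintype.ofFinite ι
  refine ⟨P.Polarization ξ, fun k => ?_⟩
  have h := rootForm_mul_coroot' (P := P) k ξ
  have h1 := rootForm_root_pos (P := P) k
  have h2 : P.root' k (P.Polarization ξ) = P.RootForm (P.root k) ξ := by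
    change P.toLinearMap (P.root k) (P.Polarization ξ) = _
    rw [P.toLinearMap_apply_apply_Polarization]
    exact P.rootForm_symmetric.eq ξ (P.root k)
  have := congrArg SignType.sign h
  rw [sign_mul, sign_mul, sign_pos h1, one_mul, sign_pos (by norm_num : (0 : R) < 2), one_mul]
    at this
  rw [h2, this]

/-- the facet of the dual root system with the same sign vector -/
def dualFacet (F : Facet P) : Facet P.flip :=
  ⟨F.sgn, by
    obtain ⟨ξ, hξ⟩ := F.exists_sgnVec_eq
    obtain ⟨x, hx⟩ := exists_dual_vec (P := P) ξ
    refine ⟨x, ?_⟩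
    funext k
    rw [← hξ]
    exact hx k⟩

lemma dualCarrier_eq (F : Facet P) : F.dualCarrier = (dualFacet F).carrier := rfl
lemma dualClosure_eq (F : Facet P) : F.dualClosure = (dualFacet F).closure := rfl
lemma dualCorners_eq (F : Facet P) : F.dualCorners = (dualFacet F).corners := rfl

lemma flip_mem_cham {F : Facet P} {b : P.Base} (hb : b ∈ F.cham) :
    b.flip ∈ (dualFacet F).cham := by
  rw [mem_cham_iff] at hb ⊢
  exact hb

lemma dualCorners_eq' {F : Facet P} {b : P.Base} (hb : b ∈ F.cham) :
    F.dualCorners = fundCoweight b '' {j : b.support | F.sgn j = 1} := by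
  rw [dualCorners_eq, corners_eq (flip_mem_cham hb)]
  rfl

/-- the polarization of a fundamental weight is a positive multiple of the fundamental coweight -/
lemma two_smul_polarization_fundWeight [Fintype ι] (b : P.Base) (i : b.support) :
    (2 : R) • P.Polarization (fundWeight b i) =
      P.RootForm (P.root i) (P.root i) • fundCoweight b i := by
  apply ext_root b
  intro j
  rw [map_smul, map_smul, smul_eq_mul, smul_eq_mul, root'_fundCoweight]
  change 2 * P.toLinearMap (P.root j) (P.Polarization (fundWeight b i)) = _
  rw [P.toLinearMap_apply_apply_Polarization]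
  have hs : P.RootForm (fundWeight b i) (P.root j) = P.RootForm (P.root j) (fundWeight b i) :=
    P.rootForm_symmetric.eq _ _
  rw [hs, ← rootForm_mul_coroot', coroot'_fundWeight]
  by_cases hji : j = i
  · subst hji; simp
  · simp [hji]

/-- the fundamental coweight corresponding to a fundamental weight does not depend on the base -/
theorem fundCoweight_eq_of_fundWeight_eq (b b' : P.Base) (i : b.support) (i' : b'.support)
    (h : fundWeight b i = fundWeight b' i') : fundCoweight b i = fundCoweight b' i' := by
  have : Fintype ι := Fintype.ofFinite ι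
  have e : P.RootForm (P.root i) (P.root i) • fundCoweight b i =
      P.RootForm (P.root i') (P.root i') • fundCoweight b' i' := by
    rw [← two_smul_polarization_fundWeight, ← two_smul_polarization_fundWeight, h]
  have h1 := rootForm_root_pos (P := P) (i : ι)
  have h2 := rootForm_root_pos (P := P) (i' : ι)
  obtain ⟨f, hf, -⟩ := exists_int_coef b' (i : ι)
  obtain ⟨g, hg, -⟩ := exists_int_coef b (i' : ι)
  have e1 := congrArg (P.root' i) e
  rw [map_smul, map_smul, root'_fundCoweight, if_pos rfl, smul_eq_mul, smul_eq_mul, mul_one] at e1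
  have e2 := congrArg (P.root' i') e
  rw [map_smul, map_smul, root'_fundCoweight, if_pos rfl, smul_eq_mul, smul_eq_mul, mul_one] at e2
  change _ = _ * P.toLinearMap (P.root i) (fundCoweight b' i') at e1
  change _ * P.toLinearMap (P.root i') (fundCoweight b i) = _ at e2
  rw [hf i'] at e1
  rw [hg i] at e2
  -- `B i = B i' * f`, `B i * g = B i'`
  have e3 : (1 : R) = ((g i * f i' : ℤ) : R) := by
    push_cast
    have : P.RootForm (P.root i) (P.root i) * 1 =
        P.RootForm (P.root i) (P.root i) * ((g i : R) * (f i' : R)) := by
      rw [mul_one, ← mul_assoc, e2, ← e1]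
    exact mul_left_cancel₀ h1.ne' this
  have e4 : g i * f i' = 1 := by exact_mod_cast e3.symm
  have hfpos : 0 < f i' := by
    have : (0 : R) < (f i' : R) := by
      by_contra hle
      rw [not_lt] at hle
      have := mul_nonpos_of_nonneg_of_nonpos h2.le hle
      rw [← e1] at this
      exact absurd h1 (not_lt.2 this)
    exact_mod_cast this
  have hf1 : f i' = 1 := by
    rcases Int.eq_one_or_neg_one_of_mul_eq_one (by rw [mul_comm]; exact e4 : f i' * g i = 1)
      with h' | h'
    · exact h'
    · omega
  rw [hf1, Int.cast_one, mul_one] at e1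
  rw [e1] at e
  exact smul_right_injective N h2.ne' e

/-- S14231 -/
theorem dualCorners_eq_corr (F : Facet P) :
    F.dualCorners = {y : N | ∃ m ∈ F.corners, Corr P m y} := by
  obtain ⟨b, hb⟩ := cham_nonempty F
  rw [dualCorners_eq' hb]
  ext y
  constructor
  · rintro ⟨j, hj, rfl⟩
    exact ⟨fundWeight b j, (fundWeight_mem_corners_iff hb j).2 hj, b, j, rfl, rfl⟩
  · rintro ⟨m, hm, b', i', rfl, rfl⟩
    rw [corners_eq hb] at hm
    obtain ⟨j, hj, hjm⟩ := hm
    exact ⟨j, hj, fundCoweight_eq_of_fundWeight_eq b b' j i' hjm⟩

end Dual

end

end Groth.Agent.Helper7.RC
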