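import Mathlib
import Groth.Agent.Helper7.RootG

set_option autoImplicit false
set_option linter.unusedSectionVars false
universe u v w x

namespace Groth.Agent.Helper7.RC

open RootPairing RootCh Module
open scoped Classical

noncomputable section

section Parab

variable {ι : Type u} {R : Type v} {M : Type w} {N : Type x}
variable [Field R] [LinearOrder R] [IsStrictOrderedRing R]
variable [AddCommGroup M] [Module R M] [AddCommGroup N] [Module R N] [Finite ι]
variable {P : RootPairing ι R M N} [P.IsRootSystem] [P.IsCrystallographic] [P.IsReduced]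

lemma sgnVec_neg (ξ : M) (i : ι) : sgnVec P ξ (P.reflectionPerm i i) = -sgnVec P ξ i := by
  rw [sgnVec_apply, sgnVec_apply]
  change SignType.sign (P.toLinearMap ξ (P.coroot (P.reflectionPerm i i))) = _
  rw [coroot_neg, map_neg, Left.sign_neg]
  rfl

lemma Facet.sgn_neg (F : Facet P) (i : ι) : F.sgn (P.reflectionPerm i i) = -F.sgn i := by
  obtain ⟨ξ, hξ⟩ := F.exists_sgnVec_eq
  rw [← hξ]
  exact sgnVec_neg ξ i

/-- S14234 -/
theorem corners_eq_parab (F : Facet P) :
    F.corners = {m : M | m ∈ fundWeights P ∧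
      ∀ y : N, Corr P m y → ∀ i ∈ F.parab, 0 ≤ P.root' i y} := by
  obtain ⟨b, hb⟩ := cham_nonempty F
  ext m
  constructor
  · intro hm
    refine ⟨hm.1, ?_⟩
    rintro y ⟨b', i', rfl, rfl⟩ i hi
    have hs := sign_cocoef_eq b' i i'
    have hcl := hm.2 i
    rw [sgnVec_apply] at hcl
    have hne : SignType.sign (P.coroot' i (fundWeight b' i')) ≠ -1 := by
      rcases hcl with h | h
      · rw [h]; decide
      · rw [h]; exact hi
    rw [hs, Ne, sign_eq_neg_one_iff, not_lt] at hne
    exact hne
  · rintro ⟨⟨b', i', rfl⟩, hm⟩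
    refine ⟨⟨b', i', rfl⟩, ?_⟩
    have hy := hm (fundCoweight b' i') ⟨b', i', rfl, rfl⟩
    have key : ∀ k : ι, F.sgn k ≠ -1 → sgnVec P (fundWeight b' i') k ≠ -1 := by
      intro k hk
      rw [sgnVec_apply, sign_cocoef_eq b' k i', Ne, sign_eq_neg_one_iff, not_lt]
      exact hy k hk
    intro k
    have h1 := key k
    have h2 := key (P.reflectionPerm k k)
    rw [Facet.sgn_neg, sgnVec_neg] at h2
    rcases hs : F.sgn k with _ | _ | _ <;> rcases hv : sgnVec P (fundWeight b' i') k with _ | _ | _ <;>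
      simp_all

lemma coroot'_sum_eq_zero_of_stable (j : ι) (S : Finset ι)
    (hS : ∀ i ∈ S, P.reflectionPerm j i ∈ S) : P.coroot' j (∑ i ∈ S, P.root i) = 0 := by
  set v := ∑ i ∈ S, P.root i with hv
  have h1 : P.reflection j v = v := by
    rw [hv, map_sum]
    simp only [← P.root_reflectionPerm]
    exact Finset.sum_nbij' (fun i => P.reflectionPerm j i) (fun i => P.reflectionPerm j i)
      hS hS (fun i _ => P.reflectionPerm_self j i) (fun i _ => P.reflectionPerm_self j i)
      (fun i _ => rfl)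
  rw [P.reflection_apply] at h1
  have h2 : P.coroot' j v • P.root j = 0 := by
    have := congrArg (fun z => v - z) h1
    simpa using this
  rcases smul_eq_zero.1 h2 with h | h
  · exact h
  · exact absurd h (P.ne_zero j)

/-- sign of a facet on a root positive for an adjacent chamber -/
lemma sgn_ne_neg_of_isPos {F : Facet P} {b : P.Base} (hb : b ∈ F.cham) {k : ι} (hk : b.IsPos k) :
    F.sgn k ≠ -1 := by
  obtain ⟨ξ₀, hξ₀⟩ := F.exists_sgnVec_eq
  have h0 : ξ₀ ∈ closedChamber b := hb hξ₀
  rw [← hξ₀, sgnVec_apply, Ne, sign_eq_neg_one_iff, not_lt]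
  exact coroot'_nonneg_of_isPos h0 hk

lemma sgn_ne_one_of_not_isPos {F : Facet P} {b : P.Base} (hb : b ∈ F.cham) {k : ι}
    (hk : ¬ b.IsPos k) : F.sgn k ≠ 1 := by
  obtain ⟨ξ₀, hξ₀⟩ := F.exists_sgnVec_eq
  have h0 : ξ₀ ∈ closedChamber b := hb hξ₀
  rw [← hξ₀, sgnVec_apply, Ne, sign_eq_one_iff, not_lt]
  exact coroot'_nonpos_of_not_isPos h0 hk

/-- the Levi roots of a facet have no component along the simple roots positive on the facet -/
lemma coef_eq_zero_of_sgn_eq_zero {F : Facet P} {b : P.Base} (hb : b ∈ F.cham) {k : ι}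
    (hk : F.sgn k = 0) (l : b.support) (hl : F.sgn l = 1) :
    P.root' k (fundCoweight b l) = 0 := by
  obtain ⟨ξ₀, hξ₀⟩ := F.exists_sgnVec_eq
  have h0 : ξ₀ ∈ closedChamber b := hb hξ₀
  have h1 : sgnVec P ξ₀ k = 0 := by rw [hξ₀, hk]
  rw [sgnVec_apply, sign_eq_zero_iff, coroot'_eq_zero_iff h0] at h1
  have hlpos : P.coroot' l ξ₀ ≠ 0 := by
    have : sgnVec P ξ₀ l = 1 := by rw [hξ₀, hl]
    rw [sgnVec_apply, sign_eq_one_iff] at this
    exact this.ne'
  exact (cocoef_eq_zero_iff b k l).1 ((h1 l).resolve_left hlpos)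

/-- invariance of the sign vector of a facet under a simple reflection of its Levi part -/
lemma sgn_reflectionPerm_of_sgn_eq_zero (F : Facet P) {j : ι} (hj : F.sgn j = 0) (i : ι) :
    F.sgn (P.reflectionPerm j i) = F.sgn i := by
  obtain ⟨ξ₀, hξ₀⟩ := F.exists_sgnVec_eq
  have h1 : P.coroot' j ξ₀ = 0 := by
    have : sgnVec P ξ₀ j = 0 := by rw [hξ₀, hj]
    rwa [sgnVec_apply, sign_eq_zero_iff] at this
  rw [← hξ₀, sgnVec_apply, sgnVec_apply, ← P.coroot'_reflection, P.reflection_apply, h1, zero_smul,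
    sub_zero]

lemma pairing_le_zero_of_ne (b : P.Base) {l j : b.support} (h : l ≠ j) :
    P.pairing l j ≤ 0 := by
  have h1 := b.pairingIn_le_zero_of_ne (fun h' => h (Subtype.ext h')) l.2 j.2
  rw [← P.algebraMap_pairingIn ℤ]
  simpa using (Int.cast_nonpos (R := R)).2 h1

/-- S14237 -/
theorem sum_root_parab_mem_carrier (F : Facet P) :
    (∑ i ∈ (Set.toFinite F.parab).toFinset, P.root i) ∈ F.carrier := by
  obtain ⟨b, hb⟩ := cham_nonempty F
  rw [mem_carrier_iff hb]
  intro j
  set S := (Set.toFinite F.parab).toFinset with hSdef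
  have hS : ∀ i, i ∈ S ↔ F.sgn i ≠ -1 := by
    intro i
    simp [hSdef, Facet.parab]
  rcases sgn_simple hb j with h0 | h1
  · rw [h0, sgnVec_apply, sign_eq_zero_iff]
    apply coroot'_sum_eq_zero_of_stable
    intro i hi
    rw [hS] at hi ⊢
    rwa [sgn_reflectionPerm_of_sgn_eq_zero F h0]
  · rw [h1, sgnVec_apply, sign_eq_one_iff]
    have hsplit : ∑ i ∈ S, P.root i =
        ∑ i ∈ S.filter (fun i => b.IsPos i), P.root i +
          ∑ i ∈ S.filter (fun i => ¬ b.IsPos i), P.root i :=
      (Finset.sum_filter_add_sum_filter_not S (fun i => b.IsPos i) _).symm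
    have hSpos : ∀ i, i ∈ S.filter (fun i => b.IsPos i) ↔ b.IsPos i := by
      intro i
      rw [Finset.mem_filter, hS]
      exact ⟨fun h => h.2, fun h => ⟨sgn_ne_neg_of_isPos hb h, h⟩⟩
    have hjpos : b.IsPos j := Base.isPos_of_mem_support j.2
    have hjmem : (j : ι) ∈ S.filter (fun i => b.IsPos i) := (hSpos j).2 hjpos
    have e1 : P.coroot' j (∑ i ∈ S.filter (fun i => b.IsPos i), P.root i) = 2 := by
      rw [← Finset.add_sum_erase _ _ hjmem, map_add, coroot'_sum_eq_zero_of_stable, add_zero]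
      · exact P.root_coroot_two j
      · intro i hi
        rw [Finset.mem_erase, hSpos] at hi ⊢
        refine ⟨?_, hi.2.reflectionPerm j.2 hi.1⟩
        intro h'
        have h'' := congrArg (P.reflectionPerm j) h'
        rw [P.reflectionPerm_self] at h''
        have := hi.2
        rw [h'', isPos_neg_iff] at this
        exact this hjpos
    have e2 : 0 ≤ P.coroot' j (∑ i ∈ S.filter (fun i => ¬ b.IsPos i), P.root i) := by
      rw [map_sum]
      refine Finset.sum_nonneg fun i hi => ?_
      rw [Finset.mem_filter, hS] at hi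
      have hsgn0 : F.sgn i = 0 := by
        have h2 := sgn_ne_one_of_not_isPos hb hi.2
        rcases hs : F.sgn i with _ | _ | _
        · rfl
        · exact absurd hs hi.1
        · exact absurd hs h2
      conv_rhs => rw [eq_sum_root b (P.root i)]
      rw [map_sum]
      refine Finset.sum_nonneg fun l _ => ?_
      rw [map_smul, smul_eq_mul]
      by_cases hlj : l = j
      · subst hlj
        have := coef_eq_zero_of_sgn_eq_zero hb hsgn0 l h1
        change P.toLinearMap (P.root i) (fundCoweight b l) = 0 at this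
        rw [this, zero_mul]
      · apply mul_nonneg_of_nonpos_of_nonpos
        · exact coef_nonpos_of_not_isPos b hi.2 l
        · exact pairing_le_zero_of_ne b hlj
    rw [hsplit, map_add, e1]
    linarith

end Parab

end

end Groth.Agent.Helper7.RC
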