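import Mathlib
import Groth.Prelude.Def_RootCh2
import Groth.Agent.Helper7.RootChF
import Groth.Agent.S14237
import Groth.Agent.S14229

set_option autoImplicit false
set_option linter.unusedSectionVars false
universe u v w x

namespace Groth.Agent.Helper7.RootChG

open RootCh Module Groth.Agent.Helper7.RootCh1 Groth.Agent.Helper7.RootChB
  Groth.Agent.Helper7.RootChD Groth.Agent.Helper7.RootChE Groth.Agent.Helper7.RootChF
open scoped Classical

variable {ι : Type u} {R : Type v} {M : Type w} {N : Type x}
  [Field R] [LinearOrder R] [IsStrictOrderedRing R]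
  [AddCommGroup M] [Module R M] [AddCommGroup N] [Module R N] [Finite ι]
  {P : RootPairing ι R M N} [P.IsRootSystem] [P.IsCrystallographic] [P.IsReduced]

omit [P.IsCrystallographic] [P.IsReduced] in
theorem zero_mem_origin : (0 : M) ∈ (Facet.origin P).carrier := rfl

omit [P.IsCrystallographic] [P.IsReduced] in
theorem origin_cham : (Facet.origin P).cham = Set.univ := by
  ext b
  simp only [Set.mem_univ, iff_true]
  apply carrier_subset_closedChamber (Facet.origin P) b 0 zero_mem_origin
  intro j _
  rw [map_zero]

omit [P.IsCrystallographic] [P.IsReduced] in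
theorem origin_corners : (Facet.origin P).corners = ∅ := by
  ext m
  simp only [Set.mem_empty_iff_false, iff_false]
  rintro ⟨⟨b, j, rfl⟩, hm⟩
  have h1 : SignType.sign (P.coroot' j (fundWeight b j)) = 0 ∨
      SignType.sign (P.coroot' j (fundWeight b j)) = (Facet.origin P).sgn j := hm j
  have h2 : (Facet.origin P).sgn j = 0 := by
    rw [sgn_eq (Facet.origin P) 0 zero_mem_origin, map_zero, sign_zero]
  rw [h2, or_self, coroot'_fundWeight_self, sign_one] at h1
  exact absurd h1 (by decide)

/-- Semi-stability in terms of the corners of the chambers. -/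
theorem semistable_iff_corners (d : P.Base → N) (hd : IsCCS d) :
    (∀ (b : P.Base), ∀ m ∈ baseCorners b, P.toLinearMap m (d b) ≤ 0) ↔ IsSemistable d := by
  have hsolid : solid d = dualSolid d (Facet.origin P) := by
    unfold solid dualSolid
    rw [origin_cham, Set.image_univ]
  unfold IsSemistable
  rw [hsolid, dualSolid_eq d hd, origin_corners]
  simp only [Set.mem_empty_iff_false, Set.iInter_of_empty, Set.iInter_univ, Set.univ_inter,
    Set.mem_iInter]
  constructor
  · intro h m _ b hm
    rw [map_zero]
    exact h b m hm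
  · intro h b m hm
    have hm' : m ∈ (Facet.origin P).corners' := by
      simp only [Facet.corners', Set.mem_iUnion]
      exact ⟨b, by rw [origin_cham]; exact Set.mem_univ b, hm⟩
    have := h m hm' b hm
    rw [map_zero] at this
    exact this

omit [P.IsCrystallographic] [P.IsReduced] in
theorem deg_eq (d : P.Base → N) (F : Facet P) (b : P.Base) :
    F.deg d b = P.toLinearMap (∑ i ∈ (Set.toFinite F.parab).toFinset, P.root i) (d b) := by
  unfold Facet.deg
  rw [map_sum, LinearMap.sum_apply]

theorem sum_parab_mem (F : Facet P) :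
    (∑ i ∈ (Set.toFinite F.parab).toFinset, P.root i) ∈ F.carrier :=
  Groth.Agent.S14237.result P F

/-- The facet of a fundamental weight. -/
theorem facet_fundWeight (b : P.Base) (j : b.support) :
    b ∈ (Facet.ofVec P (fundWeight b j)).cham ∧
    ∃ c : R, 0 < c ∧ (∑ i ∈ (Set.toFinite (Facet.ofVec P (fundWeight b j)).parab).toFinset,
      P.root i) = c • fundWeight b j := by
  set F := Facet.ofVec P (fundWeight b j) with hF
  have hωF : fundWeight b j ∈ F.carrier := rfl
  have hωb : fundWeight b j ∈ closedChamber b := fundWeight_mem_closedChamber b j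
  refine ⟨carrier_subset_closedChamber F b _ hωF hωb, ?_⟩
  set ρ := ∑ i ∈ (Set.toFinite F.parab).toFinset, P.root i with hρ
  obtain ⟨h1, h2⟩ := (mem_carrier_iff F b _ hωF hωb ρ).1 (sum_parab_mem F)
  refine ⟨P.coroot' j ρ, ?_, ?_⟩
  · rw [← h2 j, coroot'_fundWeight_self]
    exact zero_lt_one
  · conv_lhs => rw [sum_fundWeight b ρ]
    rw [Finset.sum_eq_single j]
    · intro l _ hl
      have h0 : P.coroot' l ρ = 0 := by
        apply le_antisymm _ (h1 l l.2)
        rw [← not_lt, ← h2 l, coroot'_fundWeight_of_ne b j l hl]
        exact lt_irrefl 0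
      rw [h0, zero_smul]
    · intro h
      exact absurd (Finset.mem_univ j) h

theorem deg_le_iff_semistable (d : P.Base → N) (hd : IsCCS d) :
    (∀ (F : Facet P) (b : P.Base), b ∈ F.cham → F.deg d b ≤ 0) ↔ IsSemistable d := by
  rw [← semistable_iff_corners d hd]
  constructor
  · intro h b m hm
    rw [baseCorners_eq] at hm
    obtain ⟨j, rfl⟩ := hm
    obtain ⟨hb, c, hc, hsum⟩ := facet_fundWeight b j
    have := h _ b hb
    rw [deg_eq, hsum, map_smul, LinearMap.smul_apply, smul_eq_mul] at this
    by_contra hpos
    push Not at hpos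
    exact absurd (mul_pos hc hpos) (not_lt.2 this)
  · intro h F b hb
    rw [deg_eq, pair_eq_sum b]
    apply Finset.sum_nonpos
    intro j _
    apply mul_nonpos_of_nonneg_of_nonpos
    · exact hb (sum_parab_mem F) j j.2
    · apply h b
      rw [baseCorners_eq]
      exact ⟨j, rfl⟩

theorem dim_facet_fundWeight (b : P.Base) (j : b.support) :
    (Facet.ofVec P (fundWeight b j)).dim = 1 := by
  set F := Facet.ofVec P (fundWeight b j) with hF
  have hωF : fundWeight b j ∈ F.carrier := rfl
  have hωb : fundWeight b j ∈ closedChamber b := fundWeight_mem_closedChamber b j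
  unfold Facet.dim
  rw [Groth.Agent.S14229.result P F, corners_eq F b _ hωF hωb]
  have hset : {w | ∃ l : b.support, 0 < P.coroot' l (fundWeight b j) ∧ fundWeight b l = w} =
      {fundWeight b j} := by
    ext w
    simp only [Set.mem_ofPred_eq, Set.mem_singleton_iff]
    constructor
    · rintro ⟨l, hl, rfl⟩
      by_cases hlj : l = j
      · rw [hlj]
      · rw [coroot'_fundWeight_of_ne b j l hlj] at hl
        exact absurd hl (lt_irrefl 0)
    · rintro rfl
      exact ⟨j, by rw [coroot'_fundWeight_self]; exact zero_lt_one, rfl⟩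
  rw [hset]
  apply finrank_span_singleton
  intro h0
  have := coroot'_fundWeight_self b j
  rw [h0, map_zero] at this
  exact zero_ne_one this

theorem deg_le_iff_semistable_dim_one (d : P.Base → N) (hd : IsCCS d) :
    (∀ (F : Facet P) (b : P.Base), F.dim = 1 → b ∈ F.cham → F.deg d b ≤ 0) ↔
      IsSemistable d := by
  constructor
  · intro h
    rw [← semistable_iff_corners d hd]
    intro b m hm
    rw [baseCorners_eq] at hm
    obtain ⟨j, rfl⟩ := hm
    obtain ⟨hb, c, hc, hsum⟩ := facet_fundWeight b j
    have := h _ b (dim_facet_fundWeight b j) hb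
    rw [deg_eq, hsum, map_smul, LinearMap.smul_apply, smul_eq_mul] at this
    by_contra hpos
    push Not at hpos
    exact absurd (mul_pos hc hpos) (not_lt.2 this)
  · intro h F b _ hb
    exact (deg_le_iff_semistable d hd).2 h F b hb

end Groth.Agent.Helper7.RootChG
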