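import Mathlib
import Groth.Prelude.Def_RootCh2
import Groth.Agent.Helper7.RootChG

set_option autoImplicit false
set_option linter.unusedSectionVars false
universe u v w x

namespace Groth.Agent.Helper7.RootChH

open RootCh Module Groth.Agent.Helper7.RootCh1 Groth.Agent.Helper7.RootChB
  Groth.Agent.Helper7.RootChD Groth.Agent.Helper7.RootChE Groth.Agent.Helper7.RootChF
  Groth.Agent.Helper7.RootChG
open scoped Classical

variable {ι : Type u} {R : Type v} {M : Type w} {N : Type x}
  [Field R] [LinearOrder R] [IsStrictOrderedRing R]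
  [AddCommGroup M] [Module R M] [AddCommGroup N] [Module R N] [Finite ι]
  {P : RootPairing ι R M N} [P.IsRootSystem] [P.IsCrystallographic] [P.IsReduced]

/-! ### The dual facet -/

omit [P.IsCrystallographic] [P.IsReduced] in
theorem rc_nonneg_of_cc (b : P.Base) (i : ι) (hi : ∀ j, 0 ≤ cc b i j) : ∀ j, 0 ≤ rc b i j := by
  intro j
  by_contra h
  push Not at h
  exact absurd ((cc_neg_iff b i j).2 h) (not_lt.2 (hi j))

omit [P.IsCrystallographic] [P.IsReduced] in
theorem rc_nonpos_of_cc (b : P.Base) (i : ι) (hi : ∀ j, cc b i j ≤ 0) : ∀ j, rc b i j ≤ 0 := by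
  intro j
  by_contra h
  push Not at h
  exact absurd ((cc_pos_iff b i j).2 h) (not_lt.2 (hi j))

omit [P.IsCrystallographic] [P.IsReduced] in
/-- A dominant vector and a dominant covector with the same positivity pattern on the simple
(co)roots have the same sign vector. -/
theorem sgnVec_eq_cosgnVec (b : P.Base) (ξ : M) (y : N) (hξ : ξ ∈ closedChamber b)
    (hy : ∀ j ∈ b.support, 0 ≤ P.root' j y)
    (h : ∀ j : b.support, 0 < P.coroot' j ξ ↔ 0 < P.root' j y) :
    sgnVec P ξ = cosgnVec P y := by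
  have hy' : y ∈ closedChamber (P := P.flip) b.flip := hy
  funext i
  show SignType.sign (P.coroot' i ξ) = SignType.sign (P.root' i y)
  rcases cc_nonneg_or_nonpos b i with hi | hi
  · have hi' := rc_nonneg_of_cc b i hi
    have h1 := coroot'_pos_iff b i ξ hξ hi
    have h2 : 0 < P.root' i y ↔ ∃ j : b.support, 0 < rc b i j ∧ 0 < P.root' j y :=
      coroot'_pos_iff (P := P.flip) b.flip i y hy' hi'
    have h3 : 0 < P.coroot' i ξ ↔ 0 < P.root' i y := by
      rw [h1, h2]
      exact exists_congr fun j => by rw [h j, cc_pos_iff]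
    have h0 : 0 ≤ P.root' i y := coroot'_nonneg (P := P.flip) b.flip i y hy' hi'
    by_cases h4 : 0 < P.coroot' i ξ
    · rw [sign_pos h4, sign_pos (h3.1 h4)]
    · have h5 : P.coroot' i ξ = 0 := le_antisymm (not_lt.1 h4) (coroot'_nonneg b i ξ hξ hi)
      have h6 : P.root' i y = 0 := le_antisymm (not_lt.1 (fun h' => h4 (h3.2 h'))) h0
      rw [h5, h6]
  · have hi' := rc_nonpos_of_cc b i hi
    have h1 := coroot'_neg_iff b i ξ hξ hi
    have h2 : P.root' i y < 0 ↔ ∃ j : b.support, rc b i j < 0 ∧ 0 < P.root' j y :=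
      coroot'_neg_iff (P := P.flip) b.flip i y hy' hi'
    have h3 : P.coroot' i ξ < 0 ↔ P.root' i y < 0 := by
      rw [h1, h2]
      exact exists_congr fun j => by rw [h j, cc_neg_iff]
    have h0 : P.root' i y ≤ 0 := coroot'_nonpos (P := P.flip) b.flip i y hy' hi'
    by_cases h4 : P.coroot' i ξ < 0
    · rw [sign_neg h4, sign_neg (h3.1 h4)]
    · have h5 : P.coroot' i ξ = 0 := le_antisymm (coroot'_nonpos b i ξ hξ hi) (not_lt.1 h4)
      have h6 : P.root' i y = 0 := le_antisymm h0 (not_lt.1 (fun h' => h4 (h3.2 h')))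
      rw [h5, h6]

omit [P.IsCrystallographic] [P.IsReduced] in
theorem dual_sgn_eq (F : Facet P) (y : N) (hy : y ∈ F.dualCarrier) (i : ι) :
    F.sgn i = SignType.sign (P.root' i y) := by
  have : cosgnVec P y = F.sgn := hy
  rw [← this]
  rfl

omit [P.IsCrystallographic] [P.IsReduced] in
/-- Membership in the dual facet, in terms of an adapted base. -/
theorem mem_dualCarrier_iff (F : Facet P) (b : P.Base) (ξ : M) (hξF : ξ ∈ F.carrier)
    (hξ : ξ ∈ closedChamber b) (y : N) :
    y ∈ F.dualCarrier ↔ (∀ j ∈ b.support, 0 ≤ P.root' j y) ∧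
      ∀ j : b.support, 0 < P.coroot' j ξ ↔ 0 < P.root' j y := by
  constructor
  · intro hy
    have key : ∀ i, SignType.sign (P.coroot' i ξ) = SignType.sign (P.root' i y) := fun i => by
      rw [← sgn_eq F ξ hξF i, dual_sgn_eq F y hy i]
    refine ⟨fun j hj => ?_, fun j => ?_⟩
    · by_contra hneg
      push Not at hneg
      have h1 := key j
      rw [sign_neg hneg] at h1
      exact absurd (hξ j hj) (not_le.2 (sign_eq_neg_one_iff.1 h1))
    · rw [← sign_eq_one_iff, ← sign_eq_one_iff, key j]
  · rintro ⟨h1, h2⟩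
    show cosgnVec P y = F.sgn
    rw [← sgnVec_eq_cosgnVec b ξ y hξ h1 h2]
    exact hξF

omit [P.IsCrystallographic] [P.IsReduced] in
/-- The covector attached to a dominant vector and a base. -/
theorem exists_dual_vec (b : P.Base) (ξ : M) :
    ∃ y : N, ∀ j : b.support, P.root' j y = P.coroot' j ξ := by
  refine ⟨∑ l : b.support, P.coroot' l ξ • fundCoweight b l, fun j => ?_⟩
  rw [map_sum, Finset.sum_eq_single j]
  · rw [map_smul, root'_fundCoweight, if_pos rfl, smul_eq_mul, mul_one]
  · intro l _ hl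
    rw [map_smul, root'_fundCoweight, if_neg (Ne.symm hl), smul_zero]
  · intro h
    exact absurd (Finset.mem_univ j) h

theorem dualCarrier_nonempty (F : Facet P) : F.dualCarrier.Nonempty := by
  obtain ⟨ξ, hξ⟩ := F.exists_sgnVec_eq
  have hξF : ξ ∈ F.carrier := hξ
  obtain ⟨b, hb⟩ := exists_base_mem_closedChamber (P := P) ξ
  obtain ⟨y, hy⟩ := exists_dual_vec b ξ
  refine ⟨y, (mem_dualCarrier_iff F b ξ hξF hb y).2 ⟨fun j hj => ?_, fun j => ?_⟩⟩
  · rw [hy ⟨j, hj⟩]
    exact hb j hj
  · rw [hy j]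

/-! ### Pairings with the solid -/

omit [P.IsCrystallographic] [P.IsReduced] in
theorem dualSolid_subset_solid (d : P.Base → N) (F : Facet P) : dualSolid d F ⊆ solid d :=
  convexHull_mono (Set.image_subset_range d _)

theorem solid_pair_ge (d : P.Base → N) (hd : IsCCS d) (b' : P.Base) (i' : b'.support) (y : N)
    (hy : y ∈ solid d) :
    P.toLinearMap (fundWeight b' i') (d b') ≤ P.toLinearMap (fundWeight b' i') y := by
  have hconv : Convex R {z : N | P.toLinearMap (fundWeight b' i') (d b') ≤
      P.toLinearMap (fundWeight b' i') z} :=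
    convex_halfSpace_ge (P.toLinearMap (fundWeight b' i')).isLinear _
  refine convexHull_min ?_ hconv hy
  rintro _ ⟨b, rfl⟩
  exact key_le d hd b' i' b

theorem pair_dominant_le (d : P.Base → N) (hd : IsCCS d) (c : P.Base) (x : M)
    (hx : x ∈ closedChamber c) (y : N) (hy : y ∈ solid d) :
    P.toLinearMap x (d c) ≤ P.toLinearMap x y := by
  rw [pair_eq_sum c x y, pair_eq_sum c x (d c)]
  apply Finset.sum_le_sum
  intro j _
  exact mul_le_mul_of_nonneg_left (solid_pair_ge d hd c j y hy) (hx j j.2)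

omit [P.IsCrystallographic] [P.IsReduced] in
theorem pair_hyper_eq (d : P.Base → N) (F : Facet P) (b : P.Base) (hb : b ∈ F.cham) (y : N)
    (hy : ∀ m ∈ F.corners, y ∈ hyper d m) (x : M) (hx : x ∈ F.carrier) :
    P.toLinearMap x y = P.toLinearMap x (d b) := by
  have hxb : x ∈ closedChamber b := hb hx
  have hcor := corners_eq F b x hx hxb
  rw [pair_eq_sum b x y, pair_eq_sum b x (d b)]
  apply Finset.sum_congr rfl
  intro j _
  by_cases hj : 0 < P.coroot' j x
  · have hm : fundWeight b j ∈ F.corners := by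
      rw [hcor]
      exact ⟨j, hj, rfl⟩
    rw [hy _ hm b (corners_subset_baseCorners F b hb hm)]
  · have h0 : P.coroot' j x = 0 := le_antisymm (not_lt.1 hj) (hxb j j.2)
    rw [h0, zero_mul, zero_mul]

theorem dualSolid_mem_hyper (d : P.Base → N) (hd : IsCCS d) (F : Facet P) (y : N)
    (hy : y ∈ dualSolid d F) : ∀ m ∈ F.corners, y ∈ hyper d m := by
  rw [dualSolid_eq d hd F] at hy
  have := hy.1
  simp only [Set.mem_iInter] at this
  exact this

/-! ### Sums over parabolic sets -/

omit [LinearOrder R] [IsStrictOrderedRing R] [P.IsRootSystem] [P.IsCrystallographic]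
  [P.IsReduced] in
theorem sum_toFinset_eq [Fintype ι] (S : Set ι) (f : ι → R) :
    ∑ i ∈ (Set.toFinite S).toFinset, f i = ∑ i, if i ∈ S then f i else 0 := by
  rw [← Finset.sum_filter]
  congr 1
  ext i
  simp only [Set.Finite.mem_toFinset, Finset.mem_filter, Finset.mem_univ, true_and]

omit [P.IsCrystallographic] [P.IsReduced] in
theorem deg_eq' [Fintype ι] (G : Facet P) (y : N) :
    P.toLinearMap (∑ i ∈ (Set.toFinite G.parab).toFinset, P.root i) y =
      ∑ i, if G.sgn i ≠ -1 then P.root' i y else 0 := by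
  rw [map_sum, LinearMap.sum_apply, sum_toFinset_eq]
  apply Finset.sum_congr rfl
  intro i _
  by_cases h : G.sgn i ≠ -1
  · rw [if_pos h, if_pos (show i ∈ G.parab from h)]
  · rw [if_neg h, if_neg (show ¬ i ∈ G.parab from h)]

omit [P.IsRootSystem] [P.IsCrystallographic] [P.IsReduced] in
theorem reflectionPerm_neg_neg (i : ι) :
    P.reflectionPerm (P.reflectionPerm i i) (P.reflectionPerm i i) = i := by
  apply P.root.injective
  rw [root_neg, root_neg, neg_neg]

omit [P.IsCrystallographic] [P.IsReduced] in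
/-- The contribution of the Levi part to a degree vanishes. -/
theorem sum_levi_eq_zero [Fintype ι] (G : Facet P) (y : N) :
    ∑ i, (if G.sgn i = 0 then P.root' i y else 0) = 0 := by
  have h : ∑ i, (if G.sgn i = 0 then P.root' i y else 0) =
      ∑ i, (if G.sgn (P.reflectionPerm i i) = 0 then P.root' (P.reflectionPerm i i) y else 0) := by
    symm
    apply Finset.sum_nbij' (fun i => P.reflectionPerm i i) (fun i => P.reflectionPerm i i)
    · intro i _
      exact Finset.mem_univ _
    · intro i _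
      exact Finset.mem_univ _
    · intro i _
      exact reflectionPerm_neg_neg i
    · intro i _
      exact reflectionPerm_neg_neg i
    · intro i _
      rfl
  have h2 : ∑ i, (if G.sgn (P.reflectionPerm i i) = 0 then P.root' (P.reflectionPerm i i) y else 0) =
      - ∑ i, (if G.sgn i = 0 then P.root' i y else 0) := by
    rw [← Finset.sum_neg_distrib]
    apply Finset.sum_congr rfl
    intro i _
    rw [sgn_neg, root'_neg]
    rcases RootChC.sgn_cases G i with h0 | h0 | h0 <;> simp [h0]
  rw [h2] at h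
  linarith

omit [P.IsCrystallographic] [P.IsReduced] in
theorem sum_parab_eq_pos [Fintype ι] (G : Facet P) (y : N) :
    (∑ i, if G.sgn i ≠ -1 then P.root' i y else 0) =
      ∑ i, if G.sgn i = 1 then P.root' i y else 0 := by
  have h : ∀ i, (if G.sgn i ≠ -1 then P.root' i y else 0) =
      (if G.sgn i = 1 then P.root' i y else 0) + (if G.sgn i = 0 then P.root' i y else 0) := by
    intro i
    rcases RootChC.sgn_cases G i with h0 | h0 | h0 <;> simp [h0]
  rw [Finset.sum_congr rfl (fun i _ => h i), Finset.sum_add_distrib, sum_levi_eq_zero, add_zero]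

omit [P.IsCrystallographic] [P.IsReduced] in
theorem parab_term_eq_max (F : Facet P) (y : N) (hy : y ∈ F.dualCarrier) (i : ι) :
    (if F.sgn i ≠ -1 then P.root' i y else 0) = max (P.root' i y) 0 := by
  have hs := dual_sgn_eq F y hy i
  rcases lt_trichotomy (P.root' i y) 0 with h | h | h
  · rw [sign_neg h] at hs
    rw [if_neg (not_not.2 hs), max_eq_right h.le]
  · rw [h, max_self, ite_self]
  · rw [sign_pos h] at hs
    rw [if_pos (by rw [hs]; decide), max_eq_left h.le]

omit [P.IsCrystallographic] [P.IsReduced] in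
theorem pos_term_le_max (G : Facet P) (y : N) (i : ι) :
    (if G.sgn i = 1 then P.root' i y else 0) ≤ max (P.root' i y) 0 := by
  split_ifs
  · exact le_max_left _ _
  · exact le_max_right _ _

omit [P.IsCrystallographic] [P.IsReduced] in
theorem sum_parab_le [Fintype ι] (F G : Facet P) (y : N) (hy : y ∈ F.dualCarrier) :
    (∑ i, if G.sgn i ≠ -1 then P.root' i y else 0) ≤
      ∑ i, if F.sgn i ≠ -1 then P.root' i y else 0 := by
  rw [sum_parab_eq_pos G y, Finset.sum_congr rfl (fun i _ => parab_term_eq_max F y hy i)]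
  exact Finset.sum_le_sum fun i _ => pos_term_le_max G y i

omit [P.IsCrystallographic] [P.IsReduced] in
theorem le_of_sum_parab_eq [Fintype ι] (F G : Facet P) (y : N) (hy : y ∈ F.dualCarrier)
    (h : (∑ i, if G.sgn i ≠ -1 then P.root' i y else 0) =
      ∑ i, if F.sgn i ≠ -1 then P.root' i y else 0) : G ≤ F := by
  rw [sum_parab_eq_pos G y, Finset.sum_congr rfl (fun i _ => parab_term_eq_max F y hy i)] at h
  have h2 := (Finset.sum_eq_sum_iff_of_le (fun i _ => pos_term_le_max G y i)).1 h
  -- consequences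
  have hpos : ∀ i, G.sgn i = 1 → F.sgn i ≠ -1 := by
    intro i hi hF
    have := h2 i (Finset.mem_univ i)
    rw [if_pos hi] at this
    have hs := dual_sgn_eq F y hy i
    rw [hF] at hs
    have hneg := sign_eq_neg_one_iff.1 hs.symm
    rw [max_eq_right hneg.le] at this
    exact absurd this hneg.ne
  have hnp : ∀ i, G.sgn i ≠ 1 → F.sgn i ≠ 1 := by
    intro i hi hF
    have := h2 i (Finset.mem_univ i)
    rw [if_neg hi] at this
    have hs := dual_sgn_eq F y hy i
    rw [hF] at hs
    have hp := sign_eq_one_iff.1 hs.symm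
    rw [max_eq_left hp.le] at this
    exact absurd this.symm hp.ne'
  intro i
  rcases RootChC.sgn_cases G i with h0 | h0 | h0
  · left
    have h1 := hnp i (by rw [h0]; decide)
    have h3 := hnp (P.reflectionPerm i i) (by rw [sgn_neg, h0]; decide)
    rw [sgn_neg] at h3
    rcases RootChC.sgn_cases F i with h4 | h4 | h4
    · exact h4
    · exact absurd h4 h1
    · rw [h4] at h3
      exact absurd rfl h3
  · have h1 := hpos i h0
    rcases RootChC.sgn_cases F i with h4 | h4 | h4
    · left; exact h4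
    · right; rw [h4, h0]
    · exact absurd h4 h1
  · have h1 := hnp i (by rw [h0]; decide)
    rcases RootChC.sgn_cases F i with h4 | h4 | h4
    · left; exact h4
    · exact absurd h4 h1
    · right; rw [h4, h0]

/-- The special facet has maximal degree and dominates the facets of maximal degree. -/
theorem special_max (d : P.Base → N) (hd : IsCCS d) (F : Facet P) (b : P.Base) (hb : b ∈ F.cham)
    (hF : IsSpecial d F) :
    (∀ (G : Facet P) (c : P.Base), c ∈ G.cham → G.deg d c ≤ F.deg d b) ∧
      ∀ (G : Facet P) (c : P.Base), c ∈ G.cham → G.deg d c = F.deg d b → G ≤ F := by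
  let _ := Fintype.ofFinite ι
  obtain ⟨y, hy1, hy2⟩ := hF
  have hysolid : y ∈ solid d := dualSolid_subset_solid d F hy2
  have hyper := dualSolid_mem_hyper d hd F y hy2
  have hFdeg : F.deg d b = ∑ i, if F.sgn i ≠ -1 then P.root' i y else 0 := by
    rw [deg_eq, ← pair_hyper_eq d F b hb y hyper _ (sum_parab_mem F), deg_eq']
  have hGdeg : ∀ (G : Facet P) (c : P.Base), c ∈ G.cham →
      G.deg d c ≤ ∑ i, if G.sgn i ≠ -1 then P.root' i y else 0 := by
    intro G c hc
    rw [deg_eq, ← deg_eq']
    exact pair_dominant_le d hd c _ (hc (sum_parab_mem G)) y hysolid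
  refine ⟨fun G c hc => ?_, fun G c hc hdeg => ?_⟩
  · rw [hFdeg]
    exact (hGdeg G c hc).trans (sum_parab_le F G y hy1)
  · apply le_of_sum_parab_eq F G y hy1
    apply le_antisymm (sum_parab_le F G y hy1)
    rw [← hFdeg, ← hdeg]
    exact hGdeg G c hc

/-! ### Numerical invariants -/

omit [P.IsCrystallographic] [P.IsReduced] in
theorem mem_Psi_iff (F : Facet P) (b : P.Base) (ξ : M) (hξF : ξ ∈ F.carrier)
    (hb : ξ ∈ closedChamber b) (j₀ : b.support) (i : ι) :
    i ∈ F.Psi (fundWeight b j₀) ↔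
      (rc b i j₀ = 1 ∧ ∀ j : b.support, 0 < P.coroot' j ξ → j ≠ j₀ → rc b i j = 0) := by
  have hcor := corners_eq F b ξ hξF hb
  constructor
  · rintro ⟨h1, h2⟩
    refine ⟨h1 _ ((corr_iff b j₀ _).2 rfl), fun j hj hne => ?_⟩
    exact h2 (fundWeight b j) (by rw [hcor]; exact ⟨j, hj, rfl⟩)
      (fun h => hne (fundWeight_injective b h)) _ ((corr_iff b j _).2 rfl)
  · rintro ⟨h1, h2⟩
    refine ⟨fun x hx => ?_, fun w' hw' hne x hx => ?_⟩
    · rw [(corr_iff b j₀ x).1 hx]
      exact h1
    · rw [hcor] at hw'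
      obtain ⟨j, hj, rfl⟩ := hw'
      rw [(corr_iff b j x).1 hx]
      exact h2 j hj (fun h => hne (by rw [h]))

omit [P.IsCrystallographic] [P.IsReduced] in
theorem simple_mem_Psi (F : Facet P) (b : P.Base) (ξ : M) (hξF : ξ ∈ F.carrier)
    (hb : ξ ∈ closedChamber b) (j₀ : b.support) :
    (j₀ : ι) ∈ F.Psi (fundWeight b j₀) := by
  rw [mem_Psi_iff F b ξ hξF hb]
  refine ⟨?_, fun j _ hne => ?_⟩
  · show P.root' j₀ (fundCoweight b j₀) = 1
    rw [root'_fundCoweight, if_pos rfl]
  · show P.root' j₀ (fundCoweight b j) = 0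
    rw [root'_fundCoweight, if_neg (Ne.symm hne)]

omit [P.IsCrystallographic] [P.IsReduced] in
theorem root'_eq_sum (b : P.Base) (i : ι) (y : N) :
    P.root' i y = ∑ j : b.support, rc b i j * P.root' j y :=
  coroot'_eq_sum (P := P.flip) b.flip i y

omit [P.IsCrystallographic] [P.IsReduced] in
theorem pair_hyper_eq_span (d : P.Base → N) (F : Facet P) (b : P.Base) (hb : b ∈ F.cham) (y : N)
    (hy : ∀ m ∈ F.corners, y ∈ hyper d m) (x : M) (hx : x ∈ Submodule.span R F.corners) :
    P.toLinearMap x y = P.toLinearMap x (d b) := by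
  induction hx using Submodule.span_induction with
  | mem m hm => exact hy m hm b (corners_subset_baseCorners F b hb hm)
  | zero => rw [map_zero, LinearMap.zero_apply, LinearMap.zero_apply]
  | add x y _ _ hx hy => rw [map_add, LinearMap.add_apply, LinearMap.add_apply, hx, hy]
  | smul r x _ hx => rw [map_smul, LinearMap.smul_apply, LinearMap.smul_apply, hx]

omit [P.IsCrystallographic] [P.IsReduced] in
/-- On the span of the dual facet the Levi simple roots vanish. -/
theorem root'_eq_zero_of_mem_span (F : Facet P) (b : P.Base) (ξ : M) (hξF : ξ ∈ F.carrier)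
    (hb : ξ ∈ closedChamber b) (y : N) (hy : y ∈ Submodule.span R F.dualCarrier)
    (j : b.support) (hj : ¬ 0 < P.coroot' j ξ) : P.root' j y = 0 := by
  induction hy using Submodule.span_induction with
  | mem y' hy' =>
    obtain ⟨h1, h2⟩ := (mem_dualCarrier_iff F b ξ hξF hb y').1 hy'
    exact le_antisymm (not_lt.1 (fun h => hj ((h2 j).2 h))) (h1 j j.2)
  | zero => rw [map_zero]
  | add x y _ _ hx hy => rw [map_add, hx, hy, add_zero]
  | smul r x _ hx => rw [map_smul, hx, smul_zero]

/-- The numerical invariant through a point of the hyperplanes of the corners lying in the span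
of the dual facet. -/
theorem numInv_eq (d : P.Base → N) (F : Facet P) (b : P.Base) (hbF : b ∈ F.cham) (ξ : M)
    (hξF : ξ ∈ F.carrier) (j₀ : b.support) (hj₀ : 0 < P.coroot' j₀ ξ) (y : N)
    (hy : ∀ m ∈ F.corners, y ∈ hyper d m)
    (hyspan : ∀ j : b.support, ¬ 0 < P.coroot' j ξ → P.root' j y = 0) :
    F.numInv d (fundWeight b j₀) b =
      ((Set.toFinite (F.Psi (fundWeight b j₀))).toFinset.card : R) * P.root' j₀ y := by
  have hb : ξ ∈ closedChamber b := hbF hξF
  have hcor := corners_eq F b ξ hξF hb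
  have hm : fundWeight b j₀ ∈ F.corners := by
    rw [hcor]
    exact ⟨j₀, hj₀, rfl⟩
  set T := (Set.toFinite (F.Psi (fundWeight b j₀))).toFinset with hT
  have h1 : F.numInv d (fundWeight b j₀) b = P.toLinearMap (∑ i ∈ T, P.root i) (d b) := by
    unfold Facet.numInv
    rw [map_sum, LinearMap.sum_apply]
  rw [h1, ← pair_hyper_eq_span d F b hbF y hy _ (sum_root_psi_mem F _ hm), map_sum,
    LinearMap.sum_apply]
  have h2 : ∀ i ∈ T, P.toLinearMap (P.root i) y = P.root' j₀ y := by
    intro i hi
    have hi' := (mem_Psi_iff F b ξ hξF hb j₀ i).1 ((Set.Finite.mem_toFinset _).1 hi)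
    show P.root' i y = _
    rw [root'_eq_sum b i y, Finset.sum_eq_single j₀]
    · rw [hi'.1, one_mul]
    · intro j _ hj
      by_cases hjJ : 0 < P.coroot' j ξ
      · rw [hi'.2 j hjJ hj, zero_mul]
      · rw [hyspan j hjJ, mul_zero]
    · intro h
      exact absurd (Finset.mem_univ _) h
  rw [Finset.sum_congr rfl h2, Finset.sum_const, nsmul_eq_mul]

/-- Specialness in terms of numerical invariants. -/
theorem special_iff (d : P.Base → N) (hd : IsCCS d) (F : Facet P) :
    ((∀ m ∈ F.corners, ∀ b ∈ F.cham, 0 < F.numInv d m b) ∧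
        (dualSolid d F ∩ (Submodule.span R F.dualCarrier : Set N)).Nonempty) ↔
      IsSpecial d F := by
  obtain ⟨ξ, hξ⟩ := F.exists_sgnVec_eq
  have hξF : ξ ∈ F.carrier := hξ
  have hcard : ∀ (b : P.Base), ξ ∈ closedChamber b → ∀ j₀ : b.support,
      (0 : R) < ((Set.toFinite (F.Psi (fundWeight b j₀))).toFinset.card : R) := by
    intro b hb j₀
    rw [Nat.cast_pos, Finset.card_pos]
    exact ⟨j₀, (Set.Finite.mem_toFinset _).2 (simple_mem_Psi F b ξ hξF hb j₀)⟩
  constructor
  · rintro ⟨hS1, y, hy1, hy2⟩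
    refine ⟨y, ?_, hy1⟩
    obtain ⟨b, hb⟩ := exists_base_mem_closedChamber (P := P) ξ
    have hbF : b ∈ F.cham := carrier_subset_closedChamber F b ξ hξF hb
    have hyper := dualSolid_mem_hyper d hd F y hy1
    have hspan := root'_eq_zero_of_mem_span F b ξ hξF hb y hy2
    rw [mem_dualCarrier_iff F b ξ hξF hb]
    have key : ∀ j : b.support, 0 < P.coroot' j ξ → 0 < P.root' j y := by
      intro j hj
      have hm : fundWeight b j ∈ F.corners := by
        rw [corners_eq F b ξ hξF hb]
        exact ⟨j, hj, rfl⟩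
      have h1 := hS1 _ hm b hbF
      rw [numInv_eq d F b hbF ξ hξF j hj y hyper hspan] at h1
      exact (pos_iff_pos_of_mul_pos h1).1 (hcard b hb j)
    refine ⟨fun j hj => ?_, fun j => ⟨key j, fun h => ?_⟩⟩
    · by_cases hjJ : 0 < P.coroot' (⟨j, hj⟩ : b.support) ξ
      · exact (key ⟨j, hj⟩ hjJ).le
      · exact (hspan ⟨j, hj⟩ hjJ).ge
    · by_contra hjJ
      rw [hspan j hjJ] at h
      exact lt_irrefl _ h
  · rintro ⟨y, hy1, hy2⟩
    refine ⟨fun m hm b hbF => ?_, y, hy2, Submodule.subset_span hy1⟩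
    have hb : ξ ∈ closedChamber b := hbF hξF
    rw [corners_eq F b ξ hξF hb] at hm
    obtain ⟨j₀, hj₀, rfl⟩ := hm
    have hyper := dualSolid_mem_hyper d hd F y hy2
    have hspan := root'_eq_zero_of_mem_span F b ξ hξF hb y (Submodule.subset_span hy1)
    rw [numInv_eq d F b hbF ξ hξF j₀ hj₀ y hyper hspan]
    exact mul_pos (hcard b hb j₀) (((mem_dualCarrier_iff F b ξ hξF hb y).1 hy1).2 j₀ |>.1 hj₀)

end Groth.Agent.Helper7.RootChH
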