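import Mathlib
import Groth.Prelude.Def_RootCh2
import Groth.Agent.Helper7.RootChH

set_option autoImplicit false
set_option linter.unusedSectionVars false
universe u v w x

namespace Groth.Agent.Helper7.RootChI

open RootCh Module Groth.Agent.Helper7.RootCh1 Groth.Agent.Helper7.RootChB
  Groth.Agent.Helper7.RootChD Groth.Agent.Helper7.RootChE Groth.Agent.Helper7.RootChF
  Groth.Agent.Helper7.RootChG Groth.Agent.Helper7.RootChH
open scoped Classical

variable {ι : Type u} {R : Type v} {M : Type w} {N : Type x}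
  [Field R] [LinearOrder R] [IsStrictOrderedRing R]
  [AddCommGroup M] [Module R M] [AddCommGroup N] [Module R N] [Finite ι]
  {P : RootPairing ι R M N} [P.IsRootSystem] [P.IsCrystallographic] [P.IsReduced]

/-! ### Invariant scalar products on the coroot side -/

omit [P.IsCrystallographic] [P.IsReduced] in
theorem exists_invariant_form : ∃ B : LinearMap.BilinForm R N, (∀ y z : N, B y z = B z y) ∧
    (∀ y : N, y ≠ 0 → 0 < B y y) ∧
    ∀ (i : ι) (y z : N), B (P.coreflection i y) (P.coreflection i z) = B y z := by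
  let _ := Fintype.ofFinite ι
  refine ⟨P.flip.RootForm, fun y z => ?_, fun y hy => ?_, fun i y z => ?_⟩
  · have := LinearMap.isSymm_def.1 P.flip.rootForm_symmetric z y
    rw [RingHom.id_apply] at this
    exact this.symm
  · apply (P.flip.zero_le_rootForm y).lt_of_ne
    intro h
    exact hy (P.flip.rootForm_anisotropic y h.symm)
  · exact P.flip.rootForm_reflection_reflection_apply i y z

section Form

variable (B : LinearMap.BilinForm R N) (hBs : ∀ y z : N, B y z = B z y)
  (hBp : ∀ y : N, y ≠ 0 → 0 < B y y)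
  (hBi : ∀ (i : ι) (y z : N), B (P.coreflection i y) (P.coreflection i z) = B y z)

include hBs hBi in
omit [P.IsRootSystem] [P.IsCrystallographic] [P.IsReduced] in
theorem two_mul_B_coroot (i : ι) (y : N) :
    2 * B (P.coroot i) y = B (P.coroot i) (P.coroot i) * P.root' i y := by
  have h := hBi i y (P.coroot i)
  rw [P.coreflection_apply_self, P.coreflection_apply, map_neg, map_sub, map_smul,
    LinearMap.sub_apply, LinearMap.smul_apply, smul_eq_mul, hBs y (P.coroot i)] at h
  linarith

include hBp in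
omit [P.IsRootSystem] [P.IsCrystallographic] [P.IsReduced] in
theorem B_coroot_pos (i : ι) : 0 < B (P.coroot i) (P.coroot i) := by
  apply hBp
  intro h
  have := P.root_coroot_two i
  rw [h, map_zero] at this
  exact two_ne_zero this.symm

/-- The vector of `M` attached to a covector through the scalar product. -/
noncomputable def vec (y : N) : M := P.toPerfPair.symm (B y)

omit [LinearOrder R] [IsStrictOrderedRing R] [P.IsCrystallographic] [P.IsReduced] in
theorem pair_vec (y z : N) : P.toLinearMap (vec (P := P) B y) z = B y z := by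
  unfold vec
  rw [P.toLinearMap.apply_symm_toPerfPair_self]

include hBs hBi in
omit [P.IsCrystallographic] [P.IsReduced] in
theorem two_mul_coroot'_vec (i : ι) (y : N) :
    2 * P.coroot' i (vec (P := P) B y) = B (P.coroot i) (P.coroot i) * P.root' i y := by
  rw [← two_mul_B_coroot B hBs hBi i y, hBs (P.coroot i) y]
  congr 1
  exact pair_vec B y (P.coroot i)

include hBs hBp hBi in
omit [P.IsCrystallographic] [P.IsReduced] in
theorem sgnVec_vec (y : N) : sgnVec P (vec (P := P) B y) = cosgnVec P y := by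
  funext i
  show SignType.sign (P.coroot' i (vec (P := P) B y)) = SignType.sign (P.root' i y)
  have h := two_mul_coroot'_vec B hBs hBi i y
  have hq := B_coroot_pos (P := P) B hBp i
  rcases lt_trichotomy (P.root' i y) 0 with h0 | h0 | h0
  · rw [sign_neg h0]
    apply sign_neg
    have : B (P.coroot i) (P.coroot i) * P.root' i y < 0 := mul_neg_of_pos_of_neg hq h0
    linarith
  · rw [h0, mul_zero] at h
    rw [h0]
    congr 1
    linarith
  · rw [sign_pos h0]
    apply sign_pos
    have : 0 < B (P.coroot i) (P.coroot i) * P.root' i y := mul_pos hq h0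
    linarith

include hBs hBp hBi in
omit [P.IsCrystallographic] [P.IsReduced] in
theorem vec_mem_carrier (F : Facet P) (y : N) (hy : y ∈ F.dualCarrier) :
    vec (P := P) B y ∈ F.carrier := by
  show sgnVec P (vec (P := P) B y) = F.sgn
  rw [sgnVec_vec B hBs hBp hBi y]
  exact hy

include hBs hBp hBi in
/-- The locus of `y(F)` has at most one point. -/
theorem yLocus_subsingleton (d : P.Base → N) (F : Facet P) (y y' : N) (hy : y ∈ yLocus d F)
    (hy' : y' ∈ yLocus d F) : y = y' := by
  obtain ⟨ξ, hξ⟩ := F.exists_sgnVec_eq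
  have hξF : ξ ∈ F.carrier := hξ
  obtain ⟨b, hb⟩ := exists_base_mem_closedChamber (P := P) ξ
  have hbF : b ∈ F.cham := carrier_subset_closedChamber F b ξ hξF hb
  have hcor := corners_eq F b ξ hξF hb
  obtain ⟨hy1, hy2⟩ := hy
  obtain ⟨hy1', hy2'⟩ := hy'
  simp only [Set.mem_iInter] at hy1 hy1'
  set z := y - y' with hz
  have hzspan : z ∈ Submodule.span R F.dualCarrier := Submodule.sub_mem _ hy2 hy2'
  have hz0 := root'_eq_zero_of_mem_span F b ξ hξF hb z hzspan
  have hzB : B z z = 0 := by
    rw [← pair_vec (P := P) B z z, pair_eq_sum b]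
    apply Finset.sum_eq_zero
    intro j _
    by_cases hj : 0 < P.coroot' j ξ
    · have hm : fundWeight b j ∈ F.corners := by
        rw [hcor]
        exact ⟨j, hj, rfl⟩
      have hmb := corners_subset_baseCorners F b hbF hm
      rw [hz, map_sub, hy1 _ hm b hmb, hy1' _ hm b hmb, sub_self, mul_zero]
    · have h2 := two_mul_coroot'_vec B hBs hBi (j : ι) z
      rw [hz0 j hj, mul_zero] at h2
      have : P.coroot' j (vec (P := P) B z) = 0 := by linarith
      rw [this, zero_mul]
  by_contra hne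
  have : z ≠ 0 := sub_ne_zero.2 hne
  exact absurd hzB (hBp z this).ne'

end Form

section Form2

variable (B : LinearMap.BilinForm R N) (hBs : ∀ y z : N, B y z = B z y)
  (hBp : ∀ y : N, y ≠ 0 → 0 < B y y)
  (hBi : ∀ (i : ι) (y z : N), B (P.coreflection i y) (P.coreflection i z) = B y z)

theorem cham_nonempty (F : Facet P) : ∃ b : P.Base, b ∈ F.cham := by
  obtain ⟨ξ, hξ⟩ := F.exists_sgnVec_eq
  have hξF : ξ ∈ F.carrier := hξ
  obtain ⟨b, hb⟩ := exists_base_mem_closedChamber (P := P) ξ
  exact ⟨b, carrier_subset_closedChamber F b ξ hξF hb⟩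

omit [P.IsCrystallographic] [P.IsReduced] in
theorem dualCarrier_subset_span (F : Facet P) (y : N) (hy : y ∈ F.dualCarrier) :
    y ∈ (Submodule.span R F.dualCarrier : Set N) := Submodule.subset_span hy

/-- A point of the dual facet lying in the dual solid is the point `y(F)`. -/
theorem mem_yLocus_of_special (d : P.Base → N) (hd : IsCCS d) (F : Facet P) (y : N)
    (hy1 : y ∈ F.dualCarrier) (hy2 : y ∈ dualSolid d F) : y ∈ yLocus d F := by
  refine ⟨?_, Submodule.subset_span hy1⟩
  simp only [Set.mem_iInter]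
  exact dualSolid_mem_hyper d hd F y hy2

include hBs hBp hBi in
theorem yLocus_eq_singleton (d : P.Base → N) (hd : IsCCS d) (F : Facet P) (y : N)
    (hy1 : y ∈ F.dualCarrier) (hy2 : y ∈ dualSolid d F) : yLocus d F = {y} := by
  ext z
  constructor
  · intro hz
    exact yLocus_subsingleton B hBs hBp hBi d F z y hz (mem_yLocus_of_special d hd F y hy1 hy2)
  · rintro rfl
    exact mem_yLocus_of_special d hd F z hy1 hy2

include hBs hBp hBi in
/-- The point of a special facet is the point of the solid closest to the origin. -/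
theorem special_min_norm (d : P.Base → N) (hd : IsCCS d) (F : Facet P) (hF : IsSpecial d F) :
    ∃ y₀ : N, yLocus d F = {y₀} ∧ y₀ ∈ solid d ∧
      ∀ y ∈ solid d, y ≠ y₀ → B y₀ y₀ < B y y := by
  obtain ⟨y₀, hy1, hy2⟩ := hF
  refine ⟨y₀, yLocus_eq_singleton B hBs hBp hBi d hd F y₀ hy1 hy2,
    dualSolid_subset_solid d F hy2, fun y hy hne => ?_⟩
  obtain ⟨b, hbF⟩ := cham_nonempty F
  have hξ := vec_mem_carrier B hBs hBp hBi F y₀ hy1
  have h1 : B y₀ y₀ ≤ B y₀ y := by
    rw [← pair_vec (P := P) B y₀ y₀, ← pair_vec (P := P) B y₀ y,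
      pair_hyper_eq d F b hbF y₀ (dualSolid_mem_hyper d hd F y₀ hy2) _ hξ]
    exact pair_dominant_le d hd b _ (hbF hξ) y hy
  have h2 : 0 < B (y - y₀) (y - y₀) := hBp _ (sub_ne_zero.2 hne)
  have h3 : B (y - y₀) (y - y₀) = B y y - 2 * B y₀ y + B y₀ y₀ := by
    simp only [map_sub, LinearMap.sub_apply]
    rw [hBs y y₀]
    ring
  linarith

omit [P.IsRootSystem] [P.IsCrystallographic] [P.IsReduced] [Finite ι] in
include hBs in
/-- The variational inequality for a point of minimal norm in a convex set. -/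
theorem variational (S : Set N) (hS : Convex R S) (y₀ : N) (hy₀ : y₀ ∈ S)
    (hmin : ∀ y ∈ S, B y₀ y₀ ≤ B y y) (hnn : ∀ y : N, 0 ≤ B y y) (y : N) (hy : y ∈ S) :
    B y₀ y₀ ≤ B y₀ y := by
  by_contra hlt
  push Not at hlt
  have hexp0 : ∀ t : R, B (y₀ + t • (y - y₀)) (y₀ + t • (y - y₀)) =
      B y₀ y₀ + 2 * t * (B y₀ y - B y₀ y₀) + t ^ 2 * B (y - y₀) (y - y₀) := by
    intro t
    simp only [map_add, map_smul, map_sub, LinearMap.add_apply, LinearMap.smul_apply,
      LinearMap.sub_apply, smul_eq_mul]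
    rw [hBs y y₀]
    ring
  set a := B y₀ y - B y₀ y₀ with ha
  set c := B (y - y₀) (y - y₀) with hc
  have ha0 : a < 0 := by linarith
  have hc0 : 0 ≤ c := hnn _
  have hexp : ∀ t : R, B (y₀ + t • (y - y₀)) (y₀ + t • (y - y₀)) =
      B y₀ y₀ + 2 * t * a + t ^ 2 * c := hexp0
  have hmem : ∀ t : R, 0 ≤ t → t ≤ 1 → y₀ + t • (y - y₀) ∈ S := by
    intro t h0 h1
    have : y₀ + t • (y - y₀) = (1 - t) • y₀ + t • y := by
      rw [smul_sub, sub_smul, one_smul]
      abel
    rw [this]
    exact hS hy₀ hy (by linarith) h0 (by ring)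
  rcases hc0.lt_or_eq with hcpos | hczero
  · -- c > 0 : take t = min 1 (-a/c)
    set t := min 1 (-a / c) with ht
    have ht0 : 0 < t := lt_min zero_lt_one (div_pos (neg_pos.2 ha0) hcpos)
    have ht1 : t ≤ 1 := min_le_left _ _
    have ht2 : t * c ≤ -a := by
      have : t ≤ -a / c := min_le_right _ _
      calc t * c ≤ -a / c * c := mul_le_mul_of_nonneg_right this hcpos.le
        _ = -a := div_mul_cancel₀ _ hcpos.ne'
    have h := hmin _ (hmem t ht0.le ht1)
    rw [hexp t] at h
    have h4 : 2 * t * a + t ^ 2 * c = t * (2 * a + t * c) := by ring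
    have h5 : t * (2 * a + t * c) < 0 := mul_neg_of_pos_of_neg ht0 (by linarith)
    linarith
  · have h := hmin _ (hmem 1 zero_le_one le_rfl)
    rw [hexp 1, ← hczero] at h
    linarith

include hBs hBp hBi in
/-- The facet of the point of the solid closest to the origin is special. -/
theorem min_norm_special (d : P.Base → N) (hd : IsCCS d) (y₀ : N) (hy₀ : y₀ ∈ solid d)
    (hmin : ∀ y ∈ solid d, B y₀ y₀ ≤ B y y) (F : Facet P) (hF : y₀ ∈ F.dualCarrier) :
    IsSpecial d F ∧ yLocus d F = {y₀} := by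
  have hnn : ∀ y : N, 0 ≤ B y y := by
    intro y
    by_cases h : y = 0
    · rw [h, map_zero]
    · exact (hBp y h).le
  have hvar := variational B hBs (solid d) (convex_convexHull R _) y₀ hy₀ hmin hnn
  obtain ⟨b, hbF⟩ := cham_nonempty F
  set ξ₀ := vec (P := P) B y₀ with hξ₀
  have hξ : ξ₀ ∈ F.carrier := vec_mem_carrier B hBs hBp hBi F y₀ hF
  have hξb : ξ₀ ∈ closedChamber b := hbF hξ
  have hdb : d b ∈ solid d := subset_convexHull R _ ⟨b, rfl⟩
  have h1 : P.toLinearMap ξ₀ (d b) ≤ P.toLinearMap ξ₀ y₀ := pair_dominant_le d hd b _ hξb y₀ hy₀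
  have h2 : P.toLinearMap ξ₀ y₀ ≤ P.toLinearMap ξ₀ (d b) := by
    rw [hξ₀, pair_vec, pair_vec]
    exact hvar (d b) hdb
  have h3 : P.toLinearMap ξ₀ y₀ - P.toLinearMap ξ₀ (d b) = 0 := by linarith
  rw [pair_eq_sum b ξ₀ y₀, pair_eq_sum b ξ₀ (d b), ← Finset.sum_sub_distrib] at h3
  have hterm : ∀ j ∈ (Finset.univ : Finset b.support),
      0 ≤ P.coroot' j ξ₀ * P.toLinearMap (fundWeight b j) y₀ -
        P.coroot' j ξ₀ * P.toLinearMap (fundWeight b j) (d b) := by
    intro j _
    rw [← mul_sub]
    exact mul_nonneg (hξb j j.2) (sub_nonneg.2 (solid_pair_ge d hd b j y₀ hy₀))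
  have h4 := (Finset.sum_eq_zero_iff_of_nonneg hterm).1 h3
  have hcor := corners_eq F b ξ₀ hξ hξb
  have hy₀dual : y₀ ∈ dualSolid d F := by
    rw [dualSolid_eq d hd F]
    refine ⟨?_, ?_⟩
    · simp only [Set.mem_iInter]
      intro m hm b' hmb'
      have hmb := corners_subset_baseCorners F b hbF hm
      rw [← hd.corner_eq b b' m hmb hmb']
      rw [hcor] at hm
      obtain ⟨j, hj, rfl⟩ := hm
      have := h4 j (Finset.mem_univ j)
      rw [← mul_sub] at this
      rcases mul_eq_zero.1 this with h5 | h5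
      · exact absurd h5 hj.ne'
      · exact sub_eq_zero.1 h5
    · simp only [Set.mem_iInter]
      intro m _ b' hmb'
      rw [baseCorners_eq] at hmb'
      obtain ⟨i', rfl⟩ := hmb'
      exact solid_pair_ge d hd b' i' y₀ hy₀
  exact ⟨⟨y₀, hF, hy₀dual⟩, yLocus_eq_singleton B hBs hBp hBi d hd F y₀ hF hy₀dual⟩

end Form2

/-- The point of a special facet. -/
theorem special_point (d : P.Base → N) (hd : IsCCS d) (F : Facet P) (hF : IsSpecial d F) :
    ∃ y₀ : N, yLocus d F = {y₀} ∧ F.dualCarrier ∩ dualSolid d F = {y₀} := by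
  obtain ⟨B, hBs, hBp, hBi⟩ := exists_invariant_form (P := P)
  obtain ⟨y₀, hy1, hy2⟩ := hF
  have hloc := yLocus_eq_singleton B hBs hBp hBi d hd F y₀ hy1 hy2
  refine ⟨y₀, hloc, ?_⟩
  ext z
  constructor
  · rintro ⟨hz1, hz2⟩
    have := mem_yLocus_of_special d hd F z hz1 hz2
    rw [hloc] at this
    exact this
  · rintro rfl
    exact ⟨hy1, hy2⟩

end Groth.Agent.Helper7.RootChI
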