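import Mathlib
import Groth.Prelude.Def_RootCh2
import Groth.Agent.Helper7.RootChI
import Groth.Agent.Helper7.MinNorm

set_option autoImplicit false
set_option linter.unusedSectionVars false
universe u v w x

namespace Groth.Agent.Helper7.RootChJ

open RootCh Module Groth.Agent.Helper7.RootCh1 Groth.Agent.Helper7.RootChB
  Groth.Agent.Helper7.RootChD Groth.Agent.Helper7.RootChE Groth.Agent.Helper7.RootChF
  Groth.Agent.Helper7.RootChG Groth.Agent.Helper7.RootChH Groth.Agent.Helper7.RootChI
open scoped Classical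

variable {ι : Type u} {R : Type v} {M : Type w} {N : Type x}
  [Field R] [LinearOrder R] [IsStrictOrderedRing R]
  [AddCommGroup M] [Module R M] [AddCommGroup N] [Module R N] [Finite ι]
  {P : RootPairing ι R M N} [P.IsRootSystem] [P.IsCrystallographic] [P.IsReduced]

/-- A special facet exists. -/
theorem exists_special (d : P.Base → N) (hd : IsCCS d) : ∃ F : Facet P, IsSpecial d F := by
  obtain ⟨B, hBs, hBp, hBi⟩ := exists_invariant_form (P := P)
  obtain ⟨b₀, _⟩ := exists_base_mem_closedChamber (P := P) 0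
  have hfd : FiniteDimensional R N := Module.Finite.of_basis b₀.toCoweightBasis
  have := finite_base (P := P)
  set s : Finset N := (Set.finite_range d).toFinset with hs
  have hscoe : (s : Set N) = Set.range d := Set.Finite.coe_toFinset _
  have hsne : s.Nonempty := ⟨d b₀, by rw [hs, Set.Finite.mem_toFinset]; exact ⟨b₀, rfl⟩⟩
  obtain ⟨y₀, hy₀, hmin⟩ := MinNorm.exists_min_norm B hBs hBp s hsne
  rw [hscoe] at hy₀ hmin
  let F : Facet P := ⟨cosgnVec P y₀, vec (P := P) B y₀, sgnVec_vec B hBs hBp hBi y₀⟩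
  have hF : y₀ ∈ F.dualCarrier := rfl
  exact ⟨F, (min_norm_special B hBs hBp hBi d hd y₀ hy₀ hmin F hF).1⟩

/-- There is exactly one special facet. -/
theorem existsUnique_special (d : P.Base → N) (hd : IsCCS d) :
    ∃! F : Facet P, IsSpecial d F := by
  obtain ⟨F, hF⟩ := exists_special d hd
  refine ⟨F, hF, fun F' hF' => ?_⟩
  obtain ⟨b, hb⟩ := cham_nonempty F
  obtain ⟨b', hb'⟩ := cham_nonempty F'
  have h1 := special_max d hd F b hb hF
  have h2 := special_max d hd F' b' hb' hF'
  have heq : F'.deg d b' = F.deg d b := le_antisymm (h1.1 F' b' hb') (h2.1 F b hb)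
  exact le_antisymm (h1.2 F' b' hb' heq) (h2.2 F b hb heq.symm)

/-- A largest facet of maximal degree is special. -/
theorem special_of_max (d : P.Base → N) (hd : IsCCS d) (F : Facet P) (b : P.Base)
    (hb : b ∈ F.cham)
    (hmax : ∀ (G : Facet P) (c : P.Base), c ∈ G.cham → G.deg d c ≤ F.deg d b)
    (hmaxl : ∀ (G : Facet P) (c : P.Base), c ∈ G.cham → G.deg d c = F.deg d b → F ≤ G → G = F) :
    IsSpecial d F := by
  obtain ⟨F₀, hF₀⟩ := exists_special d hd
  obtain ⟨b₀, hb₀⟩ := cham_nonempty F₀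
  have h1 := special_max d hd F₀ b₀ hb₀ hF₀
  have heq : F₀.deg d b₀ = F.deg d b := le_antisymm (hmax F₀ b₀ hb₀) (h1.1 F b hb)
  have hle : F ≤ F₀ := h1.2 F b hb heq.symm
  rw [← hmaxl F₀ b₀ hb₀ heq hle]
  exact hF₀

end Groth.Agent.Helper7.RootChJ
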