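import Mathlib
import Groth.Agent.Helper7.RootH

set_option autoImplicit false
set_option linter.unusedSectionVars false
universe u v w x

namespace Groth.Agent.Helper7.RC

open RootPairing RootCh Module
open scoped Classical

noncomputable section

section Deg

variable {ι : Type u} {R : Type v} {M : Type w} {N : Type x}
variable [Field R] [LinearOrder R] [IsStrictOrderedRing R]
variable [AddCommGroup M] [Module R M] [AddCommGroup N] [Module R N] [Finite ι]
variable {P : RootPairing ι R M N} [P.IsRootSystem] [P.IsCrystallographic] [P.IsReduced]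

lemma corners_subset_baseCorners {F : Facet P} {b : P.Base} (hb : b ∈ F.cham) :
    F.corners ⊆ baseCorners b :=
  fun _ hm => ⟨hm.1, closure_subset_closedChamber hb hm.2⟩

/-- (B1) extended to the span of the corners of a facet -/
lemma pair_eq_of_mem_span_corners {d : P.Base → N} (hd : IsCCS d) {F : Facet P} {b b' : P.Base}
    (hb : b ∈ F.cham) (hb' : b' ∈ F.cham) {v : M} (hv : v ∈ Submodule.span R F.corners) :
    P.toLinearMap v (d b) = P.toLinearMap v (d b') := by
  induction hv using Submodule.span_induction with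
  | mem m hm =>
    exact hd.corner_eq b b' m (corners_subset_baseCorners hb hm) (corners_subset_baseCorners hb' hm)
  | zero => simp
  | add x y _ _ hx hy => rw [map_add, LinearMap.add_apply, LinearMap.add_apply, hx, hy]
  | smul c x _ hx => rw [map_smul, LinearMap.smul_apply, LinearMap.smul_apply, hx]

lemma deg_eq_pair (d : P.Base → N) (F : Facet P) (b : P.Base) :
    F.deg d b = P.toLinearMap (∑ i ∈ (Set.toFinite F.parab).toFinset, P.root i) (d b) := by
  rw [Facet.deg, map_sum, LinearMap.sum_apply]

lemma sum_root_parab_mem_span (F : Facet P) :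
    (∑ i ∈ (Set.toFinite F.parab).toFinset, P.root i) ∈ Submodule.span R F.corners := by
  rw [← span_carrier_eq]
  exact Submodule.subset_span (sum_root_parab_mem_carrier F)

/-- S14249 -/
theorem deg_eq_deg {d : P.Base → N} (hd : IsCCS d) (F : Facet P) (b b' : P.Base)
    (hb : b ∈ F.cham) (hb' : b' ∈ F.cham) : F.deg d b = F.deg d b' := by
  rw [deg_eq_pair, deg_eq_pair]
  exact pair_eq_of_mem_span_corners hd hb hb' (sum_root_parab_mem_span F)

lemma corr_iff {b : P.Base} (j : b.support) (x : N) :
    Corr P (fundWeight b j) x ↔ x = fundCoweight b j := by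
  constructor
  · rintro ⟨b', i', h1, rfl⟩
    exact fundCoweight_eq_of_fundWeight_eq b' b i' j h1
  · rintro rfl
    exact ⟨b, j, rfl, rfl⟩

/-- the elementary set of roots in terms of an adjacent chamber -/
lemma mem_Psi_iff {F : Facet P} {b : P.Base} (hb : b ∈ F.cham) (j₀ : b.support) (i : ι) :
    i ∈ F.Psi (fundWeight b j₀) ↔ P.root' i (fundCoweight b j₀) = 1 ∧
      ∀ l : b.support, F.sgn l = 1 → l ≠ j₀ → P.root' i (fundCoweight b l) = 0 := by
  constructor
  · rintro ⟨h1, h2⟩
    refine ⟨h1 _ ((corr_iff j₀ _).2 rfl), fun l hl hne => ?_⟩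
    exact h2 (fundWeight b l) ((fundWeight_mem_corners_iff hb l).2 hl)
      (fun h => hne (fundWeight_injective b h)) _ ((corr_iff l _).2 rfl)
  · rintro ⟨h1, h2⟩
    refine ⟨fun x hx => ?_, fun w' hw' hne x hx => ?_⟩
    · rw [(corr_iff j₀ x).1 hx]
      exact h1
    · rw [corners_eq hb] at hw'
      obtain ⟨l, hl, rfl⟩ := hw'
      rw [(corr_iff l x).1 hx]
      exact h2 l hl (fun h => hne (by rw [h]))

/-- S14242 -/
theorem sum_root_psi_mem_span (F : Facet P) (m : M) (hm : m ∈ F.corners) :
    (∑ i ∈ (Set.toFinite (F.Psi m)).toFinset, P.root i) ∈ Submodule.span R F.corners := by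
  obtain ⟨b, hb⟩ := cham_nonempty F
  have hm' := hm
  rw [corners_eq hb] at hm'
  obtain ⟨j₀, hj₀, rfl⟩ := hm'
  set S := (Set.toFinite (F.Psi (fundWeight b j₀))).toFinset with hSdef
  have hS : ∀ i, i ∈ S ↔ i ∈ F.Psi (fundWeight b j₀) := by
    intro i
    simp [hSdef]
  rw [eq_sum_fundWeight b (∑ i ∈ S, P.root i)]
  refine Submodule.sum_mem _ fun j _ => ?_
  rcases sgn_simple hb j with h0 | h1
  · have : P.coroot' j (∑ i ∈ S, P.root i) = 0 := by
      apply coroot'_sum_eq_zero_of_stable
      intro i hi
      rw [hS, mem_Psi_iff hb] at hi ⊢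
      have hroot : ∀ l : b.support, l ≠ j →
          P.root' (P.reflectionPerm j i) (fundCoweight b l) = P.root' i (fundCoweight b l) := by
        intro l hl
        change P.toLinearMap (P.root (P.reflectionPerm j i)) _ = P.toLinearMap (P.root i) _
        rw [P.root_reflectionPerm, P.reflection_apply, map_sub, LinearMap.sub_apply, map_smul,
          LinearMap.smul_apply]
        have := root'_fundCoweight b l j
        change P.toLinearMap (P.root j) (fundCoweight b l) = _ at this
        rw [this, if_neg (Ne.symm hl), smul_zero, sub_zero]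
      refine ⟨?_, fun l hl hne => ?_⟩
      · rw [hroot j₀ (by rintro rfl; rw [Set.mem_ofPred_eq, h0] at hj₀; exact absurd hj₀ (by decide))]
        exact hi.1
      · rw [hroot l (by rintro rfl; rw [h0] at hl; exact absurd hl (by decide))]
        exact hi.2 l hl hne
    rw [this, zero_smul]
    exact Submodule.zero_mem _
  · exact Submodule.smul_mem _ _
      (Submodule.subset_span ((fundWeight_mem_corners_iff hb j).2 h1))

/-- S14250 -/
theorem numInv_eq_numInv {d : P.Base → N} (hd : IsCCS d) (F : Facet P) (m : M)
    (hm : m ∈ F.corners) (b b' : P.Base) (hb : b ∈ F.cham) (hb' : b' ∈ F.cham) :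
    F.numInv d m b = F.numInv d m b' := by
  have e : ∀ c : P.Base, F.numInv d m c =
      P.toLinearMap (∑ i ∈ (Set.toFinite (F.Psi m)).toFinset, P.root i) (d c) := by
    intro c
    rw [Facet.numInv, map_sum, LinearMap.sum_apply]
  rw [e, e]
  exact pair_eq_of_mem_span_corners hd hb hb' (sum_root_psi_mem_span F m hm)

end Deg

end

end Groth.Agent.Helper7.RC
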