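import Mathlib
import Groth.Agent.Helper7.RootI

set_option autoImplicit false
set_option linter.unusedSectionVars false
universe u v w x

namespace Groth.Agent.Helper7.RC

open RootPairing RootCh Module
open scoped Classical

noncomputable section

section Gallery

variable {ι : Type u} {R : Type v} {M : Type w} {N : Type x}
variable [Field R] [LinearOrder R] [IsStrictOrderedRing R]
variable [AddCommGroup M] [Module R M] [AddCommGroup N] [Module R N] [Finite ι]
variable {P : RootPairing ι R M N} [P.IsRootSystem] [P.IsCrystallographic] [P.IsReduced]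

lemma base_ext {b b' : P.Base} (h : b.support = b'.support) : b = b' := by
  cases b; cases b'
  simp only at h
  subst h
  rfl

lemma isPos_iff_coef_nonneg (b : P.Base) (k : ι) :
    b.IsPos k ↔ ∀ j : b.support, 0 ≤ P.toLinearMap (P.root k) (fundCoweight b j) := by
  constructor
  · exact fun hk j => coef_nonneg_of_isPos b hk j
  · intro h
    by_contra hk
    have h1 : ∀ j : b.support, P.toLinearMap (P.root k) (fundCoweight b j) = 0 := fun j =>
      le_antisymm (coef_nonpos_of_not_isPos b hk j) (h j)
    have h3 := eq_sum_root b (P.root k)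
    simp only [h1, zero_smul, Finset.sum_const_zero] at h3
    exact P.ne_zero k h3

/-- if the simple roots of `c` are positive for `b`, so are all positive roots of `c` -/
lemma isPos_of_simple_isPos {b c : P.Base} (h : ∀ i ∈ c.support, b.IsPos i) {k : ι}
    (hk : c.IsPos k) : b.IsPos k := by
  rw [isPos_iff_mem_closure] at hk
  rw [isPos_iff_coef_nonneg]
  intro j
  generalize P.root k = x at hk
  induction hk using AddSubmonoid.closure_induction with
  | mem x hx =>
    obtain ⟨i, hi, rfl⟩ := hx
    exact coef_nonneg_of_isPos b (h i hi) j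
  | zero => simp
  | add x y _ _ hx hy =>
    rw [map_add, LinearMap.add_apply]
    exact add_nonneg hx hy

/-- the simple roots are the indecomposable positive roots -/
lemma mem_support_iff (b : P.Base) (i : ι) :
    i ∈ b.support ↔ b.IsPos i ∧
      ∀ j k, b.IsPos j → b.IsPos k → P.root i ≠ P.root j + P.root k := by
  constructor
  · intro hi
    refine ⟨Base.isPos_of_mem_support hi, fun j k hj hk heq => ?_⟩
    have h1 := b.height_add heq
    rw [Base.height_one_of_mem_support hi] at h1
    rw [Base.isPos_iff] at hj hk
    omega
  · rintro ⟨hi, hind⟩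
    obtain ⟨j, hj, hj'⟩ := hi.exists_mem_support_pos_pairingIn
    rw [P.zero_lt_pairingIn_iff'] at hj'
    by_contra hni
    have hij : i ≠ j := fun h => hni (h ▸ hj)
    obtain ⟨k, hk⟩ := P.root_sub_root_mem_of_pairingIn_pos hj' hij
    have hkpos : b.IsPos k := hi.sub hj hk
    exact hind k j hkpos (Base.isPos_of_mem_support hj) (by rw [hk]; abel)

/-- a base is determined by its positive roots -/
lemma base_eq_of_isPos {b b' : P.Base} (h : ∀ k, b.IsPos k ↔ b'.IsPos k) : b = b' := by
  apply base_ext
  ext i
  rw [mem_support_iff, mem_support_iff, h i]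
  constructor
  · rintro ⟨h1, h2⟩
    exact ⟨h1, fun j k hj hk => h2 j k ((h j).2 hj) ((h k).2 hk)⟩
  · rintro ⟨h1, h2⟩
    exact ⟨h1, fun j k hj hk => h2 j k ((h j).1 hj) ((h k).1 hk)⟩

/-- two distinct bases: some simple root of one is negative for the other -/
lemma exists_simple_not_isPos {b c : P.Base} (hne : b ≠ c) :
    ∃ i ∈ c.support, ¬ b.IsPos i := by
  by_contra hcon
  push Not at hcon
  apply hne
  apply base_eq_of_isPos
  intro k
  constructor
  · intro hk
    by_contra hck
    have h1 : c.IsPos (P.reflectionPerm k k) := (isPos_neg_iff c k).2 hck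
    have h2 := isPos_of_simple_isPos hcon h1
    rw [isPos_neg_iff] at h2
    exact h2 hk
  · exact fun hk => isPos_of_simple_isPos hcon hk

/-- crossing a wall towards `b` decreases the number of separating roots -/
lemma ncard_sep_reflBase_lt {b c : P.Base} {i : ι} (hi : i ∈ c.support) (hbi : ¬ b.IsPos i) :
    {k : ι | b.IsPos k ∧ ¬ (reflBase c i).IsPos k}.ncard <
      {k : ι | b.IsPos k ∧ ¬ c.IsPos k}.ncard := by
  apply Set.ncard_lt_ncard _ (Set.toFinite _)
  refine ⟨?_, ?_⟩
  · rintro k ⟨hk, hck⟩
    refine ⟨hk, fun hc => ?_⟩
    apply hck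
    rw [isPos_reflBase_of_mem c hi]
    left
    refine ⟨hc, ?_⟩
    rintro rfl
    exact hbi hk
  · intro hsub
    have hmem : P.reflectionPerm i i ∈ {k : ι | b.IsPos k ∧ ¬ c.IsPos k} := by
      refine ⟨(isPos_neg_iff b i).2 hbi, ?_⟩
      rw [isPos_neg_iff, not_not]
      exact Base.isPos_of_mem_support hi
    have := (hsub hmem).2
    apply this
    rw [isPos_reflBase_of_mem c hi]
    right
    rfl

lemma reflectionPerm_mem_reflBase (b : P.Base) (i : ι) (j : b.support) :
    P.reflectionPerm i j ∈ (reflBase b i).support := by
  rw [mem_reflBase_support, P.reflectionPerm_self]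
  exact j.2

/-- reflections permute fundamental weights -/
lemma reflection_fundWeight (b : P.Base) (i : ι) (j : b.support) :
    P.reflection i (fundWeight b j) =
      fundWeight (reflBase b i) ⟨P.reflectionPerm i j, reflectionPerm_mem_reflBase b i j⟩ := by
  apply ext_coroot (reflBase b i)
  intro l
  have hl : P.reflectionPerm i l ∈ b.support := (mem_reflBase_support b i l).1 l.2
  rw [P.coroot'_reflection, coroot'_fundWeight]
  have := coroot'_fundWeight b j ⟨P.reflectionPerm i l, hl⟩
  change P.coroot' (P.reflectionPerm i l) (fundWeight b j) = _ at this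
  rw [this]
  congr 1
  apply propext
  constructor
  · intro h
    apply Subtype.ext
    have h' := congrArg Subtype.val h
    change P.reflectionPerm i l = j at h'
    change (l : ι) = P.reflectionPerm i j
    rw [← h', P.reflectionPerm_self]
  · intro h
    apply Subtype.ext
    have h' := congrArg Subtype.val h
    change (l : ι) = P.reflectionPerm i j at h'
    change P.reflectionPerm i l = j
    rw [h', P.reflectionPerm_self]

lemma reflection_mem_fundWeights (i : ι) {m : M} (hm : m ∈ fundWeights P) :
    P.reflection i m ∈ fundWeights P := by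
  obtain ⟨b, j, rfl⟩ := hm
  exact ⟨reflBase b i, _, (reflection_fundWeight b i j).symm⟩

lemma mem_closedChamber_reflBase (b : P.Base) (i : ι) (ξ : M) :
    ξ ∈ closedChamber (reflBase b i) ↔ P.reflection i ξ ∈ closedChamber b := by
  constructor
  · intro h j hj
    rw [P.coroot'_reflection]
    exact h _ (reflectionPerm_mem_reflBase b i ⟨j, hj⟩)
  · intro h k hk
    have := h _ ((mem_reflBase_support b i k).1 hk)
    rwa [P.coroot'_reflection, P.reflectionPerm_self] at this

lemma mem_baseCorners_reflBase (b : P.Base) (i : ι) (m : M) :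
    m ∈ baseCorners (reflBase b i) ↔ P.reflection i m ∈ baseCorners b := by
  constructor
  · rintro ⟨h1, h2⟩
    exact ⟨reflection_mem_fundWeights i h1, (mem_closedChamber_reflBase b i m).1 h2⟩
  · rintro ⟨h1, h2⟩
    refine ⟨?_, (mem_closedChamber_reflBase b i m).2 h2⟩
    have := reflection_mem_fundWeights i h1
    rwa [P.reflection_same] at this

lemma reflection_fundWeight_of_ne (b : P.Base) {i j : b.support} (h : j ≠ i) :
    P.reflection i (fundWeight b j) = fundWeight b j := by
  rw [P.reflection_apply, coroot'_fundWeight, if_neg (Ne.symm h), zero_smul, sub_zero]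

/-- the corners common to a chamber and its neighbour across a wall -/
lemma baseCorners_inter_reflBase (c : P.Base) (i : c.support) :
    baseCorners (reflBase c i) ∩ baseCorners c = fundWeight c '' {j | j ≠ i} := by
  ext m
  constructor
  · rintro ⟨h1, h2⟩
    rw [baseCorners_eq_range] at h2
    obtain ⟨l, rfl⟩ := h2
    refine ⟨l, ?_, rfl⟩
    rintro rfl
    have h3 := ((mem_baseCorners_reflBase c l _).1 h1).2 l l.2
    rw [P.reflection_apply, map_sub, map_smul, coroot'_fundWeight, if_pos rfl, one_smul] at h3
    have : P.coroot' l (P.root l) = 2 := P.root_coroot_two l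
    rw [this] at h3
    linarith
  · rintro ⟨j, hj, rfl⟩
    have h2 : fundWeight c j ∈ baseCorners c := by
      rw [baseCorners_eq_range]; exact ⟨j, rfl⟩
    refine ⟨?_, h2⟩
    rw [mem_baseCorners_reflBase, reflection_fundWeight_of_ne c hj]
    exact h2

lemma card_support_reflBase (c : P.Base) (i : ι) :
    (reflBase c i).support.card = c.support.card := by
  rw [← Set.ncard_coe_finset, coe_reflBase_support,
    Set.ncard_image_of_injective _ (P.reflectionPerm i).injective, Set.ncard_coe_finset]

lemma ncard_inter_reflBase (c : P.Base) (i : c.support) :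
    (baseCorners (reflBase c i) ∩ baseCorners c).ncard + 1 = (reflBase c i).support.card := by
  rw [baseCorners_inter_reflBase, Set.ncard_image_of_injective _ (fundWeight_injective c),
    card_support_reflBase]
  have h1 : ({j : c.support | j ≠ i} : Set c.support) = Set.univ \ {i} := by
    ext j; simp
  rw [h1, Set.ncard_sdiff_singleton_of_mem (Set.mem_univ i), Set.ncard_univ,
    Nat.card_eq_fintype_card, Fintype.card_coe]
  have : 0 < c.support.card := Finset.card_pos.2 ⟨i, i.2⟩
  omega

end Gallery

end

end Groth.Agent.Helper7.RC
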