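import Mathlib
import Groth.Agent.Helper7.RootJ

set_option autoImplicit false
set_option linter.unusedSectionVars false
universe u v w x

namespace Groth.Agent.Helper7.RC

open RootPairing RootCh Module
open scoped Classical

noncomputable section

section Gallery2

variable {ι : Type u} {R : Type v} {M : Type w} {N : Type x}
variable [Field R] [LinearOrder R] [IsStrictOrderedRing R]
variable [AddCommGroup M] [Module R M] [AddCommGroup N] [Module R N] [Finite ι]
variable {P : RootPairing ι R M N} [P.IsRootSystem] [P.IsCrystallographic] [P.IsReduced]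

/-- crossing a wall: the values of a complementary convex solid differ by a nonpositive multiple
of the coroot of the wall -/
lemma wall_step {d : P.Base → N} (hd : IsCCS d) (c : P.Base) (i : c.support) :
    ∃ t : R, t ≤ 0 ∧ d c - d (reflBase c i) = t • P.coroot i := by
  set c' := reflBase c i with hc'
  set δ := d c - d c' with hδ
  have hzero : ∀ j : c.support, j ≠ i → P.toLinearMap (fundWeight c j) δ = 0 := by
    intro j hj
    have hmem : fundWeight c j ∈ baseCorners c' ∩ baseCorners c := by
      rw [hc', baseCorners_inter_reflBase]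
      exact ⟨j, hj, rfl⟩
    rw [hδ, map_sub, sub_eq_zero]
    exact hd.corner_eq c c' _ hmem.2 hmem.1
  have hexp : δ = P.toLinearMap (fundWeight c i) δ • P.coroot i := by
    conv_lhs => rw [eq_sum_coroot c δ]
    rw [Finset.sum_eq_single i]
    · intro j _ hj
      rw [hzero j hj, zero_smul]
    · intro h
      exact absurd (Finset.mem_univ i) h
  refine ⟨P.toLinearMap (fundWeight c i) δ, ?_, hexp⟩
  -- (B2)
  have hB2 := hd.wall_le c' c (P.reflectionPerm i i) (ncard_inter_reflBase c i) (by
    intro j
    rw [hc', isPos_reflBase_of_mem c i.2]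
    constructor
    · rintro ⟨h1 | h1, h2⟩
      · exact absurd h1.1 h2
      · exact h1
    · rintro rfl
      refine ⟨Or.inr rfl, ?_⟩
      rw [isPos_neg_iff, not_not]
      exact Base.isPos_of_mem_support i.2)
  change P.toLinearMap (P.root (P.reflectionPerm i i)) (d c') ≤
    P.toLinearMap (P.root (P.reflectionPerm i i)) (d c) at hB2
  rw [root_neg, map_neg, LinearMap.neg_apply, LinearMap.neg_apply, neg_le_neg_iff] at hB2
  have h2 : P.toLinearMap (P.root i) δ ≤ 0 := by
    rw [hδ, map_sub]
    linarith
  rw [hexp, map_smul, smul_eq_mul] at h2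
  have h3 : P.toLinearMap (P.root i) (P.coroot i) = 2 := P.root_coroot_two i
  rw [h3] at h2
  linarith

/-- the key inequality: a corner of a chamber pairs minimally with the value of `d` at that
chamber -/
theorem corner_pair_le {d : P.Base → N} (hd : IsCCS d) (b : P.Base) {m : M}
    (hm : m ∈ baseCorners b) (c : P.Base) :
    P.toLinearMap m (d b) ≤ P.toLinearMap m (d c) := by
  have key : ∀ (n : ℕ) (c : P.Base), {k : ι | b.IsPos k ∧ ¬ c.IsPos k}.ncard = n →
      P.toLinearMap m (d b) ≤ P.toLinearMap m (d c) := by
    intro n
    induction n using Nat.strong_induction_on with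
    | _ n ih =>
      intro c hn
      by_cases hbc : b = c
      · rw [hbc]
      · obtain ⟨i, hi, hbi⟩ := exists_simple_not_isPos hbc
        have hlt := ncard_sep_reflBase_lt hi hbi
        rw [hn] at hlt
        have h1 := ih _ hlt (reflBase c i) rfl
        obtain ⟨t, ht, hstep⟩ := wall_step hd c ⟨i, hi⟩
        have h2 : P.toLinearMap m (d c) - P.toLinearMap m (d (reflBase c i)) =
            t * P.coroot' i m := by
          rw [← map_sub, hstep, map_smul, smul_eq_mul]
          rfl
        have h3 : P.coroot' i m ≤ 0 := coroot'_nonpos_of_not_isPos hm.2 hbi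
        have h4 : 0 ≤ t * P.coroot' i m := mul_nonneg_of_nonpos_of_nonpos ht h3
        linarith
  exact key _ c rfl

end Gallery2

end

end Groth.Agent.Helper7.RC
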