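import Mathlib
import Groth.Agent.Helper7.RootK

set_option autoImplicit false
set_option linter.unusedSectionVars false
universe u v w x

namespace Groth.Agent.Helper7.RC

open RootPairing RootCh Module
open scoped Classical

noncomputable section

section Solid

variable {ι : Type u} {R : Type v} {M : Type w} {N : Type x}
variable [Field R] [LinearOrder R] [IsStrictOrderedRing R]
variable [AddCommGroup M] [Module R M] [AddCommGroup N] [Module R N] [Finite ι]
variable {P : RootPairing ι R M N} [P.IsRootSystem] [P.IsCrystallographic] [P.IsReduced]

lemma reflBase_mem_cham {F : Facet P} {c : P.Base} (hc : c ∈ F.cham) {j : ι}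
    (hj : F.sgn j = 0) : reflBase c j ∈ F.cham := by
  rw [mem_cham_iff] at hc ⊢
  intro k hk
  rw [mem_reflBase_support] at hk
  have := hc _ hk
  rwa [sgn_reflectionPerm_of_sgn_eq_zero F hj] at this

/-- among the chambers adjacent to a facet there is one for which a given vector of `N` is
antidominant along the Levi directions -/
lemma exists_cham_antidominant (F : Facet P) (v : N) :
    ∃ b ∈ F.cham, ∀ j : b.support, F.sgn j = 0 → P.root' j v ≤ 0 := by
  have key : ∀ (n : ℕ) (b : P.Base), b ∈ F.cham →
      {k : ι | b.IsPos k ∧ 0 < P.root' k v}.ncard = n →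
      ∃ b' ∈ F.cham, ∀ j : b'.support, F.sgn j = 0 → P.root' j v ≤ 0 := by
    intro n
    induction n using Nat.strong_induction_on with
    | _ n ih =>
      intro b hb hn
      by_cases hgood : ∀ j : b.support, F.sgn j = 0 → P.root' j v ≤ 0
      · exact ⟨b, hb, hgood⟩
      · push Not at hgood
        obtain ⟨j, hj0, hjpos⟩ := hgood
        refine ih _ ?_ (reflBase b j) (reflBase_mem_cham hb hj0) rfl
        rw [← hn]
        apply Set.ncard_lt_ncard _ (Set.toFinite _)
        refine ⟨?_, ?_⟩
        · rintro k ⟨hk, hkpos⟩
          rw [isPos_reflBase_of_mem b j.2] at hk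
          rcases hk with ⟨hk, -⟩ | rfl
          · exact ⟨hk, hkpos⟩
          · exfalso
            change 0 < P.toLinearMap (P.root (P.reflectionPerm j j)) v at hkpos
            rw [root_neg, map_neg, LinearMap.neg_apply] at hkpos
            change 0 < P.toLinearMap (P.root j) v at hjpos
            linarith
        · intro hsub
          have hmem : (j : ι) ∈ {k : ι | b.IsPos k ∧ 0 < P.root' k v} :=
            ⟨Base.isPos_of_mem_support j.2, hjpos⟩
          have := (hsub hmem).1
          rw [isPos_reflBase_of_mem b j.2] at this
          rcases this with ⟨-, h⟩ | h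
          · exact h rfl
          · have h2 : P.root j = -P.root j := by
              conv_lhs => rw [h]
              exact root_neg (j : ι)
            have h3 : (2 : R) • P.root j = 0 := by
              rw [two_smul]
              nth_rewrite 1 [h2]
              simp
            rcases smul_eq_zero.1 h3 with h4 | h4
            · exact two_ne_zero h4
            · exact P.ne_zero j h4
  obtain ⟨b, hb⟩ := cham_nonempty F
  exact key _ b hb rfl

/-- a vector of `N` pairing nonnegatively with the corners of all chambers adjacent to a facet
and trivially with the corners of the facet vanishes -/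
lemma eq_zero_of_pair_corners_nonneg (F : Facet P) (v : N)
    (h0 : ∀ m ∈ F.corners, P.toLinearMap m v = 0)
    (h1 : ∀ m ∈ F.corners', 0 ≤ P.toLinearMap m v) : v = 0 := by
  have : Fintype ι := Fintype.ofFinite ι
  obtain ⟨b, hb, hanti⟩ := exists_cham_antidominant F v
  by_contra hv
  have hpos : 0 < P.flip.RootForm v v := by
    apply P.flip.rootForm_pos_of_ne_zero _ hv
    rw [RootPairing.rootSpan, IsRootSystem.span_root_eq_top]
    trivial
  have hexp : P.flip.RootForm v v =
      ∑ j : b.support, P.toLinearMap (fundWeight b j) v * P.flip.RootForm (P.coroot j) v := by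
    conv_lhs => enter [1]; rw [eq_sum_coroot b v]
    rw [map_sum, LinearMap.sum_apply]
    refine Finset.sum_congr rfl fun j _ => ?_
    rw [map_smul, LinearMap.smul_apply, smul_eq_mul]
  have hterm : ∀ j : b.support,
      P.toLinearMap (fundWeight b j) v * P.flip.RootForm (P.coroot j) v ≤ 0 := by
    intro j
    rcases sgn_simple hb j with hs | hs
    · apply mul_nonpos_of_nonneg_of_nonpos
      · apply h1
        simp only [Facet.corners', Set.mem_iUnion]
        refine ⟨b, hb, ?_⟩
        rw [baseCorners_eq_range]
        exact ⟨j, rfl⟩
      · have h2 := rootForm_mul_coroot' (P := P.flip) (j : ι) v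
        have h3 := rootForm_root_pos (P := P.flip) (j : ι)
        have h4 : P.flip.coroot' j v ≤ 0 := hanti j hs
        have h5 : 2 * P.flip.RootForm (P.flip.root j) v ≤ 0 := by
          rw [← h2]
          exact mul_nonpos_of_nonneg_of_nonpos h3.le h4
        change 2 * P.flip.RootForm (P.coroot j) v ≤ 0 at h5
        linarith
    · rw [h0 _ ((fundWeight_mem_corners_iff hb j).2 hs), zero_mul]
  rw [hexp] at hpos
  exact absurd (Finset.sum_nonpos fun j _ => hterm j) (not_le.2 hpos)

end Solid

end

end Groth.Agent.Helper7.RC
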