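import Mathlib
import Groth.Agent.Helper7.RootL

set_option autoImplicit false
set_option linter.unusedSectionVars false
universe u v w x

namespace Groth.Agent.Helper7.RC

open RootPairing RootCh Module
open scoped Classical

noncomputable section

section Solid2

variable {ι : Type u} {R : Type v} {M : Type w} {N : Type x}
variable [Field R] [LinearOrder R] [IsStrictOrderedRing R]
variable [AddCommGroup M] [Module R M] [AddCommGroup N] [Module R N] [Finite ι]
variable {P : RootPairing ι R M N} [P.IsRootSystem] [P.IsCrystallographic] [P.IsReduced]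

/-- the polyhedron cut out by the hyperplanes of the corners of `F` and the half-spaces of the
corners of the adjacent chambers -/
def poly (d : P.Base → N) (F : Facet P) : Set N :=
  (⋂ m ∈ F.corners, hyper d m) ∩ ⋂ m ∈ F.corners', halfClosed d m

lemma mem_poly_iff (d : P.Base → N) (F : Facet P) (y : N) :
    y ∈ poly d F ↔ (∀ m ∈ F.corners, ∀ b : P.Base, m ∈ baseCorners b →
        P.toLinearMap m y = P.toLinearMap m (d b)) ∧
      ∀ m ∈ F.corners', ∀ b : P.Base, m ∈ baseCorners b →
        P.toLinearMap m (d b) ≤ P.toLinearMap m y := by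
  simp only [poly, Set.mem_inter_iff, Set.mem_iInter, hyper, halfClosed, Set.mem_ofPred_eq]

lemma convex_poly (d : P.Base → N) (F : Facet P) : Convex R (poly d F) := by
  intro x hx y hy a c ha hc hac
  rw [mem_poly_iff] at hx hy ⊢
  refine ⟨fun m hm b hb => ?_, fun m hm b hb => ?_⟩
  · rw [map_add, map_smul, map_smul, hx.1 m hm b hb, hy.1 m hm b hb, ← add_smul, hac, one_smul]
  · rw [map_add, map_smul, map_smul, smul_eq_mul, smul_eq_mul]
    have h1 := hx.2 m hm b hb
    have h2 := hy.2 m hm b hb
    calc P.toLinearMap m (d b) = a * P.toLinearMap m (d b) + c * P.toLinearMap m (d b) := by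
          rw [← add_mul, hac, one_mul]
      _ ≤ a * P.toLinearMap m x + c * P.toLinearMap m y :=
          add_le_add (mul_le_mul_of_nonneg_left h1 ha) (mul_le_mul_of_nonneg_left h2 hc)

lemma d_mem_poly {d : P.Base → N} (hd : IsCCS d) (F : Facet P) {c : P.Base} (hc : c ∈ F.cham) :
    d c ∈ poly d F := by
  rw [mem_poly_iff]
  refine ⟨fun m hm b hb => ?_, fun m _ b hb => corner_pair_le hd b hb c⟩
  exact hd.corner_eq c b m (corners_subset_baseCorners hc hm) hb

lemma dualSolid_subset_poly {d : P.Base → N} (hd : IsCCS d) (F : Facet P) :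
    dualSolid d F ⊆ poly d F := by
  apply convexHull_min _ (convex_poly d F)
  rintro _ ⟨c, hc, rfl⟩
  exact d_mem_poly hd F hc

lemma closedChamber_add {b : P.Base} {ξ ξ' : M} (h : ξ ∈ closedChamber b)
    (h' : ξ' ∈ closedChamber b) : ξ + ξ' ∈ closedChamber b := by
  intro i hi
  rw [map_add]
  exact add_nonneg (h i hi) (h' i hi)

lemma closedChamber_smul {b : P.Base} {ξ : M} (h : ξ ∈ closedChamber b) {c : R} (hc : 0 ≤ c) :
    c • ξ ∈ closedChamber b := by
  intro i hi
  rw [map_smul, smul_eq_mul]
  exact mul_nonneg hc (h i hi)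

/-- a facet with more corners has fewer adjacent chambers -/
lemma cham_subset_of_corners_subset {F G : Facet P} (h : F.corners ⊆ G.corners) :
    G.cham ⊆ F.cham := by
  intro b hb ξ hξ
  rw [carrier_eq_pos_comb] at hξ
  obtain ⟨c, hsupp, hpos, rfl⟩ := hξ
  rw [Finsupp.sum]
  have : ∀ s : Finset M, s ⊆ c.support → (∑ m ∈ s, c m • m) ∈ closedChamber b := by
    intro s
    induction s using Finset.induction_on with
    | empty =>
      intro _
      simp only [Finset.sum_empty]
      intro i _
      simp
    | insert a s ha ih =>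
      intro hs
      rw [Finset.sum_insert ha]
      have ha' : a ∈ c.support := hs (Finset.mem_insert_self a s)
      have hac : a ∈ F.corners := hsupp ha'
      apply closedChamber_add
      · apply closedChamber_smul _ (hpos a hac).le
        exact (corners_subset_baseCorners hb (h hac)).2
      · exact ih (fun x hx => hs (Finset.mem_insert_of_mem hx))
  exact this _ (Finset.Subset.refl _)

lemma corners'_subset_of_corners_subset {F G : Facet P} (h : F.corners ⊆ G.corners) :
    G.corners' ⊆ F.corners' := by
  intro m hm
  simp only [Facet.corners', Set.mem_iUnion] at hm ⊢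
  obtain ⟨b, hb, hmb⟩ := hm
  exact ⟨b, cham_subset_of_corners_subset h hb, hmb⟩

lemma dualSolid_mono {d : P.Base → N} {F G : Facet P} (h : F.corners ⊆ G.corners) :
    dualSolid d G ⊆ dualSolid d F :=
  convexHull_mono (Set.image_mono (cham_subset_of_corners_subset h))

lemma corners_subset_corners' (F : Facet P) : F.corners ⊆ F.corners' := by
  intro m hm
  obtain ⟨b, hb⟩ := cham_nonempty F
  simp only [Facet.corners', Set.mem_iUnion]
  exact ⟨b, hb, corners_subset_baseCorners hb hm⟩

end Solid2

end

end Groth.Agent.Helper7.RC
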