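import Mathlib
import Groth.Agent.Helper7.RootM

set_option autoImplicit false
set_option linter.unusedSectionVars false
universe u v w x

namespace Groth.Agent.Helper7.RC

open RootPairing RootCh Module
open scoped Classical

noncomputable section

section Solid3

variable {ι : Type u} {R : Type v} {M : Type w} {N : Type x}
variable [Field R] [LinearOrder R] [IsStrictOrderedRing R]
variable [AddCommGroup M] [Module R M] [AddCommGroup N] [Module R N] [Finite ι]
variable {P : RootPairing ι R M N} [P.IsRootSystem] [P.IsCrystallographic] [P.IsReduced]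

instance finite_base : Finite P.Base :=
  Finite.of_injective (fun b : P.Base => b.support) (fun _ _ h => base_ext h)

lemma finite_fundWeights : (fundWeights P).Finite := by
  have : fundWeights P = Set.range (fun p : (Σ b : P.Base, b.support) => fundWeight p.1 p.2) := by
    ext m
    constructor
    · rintro ⟨b, i, rfl⟩
      exact ⟨⟨b, i⟩, rfl⟩
    · rintro ⟨⟨b, i⟩, rfl⟩
      exact ⟨b, i, rfl⟩
  rw [this]
  exact Set.finite_range _

lemma corners'_subset_fundWeights (F : Facet P) : F.corners' ⊆ fundWeights P := by
  intro m hm
  simp only [Facet.corners', Set.mem_iUnion] at hm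
  obtain ⟨b, -, hmb⟩ := hm
  exact hmb.1

lemma finite_corners' (F : Facet P) : F.corners'.Finite :=
  finite_fundWeights.subset (corners'_subset_fundWeights F)

/-- the common value of `⟨m, d b⟩` over the chambers `b` with corner `m` -/
def cval (d : P.Base → N) (m : M) : R :=
  if h : ∃ b : P.Base, m ∈ baseCorners b then P.toLinearMap m (d h.choose) else 0

lemma cval_eq {d : P.Base → N} (hd : IsCCS d) {m : M} {b : P.Base} (hb : m ∈ baseCorners b) :
    cval d m = P.toLinearMap m (d b) := by
  have h : ∃ b : P.Base, m ∈ baseCorners b := ⟨b, hb⟩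
  rw [cval, dif_pos h]
  exact hd.corner_eq _ _ m h.choose_spec hb

private lemma ratio_aux (g c w : R) (hw : w < 0) : (g - c) / (-w) * w = -(g - c) := by
  have hw' : w ≠ 0 := hw.ne
  rw [div_neg, neg_mul, div_mul_cancel₀ _ hw']

theorem poly_subset_dualSolid {d : P.Base → N} (hd : IsCCS d) :
    ∀ (n : ℕ) (F : Facet P), (F.corners' \ F.corners).ncard = n → poly d F ⊆ dualSolid d F := by
  intro n
  induction n using Nat.strong_induction_on with
  | _ n ih =>
    intro F hn y hy
    obtain ⟨b₀, hb₀⟩ := cham_nonempty F
    have hy' := (mem_poly_iff d F y).1 hy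
    set v := y - d b₀ with hv
    have hyv : y = d b₀ + v := by rw [hv]; abel
    have hv0 : ∀ m ∈ F.corners, P.toLinearMap m v = 0 := by
      intro m hm
      rw [hv, map_sub, sub_eq_zero]
      exact hy'.1 m hm b₀ (corners_subset_baseCorners hb₀ hm)
    have hd0 : d b₀ ∈ dualSolid d F := subset_convexHull R _ ⟨b₀, hb₀, rfl⟩
    by_cases hcase : ∀ m ∈ F.corners', 0 ≤ P.toLinearMap m v
    · have := eq_zero_of_pair_corners_nonneg F v hv0 hcase
      rw [hyv, this, add_zero]
      exact hd0
    · push Not at hcase
      obtain ⟨m₁, hm₁, hm₁neg⟩ := hcase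
      -- the set of violated directions
      let T : Finset M := (finite_corners' F).toFinset.filter (fun m => P.toLinearMap m v < 0)
      have hT : ∀ m, m ∈ T ↔ m ∈ F.corners' ∧ P.toLinearMap m v < 0 := by
        intro m
        simp [T]
      let r : M → R := fun m => (P.toLinearMap m (d b₀) - cval d m) / (-P.toLinearMap m v)
      obtain ⟨ms, hmsT, hmin⟩ := Finset.exists_min_image T r ⟨m₁, (hT m₁).2 ⟨hm₁, hm₁neg⟩⟩
      have hms := (hT ms).1 hmsT
      have hcv : ∀ m ∈ F.corners', ∃ b : P.Base, m ∈ baseCorners b := by
        intro m hm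
        simp only [Facet.corners', Set.mem_iUnion] at hm
        obtain ⟨b, -, hmb⟩ := hm
        exact ⟨b, hmb⟩
      -- feasibility of `y` gives `1 ≤ r m` on `T`
      have hr1 : ∀ m ∈ T, 1 ≤ r m := by
        intro m hm
        obtain ⟨hm', hneg⟩ := (hT m).1 hm
        obtain ⟨b, hb⟩ := hcv m hm'
        have h1 := hy'.2 m hm' b hb
        rw [← cval_eq hd hb, hyv, map_add] at h1
        rw [le_div_iff₀ (by linarith)]
        linarith
      set t := r ms with ht
      have ht1 : 1 ≤ t := hr1 ms hmsT
      set z := d b₀ + t • v with hz
      obtain ⟨F', hF'⟩ := exists_corners_eq_insert F ms hms.1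
      have hsub : F.corners ⊆ F'.corners := by
        rw [hF']; exact Set.subset_insert _ _
      have hsub' : F'.corners' ⊆ F.corners' := corners'_subset_of_corners_subset hsub
      have hmsF : ms ∉ F.corners := by
        intro h
        have := hv0 ms h
        linarith [hms.2]
      -- `z` lies in the polyhedron of `F'`
      have hzpoly : z ∈ poly d F' := by
        rw [mem_poly_iff]
        refine ⟨fun m hm b hb => ?_, fun m hm b hb => ?_⟩
        · rw [hF'] at hm
          rcases hm with rfl | hm
          · rw [hz, map_add, map_smul, smul_eq_mul, ← cval_eq hd hb, ht]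
            change _ + (P.toLinearMap m (d b₀) - cval d m) / (-P.toLinearMap m v) * _ = _
            rw [ratio_aux _ _ _ hms.2]
            ring
          · rw [hz, map_add, map_smul, hv0 m hm, smul_zero, add_zero]
            exact hd.corner_eq b₀ b m (corners_subset_baseCorners hb₀ hm) hb
        · have hm' := hsub' hm
          rw [hz, map_add, map_smul, smul_eq_mul]
          by_cases hneg : P.toLinearMap m v < 0
          · have hmT : m ∈ T := (hT m).2 ⟨hm', hneg⟩
            have h1 := hmin m hmT
            rw [← cval_eq hd hb]
            have h2 : t * P.toLinearMap m v ≥ r m * P.toLinearMap m v :=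
              mul_le_mul_of_nonpos_right h1 hneg.le
            have h3 : r m * P.toLinearMap m v = -(P.toLinearMap m (d b₀) - cval d m) :=
              ratio_aux _ _ _ hneg
            linarith
          · rw [not_lt] at hneg
            have h1 := corner_pair_le hd b hb b₀
            have h2 : 0 ≤ t * P.toLinearMap m v := mul_nonneg (by linarith) hneg
            linarith
      -- the measure decreases
      have hlt : (F'.corners' \ F'.corners).ncard < n := by
        rw [← hn]
        apply Set.ncard_lt_ncard _ ((finite_corners' F).subset Set.sdiff_subset)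
        refine ⟨fun m hm => ⟨hsub' hm.1, fun h => hm.2 (hsub h)⟩, fun hcon => ?_⟩
        have := hcon ⟨hms.1, hmsF⟩
        apply this.2
        rw [hF']
        exact Set.mem_insert _ _
      have hzsolid : z ∈ dualSolid d F := dualSolid_mono hsub (ih _ hlt F' rfl hzpoly)
      -- `y` is a convex combination of `d b₀` and `z`
      have htpos : 0 < t := by linarith
      have hcomb : y = (1 - 1 / t) • d b₀ + (1 / t) • z := by
        rw [hz, hyv, smul_add, smul_smul, one_div, inv_mul_cancel₀ htpos.ne', one_smul, sub_smul,
          one_smul]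
        abel
      rw [hcomb]
      refine (convex_convexHull R _) hd0 hzsolid ?_ ?_ (by ring)
      · rw [sub_nonneg, div_le_one htpos]
        exact ht1
      · exact div_nonneg zero_le_one htpos.le

/-- S14238 -/
theorem dualSolid_eq {d : P.Base → N} (hd : IsCCS d) (F : Facet P) :
    dualSolid d F =
      (⋂ m ∈ F.corners, hyper d m) ∩ ⋂ m ∈ F.corners', halfClosed d m :=
  Set.Subset.antisymm (dualSolid_subset_poly hd F) (poly_subset_dualSolid hd _ F rfl)

end Solid3

end

end Groth.Agent.Helper7.RC
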