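import Mathlib
import Groth.Agent.Helper7.RootN

set_option autoImplicit false
set_option linter.unusedSectionVars false
universe u v w x

namespace Groth.Agent.Helper7.RC

open RootPairing RootCh Module
open scoped Classical

noncomputable section

section Semistable

variable {ι : Type u} {R : Type v} {M : Type w} {N : Type x}
variable [Field R] [LinearOrder R] [IsStrictOrderedRing R]
variable [AddCommGroup M] [Module R M] [AddCommGroup N] [Module R N] [Finite ι]
variable {P : RootPairing ι R M N} [P.IsRootSystem] [P.IsCrystallographic] [P.IsReduced]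

lemma origin_sgn (i : ι) : (Facet.origin P).sgn i = 0 := by
  change sgnVec P 0 i = 0
  rw [sgnVec_apply, map_zero, sign_zero]

lemma cham_origin (b : P.Base) : b ∈ (Facet.origin P).cham := by
  rw [mem_cham_iff]
  intro i _
  rw [origin_sgn]
  decide

lemma corners_origin : (Facet.origin P).corners = ∅ := by
  obtain ⟨b⟩ := P.nonempty_base
  rw [corners_eq (cham_origin b)]
  ext m
  simp only [Set.mem_image, Set.mem_ofPred_eq, origin_sgn, Set.mem_empty_iff_false, iff_false]
  rintro ⟨j, hj, -⟩
  exact absurd hj (by decide)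

lemma corners'_origin : (Facet.origin P).corners' = fundWeights P := by
  ext m
  simp only [Facet.corners', Set.mem_iUnion]
  constructor
  · rintro ⟨b, -, hm⟩
    exact hm.1
  · rintro ⟨b, i, rfl⟩
    refine ⟨b, cham_origin b, ?_⟩
    rw [baseCorners_eq_range]
    exact ⟨i, rfl⟩

lemma solid_eq_dualSolid_origin (d : P.Base → N) : solid d = dualSolid d (Facet.origin P) := by
  rw [solid, dualSolid]
  congr 1
  ext y
  constructor
  · rintro ⟨b, rfl⟩
    exact ⟨b, cham_origin b, rfl⟩
  · rintro ⟨b, -, rfl⟩
    exact ⟨b, rfl⟩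

lemma mem_solid_iff {d : P.Base → N} (hd : IsCCS d) (y : N) :
    y ∈ solid d ↔ ∀ (b : P.Base), ∀ m ∈ baseCorners b,
      P.toLinearMap m (d b) ≤ P.toLinearMap m y := by
  rw [solid_eq_dualSolid_origin, dualSolid_eq hd, corners_origin, corners'_origin]
  simp only [Set.mem_empty_iff_false, Set.iInter_of_empty, Set.iInter_univ, Set.univ_inter,
    Set.mem_iInter, halfClosed, Set.mem_ofPred_eq]
  constructor
  · intro h b m hm
    exact h m hm.1 b hm
  · intro h m _ b hm
    exact h b m hm

/-- S14241 -/
theorem corner_pairing_nonpos_iff {d : P.Base → N} (hd : IsCCS d) :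
    (∀ (b : P.Base), ∀ m ∈ baseCorners b, P.toLinearMap m (d b) ≤ 0) ↔ IsSemistable d := by
  rw [IsSemistable, mem_solid_iff hd]
  simp only [map_zero]

/-- the degree of a facet as a positive combination of the pairings of its corners -/
lemma deg_nonpos_of_corner {d : P.Base → N}
    (h : ∀ (b : P.Base), ∀ m ∈ baseCorners b, P.toLinearMap m (d b) ≤ 0)
    (F : Facet P) (b : P.Base) (hb : b ∈ F.cham) : F.deg d b ≤ 0 := by
  rw [deg_eq_pair]
  have hv := sum_root_parab_mem_carrier F
  rw [carrier_eq_pos_comb] at hv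
  obtain ⟨c, hsupp, hpos, hsum⟩ := hv
  rw [← hsum, Finsupp.sum, map_sum, LinearMap.sum_apply]
  refine Finset.sum_nonpos fun m hm => ?_
  rw [map_smul, LinearMap.smul_apply, smul_eq_mul]
  have hmc := hsupp hm
  exact mul_nonpos_of_nonneg_of_nonpos (hpos m hmc).le
    (h b m (corners_subset_baseCorners hb hmc))

/-- the ray facet through a fundamental weight -/
lemma ray_facet (b : P.Base) (j : b.support) :
    ∃ F : Facet P, b ∈ F.cham ∧ F.dim = 1 ∧ F.corners = {fundWeight b j} := by
  refine ⟨facetOf b {j}, mem_cham_facetOf b _, ?_, ?_⟩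
  · rw [Facet.dim, span_carrier_eq, corners_facetOf, Set.image_singleton]
    apply finrank_span_singleton
    intro h0
    have := coroot'_fundWeight b j j
    rw [h0, map_zero, if_pos rfl] at this
    exact zero_ne_one this
  · rw [corners_facetOf, Set.image_singleton]

lemma corner_of_deg_dim_one {d : P.Base → N}
    (h : ∀ (F : Facet P) (b : P.Base), F.dim = 1 → b ∈ F.cham → F.deg d b ≤ 0)
    (b : P.Base) (m : M) (hm : m ∈ baseCorners b) : P.toLinearMap m (d b) ≤ 0 := by
  rw [baseCorners_eq_range] at hm
  obtain ⟨j, rfl⟩ := hm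
  obtain ⟨F, hb, hdim, hcor⟩ := ray_facet b j
  have hdeg := h F b hdim hb
  rw [deg_eq_pair] at hdeg
  have hv := sum_root_parab_mem_carrier F
  rw [carrier_eq_pos_comb] at hv
  obtain ⟨c, hsupp, hpos, hsum⟩ := hv
  have hcj : 0 < c (fundWeight b j) := hpos _ (by rw [hcor]; rfl)
  have hsupp' : c.support ⊆ {fundWeight b j} := by
    intro m hm
    have := hsupp hm
    rw [hcor] at this
    simpa using this
  have hsum' : c.sum (fun m r => r • m) = c (fundWeight b j) • fundWeight b j := by
    rw [Finsupp.sum, Finset.sum_subset hsupp' (by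
      intro m _ hm
      rw [Finsupp.notMem_support_iff.1 hm, zero_smul])]
    simp
  rw [← hsum, hsum', map_smul, LinearMap.smul_apply, smul_eq_mul] at hdeg
  by_contra hcon
  rw [not_le] at hcon
  exact absurd (mul_pos hcj hcon) (not_lt.2 hdeg)

/-- S14239 -/
theorem deg_nonpos_iff {d : P.Base → N} (hd : IsCCS d) :
    (∀ (F : Facet P) (b : P.Base), b ∈ F.cham → F.deg d b ≤ 0) ↔ IsSemistable d := by
  rw [← corner_pairing_nonpos_iff hd]
  constructor
  · intro h
    exact corner_of_deg_dim_one (fun F b _ hb => h F b hb)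
  · intro h F b hb
    exact deg_nonpos_of_corner h F b hb

/-- S14240 -/
theorem deg_nonpos_dim_one_iff {d : P.Base → N} (hd : IsCCS d) :
    (∀ (F : Facet P) (b : P.Base), F.dim = 1 → b ∈ F.cham → F.deg d b ≤ 0) ↔
      IsSemistable d := by
  rw [← corner_pairing_nonpos_iff hd]
  constructor
  · intro h
    exact corner_of_deg_dim_one h
  · intro h F b _ hb
    exact deg_nonpos_of_corner h F b hb

end Semistable

end

end Groth.Agent.Helper7.RC
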