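import Mathlib
import Groth.Agent.Helper7.RootO

set_option autoImplicit false
set_option linter.unusedSectionVars false
universe u v w x

namespace Groth.Agent.Helper7.RC

open RootPairing RootCh Module
open scoped Classical

noncomputable section

section Special

variable {ι : Type u} {R : Type v} {M : Type w} {N : Type x}
variable [Field R] [LinearOrder R] [IsStrictOrderedRing R]
variable [AddCommGroup M] [Module R M] [AddCommGroup N] [Module R N] [Finite ι]
variable {P : RootPairing ι R M N} [P.IsRootSystem] [P.IsCrystallographic] [P.IsReduced]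

lemma root'_eq_zero_of_mem_span_dualCarrier {F : Facet P} {y : N}
    (hy : y ∈ Submodule.span R F.dualCarrier) {l : ι} (hl : F.sgn l = 0) : P.root' l y = 0 := by
  induction hy using Submodule.span_induction with
  | mem x hx =>
    have : cosgnVec P x l = 0 := by rw [show cosgnVec P x = F.sgn from hx, hl]
    rwa [cosgnVec_apply, sign_eq_zero_iff] at this
  | zero => simp
  | add x y _ _ hx hy => rw [map_add, hx, hy, add_zero]
  | smul c x _ hx => rw [map_smul, hx, smul_zero]

/-- the invariant form on `N` pairs a fundamental coweight like its fundamental weight -/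
lemma two_corootForm_fundCoweight [Fintype ι] (b : P.Base) (j : b.support) (w : N) :
    2 * P.flip.RootForm (fundCoweight b j) w =
      P.flip.RootForm (P.coroot j) (P.coroot j) * P.toLinearMap (fundWeight b j) w := by
  have h := two_smul_polarization_fundWeight (P := P.flip) b.flip j
  have h2 := congrArg (fun x => P.toLinearMap x w) h
  simp only [map_smul, LinearMap.smul_apply, smul_eq_mul] at h2
  have h3 : P.toLinearMap (P.flip.Polarization (fundCoweight b j)) w =
      P.flip.RootForm (fundCoweight b j) w :=
    P.flip.toLinearMap_apply_apply_Polarization (fundCoweight b j) w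
  change 2 * P.toLinearMap (P.flip.Polarization (fundCoweight b j)) w = _ at h2
  rw [h3] at h2
  exact h2

lemma corootForm_pos [Fintype ι] {w : N} (hw : w ≠ 0) : 0 < P.flip.RootForm w w := by
  apply P.flip.rootForm_pos_of_ne_zero _ hw
  rw [RootPairing.rootSpan, IsRootSystem.span_root_eq_top]
  trivial

/-- the locus of `y(F)` has at most one point -/
lemma yLocus_subsingleton (d : P.Base → N) (F : Facet P) {y y' : N}
    (hy : y ∈ yLocus d F) (hy' : y' ∈ yLocus d F) : y = y' := by
  have : Fintype ι := Fintype.ofFinite ι
  obtain ⟨b, hb⟩ := cham_nonempty F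
  rw [← sub_eq_zero]
  set w := y - y' with hw
  by_contra hne
  have hpos := corootForm_pos (P := P) hne
  have hJ : ∀ l : b.support, F.sgn l = 0 → P.root' l w = 0 := by
    intro l hl
    rw [hw, map_sub, root'_eq_zero_of_mem_span_dualCarrier hy.2 hl,
      root'_eq_zero_of_mem_span_dualCarrier hy'.2 hl, sub_zero]
  have hK : ∀ j : b.support, F.sgn j = 1 → P.toLinearMap (fundWeight b j) w = 0 := by
    intro j hj
    have hm : fundWeight b j ∈ F.corners := (fundWeight_mem_corners_iff hb j).2 hj
    have hmb : fundWeight b j ∈ baseCorners b := corners_subset_baseCorners hb hm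
    have h1 := hy.1
    have h2 := hy'.1
    simp only [Set.mem_iInter, hyper, Set.mem_ofPred_eq] at h1 h2
    rw [hw, map_sub, h1 _ hm b hmb, h2 _ hm b hmb, sub_self]
  have hexp : P.flip.RootForm w w =
      ∑ j : b.support, P.root' j w * P.flip.RootForm (fundCoweight b j) w := by
    conv_lhs => enter [1]; rw [eq_sum_fundCoweight b w]
    rw [map_sum, LinearMap.sum_apply]
    refine Finset.sum_congr rfl fun j _ => ?_
    rw [map_smul, LinearMap.smul_apply, smul_eq_mul]
  have hzero : ∀ j : b.support, P.root' j w * P.flip.RootForm (fundCoweight b j) w = 0 := by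
    intro j
    rcases sgn_simple hb j with hs | hs
    · rw [hJ j hs, zero_mul]
    · have := two_corootForm_fundCoweight b j w
      rw [hK j hs, mul_zero] at this
      have h0 : P.flip.RootForm (fundCoweight b j) w = 0 := by
        rcases mul_eq_zero.1 this with h | h
        · exact absurd h two_ne_zero
        · exact h
      rw [h0, mul_zero]
  rw [hexp, Finset.sum_eq_zero fun j _ => hzero j] at hpos
  exact lt_irrefl _ hpos

lemma dualCarrier_inter_dualSolid_subset_yLocus {d : P.Base → N} (hd : IsCCS d) (F : Facet P) :
    F.dualCarrier ∩ dualSolid d F ⊆ yLocus d F := by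
  rintro y ⟨h1, h2⟩
  rw [dualSolid_eq hd] at h2
  exact ⟨h2.1, Submodule.subset_span h1⟩

/-- S14251 -/
theorem yLocus_eq_of_isSpecial {d : P.Base → N} (hd : IsCCS d) (F : Facet P)
    (hF : IsSpecial d F) :
    ∃ y₀ : N, yLocus d F = {y₀} ∧ F.dualCarrier ∩ dualSolid d F = {y₀} := by
  obtain ⟨y₀, hy₀⟩ := hF
  have h0 := dualCarrier_inter_dualSolid_subset_yLocus hd F hy₀
  refine ⟨y₀, ?_, ?_⟩
  · ext y
    constructor
    · intro hy
      exact yLocus_subsingleton d F hy h0
    · rintro rfl
      exact h0
  · ext y
    constructor
    · intro hy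
      exact yLocus_subsingleton d F (dualCarrier_inter_dualSolid_subset_yLocus hd F hy) h0
    · rintro rfl
      exact hy₀

end Special

end

end Groth.Agent.Helper7.RC
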