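import Mathlib
import Groth.Agent.Helper7.RootP

set_option autoImplicit false
set_option linter.unusedSectionVars false
universe u v w x

namespace Groth.Agent.Helper7.RC

open RootPairing RootCh Module
open scoped Classical

noncomputable section

section Metric

variable {ι : Type u} {R : Type v} {M : Type w} {N : Type x}
variable [Field R] [LinearOrder R] [IsStrictOrderedRing R]
variable [AddCommGroup M] [Module R M] [AddCommGroup N] [Module R N] [Finite ι]
variable {P : RootPairing ι R M N} [P.IsRootSystem] [P.IsCrystallographic] [P.IsReduced]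

variable (B : LinearMap.BilinForm R N)

lemma form_expand (hBs : ∀ y z : N, B y z = B z y) (a w : N) :
    B (a + w) (a + w) = B a a + 2 * B a w + B w w := by
  simp only [map_add, LinearMap.add_apply]
  rw [hBs w a]
  ring

lemma two_mul_form_coroot
    (hBi : ∀ (i : ι) (y z : N), B (P.coreflection i y) (P.coreflection i z) = B y z)
    (i : ι) (x : N) : 2 * B x (P.coroot i) = P.root' i x * B (P.coroot i) (P.coroot i) := by
  have h := hBi i x (P.coroot i)
  rw [P.coreflection_apply_self, P.coreflection_apply, map_sub, LinearMap.sub_apply, map_neg,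
    map_neg, map_smul, LinearMap.smul_apply, smul_eq_mul] at h
  linarith

lemma two_mul_form_fundCoweight (hBs : ∀ y z : N, B y z = B z y)
    (hBi : ∀ (i : ι) (y z : N), B (P.coreflection i y) (P.coreflection i z) = B y z)
    (b : P.Base) (j : b.support) (x : N) :
    2 * B (fundCoweight b j) x =
      B (P.coroot j) (P.coroot j) * P.toLinearMap (fundWeight b j) x := by
  conv_lhs => rw [eq_sum_coroot b x]
  rw [map_sum, Finset.mul_sum, Finset.sum_eq_single j]
  · rw [map_smul, smul_eq_mul, mul_left_comm, two_mul_form_coroot B hBi, root'_fundCoweight,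
      if_pos rfl]
    ring
  · intro l _ hl
    rw [map_smul, smul_eq_mul, mul_left_comm, two_mul_form_coroot B hBi, root'_fundCoweight,
      if_neg hl]
    ring
  · intro h
    exact absurd (Finset.mem_univ j) h

/-- pairing of a point of the dual facet against an invariant form -/
lemma two_mul_form_of_mem_dualCarrier (hBs : ∀ y z : N, B y z = B z y)
    (hBi : ∀ (i : ι) (y z : N), B (P.coreflection i y) (P.coreflection i z) = B y z)
    (b : P.Base) (y₀ x : N) :
    2 * B y₀ x = ∑ j : b.support,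
      P.root' j y₀ * (B (P.coroot j) (P.coroot j) * P.toLinearMap (fundWeight b j) x) := by
  conv_lhs => enter [2, 1]; rw [eq_sum_fundCoweight b y₀]
  rw [map_sum, LinearMap.sum_apply, Finset.mul_sum]
  refine Finset.sum_congr rfl fun j _ => ?_
  rw [map_smul, LinearMap.smul_apply, smul_eq_mul, mul_left_comm,
    two_mul_form_fundCoweight B hBs hBi]

lemma root'_pos_of_mem_dualCarrier {F : Facet P} {y₀ : N} (h : y₀ ∈ F.dualCarrier) {j : ι}
    (hj : F.sgn j = 1) : 0 < P.root' j y₀ := by
  have : cosgnVec P y₀ j = 1 := by rw [show cosgnVec P y₀ = F.sgn from h, hj]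
  rwa [cosgnVec_apply, sign_eq_one_iff] at this

lemma root'_zero_of_mem_dualCarrier {F : Facet P} {y₀ : N} (h : y₀ ∈ F.dualCarrier) {j : ι}
    (hj : F.sgn j = 0) : P.root' j y₀ = 0 := by
  have : cosgnVec P y₀ j = 0 := by rw [show cosgnVec P y₀ = F.sgn from h, hj]
  rwa [cosgnVec_apply, sign_eq_zero_iff] at this

lemma dualSolid_subset_solid (d : P.Base → N) (F : Facet P) : dualSolid d F ⊆ solid d :=
  convexHull_mono (Set.image_subset_range _ _)

lemma pair_eq_of_mem_dualSolid {d : P.Base → N} (hd : IsCCS d) {F : Facet P} {y : N}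
    (hy : y ∈ dualSolid d F) {b : P.Base} (hb : b ∈ F.cham) {m : M} (hm : m ∈ F.corners) :
    P.toLinearMap m y = P.toLinearMap m (d b) := by
  rw [dualSolid_eq hd] at hy
  have := hy.1
  simp only [Set.mem_iInter, hyper, Set.mem_ofPred_eq] at this
  exact this m hm b (corners_subset_baseCorners hb hm)

/-- S14244 -/
theorem isMinOn_of_isSpecial {d : P.Base → N} (hd : IsCCS d)
    (hBs : ∀ y z : N, B y z = B z y) (hBp : ∀ y : N, y ≠ 0 → 0 < B y y)
    (hBi : ∀ (i : ι) (y z : N), B (P.coreflection i y) (P.coreflection i z) = B y z)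
    (F : Facet P) (hF : IsSpecial d F) :
    ∃ y₀ : N, yLocus d F = {y₀} ∧ y₀ ∈ solid d ∧
      ∀ y ∈ solid d, y ≠ y₀ → B y₀ y₀ < B y y := by
  obtain ⟨y₀, hloc, hint⟩ := yLocus_eq_of_isSpecial hd F hF
  have hy₀ : y₀ ∈ F.dualCarrier ∩ dualSolid d F := by rw [hint]; rfl
  refine ⟨y₀, hloc, dualSolid_subset_solid d F hy₀.2, fun y hy hne => ?_⟩
  obtain ⟨b, hb⟩ := cham_nonempty F
  have hBcor : ∀ i : ι, 0 < B (P.coroot i) (P.coroot i) := fun i => hBp _ (P.flip.ne_zero i)
  have h1 : 0 ≤ 2 * B y₀ (y - y₀) := by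
    rw [two_mul_form_of_mem_dualCarrier B hBs hBi b]
    refine Finset.sum_nonneg fun j _ => ?_
    rcases sgn_simple hb j with hs | hs
    · rw [root'_zero_of_mem_dualCarrier hy₀.1 hs, zero_mul]
    · apply mul_nonneg (root'_pos_of_mem_dualCarrier hy₀.1 hs).le
      apply mul_nonneg (hBcor j).le
      have hm : fundWeight b j ∈ F.corners := (fundWeight_mem_corners_iff hb j).2 hs
      rw [map_sub, sub_nonneg, pair_eq_of_mem_dualSolid hd hy₀.2 hb hm]
      exact (mem_solid_iff hd y).1 hy b _ (corners_subset_baseCorners hb hm)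
  have h2 : 0 < B (y - y₀) (y - y₀) := hBp _ (sub_ne_zero.2 hne)
  have h3 : B y y = B y₀ y₀ + 2 * B y₀ (y - y₀) + B (y - y₀) (y - y₀) := by
    have e : y = y₀ + (y - y₀) := by abel
    conv_lhs => rw [e]
    exact form_expand B hBs _ _
  linarith

lemma convex_solid (d : P.Base → N) : Convex R (solid d) := convex_convexHull R _

/-- first-order optimality condition for a point of minimal norm in a convex set -/
lemma form_nonneg_of_isMin (hBs : ∀ y z : N, B y z = B z y) (hBp : ∀ y : N, y ≠ 0 → 0 < B y y)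
    {s : Set N} (hs : Convex R s) {y₀ : N} (hy₀ : y₀ ∈ s) (hmin : ∀ y ∈ s, B y₀ y₀ ≤ B y y)
    {y : N} (hy : y ∈ s) : 0 ≤ B y₀ (y - y₀) := by
  by_contra hneg
  rw [not_le] at hneg
  set w := y - y₀ with hw
  have hw0 : w ≠ 0 := by
    intro h0
    rw [h0, map_zero] at hneg
    exact lt_irrefl _ hneg
  have hww := hBp w hw0
  -- step size
  set t := min 1 (-B y₀ w / B w w) with ht
  have ht0 : 0 < t := lt_min one_pos (div_pos (by linarith) hww)
  have ht1 : t ≤ 1 := min_le_left _ _
  have ht2 : t * B w w ≤ -B y₀ w := by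
    have : t ≤ -B y₀ w / B w w := min_le_right _ _
    rwa [le_div_iff₀ hww] at this
  have hmem : y₀ + t • w ∈ s := by
    have : y₀ + t • w = (1 - t) • y₀ + t • y := by
      rw [hw, smul_sub, sub_smul, one_smul]; abel
    rw [this]
    exact hs hy₀ hy (by linarith) ht0.le (by ring)
  have h1 := hmin _ hmem
  rw [form_expand B hBs] at h1
  simp only [map_smul, LinearMap.smul_apply, smul_eq_mul] at h1
  have h2 : 0 ≤ t * (2 * B y₀ w + t * B w w) := by nlinarith
  have h3 : 2 * B y₀ w + t * B w w < 0 := by linarith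
  exact absurd (mul_neg_of_pos_of_neg ht0 h3) (not_lt.2 h2)

/-- S14245 -/
theorem isSpecial_of_isMinOn {d : P.Base → N} (hd : IsCCS d)
    (hBs : ∀ y z : N, B y z = B z y) (hBp : ∀ y : N, y ≠ 0 → 0 < B y y)
    (hBi : ∀ (i : ι) (y z : N), B (P.coreflection i y) (P.coreflection i z) = B y z)
    (y₀ : N) (hy₀ : y₀ ∈ solid d) (hmin : ∀ y ∈ solid d, B y₀ y₀ ≤ B y y)
    (F : Facet P) (hF : y₀ ∈ F.dualCarrier) :
    IsSpecial d F ∧ yLocus d F = {y₀} := by
  obtain ⟨b, hb⟩ := cham_nonempty F
  have hBcor : ∀ i : ι, 0 < B (P.coroot i) (P.coroot i) := fun i => hBp _ (P.flip.ne_zero i)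
  have hdb : d b ∈ solid d := subset_convexHull R _ ⟨b, rfl⟩
  have h1 := form_nonneg_of_isMin B hBs hBp (convex_solid d) hy₀ hmin hdb
  have h2 : 0 ≤ 2 * B y₀ (d b - y₀) := by linarith
  rw [two_mul_form_of_mem_dualCarrier B hBs hBi b] at h2
  have hterm : ∀ j : b.support,
      P.root' j y₀ * (B (P.coroot j) (P.coroot j) * P.toLinearMap (fundWeight b j) (d b - y₀))
        ≤ 0 := by
    intro j
    rcases sgn_simple hb j with hs | hs
    · rw [root'_zero_of_mem_dualCarrier hF hs, zero_mul]
    · apply mul_nonpos_of_nonneg_of_nonpos (root'_pos_of_mem_dualCarrier hF hs).le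
      apply mul_nonpos_of_nonneg_of_nonpos (hBcor j).le
      rw [map_sub, sub_nonpos]
      have hm : fundWeight b j ∈ baseCorners b := by
        rw [baseCorners_eq_range]; exact ⟨j, rfl⟩
      exact (mem_solid_iff hd y₀).1 hy₀ b _ hm
  have hzero := (Finset.sum_eq_zero_iff_of_nonpos (fun j _ => hterm j)).1
    (le_antisymm (Finset.sum_nonpos fun j _ => hterm j) h2)
  have hK : ∀ j : b.support, F.sgn j = 1 →
      P.toLinearMap (fundWeight b j) y₀ = P.toLinearMap (fundWeight b j) (d b) := by
    intro j hs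
    have h0 := hzero j (Finset.mem_univ j)
    have hp := root'_pos_of_mem_dualCarrier hF hs
    rcases mul_eq_zero.1 h0 with h | h
    · exact absurd h hp.ne'
    · rcases mul_eq_zero.1 h with h' | h'
      · exact absurd h' (hBcor j).ne'
      · rw [map_sub, sub_eq_zero] at h'
        exact h'.symm
  have hmem : y₀ ∈ dualSolid d F := by
    rw [dualSolid_eq hd]
    refine ⟨?_, ?_⟩
    · simp only [Set.mem_iInter, hyper, Set.mem_ofPred_eq]
      intro m hm b' hb'
      have hm' := hm
      rw [corners_eq hb] at hm'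
      obtain ⟨j, hj, rfl⟩ := hm'
      rw [hK j hj]
      exact hd.corner_eq b b' _ (corners_subset_baseCorners hb hm) hb'
    · simp only [Set.mem_iInter, halfClosed, Set.mem_ofPred_eq]
      intro m _ b' hb'
      exact (mem_solid_iff hd y₀).1 hy₀ b' m hb'
  have hsp : IsSpecial d F := ⟨y₀, hF, hmem⟩
  refine ⟨hsp, ?_⟩
  obtain ⟨y₁, hloc, hint⟩ := yLocus_eq_of_isSpecial hd F hsp
  have : y₀ ∈ F.dualCarrier ∩ dualSolid d F := ⟨hF, hmem⟩
  rw [hint] at this
  rw [hloc, this]

end Metric

end

end Groth.Agent.Helper7.RC
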