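import Mathlib
import Groth.Agent.Helper7.RootQ

set_option autoImplicit false
set_option linter.unusedSectionVars false
universe u v w x

namespace Groth.Agent.Helper7.RC

open RootPairing RootCh Module
open scoped Classical

noncomputable section

variable {ι : Type u} {R : Type v} {M : Type w} {N : Type x}
variable [Field R] [LinearOrder R] [IsStrictOrderedRing R]
variable [AddCommGroup M] [Module R M] [AddCommGroup N] [Module R N] [Finite ι]
variable {P : RootPairing ι R M N} [P.IsRootSystem] [P.IsCrystallographic] [P.IsReduced]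

lemma negIdx_negIdx (i : ι) :
    P.reflectionPerm (P.reflectionPerm i i) (P.reflectionPerm i i) = i := by
  apply P.root.injective
  rw [root_neg, root_neg, neg_neg]

/-- the value of a sign as a scalar -/
def sv (s : SignType) : R := if s = 1 then 1 else if s = -1 then -1 else 0

lemma sv_one : (sv (1 : SignType) : R) = 1 := by simp [sv]
lemma sv_zero : (sv (0 : SignType) : R) = 0 := by simp [sv]
lemma sv_neg_one : (sv (-1 : SignType) : R) = -1 := by simp [sv]

/-- twice the pairing of the sum of the roots of the parabolic set of a facet with a vector is the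
signed sum of all the root pairings -/
lemma two_mul_sum_parab [Fintype ι] (H : Facet P) (y : N) :
    2 * ∑ i ∈ (Set.toFinite H.parab).toFinset, P.root' i y =
      ∑ i : ι, sv (H.sgn i) * P.root' i y := by
  have e1 : ∑ i ∈ (Set.toFinite H.parab).toFinset, P.root' i y =
      ∑ i : ι, if H.sgn i ≠ -1 then P.root' i y else 0 := by
    rw [← Finset.sum_filter]
    apply Finset.sum_congr _ (fun _ _ => rfl)
    ext i
    simp [Facet.parab]
  have e2 : ∑ i : ι, (if H.sgn i ≠ -1 then P.root' i y else 0) =
      ∑ i : ι, if H.sgn i ≠ 1 then -P.root' i y else 0 := by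
    apply Finset.sum_nbij' (fun i => P.reflectionPerm i i) (fun i => P.reflectionPerm i i)
    · intro i _; exact Finset.mem_univ _
    · intro i _; exact Finset.mem_univ _
    · intro i _; exact negIdx_negIdx i
    · intro i _; exact negIdx_negIdx i
    · intro i _
      have h1 : P.root' (P.reflectionPerm i i) y = -P.root' i y := by
        change P.toLinearMap (P.root (P.reflectionPerm i i)) y = -P.toLinearMap (P.root i) y
        rw [root_neg, map_neg, LinearMap.neg_apply]
      rw [Facet.sgn_neg, h1]
      rcases h : H.sgn i with _ | _ | _ <;> simp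
  rw [two_mul]
  conv_lhs => enter [2]; rw [e1, e2]
  rw [e1, ← Finset.sum_add_distrib]
  apply Finset.sum_congr rfl
  intro i _
  rcases h : H.sgn i with _ | _ | _
  · simp [sv]
  · have : (SignType.neg : SignType) = -1 := rfl
    simp [sv, this]
  · have : (SignType.pos : SignType) = 1 := rfl
    simp [sv, this]


lemma sv_mul_le {s t : SignType} {a : R} (ht : SignType.sign a = t) :
    sv s * a ≤ sv t * a := by
  subst ht
  rcases lt_trichotomy a 0 with h | h | h
  · rw [sign_neg h]
    rcases s with _ | _ | _
    · change sv (0 : SignType) * a ≤ sv (-1 : SignType) * a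
      rw [sv_zero, sv_neg_one]; linarith
    · change sv (-1 : SignType) * a ≤ sv (-1 : SignType) * a
      exact le_refl _
    · change sv (1 : SignType) * a ≤ sv (-1 : SignType) * a
      rw [sv_one, sv_neg_one]; linarith
  · subst h; simp
  · rw [sign_pos h]
    rcases s with _ | _ | _
    · change sv (0 : SignType) * a ≤ sv (1 : SignType) * a
      rw [sv_zero, sv_one]; linarith
    · change sv (-1 : SignType) * a ≤ sv (1 : SignType) * a
      rw [sv_one, sv_neg_one]; linarith
    · exact le_refl _

lemma eq_of_sv_mul_eq {s t : SignType} {a : R} (ht : SignType.sign a = t) (ht0 : t ≠ 0)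
    (h : sv s * a = sv t * a) : t = s := by
  subst ht
  rcases lt_trichotomy a 0 with h' | h' | h'
  · rw [sign_neg h'] at h ⊢
    rcases s with _ | _ | _
    · change sv (0 : SignType) * a = sv (-1 : SignType) * a at h
      rw [sv_zero, sv_neg_one] at h
      exfalso; linarith
    · rfl
    · change sv (1 : SignType) * a = sv (-1 : SignType) * a at h
      rw [sv_one, sv_neg_one] at h
      exfalso; linarith
  · subst h'; simp at ht0
  · rw [sign_pos h'] at h ⊢
    rcases s with _ | _ | _
    · change sv (0 : SignType) * a = sv (1 : SignType) * a at h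
      rw [sv_zero, sv_one] at h
      exfalso; linarith
    · change sv (-1 : SignType) * a = sv (1 : SignType) * a at h
      rw [sv_one, sv_neg_one] at h
      exfalso; linarith
    · rfl

/-- pairing of the sum of the parabolic roots with a point of the solid dominates the degree -/
lemma deg_le_pair_of_mem_solid {d : P.Base → N} (hd : IsCCS d) {y : N} (hy : y ∈ solid d)
    (G : Facet P) (c : P.Base) (hc : c ∈ G.cham) :
    G.deg d c ≤ P.toLinearMap (∑ i ∈ (Set.toFinite G.parab).toFinset, P.root i) y := by
  rw [deg_eq_pair]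
  have hv := sum_root_parab_mem_carrier G
  rw [carrier_eq_pos_comb] at hv
  obtain ⟨a, hsupp, hpos, hsum⟩ := hv
  rw [← hsum, Finsupp.sum, map_sum, LinearMap.sum_apply, LinearMap.sum_apply]
  refine Finset.sum_le_sum fun m hm => ?_
  rw [map_smul, LinearMap.smul_apply, LinearMap.smul_apply, smul_eq_mul, smul_eq_mul]
  have hmc := hsupp hm
  exact mul_le_mul_of_nonneg_left
    ((mem_solid_iff hd y).1 hy c m (corners_subset_baseCorners hc hmc)) (hpos m hmc).le

lemma pair_eq_of_mem_dualSolid_span {d : P.Base → N} (hd : IsCCS d) {F : Facet P} {y : N}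
    (hy : y ∈ dualSolid d F) {b : P.Base} (hb : b ∈ F.cham) {v : M}
    (hv : v ∈ Submodule.span R F.corners) :
    P.toLinearMap v y = P.toLinearMap v (d b) := by
  induction hv using Submodule.span_induction with
  | mem m hm => exact pair_eq_of_mem_dualSolid hd hy hb hm
  | zero => simp
  | add u v _ _ hu hv => rw [map_add, LinearMap.add_apply, LinearMap.add_apply, hu, hv]
  | smul r u _ hu => rw [map_smul, LinearMap.smul_apply, LinearMap.smul_apply, hu]

/-- S14248 -/
theorem isSpecial_max_deg {d : P.Base → N} (hd : IsCCS d)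
    (F : Facet P) (b : P.Base) (hb : b ∈ F.cham) (hF : IsSpecial d F) :
    (∀ (G : Facet P) (c : P.Base), c ∈ G.cham → G.deg d c ≤ F.deg d b) ∧
      ∀ (G : Facet P) (c : P.Base), c ∈ G.cham → G.deg d c = F.deg d b → G ≤ F := by
  have : Fintype ι := Fintype.ofFinite ι
  obtain ⟨y₀, hy1, hy2⟩ := hF
  have hys : y₀ ∈ solid d := dualSolid_subset_solid d F hy2
  have hsg : ∀ i, SignType.sign (P.root' i y₀) = F.sgn i := fun i => congrFun hy1 i
  -- degree of F
  have hF2 : 2 * F.deg d b = ∑ i : ι, sv (F.sgn i) * P.root' i y₀ := by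
    rw [← two_mul_sum_parab, deg_eq_pair,
      ← pair_eq_of_mem_dualSolid_span hd hy2 hb (sum_root_parab_mem_span F), map_sum,
      LinearMap.sum_apply]
  have hG2 : ∀ (G : Facet P) (c : P.Base), c ∈ G.cham →
      2 * G.deg d c ≤ ∑ i : ι, sv (G.sgn i) * P.root' i y₀ := by
    intro G c hc
    rw [← two_mul_sum_parab]
    have := deg_le_pair_of_mem_solid hd hys G c hc
    rw [map_sum, LinearMap.sum_apply] at this
    exact mul_le_mul_of_nonneg_left this (by norm_num)
  have hle : ∀ G : Facet P, ∑ i : ι, sv (G.sgn i) * P.root' i y₀ ≤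
      ∑ i : ι, sv (F.sgn i) * P.root' i y₀ :=
    fun G => Finset.sum_le_sum fun i _ => sv_mul_le (hsg i)
  refine ⟨fun G c hc => ?_, fun G c hc heq => ?_⟩
  · have h1 := hG2 G c hc
    have h2 := hle G
    linarith
  · have h1 := hG2 G c hc
    have h2 := hle G
    have h3 : ∑ i : ι, sv (G.sgn i) * P.root' i y₀ = ∑ i : ι, sv (F.sgn i) * P.root' i y₀ := by
      apply le_antisymm h2
      rw [← hF2, ← heq]
      exact h1
    have h4 := (Finset.sum_eq_sum_iff_of_le (fun i _ => sv_mul_le (s := G.sgn i) (hsg i))).1 h3
    intro i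
    by_cases h0 : F.sgn i = 0
    · exact Or.inl h0
    · exact Or.inr (eq_of_sv_mul_eq (hsg i) h0 (h4 i (Finset.mem_univ i)))

end

end Groth.Agent.Helper7.RC
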