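import Mathlib
import Groth.Agent.Helper7.RootR

set_option autoImplicit false
set_option linter.unusedSectionVars false
universe u v w x

namespace Groth.Agent.Helper7.RC

open Module
open scoped Classical

noncomputable section

section MinNorm

variable {R : Type v} {N : Type x}
variable [Field R] [LinearOrder R] [IsStrictOrderedRing R]
variable [AddCommGroup N] [Module R N] [Module.Finite R N]

variable (B : LinearMap.BilinForm R N)

/-- orthogonal decomposition with respect to a positive definite symmetric form -/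
lemma exists_orth_decomp (hBs : ∀ y z : N, B y z = B z y) (hBp : ∀ y : N, y ≠ 0 → 0 < B y y)
    (W : Submodule R N) (x : N) : ∃ w ∈ W, ∀ u ∈ W, B (x - w) u = 0 := by
  have hrefl : B.IsRefl := fun a b h => by rw [hBs, h]
  have hnd : (B.restrict W).Nondegenerate := by
    constructor
    · intro m hm
      by_contra h0
      have h1 := hm m
      have h2 : (m : N) ≠ 0 := fun h => h0 (Subtype.ext h)
      have h3 := hBp _ h2
      simp only [LinearMap.BilinForm.restrict_apply, LinearMap.domRestrict_apply] at h1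
      exact absurd h1 h3.ne'
    · intro m hm
      by_contra h0
      have h1 := hm m
      have h2 : (m : N) ≠ 0 := fun h => h0 (Subtype.ext h)
      have h3 := hBp _ h2
      simp only [LinearMap.BilinForm.restrict_apply, LinearMap.domRestrict_apply] at h1
      exact absurd h1 h3.ne'
  have hc := LinearMap.BilinForm.isCompl_orthogonal_of_restrict_nondegenerate hrefl hnd
  obtain ⟨w, y, hw, hy, hwy⟩ := Submodule.codisjoint_iff_exists_add_eq.mp hc.codisjoint x
  refine ⟨w, hw, fun u hu => ?_⟩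
  have : x - w = y := by rw [← hwy]; abel
  rw [this, hBs]
  exact hy u hu

/-- the projection of the origin onto the affine span of a finite set -/
lemma exists_affine_proj (hBs : ∀ y z : N, B y z = B z y) (hBp : ∀ y : N, y ≠ 0 → 0 < B y y)
    (S : Finset N) (hS : S.Nonempty) :
    ∃ μ : N → R, ∑ s ∈ S, μ s = 1 ∧
      ∀ s ∈ S, ∀ s' ∈ S, B (∑ s ∈ S, μ s • s) (s - s') = 0 := by
  obtain ⟨s₀, hs₀⟩ := hS
  set W : Submodule R N := Submodule.span R ((fun s => s - s₀) '' (S : Set N)) with hW
  obtain ⟨w, hw, horth⟩ := exists_orth_decomp B hBs hBp W s₀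
  rw [hW, Submodule.mem_span_image_finset_iff_exists_fun'] at hw
  obtain ⟨c, hc⟩ := hw
  refine ⟨fun s => (if s = s₀ then 1 + ∑ i ∈ S, c i else 0) - c s, ?_, ?_⟩
  · rw [Finset.sum_sub_distrib, Finset.sum_ite_eq' S s₀, if_pos hs₀]
    ring
  · have hq : ∑ s ∈ S, ((if s = s₀ then 1 + ∑ i ∈ S, c i else 0) - c s) • s = s₀ - w := by
      simp only [sub_smul, Finset.sum_sub_distrib, ite_smul, zero_smul]
      rw [Finset.sum_ite_eq' S s₀, if_pos hs₀, ← hc]
      simp only [smul_sub, Finset.sum_sub_distrib, ← Finset.sum_smul]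
      rw [add_smul, one_smul]
      abel
    rw [hq]
    intro s hs s' hs'
    have e : s - s' = (s - s₀) - (s' - s₀) := by abel
    rw [e, map_sub, horth _ (Submodule.subset_span ⟨s, hs, rfl⟩),
      horth _ (Submodule.subset_span ⟨s', hs', rfl⟩), sub_zero]

lemma form_self_nonneg (hBp : ∀ y : N, y ≠ 0 → 0 < B y y) (y : N) : 0 ≤ B y y := by
  by_cases h : y = 0
  · rw [h, map_zero]
  · exact (hBp y h).le

lemma form_affine_split (hBs : ∀ y z : N, B y z = B z y) (S : Finset N) (hS : S.Nonempty)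
    (μ ν : N → R) (hμ : ∑ s ∈ S, μ s = 1) (hν : ∑ s ∈ S, ν s = 1)
    (horth : ∀ s ∈ S, ∀ s' ∈ S, B (∑ s ∈ S, μ s • s) (s - s') = 0) :
    B (∑ s ∈ S, ν s • s) (∑ s ∈ S, ν s • s) =
      B (∑ s ∈ S, μ s • s) (∑ s ∈ S, μ s • s) +
        B (∑ s ∈ S, ν s • s - ∑ s ∈ S, μ s • s) (∑ s ∈ S, ν s • s - ∑ s ∈ S, μ s • s) := by
  obtain ⟨s₀, hs₀⟩ := hS
  set q := ∑ s ∈ S, μ s • s with hq
  set y := ∑ s ∈ S, ν s • s with hy
  have e : y - q = ∑ s ∈ S, (ν s - μ s) • (s - s₀) := by
    simp only [sub_smul, smul_sub, Finset.sum_sub_distrib, ← Finset.sum_smul, hμ, hν]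
    rw [sub_self, sub_zero]
  have h0 : B q (y - q) = 0 := by
    rw [e, map_sum]
    refine Finset.sum_eq_zero fun s hs => ?_
    rw [map_smul, horth s hs s₀ hs₀, smul_zero]
  have h1 := form_expand B hBs q (y - q)
  rw [h0, add_sub_cancel] at h1
  rw [h1]
  ring

/-- a positive definite form attains its minimum on the convex hull of a finite set -/
theorem exists_min_norm_aux (hBs : ∀ y z : N, B y z = B z y)
    (hBp : ∀ y : N, y ≠ 0 → 0 < B y y) :
    ∀ (n : ℕ) (S : Finset N), S.card = n → S.Nonempty →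
      ∃ y₀ ∈ convexHull R (S : Set N), ∀ y ∈ convexHull R (S : Set N), B y₀ y₀ ≤ B y y := by
  intro n
  induction n using Nat.strong_induction_on with
  | _ n ih =>
  intro S hcard hS
  obtain ⟨μ, hμ1, hμorth⟩ := exists_affine_proj B hBs hBp S hS
  set q := ∑ s ∈ S, μ s • s with hq
  have hsplit := fun ν hν => form_affine_split B hBs S hS μ ν hμ1 hν hμorth
  by_cases hpos : ∀ s ∈ S, 0 ≤ μ s
  · refine ⟨q, Finset.mem_convexHull'.2 ⟨μ, hpos, hμ1, rfl⟩, fun y hy => ?_⟩
    obtain ⟨ν, hν0, hν1, rfl⟩ := Finset.mem_convexHull'.1 hy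
    rw [hsplit ν hν1]
    have := form_self_nonneg B hBp (∑ s ∈ S, ν s • s - q)
    linarith
  · push Not at hpos
    obtain ⟨s₁, hs₁, hμs₁⟩ := hpos
    have hne : ∀ s ∈ S, (S.erase s).Nonempty := by
      intro s hs
      by_contra hempty
      rw [Finset.not_nonempty_iff_eq_empty, Finset.erase_eq_empty_iff] at hempty
      rcases hempty with h | h
      · rw [h] at hs
        exact absurd hs (Finset.notMem_empty _)
      · rw [h, Finset.sum_singleton] at hμ1
        rw [h, Finset.mem_singleton] at hs₁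
        rw [hs₁, hμ1] at hμs₁
        linarith
    have ih' : ∀ s ∈ S, ∃ y₀ ∈ convexHull R ((S.erase s : Finset N) : Set N),
        ∀ y ∈ convexHull R ((S.erase s : Finset N) : Set N), B y₀ y₀ ≤ B y y := by
      intro s hs
      refine ih (S.erase s).card ?_ (S.erase s) rfl (hne s hs)
      rw [Finset.card_erase_of_mem hs, ← hcard]
      exact Nat.sub_lt (Finset.card_pos.2 hS) one_pos
    choose! Y hY1 hY2 using ih'
    obtain ⟨s', hs', hmin⟩ := Finset.exists_min_image S (fun s => B (Y s) (Y s)) hS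
    have hsub : ∀ s, convexHull R ((S.erase s : Finset N) : Set N) ⊆ convexHull R (S : Set N) :=
      fun s => convexHull_mono (by exact_mod_cast Finset.erase_subset s S)
    refine ⟨Y s', hsub s' (hY1 s' hs'), fun y hy => ?_⟩
    obtain ⟨ν, hν0, hν1, rfl⟩ := Finset.mem_convexHull'.1 hy
    set Sneg := S.filter (fun s => μ s < 0) with hSnegdef
    have hSneg : Sneg.Nonempty := ⟨s₁, by rw [hSnegdef, Finset.mem_filter]; exact ⟨hs₁, hμs₁⟩⟩
    obtain ⟨s₀, hs₀, hr⟩ := Finset.exists_min_image Sneg (fun s => ν s / (ν s - μ s)) hSneg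
    rw [hSnegdef, Finset.mem_filter] at hs₀
    obtain ⟨hs₀S, hμs₀⟩ := hs₀
    set t := ν s₀ / (ν s₀ - μ s₀) with ht
    have hden : ∀ s ∈ S, μ s < 0 → 0 < ν s - μ s := fun s hs hμs => by
      have := hν0 s hs; linarith
    have ht0 : 0 ≤ t := div_nonneg (hν0 s₀ hs₀S) (hden s₀ hs₀S hμs₀).le
    have ht1 : t < 1 := by
      rw [ht, div_lt_one (hden s₀ hs₀S hμs₀)]
      linarith
    set ρ : N → R := fun s => (1 - t) * ν s + t * μ s with hρ
    have hρ0 : ∀ s ∈ S, 0 ≤ ρ s := by
      intro s hs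
      by_cases hμs : μ s < 0
      · have h1 : t ≤ ν s / (ν s - μ s) := hr s (by rw [hSnegdef, Finset.mem_filter]; exact ⟨hs, hμs⟩)
        rw [le_div_iff₀ (hden s hs hμs)] at h1
        simp only [hρ]
        linarith
      · rw [not_lt] at hμs
        simp only [hρ]
        have := hν0 s hs
        have h1 : 0 ≤ (1 - t) * ν s := mul_nonneg (by linarith) this
        have h2 : 0 ≤ t * μ s := mul_nonneg ht0 hμs
        linarith
    have hρs₀ : ρ s₀ = 0 := by
      have h1 : t * (ν s₀ - μ s₀) = ν s₀ := by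
        rw [ht, div_mul_cancel₀ _ (hden s₀ hs₀S hμs₀).ne']
      simp only [hρ]
      linarith
    have hρ1 : ∑ s ∈ S, ρ s = 1 := by
      simp only [hρ, Finset.sum_add_distrib, ← Finset.mul_sum, hμ1, hν1]
      ring
    set y := ∑ s ∈ S, ν s • s with hy
    set z := ∑ s ∈ S, ρ s • s with hz
    have hzy : z = (1 - t) • y + t • q := by
      rw [hz, hy, hq, Finset.smul_sum, Finset.smul_sum, ← Finset.sum_add_distrib]
      refine Finset.sum_congr rfl fun s _ => ?_
      simp only [hρ]
      rw [add_smul, mul_smul, mul_smul]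
    have hzmem : z ∈ convexHull R ((S.erase s₀ : Finset N) : Set N) := by
      rw [Finset.mem_convexHull']
      refine ⟨ρ, fun s hs => hρ0 s (Finset.mem_of_mem_erase hs), ?_, ?_⟩
      · rw [Finset.sum_erase _ hρs₀, hρ1]
      · rw [Finset.sum_erase _ (by rw [hρs₀, zero_smul])]
    have h1 : B (Y s₀) (Y s₀) ≤ B z z := hY2 s₀ hs₀S z hzmem
    have h2 : B (Y s') (Y s') ≤ B (Y s₀) (Y s₀) := hmin s₀ hs₀S
    have h3 : B z z = B q q + B (z - q) (z - q) := hsplit ρ hρ1
    have h4 : B y y = B q q + B (y - q) (y - q) := hsplit ν hν1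
    have h5 : z - q = (1 - t) • (y - q) := by
      rw [hzy, smul_sub, sub_smul, sub_smul, one_smul, one_smul]
      abel
    have h6 : B (z - q) (z - q) = (1 - t) * ((1 - t) * B (y - q) (y - q)) := by
      rw [h5]
      simp only [map_smul, LinearMap.smul_apply, smul_eq_mul]
    have h7 := form_self_nonneg B hBp (y - q)
    have h8 : (1 - t) * ((1 - t) * B (y - q) (y - q)) ≤ B (y - q) (y - q) := by
      have ha : 0 ≤ 1 - t := by linarith
      have hb : 1 - t ≤ 1 := by linarith
      nlinarith [mul_nonneg ha h7, mul_nonneg ha (mul_nonneg ha h7)]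
    linarith

theorem exists_min_norm (hBs : ∀ y z : N, B y z = B z y)
    (hBp : ∀ y : N, y ≠ 0 → 0 < B y y) (S : Finset N) (hS : S.Nonempty) :
    ∃ y₀ ∈ convexHull R (S : Set N), ∀ y ∈ convexHull R (S : Set N), B y₀ y₀ ≤ B y y :=
  exists_min_norm_aux B hBs hBp S.card S rfl hS

end MinNorm

section Special

open RootPairing RootCh

variable {ι : Type u} {R : Type v} {M : Type w} {N : Type x}
variable [Field R] [LinearOrder R] [IsStrictOrderedRing R]
variable [AddCommGroup M] [Module R M] [AddCommGroup N] [Module R N] [Finite ι]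
variable {P : RootPairing ι R M N} [P.IsRootSystem] [P.IsCrystallographic] [P.IsReduced]

lemma finite_coweight_space (P : RootPairing ι R M N) [P.IsRootSystem] [P.IsCrystallographic]
    [P.IsReduced] : Module.Finite R N := by
  obtain ⟨b⟩ := P.nonempty_base
  exact Module.Finite.of_basis b.toCoweightBasis

/-- every vector of `N` lies in the dual facet of some facet -/
lemma exists_facet_dualCarrier (y : N) : ∃ F : Facet P, y ∈ F.dualCarrier := by
  obtain ⟨ξ, hξ⟩ := exists_dual_vec (P := P.flip) y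
  refine ⟨⟨cosgnVec P y, ξ, ?_⟩, rfl⟩
  funext k
  exact hξ k

/-- S14246 -/
theorem existsUnique_isSpecial {d : P.Base → N} (hd : IsCCS d) :
    ∃! F : Facet P, IsSpecial d F := by
  have : Fintype ι := Fintype.ofFinite ι
  have : Fintype P.Base := Fintype.ofFinite _
  have hfin : Module.Finite R N := finite_coweight_space P
  have hBs : ∀ y z : N, P.flip.RootForm y z = P.flip.RootForm z y :=
    fun y z => P.flip.rootForm_symmetric.eq y z
  have hBp : ∀ y : N, y ≠ 0 → 0 < P.flip.RootForm y y := fun y hy => corootForm_pos hy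
  have hBi : ∀ (i : ι) (y z : N),
      P.flip.RootForm (P.coreflection i y) (P.coreflection i z) = P.flip.RootForm y z :=
    fun i y z => P.flip.rootForm_reflection_reflection_apply i y z
  obtain ⟨b₀⟩ := P.nonempty_base
  have hS : (Finset.univ.image d).Nonempty := ⟨d b₀, Finset.mem_image_of_mem d (Finset.mem_univ _)⟩
  obtain ⟨y₀, hy₀, hmin⟩ := exists_min_norm P.flip.RootForm hBs hBp (Finset.univ.image d) hS
  have hsolid : convexHull R ((Finset.univ.image d : Finset N) : Set N) = solid d := by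
    rw [Finset.coe_image, Finset.coe_univ, Set.image_univ]
    rfl
  rw [hsolid] at hy₀ hmin
  obtain ⟨F, hF⟩ := exists_facet_dualCarrier (P := P) y₀
  have hsp := (isSpecial_of_isMinOn P.flip.RootForm hd hBs hBp hBi y₀ hy₀ hmin F hF).1
  refine ⟨F, hsp, fun G hG => ?_⟩
  obtain ⟨b, hb⟩ := cham_nonempty F
  obtain ⟨c, hc⟩ := cham_nonempty G
  have h1 := isSpecial_max_deg hd F b hb hsp
  have h2 := isSpecial_max_deg hd G c hc hG
  have heq : G.deg d c = F.deg d b := le_antisymm (h1.1 G c hc) (h2.1 F b hb)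
  exact le_antisymm (h1.2 G c hc heq) (h2.2 F b hb heq.symm)

/-- S14247 -/
theorem isSpecial_of_max_deg {d : P.Base → N} (hd : IsCCS d)
    (F : Facet P) (b : P.Base) (hb : b ∈ F.cham)
    (hmax : ∀ (G : Facet P) (c : P.Base), c ∈ G.cham → G.deg d c ≤ F.deg d b)
    (hmaxl : ∀ (G : Facet P) (c : P.Base), c ∈ G.cham → G.deg d c = F.deg d b → F ≤ G → G = F) :
    IsSpecial d F := by
  obtain ⟨P₀, hP₀, -⟩ := existsUnique_isSpecial hd
  obtain ⟨b₀, hb₀⟩ := cham_nonempty P₀
  have h1 := isSpecial_max_deg hd P₀ b₀ hb₀ hP₀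
  have heq : P₀.deg d b₀ = F.deg d b := le_antisymm (hmax P₀ b₀ hb₀) (h1.1 F b hb)
  have hle : F ≤ P₀ := h1.2 F b hb heq.symm
  rw [← hmaxl P₀ b₀ hb₀ heq hle]
  exact hP₀

end Special

end

end Groth.Agent.Helper7.RC
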