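import Mathlib

/-! Slice criterion: for `P` projective over `R`, an element of `N ⊗ P` all of whose slices lie in
a submodule `N₀ ≤ N` lies in the image of `N₀ ⊗ P`. -/

open TensorProduct

namespace Groth.Agent.Helper7.SCF

section ProjSlice

variable {R : Type*} [CommRing R] {N : Type*} [AddCommGroup N] [Module R N]
  {P : Type*} [AddCommGroup P] [Module R P]

/-- slice of `x ∈ N ⊗ P` by `φ ∈ P^*` -/
noncomputable def slice (φ : P →ₗ[R] R) : N ⊗[R] P →ₗ[R] N :=
  (TensorProduct.rid R N).toLinearMap ∘ₗ φ.lTensor N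

@[simp] lemma slice_tmul (φ : P →ₗ[R] R) (n : N) (p : P) :
    slice φ (n ⊗ₜ[R] p) = φ p • n := by simp [slice]

lemma slice_lTensor {P' : Type*} [AddCommGroup P'] [Module R P'] (s : P →ₗ[R] P')
    (ψ : P' →ₗ[R] R) (x : N ⊗[R] P) :
    slice ψ (s.lTensor N x) = slice (ψ ∘ₗ s) x := by
  induction x using TensorProduct.induction_on with
  | zero => simp
  | tmul n p => simp
  | add x y hx hy => simp only [map_add, hx, hy]

lemma mem_range_rTensor_of_slice_free {ι : Type*} (b : Module.Basis ι R P) (N₀ : Submodule R N)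
    (x : N ⊗[R] P) (h : ∀ φ : P →ₗ[R] R, slice φ x ∈ N₀) :
    x ∈ LinearMap.range (N₀.subtype.rTensor P) := by
  classical
  have hx : x = (TensorProduct.equivFinsuppOfBasisRight b).symm
      (TensorProduct.equivFinsuppOfBasisRight b x) := by simp
  rw [hx, TensorProduct.equivFinsuppOfBasisRight_symm_apply]
  refine Submodule.finsuppSum_mem _ _ _ _ ?_
  intro i _
  rw [TensorProduct.equivFinsuppOfBasisRight_apply]
  have := h (b.coord i)
  refine ⟨(⟨_, this⟩ : N₀) ⊗ₜ[R] b i, ?_⟩
  simp [slice]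

theorem mem_range_rTensor_of_slice [Module.Projective R P] (N₀ : Submodule R N)
    (x : N ⊗[R] P) (h : ∀ φ : P →ₗ[R] R, slice φ x ∈ N₀) :
    x ∈ LinearMap.range (N₀.subtype.rTensor P) := by
  obtain ⟨s, hs⟩ := (Module.projective_def'.1 (inferInstance : Module.Projective R P))
  set π : (P →₀ R) →ₗ[R] P := Finsupp.linearCombination R id with hπ
  have h1 : s.lTensor N x ∈ LinearMap.range (N₀.subtype.rTensor (P →₀ R)) := by
    apply mem_range_rTensor_of_slice_free (Finsupp.basisSingleOne)
    intro ψ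
    rw [slice_lTensor]
    exact h _
  obtain ⟨y, hy⟩ := h1
  refine ⟨π.lTensor N₀ y, ?_⟩
  have h2 : x = π.lTensor N (s.lTensor N x) := by
    rw [← LinearMap.comp_apply, ← LinearMap.lTensor_comp, hs, LinearMap.lTensor_id,
      LinearMap.id_apply]
  rw [h2, ← hy, ← LinearMap.comp_apply, ← LinearMap.comp_apply, LinearMap.rTensor_comp_lTensor,
    LinearMap.lTensor_comp_rTensor]

end ProjSlice

end Groth.Agent.Helper7.SCF
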