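import Mathlib
import Groth.Prelude.Def_HopfRep
import Groth.Agent.Helper7.SCFa

/-! Faithfully flat descent of the smallest subcomodule containing a submodule. -/

open TensorProduct

namespace Groth.Agent.Helper7.SCF

universe u

section Gen

variable {A : Type*} [CommRing A] {A' : Type*} [CommRing A'] [Algebra A A']

lemma mem_range_of_one_tmul_mem [Module.FaithfullyFlat A A'] {X Y : Type*} [AddCommGroup X]
    [Module A X] [AddCommGroup Y] [Module A Y] (f : X →ₗ[A] Y) (y : Y)
    (h : (1 : A') ⊗ₜ[A] y ∈ LinearMap.range (f.lTensor A')) : y ∈ LinearMap.range f := by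
  set q := (LinearMap.range f).mkQ with hq
  have hqf : q ∘ₗ f = 0 := LinearMap.range_mkQ_comp f
  obtain ⟨z, hz⟩ := h
  have h1 : q.lTensor A' ((1 : A') ⊗ₜ[A] y) = 0 := by
    rw [← hz, ← LinearMap.comp_apply, ← LinearMap.lTensor_comp, hqf, LinearMap.lTensor_zero,
      LinearMap.zero_apply]
  rw [LinearMap.lTensor_tmul] at h1
  have h2 : q y = 0 := by
    apply Module.FaithfullyFlat.tensorProduct_mk_injective (A := A) (B := A') _
    simpa using h1
  rw [hq, Submodule.mkQ_apply, Submodule.Quotient.mk_eq_zero] at h2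
  exact h2

lemma le_range_lTensor_of_descent [Module.Flat A A'] {V : Type*} [AddCommGroup V] [Module A V]
    (W' : Submodule A' (A' ⊗[A] V))
    (h : ∀ w' ∈ W', (TensorProduct.mk A A' V 1).lTensor A' w' ∈
        LinearMap.range ((W'.subtype.restrictScalars A).lTensor A')) :
    ∀ w' ∈ W', w' ∈ LinearMap.range
      ((((W'.restrictScalars A).comap (TensorProduct.mk A A' V 1)).subtype).lTensor A') := by
  intro w' hw'
  set K := (W'.restrictScalars A).comap (TensorProduct.mk A A' V 1) with hK
  set j : V →ₗ[A] (A' ⊗[A] V) ⧸ W' :=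
    (W'.mkQ.restrictScalars A) ∘ₗ TensorProduct.mk A A' V 1 with hj
  have hex : Function.Exact K.subtype j := by
    intro v
    constructor
    · intro hv
      refine ⟨⟨v, ?_⟩, rfl⟩
      exact (Submodule.Quotient.mk_eq_zero W').1 hv
    · rintro ⟨k, rfl⟩
      exact (Submodule.Quotient.mk_eq_zero W').2 k.2
  have hex' := Module.Flat.lTensor_exact A' hex
  apply (hex' w').1
  have h1 : j.lTensor A' w' = (W'.mkQ.restrictScalars A).lTensor A'
      ((TensorProduct.mk A A' V 1).lTensor A' w') := by
    rw [hj, LinearMap.lTensor_comp]; rfl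
  rw [h1]
  obtain ⟨z, hz⟩ := h w' hw'
  rw [← hz, ← LinearMap.comp_apply, ← LinearMap.lTensor_comp]
  have h2 : (W'.mkQ.restrictScalars A) ∘ₗ (W'.subtype.restrictScalars A) = 0 := by
    ext x; simp
  rw [h2, LinearMap.lTensor_zero, LinearMap.zero_apply]

end Gen

end Groth.Agent.Helper7.SCF
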