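import Mathlib
import Groth.Prelude.Def_HopfRep
import Groth.Agent.Helper7.SCFa
import Groth.Agent.Helper7.SCFb

/-! Faithfully flat descent of the smallest subcomodule containing a submodule: slices. -/

open TensorProduct

namespace Groth.Agent.Helper7.SCF

universe u

section Main

variable {A : Type u} [CommRing A] {C : Type u} [AddCommGroup C] [Module A C]
  {A' : Type u} [CommRing A'] [Algebra A A']

/-- `x ⊗ c ↦ g c ⊗ x` -/
noncomputable def sl (X : Type*) [AddCommGroup X] [Module A X] (g : C →ₗ[A] A') :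
    X ⊗[A] C →ₗ[A] A' ⊗[A] X :=
  (TensorProduct.comm A X A').toLinearMap ∘ₗ g.lTensor X

@[simp] lemma sl_tmul {X : Type*} [AddCommGroup X] [Module A X] (g : C →ₗ[A] A') (x : X) (c : C) :
    sl X g (x ⊗ₜ[A] c) = g c ⊗ₜ[A] x := by simp [sl]

lemma sl_natural {X Y : Type*} [AddCommGroup X] [Module A X] [AddCommGroup Y] [Module A Y]
    (h : X →ₗ[A] Y) (g : C →ₗ[A] A') (t : X ⊗[A] C) :
    sl Y g (h.rTensor C t) = h.lTensor A' (sl X g t) := by
  induction t using TensorProduct.induction_on with
  | zero => simp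
  | tmul x c => simp
  | add x y hx hy => simp only [map_add, hx, hy]

variable [Coalgebra A C] {V : Type u} [AddCommGroup V] [Module A V] [HopfRep.Comod A C V]

variable (A') in
/-- the `A'`-submodule of `A' ⊗ V` generated by all slices of `ρ(m)`, `m ∈ M` -/
noncomputable def genSub (M : Submodule A V) : Submodule A' (A' ⊗[A] V) :=
  Submodule.span A' {y | ∃ m ∈ M, ∃ g : C →ₗ[A] A',
    y = sl V g (HopfRep.Comod.coact (k := A) (A := C) m)}

/-- `w ⊗ c ↦ w ⊙ c` -/
noncomputable def odot (W' : Submodule A' (A' ⊗[A] V)) :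
    W' ⊗[A] C →ₗ[A] A' ⊗[A] (V ⊗[A] C) :=
  (TensorProduct.assoc A A' V C).toLinearMap ∘ₗ (W'.subtype.restrictScalars A).rTensor C

lemma odot_tmul (W' : Submodule A' (A' ⊗[A] V)) (w : W') (c : C) :
    odot W' (w ⊗ₜ[A] c) = TensorProduct.assoc A A' V C ((w : A' ⊗[A] V) ⊗ₜ[A] c) := by
  simp [odot]

theorem one_tmul_coact_mem [Module.Projective A' (A' ⊗[A] C)] (M : Submodule A V) (m : V)
    (hm : m ∈ M) :
    (1 : A') ⊗ₜ[A] (HopfRep.Comod.coact (k := A) (A := C) m) ∈
      LinearMap.range (odot (genSub A' (C := C) M)) := by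
  set W' := genSub A' (C := C) M with hW'
  set dBC := TensorProduct.AlgebraTensorModule.distribBaseChange A A' V C with hdBC
  have hsl : ∀ (φ : A' ⊗[A] C →ₗ[A'] A') (t : V ⊗[A] C), slice φ (dBC (1 ⊗ₜ[A] t)) =
      sl V ((φ.restrictScalars A) ∘ₗ TensorProduct.mk A A' C 1) t := by
    intro φ t
    induction t using TensorProduct.induction_on with
    | zero => simp
    | tmul v c => simp [hdBC, TensorProduct.smul_tmul']
    | add x y hx hy => simp only [tmul_add, map_add, hx, hy]
  have h1 : dBC (1 ⊗ₜ[A] (HopfRep.Comod.coact (k := A) (A := C) m)) ∈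
      LinearMap.range (W'.subtype.rTensor (A' ⊗[A] C)) := by
    apply mem_range_rTensor_of_slice
    intro φ
    rw [hsl]
    exact Submodule.subset_span ⟨m, hm, _, rfl⟩
  obtain ⟨y, hy⟩ := h1
  have h3 : ∀ (b : A') (c : C) (w0 : A' ⊗[A] V), dBC.symm (w0 ⊗ₜ[A'] (b ⊗ₜ[A] c)) =
      TensorProduct.assoc A A' V C ((b • w0) ⊗ₜ[A] c) := by
    intro b c w0
    induction w0 using TensorProduct.induction_on with
    | zero => simp
    | tmul a v => simp [hdBC, TensorProduct.smul_tmul', mul_comm]
    | add x y hx hy => simp only [add_tmul, smul_add, map_add, hx, hy]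
  have h2 : ∀ y : W' ⊗[A'] (A' ⊗[A] C), dBC.symm (W'.subtype.rTensor _ y) ∈
      LinearMap.range (odot W') := by
    intro y
    induction y using TensorProduct.induction_on with
    | zero => simp
    | tmul w p =>
      induction p using TensorProduct.induction_on with
      | zero => simp
      | tmul b c =>
        refine ⟨(b • w) ⊗ₜ[A] c, ?_⟩
        rw [odot_tmul, LinearMap.rTensor_tmul, Submodule.subtype_apply, h3]
        rfl
      | add p q hp hq =>
        rw [tmul_add, map_add, map_add]
        exact add_mem hp hq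
    | add y z hy hz =>
      rw [map_add, map_add]
      exact add_mem hy hz
  have := h2 y
  rw [hy, LinearEquiv.symm_apply_apply] at this
  exact this

end Main

end Groth.Agent.Helper7.SCF
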