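import Mathlib
import Groth.Prelude.Def_HopfRep
import Groth.Agent.Helper7.SCFa
import Groth.Agent.Helper7.SCFb
import Groth.Agent.Helper7.SCFc

/-! Faithfully flat descent of the smallest subcomodule containing a submodule: descent. -/

open TensorProduct

namespace Groth.Agent.Helper7.SCF

universe u

section Main

variable {A : Type u} [CommRing A] {C : Type u} [AddCommGroup C] [Module A C]
  {A' : Type u} [CommRing A'] [Algebra A A']
  [Coalgebra A C] {V : Type u} [AddCommGroup V] [Module A V] [HopfRep.Comod A C V]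

/-- `a ⊗ (v ⊗ c) ↦ f c ⊗ (a ⊗ v)` -/
noncomputable def Phi (f : C →ₗ[A] A') : A' ⊗[A] (V ⊗[A] C) →ₗ[A] A' ⊗[A] (A' ⊗[A] V) :=
  f.rTensor (A' ⊗[A] V) ∘ₗ (TensorProduct.comm A (A' ⊗[A] V) C).toLinearMap ∘ₗ
    (TensorProduct.assoc A A' V C).symm.toLinearMap

lemma Phi_one_tmul (f : C →ₗ[A] A') (t : V ⊗[A] C) :
    Phi f ((1 : A') ⊗ₜ[A] t) = (TensorProduct.mk A A' V 1).lTensor A' (sl V f t) := by
  induction t using TensorProduct.induction_on with
  | zero => simp
  | tmul v c => simp [Phi]
  | add x y hx hy => simp only [tmul_add, map_add, hx, hy]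

lemma Phi_odot (f : C →ₗ[A] A') (W' : Submodule A' (A' ⊗[A] V)) (z : W' ⊗[A] C) :
    Phi f (odot W' z) ∈ LinearMap.range ((W'.subtype.restrictScalars A).lTensor A') := by
  induction z using TensorProduct.induction_on with
  | zero => simp
  | tmul w c =>
    refine ⟨f c ⊗ₜ[A] w, ?_⟩
    simp [Phi, odot_tmul]
  | add x y hx hy =>
    rw [map_add, map_add]
    exact add_mem hx hy

theorem descent_cond [Module.Projective A' (A' ⊗[A] C)] (M : Submodule A V) :
    ∀ w' ∈ genSub A' (C := C) M, (TensorProduct.mk A A' V 1).lTensor A' w' ∈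
        LinearMap.range (((genSub A' (C := C) M).subtype.restrictScalars A).lTensor A') := by
  intro w' hw'
  set W' := genSub A' (C := C) M with hW'
  have key : (TensorProduct.mk A A' V 1).baseChange A' w' ∈
      LinearMap.range ((W'.subtype.restrictScalars A).baseChange A') := by
    refine Submodule.span_induction (p := fun w' _ => (TensorProduct.mk A A' V 1).baseChange A' w' ∈
      LinearMap.range ((W'.subtype.restrictScalars A).baseChange A')) ?_ ?_ ?_ ?_ hw'
    · rintro _ ⟨m, hm, g, rfl⟩
      obtain ⟨z, hz⟩ := one_tmul_coact_mem (A' := A') (C := C) M m hm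
      have h1 := Phi_odot g W' z
      rw [hz, Phi_one_tmul] at h1
      exact h1
    · simp
    · intro x y _ _ hx hy
      rw [map_add]
      exact add_mem hx hy
    · intro a x _ hx
      rw [map_smul]
      exact Submodule.smul_mem _ a hx
  exact key

theorem genSub_le_range [Module.Flat A A'] [Module.Projective A' (A' ⊗[A] C)]
    (M : Submodule A V) :
    ∀ w' ∈ genSub A' (C := C) M, w' ∈ LinearMap.range
      (((((genSub A' (C := C) M).restrictScalars A).comap
        (TensorProduct.mk A A' V 1)).subtype).lTensor A') :=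
  le_range_lTensor_of_descent _ (descent_cond M)

end Main

end Groth.Agent.Helper7.SCF
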