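import Mathlib
import Groth.Prelude.Def_HopfRep
import Groth.Agent.Helper7.SCFa
import Groth.Agent.Helper7.SCFb
import Groth.Agent.Helper7.SCFc
import Groth.Agent.Helper7.SCFd

/-! Faithfully flat descent of the smallest subcomodule containing a submodule: conclusion. -/

open TensorProduct

namespace Groth.Agent.Helper7.SCF

universe u

section Main

variable {A : Type u} [CommRing A] {C : Type u} [AddCommGroup C] [Module A C]
  {A' : Type u} [CommRing A'] [Algebra A A']
  [Coalgebra A C] {V : Type u} [AddCommGroup V] [Module A V] [HopfRep.Comod A C V]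

variable (A' C) in
/-- the descended submodule -/
noncomputable def desc (M : Submodule A V) : Submodule A V :=
  ((genSub A' (C := C) M).restrictScalars A).comap (TensorProduct.mk A A' V 1)

lemma mem_desc (M : Submodule A V) (v : V) :
    v ∈ desc C A' M ↔ (1 : A') ⊗ₜ[A] v ∈ genSub A' (C := C) M := Iff.rfl

theorem le_desc (M : Submodule A V) : M ≤ desc C A' M := by
  intro m hm
  rw [mem_desc]
  refine Submodule.subset_span ⟨m, hm,
    (Algebra.linearMap A A') ∘ₗ (CoalgebraStruct.counit (R := A) (A := C)), ?_⟩
  have h1 := congrArg (fun φ => φ m) (HopfRep.Comod.counit_comp (k := A) (A := C) (V := V))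
  simp only [LinearMap.comp_apply, LinearMap.flip_apply, TensorProduct.mk_apply] at h1
  rw [sl, LinearMap.comp_apply, LinearMap.lTensor_comp, LinearMap.comp_apply, h1]
  simp

/-- the `ψ_f` map -/
noncomputable def psi (X : Type u) [AddCommGroup X] [Module A X] (f : C →ₗ[A] A') :
    X ⊗[A] C →ₗ[A] A' ⊗[A] (X ⊗[A] C) :=
  sl (X ⊗[A] C) f ∘ₗ (TensorProduct.assoc A X C C).symm.toLinearMap ∘ₗ
    (CoalgebraStruct.comul (R := A) (A := C)).lTensor X

lemma psi_natural {X Y : Type u} [AddCommGroup X] [Module A X] [AddCommGroup Y] [Module A Y]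
    (h : X →ₗ[A] Y) (f : C →ₗ[A] A') (t : X ⊗[A] C) :
    psi Y f (h.rTensor C t) = (h.rTensor C).lTensor A' (psi X f t) := by
  induction t using TensorProduct.induction_on with
  | zero => simp
  | tmul x c =>
    simp only [psi, LinearMap.comp_apply, LinearMap.rTensor_tmul, LinearMap.lTensor_tmul,
      LinearEquiv.coe_coe]
    generalize CoalgebraStruct.comul (R := A) c = d
    induction d using TensorProduct.induction_on with
    | zero => simp
    | tmul c1 c2 => simp
    | add d e hd he => simp only [tmul_add, map_add, hd, he]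
  | add x y hx hy => simp only [map_add, hx, hy]

lemma coact_sl (f : C →ₗ[A] A') (m : V) :
    (HopfRep.Comod.coact (k := A) (A := C) (V := V)).lTensor A'
      (sl V f (HopfRep.Comod.coact (k := A) (A := C) m)) =
    psi V f (HopfRep.Comod.coact (k := A) (A := C) m) := by
  rw [← sl_natural]
  have h1 := congrArg (fun φ => φ m) (HopfRep.Comod.coassoc (k := A) (A := C) (V := V))
  simp only [LinearMap.comp_apply, LinearEquiv.coe_coe] at h1
  rw [psi, LinearMap.comp_apply, LinearMap.comp_apply, ← h1]
  simp

end Main

end Groth.Agent.Helper7.SCF
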