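import Mathlib
import Groth.Prelude.Def_HopfRep
import Groth.Agent.Helper7.SCFa
import Groth.Agent.Helper7.SCFb
import Groth.Agent.Helper7.SCFc
import Groth.Agent.Helper7.SCFd
import Groth.Agent.Helper7.SCFe

/-! Faithfully flat descent of the smallest subcomodule containing a submodule: subcomodule
property and minimality. -/

open TensorProduct

namespace Groth.Agent.Helper7.SCF

universe u

section Main

variable {A : Type u} [CommRing A] {C : Type u} [AddCommGroup C] [Module A C]
  {A' : Type u} [CommRing A'] [Algebra A A']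
  [Coalgebra A C] {V : Type u} [AddCommGroup V] [Module A V] [HopfRep.Comod A C V]

lemma smul_lTensor {X Y : Type*} [AddCommGroup X] [Module A X] [AddCommGroup Y] [Module A Y]
    (h : X →ₗ[A] Y) (a : A') (x : A' ⊗[A] X) :
    a • (h.lTensor A' x) = h.lTensor A' (a • x) :=
  (map_smul (h.baseChange A') a x).symm

lemma assoc_lTensor_tmul (K : Submodule A V) (c : C) (u : A' ⊗[A] K) :
    TensorProduct.assoc A A' V C ((K.subtype.lTensor A' u) ⊗ₜ[A] c) =
      (K.subtype.rTensor C).lTensor A' (TensorProduct.assoc A A' K C (u ⊗ₜ[A] c)) := by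
  induction u using TensorProduct.induction_on with
  | zero => simp
  | tmul a k => simp
  | add x y hx hy => simp only [map_add, add_tmul, hx, hy]

lemma odot_mem (W' : Submodule A' (A' ⊗[A] V)) (K : Submodule A V)
    (hWK : ∀ w' ∈ W', w' ∈ LinearMap.range (K.subtype.lTensor A')) (z : W' ⊗[A] C) :
    odot W' z ∈ LinearMap.range ((K.subtype.rTensor C).lTensor A') := by
  induction z using TensorProduct.induction_on with
  | zero => simp
  | tmul w c =>
    obtain ⟨u, hu⟩ := hWK w w.2
    rw [odot_tmul, ← hu, assoc_lTensor_tmul]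
    exact ⟨_, rfl⟩
  | add x y hx hy =>
    rw [map_add]
    exact add_mem hx hy

lemma Psi_mem (K : Submodule A V) (f : C →ₗ[A] A') (y : A' ⊗[A] (V ⊗[A] C))
    (hy : y ∈ LinearMap.range ((K.subtype.rTensor C).lTensor A')) :
    (psi V f).liftBaseChange A' y ∈ LinearMap.range ((K.subtype.rTensor C).lTensor A') := by
  obtain ⟨u, rfl⟩ := hy
  induction u using TensorProduct.induction_on with
  | zero => simp
  | tmul a t =>
    rw [LinearMap.lTensor_tmul, LinearMap.liftBaseChange_tmul, psi_natural, smul_lTensor]
    exact ⟨_, rfl⟩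
  | add x y hx hy =>
    rw [map_add, map_add]
    exact add_mem hx hy

theorem desc_isSubcomod [Module.FaithfullyFlat A A'] [Module.Projective A' (A' ⊗[A] C)]
    (M : Submodule A V) : HopfRep.IsSubcomod (k := A) (A := C) (desc C A' M) := by
  intro v hv
  set K := desc C A' M with hK
  set W' := genSub A' (C := C) M with hW'
  have hWK : ∀ w' ∈ W', w' ∈ LinearMap.range (K.subtype.lTensor A') := genSub_le_range M
  apply mem_range_of_one_tmul_mem (A' := A')
  have key : ∀ w' ∈ W', (HopfRep.Comod.coact (k := A) (A := C) (V := V)).baseChange A' w' ∈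
      LinearMap.range ((K.subtype.rTensor C).baseChange A') := by
    intro w' hw'
    refine Submodule.span_induction (p := fun w' _ =>
      (HopfRep.Comod.coact (k := A) (A := C) (V := V)).baseChange A' w' ∈
      LinearMap.range ((K.subtype.rTensor C).baseChange A')) ?_ ?_ ?_ ?_ hw'
    · rintro _ ⟨m, hm, g, rfl⟩
      obtain ⟨z, hz⟩ := one_tmul_coact_mem (A' := A') (C := C) M m hm
      have h1 := Psi_mem K g _ (odot_mem W' K hWK z)
      rw [hz, LinearMap.liftBaseChange_tmul, one_smul, ← coact_sl] at h1
      exact h1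
    · simp
    · intro x y _ _ hx hy
      rw [map_add]
      exact add_mem hx hy
    · intro a x _ hx
      rw [map_smul]
      exact Submodule.smul_mem _ a hx
  have := key _ ((mem_desc M v).1 hv)
  rw [LinearMap.baseChange_tmul] at this
  exact this

theorem desc_le [Module.FaithfullyFlat A A'] (M : Submodule A V) (W₁ : Submodule A V)
    (hW₁ : HopfRep.IsSubcomod (k := A) (A := C) W₁) (hM : M ≤ W₁) : desc C A' M ≤ W₁ := by
  set W' := genSub A' (C := C) M with hW'
  have key : ∀ w' ∈ W', w' ∈ LinearMap.range (W₁.subtype.baseChange A') := by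
    intro w' hw'
    refine Submodule.span_induction (p := fun w' _ =>
      w' ∈ LinearMap.range (W₁.subtype.baseChange A')) ?_ ?_ ?_ ?_ hw'
    · rintro _ ⟨m, hm, g, rfl⟩
      obtain ⟨z, hz⟩ := hW₁ m (hM hm)
      rw [← hz, sl_natural]
      exact ⟨_, rfl⟩
    · simp
    · intro x y _ _ hx hy
      exact add_mem hx hy
    · intro a x _ hx
      exact Submodule.smul_mem _ a hx
  intro v hv
  have h1 := key _ ((mem_desc M v).1 hv)
  have h2 := mem_range_of_one_tmul_mem (A' := A') W₁.subtype v h1
  rwa [Submodule.range_subtype] at h2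

end Main

end Groth.Agent.Helper7.SCF
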