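import Mathlib
import Groth.Prelude.Def_HopfRep
import Groth.Agent.Helper7.SCFa
import Groth.Agent.Helper7.SCFb
import Groth.Agent.Helper7.SCFc
import Groth.Agent.Helper7.SCFd
import Groth.Agent.Helper7.SCFe
import Groth.Agent.Helper7.SCFf

/-! Faithfully flat descent of the smallest subcomodule containing a submodule: finite
generation. -/

open TensorProduct

namespace Groth.Agent.Helper7.SCF

universe u

section Main

variable {A : Type u} [CommRing A] {C : Type u} [AddCommGroup C] [Module A C]
  {A' : Type u} [CommRing A'] [Algebra A A']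
  [Coalgebra A C] {V : Type u} [AddCommGroup V] [Module A V] [HopfRep.Comod A C V]

lemma Sl_assoc (g : C →ₗ[A] A') (c : C) (w0 : A' ⊗[A] V) :
    (sl V g).liftBaseChange A' (TensorProduct.assoc A A' V C (w0 ⊗ₜ[A] c)) = g c • w0 := by
  induction w0 using TensorProduct.induction_on with
  | zero => simp
  | tmul a v => simp [TensorProduct.smul_tmul', mul_comm]
  | add x y hx hy => simp only [add_tmul, map_add, smul_add, hx, hy]

/-- the slices of `ρ(s)` all lie in a finitely generated submodule of `genSub`. -/
lemma exists_finset_slices [Module.Projective A' (A' ⊗[A] C)] (M : Submodule A V) (s : V)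
    (hs : s ∈ M) :
    ∃ T : Finset (A' ⊗[A] V), (↑T : Set (A' ⊗[A] V)) ⊆ genSub A' (C := C) M ∧
      ∀ g : C →ₗ[A] A', sl V g (HopfRep.Comod.coact (k := A) (A := C) s) ∈
        Submodule.span A' (↑T : Set (A' ⊗[A] V)) := by
  classical
  obtain ⟨z, hz⟩ := one_tmul_coact_mem (A' := A') (C := C) M s hs
  obtain ⟨F, hF⟩ := TensorProduct.exists_finset z
  refine ⟨F.image (fun p => (p.1 : A' ⊗[A] V)), ?_, ?_⟩
  · intro t ht
    simp only [Finset.coe_image, Set.mem_image] at ht
    obtain ⟨p, _, rfl⟩ := ht
    exact p.1.2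
  · intro g
    have h1 : sl V g (HopfRep.Comod.coact (k := A) (A := C) s) =
        (sl V g).liftBaseChange A' ((1 : A') ⊗ₜ[A] (HopfRep.Comod.coact (k := A) (A := C) s)) := by
      rw [LinearMap.liftBaseChange_tmul, one_smul]
    rw [h1, ← hz, hF, map_sum, map_sum]
    refine Submodule.sum_mem _ ?_
    intro p hp
    rw [odot_tmul, Sl_assoc]
    refine Submodule.smul_mem _ _ (Submodule.subset_span ?_)
    simp only [Finset.coe_image, Set.mem_image]
    exact ⟨p, hp, rfl⟩

theorem genSub_fg [Module.Projective A' (A' ⊗[A] C)] (M : Submodule A V) (hM : M.FG) :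
    (genSub A' (C := C) M).FG := by
  classical
  obtain ⟨S, hS⟩ := hM
  have hSM : ∀ s ∈ S, s ∈ M := fun s hs => hS ▸ Submodule.subset_span hs
  choose! T hT1 hT2 using fun s (hs : s ∈ S) => exists_finset_slices (A' := A') (C := C) M s
    (hSM s hs)
  refine ⟨S.biUnion T, le_antisymm ?_ ?_⟩
  · rw [Submodule.span_le]
    intro t ht
    simp only [Finset.coe_biUnion, Set.mem_iUnion] at ht
    obtain ⟨s, hs, hts⟩ := ht
    exact hT1 s hs hts
  · rw [genSub, Submodule.span_le]
    rintro _ ⟨m, hm, g, rfl⟩
    rw [← hS] at hm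
    refine Submodule.span_induction (p := fun m _ =>
      sl V g (HopfRep.Comod.coact (k := A) (A := C) m) ∈
        Submodule.span A' (↑(S.biUnion T) : Set (A' ⊗[A] V))) ?_ ?_ ?_ ?_ hm
    · intro s hs
      refine Submodule.span_mono ?_ (hT2 s hs g)
      intro t ht
      simp only [Finset.coe_biUnion, Set.mem_iUnion]
      exact ⟨s, hs, ht⟩
    · simp
    · intro x y _ _ hx hy
      rw [map_add, map_add]
      exact add_mem hx hy
    · intro a x _ hx
      rw [map_smul, map_smul]
      exact Submodule.smul_of_tower_mem _ a hx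

end Main

end Groth.Agent.Helper7.SCF
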