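import Mathlib
import Groth.Prelude.Def_HopfRep
import Groth.Agent.Helper7.SCFa
import Groth.Agent.Helper7.SCFb
import Groth.Agent.Helper7.SCFc
import Groth.Agent.Helper7.SCFd
import Groth.Agent.Helper7.SCFe
import Groth.Agent.Helper7.SCFf
import Groth.Agent.Helper7.SCFg

/-! Faithfully flat descent of the smallest subcomodule containing a submodule: finite
generation of the descended submodule, and the final statement. -/

open TensorProduct

namespace Groth.Agent.Helper7.SCF

universe u

section Main

variable {A : Type u} [CommRing A] {C : Type u} [AddCommGroup C] [Module A C]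
  {A' : Type u} [CommRing A'] [Algebra A A']
  [Coalgebra A C] {V : Type u} [AddCommGroup V] [Module A V] [HopfRep.Comod A C V]

theorem desc_fg [Module.FaithfullyFlat A A'] [Module.Projective A' (A' ⊗[A] C)]
    (M : Submodule A V) (hM : M.FG) : (desc C A' M).FG := by
  classical
  set K := desc C A' M with hK
  obtain ⟨T, hT⟩ := genSub_fg (A' := A') (C := C) M hM
  have hTW : ∀ t ∈ T, t ∈ genSub A' (C := C) M := fun t ht => hT ▸ Submodule.subset_span ht
  have hWK := genSub_le_range (A' := A') (C := C) M
  choose! u hu using fun t (ht : t ∈ T) => hWK t (hTW t ht)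
  choose G hG using fun t => TensorProduct.exists_finset (u t)
  set K₀ : Submodule A V := Submodule.span A
    (↑(T.biUnion (fun t => (G t).image (fun p => (p.2 : V)))) : Set V) with hK₀
  have hK₀K : K₀ ≤ K := by
    rw [hK₀, Submodule.span_le]
    intro k hk
    simp only [Finset.coe_biUnion, Finset.coe_image, Set.mem_iUnion, Set.mem_image] at hk
    obtain ⟨t, ht, p, hp, rfl⟩ := hk
    exact p.2.2
  have hWK₀ : ∀ w' ∈ genSub A' (C := C) M, w' ∈ LinearMap.range (K₀.subtype.baseChange A') := by
    intro w' hw'
    rw [← hT] at hw'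
    refine Submodule.span_le.2 ?_ hw'
    intro t ht
    rw [SetLike.mem_coe, ← hu t ht, hG t, map_sum]
    refine Submodule.sum_mem _ ?_
    intro p hp
    have hp2 : (p.2 : V) ∈ K₀ := by
      refine Submodule.subset_span ?_
      simp only [Finset.coe_biUnion, Finset.coe_image, Set.mem_iUnion, Set.mem_image]
      exact ⟨t, ht, p, hp, rfl⟩
    refine ⟨p.1 ⊗ₜ[A] ⟨(p.2 : V), hp2⟩, ?_⟩
    simp
  have hKK₀ : K ≤ K₀ := by
    intro v hv
    have h1 := hWK₀ _ ((mem_desc M v).1 hv)
    have h2 := mem_range_of_one_tmul_mem (A' := A') K₀.subtype v h1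
    rwa [Submodule.range_subtype] at h2
  have : K = K₀ := le_antisymm hKK₀ hK₀K
  rw [this]
  exact Submodule.fg_span (Finset.finite_toSet _)

theorem exists_smallest_subcomod (A : Type u) [CommRing A] (C : Type u) [AddCommGroup C]
    [Module A C] [Coalgebra A C] (V : Type u) [AddCommGroup V] [Module A V]
    [HopfRep.Comod A C V] (M : Submodule A V)
    (A' : Type u) [CommRing A'] [Algebra A A'] [Module.FaithfullyFlat A A']
    [Module.Projective A' (TensorProduct A A' C)] :
    ∃ W : Submodule A V, HopfRep.IsSubcomod (k := A) (A := C) W ∧ M ≤ W ∧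
      (∀ W' : Submodule A V, HopfRep.IsSubcomod (k := A) (A := C) W' → M ≤ W' → W ≤ W') ∧
      (M.FG → W.FG) :=
  ⟨desc C A' M, desc_isSubcomod M, le_desc M, fun W' h1 h2 => desc_le M W' h1 h2,
    fun h => desc_fg M h⟩

end Main

end Groth.Agent.Helper7.SCF
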