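import Mathlib.AlgebraicTopology.SimplicialSet.Homotopy
import Mathlib.AlgebraicTopology.AlternatingFaceMapComplex
import Mathlib.Algebra.Homology.QuasiIso
import Mathlib.Algebra.Category.Grp.Abelian

set_option autoImplicit false

namespace Groth.Agent.Helper7.SHtp

/-- The alternating sum of the homotopy operators, as a set map. -/
noncomputable def S {A : ℕ → Type*} {B : ℕ → Type*} [∀ n, AddCommGroup (B n)]
    (h : ∀ n, Fin (n + 1) → A n → B (n + 1)) (m : ℕ) (b : A m) : B (m + 1) :=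
  -∑ i : Fin (m + 1), ((-1 : ℤ) ^ (i : ℕ)) • h m i b

/-- The combinatorial identity behind "simplicial homotopies give chain homotopies",
for set-theoretic (non-additive) homotopy operators with values in abelian groups. -/
theorem comb_identity {A : ℕ → Type*} {B : ℕ → Type*} [∀ n, AddCommGroup (B n)]
    (dA : ∀ n, Fin (n + 2) → A (n + 1) → A n) (dB : ∀ n, Fin (n + 2) → B (n + 1) →+ B n)
    (h : ∀ n, Fin (n + 1) → A n → B (n + 1))
    (h1 : ∀ (n : ℕ) (i : Fin (n + 2)) (j : Fin (n + 1)), i ≤ j.castSucc → ∀ a : A (n + 1),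
      dB (n + 1) i.castSucc (h (n + 1) j.succ a) = h n j (dA n i a))
    (h2 : ∀ (n : ℕ) (j : Fin (n + 1)) (a : A (n + 1)),
      dB (n + 1) j.castSucc.succ (h (n + 1) j.succ a) =
        dB (n + 1) j.castSucc.succ (h (n + 1) j.castSucc a))
    (h3 : ∀ (n : ℕ) (i : Fin (n + 2)) (j : Fin (n + 1)), j.castSucc < i → ∀ a : A (n + 1),
      dB (n + 1) i.succ (h (n + 1) j.castSucc a) = h n j (dA n i a))
    (n : ℕ) (a : A (n + 1)) :
    dB (n + 1) (Fin.last _) (h (n + 1) (Fin.last _) a) =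
      (∑ j : Fin (n + 2), ((-1 : ℤ) ^ (j : ℕ)) • S h n (dA n j a)) +
      (∑ k : Fin (n + 3), ((-1 : ℤ) ^ (k : ℕ)) • dB (n + 1) k (S h (n + 1) a)) +
      dB (n + 1) 0 (h (n + 1) 0 a) := by
  simp only [S, map_neg, map_sum, map_zsmul, smul_neg, Finset.sum_neg_distrib,
    Finset.smul_sum, smul_smul, ← pow_add]
  let α (x : Fin (n + 1) × Fin (n + 2)) : B (n + 1) :=
    (-1 : ℤ) ^ ((x.2 + x.1 : ℕ)) • h n x.1 (dA n x.2 a)
  let β (x : Fin (n + 3) × Fin (n + 2)) : B (n + 1) :=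
    (-1 : ℤ) ^ ((x.1 + x.2 : ℕ)) • dB (n + 1) x.1 (h (n + 1) x.2 a)
  have e1 : ∑ x : Fin (n + 2), ∑ y : Fin (n + 1), (-1 : ℤ) ^ ((x : ℕ) + (y : ℕ)) • h n y (dA n x a) =
      ∑ x : Fin (n + 1) × Fin (n + 2), α x := by
    rw [Finset.sum_comm, ← Finset.univ_product_univ, Finset.sum_product]
  have e2 : ∑ x : Fin (n + 3), ∑ y : Fin (n + 2),
      (-1 : ℤ) ^ ((x : ℕ) + (y : ℕ)) • dB (n + 1) x (h (n + 1) y a) =
      ∑ x : Fin (n + 3) × Fin (n + 2), β x := by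
    rw [← Finset.univ_product_univ, Finset.sum_product]
  rw [e1, e2]
  let S' : Finset (Fin (n + 1) × Fin (n + 2)) := { x | x.1.castSucc < x.2 }
  let γ₁ (x : Fin (n + 1) × Fin (n + 2)) : Fin (n + 3) × Fin (n + 2) := (x.2.castSucc, x.1.succ)
  let γ₂ (x : Fin (n + 1) × Fin (n + 2)) : Fin (n + 3) × Fin (n + 2) := (x.2.succ, x.1.castSucc)
  let γ₃ (i : Fin (n + 1)) : Fin (n + 3) × Fin (n + 2) := (i.castSucc.succ, i.succ)
  let γ₄ (i : Fin (n + 1)) : Fin (n + 3) × Fin (n + 2) := (i.castSucc.succ, i.castSucc)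
  have hγ₁ : Function.Injective γ₁ := fun _ _ ↦ by aesop
  have hγ₂ : Function.Injective γ₂ := fun _ _ ↦ by aesop
  have hγ₃ : Function.Injective γ₃ := fun _ _ ↦ by aesop
  have hγ₄ : Function.Injective γ₄ := fun _ _ ↦ by aesop
  have eq₁ : dB (n + 1) 0 (h (n + 1) 0 a) = β ⟨0, 0⟩ := by simp [β]
  have eq₂ : dB (n + 1) (Fin.last _) (h (n + 1) (Fin.last _) a) =
      - β ⟨Fin.last _, Fin.last _⟩ := by
    dsimp [β]
    simp only [pow_add, even_two, Even.neg_pow, one_pow, mul_one,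
      pow_one, mul_neg, neg_smul, neg_neg]
    rw [← pow_add, (Even.add_self n).neg_one_pow, one_smul]
  have eq₃ : ∑ x ∈ S'ᶜ, α x = - ∑ y ∈ Finset.image γ₁ S'ᶜ, β y := by
    rw [← Finset.sum_neg_distrib, Finset.sum_image hγ₁.injOn]
    refine Finset.sum_congr rfl (fun x hx ↦ ?_)
    dsimp [α, β, γ₁]
    rw [h1 n x.2 x.1 (by simpa [S'] using hx)]
    simp only [pow_add, pow_one, mul_neg, mul_one, neg_smul, neg_neg]
  have eq₄ : ∑ x ∈ S', α x = - ∑ y ∈ Finset.image γ₂ S', β y := by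
    rw [← Finset.sum_neg_distrib, Finset.sum_image hγ₂.injOn]
    refine Finset.sum_congr rfl (fun x hx ↦ ?_)
    dsimp [α, β, γ₂]
    rw [h3 n x.2 x.1 (by simpa [S'] using hx)]
    simp only [pow_add, pow_one, mul_neg, mul_one, neg_mul, neg_smul, neg_neg]
  have eq₅ : ∑ x, β (γ₄ x) = - ∑ x, β (γ₃ x) := by
    rw [← Finset.sum_neg_distrib]
    refine Finset.sum_congr rfl (fun x hx ↦ ?_)
    dsimp [β, γ₃, γ₄]
    rw [h2 n x a]
    simp only [pow_add, pow_one, mul_neg, mul_one, neg_mul, neg_smul, neg_neg]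
  have h₁ : Disjoint (Finset.image γ₁ S'ᶜ) (Finset.image γ₂ S') := by
    rw [Finset.disjoint_iff_ne]
    grind [Finset.mem_compl]
  have h₂ : Disjoint (Finset.image γ₃ .univ) (Finset.image γ₄ .univ) := by
    rw [Finset.disjoint_iff_ne]
    grind
  have h₃ : Disjoint (Finset.disjUnion _ _ h₂) {(0, 0), (Fin.last _, Fin.last _)} := by
    rw [Finset.disjoint_iff_ne]
    simp only [Finset.mem_insert, forall_eq_or_imp, Prod.forall]
    rintro ⟨a, _⟩ ⟨b, _⟩
    simp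
    grind
  have h₄ : Disjoint (Finset.disjUnion _ _ h₁) (Finset.disjUnion _ _ h₃) := by
    rw [Finset.disjoint_iff_ne]
    simp only [Finset.compl_filter, not_lt, Finset.disjUnion_eq_union, Finset.mem_union,
      Finset.mem_image, Finset.mem_filter, Finset.mem_univ, true_and, Prod.exists, ne_eq,
      Finset.mem_insert, Finset.mem_singleton, Prod.forall, Prod.mk.injEq, not_and,
      S', γ₁, γ₂, γ₃, γ₄]
    rintro ⟨a, _⟩ ⟨b, _⟩ (⟨⟨j, _⟩, ⟨k, _⟩, h₁, h₂, h₃⟩ | ⟨⟨j, _⟩, ⟨k, _⟩, h₁, h₂, h₃⟩) _ _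
      ((⟨⟨i, _⟩, h₄, h₅⟩ | ⟨⟨i, _⟩, h₄, h₅⟩) | (⟨rfl, rfl⟩ | ⟨rfl, rfl⟩)) <;>
        simp [Fin.ext_iff] at h₁ h₂ h₃ ⊢ <;> grind
  have H : (Finset.disjUnion _ _ h₁)ᶜ = Finset.disjUnion _ _ h₃ :=
    Finset.compl_eq_of_disjoint_of_card_add_eq h₄ (by
      rw [Finset.card_disjUnion, Finset.card_disjUnion, Finset.card_disjUnion,
        Finset.card_image_of_injective _ hγ₁, Finset.card_image_of_injective _ hγ₂,
        Finset.card_image_of_injective _ hγ₃, Finset.card_image_of_injective _ hγ₄]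
      simp
      lia)
  rw [eq₁, eq₂, ← S'.sum_add_sum_compl, eq₃, eq₄,
    neg_add_rev, neg_neg, neg_neg, ← Finset.sum_disjUnion h₁,
    ← (Finset.disjUnion _ _ h₁).sum_add_sum_compl, neg_add,
    ← add_assoc, add_neg_cancel, zero_add, H,
    Finset.sum_disjUnion, Finset.sum_disjUnion,
    Finset.sum_image hγ₃.injOn, Finset.sum_image hγ₄.injOn,
    Finset.sum_insert (by simp), Finset.sum_singleton,
    neg_add_rev, neg_add_rev, neg_add_rev, eq₅]
  simp

end Groth.Agent.Helper7.SHtp
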