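import Groth.Agent.Helper7.SHtpA
import Mathlib.AlgebraicTopology.DoldKan.HomotopyEquivalence
import Mathlib.AlgebraicTopology.DoldKan.Degeneracies

set_option autoImplicit false
open CategoryTheory Simplicial Opposite AlgebraicTopology
universe u

namespace Groth.Agent.Helper7.SHtp

variable {A : SSet.{u}} {X : SimplicialObject AddCommGrpCat.{u}}
  {φ ψ : A ⟶ (X ⋙ forget AddCommGrpCat.{u} : SSet.{u})}

/-- The homotopy operators, with values in the abelian groups `X _⦋n+1⦌`. -/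
def hop (H : SimplicialObject.Homotopy φ ψ) (n : ℕ) (i : Fin (n + 1)) (a : A _⦋n⦌) : X _⦋n + 1⦌ :=
  (H.h i) a

theorem hop1 (H : SimplicialObject.Homotopy φ ψ) (n : ℕ) (i : Fin (n + 2)) (j : Fin (n + 1))
    (hij : i ≤ j.castSucc) (a : A _⦋n + 1⦌) :
    (X.δ i.castSucc) (hop H (n + 1) j.succ a) = hop H n j (A.δ i a) := by
  have := congrArg (fun F => F a) (H.h_succ_comp_δ_castSucc_of_lt i j hij)
  exact this

theorem hop2 (H : SimplicialObject.Homotopy φ ψ) (n : ℕ) (j : Fin (n + 1)) (a : A _⦋n + 1⦌) :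
    (X.δ j.castSucc.succ) (hop H (n + 1) j.succ a) =
      (X.δ j.castSucc.succ) (hop H (n + 1) j.castSucc a) := by
  have := congrArg (fun F => F a) (H.h_succ_comp_δ_castSucc_succ j)
  exact this

theorem hop3 (H : SimplicialObject.Homotopy φ ψ) (n : ℕ) (i : Fin (n + 2)) (j : Fin (n + 1))
    (hji : j.castSucc < i) (a : A _⦋n + 1⦌) :
    (X.δ i.succ) (hop H (n + 1) j.castSucc a) = hop H n j (A.δ i a) := by
  have := congrArg (fun F => F a) (H.h_castSucc_comp_δ_succ_of_lt i j hji)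
  exact this

theorem hop_zero (H : SimplicialObject.Homotopy φ ψ) (n : ℕ) (a : A _⦋n⦌) :
    (X.δ 0) (hop H n 0 a) = (ψ.app (op ⦋n⦌) a : X _⦋n⦌) := by
  have := congrArg (fun F => F a) (H.h_zero_comp_δ_zero n)
  exact this

theorem hop_last (H : SimplicialObject.Homotopy φ ψ) (n : ℕ) (a : A _⦋n⦌) :
    (X.δ (Fin.last (n + 1))) (hop H n (Fin.last n) a) = (φ.app (op ⦋n⦌) a : X _⦋n⦌) := by
  have := congrArg (fun F => F a) (H.h_last_comp_δ_last n)
  exact this

/-- `h_{j+1} (s_i a) = s_i (h_j a)` for `i ≤ j`. -/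
theorem hop_σ1 (H : SimplicialObject.Homotopy φ ψ) (n : ℕ) (i j : Fin (n + 1)) (hij : i ≤ j)
    (a : A _⦋n⦌) :
    hop H (n + 1) j.succ (A.σ i a) = (X.σ i.castSucc) (hop H n j a) := by
  have := congrArg (fun F => F a) (H.h_comp_σ_castSucc_of_le i j hij)
  exact this.symm

/-- `h_j (s_i a) = s_{i+1} (h_j a)` for `j ≤ i`. -/
theorem hop_σ2 (H : SimplicialObject.Homotopy φ ψ) (n : ℕ) (i j : Fin (n + 1)) (hji : j ≤ i)
    (a : A _⦋n⦌) :
    hop H (n + 1) j.castSucc (A.σ i a) = (X.σ i.succ) (hop H n j a) := by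
  have := congrArg (fun F => F a) (H.h_comp_σ_succ_of_lt i j hji)
  exact this.symm

/-- The alternating sum of the homotopy operators. -/
noncomputable def Sh (H : SimplicialObject.Homotopy φ ψ) (m : ℕ) (b : A _⦋m⦌) : X _⦋m + 1⦌ :=
  -∑ i : Fin (m + 1), ((-1 : ℤ) ^ (i : ℕ)) • hop H m i b

/-- The differential of the alternating face map complex, as an additive map on elements. -/
noncomputable def dK (X : SimplicialObject AddCommGrpCat.{u}) (n : ℕ) : X _⦋n + 1⦌ →+ X _⦋n⦌ :=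
  (((alternatingFaceMapComplex AddCommGrpCat.{u}).obj X).d (n + 1) n).hom

theorem hom_sum' {M N : AddCommGrpCat.{u}} {ι : Type*} (s : Finset ι) (f : ι → (M ⟶ N)) :
    (∑ i ∈ s, f i).hom = ∑ i ∈ s, (f i).hom :=
  map_sum (AddCommGrpCat.homAddEquiv (M := M) (N := N)) f s

theorem dK_apply (n : ℕ) (x : X _⦋n + 1⦌) :
    dK X n x = ∑ k : Fin (n + 2), ((-1 : ℤ) ^ (k : ℕ)) • (X.δ k) x := by
  simp [dK, AlternatingFaceMapComplex.objD, hom_sum']

/-- Evaluation of a map of simplicial sets into (the underlying simplicial set of) a simplicial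
abelian group, with values typed in the abelian group. -/
def ev (φ : A ⟶ (X ⋙ forget AddCommGrpCat.{u} : SSet.{u})) (n : ℕ) (a : A _⦋n⦌) : X _⦋n⦌ :=
  φ.app (op ⦋n⦌) a

theorem lemmaA_succ (H : SimplicialObject.Homotopy φ ψ) (n : ℕ) (a : A _⦋n + 1⦌) :
    ev φ (n + 1) a =
      (∑ j : Fin (n + 2), ((-1 : ℤ) ^ (j : ℕ)) • Sh H n (A.δ j a)) +
      dK X (n + 1) (Sh H (n + 1) a) + ev ψ (n + 1) a := by
  rw [dK_apply]
  have e0 : ev ψ (n + 1) a = (X.δ 0) (hop H (n + 1) 0 a) := (hop_zero H (n + 1) a).symm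
  have e1 : ev φ (n + 1) a = (X.δ (Fin.last (n + 2))) (hop H (n + 1) (Fin.last (n + 1)) a) :=
    (hop_last H (n + 1) a).symm
  rw [e0, e1]
  exact comb_identity (A := fun n => A _⦋n⦌) (B := fun n => X _⦋n⦌)
    (fun n i a => A.δ i a) (fun n i => (X.δ i).hom) (fun n i a => hop H n i a)
    (fun n i j hij a => hop1 H n i j hij a) (fun n j a => hop2 H n j a)
    (fun n i j hji a => hop3 H n i j hji a) n a

theorem lemmaA_zero (H : SimplicialObject.Homotopy φ ψ) (a : A _⦋0⦌) :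
    ev φ 0 a = dK X 0 (Sh H 0 a) + ev ψ 0 a := by
  rw [dK_apply]
  have e0 : ev ψ 0 a = (X.δ 0) (hop H 0 0 a) := (hop_zero H 0 a).symm
  have e1 : ev φ 0 a = (X.δ (Fin.last 1)) (hop H 0 (Fin.last 0) a) := (hop_last H 0 a).symm
  rw [e0, e1]
  simp [Sh, Fin.sum_univ_succ]

open AlgebraicTopology.DoldKan

/-- The Dold–Kan projector `P^∞`, as an additive map on elements. -/
noncomputable def PK (X : SimplicialObject AddCommGrpCat.{u}) (n : ℕ) : X _⦋n⦌ →+ X _⦋n⦌ :=
  ((PInfty : (alternatingFaceMapComplex AddCommGrpCat.{u}).obj X ⟶ _).f n).hom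

theorem PK_dK (n : ℕ) (x : X _⦋n + 1⦌) : PK X n (dK X n x) = dK X n (PK X (n + 1) x) := by
  have := congrArg (fun F => F.hom x)
    ((PInfty : (alternatingFaceMapComplex AddCommGrpCat.{u}).obj X ⟶ _).comm (n + 1) n)
  exact this.symm

theorem δ_succ_PK (n : ℕ) (j : Fin (n + 1)) (x : X _⦋n + 1⦌) :
    (X.δ j.succ) (PK X (n + 1) x) = 0 := by
  have h := (HigherFacesVanish.of_P (X := X) (n + 1) n) j le_add_self
  rw [← PInfty_f] at h
  have := congrArg (fun F => F.hom x) h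
  exact this

theorem PK_idem (n : ℕ) (x : X _⦋n⦌) : PK X n (PK X n x) = PK X n x := by
  have := congrArg (fun F => F.hom x) (PInfty_f_idem (X := X) n)
  exact this

theorem PK_σ (n : ℕ) (i : Fin (n + 1)) (x : X _⦋n⦌) : PK X (n + 1) ((X.σ i) x) = 0 := by
  have := congrArg (fun F => F.hom x) (σ_comp_PInfty X i)
  exact this

theorem PK_zero_eq (x : X _⦋0⦌) : PK X 0 x = x := rfl

theorem PK_natural {Y : SimplicialObject AddCommGrpCat.{u}} (f : X ⟶ Y) (n : ℕ) (x : X _⦋n⦌) :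
    PK Y n ((f.app (op ⦋n⦌)) x) = (f.app (op ⦋n⦌)) (PK X n x) := by
  have := congrArg (fun F => F.hom x) (PInfty_f_naturality n f)
  exact this

theorem dK_natural {Y : SimplicialObject AddCommGrpCat.{u}} (f : X ⟶ Y) (n : ℕ) (x : X _⦋n + 1⦌) :
    dK Y n ((f.app (op ⦋n + 1⦌)) x) = (f.app (op ⦋n⦌)) (dK X n x) := by
  have := congrArg (fun F => F.hom x)
    (((alternatingFaceMapComplex AddCommGrpCat.{u}).map f).comm (n + 1) n)
  exact this

theorem dK_dK (n : ℕ) (x : X _⦋n + 2⦌) : dK X n (dK X (n + 1) x) = 0 := by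
  have := congrArg (fun F => F.hom x)
    (((alternatingFaceMapComplex AddCommGrpCat.{u}).obj X).d_comp_d (n + 2) (n + 1) n)
  exact this

/-- A cycle is homologous to its image under `P^∞`. -/
theorem exists_dK_eq_sub_PK (n : ℕ) (x : X _⦋n + 1⦌) (hx : dK X n x = 0) :
    ∃ w : X _⦋n + 2⦌, dK X (n + 1) w = PK X (n + 1) x - x := by
  have hc := (homotopyPInftyToId (X := X)).comm (n + 1)
  rw [dNext_eq (i' := n) (w := by simp), prevD_eq (j' := n + 2) (w := by simp)] at hc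
  have := congrArg (fun F => F.hom x) hc
  let k1 : X _⦋n⦌ →+ X _⦋n + 1⦌ := ((homotopyPInftyToId (X := X)).hom n (n + 1)).hom
  let k2 : X _⦋n + 1⦌ →+ X _⦋n + 2⦌ := ((homotopyPInftyToId (X := X)).hom (n + 1) (n + 2)).hom
  refine ⟨k2 x, ?_⟩
  have h2 : PK X (n + 1) x = k1 (dK X n x) + dK X (n + 1) (k2 x) + x := this
  rw [h2, hx, map_zero, zero_add, add_sub_cancel_right]

end Groth.Agent.Helper7.SHtp
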