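import Mathlib.Algebra.Homology.QuasiIso
import Mathlib.Algebra.Homology.ShortComplex.Ab
import Mathlib.Algebra.Category.Grp.Abelian

set_option autoImplicit false
open CategoryTheory
universe u

namespace Groth.Agent.Helper7.SHtp

/-- Elementwise criterion for a morphism of short complexes of abelian groups to be a
quasi-isomorphism. -/
theorem shortComplex_quasiIso_of_elementwise {S₁ S₂ : ShortComplex AddCommGrpCat.{u}}
    (φ : S₁ ⟶ S₂)
    (hinj : ∀ x : S₁.X₂, S₁.g x = 0 → (∃ y : S₂.X₁, S₂.f y = φ.τ₂ x) → ∃ z : S₁.X₁, S₁.f z = x)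
    (hsurj : ∀ y : S₂.X₂, S₂.g y = 0 →
      ∃ x : S₁.X₂, S₁.g x = 0 ∧ ∃ w : S₂.X₁, S₂.f w = φ.τ₂ x - y) :
    ShortComplex.QuasiIso φ := by
  have γ : ShortComplex.LeftHomologyMapData φ S₁.abLeftHomologyData S₂.abLeftHomologyData :=
    default
  rw [γ.quasiIso_iff]
  let φK : AddMonoidHom.ker S₁.g.hom →+ AddMonoidHom.ker S₂.g.hom := γ.φK.hom
  let φH : (AddMonoidHom.ker S₁.g.hom ⧸ AddMonoidHom.range S₁.abToCycles) →+
      (AddMonoidHom.ker S₂.g.hom ⧸ AddMonoidHom.range S₂.abToCycles) := γ.φH.hom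
  have hi : ∀ k : AddMonoidHom.ker S₁.g.hom, ((φK k : AddMonoidHom.ker S₂.g.hom) : S₂.X₂) =
      φ.τ₂ (k : S₁.X₂) := by
    intro k
    have := congrArg (fun F => F.hom k) γ.commi
    exact this
  have hπ : ∀ k : AddMonoidHom.ker S₁.g.hom,
      φH (QuotientAddGroup.mk k) = QuotientAddGroup.mk (φK k) := by
    intro k
    have := congrArg (fun F => F.hom k) γ.commπ
    exact this
  rw [ConcreteCategory.isIso_iff_bijective]
  change Function.Bijective φH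
  constructor
  · rw [injective_iff_map_eq_zero]
    intro z hz
    obtain ⟨k, rfl⟩ := QuotientAddGroup.mk_surjective z
    rw [hπ k, QuotientAddGroup.eq_zero_iff] at hz
    obtain ⟨y, hy⟩ := hz
    have hy' : S₂.f y = φ.τ₂ (k : S₁.X₂) := by
      rw [← hi k, ← hy]; rfl
    obtain ⟨z', hz'⟩ := hinj k.1 k.2 ⟨y, hy'⟩
    rw [QuotientAddGroup.eq_zero_iff]
    exact ⟨z', Subtype.ext hz'⟩
  · intro z
    obtain ⟨⟨y, hy⟩, rfl⟩ := QuotientAddGroup.mk_surjective z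
    obtain ⟨x, hx, w, hw⟩ := hsurj y hy
    refine ⟨QuotientAddGroup.mk (⟨x, hx⟩ : AddMonoidHom.ker S₁.g.hom), ?_⟩
    rw [hπ, QuotientAddGroup.eq_iff_sub_mem]
    refine ⟨w, Subtype.ext ?_⟩
    change S₂.f w = _
    rw [hw]
    simp [hi]

theorem quasiIsoAt_succ_of_elementwise {K L : ChainComplex AddCommGrpCat.{u} ℕ} (φ : K ⟶ L) (n : ℕ)
    (hinj : ∀ x : K.X (n + 1), K.d (n + 1) n x = 0 →
      (∃ y : L.X (n + 2), L.d (n + 2) (n + 1) y = φ.f (n + 1) x) →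
      ∃ z : K.X (n + 2), K.d (n + 2) (n + 1) z = x)
    (hsurj : ∀ y : L.X (n + 1), L.d (n + 1) n y = 0 →
      ∃ x : K.X (n + 1), K.d (n + 1) n x = 0 ∧
        ∃ w : L.X (n + 2), L.d (n + 2) (n + 1) w = φ.f (n + 1) x - y) :
    QuasiIsoAt φ (n + 1) := by
  rw [quasiIsoAt_iff' φ (n + 2) (n + 1) n (by simp) (by simp)]
  exact shortComplex_quasiIso_of_elementwise _ hinj hsurj

theorem quasiIsoAt_zero_of_elementwise {K L : ChainComplex AddCommGrpCat.{u} ℕ} (φ : K ⟶ L)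
    (hinj : ∀ x : K.X 0, (∃ y : L.X 1, L.d 1 0 y = φ.f 0 x) → ∃ z : K.X 1, K.d 1 0 z = x)
    (hsurj : ∀ y : L.X 0, ∃ x : K.X 0, ∃ w : L.X 1, L.d 1 0 w = φ.f 0 x - y) :
    QuasiIsoAt φ 0 := by
  rw [quasiIsoAt_iff' φ 1 0 0 (by simp) (by simp)]
  refine shortComplex_quasiIso_of_elementwise _ (fun x _ hy => hinj x hy) (fun y _ => ?_)
  obtain ⟨x, w, hw⟩ := hsurj y
  refine ⟨x, ?_, w, hw⟩
  change K.d 0 0 x = 0
  rw [K.shape 0 0 (by simp)]
  rfl

end Groth.Agent.Helper7.SHtp
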