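import Groth.Agent.Helper7.SHtpB
import Groth.Agent.Helper7.SHtpC
import Mathlib.Algebra.Module.BigOperators

set_option autoImplicit false
open CategoryTheory Simplicial Opposite AlgebraicTopology
universe u

namespace Groth.Agent.Helper7.SHtp

variable {W X : SimplicialObject AddCommGrpCat.{u}}
  {φ ψ : (W ⋙ forget AddCommGrpCat.{u} : SSet.{u}) ⟶ (X ⋙ forget AddCommGrpCat.{u} : SSet.{u})}

/-- The homotopy operators send the zero simplex of positive dimension to degenerate simplices,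
which are killed by `P^∞`. -/
theorem PK_hop_zero (H : SimplicialObject.Homotopy φ ψ) (m : ℕ) (k : Fin (m + 2)) :
    PK X (m + 2) (hop H (m + 1) k (0 : W _⦋m + 1⦌)) = 0 := by
  have h0 : (0 : W _⦋m + 1⦌) = (W.σ (0 : Fin (m + 1))) (0 : W _⦋m⦌) := (map_zero _).symm
  induction k using Fin.cases with
  | zero =>
    have := hop_σ2 H m 0 0 le_rfl (0 : W _⦋m⦌)
    have e : hop H (m + 1) (0 : Fin (m + 2)) (0 : W _⦋m + 1⦌) =
        (X.σ (Fin.succ 0)) (hop H m 0 (0 : W _⦋m⦌)) := by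
      rw [← this]
      congr 1
    rw [e, PK_σ]
  | succ j =>
    have := hop_σ1 H m 0 j (Fin.zero_le _) (0 : W _⦋m⦌)
    have e : hop H (m + 1) j.succ (0 : W _⦋m + 1⦌) =
        (X.σ (Fin.castSucc 0)) (hop H m j (0 : W _⦋m⦌)) := by
      rw [← this]
      congr 1
    rw [e, PK_σ]

theorem PK_Sh_zero (H : SimplicialObject.Homotopy φ ψ) (m : ℕ) :
    PK X (m + 2) (Sh H (m + 1) (0 : W _⦋m + 1⦌)) = 0 := by
  simp [Sh, PK_hop_zero]

theorem sum_neg_one_pow_fin_two : ∑ j : Fin 2, ((-1 : ℤ) ^ (j : ℕ)) = 0 := by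
  simp [Fin.sum_univ_succ]

/-- Lemma B in positive degrees: on simplices all of whose faces vanish, two homotopic maps
agree after `P^∞` up to a boundary. -/
theorem lemmaB_succ (H : SimplicialObject.Homotopy φ ψ) (n : ℕ) (x : W _⦋n + 1⦌)
    (hx : ∀ j : Fin (n + 2), (W.δ j) x = 0) :
    ∃ w : X _⦋n + 2⦌, dK X (n + 1) w =
      PK X (n + 1) (ev φ (n + 1) x) - PK X (n + 1) (ev ψ (n + 1) x) := by
  refine ⟨PK X (n + 2) (Sh H (n + 1) x), ?_⟩
  have hA := lemmaA_succ H n x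
  have hface : ∀ j : Fin (n + 2),
      Sh H n (SimplicialObject.δ (W ⋙ forget AddCommGrpCat.{u} : SSet.{u}) j x) =
        Sh H n (0 : W _⦋n⦌) := by
    intro j
    congr 1
    exact hx j
  have hsum : ∑ j : Fin (n + 2), ((-1 : ℤ) ^ (j : ℕ)) •
      Sh H n (SimplicialObject.δ (W ⋙ forget AddCommGrpCat.{u} : SSet.{u}) j x) =
      (∑ j : Fin (n + 2), ((-1 : ℤ) ^ (j : ℕ))) • Sh H n (0 : W _⦋n⦌) := by
    rw [Finset.sum_smul]
    exact Finset.sum_congr rfl (fun j _ => by rw [hface j])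
  rw [hsum] at hA
  rw [hA, map_add, map_add, add_sub_cancel_right, ← PK_dK, map_zsmul]
  have hz : (∑ j : Fin (n + 2), ((-1 : ℤ) ^ (j : ℕ))) • PK X (n + 1) (Sh H n (0 : W _⦋n⦌)) = 0 := by
    cases n with
    | zero => rw [sum_neg_one_pow_fin_two, zero_smul]
    | succ m => rw [PK_Sh_zero, smul_zero]
  rw [hz, zero_add]

theorem lemmaB_zero (H : SimplicialObject.Homotopy φ ψ) (x : W _⦋0⦌) :
    ∃ w : X _⦋1⦌, dK X 0 w = ev φ 0 x - ev ψ 0 x := by
  refine ⟨Sh H 0 x, ?_⟩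
  rw [lemmaA_zero H x, add_sub_cancel_right]

/-- The symmetric relation obtained from a homotopy in either direction. -/
def HomotopicOn (φ ψ : (W ⋙ forget AddCommGrpCat.{u} : SSet.{u}) ⟶
    (X ⋙ forget AddCommGrpCat.{u} : SSet.{u})) : Prop :=
  (∀ (n : ℕ) (x : W _⦋n + 1⦌), (∀ j : Fin (n + 2), (W.δ j) x = 0) →
    ∃ w : X _⦋n + 2⦌, dK X (n + 1) w =
      PK X (n + 1) (ev φ (n + 1) x) - PK X (n + 1) (ev ψ (n + 1) x)) ∧
  (∀ x : W _⦋0⦌, ∃ w : X _⦋1⦌, dK X 0 w = ev φ 0 x - ev ψ 0 x)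

theorem homotopicOn_of_homotopy (H : SimplicialObject.Homotopy φ ψ) : HomotopicOn φ ψ :=
  ⟨fun n x hx => lemmaB_succ H n x hx, fun x => lemmaB_zero H x⟩

theorem HomotopicOn.symm (h : HomotopicOn φ ψ) : HomotopicOn ψ φ := by
  refine ⟨fun n x hx => ?_, fun x => ?_⟩
  · obtain ⟨w, hw⟩ := h.1 n x hx
    exact ⟨-w, by rw [map_neg, hw, neg_sub]⟩
  · obtain ⟨w, hw⟩ := h.2 x
    exact ⟨-w, by rw [map_neg, hw, neg_sub]⟩

theorem homotopicOn_of_sset (h : Nonempty (SSet.Homotopy φ ψ) ∨ Nonempty (SSet.Homotopy ψ φ)) :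
    HomotopicOn φ ψ := by
  rcases h with ⟨⟨H⟩⟩ | ⟨⟨H⟩⟩
  · exact homotopicOn_of_homotopy H.toSimplicialObjectHomotopy
  · exact (homotopicOn_of_homotopy H.toSimplicialObjectHomotopy).symm

end Groth.Agent.Helper7.SHtp
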