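import Groth.Agent.Helper7.SHtpD

set_option autoImplicit false
open CategoryTheory Simplicial Opposite AlgebraicTopology
universe u

namespace Groth.Agent.Helper7.SHtp

variable {X Y : SimplicialObject AddCommGrpCat.{u}}

/-- The value of a set-theoretic simplicial map between simplicial abelian groups. -/
def gv (g : (Y ⋙ forget AddCommGrpCat.{u} : SSet.{u}) ⟶ (X ⋙ forget AddCommGrpCat.{u} : SSet.{u}))
    (n : ℕ) (y : Y _⦋n⦌) : X _⦋n⦌ :=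
  g.app (op ⦋n⦌) y

variable (g : (Y ⋙ forget AddCommGrpCat.{u} : SSet.{u}) ⟶ (X ⋙ forget AddCommGrpCat.{u} : SSet.{u}))

theorem gv_δ (n : ℕ) (j : Fin (n + 2)) (y : Y _⦋n + 1⦌) :
    (X.δ j) (gv g (n + 1) y) = gv g n ((Y.δ j) y) := by
  have := congrArg (fun F => F y) (g.naturality (SimplexCategory.δ j).op)
  exact this.symm

theorem gv_σ (n : ℕ) (i : Fin (n + 1)) (y : Y _⦋n⦌) :
    gv g (n + 1) ((Y.σ i) y) = (X.σ i) (gv g n y) := by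
  have := congrArg (fun F => F y) (g.naturality (SimplexCategory.σ i).op)
  exact this

theorem PK_gv_zero (m : ℕ) : PK X (m + 1) (gv g (m + 1) (0 : Y _⦋m + 1⦌)) = 0 := by
  have h0 : (0 : Y _⦋m + 1⦌) = (Y.σ (0 : Fin (m + 1))) (0 : Y _⦋m⦌) := (map_zero _).symm
  rw [h0, gv_σ, PK_σ]

/-- All faces of `P^∞ x` vanish when `x` is a cycle. -/
theorem δ_PK_of_cycle (n : ℕ) (x : X _⦋n + 1⦌) (hx : dK X n x = 0) (j : Fin (n + 2)) :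
    (X.δ j) (PK X (n + 1) x) = 0 := by
  induction j using Fin.cases with
  | zero =>
    have h1 : dK X n (PK X (n + 1) x) = 0 := by rw [← PK_dK, hx, map_zero]
    rw [dK_apply, Fin.sum_univ_succ] at h1
    simpa [δ_succ_PK] using h1
  | succ j => exact δ_succ_PK n j x

/-- The differential of a simplex whose higher faces are all equal to `b`. -/
theorem dK_of_faces (n : ℕ) (t : X _⦋n + 1⦌) (a b : X _⦋n⦌) (h0 : (X.δ 0) t = a)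
    (hs : ∀ j : Fin (n + 1), (X.δ j.succ) t = b) :
    dK X n t = a + (∑ j : Fin (n + 1), ((-1 : ℤ) ^ ((j : ℕ) + 1))) • b := by
  rw [dK_apply, Fin.sum_univ_succ, Finset.sum_smul]
  simp [h0, hs]

variable (f : X ⟶ Y)

/-- `U f ≫ g` as a map of simplicial sets. -/
abbrev gfMap : (X ⋙ forget AddCommGrpCat.{u} : SSet.{u}) ⟶ (X ⋙ forget AddCommGrpCat.{u} : SSet.{u}) :=
  Functor.whiskerRight f (forget AddCommGrpCat.{u}) ≫ g

/-- `g ≫ U f` as a map of simplicial sets. -/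
abbrev fgMap : (Y ⋙ forget AddCommGrpCat.{u} : SSet.{u}) ⟶ (Y ⋙ forget AddCommGrpCat.{u} : SSet.{u}) :=
  g ≫ Functor.whiskerRight f (forget AddCommGrpCat.{u})

theorem ev_gfMap (n : ℕ) (x : X _⦋n⦌) :
    ev (gfMap g f) n x = gv g n ((f.app (op ⦋n⦌)) x) := rfl

theorem ev_fgMap (n : ℕ) (y : Y _⦋n⦌) :
    ev (fgMap g f) n y = (f.app (op ⦋n⦌)) (gv g n y) := rfl

theorem ev_id (n : ℕ) (x : X _⦋n⦌) :
    ev (𝟙 (X ⋙ forget AddCommGrpCat.{u} : SSet.{u})) n x = x := rfl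

theorem inj_succ (hX : HomotopicOn (gfMap g f) (𝟙 _)) (n : ℕ) (x : X _⦋n + 1⦌)
    (hx : dK X n x = 0) (hy : ∃ y : Y _⦋n + 2⦌, dK Y (n + 1) y = (f.app (op ⦋n + 1⦌)) x) :
    ∃ z : X _⦋n + 2⦌, dK X (n + 1) z = x := by
  obtain ⟨y, hy⟩ := hy
  obtain ⟨w₀, hw₀⟩ := exists_dK_eq_sub_PK n x hx
  set x₁ := PK X (n + 1) x with hx₁
  have hfaces : ∀ j : Fin (n + 2), (X.δ j) x₁ = 0 := δ_PK_of_cycle n x hx
  set y₁ := PK Y (n + 2) y with hy₁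
  have hdy₁ : dK Y (n + 1) y₁ = (f.app (op ⦋n + 1⦌)) x₁ := by
    rw [hy₁, ← PK_dK, hy, PK_natural]
  have hy₁s : ∀ j : Fin (n + 2), (Y.δ j.succ) y₁ = 0 := fun j => δ_succ_PK (n + 1) j y
  have hy₁0 : (Y.δ 0) y₁ = (f.app (op ⦋n + 1⦌)) x₁ := by
    have := dK_of_faces (n + 1) y₁ ((Y.δ 0) y₁) 0 rfl hy₁s
    rw [smul_zero, add_zero] at this
    rw [← this, hdy₁]
  have hd : dK X (n + 1) (gv g (n + 2) y₁) = gv g (n + 1) ((f.app (op ⦋n + 1⦌)) x₁) +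
      (∑ j : Fin (n + 2), ((-1 : ℤ) ^ ((j : ℕ) + 1))) • gv g (n + 1) (0 : Y _⦋n + 1⦌) := by
    apply dK_of_faces
    · rw [gv_δ, hy₁0]
    · intro j
      rw [gv_δ, hy₁s]
  have hd' : dK X (n + 1) (PK X (n + 2) (gv g (n + 2) y₁)) =
      PK X (n + 1) (gv g (n + 1) ((f.app (op ⦋n + 1⦌)) x₁)) := by
    rw [← PK_dK, hd, map_add, map_zsmul, PK_gv_zero, smul_zero, add_zero]
  obtain ⟨w₁, hw₁⟩ := hX.1 n x₁ hfaces
  rw [ev_gfMap, ev_id, hx₁, PK_idem, ← hx₁] at hw₁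
  refine ⟨PK X (n + 2) (gv g (n + 2) y₁) - w₁ - w₀, ?_⟩
  rw [map_sub, map_sub, hd', hw₁, hw₀]
  abel

theorem inj_zero (hX : HomotopicOn (gfMap g f) (𝟙 _)) (x : X _⦋0⦌)
    (hy : ∃ y : Y _⦋1⦌, dK Y 0 y = (f.app (op ⦋0⦌)) x) :
    ∃ z : X _⦋1⦌, dK X 0 z = x := by
  obtain ⟨y, hy⟩ := hy
  set y₁ := PK Y 1 y with hy₁
  have hdy₁ : dK Y 0 y₁ = (f.app (op ⦋0⦌)) x := by
    rw [hy₁, ← PK_dK, hy, PK_zero_eq]
  have hy₁s : ∀ j : Fin 1, (Y.δ j.succ) y₁ = 0 := fun j => δ_succ_PK 0 j y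
  have hy₁0 : (Y.δ 0) y₁ = (f.app (op ⦋0⦌)) x := by
    have := dK_of_faces 0 y₁ ((Y.δ 0) y₁) 0 rfl hy₁s
    rw [smul_zero, add_zero] at this
    rw [← this, hdy₁]
  have hd : dK X 0 (gv g 1 y₁) = gv g 0 ((f.app (op ⦋0⦌)) x) +
      (∑ j : Fin 1, ((-1 : ℤ) ^ ((j : ℕ) + 1))) • gv g 0 (0 : Y _⦋0⦌) := by
    apply dK_of_faces
    · rw [gv_δ, hy₁0]
    · intro j
      rw [gv_δ, hy₁s]
  obtain ⟨w₁, hw₁⟩ := hX.2 x
  obtain ⟨w₂, hw₂⟩ := hX.2 (0 : X _⦋0⦌)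
  rw [ev_gfMap, ev_id] at hw₁ hw₂
  rw [map_zero, sub_zero] at hw₂
  refine ⟨gv g 1 y₁ + w₂ - w₁, ?_⟩
  rw [map_sub, map_add, hd, hw₁, hw₂]
  simp

theorem surj_succ (hY : HomotopicOn (fgMap g f) (𝟙 _)) (n : ℕ) (y : Y _⦋n + 1⦌)
    (hy : dK Y n y = 0) :
    ∃ x : X _⦋n + 1⦌, dK X n x = 0 ∧
      ∃ w : Y _⦋n + 2⦌, dK Y (n + 1) w = (f.app (op ⦋n + 1⦌)) x - y := by
  obtain ⟨w₀, hw₀⟩ := exists_dK_eq_sub_PK n y hy
  set y₁ := PK Y (n + 1) y with hy₁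
  have hfaces : ∀ j : Fin (n + 2), (Y.δ j) y₁ = 0 := δ_PK_of_cycle n y hy
  have hd : dK X n (gv g (n + 1) y₁) = gv g n (0 : Y _⦋n⦌) +
      (∑ j : Fin (n + 1), ((-1 : ℤ) ^ ((j : ℕ) + 1))) • gv g n (0 : Y _⦋n⦌) := by
    apply dK_of_faces
    · rw [gv_δ, hfaces]
    · intro j
      rw [gv_δ, hfaces]
  have hcyc : dK X n (PK X (n + 1) (gv g (n + 1) y₁)) = 0 := by
    rw [← PK_dK, hd]
    cases n with
    | zero => simp
    | succ m => rw [map_add, map_zsmul, PK_gv_zero, smul_zero, add_zero]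
  refine ⟨PK X (n + 1) (gv g (n + 1) y₁), hcyc, ?_⟩
  obtain ⟨w₁, hw₁⟩ := hY.1 n y₁ hfaces
  rw [ev_fgMap, ev_id, hy₁, PK_idem, ← hy₁, PK_natural] at hw₁
  refine ⟨w₁ + w₀, ?_⟩
  rw [map_add, hw₁, hw₀]
  abel

theorem surj_zero (hY : HomotopicOn (fgMap g f) (𝟙 _)) (y : Y _⦋0⦌) :
    ∃ x : X _⦋0⦌, ∃ w : Y _⦋1⦌, dK Y 0 w = (f.app (op ⦋0⦌)) x - y := by
  obtain ⟨w, hw⟩ := hY.2 y
  exact ⟨gv g 0 y, w, hw⟩

theorem quasiIso_of_homotopicOn (hX : HomotopicOn (gfMap g f) (𝟙 _))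
    (hY : HomotopicOn (fgMap g f) (𝟙 _)) :
    QuasiIso ((alternatingFaceMapComplex AddCommGrpCat.{u}).map f) := by
  constructor
  intro n
  cases n with
  | zero =>
    exact quasiIsoAt_zero_of_elementwise _ (fun x hy => inj_zero g f hX x hy)
      (fun y => surj_zero g f hY y)
  | succ n =>
    exact quasiIsoAt_succ_of_elementwise _ n (fun x hx hy => inj_succ g f hX n x hx hy)
      (fun y hy => surj_succ g f hY n y hy)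

end Groth.Agent.Helper7.SHtp
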