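import Mathlib
import Groth.Agent.Helper7.StairD
import Groth.Agent.Helper6.TgtPow

/-!
# Slices of strongly stable ideals of colength at most that of `m^r` (helper7)
-/

set_option autoImplicit false
set_option linter.style.haveILetI false
set_option linter.unusedSectionVars false

namespace Groth.Agent.Helper7.Stair

open MvPolynomial W4c1hilbpn

theorem sum_choose (r : ℕ) : ∑ i ∈ Finset.range r, (r - i + 1).choose 2 = (r + 2).choose 3 := by
  induction r with
  | zero => simp
  | succ r ih =>
    rw [Finset.sum_range_succ']
    have e : ∀ i, r + 1 - (i + 1) + 1 = r - i + 1 := fun i => by omega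
    simp only [e]
    rw [ih]
    have h1 : (r + 1 + 2).choose 3 = (r + 2).choose 2 + (r + 2).choose 3 :=
      Nat.choose_succ_succ' (r + 2) 2
    have e3' : r + 1 - 0 + 1 = r + 2 := by omega
    rw [h1, e3']
    omega

variable {k : Type*} [Field k] {I : Ideal (MvPolynomial (Fin 3) k)}
variable (hI : IsStronglyStable I) [Module.Finite k (MvPolynomial (Fin 3) k ⧸ I)]
variable (r : ℕ)

include hI in
theorem excess_down (i₀ : ℕ) (hi₀ : i₀ < r) (h : (r - i₀ + 1).choose 2 < colA I i₀) :
    ∀ d ≤ i₀, (r - (i₀ - d) + 1).choose 2 < colA I (i₀ - d) := by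
  intro d
  induction d with
  | zero =>
    intro _
    exact h
  | succ d ih =>
    intro hd
    have ih' := ih (by omega)
    have e1 : i₀ - d = (i₀ - (d + 1)) + 1 := by omega
    rw [e1] at ih'
    have e2 : r - (i₀ - (d + 1) + 1) + 1 = (r - (i₀ - (d + 1) + 1)) + 1 := rfl
    have h2 := colA_excess hI (i₀ - (d + 1)) (r - (i₀ - (d + 1) + 1)) ih'
    have e3' : r - (i₀ - (d + 1) + 1) + 2 = r - (i₀ - (d + 1)) + 1 := by omega
    rwa [e3'] at h2

include hI in
theorem excess_down' (i₀ : ℕ) (hi₀ : i₀ < r) (h : (r - i₀ + 1).choose 2 < colA I i₀) (i : ℕ)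
    (hi : i ≤ i₀) : (r - i + 1).choose 2 < colA I i := by
  have := excess_down hI r i₀ hi₀ h (i₀ - i) (by omega)
  have e : i₀ - (i₀ - i) = i := by omega
  rwa [e] at this

include hI in
/-- the tail sums of the column sums are bounded by those of `m^r` -/
theorem main_le (hd : Module.finrank k (MvPolynomial (Fin 3) k ⧸ I) ≤ (r + 2).choose 3)
    (j : ℕ) (hj : j ≤ r) :
    ∑ i ∈ Finset.Ico j r, colA I i ≤ ∑ i ∈ Finset.Ico j r, (r - i + 1).choose 2 := by
  by_contra hlt
  push Not at hlt
  obtain ⟨i₀, hi₀, hexc⟩ := Finset.exists_lt_of_sum_lt hlt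
  rw [Finset.mem_Ico] at hi₀
  have h1 : ∑ i ∈ Finset.range j, (r - i + 1).choose 2 ≤ ∑ i ∈ Finset.range j, colA I i := by
    apply Finset.sum_le_sum
    intro i hi
    rw [Finset.mem_range] at hi
    exact (excess_down' hI r i₀ hi₀.2 hexc i (by omega)).le
  have h2 := Finset.sum_range_add_sum_Ico (fun i => colA I i) hj
  have h3 := Finset.sum_range_add_sum_Ico (fun i => (r - i + 1).choose 2) hj
  have h4 := sum_colA_le hI r
  have h5 := sum_choose r
  omega

include hI in
theorem stairZ_eq_of_eq (hd : Module.finrank k (MvPolynomial (Fin 3) k ⧸ I) ≤ (r + 2).choose 3)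
    (heq : ∀ j, j < r → ∑ i ∈ Finset.Ico j r, colA I i =
      ∑ i ∈ Finset.Ico j r, (r - i + 1).choose 2) :
    ∀ i j : ℕ, stairZ I i j = r - i - j := by
  -- (a) column sums
  have ha : ∀ i, i < r → colA I i = (r - i + 1).choose 2 := by
    intro i hi
    have h1 := heq i hi
    rw [Finset.sum_eq_sum_Ico_succ_bot hi, Finset.sum_eq_sum_Ico_succ_bot hi] at h1
    by_cases hi' : i + 1 < r
    · have h2 := heq (i + 1) hi'
      omega
    · have e : Finset.Ico (i + 1) r = ∅ := Finset.Ico_eq_empty (by omega)
      rw [e, Finset.sum_empty, Finset.sum_empty] at h1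
      omega
  -- (b) total
  have hb : ∑ i ∈ Finset.range r, colA I i = (r + 2).choose 3 := by
    rw [← sum_choose r]
    exact Finset.sum_congr rfl fun i hi => ha i (Finset.mem_range.mp hi)
  -- (c) vanishing beyond `r`
  have hc : ∀ i, r ≤ i → stairZ I i 0 = 0 := by
    intro i hi
    have h1 := sum_colA_le hI (i + 1)
    have h2 := Finset.sum_range_add_sum_Ico (fun i => colA I i) (show r ≤ i + 1 by omega)
    have h3 : colA I i ≤ ∑ i ∈ Finset.Ico r (i + 1), colA I i :=
      Finset.single_le_sum (f := fun i => colA I i) (fun _ _ => Nat.zero_le _)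
        (Finset.mem_Ico.mpr ⟨hi, by omega⟩)
    have h4 : colA I i = 0 := by omega
    by_contra hne
    have h5 : stairZ I i 0 ≤ colA I i := by
      unfold colA
      exact Finset.single_le_sum (f := fun j => stairZ I i j) (fun _ _ => Nat.zero_le _)
        (Finset.mem_range.mpr (by omega))
    omega
  -- (d) downward induction
  have key : ∀ d i, r ≤ i + d → ∀ j, stairZ I i j = r - i - j := by
    intro d
    induction d with
    | zero =>
      intro i hi j
      have h1 := hc i (by omega)
      have h2 : stairZ I i j ≤ stairZ I i 0 := stairZ_mono hI.1 le_rfl (Nat.zero_le j)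
      omega
    | succ d ih =>
      intro i hi j
      by_cases hir : r ≤ i
      · have h1 := hc i hir
        have h2 : stairZ I i j ≤ stairZ I i 0 := stairZ_mono hI.1 le_rfl (Nat.zero_le j)
        omega
      · push Not at hir
        have ih' := ih (i + 1) (by omega)
        -- lower bounds
        have hlow : ∀ j, r - i - (j + 1) ≤ stairZ I i (j + 1) := by
          intro j
          have := stairZ_diag_le hI i j
          rw [ih' j] at this
          omega
        have hcol := ha i hir
        have hpos : 0 < stairZ I i 0 := by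
          by_contra h0
          have h0' : stairZ I i 0 = 0 := by omega
          unfold colA at hcol
          rw [h0', Finset.range_zero, Finset.sum_empty] at hcol
          have : 0 < (r - i + 1).choose 2 := Nat.choose_pos (by omega)
          omega
        have hlow0 : r - i ≤ stairZ I i 0 := by
          by_cases h1 : 0 < stairZ I (i + 1) 0
          · have := stairZ_succ_left_lt hI i 0 hpos
            rw [ih' 0] at this h1
            omega
          · rw [ih' 0] at h1
            omega
        -- upper bound on `stairZ I i 0`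
        have hup0 : stairZ I i 0 ≤ r - i := by
          obtain ⟨n, hn⟩ : ∃ n, r - i = n + 1 := ⟨r - i - 1, by omega⟩
          have h1 : ∑ j ∈ Finset.range (n + 1), stairZ I i j ≤ colA I i := by
            unfold colA
            apply Finset.sum_le_sum_of_subset
            intro j hj
            rw [Finset.mem_range] at hj ⊢
            omega
          rw [Finset.sum_range_succ'] at h1
          have h2 : ∑ j ∈ Finset.range n, (n - j) ≤ ∑ j ∈ Finset.range n, stairZ I i (j + 1) := by
            apply Finset.sum_le_sum
            intro j _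
            have := hlow j
            omega
          rw [sum_range_sub] at h2
          rw [hcol, hn, choose_two_succ] at h1
          omega
        have h0 : stairZ I i 0 = r - i := le_antisymm hup0 hlow0
        have hup := stairZ_add_le hI i j
        cases j with
        | zero => omega
        | succ j =>
          have := hlow j
          omega
  intro i j
  exact key r i (by omega) j

include hI in
theorem eq_pow_of_eq (hd : Module.finrank k (MvPolynomial (Fin 3) k ⧸ I) ≤ (r + 2).choose 3)
    (heq : ∀ j, j < r → ∑ i ∈ Finset.Ico j r, colA I i =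
      ∑ i ∈ Finset.Ico j r, (r - i + 1).choose 2) :
    I = (Ideal.span (Set.range (MvPolynomial.X : Fin 3 → MvPolynomial (Fin 3) k))) ^ r := by
  have hst := stairZ_eq_of_eq hI r hd heq
  have hexps : ∀ β : Fin 3 →₀ ℕ, β ∈ exps I ↔ β ∈ exps (Groth.Agent.Helper6.TgtPow.Mr (Fin 3) k r) := by
    intro β
    rw [Groth.Agent.Helper6.TgtPow.mem_exps_iff, e3_ext β, mem_exps_iff hI.1, hst,
      Finsupp.degree_eq_sum, Fin.sum_univ_three, e3_0, e3_1, e3_2]
    omega
  apply le_antisymm
  · intro f hf
    apply Groth.Agent.S13453.mem_of_support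
    intro β hβ
    exact (hexps β).mp (hI.1 f hf β hβ)
  · intro f hf
    apply Groth.Agent.S13453.mem_of_support
    intro β hβ
    exact (hexps β).mpr (Groth.Agent.Helper6.TgtPow.isMonomial r f hf β hβ)

end Groth.Agent.Helper7.Stair
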