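import Mathlib
import Groth.Prelude.Def_W4c1hilbpnTgt
import Groth.Agent.Helper7.PlDuM
import Groth.Agent.Helper7.StairE

/-! Bounds for the sign-pattern pieces of `T(I)`, part A: the piece negative exactly at `z` is
bounded by the weighted sum of the column sums, under the diagonal staircase condition. -/

set_option autoImplicit false
set_option linter.style.haveILetI false
set_option linter.unusedSectionVars false

namespace Groth.Agent.Helper7.SSBd

open MvPolynomial W4c1hilbpn Groth.Agent.Helper7.HTa Groth.Agent.Helper7.HTb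
  Groth.Agent.Helper7.HTc Groth.Agent.Helper7.HTd Groth.Agent.Helper7.Stair
  Groth.Agent.Helper7.PlDu

noncomputable section

section sums

/-- counting the indices below `p` -/
theorem sum_ite_le (N : ℕ) (f : ℕ → ℕ) :
    ∑ i ∈ Finset.range N, ∑ p ∈ Finset.range N, (if i ≤ p then f p else 0) =
      ∑ p ∈ Finset.range N, (p + 1) * f p := by
  rw [Finset.sum_comm]
  apply Finset.sum_congr rfl
  intro p hp
  rw [Finset.mem_range] at hp
  rw [← Finset.sum_filter]
  have : (Finset.range N).filter (fun i => i ≤ p) = Finset.range (p + 1) := by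
    ext i
    simp only [Finset.mem_filter, Finset.mem_range]
    omega
  rw [this, Finset.sum_const, Finset.card_range, smul_eq_mul]

/-- Abel summation for an antitone sequence -/
theorem abel (g : ℕ → ℕ) (hg : ∀ q, g (q + 1) ≤ g q) (n : ℕ) :
    ∑ q ∈ Finset.range n, (q + 1) * (g q - g (q + 1)) + n * g n = ∑ q ∈ Finset.range n, g q := by
  induction n with
  | zero => simp
  | succ n ih =>
    rw [Finset.sum_range_succ, Finset.sum_range_succ, ← ih]
    have h := hg n
    obtain ⟨d, hd⟩ : ∃ d, g n = g (n + 1) + d := ⟨g n - g (n + 1), by omega⟩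
    rw [hd]
    have : g (n + 1) + d - g (n + 1) = d := by omega
    rw [this]
    ring

/-- the fourfold sum -/
theorem sum_four (N : ℕ) (w : ℕ → ℕ → ℕ) :
    ∑ i ∈ Finset.range N, ∑ j ∈ Finset.range N, ∑ p ∈ Finset.range N, ∑ q ∈ Finset.range N,
        (if i ≤ p ∧ j ≤ q then w p q else 0) =
      ∑ p ∈ Finset.range N, (p + 1) * ∑ q ∈ Finset.range N, (q + 1) * w p q := by
  have h1 : ∀ i ∈ Finset.range N, ∑ j ∈ Finset.range N, ∑ p ∈ Finset.range N,
      ∑ q ∈ Finset.range N, (if i ≤ p ∧ j ≤ q then w p q else 0) =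
      ∑ p ∈ Finset.range N, (if i ≤ p then ∑ q ∈ Finset.range N, (q + 1) * w p q else 0) := by
    intro i _
    rw [Finset.sum_comm]
    apply Finset.sum_congr rfl
    intro p _
    by_cases hip : i ≤ p
    · rw [if_pos hip, ← sum_ite_le N (w p)]
      apply Finset.sum_congr rfl
      intro j _
      apply Finset.sum_congr rfl
      intro q _
      simp [hip]
    · rw [if_neg hip]
      apply Finset.sum_eq_zero
      intro j _
      apply Finset.sum_eq_zero
      intro q _
      simp [hip]
  rw [Finset.sum_congr rfl h1]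
  exact sum_ite_le N (fun p => ∑ q ∈ Finset.range N, (q + 1) * w p q)

end sums

variable {k : Type*} [Field k] {J : Ideal (MvPolynomial (Fin 3) k)}
variable (hJ : IsMonomial J) [Module.Finite k (MvPolynomial (Fin 3) k ⧸ J)]

include hJ in
theorem finrank_span_Idx (i j N : ℕ)
    (hN : ∀ α : Fin 3 → ℤ, tPiece J α ≠ ⊥ → ∀ l, (α l).natAbs < N) :
    Module.finrank k ↥(⨆ α : Idx i j, tPiece J α.1) =
      ∑ m' ∈ Finset.range N, Module.finrank k (tPiece J (αA i j (m' + 1))) := by
  haveI : ∀ α : Fin 3 → ℤ, FiniteDimensional k (tPiece J α) := finite_tPiece hJ fin3_ne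
  refine finrank_iSup_sub (fun α : Fin 3 → ℤ => tPiece J α) (indep_tPiece hJ)
    (fun α => α 0 = (i : ℤ) ∧ α 1 = (j : ℤ) ∧ α 2 < 0) (Finset.range N)
    (fun m' => αA i j (m' + 1)) ?_ ?_ ?_
  · intro x _ y _ h
    have h2 : -(((x + 1 : ℕ)) : ℤ) = -(((y + 1 : ℕ)) : ℤ) := congrFun h 2
    omega
  · intro x _
    refine ⟨rfl, rfl, ?_⟩
    show -(((x + 1 : ℕ)) : ℤ) < 0
    omega
  · rintro α ⟨h0, h1, h2⟩ hne
    have hb := hN α hne 2
    refine ⟨(-α 2 - 1).toNat, ?_, ?_⟩
    · rw [Finset.mem_range]
      omega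
    · funext l
      fin_cases l
      · exact h0.symm
      · exact h1.symm
      · show -((((-α 2 - 1).toNat + 1 : ℕ)) : ℤ) = α 2
        omega

variable [Infinite k]

include hJ in
/-- the piece negative exactly at `z` is bounded by the weighted sum of the column sums -/
theorem sig_two_le (hdiag : ∀ p q : ℕ, stairZ J (p + 1) q ≤ stairZ J p (q + 1)) (N : ℕ)
    (hN : ∀ α : Fin 3 → ℤ, tPiece J α ≠ ⊥ → ∀ l, (α l).natAbs < N)
    (hNP : ∀ p q : ℕ, (N ≤ p ∨ N ≤ q) → stairZ J p q = 0) :
    Module.finrank k ↥(sigPiece J ({2} : Set (Fin 3))) ≤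
      ∑ p ∈ Finset.range N, (p + 1) * ∑ q ∈ Finset.range N, stairZ J p q := by
  rw [finrank_sig_two hJ N hN]
  have h1 : ∀ i j : ℕ, ∑ m' ∈ Finset.range N, Module.finrank k (tPiece J (αA i j (m' + 1))) ≤
      ∑ p ∈ Finset.range N, ∑ q ∈ Finset.range N,
        (if i ≤ p ∧ j ≤ q then stairZ J p q - stairZ J p (q + 1) else 0) := by
    intro i j
    rw [← finrank_span_Idx hJ i j N hN]
    refine (Stair.main hJ i j).trans (le_of_eq ?_)
    rw [finsum_eq_sum_of_support_subset (s := Finset.range N ×ˢ Finset.range N)]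
    · rw [Finset.sum_product]
      apply Finset.sum_congr rfl
      intro p _
      apply Finset.sum_congr rfl
      intro q _
      unfold fsum
      simp only
      rw [max_eq_right (hdiag p q)]
    · intro p hp
      rw [Function.mem_support] at hp
      rw [Finset.coe_product, Set.mem_prod, Finset.mem_coe, Finset.mem_coe, Finset.mem_range,
        Finset.mem_range]
      by_contra hcon
      apply hp
      have : stairZ J p.1 p.2 = 0 := hNP _ _ (by omega)
      unfold fsum
      rw [this]
      simp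
  calc ∑ i ∈ Finset.range N, ∑ j ∈ Finset.range N, ∑ m' ∈ Finset.range N,
        Module.finrank k (tPiece J (αA i j (m' + 1)))
      ≤ ∑ i ∈ Finset.range N, ∑ j ∈ Finset.range N, ∑ p ∈ Finset.range N,
          ∑ q ∈ Finset.range N,
            (if i ≤ p ∧ j ≤ q then stairZ J p q - stairZ J p (q + 1) else 0) :=
        Finset.sum_le_sum fun i _ => Finset.sum_le_sum fun j _ => h1 i j
    _ = ∑ p ∈ Finset.range N, (p + 1) *
          ∑ q ∈ Finset.range N, (q + 1) * (stairZ J p q - stairZ J p (q + 1)) :=
        sum_four N (fun p q => stairZ J p q - stairZ J p (q + 1))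
    _ = ∑ p ∈ Finset.range N, (p + 1) * ∑ q ∈ Finset.range N, stairZ J p q := by
        apply Finset.sum_congr rfl
        intro p _
        have := abel (fun q => stairZ J p q)
          (fun q => stairZ_mono hJ le_rfl (Nat.le_succ q)) N
        rw [hNP p N (Or.inr le_rfl), mul_zero, add_zero] at this
        rw [this]

end

end Groth.Agent.Helper7.SSBd
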