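import Mathlib
import Groth.Prelude.Def_W4c1hilbpnTgt
import Groth.Agent.Helper7.SSBdA

/-! Bounds for the sign-pattern pieces of `T(I)`, part B: the weighted sum of the column sums of a
strongly stable ideal of colength at most that of `m^r`. -/

set_option autoImplicit false
set_option linter.style.haveILetI false
set_option linter.unusedSectionVars false

namespace Groth.Agent.Helper7.SSBd

open MvPolynomial W4c1hilbpn Groth.Agent.Helper7.HTa Groth.Agent.Helper7.HTb
  Groth.Agent.Helper7.HTc Groth.Agent.Helper7.HTd Groth.Agent.Helper7.Stair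
  Groth.Agent.Helper7.PlDu

noncomputable section

section numeric

/-- tail sums against weighted sums -/
theorem sum_tail (r : ℕ) (f : ℕ → ℕ) :
    ∑ j ∈ Finset.range r, ∑ i ∈ Finset.Ico j r, f i = ∑ i ∈ Finset.range r, (i + 1) * f i := by
  rw [← sum_ite_le r f]
  apply Finset.sum_congr rfl
  intro j _
  rw [← Finset.sum_filter]
  apply Finset.sum_congr _ (fun _ _ => rfl)
  ext i
  simp only [Finset.mem_Ico, Finset.mem_filter, Finset.mem_range]
  omega

theorem sum_Ico_choose (r j : ℕ) (hj : j ≤ r) :
    ∑ i ∈ Finset.Ico j r, (r - i + 1).choose 2 = (r - j + 2).choose 3 := by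
  rw [Finset.sum_Ico_eq_sum_range, ← sum_choose (r - j)]
  apply Finset.sum_congr rfl
  intro t ht
  rw [Finset.mem_range] at ht
  have : r - (j + t) + 1 = r - j - t + 1 := by omega
  rw [this]

theorem sum_choose_three (r : ℕ) :
    ∑ j ∈ Finset.range r, (r - j + 2).choose 3 = (r + 3).choose 4 := by
  induction r with
  | zero => simp
  | succ r ih =>
    rw [Finset.sum_range_succ']
    have e : ∀ j, r + 1 - (j + 1) + 2 = r - j + 2 := fun j => by omega
    simp only [e]
    rw [ih]
    have h1 : (r + 3 + 1).choose 4 = (r + 3).choose 3 + (r + 3).choose 4 :=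
      Nat.choose_succ_succ' (r + 3) 3
    have e2 : r + 1 - 0 + 2 = r + 3 := by omega
    have e3' : r + 1 + 3 = r + 3 + 1 := by omega
    rw [e2, e3', h1]
    omega

/-- the total for `m^r` -/
theorem sum_tail_choose (r : ℕ) :
    ∑ j ∈ Finset.range r, ∑ i ∈ Finset.Ico j r, (r - i + 1).choose 2 = (r + 3).choose 4 := by
  rw [← sum_choose_three r]
  apply Finset.sum_congr rfl
  intro j hj
  rw [Finset.mem_range] at hj
  exact sum_Ico_choose r j hj.le

end numeric

variable {k : Type*} [Field k] {I : Ideal (MvPolynomial (Fin 3) k)}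
variable (hI : IsStronglyStable I) [Module.Finite k (MvPolynomial (Fin 3) k ⧸ I)]
variable (r : ℕ)

include hI in
theorem le_colA (p : ℕ) : stairZ I p 0 ≤ colA I p := by
  unfold colA
  by_cases h : stairZ I p 0 = 0
  · rw [h]; exact Nat.zero_le _
  · exact Finset.single_le_sum (f := fun j => stairZ I p j) (fun _ _ => Nat.zero_le _)
      (Finset.mem_range.mpr (by omega))

include hI in
/-- columns beyond `r` are empty -/
theorem stairZ_eq_zero_of_le (hd : Module.finrank k (MvPolynomial (Fin 3) k ⧸ I) ≤ (r + 2).choose 3)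
    (p : ℕ) (hp : r ≤ p) (q : ℕ) : stairZ I p q = 0 := by
  have hq : stairZ I p q ≤ stairZ I p 0 := stairZ_mono hI.1 le_rfl (Nat.zero_le q)
  suffices h0 : stairZ I p 0 = 0 by omega
  by_contra hne
  have hpos : 0 < colA I p := lt_of_lt_of_le (by omega) (le_colA hI p)
  rcases Nat.eq_zero_or_pos r with hr | hr
  · subst hr
    have h1 := sum_colA_le hI (p + 1)
    have h2 : colA I p ≤ ∑ i ∈ Finset.range (p + 1), colA I i :=
      Finset.single_le_sum (f := fun i => colA I i) (fun _ _ => Nat.zero_le _)
        (Finset.mem_range.mpr (by omega))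
    have h3 : (0 + 2).choose 3 = 0 := by decide
    omega
  · -- propagate the excess down to column `r - 1`
    have key : ∀ t, t ≤ p → (t + 1).choose 2 < colA I (p - t) := by
      intro t
      induction t with
      | zero =>
        intro _
        simpa using hpos
      | succ t ih =>
        intro ht
        have ih' := ih (by omega)
        have e1 : p - t = (p - (t + 1)) + 1 := by omega
        rw [e1] at ih'
        exact colA_excess hI (p - (t + 1)) t ih'
    have h1 := key (p - (r - 1)) (by omega)
    have e1 : p - (p - (r - 1)) = r - 1 := by omega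
    rw [e1] at h1
    have h2 : (r - (r - 1) + 1).choose 2 < colA I (r - 1) := by
      have e2 : r - (r - 1) + 1 = 2 := by omega
      rw [e2]
      have : (2 : ℕ).choose 2 ≤ (p - (r - 1) + 1).choose 2 := Nat.choose_le_choose 2 (by omega)
      omega
    have h3 : ∀ i ∈ Finset.range r, (r - i + 1).choose 2 < colA I i := by
      intro i hi
      rw [Finset.mem_range] at hi
      exact excess_down' hI r (r - 1) (by omega) h2 i (by omega)
    have h4 : ∑ i ∈ Finset.range r, (r - i + 1).choose 2 < ∑ i ∈ Finset.range r, colA I i :=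
      Finset.sum_lt_sum_of_nonempty (Finset.nonempty_range_iff.mpr (by omega)) h3
    have h5 := sum_colA_le hI r
    have h6 := sum_choose r
    omega

include hI in
/-- the column sums over a long range -/
theorem sum_stairZ_eq_colA (N p : ℕ) (hN : stairZ I 0 0 ≤ N) :
    ∑ q ∈ Finset.range N, stairZ I p q = colA I p := by
  unfold colA
  have hle : stairZ I p 0 ≤ N := le_trans (stairZ_mono hI.1 (Nat.zero_le p) le_rfl) hN
  symm
  apply Finset.sum_subset
  · intro q hq
    rw [Finset.mem_range] at hq ⊢
    omega
  · intro q _ hq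
    rw [Finset.mem_range] at hq
    have := stairZ_add_le hI p q
    omega

include hI in
/-- the weighted sum of the column sums is at most `C(r+3, 4)`, with equality only for `m^r` -/
theorem weighted_le (hd : Module.finrank k (MvPolynomial (Fin 3) k ⧸ I) ≤ (r + 2).choose 3)
    (N : ℕ) (hNr : r ≤ N) (hN : stairZ I 0 0 ≤ N) :
    ∑ p ∈ Finset.range N, (p + 1) * ∑ q ∈ Finset.range N, stairZ I p q ≤ (r + 3).choose 4 ∧
      ((r + 3).choose 4 ≤ ∑ p ∈ Finset.range N, (p + 1) * ∑ q ∈ Finset.range N, stairZ I p q →
        I = (Ideal.span (Set.range (MvPolynomial.X : Fin 3 → MvPolynomial (Fin 3) k))) ^ r) := by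
  have e1 : ∑ p ∈ Finset.range N, (p + 1) * ∑ q ∈ Finset.range N, stairZ I p q =
      ∑ p ∈ Finset.range r, (p + 1) * colA I p := by
    have : ∀ p ∈ Finset.range N, (p + 1) * ∑ q ∈ Finset.range N, stairZ I p q =
        (p + 1) * colA I p := fun p _ => by rw [sum_stairZ_eq_colA hI N p hN]
    rw [Finset.sum_congr rfl this]
    symm
    apply Finset.sum_subset
    · intro p hp
      rw [Finset.mem_range] at hp ⊢
      omega
    · intro p _ hp
      rw [Finset.mem_range] at hp
      have h0 : colA I p = 0 := by
        unfold colA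
        rw [stairZ_eq_zero_of_le hI r hd p (by omega) 0, Finset.range_zero, Finset.sum_empty]
      rw [h0, mul_zero]
  rw [e1, ← sum_tail r (fun i => colA I i), ← sum_tail_choose r]
  have hle : ∀ j ∈ Finset.range r, ∑ i ∈ Finset.Ico j r, colA I i ≤
      ∑ i ∈ Finset.Ico j r, (r - i + 1).choose 2 := by
    intro j hj
    rw [Finset.mem_range] at hj
    exact main_le hI r hd j hj.le
  refine ⟨Finset.sum_le_sum hle, fun hge => ?_⟩
  have heq := le_antisymm (Finset.sum_le_sum hle) hge
  have := (Finset.sum_eq_sum_iff_of_le hle).1 heq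
  apply eq_pow_of_eq hI r hd
  intro j hj
  exact this j (Finset.mem_range.mpr hj)

end

end Groth.Agent.Helper7.SSBd
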