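import Mathlib
import Groth.Prelude.Def_W4c1hilbpnTgt
import Groth.Agent.Helper7.SSBdB
import Groth.Agent.S13442

/-! Bounds for the sign-pattern pieces of `T(I)`, part C: strongly stable ideals of the colength of
`m^r`. -/

set_option autoImplicit false
set_option linter.style.haveILetI false
set_option linter.unusedSectionVars false

namespace Groth.Agent.Helper7.SSBd

open MvPolynomial W4c1hilbpn Groth.Agent.Helper7.HTa Groth.Agent.Helper7.HTb
  Groth.Agent.Helper7.HTc Groth.Agent.Helper7.HTd Groth.Agent.Helper7.Stair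
  Groth.Agent.Helper7.PlDu

noncomputable section

variable {k : Type*} [Field k] {I : Ideal (MvPolynomial (Fin 3) k)}
variable (hI : IsStronglyStable I) [Module.Finite k (MvPolynomial (Fin 3) k ⧸ I)]
variable (r : ℕ)

/-- the transposition of `y` and `z` -/
def π12 : Equiv.Perm (Fin 3) := Equiv.swap 1 2

theorem mapDomain_e3 (a b c : ℕ) : (e3 a b c).mapDomain π12.symm = e3 a c b := by
  ext l
  rw [mapDomain_symm_apply]
  fin_cases l
  · show e3 a b c (Equiv.swap 1 2 0) = e3 a c b 0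
    rw [Equiv.swap_apply_of_ne_of_ne (by decide) (by decide)]
    rfl
  · show e3 a b c (Equiv.swap 1 2 1) = e3 a c b 1
    rw [Equiv.swap_apply_left]
    rfl
  · show e3 a b c (Equiv.swap 1 2 2) = e3 a c b 2
    rw [Equiv.swap_apply_right]
    rfl

theorem e3_mem_perm (a b c : ℕ) : e3 a b c ∈ exps (permI I π12) ↔ e3 a c b ∈ exps I := by
  rw [mem_exps_permI, mapDomain_e3]

include hI in
theorem diag_perm (p q : ℕ) :
    stairZ (permI I π12) (p + 1) q ≤ stairZ (permI I π12) p (q + 1) := by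
  have hJ := isMonomial_permI π12 hI.1
  rw [← mem_exps_iff hJ, e3_mem_perm]
  have h1 : e3 p (q + 1) (stairZ (permI I π12) p (q + 1)) ∈ exps (permI I π12) :=
    (mem_exps_iff hJ _ _ _).2 le_rfl
  rw [e3_mem_perm] at h1
  have h2 := hI.2 _ h1 0 2 (by decide) (by rw [e3_2]; omega)
  have e : e3 p (stairZ (permI I π12) p (q + 1)) (q + 1) - Finsupp.single 2 1 +
      Finsupp.single 0 1 = e3 (p + 1) (stairZ (permI I π12) p (q + 1)) q := by
    ext l
    fin_cases l
    · simp [e3_0]
    · simp [e3_1]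
    · simp [e3_2]
  rwa [e] at h2

theorem sum_boole_lt (N b : ℕ) (hb : b ≤ N) :
    ∑ c ∈ Finset.range N, (if c < b then 1 else 0) = b := by
  rw [← Finset.card_filter]
  have : (Finset.range N).filter (fun c => c < b) = Finset.range b := by
    ext c
    simp only [Finset.mem_filter, Finset.mem_range]
    omega
  rw [this, Finset.card_range]

include hI in
/-- the column sums of the transposed ideal -/
theorem sum_stairZ_perm (N p : ℕ) (hN : stairZ I 0 0 ≤ N)
    (hN' : stairZ (permI I π12) 0 0 ≤ N) :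
    ∑ q ∈ Finset.range N, stairZ (permI I π12) p q = ∑ q ∈ Finset.range N, stairZ I p q := by
  have hJ := isMonomial_permI π12 hI.1
  have h1 : ∀ q ∈ Finset.range N, stairZ (permI I π12) p q =
      ∑ c ∈ Finset.range N, (if q < stairZ I p c then 1 else 0) := by
    intro q _
    rw [← sum_boole_lt N (stairZ (permI I π12) p q) (le_trans (stairZ_le hJ p q) hN')]
    apply Finset.sum_congr rfl
    intro c _
    have : c < stairZ (permI I π12) p q ↔ q < stairZ I p c := by
      rw [← not_le, ← not_le, ← mem_exps_iff hJ, ← mem_exps_iff hI.1, e3_mem_perm]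
    simp only [this]
  rw [Finset.sum_congr rfl h1, Finset.sum_comm]
  apply Finset.sum_congr rfl
  intro c _
  exact sum_boole_lt N (stairZ I p c) (le_trans (stairZ_le hI.1 p c) hN)

variable [Infinite k]

include hI in
theorem bound_two (hd : Module.finrank k (MvPolynomial (Fin 3) k ⧸ I) ≤ (r + 2).choose 3) :
    Module.finrank k ↥(sigPiece I ({2} : Set (Fin 3))) ≤ (r + 3).choose 4 ∧
      (Module.finrank k ↥(sigPiece I ({2} : Set (Fin 3))) = (r + 3).choose 4 →
        I = (Ideal.span (Set.range (MvPolynomial.X : Fin 3 → MvPolynomial (Fin 3) k))) ^ r) := by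
  obtain ⟨N₀, hN₀⟩ := exists_bound_supp hI.1
  obtain ⟨P, hP⟩ := exists_bound hI.1
  set N := max (max N₀ (stairZ I 0 0)) (max P r) with hNdef
  have hN : ∀ α : Fin 3 → ℤ, tPiece I α ≠ ⊥ → ∀ l, (α l).natAbs < N :=
    fun α hα l => lt_of_lt_of_le (hN₀ α hα l) (le_trans (le_max_left _ _) (le_max_left _ _))
  have hNM : stairZ I 0 0 ≤ N := le_trans (le_max_right _ _) (le_max_left _ _)
  have hNr : r ≤ N := le_trans (le_max_right _ _) (le_max_right _ _)
  have hNP : ∀ p q : ℕ, (N ≤ p ∨ N ≤ q) → stairZ I p q = 0 := by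
    intro p q h
    apply hP
    have : P ≤ N := le_trans (le_max_left _ _) (le_max_right _ _)
    omega
  have h1 := sig_two_le hI.1 (stairZ_diag_le hI) N hN hNP
  obtain ⟨h2, h3⟩ := weighted_le hI r hd N hNr hNM
  refine ⟨h1.trans h2, fun heq => h3 ?_⟩
  rw [← heq]
  exact h1

include hI in
theorem bound_one (hd : Module.finrank k (MvPolynomial (Fin 3) k ⧸ I) ≤ (r + 2).choose 3) :
    Module.finrank k ↥(sigPiece I ({1} : Set (Fin 3))) ≤ (r + 3).choose 4 ∧
      (Module.finrank k ↥(sigPiece I ({1} : Set (Fin 3))) = (r + 3).choose 4 →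
        I = (Ideal.span (Set.range (MvPolynomial.X : Fin 3 → MvPolynomial (Fin 3) k))) ^ r) := by
  have hJ := isMonomial_permI π12 hI.1
  have e1 : π12 '' ({1} : Set (Fin 3)) = {2} := by
    rw [Set.image_singleton, π12, Equiv.swap_apply_left]
  have hperm := finrank_sigPiece_perm π12 hI.1 fin3_ne ({1} : Set (Fin 3))
  rw [e1] at hperm
  rw [← hperm]
  obtain ⟨N₀, hN₀⟩ := exists_bound_supp hJ
  obtain ⟨P, hP⟩ := exists_bound hJ
  set N := max (max N₀ (stairZ I 0 0)) (max (max P r) (stairZ (permI I π12) 0 0)) with hNdef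
  have hN : ∀ α : Fin 3 → ℤ, tPiece (permI I π12) α ≠ ⊥ → ∀ l, (α l).natAbs < N :=
    fun α hα l => lt_of_lt_of_le (hN₀ α hα l) (le_trans (le_max_left _ _) (le_max_left _ _))
  have hNM : stairZ I 0 0 ≤ N := le_trans (le_max_right _ _) (le_max_left _ _)
  have hNM' : stairZ (permI I π12) 0 0 ≤ N := le_trans (le_max_right _ _) (le_max_right _ _)
  have hNr : r ≤ N :=
    le_trans (le_max_right _ _) (le_trans (le_max_left _ _) (le_max_right _ _))
  have hNP : ∀ p q : ℕ, (N ≤ p ∨ N ≤ q) → stairZ (permI I π12) p q = 0 := by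
    intro p q h
    apply hP
    have : P ≤ N := le_trans (le_max_left _ _) (le_trans (le_max_left _ _) (le_max_right _ _))
    omega
  have h1 := sig_two_le hJ (diag_perm hI) N hN hNP
  have e2 : ∑ p ∈ Finset.range N, (p + 1) * ∑ q ∈ Finset.range N, stairZ (permI I π12) p q =
      ∑ p ∈ Finset.range N, (p + 1) * ∑ q ∈ Finset.range N, stairZ I p q :=
    Finset.sum_congr rfl (fun p _ => by rw [sum_stairZ_perm hI N p hNM hNM'])
  rw [e2] at h1
  obtain ⟨h2, h3⟩ := weighted_le hI r hd N hNr hNM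
  refine ⟨h1.trans h2, fun heq => h3 ?_⟩
  rw [← heq]
  exact h1

include hI in
/-- the four bounds with their equality cases -/
theorem main (hd : Module.finrank k (MvPolynomial (Fin 3) k ⧸ I) = Nat.choose (r + 2) 3) :
    (Module.finrank k ↥(sigPiece I ({2} : Set (Fin 3))) ≤ Nat.choose (r + 3) 4 ∧
      (Module.finrank k ↥(sigPiece I ({2} : Set (Fin 3))) = Nat.choose (r + 3) 4 ↔ I = (Ideal.span (Set.range (MvPolynomial.X : Fin 3 → MvPolynomial (Fin 3) k))) ^ r)) ∧
    (Module.finrank k ↥(sigPiece I ({1} : Set (Fin 3))) ≤ Nat.choose (r + 3) 4 ∧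
      (Module.finrank k ↥(sigPiece I ({1} : Set (Fin 3))) = Nat.choose (r + 3) 4 ↔ I = (Ideal.span (Set.range (MvPolynomial.X : Fin 3 → MvPolynomial (Fin 3) k))) ^ r)) ∧
    (Module.finrank k ↥(sigPiece I ({0, 1} : Set (Fin 3))) ≤ Nat.choose (r + 2) 4 ∧
      (Module.finrank k ↥(sigPiece I ({0, 1} : Set (Fin 3))) = Nat.choose (r + 2) 4 ↔ I = (Ideal.span (Set.range (MvPolynomial.X : Fin 3 → MvPolynomial (Fin 3) k))) ^ r)) ∧
    (Module.finrank k ↥(sigPiece I ({0, 2} : Set (Fin 3))) ≤ Nat.choose (r + 2) 4 ∧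
      (Module.finrank k ↥(sigPiece I ({0, 2} : Set (Fin 3))) = Nat.choose (r + 2) 4 ↔ I = (Ideal.span (Set.range (MvPolynomial.X : Fin 3 → MvPolynomial (Fin 3) k))) ^ r)) := by
  have c01 : ({0, 1} : Set (Fin 3)) = {2}ᶜ := by
    ext l; fin_cases l <;> simp
  have c02 : ({0, 2} : Set (Fin 3)) = {1}ᶜ := by
    ext l; fin_cases l <;> simp
  have hpas : (r + 3).choose 4 = (r + 2).choose 3 + (r + 2).choose 4 :=
    Nat.choose_succ_succ' (r + 2) 3
  obtain ⟨a1, a2⟩ := bound_two hI r hd.le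
  obtain ⟨b1, b2⟩ := bound_one hI r hd.le
  have s2 := main_sig hI.1 2
  have s1 := main_sig hI.1 1
  have p2 := Groth.Agent.S13442.result k r 2
  have p1 := Groth.Agent.S13442.result k r 1
  rw [c01, c02]
  refine ⟨⟨a1, a2, fun h => ?_⟩, ⟨b1, b2, fun h => ?_⟩, ⟨by omega, fun h => a2 (by omega), fun h => ?_⟩,
    ⟨by omega, fun h => b2 (by omega), fun h => ?_⟩⟩
  · rw [h]; exact p2.1
  · rw [h]; exact p1.1
  · rw [h]; exact p2.2.1
  · rw [h]; exact p1.2.1

end

end Groth.Agent.Helper7.SSBd
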