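import Mathlib

set_option autoImplicit false
universe u

namespace Groth.Agent.Helper7.SSTor

open IsLocalRing TensorProduct

/-- cardinality of `N / 𝔪 N` for a finite free module over `ℤ_p`. -/
theorem card_quot_max (p : ℕ) [Fact p.Prime] (N : Type u) [AddCommGroup N] [Module ℤ_[p] N]
    [Module.Free ℤ_[p] N] [Module.Finite ℤ_[p] N] :
    Nat.card (N ⧸ (maximalIdeal ℤ_[p] • (⊤ : Submodule ℤ_[p] N))) = p ^ Module.finrank ℤ_[p] N := by
  have e := (quotTensorEquivQuotSMul N (maximalIdeal ℤ_[p]))
  rw [← Nat.card_congr e.toEquiv]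
  have h1 : Nat.card (ResidueField ℤ_[p] ⊗[ℤ_[p]] N) =
      Nat.card (ResidueField ℤ_[p]) ^ Module.finrank (ResidueField ℤ_[p]) (ResidueField ℤ_[p] ⊗[ℤ_[p]] N) :=
    Module.natCard_eq_pow_finrank
  rw [Module.finrank_baseChange, Nat.card_congr (PadicInt.residueField (p := p)).toEquiv, Nat.card_zmod] at h1
  exact h1

/-- index of powers of an injective endomorphism. -/
theorem index_range_pow {R : Type*} [CommRing R] {N : Type*} [AddCommGroup N] [Module R N]
    (g : N →ₗ[R] N) (hg : Function.Injective g) (k : ℕ) :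
    (LinearMap.range (g ^ k)).toAddSubgroup.index = (LinearMap.range g).toAddSubgroup.index ^ k := by
  induction k with
  | zero =>
    have : LinearMap.range (1 : N →ₗ[R] N) = ⊤ := LinearMap.range_id
    simp [this]
  | succ k ih =>
    have h1 : LinearMap.range (g ^ (k + 1)) = (LinearMap.range (g ^ k)).map g := by
      rw [pow_succ', Module.End.mul_eq_comp, LinearMap.range_comp]
    rw [h1, Submodule.map_toAddSubgroup]
    have h2 := AddSubgroup.index_map_of_injective (H := (LinearMap.range (g ^ k)).toAddSubgroup)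
      (f := g.toAddMonoidHom) hg
    rw [ih, LinearMap.range_toAddSubgroup g] at h2
    rw [LinearMap.range_toAddSubgroup g, pow_succ]
    exact h2

end Groth.Agent.Helper7.SSTor
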