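import Mathlib
import Groth.Agent.Helper7.SSTorA

set_option autoImplicit false
universe u

namespace Groth.Agent.Helper7.SSTor

open IsLocalRing TensorProduct

theorem core (p : ℕ) [Fact p.Prime] (M : Type u) [AddCommGroup M] [Module ℤ_[p] M]
    [Module.Free ℤ_[p] M] [Module.Finite ℤ_[p] M]
    (f E : Module.End ℤ_[p] M) (U : M ≃ₗ[ℤ_[p]] M) (k : ℕ) (hk : 0 < k)
    (hEE : E * E = E) (hfE : f * E = 0) (hEf : E * f = 0)
    (hUE : ∀ x, E (U x) = U (E x))
    (hrel : ∀ x, E x = 0 → (f ^ k) x = (p : ℤ_[p]) • U x) :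
    (∀ x ∈ Submodule.torsion ℤ_[p] (M ⧸ LinearMap.range f), (p : ℤ_[p]) • x = 0) ∧
      ∃ r : ℕ, r * k = Module.finrank ℤ_[p] M - Module.finrank ℤ_[p] (LinearMap.ker f) ∧
        Nat.card (Submodule.torsion ℤ_[p] (M ⧸ LinearMap.range f)) = p ^ r := by
  have hp0 : (p : ℤ_[p]) ≠ 0 := by
    exact_mod_cast (Fact.out : p.Prime).ne_zero
  have hEEx : ∀ x, E (E x) = E x := fun x => by
    have := congrArg (fun h => h x) hEE
    simpa using this
  have hfEx : ∀ x, f (E x) = 0 := fun x => by
    have := congrArg (fun h => h x) hfE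
    simpa using this
  have hEfx : ∀ x, E (f x) = 0 := fun x => by
    have := congrArg (fun h => h x) hEf
    simpa using this
  -- f^k = f^(k-1) ∘ f
  have hfk : ∀ x, f x = 0 → (f ^ k) x = 0 := by
    intro x hx
    obtain ⟨j, rfl⟩ : ∃ j, k = j + 1 := ⟨k - 1, by omega⟩
    rw [pow_succ, Module.End.mul_apply, hx, map_zero]
  have hfk' : ∀ x, ∃ y, (f ^ k) x = f y := by
    intro x
    obtain ⟨j, rfl⟩ : ∃ j, k = j + 1 := ⟨k - 1, by omega⟩
    exact ⟨(f ^ j) x, by rw [pow_succ', Module.End.mul_apply]⟩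
  -- injectivity of f on ker E
  have hinj : ∀ x, E x = 0 → f x = 0 → x = 0 := by
    intro x hx hfx
    have h1 := hrel x hx
    rw [hfk x hfx] at h1
    have h2 : U x = 0 := by
      rcases smul_eq_zero.mp h1.symm with h | h
      · exact absurd h hp0
      · exact h
    exact U.map_eq_zero_iff.mp h2
  -- ker f = range E
  have hker : LinearMap.ker f = LinearMap.range E := by
    apply le_antisymm
    · intro x hx
      rw [LinearMap.mem_ker] at hx
      have h0 : x - E x = 0 := by
        apply hinj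
        · rw [map_sub, hEEx, sub_self]
        · rw [map_sub, hx, hfEx, sub_self]
      exact ⟨x, (sub_eq_zero.mp h0).symm⟩
    · rintro _ ⟨y, rfl⟩
      exact hfEx y
  have hrank : Module.finrank ℤ_[p] M - Module.finrank ℤ_[p] (LinearMap.ker f)
      = Module.finrank ℤ_[p] (LinearMap.ker E) := by
    rw [hker]
    have h := LinearMap.rank_range_add_rank_ker E
    have h2 := congrArg Cardinal.toNat h
    rw [Cardinal.toNat_add (Module.rank_lt_aleph0 _ _) (Module.rank_lt_aleph0 _ _)] at h2
    change Module.finrank ℤ_[p] (LinearMap.range E) + Module.finrank ℤ_[p] (LinearMap.ker E)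
      = Module.finrank ℤ_[p] M at h2
    omega
  rw [hrank]
  -- restriction of f to ker E
  have hmaps : ∀ x ∈ LinearMap.ker E, f x ∈ LinearMap.ker E := fun x _ => hEfx x
  set g : LinearMap.ker E →ₗ[ℤ_[p]] LinearMap.ker E := f.restrict hmaps with hg
  have hgk : ∀ x : LinearMap.ker E, (((g ^ k) x : LinearMap.ker E) : M) = (f ^ k) x := by
    intro x
    rw [hg, Module.End.pow_restrict]
    rfl
  have hginj : Function.Injective g := by
    rw [← LinearMap.ker_eq_bot, LinearMap.ker_eq_bot']
    intro x hx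
    have h1 : f x = 0 := by
      have := congrArg Subtype.val hx
      simpa [hg] using this
    exact Subtype.ext (hinj x x.2 h1)
  -- range (g^k) = 𝔪 • ⊤
  have hrange : LinearMap.range (g ^ k) = maximalIdeal ℤ_[p] • (⊤ : Submodule ℤ_[p] (LinearMap.ker E)) := by
    apply le_antisymm
    · rintro _ ⟨x, rfl⟩
      have hUx : U x ∈ LinearMap.ker E := by
        rw [LinearMap.mem_ker, hUE, (LinearMap.mem_ker.mp x.2), map_zero]
      have h1 : (g ^ k) x = (p : ℤ_[p]) • (⟨U x, hUx⟩ : LinearMap.ker E) := by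
        apply Subtype.ext
        rw [hgk, hrel x x.2]
        rfl
      rw [h1]
      apply Submodule.smul_mem_smul _ Submodule.mem_top
      rw [PadicInt.maximalIdeal_eq_span_p]
      exact Ideal.mem_span_singleton_self _
    · rw [Submodule.smul_le]
      intro a ha x _
      rw [PadicInt.maximalIdeal_eq_span_p, Ideal.mem_span_singleton] at ha
      obtain ⟨b, rfl⟩ := ha
      have hUx : U.symm (b • (x : M)) ∈ LinearMap.ker E := by
        rw [LinearMap.mem_ker]
        apply U.injective
        rw [← hUE, U.apply_symm_apply, map_zero, map_smul, LinearMap.mem_ker.mp x.2, smul_zero]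
      refine ⟨⟨U.symm (b • (x : M)), hUx⟩, ?_⟩
      apply Subtype.ext
      rw [hgk, hrel _ hUx, U.apply_symm_apply, mul_smul]
      rfl
  -- the projection
  set π : LinearMap.ker E →ₗ[ℤ_[p]] M ⧸ LinearMap.range f :=
    (LinearMap.range f).mkQ ∘ₗ (LinearMap.ker E).subtype with hπ
  have hkerπ : LinearMap.ker π = LinearMap.range g := by
    ext x
    rw [LinearMap.mem_ker, hπ, LinearMap.comp_apply, Submodule.mkQ_apply,
      Submodule.Quotient.mk_eq_zero, Submodule.subtype_apply]
    constructor
    · rintro ⟨y, hy⟩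
      have hy' : y - E y ∈ LinearMap.ker E := by
        rw [LinearMap.mem_ker, map_sub, hEEx, sub_self]
      refine ⟨⟨y - E y, hy'⟩, ?_⟩
      apply Subtype.ext
      rw [← hy]
      change f (y - E y) = f y
      rw [map_sub, hfEx, sub_zero]
    · rintro ⟨y, rfl⟩
      exact ⟨y, rfl⟩
  have htors : Submodule.torsion ℤ_[p] (M ⧸ LinearMap.range f) = LinearMap.range π := by
    ext z
    constructor
    · intro hz
      rw [Submodule.mem_torsion_iff] at hz
      obtain ⟨a, ha⟩ := hz
      obtain ⟨x, rfl⟩ := Submodule.Quotient.mk_surjective _ z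
      have ha0 : (a : ℤ_[p]) ≠ 0 := nonZeroDivisors.coe_ne_zero a
      have h1 : (a : ℤ_[p]) • x ∈ LinearMap.range f := by
        rw [← Submodule.Quotient.mk_eq_zero, Submodule.Quotient.mk_smul]
        exact ha
      obtain ⟨y, hy⟩ := h1
      have h2 : E x = 0 := by
        have h3 : (a : ℤ_[p]) • E x = 0 := by
          rw [← map_smul, ← hy, hEfx]
        rcases smul_eq_zero.mp h3 with h | h
        · exact absurd h ha0
        · exact h
      exact ⟨⟨x, h2⟩, rfl⟩
    · rintro ⟨x, rfl⟩
      rw [Submodule.mem_torsion_iff]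
      refine ⟨⟨(p : ℤ_[p]), mem_nonZeroDivisors_of_ne_zero hp0⟩, ?_⟩
      change (p : ℤ_[p]) • π x = 0
      rw [← map_smul, ← LinearMap.mem_ker, hkerπ]
      have hUx : U.symm (x : M) ∈ LinearMap.ker E := by
        rw [LinearMap.mem_ker]
        apply U.injective
        rw [← hUE, U.apply_symm_apply, map_zero, LinearMap.mem_ker.mp x.2]
      obtain ⟨y, hy⟩ := hfk' (U.symm (x : M))
      have hy' : y - E y ∈ LinearMap.ker E := by
        rw [LinearMap.mem_ker, map_sub, hEEx, sub_self]
      refine ⟨⟨y - E y, hy'⟩, ?_⟩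
      apply Subtype.ext
      change f (y - E y) = (p : ℤ_[p]) • (x : M)
      rw [map_sub, hfEx, sub_zero, ← hy, hrel _ hUx, U.apply_symm_apply]
  constructor
  · intro z hz
    rw [htors] at hz
    obtain ⟨x, rfl⟩ := hz
    rw [← map_smul, ← LinearMap.mem_ker, hkerπ]
    have hUx : U.symm (x : M) ∈ LinearMap.ker E := by
      rw [LinearMap.mem_ker]
      apply U.injective
      rw [← hUE, U.apply_symm_apply, map_zero, LinearMap.mem_ker.mp x.2]
    obtain ⟨y, hy⟩ := hfk' (U.symm (x : M))
    have hy' : y - E y ∈ LinearMap.ker E := by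
      rw [LinearMap.mem_ker, map_sub, hEEx, sub_self]
    refine ⟨⟨y - E y, hy'⟩, ?_⟩
    apply Subtype.ext
    change f (y - E y) = (p : ℤ_[p]) • (x : M)
    rw [map_sub, hfEx, sub_zero, ← hy, hrel _ hUx, U.apply_symm_apply]
  · -- cardinality
    have hcard : Nat.card (Submodule.torsion ℤ_[p] (M ⧸ LinearMap.range f))
        = (LinearMap.range g).toAddSubgroup.index := by
      rw [htors, ← Nat.card_congr (LinearMap.quotKerEquivRange π).toEquiv, hkerπ]
      rfl
    have hpow : (LinearMap.range g).toAddSubgroup.index ^ k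
        = p ^ Module.finrank ℤ_[p] (LinearMap.ker E) := by
      rw [← index_range_pow g hginj k, hrange, ← card_quot_max p (LinearMap.ker E)]
      rfl
    rw [hcard]
    set a := (LinearMap.range g).toAddSubgroup.index with ha
    have hdvd : a ∣ p ^ Module.finrank ℤ_[p] (LinearMap.ker E) := by
      rw [← hpow]
      exact dvd_pow_self a hk.ne'
    obtain ⟨r, -, hr⟩ := (Nat.dvd_prime_pow (Fact.out : p.Prime)).mp hdvd
    refine ⟨r, ?_, hr⟩
    rw [hr, ← pow_mul] at hpow
    exact Nat.pow_right_injective (Fact.out : p.Prime).two_le hpow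

end Groth.Agent.Helper7.SSTor
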