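import Mathlib
import Groth.Agent.Helper7.SSTorB

set_option autoImplicit false
universe u

namespace Groth.Agent.Helper7.SSTor

theorem cancel_smul {p : ℕ} [Fact p.Prime] {M : Type u} [AddCommGroup M] [Module ℤ_[p] M]
    [Module.Free ℤ_[p] M] {a : ℤ_[p]} (ha : a ≠ 0) {x y : M} (h : a • x = a • y) : x = y := by
  have h1 : a • (x - y) = 0 := by rw [smul_sub, h, sub_self]
  rcases smul_eq_zero.mp h1 with h2 | h2
  · exact absurd h2 ha
  · exact sub_eq_zero.mp h2

theorem case_two [Fact (Nat.Prime 2)] (M : Type u) [AddCommGroup M] [Module ℤ_[2] M]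
    [Module.Free ℤ_[2] M] [Module.Finite ℤ_[2] M]
    (A : M ≃ₗ[ℤ_[2]] M) (hA : A ^ 2 = 1) (f : Module.End ℤ_[2] M)
    (hf : f = (A : M →ₗ[ℤ_[2]] M) - 1) (B : Module.End ℤ_[2] M) (hB : f = (2 : ℤ_[2]) • B) :
    (∀ x ∈ Submodule.torsion ℤ_[2] (M ⧸ LinearMap.range f), ((2 : ℕ) : ℤ_[2]) • x = 0) ∧
      ∃ r : ℕ, r * 1 = Module.finrank ℤ_[2] M - Module.finrank ℤ_[2] (LinearMap.ker f) ∧
        Nat.card (Submodule.torsion ℤ_[2] (M ⧸ LinearMap.range f)) = 2 ^ r := by
  have h2 : (2 : ℤ_[2]) ≠ 0 := by
    have : ((2 : ℕ) : ℤ_[2]) ≠ 0 := by exact_mod_cast (by norm_num : (2 : ℕ) ≠ 0)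
    simpa using this
  have h4 : (4 : ℤ_[2]) ≠ 0 := by
    have : ((4 : ℕ) : ℤ_[2]) ≠ 0 := by exact_mod_cast (by norm_num : (4 : ℕ) ≠ 0)
    simpa using this
  have hAx : ∀ x, A x = x + f x := fun x => by rw [hf]; simp
  have hAA : ∀ x, A (A x) = x := fun x => by
    have := congrArg (fun e : M ≃ₗ[ℤ_[2]] M => e x) hA
    simpa [pow_two] using this
  have hfx : ∀ x, f x = (2 : ℤ_[2]) • B x := fun x => by rw [hB]; rfl
  have hff : ∀ x, f (f x) = -(2 : ℤ_[2]) • f x := fun x => by
    have h := hAA x
    rw [hAx (A x), hAx x, map_add] at h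
    linear_combination (norm := module) h
  have hBB : ∀ x, B (B x) = - B x := fun x => by
    apply cancel_smul h4
    have h := hff x
    rw [hfx (f x), hfx x, map_smul] at h
    linear_combination (norm := module) h
  have key := core 2 M f (1 + B) (LinearEquiv.neg ℤ_[2]) 1 Nat.one_pos ?_ ?_ ?_ ?_ ?_
  · exact key
  · ext x
    simp only [Module.End.mul_apply, LinearMap.add_apply, Module.End.one_apply, map_add, hBB]
    abel
  · ext x
    simp only [Module.End.mul_apply, LinearMap.add_apply, Module.End.one_apply, map_add,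
      LinearMap.zero_apply, hfx, hBB]
    module
  · ext x
    simp only [Module.End.mul_apply, LinearMap.add_apply, Module.End.one_apply, map_add,
      LinearMap.zero_apply, hfx, hBB, map_smul]
    module
  · intro x
    simp only [LinearEquiv.neg_apply, LinearMap.add_apply, Module.End.one_apply, map_neg]
  · intro x hx
    simp only [LinearMap.add_apply, Module.End.one_apply] at hx
    rw [pow_one, hfx, LinearEquiv.neg_apply]
    have : B x = -x := by linear_combination (norm := module) hx
    rw [this]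
    simp

theorem case_three [Fact (Nat.Prime 3)] (M : Type u) [AddCommGroup M] [Module ℤ_[3] M]
    [Module.Free ℤ_[3] M] [Module.Finite ℤ_[3] M]
    (A : M ≃ₗ[ℤ_[3]] M) (hA : A ^ 3 = 1) (f : Module.End ℤ_[3] M)
    (hf : f = (A : M →ₗ[ℤ_[3]] M) - 1) (B : Module.End ℤ_[3] M) (hB : f ^ 2 = (3 : ℤ_[3]) • B) :
    (∀ x ∈ Submodule.torsion ℤ_[3] (M ⧸ LinearMap.range f), ((3 : ℕ) : ℤ_[3]) • x = 0) ∧
      ∃ r : ℕ, r * 2 = Module.finrank ℤ_[3] M - Module.finrank ℤ_[3] (LinearMap.ker f) ∧
        Nat.card (Submodule.torsion ℤ_[3] (M ⧸ LinearMap.range f)) = 3 ^ r := by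
  have h3 : (3 : ℤ_[3]) ≠ 0 := by
    have : ((3 : ℕ) : ℤ_[3]) ≠ 0 := by exact_mod_cast (by norm_num : (3 : ℕ) ≠ 0)
    simpa using this
  have hAx : ∀ x, A x = x + f x := fun x => by rw [hf]; simp
  have hAAA : ∀ x, A (A (A x)) = x := fun x => by
    have := congrArg (fun e : M ≃ₗ[ℤ_[3]] M => e x) hA
    simpa [pow_succ] using this
  have hffx : ∀ x, f (f x) = (3 : ℤ_[3]) • B x := fun x => by
    have := congrArg (fun e : Module.End ℤ_[3] M => e x) hB
    simpa [pow_two] using this
  have hfff : ∀ x, f (f (f x)) = -(3 : ℤ_[3]) • f (f x) - (3 : ℤ_[3]) • f x := fun x => by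
    have h := hAAA x
    rw [hAx (A (A x)), hAx (A x), hAx x] at h
    simp only [map_add] at h
    linear_combination (norm := module) h
  have hBf : ∀ x, B (f x) = f (B x) := fun x => by
    apply cancel_smul h3
    rw [← hffx, ← map_smul, ← hffx]
  have hfE : ∀ x, f (x + f x + B x) = 0 := fun x => by
    apply cancel_smul h3
    rw [smul_zero, map_add, map_add, smul_add, smul_add, ← map_smul f _ (B x), ← hffx, hfff]
    module
  have hBE : ∀ x, B (x + f x + B x) = 0 := fun x => by
    apply cancel_smul h3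
    rw [smul_zero, ← hffx, hfE, map_zero]
  have key := core 3 M f (1 + f + B) (A.trans (LinearEquiv.neg ℤ_[3])) 2 (by norm_num) ?_ ?_ ?_ ?_ ?_
  · exact key
  · ext x
    simp only [Module.End.mul_apply, LinearMap.add_apply, Module.End.one_apply]
    have h1 := hfE x
    have h2 := hBE x
    rw [h1, h2]
    abel
  · ext x
    simp only [Module.End.mul_apply, LinearMap.add_apply, Module.End.one_apply, LinearMap.zero_apply]
    exact hfE x
  · ext x
    simp only [Module.End.mul_apply, LinearMap.add_apply, Module.End.one_apply, LinearMap.zero_apply]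
    have h1 := hfE x
    rw [map_add, map_add] at h1
    rw [hBf]
    exact h1
  · intro x
    simp only [LinearEquiv.trans_apply, LinearEquiv.neg_apply, LinearMap.add_apply,
      Module.End.one_apply, map_neg]
    congr 1
    rw [hAx x, hAx (x + f x + B x), hfE, add_zero]
    have h1 := hfE x
    rw [map_add, map_add] at h1
    simp only [map_add, hBf]
    linear_combination (norm := module) h1
  · intro x hx
    simp only [LinearMap.add_apply, Module.End.one_apply] at hx
    rw [pow_two, Module.End.mul_apply, hffx, LinearEquiv.trans_apply, LinearEquiv.neg_apply, hAx]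
    have : B x = -(x + f x) := by linear_combination (norm := module) hx
    rw [this]
    simp

end Groth.Agent.Helper7.SSTor
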