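import Mathlib

namespace Groth.Agent.Helper7.STrace

universe u v w

open LinearMap

variable {R : Type u} [CommRing R] {ι : Type v} [Fintype ι] [DecidableEq ι]
  (M : ι → Type w) [∀ i, AddCommGroup (M i)] [∀ i, Module R (M i)]
  [∀ i, Module.Free R (M i)] [∀ i, Module.Finite R (M i)]

theorem sum_single_proj : (∑ i : ι, (single R M i) ∘ₗ (proj i : (Π k, M k) →ₗ[R] M i)) = LinearMap.id := by
  ext x j
  simp [LinearMap.sum_apply, Finset.sum_apply, Pi.single_apply]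

/-- the trace of an endomorphism of a product is the sum of the traces of its diagonal blocks -/
theorem trace_eq_sum_blocks (f : (Π k, M k) →ₗ[R] (Π k, M k)) :
    trace R (Π k, M k) f = ∑ i : ι, trace R (M i) ((proj i) ∘ₗ f ∘ₗ (single R M i)) := by
  have h1 : f = ∑ i : ι, (f ∘ₗ single R M i) ∘ₗ (proj i : (Π k, M k) →ₗ[R] M i) := by
    conv_lhs => rw [← LinearMap.comp_id f, ← sum_single_proj M]
    ext x j
    simp [LinearMap.sum_apply, map_sum]
  conv_lhs => rw [h1, map_sum]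
  refine Finset.sum_congr rfl fun i _ => ?_
  rw [trace_comp_comm']

/-- sign of an integer -/
def sgn (R : Type u) [CommRing R] (z : ℤ) : R := (-1 : R) ^ z.natAbs

theorem sgn_eq (z : ℤ) : sgn R z = if Even z then 1 else -1 := by
  unfold sgn
  split_ifs with h
  · exact (Int.natAbs_even.mpr h).neg_one_pow
  · rw [Int.not_even_iff_odd] at h
    exact (Int.natAbs_odd.mpr h).neg_one_pow

theorem sgn_add (z w : ℤ) : sgn R (z + w) = sgn R z * sgn R w := by
  simp only [sgn_eq, Int.even_add]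
  by_cases hz : Even z <;> by_cases hw : Even w <;> simp [hz, hw]

theorem sgn_mul_self (z : ℤ) : sgn R z * sgn R z = 1 := by
  simp only [sgn_eq]
  by_cases hz : Even z <;> simp [hz]

theorem sgn_mul_neg (a : ℤ) : sgn R (a * (-a)) = sgn R a := by
  simp only [sgn_eq, Int.even_mul, even_neg, or_self]

end Groth.Agent.Helper7.STrace

namespace Groth.Agent.Helper7.STrace

universe u v w

open LinearMap

variable {R : Type u} [CommRing R] {ι : Type v} [Fintype ι] [DecidableEq ι]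
  (deg : ι → ℤ) (M : ι → Type w) [∀ i, AddCommGroup (M i)] [∀ i, Module R (M i)]
  [∀ i, Module.Free R (M i)] [∀ i, Module.Finite R (M i)]

/-- the grading involution -/
noncomputable def eps : (Π k, M k) →ₗ[R] (Π k, M k) :=
  ∑ i : ι, (single R M i) ∘ₗ ((sgn R (deg i)) • (proj i : (Π k, M k) →ₗ[R] M i))

theorem proj_eps (j : ι) :
    (proj j : (Π k, M k) →ₗ[R] M j) ∘ₗ eps deg M = sgn R (deg j) • (proj j : (Π k, M k) →ₗ[R] M j) := by
  ext x
  simp [eps, LinearMap.sum_apply, Finset.sum_apply, Pi.single_apply]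

theorem strace_eq (f : (Π k, M k) →ₗ[R] (Π k, M k)) :
    trace R (Π k, M k) (eps deg M ∘ₗ f) =
      ∑ j : ι, sgn R (deg j) * trace R (M j) ((proj j) ∘ₗ f ∘ₗ (single R M j)) := by
  rw [trace_eq_sum_blocks]
  refine Finset.sum_congr rfl fun j _ => ?_
  rw [← LinearMap.comp_assoc, ← LinearMap.comp_assoc, proj_eps, LinearMap.smul_comp,
    LinearMap.smul_comp, map_smul, smul_eq_mul, LinearMap.comp_assoc]

theorem result17 (a : ℤ) (ha : a ≠ 0) (φ : (Π k, M k) →ₗ[R] (Π k, M k))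
    (hφ : ∀ i j : ι, deg j ≠ deg i + a → (proj j) ∘ₗ φ ∘ₗ (single R M i) = 0) :
    trace R (Π k, M k) (eps deg M ∘ₗ φ) = 0 := by
  rw [strace_eq]
  apply Finset.sum_eq_zero
  intro j _
  rw [hφ j j (by omega), map_zero, mul_zero]

theorem block_comp (f g : (Π k, M k) →ₗ[R] (Π k, M k)) (j : ι) :
    (proj j) ∘ₗ (f ∘ₗ g) ∘ₗ (single R M j) =
      ∑ l : ι, ((proj j) ∘ₗ f ∘ₗ (single R M l)) ∘ₗ ((proj l) ∘ₗ g ∘ₗ (single R M j)) := by
  have : f ∘ₗ g = f ∘ₗ (∑ l : ι, (single R M l) ∘ₗ (proj l : (Π k, M k) →ₗ[R] M l)) ∘ₗ g := by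
    rw [sum_single_proj, LinearMap.id_comp]
  rw [this]
  ext x
  simp [LinearMap.sum_apply, map_sum]

theorem result18 (a b : ℤ) (φ ψ : (Π k, M k) →ₗ[R] (Π k, M k))
    (hφ : ∀ i j : ι, deg j ≠ deg i + a → (proj j) ∘ₗ φ ∘ₗ (single R M i) = 0)
    (hψ : ∀ i j : ι, deg j ≠ deg i + b → (proj j) ∘ₗ ψ ∘ₗ (single R M i) = 0) :
    trace R (Π k, M k) (eps deg M ∘ₗ (φ ∘ₗ ψ - (sgn R (a * b)) • (ψ ∘ₗ φ))) = 0 := by
  rw [LinearMap.comp_sub, LinearMap.comp_smul, map_sub, map_smul, strace_eq, strace_eq]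
  simp_rw [block_comp, map_sum, Finset.mul_sum]
  rw [Finset.sum_comm (f := fun j l => sgn R (deg j) *
    (trace R (M j)) ((proj j ∘ₗ ψ ∘ₗ single R M l) ∘ₗ proj l ∘ₗ φ ∘ₗ single R M j))]
  rw [smul_eq_mul, Finset.mul_sum, ← Finset.sum_sub_distrib]
  apply Finset.sum_eq_zero
  intro j _
  rw [Finset.mul_sum, ← Finset.sum_sub_distrib]
  apply Finset.sum_eq_zero
  intro l _
  rw [trace_comp_comm' (proj j ∘ₗ φ ∘ₗ single R M l) (proj l ∘ₗ ψ ∘ₗ single R M j)]
  by_cases h1 : deg j = deg l + a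
  · by_cases h2 : deg l = deg j + b
    · have hb : b = -a := by omega
      rw [hb, sgn_mul_neg, h1, sgn_add]
      ring
    · rw [hψ j l h2]
      simp
  · rw [hφ l j h1]
    simp

end Groth.Agent.Helper7.STrace
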