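import Groth.Prelude.Def_SchFin2
import Mathlib

set_option autoImplicit false

namespace Groth.Agent.Helper7.SchConn

open SchFin

universe u

/-- connectedness of the prime spectrum in terms of idempotents. -/
theorem connectedSpace_iff_idem (R : Type u) [CommRing R] :
    ConnectedSpace (PrimeSpectrum R) ↔
      Nontrivial R ∧ ∀ e : R, IsIdempotentElem e → e = 0 ∨ e = 1 := by
  constructor
  · intro h
    have hnt : Nontrivial R := by
      obtain ⟨p⟩ := h.toNonempty
      by_contra hnt
      rw [not_nontrivial_iff_subsingleton] at hnt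
      exact p.2.ne_top (Ideal.eq_top_iff_one _ |>.mpr (by rw [Subsingleton.elim (1 : R) 0]; exact p.asIdeal.zero_mem))
    refine ⟨hnt, fun e he => ?_⟩
    have hcl : IsClopen ((PrimeSpectrum.basicOpen e : Set (PrimeSpectrum R))) :=
      PrimeSpectrum.isClopen_iff.mpr ⟨e, he, rfl⟩
    rcases isClopen_iff.mp hcl with h0 | h1
    · left
      apply PrimeSpectrum.basicOpen_injOn_isIdempotentElem he IsIdempotentElem.zero
      apply SetLike.ext'
      rw [h0, PrimeSpectrum.basicOpen_zero]
      rfl
    · right
      apply PrimeSpectrum.basicOpen_injOn_isIdempotentElem he IsIdempotentElem.one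
      apply SetLike.ext'
      rw [h1, PrimeSpectrum.basicOpen_one]
      rfl
  · rintro ⟨hnt, hid⟩
    haveI : PreconnectedSpace (PrimeSpectrum R) := by
      rw [preconnectedSpace_iff_clopen]
      intro s hs
      obtain ⟨e, he, rfl⟩ := PrimeSpectrum.isClopen_iff.mp hs
      rcases hid e he with rfl | rfl
      · left; rw [PrimeSpectrum.basicOpen_zero]; rfl
      · right; rw [PrimeSpectrum.basicOpen_one]; rfl
    exact { toNonempty := inferInstance }

theorem isWellConnected_iff (X : RSpace.{u}) :
    X.IsWellConnected ↔ (X.IsTopConnected ∧ X.IsPwConnected) := by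
  unfold RSpace.IsWellConnected
  constructor
  · rintro ⟨hc, hpw⟩
    refine ⟨?_, hpw⟩
    have hc' := (connectedSpace_iff_idem _).mp hc
    obtain ⟨hnt, hid⟩ := hc'
    have hne : Nonempty X.pt := by
      by_contra hemp
      rw [not_nonempty_iff] at hemp
      have : (0 : X.sectRing Set.univ) = 1 := by
        apply Subtype.ext
        funext q
        exact (hemp.false q.1).elim
      exact zero_ne_one this
    refine ⟨hne, fun p₀ q₀ => ?_⟩
    by_contra hpq
    classical
    -- the idempotent of the component of p₀
    let C : Set X.pt := {p | Relation.EqvGen (fun a b : X.pt => a ≤ b) p₀ p}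
    have hC : ∀ p q : X.pt, p ≤ q → (p ∈ C ↔ q ∈ C) := by
      intro p q hle
      constructor
      · intro hp
        exact Relation.EqvGen.trans _ _ _ hp (Relation.EqvGen.rel _ _ hle)
      · intro hq
        exact Relation.EqvGen.trans _ _ _ hq (Relation.EqvGen.symm _ _ (Relation.EqvGen.rel _ _ hle))
    let e : X.sectRing Set.univ := ⟨fun q => if q.1 ∈ C then 1 else 0, by
      intro q q' hle
      show X.res hle (if q.1 ∈ C then 1 else 0) = if q'.1 ∈ C then 1 else 0
      by_cases hq : q.1 ∈ C
      · rw [if_pos hq, if_pos ((hC _ _ hle).mp hq), map_one]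
      · rw [if_neg hq, if_neg (fun h => hq ((hC _ _ hle).mpr h)), map_zero]⟩
    have he : IsIdempotentElem e := by
      apply Subtype.ext
      funext q
      show (if q.1 ∈ C then (1 : X.ring q.1) else 0) * (if q.1 ∈ C then 1 else 0) =
        if q.1 ∈ C then 1 else 0
      split_ifs <;> simp
    haveI : Nontrivial (X.ring p₀) := ((connectedSpace_iff_idem _).mp (hpw p₀)).1
    haveI : Nontrivial (X.ring q₀) := ((connectedSpace_iff_idem _).mp (hpw q₀)).1
    rcases hid e he with h0 | h1
    · have := congrArg (fun t : X.sectRing Set.univ => t.1 ⟨p₀, trivial⟩) h0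
      simp only at this
      have hp₀ : p₀ ∈ C := Relation.EqvGen.refl _
      change (if p₀ ∈ C then (1 : X.ring p₀) else 0) = 0 at this
      rw [if_pos hp₀] at this
      exact one_ne_zero this
    · have := congrArg (fun t : X.sectRing Set.univ => t.1 ⟨q₀, trivial⟩) h1
      simp only at this
      change (if q₀ ∈ C then (1 : X.ring q₀) else 0) = 1 at this
      rw [if_neg (show ¬ q₀ ∈ C from hpq)] at this
      exact zero_ne_one this
  · rintro ⟨⟨hne, hconn⟩, hpw⟩
    refine ⟨?_, hpw⟩
    show ConnectedSpace (PrimeSpectrum (X.sectRing Set.univ))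
    rw [connectedSpace_iff_idem]
    obtain ⟨p₀⟩ := hne
    haveI : Nontrivial (X.ring p₀) := ((connectedSpace_iff_idem _).mp (hpw p₀)).1
    constructor
    · refine ⟨⟨0, 1, fun h => ?_⟩⟩
      have := congrArg (fun t : X.sectRing Set.univ => t.1 ⟨p₀, trivial⟩) h
      exact zero_ne_one this
    · intro e he
      have hpt : ∀ p : X.pt, e.1 ⟨p, trivial⟩ = 0 ∨ e.1 ⟨p, trivial⟩ = 1 := by
        intro p
        apply ((connectedSpace_iff_idem _).mp (hpw p)).2
        have := congrArg (fun t : X.sectRing Set.univ => t.1 ⟨p, trivial⟩) he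
        exact this
      have hstep : ∀ p q : X.pt, p ≤ q → (e.1 ⟨p, trivial⟩ = 0 ↔ e.1 ⟨q, trivial⟩ = 0) := by
        intro p q hle
        haveI : Nontrivial (X.ring q) := ((connectedSpace_iff_idem _).mp (hpw q)).1
        have hres := e.2 ⟨p, trivial⟩ ⟨q, trivial⟩ hle
        constructor
        · intro h0
          rw [← hres, h0, map_zero]
        · intro h0
          rcases hpt p with h | h
          · exact h
          · rw [h, map_one] at hres
            rw [h0] at hres
            exact absurd hres one_ne_zero
      have hall : ∀ p q : X.pt, Relation.EqvGen (fun a b : X.pt => a ≤ b) p q →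
          (e.1 ⟨p, trivial⟩ = 0 ↔ e.1 ⟨q, trivial⟩ = 0) := by
        intro p q hpq
        induction hpq with
        | rel a b h => exact hstep a b h
        | refl a => exact Iff.rfl
        | symm a b _ ih => exact ih.symm
        | trans a b c _ _ ih1 ih2 => exact ih1.trans ih2
      rcases hpt p₀ with h0 | h1
      · left
        apply Subtype.ext
        funext q
        exact (hall p₀ q.1 (hconn p₀ q.1)).mp h0
      · right
        apply Subtype.ext
        funext q
        rcases hpt q.1 with h | h
        · have := (hall p₀ q.1 (hconn p₀ q.1)).mpr h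
          rw [h1] at this
          exact absurd this one_ne_zero
        · exact h

end Groth.Agent.Helper7.SchConn
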