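import Groth.Prelude.Def_SchFin2
import Groth.Agent.Helper7.SchConn
import Mathlib

set_option autoImplicit false

namespace Groth.Agent.Helper7.SchConn

open SchFin

universe u

/-- an algebra character of a finite product of copies of a connected ring is a projection. -/
theorem exists_unique_proj {R : Type u} [CommRing R] (hR : ConnectedSpace (PrimeSpectrum R))
    {F : Type} [Finite F] (χ : (F → R) →ₐ[R] R) :
    ∃ i : F, (∀ g : F → R, χ g = g i) ∧
      ∀ j : F, (by classical exact χ (Pi.single j 1) = 1) → j = i := by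
  classical
  cases nonempty_fintype F
  obtain ⟨hnt, hid⟩ := (connectedSpace_iff_idem R).mp hR
  have hidem : ∀ i : F, χ (Pi.single i 1) = 0 ∨ χ (Pi.single i 1) = 1 := by
    intro i
    apply hid
    show χ (Pi.single i 1) * χ (Pi.single i 1) = χ (Pi.single i 1)
    rw [← map_mul, ← Pi.single_mul, one_mul]
  have hsum : ∑ i : F, χ (Pi.single i 1) = 1 := by
    rw [← map_sum, Finset.univ_sum_single]
    exact map_one χ
  have hexp : ∀ g : F → R, χ g = ∑ i : F, g i * χ (Pi.single i 1) := by
    intro g
    have : g = ∑ i : F, g i • (Pi.single i (1 : R) : F → R) := by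
      funext j
      simp [Finset.sum_apply, Pi.single_apply]
    conv_lhs => rw [this]
    rw [map_sum]
    refine Finset.sum_congr rfl (fun i _ => ?_)
    rw [map_smul, smul_eq_mul]
  have hex : ∃ i : F, χ (Pi.single i 1) = 1 := by
    by_contra hno
    push Not at hno
    have : ∑ i : F, χ (Pi.single i 1) = 0 :=
      Finset.sum_eq_zero (fun i _ => (hidem i).resolve_right (hno i))
    rw [this] at hsum
    exact zero_ne_one hsum
  obtain ⟨i, hi⟩ := hex
  have horth : ∀ j : F, j ≠ i → χ (Pi.single j 1) = 0 := by
    intro j hj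
    rcases hidem j with h | h
    · exact h
    · exfalso
      have : χ (Pi.single j 1) * χ (Pi.single i 1) = 0 := by
        rw [← map_mul]
        have : (Pi.single j (1 : R) : F → R) * Pi.single i 1 = 0 := by
          funext k
          simp only [Pi.mul_apply, Pi.single_apply, Pi.zero_apply]
          split_ifs with h1 h2
          · exact absurd (h1 ▸ h2 : j = i) hj
          · simp
          · simp
          · simp
        rw [this, map_zero]
      rw [h, hi, one_mul] at this
      exact one_ne_zero this
  refine ⟨i, fun g => ?_, fun j hj => ?_⟩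
  · rw [hexp g, Finset.sum_eq_single i]
    · rw [hi, mul_one]
    · intro j _ hj
      rw [horth j hj, mul_zero]
    · intro h; exact absurd (Finset.mem_univ i) h
  · by_contra hne
    have h0 := horth j hne
    have hj' : χ (Pi.single j 1) = 1 := by convert hj
    rw [h0] at hj'
    exact zero_ne_one hj'

theorem exists_map_of_trivial_covers (X : RSpace.{u}) (hW : X.IsWellConnected)
    (F E : Type) [Finite F] [Finite E]
    (f : ∀ p : X.pt, (F → X.ring p) →ₐ[X.ring p] (E → X.ring p))
    (hf : ∀ (p q : X.pt) (h : p ≤ q) (g : F → X.ring p) (e : E),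
      X.res h (f p g e) = f q (fun i => X.res h (g i)) e) :
    ∃ φ : E → F, ∀ (p : X.pt) (g : F → X.ring p) (e : E), f p g e = g (φ e) := by
  classical
  obtain ⟨⟨hne, hconn⟩, hpw⟩ := (isWellConnected_iff X).mp hW
  have hχ : ∀ (p : X.pt) (e : E), ∃ i : F, (∀ g : F → X.ring p, f p g e = g i) ∧
      ∀ j : F, f p (Pi.single j 1) e = 1 → j = i := by
    intro p e
    obtain ⟨i, h1, h2⟩ := exists_unique_proj (hpw p)
      ((Pi.evalAlgHom (X.ring p) (fun _ : E => X.ring p) e).comp (f p))
    refine ⟨i, fun g => h1 g, fun j hj => h2 j ?_⟩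
    exact hj
  choose Φ hΦ1 hΦ2 using hχ
  have hstep : ∀ p q : X.pt, p ≤ q → Φ p = Φ q := by
    intro p q hle
    funext e
    apply hΦ2 q e
    have h1 := hf p q hle (Pi.single (Φ p e) 1) e
    rw [hΦ1 p, Pi.single_eq_same, map_one] at h1
    have h2 : (fun i => X.res hle ((Pi.single (Φ p e) 1 : F → X.ring p) i)) =
        (Pi.single (Φ p e) 1 : F → X.ring q) := by
      funext i
      by_cases hi : i = Φ p e
      · subst hi; simp
      · simp [Pi.single_eq_of_ne hi]
    rw [h2] at h1
    exact h1.symm
  have hall : ∀ p q : X.pt, Relation.EqvGen (fun a b : X.pt => a ≤ b) p q → Φ p = Φ q := by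
    intro p q hpq
    induction hpq with
    | rel a b h => exact hstep a b h
    | refl a => rfl
    | symm a b _ ih => exact ih.symm
    | trans a b c _ _ ih1 ih2 => exact ih1.trans ih2
  obtain ⟨p₀⟩ := hne
  refine ⟨Φ p₀, fun p g e => ?_⟩
  rw [hall p₀ p (hconn p₀ p)]
  exact hΦ1 p e g

end Groth.Agent.Helper7.SchConn
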