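import Mathlib

set_option linter.style.haveILetI false
set_option linter.unusedSectionVars false

/-!
# Surjectivity from surjectivity on `gr⁰` and `gr¹` (complete source, separated target)
-/

namespace Groth.Agent.Helper7.SecPS

section approx

variable {M N : Type*} [CommRing M] [CommRing N] (f : M →+* N) (𝔪 : Ideal M) (𝔫 : Ideal N)

theorem pow_le_map_sup (hmap : 𝔪.map f ≤ 𝔫) (h1 : 𝔫 ≤ 𝔪.map f ⊔ 𝔫 ^ 2) (k : ℕ) :
    𝔫 ^ k ≤ (𝔪 ^ k).map f ⊔ 𝔫 ^ (k + 1) := by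
  induction k with
  | zero =>
    rw [pow_zero, pow_zero, Ideal.one_eq_top, Ideal.one_eq_top, Ideal.map_top]
    exact le_sup_left
  | succ k ih =>
    have hk : (𝔪 ^ k).map f ≤ 𝔫 ^ k := by
      rw [Ideal.map_pow]
      exact Ideal.pow_right_mono hmap k
    calc 𝔫 ^ (k + 1) = 𝔫 ^ k * 𝔫 := pow_succ _ _
      _ ≤ ((𝔪 ^ k).map f ⊔ 𝔫 ^ (k + 1)) * (𝔪.map f ⊔ 𝔫 ^ 2) := Ideal.mul_mono ih h1
      _ ≤ (𝔪 ^ (k + 1)).map f ⊔ 𝔫 ^ (k + 1 + 1) := by
        rw [Ideal.sup_mul, Ideal.mul_sup, Ideal.mul_sup]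
        refine sup_le (sup_le ?_ ?_) (sup_le ?_ ?_)
        · rw [← Ideal.map_mul, ← pow_succ]
          exact le_sup_left
        · refine le_trans (Ideal.mul_mono hk le_rfl) (le_trans ?_ le_sup_right)
          rw [← pow_add]
        · refine le_trans (Ideal.mul_mono le_rfl hmap) (le_trans ?_ le_sup_right)
          rw [← pow_succ]
        · refine le_trans ?_ le_sup_right
          rw [← pow_add]
          exact Ideal.pow_le_pow_right (by omega)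

/-- one step of approximation -/
theorem exists_approx (hmap : 𝔪.map f ≤ 𝔫) (h0 : ∀ y, ∃ x, y - f x ∈ 𝔫)
    (h1 : 𝔫 ≤ 𝔪.map f ⊔ 𝔫 ^ 2) (k : ℕ) (y : N) (hy : y ∈ 𝔫 ^ k) :
    ∃ x ∈ 𝔪 ^ k, y - f x ∈ 𝔫 ^ (k + 1) := by
  have hk : (𝔪 ^ k).map f ≤ 𝔫 ^ k := by
    rw [Ideal.map_pow]
    exact Ideal.pow_right_mono hmap k
  have key : ∀ a ∈ (𝔪 ^ k).map f, ∃ x ∈ 𝔪 ^ k, a - f x ∈ 𝔫 ^ (k + 1) := by
    intro a ha
    unfold Ideal.map at ha
    induction ha using Submodule.span_induction with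
    | mem a ha =>
      obtain ⟨x, hx, rfl⟩ := ha
      exact ⟨x, hx, by rw [sub_self]; exact Ideal.zero_mem _⟩
    | zero => exact ⟨0, Ideal.zero_mem _, by rw [map_zero, sub_self]; exact Ideal.zero_mem _⟩
    | add a b _ _ iha ihb =>
      obtain ⟨x, hx, hax⟩ := iha
      obtain ⟨x', hx', hbx⟩ := ihb
      refine ⟨x + x', Ideal.add_mem _ hx hx', ?_⟩
      have : a + b - f (x + x') = (a - f x) + (b - f x') := by rw [map_add]; ring
      rw [this]
      exact Ideal.add_mem _ hax hbx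
    | smul n a ha' iha =>
      obtain ⟨x, hx, hax⟩ := iha
      obtain ⟨m, hm⟩ := h0 n
      refine ⟨m * x, Ideal.mul_mem_left _ _ hx, ?_⟩
      have : n • a - f (m * x) = n * (a - f x) + (n - f m) * f x := by
        rw [map_mul, smul_eq_mul]; ring
      rw [this]
      refine Ideal.add_mem _ (Ideal.mul_mem_left _ _ hax) ?_
      rw [pow_succ']
      exact Ideal.mul_mem_mul hm (hk (Ideal.mem_map_of_mem _ hx))
  obtain ⟨a, ha, b, hb, rfl⟩ := Submodule.mem_sup.mp (pow_le_map_sup f 𝔪 𝔫 hmap h1 k hy)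
  obtain ⟨x, hx, hax⟩ := key a ha
  refine ⟨x, hx, ?_⟩
  have : a + b - f x = (a - f x) + b := by ring
  rw [this]
  exact Ideal.add_mem _ hax hb

end approx

section surj

variable {M N : Type*} [CommRing M] [CommRing N] (f : M →+* N) (𝔪 : Ideal M) (𝔫 : Ideal N)
  [IsPrecomplete 𝔪 M] [IsHausdorff 𝔫 N]

/-- surjectivity on each step of the filtrations -/
theorem exists_preimage (hmap : 𝔪.map f ≤ 𝔫) (h0 : ∀ y, ∃ x, y - f x ∈ 𝔫)
    (h1 : 𝔫 ≤ 𝔪.map f ⊔ 𝔫 ^ 2) (k : ℕ) (y : N) (hy : y ∈ 𝔫 ^ k) :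
    ∃ x ∈ 𝔪 ^ k, f x = y := by
  classical
  have hmapk : ∀ j, (𝔪 ^ j).map f ≤ 𝔫 ^ j := fun j => by
    rw [Ideal.map_pow]
    exact Ideal.pow_right_mono hmap j
  -- the approximating sequence
  have step : ∀ j : ℕ, ∀ s : {s : M // s ∈ 𝔪 ^ k ∧ y - f s ∈ 𝔫 ^ (k + j)},
      ∃ x ∈ 𝔪 ^ (k + j), y - f (s.1 + x) ∈ 𝔫 ^ (k + j + 1) := by
    intro j s
    obtain ⟨x, hx, hxy⟩ := exists_approx f 𝔪 𝔫 hmap h0 h1 (k + j) (y - f s.1) s.2.2
    refine ⟨x, hx, ?_⟩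
    have : y - f (s.1 + x) = y - f s.1 - f x := by rw [map_add]; ring
    rw [this]
    exact hxy
  let seq : (j : ℕ) → {s : M // s ∈ 𝔪 ^ k ∧ y - f s ∈ 𝔫 ^ (k + j)} := fun j =>
    Nat.rec (motive := fun j => {s : M // s ∈ 𝔪 ^ k ∧ y - f s ∈ 𝔫 ^ (k + j)})
      ⟨0, Ideal.zero_mem _, by rw [map_zero, sub_zero]; exact hy⟩
      (fun j s => ⟨s.1 + Classical.choose (step j s),
        Ideal.add_mem _ s.2.1 (Ideal.pow_le_pow_right (Nat.le_add_right k j)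
          (Classical.choose_spec (step j s)).1),
        (Classical.choose_spec (step j s)).2⟩) j
  have hseq : ∀ j, (seq (j + 1)).1 - (seq j).1 ∈ 𝔪 ^ (k + j) := by
    intro j
    have : (seq (j + 1)).1 = (seq j).1 + Classical.choose (step j (seq j)) := rfl
    rw [this, add_sub_cancel_left]
    exact (Classical.choose_spec (step j (seq j))).1
  -- Cauchy
  have hcauchy : ∀ {m n : ℕ}, m ≤ n →
      (seq m).1 ≡ (seq n).1 [SMOD (𝔪 ^ m • ⊤ : Submodule M M)] := by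
    have hc : AdicCompletion.IsAdicCauchy 𝔪 M (fun j => (seq j).1) :=
        (AdicCompletion.isAdicCauchy_iff 𝔪 M (fun j => (seq j).1)).mpr (fun n => by
      rw [SModEq.sub_mem, smul_eq_mul, Ideal.mul_top]
      have h := hseq n
      have h' : (seq n).1 - (seq (n + 1)).1 ∈ 𝔪 ^ (k + n) := by
        rw [← neg_sub]; exact neg_mem h
      exact Ideal.pow_le_pow_right (Nat.le_add_left n k) h')
    intro m n hmn
    exact hc hmn
  obtain ⟨L, hL⟩ := IsPrecomplete.prec ‹IsPrecomplete 𝔪 M› hcauchy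
  have hL' : ∀ n, (seq n).1 - L ∈ 𝔪 ^ n := by
    intro n
    have := hL n
    rwa [SModEq.sub_mem, smul_eq_mul, Ideal.mul_top] at this
  refine ⟨L, ?_, ?_⟩
  · have h1 := hL' k
    have : L = (seq k).1 - ((seq k).1 - L) := by ring
    rw [this]
    exact Ideal.sub_mem _ (seq k).2.1 h1
  · rw [← sub_eq_zero]
    apply IsHausdorff.haus ‹IsHausdorff 𝔫 N›
    intro n
    rw [SModEq.zero, smul_eq_mul, Ideal.mul_top]
    have h2 : f L - y = f (L - (seq n).1) - (y - f (seq n).1) := by rw [map_sub]; ring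
    rw [h2]
    refine Ideal.sub_mem _ ?_ ?_
    · apply hmapk n
      apply Ideal.mem_map_of_mem
      rw [← neg_sub]
      exact neg_mem (hL' n)
    · exact Ideal.pow_le_pow_right (Nat.le_add_left n k) (seq n).2.2

theorem surjective_of_gr (hmap : 𝔪.map f ≤ 𝔫) (h0 : ∀ y, ∃ x, y - f x ∈ 𝔫)
    (h1 : 𝔫 ≤ 𝔪.map f ⊔ 𝔫 ^ 2) : Function.Surjective f := by
  intro y
  obtain ⟨x, -, hx⟩ := exists_preimage f 𝔪 𝔫 hmap h0 h1 0 y (by simp)
  exact ⟨x, hx⟩

end surj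

end Groth.Agent.Helper7.SecPS
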