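import Mathlib
import Groth.Agent.Helper7.SecPS1
import Groth.Agent.Helper7.PSEval
import Groth.Agent.Helper7.PSSmooth
import Groth.Agent.Helper1.CoeffField
import Groth.Agent.Helper5.MvPSIdeal

set_option linter.style.haveILetI false
set_option linter.unusedSectionVars false

/-!
# Completion of a smooth algebra along a section
-/

namespace Groth.Agent.Helper7.SecPS

universe u
open MvPowerSeries

section lin

variable {R S : Type u} [CommRing R] [CommRing S] [Algebra R S] (σ : S →ₐ[R] R) {d : ℕ}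
  (e : (RingHom.ker σ.toRingHom).Cotangent ≃ₗ[R] (Fin d → R))

theorem sub_mem_ker (s : S) : s - algebraMap R S (σ s) ∈ RingHom.ker σ.toRingHom := by
  rw [RingHom.mem_ker]
  change σ (s - algebraMap R S (σ s)) = 0
  rw [map_sub, AlgHom.commutes, Algebra.algebraMap_self, RingHom.id_apply, sub_self]

/-- `s ↦ s - σ(s)` as a linear map into the kernel -/
noncomputable def toKer : S →ₗ[R] RingHom.ker σ.toRingHom where
  toFun s := ⟨s - algebraMap R S (σ s), sub_mem_ker σ s⟩
  map_add' a b := by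
    apply Subtype.ext
    simp only [map_add, Submodule.coe_add]
    ring
  map_smul' r a := by
    apply Subtype.ext
    change r • a - algebraMap R S (σ (r • a)) = r • (a - algebraMap R S (σ a))
    rw [map_smul, smul_eq_mul, map_mul, smul_sub, Algebra.smul_def r (algebraMap R S (σ a))]

/-- the class of `s - σ(s)` in the cotangent module -/
noncomputable def cot : S →ₗ[R] (RingHom.ker σ.toRingHom).Cotangent :=
  ((RingHom.ker σ.toRingHom).toCotangent.restrictScalars R) ∘ₗ toKer σ

theorem cot_apply (s : S) :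
    cot σ s = (RingHom.ker σ.toRingHom).toCotangent (toKer σ s) := rfl

theorem cot_mul (s t : S) : cot σ (s * t) = σ s • cot σ t + σ t • cot σ s := by
  have h : ∀ (r : R) (x : RingHom.ker σ.toRingHom),
      r • (RingHom.ker σ.toRingHom).toCotangent x = (RingHom.ker σ.toRingHom).toCotangent (r • x) :=
    fun r x => (LinearMap.map_smul_of_tower _ r x).symm
  rw [cot_apply, cot_apply, cot_apply, h, h, ← map_add, Ideal.toCotangent_eq]
  have h1 : ((toKer σ (s * t) : RingHom.ker σ.toRingHom) : S) -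
      ((σ s • toKer σ t + σ t • toKer σ s : RingHom.ker σ.toRingHom) : S) =
      (s - algebraMap R S (σ s)) * (t - algebraMap R S (σ t)) := by
    simp only [toKer, LinearMap.coe_mk, AddHom.coe_mk, Submodule.coe_add,
      Submodule.coe_smul_of_tower, Algebra.smul_def, map_mul]
    ring
  rw [h1, pow_two]
  exact Ideal.mul_mem_mul (sub_mem_ker σ s) (sub_mem_ker σ t)

/-- the linear part -/
noncomputable def lam : S →ₗ[R] (Fin d → R) := e.toLinearMap ∘ₗ cot σ

theorem lam_apply (s : S) : lam σ e s = e (cot σ s) := rfl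

theorem lam_of_mem (s : S) (hs : s ∈ RingHom.ker σ.toRingHom) :
    lam σ e s = e ((RingHom.ker σ.toRingHom).toCotangent ⟨s, hs⟩) := by
  rw [lam_apply, cot_apply]
  congr 2
  apply Subtype.ext
  have : σ s = 0 := hs
  change s - algebraMap R S (σ s) = s
  rw [this, map_zero, sub_zero]

theorem lam_mul (s t : S) : lam σ e (s * t) = σ s • lam σ e t + σ t • lam σ e s := by
  rw [lam_apply, lam_apply, lam_apply, cot_mul, map_add, map_smul, map_smul]

theorem lam_one : lam σ e 1 = 0 := by
  have := lam_mul σ e 1 1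
  rw [mul_one, map_one σ, one_smul] at this
  have h : lam σ e 1 + lam σ e 1 = lam σ e 1 + 0 := by rw [add_zero]; exact this.symm
  exact add_left_cancel h

end lin

section lift

variable {R S : Type u} [CommRing R] [CommRing S] [Algebra R S] (σ : S →ₐ[R] R) {d : ℕ}
  (e : (RingHom.ker σ.toRingHom).Cotangent ≃ₗ[R] (Fin d → R))

/-- the ideal of variables -/
noncomputable abbrev xx (R : Type u) [CommRing R] (d : ℕ) : Ideal (MvPowerSeries (Fin d) R) :=
  Ideal.span (Set.range (X : Fin d → MvPowerSeries (Fin d) R))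

/-- the linear form `Σ r_i X_i` -/
noncomputable def linForm (r : Fin d → R) : MvPowerSeries (Fin d) R := ∑ i, C (r i) * X i

theorem linForm_mem (r : Fin d → R) : linForm r ∈ xx R d :=
  Ideal.sum_mem _ fun i _ => Ideal.mul_mem_left _ _ (Ideal.subset_span ⟨i, rfl⟩)

theorem linForm_add (r r' : Fin d → R) : linForm (r + r') = linForm r + linForm r' := by
  unfold linForm
  rw [← Finset.sum_add_distrib]
  refine Finset.sum_congr rfl fun i _ => ?_
  rw [Pi.add_apply, map_add, add_mul]

theorem linForm_smul (a : R) (r : Fin d → R) : linForm (a • r) = C a * linForm r := by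
  unfold linForm
  rw [Finset.mul_sum]
  refine Finset.sum_congr rfl fun i _ => ?_
  rw [Pi.smul_apply, smul_eq_mul, map_mul, mul_assoc]

theorem linForm_zero : linForm (0 : Fin d → R) = 0 := by
  unfold linForm
  refine Finset.sum_eq_zero fun i _ => ?_
  rw [Pi.zero_apply, map_zero, zero_mul]

/-- the linear approximation `s ↦ σ(s) + Σ λ_i(s) X_i` -/
noncomputable def LL (s : S) : MvPowerSeries (Fin d) R := C (σ s) + linForm (lam σ e s)

theorem LL_mul (s t : S) : LL σ e (s * t) - LL σ e s * LL σ e t ∈ xx R d ^ 2 := by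
  have h : LL σ e (s * t) - LL σ e s * LL σ e t = - (linForm (lam σ e s) * linForm (lam σ e t)) := by
    unfold LL
    rw [lam_mul, linForm_add, linForm_smul, linForm_smul, map_mul, map_mul]
    ring
  rw [h, neg_mem_iff, pow_two]
  exact Ideal.mul_mem_mul (linForm_mem _) (linForm_mem _)

theorem LL_smul (r : R) (s : S) : LL σ e (r • s) = r • LL σ e s := by
  unfold LL
  rw [map_smul σ, map_smul (lam σ e), linForm_smul, smul_eq_mul, map_mul,
    MvPowerSeries.smul_eq_C_mul]
  ring

theorem exists_psi [Algebra.FormallySmooth R S] :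
    ∃ ψ : S →ₐ[R] MvPowerSeries (Fin d) R, ∀ s, ψ s - LL σ e s ∈ xx R d ^ 2 := by
  haveI : IsAdicComplete (xx R d ^ 2) (MvPowerSeries (Fin d) R) :=
    Groth.Agent.Helper1.CoeffField.isAdicComplete_pow (xx R d) _ (by norm_num)
  let ψ₂ : S →ₐ[R] MvPowerSeries (Fin d) R ⧸ xx R d ^ 2 :=
    AlgHom.ofLinearMap
      { toFun := fun s => Ideal.Quotient.mk (xx R d ^ 2) (LL σ e s)
        map_add' := fun a b => by
          rw [← map_add]
          congr 1
          unfold LL
          rw [map_add, map_add, map_add, linForm_add]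
          ring
        map_smul' := fun r a => by
          rw [RingHom.id_apply, LL_smul]
          exact map_smul (Ideal.Quotient.mkₐ R (xx R d ^ 2)) r _ }
      (by
        change Ideal.Quotient.mk (xx R d ^ 2) (LL σ e 1) = 1
        unfold LL
        rw [lam_one, linForm_zero, add_zero, map_one, map_one, map_one])
      (fun s t => by
        change Ideal.Quotient.mk (xx R d ^ 2) (LL σ e (s * t)) =
          Ideal.Quotient.mk (xx R d ^ 2) (LL σ e s) * Ideal.Quotient.mk (xx R d ^ 2) (LL σ e t)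
        rw [← map_mul, Ideal.Quotient.eq]
        exact LL_mul σ e s t)
  obtain ⟨ψ, hψ⟩ := Algebra.FormallySmooth.exists_mkₐ_comp_eq_of_isAdicComplete
    (I := xx R d ^ 2) ψ₂
  refine ⟨ψ, fun s => ?_⟩
  rw [← Ideal.Quotient.eq]
  exact AlgHom.congr_fun hψ s

end lift

section compl

variable {R S : Type u} [CommRing R] [CommRing S] [Algebra R S] (I : Ideal S) {d : ℕ}
  (ψ : S →ₐ[R] MvPowerSeries (Fin d) R)

theorem pow_le_comap (hψ : ∀ s ∈ I, ψ s ∈ xx R d) (n : ℕ) :
    I ^ n ≤ (xx R d ^ n).comap ψ := by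
  rw [← Ideal.map_le_iff_le_comap, Ideal.map_pow]
  apply Ideal.pow_right_mono
  rw [Ideal.map_le_iff_le_comap]
  exact hψ

/-- extension to the completion -/
theorem exists_hat (hψ : ∀ s ∈ I, ψ s ∈ xx R d) :
    ∃ ψh : AdicCompletion I S →ₐ[R] MvPowerSeries (Fin d) R,
      (∀ s, ψh (algebraMap S _ s) = ψ s) ∧
      (∀ n x, AdicCompletion.evalₐ I n x = 0 → ψh x ∈ xx R d ^ n) := by
  let f : (n : ℕ) → AdicCompletion I S →ₐ[R] MvPowerSeries (Fin d) R ⧸ xx R d ^ n := fun n =>
    (Ideal.quotientMapₐ (xx R d ^ n) ψ (pow_le_comap I ψ hψ n)).comp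
      ((AdicCompletion.evalₐ I n).restrictScalars R)
  have hf : ∀ {m n : ℕ} (hle : m ≤ n),
      (Ideal.Quotient.factorₐ R (Ideal.pow_le_pow_right hle)).comp (f n) = f m := by
    intro m n hle
    ext x
    obtain ⟨c, rfl⟩ := AdicCompletion.mk_surjective I S x
    change Ideal.Quotient.factor (Ideal.pow_le_pow_right hle)
      (Ideal.quotientMapₐ (xx R d ^ n) ψ (pow_le_comap I ψ hψ n)
      (AdicCompletion.evalₐ I n (AdicCompletion.mk I S c))) =
      Ideal.quotientMapₐ (xx R d ^ m) ψ (pow_le_comap I ψ hψ m)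
        (AdicCompletion.evalₐ I m (AdicCompletion.mk I S c))
    rw [AdicCompletion.evalₐ_mk, AdicCompletion.evalₐ_mk, Ideal.quotientMapₐ, Ideal.quotientMapₐ]
    simp only [AlgHom.coe_mk, RingHom.coe_coe, Ideal.quotientMap_mk, Ideal.Quotient.factor_mk]
    rw [Ideal.Quotient.eq, ← map_sub]
    apply pow_le_comap I ψ hψ m
    have := c.2 hle
    rw [SModEq.sub_mem, smul_eq_mul, Ideal.mul_top] at this
    rw [← neg_sub]
    exact neg_mem this
  refine ⟨IsAdicComplete.liftAlgHom (xx R d) f hf, fun s => ?_, fun n x hx => ?_⟩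
  · rw [← sub_eq_zero]
    apply IsHausdorff.haus (inferInstance : IsHausdorff (xx R d) (MvPowerSeries (Fin d) R))
    intro n
    rw [SModEq.zero, smul_eq_mul, Ideal.mul_top, ← Ideal.Quotient.eq,
      IsAdicComplete.mk_liftAlgHom]
    change Ideal.quotientMapₐ (xx R d ^ n) ψ (pow_le_comap I ψ hψ n)
      (AdicCompletion.evalₐ I n (algebraMap S _ s)) = _
    rw [AdicCompletion.algebraMap_apply, Algebra.algebraMap_self, RingHom.id_apply,
      AdicCompletion.evalₐ_of]
    rfl
  · rw [← Ideal.Quotient.eq_zero_iff_mem, IsAdicComplete.mk_liftAlgHom]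
    change Ideal.quotientMapₐ (xx R d ^ n) ψ (pow_le_comap I ψ hψ n)
      (AdicCompletion.evalₐ I n x) = 0
    rw [hx, map_zero]

end compl

section ideal

variable {S : Type u} [CommRing S] (I : Ideal S)

/-- the extension of `I` to the completion -/
noncomputable abbrev Ih : Ideal (AdicCompletion I S) :=
  I.map (algebraMap S (AdicCompletion I S))

theorem isAdicComplete_Ih (hfg : I.FG) : IsAdicComplete (Ih I) (AdicCompletion I S) :=
  (IsAdicComplete.map_algebraMap_iff (R := S) (S := AdicCompletion I S) (I := I)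
    (M := AdicCompletion I S)).mpr (AdicCompletion.isAdicComplete hfg)

theorem mem_Ih_pow_iff (hfg : I.FG) (n : ℕ) (x : AdicCompletion I S) :
    x ∈ Ih I ^ n ↔ AdicCompletion.evalₐ I n x = 0 := by
  have h1 : (x ∈ Ih I ^ n) ↔ x ∈ (I ^ n • ⊤ : Submodule S (AdicCompletion I S)) := by
    rw [Ideal.smul_top_eq_map, Ideal.map_pow]
    rfl
  rw [h1, AdicCompletion.pow_smul_top_eq_ker_eval hfg, LinearMap.mem_ker]
  have h : (I ^ n • ⊤ : Ideal S) = I ^ n := by ext x; simp
  rw [← AdicCompletion.factor_eval_eq_evalₐ I x (le_of_eq h)]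
  constructor
  · intro hx
    rw [hx, map_zero]
  · intro hx
    have hinj : Function.Injective (Ideal.Quotient.factor (le_of_eq h)) := by
      rw [injective_iff_map_eq_zero]
      intro y hy
      obtain ⟨y, rfl⟩ := Ideal.Quotient.mk_surjective y
      rw [Ideal.Quotient.factor_mk, Ideal.Quotient.eq_zero_iff_mem] at hy
      rw [Ideal.Quotient.eq_zero_iff_mem, h]
      exact hy
    exact hinj (hx.trans (map_zero _).symm)

end ideal

section coeffs

variable {R : Type u} [CommRing R] {d : ℕ}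

theorem constantCoeff_of_mem_xx (q : MvPowerSeries (Fin d) R) (hq : q ∈ xx R d) :
    constantCoeff q = 0 := by
  have hle : xx R d ≤ RingHom.ker (constantCoeff (σ := Fin d) (R := R)) := by
    rw [Ideal.span_le]
    rintro _ ⟨i, rfl⟩
    rw [SetLike.mem_coe, RingHom.mem_ker, constantCoeff_X]
  exact hle hq

theorem coeff_single_of_mem_sq (q : MvPowerSeries (Fin d) R) (hq : q ∈ xx R d ^ 2) (i : Fin d) :
    coeff (Finsupp.single i 1) q = 0 := by
  classical
  rw [pow_two] at hq
  refine Submodule.mul_induction_on hq ?_ ?_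
  · intro a ha b hb
    rw [coeff_mul]
    refine Finset.sum_eq_zero fun uv huv => ?_
    rw [Finset.HasAntidiagonal.mem_antidiagonal] at huv
    have hdeg : Finsupp.degree uv.1 + Finsupp.degree uv.2 = 1 := by
      rw [← map_add, huv, Finsupp.degree_single]
    rcases Nat.eq_zero_or_pos (Finsupp.degree uv.1) with h | h
    · have h0 : uv.1 = 0 := (Finsupp.degree_eq_zero_iff _).mp h
      rw [h0, coeff_zero_eq_constantCoeff_apply, constantCoeff_of_mem_xx a ha, zero_mul]
    · have h2 : Finsupp.degree uv.2 = 0 := by omega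
      have h0 : uv.2 = 0 := (Finsupp.degree_eq_zero_iff _).mp h2
      rw [h0, coeff_zero_eq_constantCoeff_apply, constantCoeff_of_mem_xx b hb, mul_zero]
  · intro a b ha hb
    rw [map_add, ha, hb, add_zero]

theorem coeff_single_linForm (r : Fin d → R) (i : Fin d) :
    coeff (Finsupp.single i 1) (linForm r) = r i := by
  classical
  unfold linForm
  rw [map_sum, Finset.sum_eq_single i]
  · rw [coeff_C_mul, coeff_X, if_pos rfl, mul_one]
  · intro j _ hji
    rw [coeff_C_mul, coeff_X, if_neg, mul_zero]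
    intro h
    exact hji ((Finsupp.single_left_inj one_ne_zero).mp h).symm
  · intro h
    exact absurd (Finset.mem_univ i) h

theorem sub_C_mem_xx (q : MvPowerSeries (Fin d) R) : q - C (constantCoeff q) ∈ xx R d := by
  apply Groth.Agent.Helper5.MvPSIdeal.mem_span_X
  rw [map_sub, constantCoeff_C, sub_self]

end coeffs

section main

variable {R S : Type u} [CommRing R] [CommRing S] [Algebra R S] [Algebra.Smooth R S]
  (σ : S →ₐ[R] R) (d : ℕ) (e : (RingHom.ker σ.toRingHom).Cotangent ≃ₗ[R] (Fin d → R))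

local notation "II" => RingHom.ker (AlgHom.toRingHom σ)

theorem linForm_single (i : Fin d) : linForm (Pi.single i (1 : R)) = X i := by
  classical
  unfold linForm
  rw [Finset.sum_eq_single i]
  · rw [Pi.single_eq_same, map_one, one_mul]
  · intro j _ hji
    rw [Pi.single_eq_of_ne hji, map_zero, zero_mul]
  · intro h
    exact absurd (Finset.mem_univ i) h

include e in
theorem s2099 :
    Nonempty (AdicCompletion (RingHom.ker σ.toRingHom) S ≃ₐ[R] MvPowerSeries (Fin d) R) := by
  classical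
  have hσs : Function.Surjective σ := fun r => ⟨algebraMap R S r, by
    rw [AlgHom.commutes, Algebra.algebraMap_self, RingHom.id_apply]⟩
  have hfg : (II).FG := Algebra.FinitePresentation.ker_fG_of_surjective σ hσs
  obtain ⟨ψ, hψ⟩ := exists_psi σ e
  have hLL : ∀ s ∈ II, LL σ e s = linForm (lam σ e s) := by
    intro s hs
    have : σ s = 0 := hs
    unfold LL
    rw [this, map_zero, zero_add]
  have hsq : xx R d ^ 2 ≤ xx R d := Ideal.pow_le_self two_ne_zero
  have hψI : ∀ s ∈ II, ψ s ∈ xx R d := by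
    intro s hs
    have h1 : LL σ e s ∈ xx R d := by rw [hLL s hs]; exact linForm_mem _
    have : ψ s = (ψ s - LL σ e s) + LL σ e s := by ring
    rw [this]
    exact Ideal.add_mem _ (hsq (hψ s)) h1
  obtain ⟨ψh, hψh1, hψh2⟩ := exists_hat (II) ψ hψI
  haveI hcompl := isAdicComplete_Ih (II) hfg
  -- facts
  have F1 : ∀ x ∈ Ih (II), ψh x ∈ xx R d := by
    intro x hx
    have h1 : x ∈ Ih (II) ^ 1 := by rwa [pow_one]
    have := hψh2 1 x ((mem_Ih_pow_iff (II) hfg 1 x).mp h1)
    rwa [pow_one] at this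
  have F3 : ∀ x ∈ Ih (II), ∃ s ∈ II, x - algebraMap S _ s ∈ Ih (II) ^ 2 := by
    intro x hx
    obtain ⟨s, hs⟩ := Ideal.Quotient.mk_surjective (AdicCompletion.evalₐ (II) 2 x)
    have h2 : x - algebraMap S _ s ∈ Ih (II) ^ 2 := by
      rw [mem_Ih_pow_iff (II) hfg, map_sub, AlgHom.commutes, ← hs]
      exact sub_self _
    refine ⟨s, ?_, h2⟩
    have h3 : algebraMap S (AdicCompletion (II) S) s ∈ Ih (II) ^ 1 := by
      rw [pow_one]
      have : algebraMap S (AdicCompletion (II) S) s = x - (x - algebraMap S _ s) := by ring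
      rw [this]
      exact Ideal.sub_mem _ hx (Ideal.pow_le_self two_ne_zero h2)
    rw [mem_Ih_pow_iff (II) hfg, AlgHom.commutes] at h3
    have h4 : s ∈ (II) ^ 1 := Ideal.Quotient.eq_zero_iff_mem.mp h3
    rwa [pow_one] at h4
  have F2 : ∀ x ∈ Ih (II) ^ 2, ψh x ∈ xx R d ^ 2 := fun x hx =>
    hψh2 2 x ((mem_Ih_pow_iff (II) hfg 2 x).mp hx)
  have F4 : ∀ x ∈ Ih (II), ∃ r : Fin d → R, ψh x - linForm r ∈ xx R d ^ 2 := by
    intro x hx
    obtain ⟨s, hs, hxs⟩ := F3 x hx
    refine ⟨lam σ e s, ?_⟩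
    have : ψh x - linForm (lam σ e s) = ψh (x - algebraMap S _ s) + (ψ s - LL σ e s) := by
      rw [map_sub, hψh1, hLL s hs]
      ring
    rw [this]
    exact Ideal.add_mem _ (F2 _ hxs) (hψ s)
  have F5 : ∀ z ∈ Ih (II), ψh z ∈ xx R d ^ 2 → z ∈ Ih (II) ^ 2 := by
    intro z hz hψz
    obtain ⟨s, hs, hzs⟩ := F3 z hz
    have h1 : ψ s ∈ xx R d ^ 2 := by
      have : ψ s = ψh z - ψh (z - algebraMap S _ s) := by
        rw [map_sub, hψh1]; ring
      rw [this]
      exact Ideal.sub_mem _ hψz (F2 _ hzs)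
    have h2 : linForm (lam σ e s) ∈ xx R d ^ 2 := by
      rw [← hLL s hs]
      have : LL σ e s = ψ s - (ψ s - LL σ e s) := by ring
      rw [this]
      exact Ideal.sub_mem _ h1 (hψ s)
    have h3 : lam σ e s = 0 := by
      funext i
      rw [← coeff_single_linForm (lam σ e s) i, coeff_single_of_mem_sq _ h2 i]
      rfl
    rw [lam_of_mem σ e s hs] at h3
    have h4 : (II).toCotangent ⟨s, hs⟩ = 0 := e.injective (h3.trans (map_zero e).symm)
    rw [Ideal.toCotangent_eq_zero] at h4
    have h5 : algebraMap S (AdicCompletion (II) S) s ∈ Ih (II) ^ 2 := by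
      rw [← Ideal.map_pow]
      exact Ideal.mem_map_of_mem _ h4
    have : z = (z - algebraMap S _ s) + algebraMap S _ s := by ring
    rw [this]
    exact Ideal.add_mem _ hzs h5
  -- `ψh` hits the variables
  have hmap : (Ih (II)).map ψh.toRingHom ≤ xx R d := by
    rw [Ideal.map_le_iff_le_comap]
    exact F1
  have h0 : ∀ q : MvPowerSeries (Fin d) R, ∃ x, q - ψh.toRingHom x ∈ xx R d := by
    intro q
    refine ⟨algebraMap R _ (constantCoeff q), ?_⟩
    change q - ψh (algebraMap R _ (constantCoeff q)) ∈ xx R d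
    rw [AlgHom.commutes, MvPowerSeries.algebraMap_apply, Algebra.algebraMap_self, RingHom.id_apply]
    exact sub_C_mem_xx q
  have h1 : xx R d ≤ (Ih (II)).map ψh.toRingHom ⊔ xx R d ^ 2 := by
    rw [Ideal.span_le]
    rintro _ ⟨i, rfl⟩
    obtain ⟨⟨s, hs⟩, hκ⟩ := Ideal.toCotangent_surjective _ (e.symm (Pi.single i (1 : R)))
    have hlam : lam σ e s = Pi.single i 1 := by
      rw [lam_of_mem σ e s hs, hκ, LinearEquiv.apply_symm_apply]
    have hX : (X i : MvPowerSeries (Fin d) R) = ψ s - (ψ s - LL σ e s) := by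
      rw [hLL s hs, hlam, linForm_single]
      ring
    rw [SetLike.mem_coe, hX]
    refine Ideal.sub_mem _ (Ideal.mem_sup_left ?_) (Ideal.mem_sup_right (hψ s))
    rw [← hψh1]
    exact Ideal.mem_map_of_mem ψh.toRingHom (Ideal.mem_map_of_mem _ hs)
  have hpre : ∀ i : Fin d, ∃ x ∈ Ih (II), ψh x = X i := by
    intro i
    obtain ⟨x, hx, hx'⟩ := exists_preimage ψh.toRingHom (Ih (II)) (xx R d) hmap h0 h1 1 (X i)
      (by rw [pow_one]; exact Ideal.subset_span ⟨i, rfl⟩)
    rw [pow_one] at hx
    exact ⟨x, hx, hx'⟩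
  choose fh hfh1 hfh2 using hpre
  obtain ⟨φ, hφ⟩ := Groth.Agent.Helper7.PSEval.exists_algHom_X (k := R) (Ih (II)) fh hfh1
  have hmap' : (xx R d).map φ.toRingHom ≤ Ih (II) := by
    rw [Ideal.map_span, Ideal.span_le]
    rintro _ ⟨_, ⟨i, rfl⟩, rfl⟩
    change φ (X i) ∈ Ih (II)
    rw [hφ]
    exact hfh1 i
  -- `ψh ∘ φ = id`
  have hcomp : ∀ q, ψh (φ q) = q := by
    intro q
    rw [← sub_eq_zero]
    apply IsHausdorff.haus (inferInstance : IsHausdorff (xx R d) (MvPowerSeries (Fin d) R))
    intro N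
    rw [SModEq.zero, smul_eq_mul, Ideal.mul_top, ← Ideal.Quotient.eq]
    have huv := Groth.Agent.Helper7.PSSmooth.algHom_ext_of_pow (k := R) (n := d)
      ((Ideal.Quotient.mkₐ R (xx R d ^ N)).comp (ψh.comp φ)) (Ideal.Quotient.mkₐ R (xx R d ^ N))
      (fun i => by
        change Ideal.Quotient.mk _ (ψh (φ (X i))) = Ideal.Quotient.mk _ (X i)
        rw [hφ, hfh2])
      ⟨N, fun x hx => by
        change Ideal.Quotient.mk _ (ψh (φ x)) = 0
        rw [Ideal.Quotient.eq_zero_iff_mem]
        have h2 : φ x ∈ Ih (II) ^ N := by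
          have : φ.toRingHom x ∈ (xx R d ^ N).map φ.toRingHom := Ideal.mem_map_of_mem _ hx
          rw [Ideal.map_pow] at this
          exact Ideal.pow_right_mono hmap' N this
        have h3 : ψh.toRingHom (φ x) ∈ (Ih (II) ^ N).map ψh.toRingHom :=
          Ideal.mem_map_of_mem _ h2
        rw [Ideal.map_pow] at h3
        exact Ideal.pow_right_mono hmap N h3⟩
      ⟨N, fun x hx => Ideal.Quotient.eq_zero_iff_mem.mpr hx⟩
    exact AlgHom.congr_fun huv q
  have hinj : Function.Injective φ := Function.LeftInverse.injective hcomp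
  -- surjectivity of `φ`
  have h0' : ∀ y : AdicCompletion (II) S, ∃ q, y - φ.toRingHom q ∈ Ih (II) := by
    intro y
    obtain ⟨s, hs⟩ := Ideal.Quotient.mk_surjective (AdicCompletion.evalₐ (II) 1 y)
    refine ⟨C (σ s), ?_⟩
    change y - φ (C (σ s)) ∈ Ih (II)
    have hC : (C (σ s) : MvPowerSeries (Fin d) R) = algebraMap R _ (σ s) := by
      rw [MvPowerSeries.algebraMap_apply, Algebra.algebraMap_self, RingHom.id_apply]
    rw [hC, AlgHom.commutes, IsScalarTower.algebraMap_apply R S (AdicCompletion (II) S)]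
    have h1 : y - algebraMap S (AdicCompletion (II) S) (algebraMap R S (σ s)) ∈ Ih (II) ^ 1 := by
      rw [mem_Ih_pow_iff (II) hfg, map_sub, AlgHom.commutes, ← hs]
      change Ideal.Quotient.mk _ s - Ideal.Quotient.mk _ (algebraMap R S (σ s)) = 0
      rw [← map_sub, Ideal.Quotient.eq_zero_iff_mem, pow_one]
      exact sub_mem_ker σ s
    rwa [pow_one] at h1
  have h1' : Ih (II) ≤ (xx R d).map φ.toRingHom ⊔ Ih (II) ^ 2 := by
    intro y hy
    obtain ⟨r, hr⟩ := F4 y hy
    have hy' : φ (linForm r) ∈ (xx R d).map φ.toRingHom :=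
      Ideal.mem_map_of_mem φ.toRingHom (linForm_mem r)
    have hz : y - φ (linForm r) ∈ Ih (II) ^ 2 := by
      apply F5 _ (Ideal.sub_mem _ hy (hmap' hy'))
      rw [map_sub, hcomp]
      exact hr
    have : y = φ (linForm r) + (y - φ (linForm r)) := by ring
    rw [this]
    exact Submodule.add_mem_sup hy' hz
  have hsurj : Function.Surjective φ :=
    surjective_of_gr φ.toRingHom (xx R d) (Ih (II)) hmap' h0' h1'
  exact ⟨(AlgEquiv.ofBijective φ ⟨hinj, hsurj⟩).symm⟩

end main

end Groth.Agent.Helper7.SecPS
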