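import Mathlib
import Groth.Agent.Helper5.FFWeier
set_option autoImplicit false
open FunFld Polynomial
open Groth.Agent.Helper5.FF

namespace Groth.Agent.Helper7.SectA

variable {k K : Type*} [Field k] [Field K] [Algebra k K]

/-- the constant term at a degree one place: the unique `c` with `v(x - c) < 1` (junk `0` if
`x` is not integral at `P`). -/
noncomputable def cst (P : Place k K) (hP : P.deg = 1) (x : K) : k :=
  if h : P.1 x ≤ 1 then Classical.choose (exists_const_of_deg_one P hP h) else 0

theorem cst_spec (P : Place k K) (hP : P.deg = 1) {x : K} (hx : P.1 x ≤ 1) :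
    P.1 (x - algebraMap k K (cst P hP x)) < 1 := by
  unfold cst
  rw [dif_pos hx]
  exact Classical.choose_spec (exists_const_of_deg_one P hP hx)

theorem val_le_one_of_sub (P : Place k K) {x : K} {c : k}
    (h : P.1 (x - algebraMap k K c) < 1) : P.1 x ≤ 1 := by
  have : x = (x - algebraMap k K c) + algebraMap k K c := by ring
  rw [this]
  exact (P.1.map_add _ _).trans (max_le h.le (P.2.1 c))

theorem const_eq_zero_of_val_lt (P : Place k K) {c : k} (h : P.1 (algebraMap k K c) < 1) : c = 0 := by
  by_contra hc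
  rw [val_algebraMap P hc] at h
  exact lt_irrefl _ h

theorem cst_eq (P : Place k K) (hP : P.deg = 1) {x : K} {c : k}
    (h : P.1 (x - algebraMap k K c) < 1) : cst P hP x = c := by
  have hx := val_le_one_of_sub P h
  have h1 := cst_spec P hP hx
  have h2 : P.1 (algebraMap k K (cst P hP x - c)) < 1 := by
    have : algebraMap k K (cst P hP x - c) =
        (x - algebraMap k K c) - (x - algebraMap k K (cst P hP x)) := by
      rw [map_sub]; ring
    rw [this]
    exact (P.1.map_sub _ _).trans_lt (max_lt h h1)
  have := const_eq_zero_of_val_lt P h2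
  exact sub_eq_zero.mp this

theorem cst_of_lt (P : Place k K) (hP : P.deg = 1) {x : K} (h : P.1 x < 1) : cst P hP x = 0 := by
  apply cst_eq
  simpa using h

theorem cst_zero (P : Place k K) (hP : P.deg = 1) : cst P hP 0 = 0 :=
  cst_of_lt P hP (by simp)

theorem cst_eq_zero_iff (P : Place k K) (hP : P.deg = 1) {x : K} (hx : P.1 x ≤ 1) :
    cst P hP x = 0 ↔ P.1 x < 1 := by
  constructor
  · intro h
    have := cst_spec P hP hx
    rwa [h, map_zero, sub_zero] at this
  · exact cst_of_lt P hP

theorem cst_algebraMap (P : Place k K) (hP : P.deg = 1) (c : k) :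
    cst P hP (algebraMap k K c) = c := by
  apply cst_eq
  simp

theorem cst_add (P : Place k K) (hP : P.deg = 1) {x y : K} (hx : P.1 x ≤ 1) (hy : P.1 y ≤ 1) :
    cst P hP (x + y) = cst P hP x + cst P hP y := by
  apply cst_eq
  have : x + y - algebraMap k K (cst P hP x + cst P hP y) =
      (x - algebraMap k K (cst P hP x)) + (y - algebraMap k K (cst P hP y)) := by
    rw [map_add]; ring
  rw [this]
  exact (P.1.map_add _ _).trans_lt (max_lt (cst_spec P hP hx) (cst_spec P hP hy))

theorem cst_mul (P : Place k K) (hP : P.deg = 1) {x y : K} (hx : P.1 x ≤ 1) (hy : P.1 y ≤ 1) :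
    cst P hP (x * y) = cst P hP x * cst P hP y := by
  apply cst_eq
  have : x * y - algebraMap k K (cst P hP x * cst P hP y) =
      x * (y - algebraMap k K (cst P hP y)) +
        algebraMap k K (cst P hP y) * (x - algebraMap k K (cst P hP x)) := by
    rw [map_mul]; ring
  rw [this]
  refine (P.1.map_add _ _).trans_lt (max_lt ?_ ?_)
  · rw [map_mul]
    calc P.1 x * P.1 (y - algebraMap k K (cst P hP y))
        ≤ 1 * P.1 (y - algebraMap k K (cst P hP y)) := mul_le_mul_left hx _
      _ = P.1 (y - algebraMap k K (cst P hP y)) := one_mul _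
      _ < 1 := cst_spec P hP hy
  · rw [map_mul]
    calc P.1 (algebraMap k K (cst P hP y)) * P.1 (x - algebraMap k K (cst P hP x))
        ≤ 1 * P.1 (x - algebraMap k K (cst P hP x)) := mul_le_mul_left (P.2.1 _) _
      _ = P.1 (x - algebraMap k K (cst P hP x)) := one_mul _
      _ < 1 := cst_spec P hP hx

theorem cst_smul (P : Place k K) (hP : P.deg = 1) (c : k) {x : K} (hx : P.1 x ≤ 1) :
    cst P hP (c • x) = c * cst P hP x := by
  rw [Algebra.smul_def, cst_mul P hP (P.2.1 c) hx, cst_algebraMap]

theorem cst_sum (P : Place k K) (hP : P.deg = 1) {ι : Type*} (s : Finset ι) (f : ι → K)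
    (hf : ∀ i ∈ s, P.1 (f i) ≤ 1) :
    P.1 (∑ i ∈ s, f i) ≤ 1 ∧ cst P hP (∑ i ∈ s, f i) = ∑ i ∈ s, cst P hP (f i) := by
  classical
  induction s using Finset.induction_on with
  | empty => simp [cst_zero]
  | insert a s ha ih =>
    have h1 := hf a (Finset.mem_insert_self a s)
    obtain ⟨h2, h3⟩ := ih (fun i hi => hf i (Finset.mem_insert_of_mem hi))
    rw [Finset.sum_insert ha, Finset.sum_insert ha]
    refine ⟨(P.1.map_add _ _).trans (max_le h1 h2), ?_⟩
    rw [cst_add P hP h1 h2, h3]

end Groth.Agent.Helper7.SectA
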