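import Mathlib
import Groth.Prelude.Def_W4c6gradedringsgwSect
import Groth.Agent.Helper7.SectA
set_option autoImplicit false
open FunFld Polynomial W4c6gradedringsgw
open Groth.Agent.Helper5.FF Groth.Agent.Helper7.SectA

namespace Groth.Agent.Helper7.SectB

variable {k K : Type*} [Field k] [Field K] [Algebra k K]

theorem smul_single_one (P : Place k K) (n : ℤ) :
    n • (Finsupp.single P 1 : Divisor k K) = Finsupp.single P n := by
  rw [Finsupp.smul_single, smul_eq_mul, mul_one]

theorem mem_sectRing_iff (P : Place k K) (p : K[X]) :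
    p ∈ sectRing (Finsupp.single P 1 : Divisor k K) ↔
      ∀ n : ℕ, p.coeff n ∈ L (Finsupp.single P (n : ℤ) : Divisor k K) := by
  constructor
  · intro h n
    have := h n
    rwa [smul_single_one] at this
  · intro h n
    rw [smul_single_one]
    exact h n

theorem val_le_of_mem (P : Place k K) {n : ℤ} {x : K}
    (hx : x ∈ L (Finsupp.single P n : Divisor k K)) : P.1 x ≤ WithZero.exp n := by
  have := (mem_L_iff _ _).mp hx P
  rwa [Finsupp.single_eq_same] at this

theorem val_pow_unif (P : Place k K) {π : K} (hπ : P.1 π = WithZero.exp (-1 : ℤ)) (n : ℕ) :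
    P.1 (π ^ n) = WithZero.exp (-(n : ℤ)) := by
  rw [map_pow, hπ, ← WithZero.exp_nsmul]
  congr 1
  simp

theorem val_pow_mul_le (P : Place k K) {π : K} (hπ : P.1 π = WithZero.exp (-1 : ℤ)) {n : ℕ} {x : K}
    (hx : x ∈ L (Finsupp.single P (n : ℤ) : Divisor k K)) : P.1 (π ^ n * x) ≤ 1 := by
  rw [map_mul, val_pow_unif P hπ]
  calc WithZero.exp (-(n : ℤ)) * P.1 x ≤ WithZero.exp (-(n : ℤ)) * WithZero.exp (n : ℤ) :=
        mul_le_mul_right (val_le_of_mem P hx) _
    _ = 1 := by rw [← WithZero.exp_add]; simp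

theorem val_pow_mul_lt_iff (P : Place k K) {π : K} (hπ : P.1 π = WithZero.exp (-1 : ℤ)) (n : ℕ) (x : K) :
    P.1 (π ^ n * x) < 1 ↔ P.1 x < WithZero.exp (n : ℤ) := by
  rw [map_mul, val_pow_unif P hπ, WithZero.exp_neg, inv_mul_lt_iff₀ (by simp [zero_lt_iff]), mul_one]

/-- the leading-coefficient polynomial -/
noncomputable def psiFun (P : Place k K) (hP : P.deg = 1) (π : K) (p : K[X]) : k[X] :=
  ∑ n ∈ p.support, monomial n (cst P hP (π ^ n * p.coeff n))

theorem coeff_psiFun (P : Place k K) (hP : P.deg = 1) (π : K) (p : K[X]) (m : ℕ) :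
    (psiFun P hP π p).coeff m = cst P hP (π ^ m * p.coeff m) := by
  unfold psiFun
  rw [finsetSum_coeff]
  simp only [coeff_monomial]
  rw [Finset.sum_ite_eq']
  split_ifs with h
  · rfl
  · rw [Polynomial.notMem_support_iff.mp h, mul_zero, cst_zero]


section hom

variable (P : Place k K) (hP : P.deg = 1) {π : K} (hπ : P.1 π = WithZero.exp (-1 : ℤ))

include hπ in
theorem psiFun_mul {p q : K[X]} (hp : p ∈ sectRing (Finsupp.single P 1 : Divisor k K))
    (hq : q ∈ sectRing (Finsupp.single P 1 : Divisor k K)) :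
    psiFun P hP π (p * q) = psiFun P hP π p * psiFun P hP π q := by
  rw [mem_sectRing_iff] at hp hq
  ext m
  rw [coeff_psiFun, coeff_mul, coeff_mul, Finset.mul_sum]
  have h1 : ∑ x ∈ Finset.HasAntidiagonal.antidiagonal m, π ^ m * (p.coeff x.1 * q.coeff x.2) =
      ∑ x ∈ Finset.HasAntidiagonal.antidiagonal m, (π ^ x.1 * p.coeff x.1) * (π ^ x.2 * q.coeff x.2) := by
    refine Finset.sum_congr rfl fun x hx => ?_
    rw [← Finset.HasAntidiagonal.mem_antidiagonal.mp hx, pow_add]; ring
  rw [h1]
  have h2 := cst_sum P hP (Finset.HasAntidiagonal.antidiagonal m)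
    (fun x => (π ^ x.1 * p.coeff x.1) * (π ^ x.2 * q.coeff x.2)) (fun x _ => by
      rw [map_mul]
      exact mul_le_one' (val_pow_mul_le P hπ (hp x.1)) (val_pow_mul_le P hπ (hq x.2)))
  rw [h2.2]
  refine Finset.sum_congr rfl fun x _ => ?_
  rw [cst_mul P hP (val_pow_mul_le P hπ (hp x.1)) (val_pow_mul_le P hπ (hq x.2)),
    coeff_psiFun, coeff_psiFun]

include hπ in
theorem psiFun_add {p q : K[X]} (hp : p ∈ sectRing (Finsupp.single P 1 : Divisor k K))
    (hq : q ∈ sectRing (Finsupp.single P 1 : Divisor k K)) :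
    psiFun P hP π (p + q) = psiFun P hP π p + psiFun P hP π q := by
  rw [mem_sectRing_iff] at hp hq
  ext m
  rw [coeff_add, coeff_psiFun, coeff_psiFun, coeff_psiFun, coeff_add, mul_add,
    cst_add P hP (val_pow_mul_le P hπ (hp m)) (val_pow_mul_le P hπ (hq m))]

theorem psiFun_C (c : k) : psiFun P hP π (C (algebraMap k K c)) = C c := by
  ext m
  rw [coeff_psiFun, coeff_C, coeff_C]
  split_ifs with h
  · subst h
    rw [pow_zero, one_mul, cst_algebraMap]
  · rw [mul_zero, cst_zero]

/-- the leading coefficient homomorphism `R → k[X]` -/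
noncomputable def psi : ↥(sectRing (Finsupp.single P 1 : Divisor k K)) →ₐ[k] k[X] where
  toFun p := psiFun P hP π p.1
  map_one' := by
    have := psiFun_C P hP (π := π) 1
    rw [map_one, map_one, map_one] at this
    exact this
  map_mul' p q := psiFun_mul P hP hπ p.2 q.2
  map_zero' := by
    have := psiFun_C P hP (π := π) 0
    rw [map_zero, map_zero, map_zero] at this
    exact this
  map_add' p q := psiFun_add P hP hπ p.2 q.2
  commutes' c := psiFun_C P hP c

theorem psi_apply (p : ↥(sectRing (Finsupp.single P 1 : Divisor k K))) :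
    psi P hP hπ p = psiFun P hP π p.1 := rfl

theorem coeff_psi (p : ↥(sectRing (Finsupp.single P 1 : Divisor k K))) (m : ℕ) :
    (psi P hP hπ p).coeff m = cst P hP (π ^ m * (p : K[X]).coeff m) := coeff_psiFun P hP π p.1 m

end hom

end Groth.Agent.Helper7.SectB
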