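import Mathlib
import Groth.Agent.Helper7.SectB
set_option autoImplicit false
open FunFld Polynomial W4c6gradedringsgw
open Groth.Agent.Helper5.FF Groth.Agent.Helper7.SectA Groth.Agent.Helper7.SectB

namespace Groth.Agent.Helper7.SectC

variable {k K : Type*} [Field k] [Field K] [Algebra k K]

theorem mem_L_pred (P : Place k K) {n : ℤ} {x : K}
    (hx : x ∈ L (Finsupp.single P n : Divisor k K)) (hlt : P.1 x < WithZero.exp n) :
    x ∈ L (Finsupp.single P (n - 1) : Divisor k K) := by
  by_cases h0 : x = 0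
  · rw [h0]; exact Submodule.zero_mem _
  rw [mem_L_single_iff P _ h0] at hx ⊢
  refine ⟨?_, hx.2⟩
  have := (val_lt_exp_iff P h0 n).mp hlt
  omega

theorem val_lt_of_mem_pred (P : Place k K) {n : ℤ} {x : K}
    (hx : x ∈ L (Finsupp.single P (n - 1) : Divisor k K)) : P.1 x < WithZero.exp n := by
  have := val_le_of_mem P hx
  refine this.trans_lt ?_
  rw [WithZero.exp_lt_exp]
  omega

/-- for positive genus, `L(P) = k` -/
theorem exists_const_of_mem_L_single_one (hK : IsFunctionField k K) (hg : 0 < genus k K)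
    (P : Place k K) (hP : P.deg = 1) {a : K}
    (ha : a ∈ L (Finsupp.single P (1 : ℤ) : Divisor k K)) : ∃ c : k, a = algebraMap k K c := by
  have h0 : (0 : Divisor k K) ≤ Finsupp.single P (1 : ℤ) := by
    have := single_mono (k := k) (K := K) P (show (0 : ℤ) ≤ 1 by norm_num)
    rwa [Finsupp.single_zero] at this
  have hle : L (0 : Divisor k K) ≤ L (Finsupp.single P (1 : ℤ)) := L_mono h0
  have hfd := finiteDimensional_L hK (Finsupp.single P (1 : ℤ))
  have h1 := ell_single_one_of_genus_pos hK hg P hP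
  have h2 := ell_zero hK
  have heq : L (0 : Divisor k K) = L (Finsupp.single P (1 : ℤ)) :=
    Submodule.eq_of_le_of_finrank_eq hle (by unfold ell at h1 h2; rw [h1, h2])
  rw [← heq, L_zero hK, Submodule.mem_one] at ha
  obtain ⟨c, hc⟩ := ha
  exact ⟨c, hc.symm⟩

theorem mem_poleOrders_iff (hK : IsFunctionField k K) (P : Place k K) (hP : P.deg = 1) (n : ℕ) :
    n ∈ poleOrders P ↔ ¬ IsGap P n := by
  classical
  have h := ell_single_step hK P hP n
  unfold poleOrders
  rw [Set.mem_ofPred_eq, smul_single_one, smul_single_one, h]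
  split_ifs with hg
  · simp [hg]
  · simp [hg]

theorem not_isGap_zero (P : Place k K) : ¬ IsGap P 0 := by
  rw [not_isGap_iff]
  refine ⟨1, one_ne_zero, ?_, by simp [ord_one]⟩
  rw [mem_L_iff]
  intro Q
  rw [map_one]
  by_cases hQ : Q = P
  · subst hQ; simp
  · rw [Finsupp.single_eq_of_ne hQ]; simp

theorem closure_poleOrders (hK : IsFunctionField k K) (P : Place k K) (hP : P.deg = 1) {n : ℕ}
    (hn : n ∈ AddSubmonoid.closure (poleOrders P)) : n ∈ poleOrders P := by
  induction hn using AddSubmonoid.closure_induction with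
  | mem x hx => exact hx
  | zero => exact (mem_poleOrders_iff hK P hP 0).mpr (not_isGap_zero P)
  | add x y _ _ hx hy =>
    rw [mem_poleOrders_iff hK P hP] at hx hy ⊢
    exact not_isGap_add P hx hy

section hom

variable (P : Place k K) (hP : P.deg = 1) {π : K} (hπ : P.1 π = WithZero.exp (-1 : ℤ))

theorem psi_eq_zero_iff (p : ↥(sectRing (Finsupp.single P 1 : Divisor k K))) :
    psi P hP hπ p = 0 ↔ ∀ n : ℕ, P.1 ((p : K[X]).coeff n) < WithZero.exp (n : ℤ) := by
  have hp := (mem_sectRing_iff P p.1).mp p.2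
  constructor
  · intro h n
    have h1 : (psi P hP hπ p).coeff n = 0 := by rw [h, coeff_zero]
    rw [coeff_psi, cst_eq_zero_iff P hP (val_pow_mul_le P hπ (hp n)), val_pow_mul_lt_iff P hπ] at h1
    exact h1
  · intro h
    ext n
    rw [coeff_zero, coeff_psi, cst_eq_zero_iff P hP (val_pow_mul_le P hπ (hp n)),
      val_pow_mul_lt_iff P hπ]
    exact h n

theorem mem_poleOrders_of_coeff_psi_ne_zero (hK : IsFunctionField k K)
    (p : ↥(sectRing (Finsupp.single P 1 : Divisor k K))) {n : ℕ}
    (hn : (psi P hP hπ p).coeff n ≠ 0) : n ∈ poleOrders P := by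
  have hp := (mem_sectRing_iff P p.1).mp p.2
  rw [mem_poleOrders_iff hK P hP, not_isGap_iff]
  rw [coeff_psi, Ne, cst_eq_zero_iff P hP (val_pow_mul_le P hπ (hp n)), val_pow_mul_lt_iff P hπ] at hn
  have h0 : (p : K[X]).coeff n ≠ 0 := by
    intro h
    rw [h, map_zero] at hn
    exact hn (by simp [zero_lt_iff])
  refine ⟨_, h0, hp n, ?_⟩
  have h1 := (mem_L_single_iff P _ h0).mp (hp n)
  have h2 := (val_lt_exp_iff P h0 n).not.mp hn
  omega

end hom


section ker

variable (P : Place k K) (hP : P.deg = 1) {π : K} (hπ : P.1 π = WithZero.exp (-1 : ℤ))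

theorem ker_psi (hK : IsFunctionField k K) (hg : 0 < genus k K)
    (t : ↥(sectRing (Finsupp.single P 1 : Divisor k K))) (a : K) (ha : a ≠ 0)
    (ht : (t : K[X]) = C a * X) :
    RingHom.ker (psi P hP hπ) = Ideal.span {t} := by
  have htm := (mem_sectRing_iff P t.1).mp t.2 1
  rw [ht, coeff_C_mul_X, if_pos rfl] at htm
  obtain ⟨a₀, rfl⟩ := exists_const_of_mem_L_single_one hK hg P hP htm
  have ha₀ : a₀ ≠ 0 := by
    rintro rfl
    exact ha (map_zero _)
  apply le_antisymm
  · intro p hp
    rw [RingHom.mem_ker] at hp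
    have hp' : psi P hP hπ p = 0 := hp
    rw [psi_eq_zero_iff] at hp'
    have hpm := (mem_sectRing_iff P p.1).mp p.2
    -- constant coefficient vanishes
    have h0 : (p : K[X]).coeff 0 = 0 := by
      have h1 := hpm 0
      have h2 := hp' 0
      rw [Nat.cast_zero] at h1 h2
      have h3 : (Finsupp.single P (0 : ℤ) : Divisor k K) = 0 := Finsupp.single_zero _
      rw [h3, L_zero hK, Submodule.mem_one] at h1
      obtain ⟨c, hc⟩ := h1
      rw [← hc, WithZero.exp_zero] at h2
      rw [← hc, const_eq_zero_of_val_lt P h2, map_zero]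
    -- the quotient
    have hq : C (algebraMap k K a₀⁻¹) * divX (p : K[X]) ∈
        sectRing (Finsupp.single P 1 : Divisor k K) := by
      rw [mem_sectRing_iff]
      intro n
      rw [coeff_C_mul, coeff_divX, ← Algebra.smul_def]
      refine Submodule.smul_mem _ _ ?_
      have h1 := mem_L_pred P (hpm (n + 1)) (hp' (n + 1))
      have h2 : ((n + 1 : ℕ) : ℤ) - 1 = (n : ℤ) := by push_cast; ring
      rwa [h2] at h1
    rw [Ideal.mem_span_singleton']
    refine ⟨⟨_, hq⟩, ?_⟩
    apply Subtype.ext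
    change (C (algebraMap k K a₀⁻¹) * divX (p : K[X])) * (t : K[X]) = (p : K[X])
    rw [ht]
    have h4 := divX_mul_X_add (p : K[X])
    rw [h0, map_zero, add_zero] at h4
    calc C (algebraMap k K a₀⁻¹) * divX (p : K[X]) * (C (algebraMap k K a₀) * X)
        = C (algebraMap k K a₀⁻¹ * algebraMap k K a₀) * (divX (p : K[X]) * X) := by
          rw [C_mul]; ring
      _ = (p : K[X]) := by
          rw [h4, ← map_mul, inv_mul_cancel₀ ha₀, map_one, map_one, one_mul]
  · rw [Ideal.span_le, Set.singleton_subset_iff, SetLike.mem_coe, RingHom.mem_ker]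
    change psi P hP hπ t = 0
    rw [psi_eq_zero_iff]
    intro n
    rw [ht, coeff_C_mul_X]
    split_ifs with h
    · subst h
      rw [val_algebraMap P ha₀, ← WithZero.exp_zero, WithZero.exp_lt_exp]
      norm_num
    · rw [map_zero]; simp [zero_lt_iff]

end ker


section range

variable (P : Place k K) (hP : P.deg = 1) {π : K} (hπ : P.1 π = WithZero.exp (-1 : ℤ))

theorem monomial_mem_sectRing {n : ℕ} {x : K}
    (hx : x ∈ L (Finsupp.single P (n : ℤ) : Divisor k K)) :
    monomial n x ∈ sectRing (Finsupp.single P 1 : Divisor k K) := by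
  rw [mem_sectRing_iff]
  intro m
  rw [coeff_monomial]
  split_ifs with h
  · subst h; exact hx
  · exact Submodule.zero_mem _

theorem monomial_mem_range_psi (hK : IsFunctionField k K) {n : ℕ} (hn : n ∈ poleOrders P) (c : k) :
    monomial n c ∈ (psi P hP hπ).range := by
  rw [mem_poleOrders_iff hK P hP, not_isGap_iff] at hn
  obtain ⟨x, hx0, hxL, hxo⟩ := hn
  have hc₀ : cst P hP (π ^ n * x) ≠ 0 := by
    rw [Ne, cst_eq_zero_iff P hP (val_pow_mul_le P hπ hxL), val_pow_mul_lt_iff P hπ,
      val_lt_exp_iff P hx0]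
    omega
  refine ⟨(c / cst P hP (π ^ n * x)) • ⟨monomial n x, monomial_mem_sectRing P hxL⟩, ?_⟩
  change psi P hP hπ ((c / cst P hP (π ^ n * x)) • ⟨monomial n x, monomial_mem_sectRing P hxL⟩) = _
  rw [map_smul]
  ext m
  rw [coeff_smul, coeff_psi, coeff_monomial, coeff_monomial]
  split_ifs with h
  · subst h
    rw [smul_eq_mul, div_mul_cancel₀ _ hc₀]
  · rw [mul_zero, cst_zero, smul_zero]

theorem psi_mem_of_support (hK : IsFunctionField k K)
    (S : Subalgebra k k[X]) (hS : ∀ n ∈ poleOrders P, ∀ c : k, monomial n c ∈ S)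
    (p : ↥(sectRing (Finsupp.single P 1 : Divisor k K))) : psi P hP hπ p ∈ S := by
  rw [← Polynomial.sum_monomial_eq (psi P hP hπ p)]
  unfold Polynomial.sum
  refine Subalgebra.sum_mem _ fun n hn => ?_
  exact hS n (mem_poleOrders_of_coeff_psi_ne_zero P hP hπ hK p (Polynomial.mem_support_iff.mp hn)) _

end range

end Groth.Agent.Helper7.SectC
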