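import Mathlib
import Groth.Agent.Helper7.SectC
set_option autoImplicit false
open FunFld Polynomial W4c6gradedringsgw
open Groth.Agent.Helper5.FF Groth.Agent.Helper7.SectA Groth.Agent.Helper7.SectB
  Groth.Agent.Helper7.SectC

namespace Groth.Agent.Helper7.SectD

variable {k : Type*} [Field k]

/-- the embedding of a semigroup algebra of a submonoid of `ℕ` into `k[X]` -/
noncomputable def jj (H : AddSubmonoid ℕ) : AddMonoidAlgebra k ↥H →ₐ[k] k[X] :=
  (Polynomial.toFinsuppIsoAlg k).symm.toAlgHom.comp
    (AddMonoidAlgebra.mapDomainAlgHom k k H.subtype)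

theorem jj_single (H : AddSubmonoid ℕ) (h : ↥H) (c : k) :
    jj H (AddMonoidAlgebra.single h c) = monomial (h : ℕ) c := by
  unfold jj
  rw [AlgHom.comp_apply, AddMonoidAlgebra.mapDomainAlgHom_apply, AddMonoidAlgebra.mapDomain_single]
  change (⟨AddMonoidAlgebra.single (h : ℕ) c⟩ : k[X]) = _
  rw [ofFinsupp_single]

theorem jj_injective (H : AddSubmonoid ℕ) : Function.Injective (jj (k := k) H) := by
  unfold jj
  intro x y hxy
  rw [AlgHom.comp_apply, AlgHom.comp_apply] at hxy
  have := (Polynomial.toFinsuppIsoAlg k).symm.injective hxy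
  rw [AddMonoidAlgebra.mapDomainAlgHom_apply, AddMonoidAlgebra.mapDomainAlgHom_apply] at this
  exact AddMonoidAlgebra.mapDomain_injective Subtype.val_injective this


universe u

theorem main (k : Type u) [Field k] [IsAlgClosed k] (K : Type u) [Field K] [Algebra k K]
    (hK : FunFld.IsFunctionField k K) (hg : 1 ≤ FunFld.genus k K) (P : FunFld.Place k K)
    (t : ↥(sectRing (Finsupp.single P 1 : FunFld.Divisor k K))) (a : K) (ha : a ≠ 0)
    (ht : (t : Polynomial K) = Polynomial.C a * Polynomial.X) :
    Prime t ∧ Nonempty ((↥(sectRing (Finsupp.single P 1 : FunFld.Divisor k K)) ⧸ Ideal.span {t})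
      ≃ₐ[k] AddMonoidAlgebra k ↥(AddSubmonoid.closure (poleOrders P))) := by
  have hP := deg_eq_one_of_isAlgClosed hK P
  obtain ⟨π, hπ⟩ := exists_uniformizer P
  have hker := ker_psi P hP hπ hK hg t a ha ht
  have ht0 : t ≠ 0 := by
    intro h
    rw [h] at ht
    have h1 : (C a * X : K[X]).coeff 1 = 0 := by rw [← ht]; rfl
    rw [coeff_C_mul_X, if_pos rfl] at h1
    exact ha h1
  have hrange : (psi P hP hπ).range = (jj (k := k) (AddSubmonoid.closure (poleOrders P))).range := by
    apply le_antisymm
    · rintro _ ⟨p, rfl⟩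
      refine psi_mem_of_support P hP hπ hK _ ?_ p
      intro n hn c
      exact ⟨AddMonoidAlgebra.single ⟨n, AddSubmonoid.subset_closure hn⟩ c, jj_single _ _ _⟩
    · rintro _ ⟨y, rfl⟩
      induction y using AddMonoidAlgebra.induction_linear with
      | zero => exact ⟨0, by simp⟩
      | add x y hx hy =>
        rw [map_add]
        exact add_mem hx hy
      | single m r =>
        change jj _ (AddMonoidAlgebra.single m r) ∈ _
        rw [jj_single]
        exact monomial_mem_range_psi P hP hπ hK (closure_poleOrders hK P hP m.2) r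
  refine ⟨?_, ?_⟩
  · rw [← Ideal.span_singleton_prime ht0, ← hker]
    exact RingHom.ker_isPrime _
  · have hk2 : Ideal.span {t} = RingHom.ker (psi P hP hπ).rangeRestrict := by
      rw [AlgHom.ker_rangeRestrict, hker]
    exact ⟨(Ideal.quotientEquivAlgOfEq k hk2).trans
      ((Ideal.quotientKerAlgEquivOfSurjective (psi P hP hπ).rangeRestrict_surjective).trans
        ((Subalgebra.equivOfEq _ _ hrange).trans
          (AlgEquiv.ofInjective _ (jj_injective _)).symm))⟩

end Groth.Agent.Helper7.SectD
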