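import Mathlib
import Groth.Agent.Helper7.SectC
set_option autoImplicit false
open FunFld Polynomial W4c6gradedringsgw
open Groth.Agent.Helper5.FF Groth.Agent.Helper7.SectA Groth.Agent.Helper7.SectB
  Groth.Agent.Helper7.SectC

namespace Groth.Agent.Helper7.SectE

variable {k K : Type*} [Field k] [Field K] [Algebra k K]

theorem isGap_one (hK : IsFunctionField k K) (hg : 0 < genus k K)
    (P : Place k K) (hP : P.deg = 1) : IsGap P 1 := by
  by_contra h
  rw [not_isGap_iff] at h
  obtain ⟨x, hx0, hxL, hxo⟩ := h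
  obtain ⟨c, rfl⟩ := exists_const_of_mem_L_single_one hK hg P hP hxL
  rw [ord_algebraMap] at hxo
  norm_num at hxo

theorem one_notMem_poleOrders (hK : IsFunctionField k K) (hg : 0 < genus k K)
    (P : Place k K) (hP : P.deg = 1) : 1 ∉ poleOrders P := by
  rw [mem_poleOrders_iff hK P hP, not_not]
  exact isGap_one hK hg P hP

theorem mem_poleOrders_of_ge (hK : IsFunctionField k K) (P : Place k K) (hP : P.deg = 1) {n : ℕ}
    (hn : 2 * genus k K ≤ n) : n ∈ poleOrders P := by
  unfold poleOrders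
  rw [Set.mem_ofPred_eq, smul_single_one, smul_single_one]
  have h1 := ell_eq_of_deg_ge hK (Finsupp.single P (n : ℤ) : Divisor k K)
    (by rw [deg_single, hP]; push_cast; omega)
  have h2 := ell_eq_of_deg_ge hK (Finsupp.single P ((n : ℤ) - 1) : Divisor k K)
    (by rw [deg_single, hP]; push_cast; omega)
  rw [deg_single, hP] at h1 h2
  push_cast at h1 h2
  zify
  omega

theorem minGens_subset (hK : IsFunctionField k K) (hg : 0 < genus k K) (P : Place k K)
    (hP : P.deg = 1) : minGens (poleOrders P) ⊆ ↑(Finset.range (4 * genus k K)) := by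
  intro h hh
  rw [Finset.coe_range, Set.mem_Iio]
  by_contra hge
  push Not at hge
  obtain ⟨h1, h2, h3⟩ := hh
  refine h3 (2 * genus k K) (mem_poleOrders_of_ge hK P hP le_rfl) (h - 2 * genus k K)
    (mem_poleOrders_of_ge hK P hP (by omega)) (by omega) (by omega) (by omega)

theorem finite_minGens (hK : IsFunctionField k K) (hg : 0 < genus k K) (P : Place k K)
    (hP : P.deg = 1) : (minGens (poleOrders P)).Finite :=
  (Finset.finite_toSet _).subset (minGens_subset hK hg P hP)

theorem one_notMem_minGens (hK : IsFunctionField k K) (hg : 0 < genus k K)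
    (P : Place k K) (hP : P.deg = 1) : 1 ∉ minGens (poleOrders P) :=
  fun h => one_notMem_poleOrders hK hg P hP h.1

/-- a chosen function with exact pole order `n` at `P` -/
noncomputable def fgen (P : Place k K) (n : ℕ) : K := by
  classical
  exact if h : ¬ IsGap P n then Classical.choose ((not_isGap_iff P n).mp h) else 0

theorem fgen_spec (hK : IsFunctionField k K) (P : Place k K) (hP : P.deg = 1) {n : ℕ}
    (hn : n ∈ poleOrders P) :
    fgen P n ≠ 0 ∧ fgen P n ∈ L (Finsupp.single P (n : ℤ) : Divisor k K) ∧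
      P.ord (fgen P n) = -(n : ℤ) := by
  rw [mem_poleOrders_iff hK P hP] at hn
  unfold fgen
  rw [dif_pos hn]
  exact Classical.choose_spec ((not_isGap_iff P n).mp hn)

theorem mem_poleOrders_of_ord (hK : IsFunctionField k K) (P : Place k K) (hP : P.deg = 1) {n : ℕ}
    {f : K} (hf : f ∈ L (Finsupp.single P (n : ℤ) : Divisor k K))
    (hlt : ¬ P.1 f < WithZero.exp (n : ℤ)) :
    n ∈ poleOrders P ∧ f ≠ 0 ∧ P.ord f = -(n : ℤ) := by
  have h0 : f ≠ 0 := by
    rintro rfl
    exact hlt (by simp [zero_lt_iff])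
  have h1 := (mem_L_single_iff P _ h0).mp hf
  have h2 := (val_lt_exp_iff P h0 n).not.mp hlt
  have h3 : P.ord f = -(n : ℤ) := by omega
  refine ⟨?_, h0, h3⟩
  rw [mem_poleOrders_iff hK P hP, not_isGap_iff]
  exact ⟨f, h0, hf, h3⟩

/-- a non-minimal nonzero element of `H` splits -/
theorem exists_split (P : Place k K) {n : ℕ} (hn : n ∈ poleOrders P) (hn0 : n ≠ 0)
    (hmin : n ∉ minGens (poleOrders P)) :
    ∃ a b : ℕ, a ∈ poleOrders P ∧ b ∈ poleOrders P ∧ a ≠ 0 ∧ b ≠ 0 ∧ a + b = n := by
  by_contra hcon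
  apply hmin
  refine ⟨hn, hn0, fun a ha b hb ha0 hb0 hab => hcon ⟨a, b, ha, hb, ha0, hb0, hab⟩⟩

end Groth.Agent.Helper7.SectE
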