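import Mathlib
import Groth.Agent.Helper7.SectE
set_option autoImplicit false
open FunFld Polynomial W4c6gradedringsgw
open Groth.Agent.Helper5.FF Groth.Agent.Helper7.SectA Groth.Agent.Helper7.SectB
  Groth.Agent.Helper7.SectC Groth.Agent.Helper7.SectE

namespace Groth.Agent.Helper7.SectF

variable {k K : Type*} [Field k] [Field K] [Algebra k K]

/-- homogeneous elements of the section ring -/
noncomputable def mono (P : Place k K) (n : ℕ) (f : K)
    (hf : f ∈ L (Finsupp.single P (n : ℤ) : Divisor k K)) :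
    ↥(sectRing (Finsupp.single P 1 : Divisor k K)) :=
  ⟨monomial n f, monomial_mem_sectRing P hf⟩

theorem mono_add (P : Place k K) (n : ℕ) {f g : K}
    (hf : f ∈ L (Finsupp.single P (n : ℤ) : Divisor k K))
    (hg : g ∈ L (Finsupp.single P (n : ℤ) : Divisor k K)) :
    mono P n (f + g) (Submodule.add_mem _ hf hg) = mono P n f hf + mono P n g hg := by
  apply Subtype.ext
  change monomial n (f + g) = monomial n f + monomial n g
  rw [map_add]

theorem mono_smul (P : Place k K) (n : ℕ) (c : k) {f : K}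
    (hf : f ∈ L (Finsupp.single P (n : ℤ) : Divisor k K)) :
    mono P n (c • f) (Submodule.smul_mem _ c hf) = c • mono P n f hf := by
  apply Subtype.ext
  change monomial n (c • f) = c • monomial n f
  rw [smul_monomial]

theorem mono_congr (P : Place k K) (n : ℕ) {f g : K} (h : f = g)
    (hf : f ∈ L (Finsupp.single P (n : ℤ) : Divisor k K))
    (hg : g ∈ L (Finsupp.single P (n : ℤ) : Divisor k K)) :
    mono P n f hf = mono P n g hg := by
  subst h; rfl

theorem mul_mem_L_single (P : Place k K) {a b : ℤ} {f g : K}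
    (hf : f ∈ L (Finsupp.single P a : Divisor k K))
    (hg : g ∈ L (Finsupp.single P b : Divisor k K)) :
    f * g ∈ L (Finsupp.single P (a + b) : Divisor k K) := by
  have := mul_mem_L hf hg
  rwa [← Finsupp.single_add] at this

theorem mono_mul (P : Place k K) (a b : ℕ) {f g : K}
    (hf : f ∈ L (Finsupp.single P (a : ℤ) : Divisor k K))
    (hg : g ∈ L (Finsupp.single P (b : ℤ) : Divisor k K))
    (hfg : f * g ∈ L (Finsupp.single P ((a + b : ℕ) : ℤ) : Divisor k K)) :
    mono P (a + b) (f * g) hfg = mono P a f hf * mono P b g hg := by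
  apply Subtype.ext
  change monomial (a + b) (f * g) = monomial a f * monomial b g
  rw [monomial_mul_monomial]

theorem one_mem_L_single (P : Place k K) {n : ℤ} (hn : 0 ≤ n) :
    (1 : K) ∈ L (Finsupp.single P n : Divisor k K) := by
  rw [mem_L_iff]
  intro Q
  rw [map_one]
  by_cases hQ : Q = P
  · subst hQ
    rw [Finsupp.single_eq_same, ← WithZero.exp_zero, WithZero.exp_le_exp]
    exact hn
  · rw [Finsupp.single_eq_of_ne hQ]; simp

theorem fgen_mem (P : Place k K) (n : ℕ) :
    fgen P n ∈ L (Finsupp.single P (n : ℤ) : Divisor k K) := by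
  classical
  unfold fgen
  by_cases h : ¬ IsGap P n
  · rw [dif_pos h]
    exact (Classical.choose_spec ((not_isGap_iff P n).mp h)).2.1
  · rw [dif_neg h]
    exact Submodule.zero_mem _

/-- the coefficient of the `n`-th generator -/
noncomputable def gcoef (P : Place k K) (n : ℕ) : K := if n = 1 then 1 else fgen P n

theorem gcoef_mem (P : Place k K) (n : ℕ) :
    gcoef P n ∈ L (Finsupp.single P (n : ℤ) : Divisor k K) := by
  unfold gcoef
  split_ifs with h
  · subst h; exact one_mem_L_single P (by norm_num)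
  · exact fgen_mem P n

/-- the `n`-th generator -/
noncomputable def genR (P : Place k K) (n : ℕ) : ↥(sectRing (Finsupp.single P 1 : Divisor k K)) :=
  mono P n (gcoef P n) (gcoef_mem P n)

/-- the index set of the generators -/
def idx (P : Place k K) : Set ℕ := insert 1 (minGens (poleOrders P))

/-- the ideal generated by the generators -/
noncomputable def JJ (P : Place k K) : Ideal ↥(sectRing (Finsupp.single P 1 : Divisor k K)) :=
  Ideal.span (genR P '' idx P)

theorem genR_mem_JJ (P : Place k K) {n : ℕ} (hn : n ∈ idx P) : genR P n ∈ JJ P :=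
  Ideal.subset_span ⟨n, hn, rfl⟩

theorem mono_one_mem (hK : IsFunctionField k K) (hg : 0 < genus k K) (P : Place k K)
    (hP : P.deg = 1) {f : K} (hf : f ∈ L (Finsupp.single P ((1 : ℕ) : ℤ) : Divisor k K)) :
    mono P 1 f hf ∈ JJ P := by
  obtain ⟨c, rfl⟩ := exists_const_of_mem_L_single_one hK hg P hP (by simpa using hf)
  have h1 : mono P 1 (algebraMap k K c) hf = c • genR P 1 := by
    apply Subtype.ext
    change monomial 1 (algebraMap k K c) = c • monomial 1 (gcoef P 1)
    rw [smul_monomial, gcoef, if_pos rfl, Algebra.smul_def, mul_one]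
  rw [h1, Algebra.smul_def]
  exact Ideal.mul_mem_left _ _ (genR_mem_JJ P (Set.mem_insert _ _))

theorem mono_succ_mem (P : Place k K) {n : ℕ} {f : K}
    (hf' : f ∈ L (Finsupp.single P (n : ℤ) : Divisor k K))
    (hf : f ∈ L (Finsupp.single P ((n + 1 : ℕ) : ℤ) : Divisor k K))
    (h : mono P n f hf' ∈ JJ P) : mono P (n + 1) f hf ∈ JJ P := by
  have h1 : mono P (n + 1) f hf = genR P 1 * mono P n f hf' := by
    apply Subtype.ext
    change monomial (n + 1) f = monomial 1 (gcoef P 1) * monomial n f
    rw [monomial_mul_monomial, gcoef, if_pos rfl, one_mul, add_comm]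
  rw [h1]
  exact Ideal.mul_mem_left _ _ h

theorem reduce (P : Place k K) (hP : P.deg = 1) {n : ℕ} {u : K} (hu0 : u ≠ 0)
    (huL : u ∈ L (Finsupp.single P (n : ℤ) : Divisor k K)) (hu : P.ord u = -(n : ℤ))
    (hJ : mono P n u huL ∈ JJ P)
    (hlow : ∀ (f : K) (hf : f ∈ L (Finsupp.single P (n : ℤ) : Divisor k K)),
      f ∈ L (Finsupp.single P ((n : ℤ) - 1) : Divisor k K) → mono P n f hf ∈ JJ P)
    {f : K} (hf : f ∈ L (Finsupp.single P (n : ℤ) : Divisor k K)) : mono P n f hf ∈ JJ P := by
  obtain ⟨c, hc⟩ := exists_sub_smul_mem P hP n hu0 hu huL hf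
  have hsub : f - c • u ∈ L (Finsupp.single P (n : ℤ) : Divisor k K) :=
    Submodule.sub_mem _ hf (Submodule.smul_mem _ c huL)
  have h1 : mono P n f hf = c • mono P n u huL + mono P n (f - c • u) hsub := by
    rw [← mono_smul, ← mono_add]
    exact mono_congr P n (by ring) _ _
  rw [h1, Algebra.smul_def]
  exact Ideal.add_mem _ (Ideal.mul_mem_left _ _ hJ) (hlow _ hsub hc)

theorem mono_mem (hK : IsFunctionField k K) (hg : 0 < genus k K) (P : Place k K)
    (hP : P.deg = 1) (n : ℕ) (hn : 1 ≤ n) :
    ∀ (f : K) (hf : f ∈ L (Finsupp.single P (n : ℤ) : Divisor k K)), mono P n f hf ∈ JJ P := by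
  induction n using Nat.strong_induction_on with
  | _ n ih =>
  intro f hf
  rcases Nat.lt_or_ge n 2 with h2 | h2
  · have h1 : n = 1 := by omega
    subst h1
    exact mono_one_mem hK hg P hP hf
  -- the lower part
  have hlow : ∀ (f : K) (hf : f ∈ L (Finsupp.single P (n : ℤ) : Divisor k K)),
      f ∈ L (Finsupp.single P ((n : ℤ) - 1) : Divisor k K) → mono P n f hf ∈ JJ P := by
    intro f hf hf'
    obtain ⟨m, rfl⟩ : ∃ m, n = m + 1 := ⟨n - 1, by omega⟩
    have h3 : ((m + 1 : ℕ) : ℤ) - 1 = (m : ℤ) := by push_cast; ring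
    rw [h3] at hf'
    exact mono_succ_mem P hf' hf (ih m (by omega) (by omega) f hf')
  by_cases hlt : P.1 f < WithZero.exp (n : ℤ)
  · exact hlow f hf (mem_L_pred P hf hlt)
  obtain ⟨hnH, -, -⟩ := mem_poleOrders_of_ord hK P hP hf hlt
  by_cases hmin : n ∈ minGens (poleOrders P)
  · obtain ⟨hu0, huL, hu⟩ := fgen_spec hK P hP hnH
    refine reduce P hP hu0 huL hu ?_ hlow hf
    have h4 : mono P n (fgen P n) huL = genR P n := by
      apply Subtype.ext
      change monomial n (fgen P n) = monomial n (gcoef P n)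
      rw [gcoef, if_neg (by omega)]
    rw [h4]
    exact genR_mem_JJ P (Set.mem_insert_of_mem _ hmin)
  · obtain ⟨a, b, ha, hb, ha0, hb0, hab⟩ := exists_split P hnH (by omega) hmin
    obtain ⟨hu0, huL, hu⟩ := fgen_spec hK P hP ha
    obtain ⟨hv0, hvL, hv⟩ := fgen_spec hK P hP hb
    subst hab
    have huv : fgen P a * fgen P b ∈ L (Finsupp.single P ((a + b : ℕ) : ℤ) : Divisor k K) := by
      have := mul_mem_L_single P huL hvL
      rwa [← Nat.cast_add] at this
    refine reduce P hP (mul_ne_zero hu0 hv0) huv ?_ ?_ hlow hf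
    · rw [ord_mul P hu0 hv0, hu, hv]; push_cast; ring
    · rw [mono_mul P a b huL hvL huv]
      exact Ideal.mul_mem_right _ _ (ih a (by omega) (by omega) _ huL)

end Groth.Agent.Helper7.SectF
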