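import Mathlib
import Groth.Agent.Helper7.SectF
set_option autoImplicit false
open FunFld Polynomial W4c6gradedringsgw
open Groth.Agent.Helper5.FF Groth.Agent.Helper7.SectA Groth.Agent.Helper7.SectB
  Groth.Agent.Helper7.SectC Groth.Agent.Helper7.SectE Groth.Agent.Helper7.SectF

namespace Groth.Agent.Helper7.SectG

variable {k K : Type*} [Field k] [Field K] [Algebra k K]

/-- the irrelevant ideal -/
noncomputable def Irr (P : Place k K) : Ideal ↥(sectRing (Finsupp.single P 1 : Divisor k K)) :=
  RingHom.ker (Polynomial.constantCoeff.comp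
    (sectRing (Finsupp.single P 1 : Divisor k K)).val.toRingHom)

theorem mem_Irr_iff (P : Place k K) (p : ↥(sectRing (Finsupp.single P 1 : Divisor k K))) :
    p ∈ Irr P ↔ (p : K[X]).coeff 0 = 0 := by
  unfold Irr
  rw [RingHom.mem_ker, RingHom.comp_apply, constantCoeff_apply]
  rfl

theorem idx_ne_zero (P : Place k K) {n : ℕ} (hn : n ∈ idx P) : n ≠ 0 := by
  rcases hn with rfl | hn
  · exact one_ne_zero
  · exact hn.2.1

theorem genR_mem_Irr (P : Place k K) {n : ℕ} (hn : n ∈ idx P) : genR P n ∈ Irr P := by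
  rw [mem_Irr_iff]
  change (monomial n (gcoef P n)).coeff 0 = 0
  rw [coeff_monomial, if_neg (idx_ne_zero P hn)]

theorem eq_sum_mono (P : Place k K) (p : ↥(sectRing (Finsupp.single P 1 : Divisor k K))) :
    p = ∑ n ∈ (p : K[X]).support,
      mono P n ((p : K[X]).coeff n) ((mem_sectRing_iff P p.1).mp p.2 n) := by
  apply Subtype.ext
  rw [AddSubmonoidClass.coe_finsetSum]
  conv_lhs => rw [← Polynomial.sum_monomial_eq (p : K[X])]
  rfl

theorem JJ_eq_Irr (hK : IsFunctionField k K) (hg : 0 < genus k K) (P : Place k K)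
    (hP : P.deg = 1) : JJ P = Irr P := by
  apply le_antisymm
  · unfold JJ
    rw [Ideal.span_le]
    rintro _ ⟨n, hn, rfl⟩
    exact genR_mem_Irr P hn
  · intro p hp
    rw [mem_Irr_iff] at hp
    rw [eq_sum_mono P p]
    refine Ideal.sum_mem _ fun n hn => ?_
    have hn0 : n ≠ 0 := by
      rintro rfl
      exact (Polynomial.mem_support_iff.mp hn) hp
    exact mono_mem hK hg P hP n (by omega) _ _

theorem ncard_idx (hK : IsFunctionField k K) (hg : 0 < genus k K) (P : Place k K)
    (hP : P.deg = 1) : (idx P).ncard = (minGens (poleOrders P)).ncard + 1 :=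
  Set.ncard_insert_of_notMem (one_notMem_minGens hK hg P hP) (finite_minGens hK hg P hP)

theorem finite_idx (hK : IsFunctionField k K) (hg : 0 < genus k K) (P : Place k K)
    (hP : P.deg = 1) : (idx P).Finite :=
  (finite_minGens hK hg P hP).insert 1

theorem spanFinrank_le (hK : IsFunctionField k K) (hg : 0 < genus k K) (P : Place k K)
    (hP : P.deg = 1) : (Irr P).spanFinrank ≤ (minGens (poleOrders P)).ncard + 1 := by
  rw [← JJ_eq_Irr hK hg P hP, ← ncard_idx hK hg P hP]
  unfold JJ
  exact (Submodule.spanFinrank_span_le_ncard_of_finite ((finite_idx hK hg P hP).image _)).trans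
    (Set.ncard_image_le (finite_idx hK hg P hP))

theorem fg_Irr (hK : IsFunctionField k K) (hg : 0 < genus k K) (P : Place k K)
    (hP : P.deg = 1) : (Irr P).FG := by
  rw [← JJ_eq_Irr hK hg P hP]
  exact Submodule.fg_span ((finite_idx hK hg P hP).image _)

end Groth.Agent.Helper7.SectG
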