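import Mathlib
import Groth.Agent.Helper7.SectG
set_option autoImplicit false
open FunFld Polynomial W4c6gradedringsgw
open Groth.Agent.Helper5.FF Groth.Agent.Helper7.SectA Groth.Agent.Helper7.SectB
  Groth.Agent.Helper7.SectC Groth.Agent.Helper7.SectE Groth.Agent.Helper7.SectF
  Groth.Agent.Helper7.SectG

namespace Groth.Agent.Helper7.SectH

variable {k K : Type*} [Field k] [Field K] [Algebra k K]

section

variable (hK : IsFunctionField k K) (hg : 0 < genus k K) (P : Place k K) (hP : P.deg = 1)
  {π : K} (hπ : P.1 π = WithZero.exp (-1 : ℤ))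

include hK hg hP in
theorem val_coeff_one_le (p : ↥(sectRing (Finsupp.single P 1 : Divisor k K))) :
    P.1 ((p : K[X]).coeff 1) ≤ 1 := by
  have h := (mem_sectRing_iff P p.1).mp p.2 1
  obtain ⟨c, hc⟩ := exists_const_of_mem_L_single_one hK hg P hP (by simpa using h)
  rw [hc]
  exact P.2.1 c

theorem val_coeff_zero_le (p : ↥(sectRing (Finsupp.single P 1 : Divisor k K))) :
    P.1 ((p : K[X]).coeff 0) ≤ 1 := by
  have h := (mem_sectRing_iff P p.1).mp p.2 0
  have := val_le_of_mem P h
  simpa using this

/-- the degree one functional -/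
noncomputable def lam1 : ↥(sectRing (Finsupp.single P 1 : Divisor k K)) →ₗ[k] k where
  toFun p := cst P hP ((p : K[X]).coeff 1)
  map_add' p q := by
    change cst P hP (((p : K[X]) + (q : K[X])).coeff 1) = _
    rw [coeff_add, cst_add P hP (val_coeff_one_le hK hg P hP p) (val_coeff_one_le hK hg P hP q)]
  map_smul' c p := by
    change cst P hP ((c • (p : K[X])).coeff 1) = _
    rw [coeff_smul, cst_smul P hP c (val_coeff_one_le hK hg P hP p)]
    rfl

/-- the functionals -/
noncomputable def lamL (m : ℕ) : ↥(sectRing (Finsupp.single P 1 : Divisor k K)) →ₗ[k] k :=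
  if m = 1 then lam1 hK hg P hP else (lcoeff k m) ∘ₗ (psi P hP hπ).toLinearMap

theorem lamL_one (p : ↥(sectRing (Finsupp.single P 1 : Divisor k K))) :
    lamL hK hg P hP hπ 1 p = cst P hP ((p : K[X]).coeff 1) := by
  unfold lamL
  rw [if_pos rfl]
  rfl

theorem lamL_of_ne {m : ℕ} (hm : m ≠ 1) (p : ↥(sectRing (Finsupp.single P 1 : Divisor k K))) :
    lamL hK hg P hP hπ m p = (psi P hP hπ p).coeff m := by
  unfold lamL
  rw [if_neg hm]
  rfl

/-- the constant term -/
noncomputable def c0 (r : ↥(sectRing (Finsupp.single P 1 : Divisor k K))) : k :=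
  cst P hP ((r : K[X]).coeff 0)

theorem coeff_psi_zero (r : ↥(sectRing (Finsupp.single P 1 : Divisor k K))) :
    (psi P hP hπ r).coeff 0 = c0 P hP r := by
  rw [coeff_psi, pow_zero, one_mul]
  rfl

theorem lamL_mul {m : ℕ} (hm : m ∈ idx P) (r p : ↥(sectRing (Finsupp.single P 1 : Divisor k K)))
    (hp : p ∈ Irr P) :
    lamL hK hg P hP hπ m (r * p) = c0 P hP r * lamL hK hg P hP hπ m p := by
  rw [mem_Irr_iff] at hp
  by_cases h1 : m = 1
  · subst h1
    rw [lamL_one, lamL_one]
    change cst P hP (((r : K[X]) * (p : K[X])).coeff 1) = _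
    rw [mul_coeff_one, hp, mul_zero, add_zero,
      cst_mul P hP (val_coeff_zero_le P r) (val_coeff_one_le hK hg P hP p)]
    rfl
  · have hmin : m ∈ minGens (poleOrders P) := by
      rcases hm with rfl | hm
      · exact absurd rfl h1
      · exact hm
    rw [lamL_of_ne _ _ _ _ _ h1, lamL_of_ne _ _ _ _ _ h1, map_mul, coeff_mul]
    rw [Finset.sum_eq_single (0, m)]
    · rw [coeff_psi_zero]
    · rintro ⟨i, j⟩ hij hne
      rw [Finset.HasAntidiagonal.mem_antidiagonal] at hij
      simp only at hij
      by_contra hcon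
      have hi : (psi P hP hπ r).coeff i ≠ 0 := fun h => hcon (by rw [h, zero_mul])
      have hj : (psi P hP hπ p).coeff j ≠ 0 := fun h => hcon (by rw [h, mul_zero])
      have hiH := mem_poleOrders_of_coeff_psi_ne_zero P hP hπ hK r hi
      have hjH := mem_poleOrders_of_coeff_psi_ne_zero P hP hπ hK p hj
      have hj0 : j ≠ 0 := by
        rintro rfl
        apply hj
        rw [coeff_psi, hp, mul_zero, cst_zero]
      have hi0 : i ≠ 0 := by
        rintro rfl
        apply hne
        rw [zero_add] at hij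
        rw [hij]
      exact hmin.2.2 i hiH j hjH hi0 hj0 hij
    · intro h
      exact absurd (Finset.HasAntidiagonal.mem_antidiagonal.mpr (zero_add m)) h

/-- the diagonal values -/
noncomputable def dd (m : ℕ) : k := if m = 1 then 1 else cst P hP (π ^ m * fgen P m)

include hK hπ in
theorem dd_ne_zero {m : ℕ} (hm : m ∈ idx P) : dd P hP (π := π) m ≠ 0 := by
  unfold dd
  split_ifs with h1
  · exact one_ne_zero
  · have hmin : m ∈ minGens (poleOrders P) := by
      rcases hm with rfl | hm
      · exact absurd rfl h1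
      · exact hm
    obtain ⟨hu0, huL, hu⟩ := fgen_spec hK P hP hmin.1
    rw [Ne, cst_eq_zero_iff P hP (val_pow_mul_le P hπ huL), val_pow_mul_lt_iff P hπ,
      val_lt_exp_iff P hu0]
    omega

theorem lamL_genR (m m' : ℕ) :
    lamL hK hg P hP hπ m' (genR P m) = if m' = m then dd P hP (π := π) m else 0 := by
  by_cases h1 : m' = 1
  · subst h1
    rw [lamL_one]
    change cst P hP ((monomial m (gcoef P m)).coeff 1) = _
    rw [coeff_monomial]
    by_cases h2 : m = 1
    · subst h2
      rw [if_pos rfl, if_pos rfl, gcoef, if_pos rfl, dd, if_pos rfl]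
      have := cst_algebraMap P hP (1 : k)
      rwa [map_one] at this
    · rw [if_neg h2, if_neg (Ne.symm h2), cst_zero]
  · rw [lamL_of_ne _ _ _ _ _ h1, coeff_psi]
    change cst P hP (π ^ m' * (monomial m (gcoef P m)).coeff m') = _
    rw [coeff_monomial]
    by_cases h2 : m = m'
    · subst h2
      rw [if_pos rfl, if_pos rfl, gcoef, if_neg h1, dd, if_neg h1]
    · rw [if_neg h2, if_neg (Ne.symm h2), mul_zero, cst_zero]

end

theorem le_spanFinrank (hK : IsFunctionField k K) (hg : 0 < genus k K) (P : Place k K)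
    (hP : P.deg = 1) : (minGens (poleOrders P)).ncard + 1 ≤ (Irr P).spanFinrank := by
  classical
  obtain ⟨π, hπ⟩ := exists_uniformizer P
  obtain ⟨s, hs1, hs2⟩ := Submodule.FG.exists_span_finset_card_eq_spanFinrank (fg_Irr hK hg P hP)
  have hfin := finite_idx hK hg P hP
  set M : Finset ℕ := hfin.toFinset with hM
  have hMidx : ∀ m : ↥M, m.1 ∈ idx P := fun m => hfin.mem_toFinset.mp m.2
  let Λ : ↥(sectRing (Finsupp.single P 1 : Divisor k K)) →ₗ[k] (↥M → k) :=
    LinearMap.pi fun m => lamL hK hg P hP hπ m.1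
  have hΛ : ∀ p (m : ↥M), Λ p m = lamL hK hg P hP hπ m.1 p := fun p m => rfl
  set W : Submodule k (↥M → k) := Submodule.span k (↑(s.image Λ) : Set (↥M → k)) with hW
  -- images of elements of the irrelevant ideal
  have h1 : ∀ p ∈ Irr P, Λ p ∈ W := by
    intro p hp
    rw [← hs2] at hp
    induction hp using Submodule.span_induction with
    | mem x hx =>
      apply Submodule.subset_span
      rw [Finset.coe_image]
      exact ⟨x, hx, rfl⟩
    | zero => rw [map_zero]; exact Submodule.zero_mem _
    | add x y _ _ hx hy => rw [map_add]; exact Submodule.add_mem _ hx hy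
    | smul r x hx ih =>
      have hx' : x ∈ Irr P := by rw [← hs2]; exact hx
      have : Λ (r • x) = c0 P hP r • Λ x := by
        funext m
        rw [Pi.smul_apply, hΛ, hΛ, smul_eq_mul, smul_eq_mul]
        exact lamL_mul hK hg P hP hπ (hMidx m) r x hx'
      rw [this]
      exact Submodule.smul_mem _ _ ih
  -- the span is everything
  have h2 : W = ⊤ := by
    rw [eq_top_iff, ← (Pi.basisFun k ↥M).span_eq, Submodule.span_le]
    rintro _ ⟨m, rfl⟩
    have h3 : Λ (genR P m.1) = dd P hP (π := π) m.1 • Pi.single m (1 : k) := by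
      funext m'
      rw [hΛ, lamL_genR, Pi.smul_apply, Pi.single_apply, smul_eq_mul]
      by_cases h : m' = m
      · subst h; simp
      · rw [if_neg h, if_neg (fun h' => h (Subtype.ext h')), mul_zero]
    have h4 := h1 _ (genR_mem_Irr P (hMidx m))
    rw [h3] at h4
    have h5 := Submodule.smul_mem W (dd P hP (π := π) m.1)⁻¹ h4
    rw [smul_smul, inv_mul_cancel₀ (dd_ne_zero hK P hP hπ (hMidx m)), one_smul] at h5
    rw [Pi.basisFun_apply]
    exact h5
  have h6 : Module.finrank k W = M.card := by
    rw [h2, finrank_top, Module.finrank_fintype_fun_eq_card, Fintype.card_coe]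
  have h7 : Module.finrank k W ≤ (s.image Λ).card := finrank_span_finset_le_card (R := k) (s.image Λ)
  have h8 : M.card = (idx P).ncard := (Set.ncard_eq_toFinset_card _ hfin).symm
  rw [← ncard_idx hK hg P hP, ← h8, ← h6, ← hs1]
  exact h7.trans Finset.card_image_le

theorem main_eq (hK : IsFunctionField k K) (hg : 0 < genus k K) (P : Place k K)
    (hP : P.deg = 1) : (Irr P).spanFinrank = (minGens (poleOrders P)).ncard + 1 :=
  le_antisymm (spanFinrank_le hK hg P hP) (le_spanFinrank hK hg P hP)

end Groth.Agent.Helper7.SectH
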