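import Mathlib
import Groth.Agent.Helper7.SectH
import Groth.Agent.Helper7.PolySub1

/-!
# The section ring of a point divisor: it is a homogeneous subalgebra of `K[X]` and a finitely
generated `k`-algebra (helper7)
-/

set_option autoImplicit false
set_option linter.unusedSectionVars false
set_option linter.style.haveILetI false

open FunFld Polynomial W4c6gradedringsgw
open Groth.Agent.Helper5.FF Groth.Agent.Helper7.SectA Groth.Agent.Helper7.SectB
  Groth.Agent.Helper7.SectC Groth.Agent.Helper7.SectE Groth.Agent.Helper7.SectF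
  Groth.Agent.Helper7.SectG

namespace Groth.Agent.Helper7.SectI

universe u

variable {k K : Type u} [Field k] [Field K] [Algebra k K]

theorem isHomSub_sectRing (hK : IsFunctionField k K) (P : Place k K) :
    Groth.Agent.Helper7.PolySub.IsHomSub (sectRing (Finsupp.single P 1 : Divisor k K)) where
  monomial_mem := by
    intro p hp n
    exact monomial_mem_sectRing P ((mem_sectRing_iff P p).mp hp n)
  coeff_zero := by
    intro p hp
    have h := (mem_sectRing_iff P p).mp hp 0
    rw [Nat.cast_zero, Finsupp.single_zero, L_zero hK, Submodule.mem_one] at h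
    obtain ⟨c, hc⟩ := h
    exact ⟨c, hc.symm⟩

/-- the subalgebra generated by the generators -/
noncomputable def GG (P : Place k K) : Subalgebra k ↥(sectRing (Finsupp.single P 1 : Divisor k K)) :=
  Algebra.adjoin k (genR P '' idx P)

theorem genR_mem_GG (P : Place k K) {n : ℕ} (hn : n ∈ idx P) : genR P n ∈ GG P :=
  Algebra.subset_adjoin ⟨n, hn, rfl⟩

theorem mono_zero_mem (hK : IsFunctionField k K) (P : Place k K) {f : K}
    (hf : f ∈ L (Finsupp.single P ((0 : ℕ) : ℤ) : Divisor k K)) : mono P 0 f hf ∈ GG P := by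
  have h := hf
  rw [Nat.cast_zero, Finsupp.single_zero, L_zero hK, Submodule.mem_one] at h
  obtain ⟨c, rfl⟩ := h
  have h1 : mono P 0 (algebraMap k K c) hf = algebraMap k _ c := by
    apply Subtype.ext
    change monomial 0 (algebraMap k K c) = algebraMap k K[X] c
    rw [Polynomial.algebraMap_apply, monomial_zero_left]
  rw [h1]
  exact Subalgebra.algebraMap_mem _ c

theorem mono_one_mem (hK : IsFunctionField k K) (hg : 0 < genus k K) (P : Place k K)
    (hP : P.deg = 1) {f : K} (hf : f ∈ L (Finsupp.single P ((1 : ℕ) : ℤ) : Divisor k K)) :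
    mono P 1 f hf ∈ GG P := by
  obtain ⟨c, rfl⟩ := exists_const_of_mem_L_single_one hK hg P hP (by simpa using hf)
  have h1 : mono P 1 (algebraMap k K c) hf = c • genR P 1 := by
    apply Subtype.ext
    change monomial 1 (algebraMap k K c) = c • monomial 1 (gcoef P 1)
    rw [smul_monomial, gcoef, if_pos rfl, Algebra.smul_def, mul_one]
  rw [h1]
  exact Subalgebra.smul_mem _ (genR_mem_GG P (Set.mem_insert _ _)) c

theorem mono_succ_mem (P : Place k K) {n : ℕ} {f : K}
    (hf' : f ∈ L (Finsupp.single P (n : ℤ) : Divisor k K))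
    (hf : f ∈ L (Finsupp.single P ((n + 1 : ℕ) : ℤ) : Divisor k K))
    (h : mono P n f hf' ∈ GG P) : mono P (n + 1) f hf ∈ GG P := by
  have h1 : mono P (n + 1) f hf = genR P 1 * mono P n f hf' := by
    apply Subtype.ext
    change monomial (n + 1) f = monomial 1 (gcoef P 1) * monomial n f
    rw [monomial_mul_monomial, gcoef, if_pos rfl, one_mul, add_comm]
  rw [h1]
  exact Subalgebra.mul_mem _ (genR_mem_GG P (Set.mem_insert _ _)) h

theorem reduce (P : Place k K) (hP : P.deg = 1) {n : ℕ} {u : K} (hu0 : u ≠ 0)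
    (huL : u ∈ L (Finsupp.single P (n : ℤ) : Divisor k K)) (hu : P.ord u = -(n : ℤ))
    (hJ : mono P n u huL ∈ GG P)
    (hlow : ∀ (f : K) (hf : f ∈ L (Finsupp.single P (n : ℤ) : Divisor k K)),
      f ∈ L (Finsupp.single P ((n : ℤ) - 1) : Divisor k K) → mono P n f hf ∈ GG P)
    {f : K} (hf : f ∈ L (Finsupp.single P (n : ℤ) : Divisor k K)) : mono P n f hf ∈ GG P := by
  obtain ⟨c, hc⟩ := exists_sub_smul_mem P hP n hu0 hu huL hf
  have hsub : f - c • u ∈ L (Finsupp.single P (n : ℤ) : Divisor k K) :=
    Submodule.sub_mem _ hf (Submodule.smul_mem _ c huL)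
  have h1 : mono P n f hf = c • mono P n u huL + mono P n (f - c • u) hsub := by
    rw [← mono_smul, ← mono_add]
    exact mono_congr P n (by ring) _ _
  rw [h1]
  exact Subalgebra.add_mem _ (Subalgebra.smul_mem _ hJ c) (hlow _ hsub hc)

theorem mono_mem (hK : IsFunctionField k K) (hg : 0 < genus k K) (P : Place k K)
    (hP : P.deg = 1) (n : ℕ) (hn : 1 ≤ n) :
    ∀ (f : K) (hf : f ∈ L (Finsupp.single P (n : ℤ) : Divisor k K)), mono P n f hf ∈ GG P := by
  induction n using Nat.strong_induction_on with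
  | _ n ih =>
  intro f hf
  rcases Nat.lt_or_ge n 2 with h2 | h2
  · have h1 : n = 1 := by omega
    subst h1
    exact mono_one_mem hK hg P hP hf
  have hlow : ∀ (f : K) (hf : f ∈ L (Finsupp.single P (n : ℤ) : Divisor k K)),
      f ∈ L (Finsupp.single P ((n : ℤ) - 1) : Divisor k K) → mono P n f hf ∈ GG P := by
    intro f hf hf'
    obtain ⟨m, rfl⟩ : ∃ m, n = m + 1 := ⟨n - 1, by omega⟩
    have h3 : ((m + 1 : ℕ) : ℤ) - 1 = (m : ℤ) := by push_cast; ring
    rw [h3] at hf'
    exact mono_succ_mem P hf' hf (ih m (by omega) (by omega) f hf')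
  by_cases hlt : P.1 f < WithZero.exp (n : ℤ)
  · exact hlow f hf (mem_L_pred P hf hlt)
  obtain ⟨hnH, -, -⟩ := mem_poleOrders_of_ord hK P hP hf hlt
  by_cases hmin : n ∈ minGens (poleOrders P)
  · obtain ⟨hu0, huL, hu⟩ := fgen_spec hK P hP hnH
    refine reduce P hP hu0 huL hu ?_ hlow hf
    have h4 : mono P n (fgen P n) huL = genR P n := by
      apply Subtype.ext
      change monomial n (fgen P n) = monomial n (gcoef P n)
      rw [gcoef, if_neg (by omega)]
    rw [h4]
    exact genR_mem_GG P (Set.mem_insert_of_mem _ hmin)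
  · obtain ⟨a, b, ha, hb, ha0, hb0, hab⟩ := exists_split P hnH (by omega) hmin
    obtain ⟨hu0, huL, hu⟩ := fgen_spec hK P hP ha
    obtain ⟨hv0, hvL, hv⟩ := fgen_spec hK P hP hb
    subst hab
    have huv : fgen P a * fgen P b ∈ L (Finsupp.single P ((a + b : ℕ) : ℤ) : Divisor k K) := by
      have := mul_mem_L_single P huL hvL
      rwa [← Nat.cast_add] at this
    refine reduce P hP (mul_ne_zero hu0 hv0) huv ?_ ?_ hlow hf
    · rw [ord_mul P hu0 hv0, hu, hv]; push_cast; ring
    · rw [mono_mul P a b huL hvL huv]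
      exact Subalgebra.mul_mem _ (ih a (by omega) (by omega) _ huL) (ih b (by omega) (by omega) _ hvL)

theorem GG_eq_top (hK : IsFunctionField k K) (hg : 0 < genus k K) (P : Place k K)
    (hP : P.deg = 1) : GG P = ⊤ := by
  rw [eq_top_iff]
  intro p _
  rw [eq_sum_mono P p]
  refine Subalgebra.sum_mem _ fun n _ => ?_
  rcases Nat.eq_zero_or_pos n with h0 | h0
  · subst h0
    exact mono_zero_mem hK P _
  · exact mono_mem hK hg P hP n h0 _ _

theorem finiteType (hK : IsFunctionField k K) (hg : 0 < genus k K) (P : Place k K)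
    (hP : P.deg = 1) : Algebra.FiniteType k ↥(sectRing (Finsupp.single P 1 : Divisor k K)) := by
  refine ⟨?_⟩
  rw [← GG_eq_top hK hg P hP]
  exact ⟨((finite_idx hK hg P hP).image _).toFinset, by rw [Set.Finite.coe_toFinset]; rfl⟩

theorem isNoetherianRing (hK : IsFunctionField k K) (hg : 0 < genus k K) (P : Place k K)
    (hP : P.deg = 1) : IsNoetherianRing ↥(sectRing (Finsupp.single P 1 : Divisor k K)) := by
  haveI := finiteType hK hg P hP
  exact Algebra.FiniteType.isNoetherianRing k _

end Groth.Agent.Helper7.SectI
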