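import Mathlib
import Groth.Agent.Helper7.SectI
import Groth.Agent.Helper7.KunzD
import Groth.Agent.Helper7.GorQuot1

/-!
# The section ring of a point divisor is Gorenstein iff the Weierstrass semigroup is symmetric
(helper7)
-/

set_option autoImplicit false
set_option linter.unusedSectionVars false
set_option linter.style.haveILetI false

open FunFld Polynomial W4c6gradedringsgw
open Groth.Agent.Helper5.FF Groth.Agent.Helper7.SectA Groth.Agent.Helper7.SectB
  Groth.Agent.Helper7.SectC Groth.Agent.Helper7.SectE Groth.Agent.Helper7.SectF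
  Groth.Agent.Helper7.SectG Groth.Agent.Helper7.SectI Groth.Agent.Helper7.Kunz
  Groth.Agent.Helper7.PolySub

namespace Groth.Agent.Helper7.SectJ

universe u

theorem range_psi {k K : Type u} [Field k] [Field K] [Algebra k K] (hK : IsFunctionField k K)
    (P : Place k K) (hP : P.deg = 1) {π : K} (hπ : P.1 π = WithZero.exp (-1 : ℤ)) :
    (psi P hP hπ).range = semiSub (k := k) (AddSubmonoid.closure (poleOrders P)) := by
  apply le_antisymm
  · rintro _ ⟨p, rfl⟩
    intro n hn
    exact AddSubmonoid.subset_closure (mem_poleOrders_of_coeff_psi_ne_zero P hP hπ hK p hn)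
  · intro q hq
    rw [← Polynomial.sum_monomial_eq q]
    unfold Polynomial.sum
    refine Subalgebra.sum_mem _ fun n hn => ?_
    exact monomial_mem_range_psi P hP hπ hK
      (closure_poleOrders hK P hP (hq n (Polynomial.mem_support_iff.mp hn))) _

theorem main (k : Type u) [Field k] [IsAlgClosed k] (K : Type u) [Field K] [Algebra k K]
    (hK : FunFld.IsFunctionField k K) (hg : 1 ≤ FunFld.genus k K) (P : FunFld.Place k K) :
    LocCoh.IsGorensteinRing ↥(sectRing (Finsupp.single P 1 : FunFld.Divisor k K)) ↔
      IsSymmetric (poleOrders P) := by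
  have hP := deg_eq_one_of_isAlgClosed hK P
  obtain ⟨π, hπ⟩ := exists_uniformizer P
  haveI hHS := isHomSub_sectRing hK P
  haveI hN := SectI.isNoetherianRing hK hg P hP
  set t : ↥(sectRing (Finsupp.single P 1 : FunFld.Divisor k K)) := genR P 1 with htdef
  have ht : (t : K[X]) = C 1 * X := by
    change monomial 1 (gcoef P 1) = _
    rw [gcoef, if_pos rfl, C_1, one_mul, monomial_one_one_eq_X]
  have hker := ker_psi P hP hπ hK hg t 1 one_ne_zero ht
  have hrange := range_psi hK P hP hπ
  have hk2 : Ideal.span {t} = RingHom.ker (psi P hP hπ).rangeRestrict := by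
    rw [AlgHom.ker_rangeRestrict, hker]
  let e : (↥(sectRing (Finsupp.single P 1 : FunFld.Divisor k K)) ⧸ Ideal.span {t}) ≃+*
      ↥(semiSub (k := k) (AddSubmonoid.closure (poleOrders P))) :=
    ((Ideal.quotientEquivAlgOfEq k hk2).trans
      ((Ideal.quotientKerAlgEquivOfSurjective (psi P hP hπ).rangeRestrict_surjective).trans
        (Subalgebra.equivOfEq _ _ hrange))).toRingEquiv
  have hc : ∀ n : ℕ, 2 * genus k K ≤ n → n ∈ AddSubmonoid.closure (poleOrders P) :=
    fun n hn => AddSubmonoid.subset_closure (mem_poleOrders_of_ge hK P hP hn)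
  have hset : ((AddSubmonoid.closure (poleOrders P) : AddSubmonoid ℕ) : Set ℕ) = poleOrders P := by
    ext n
    exact ⟨fun h => closure_poleOrders hK P hP h, fun h => AddSubmonoid.subset_closure h⟩
  haveI : IsNoetherianRing ↥(semiSub (k := k) (AddSubmonoid.closure (poleOrders P))) :=
    isNoetherianRing_of_ringEquiv _ e
  have ht0 : t ≠ 0 := by
    intro h
    have h1 : (t : K[X]).coeff 1 = 0 := by rw [h]; rfl
    rw [ht, coeff_C_mul_X, if_pos rfl] at h1
    exact one_ne_zero h1
  have hreg : IsSMulRegular ↥(sectRing (Finsupp.single P 1 : FunFld.Divisor k K)) t := by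
    intro a b hab
    exact mul_left_cancel₀ ht0 hab
  have htm : t ∈ (Groth.Agent.Helper7.VerGor.irrel
      (gr (sectRing (Finsupp.single P 1 : FunFld.Divisor k K)))).toIdeal := by
    rw [mem_irrel_iff, ht, coeff_C_mul, coeff_X_zero, mul_zero]
  rw [← hset, ← kunz (k := k) (AddSubmonoid.closure (poleOrders P)) (2 * genus k K) hc]
  constructor
  · intro hG
    haveI := hG
    haveI := Groth.Agent.Helper7.GorQuot.gorenstein_quotient t hreg
    exact Groth.Agent.Helper7.SegGor.gorenstein_of_ringEquiv
      (S := ↥(sectRing (Finsupp.single P 1 : FunFld.Divisor k K)) ⧸ Ideal.span {t}) e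
  · intro hG
    haveI := hG
    haveI : LocCoh.IsGorensteinRing
        (↥(sectRing (Finsupp.single P 1 : FunFld.Divisor k K)) ⧸ Ideal.span {t}) :=
      Groth.Agent.Helper7.SegGor.gorenstein_of_ringEquiv e.symm
    haveI : (Groth.Agent.Helper7.VerGor.irrel
        (gr (sectRing (Finsupp.single P 1 : FunFld.Divisor k K)))).toIdeal.IsPrime :=
      (irrel_isMaximal _).isPrime
    exact Groth.Agent.Helper7.GorQuot.gorenstein_of_quotient_graded
      (gr (sectRing (Finsupp.single P 1 : FunFld.Divisor k K)))
      (Groth.Agent.Helper7.VerGor.irrel _) (isStarLocal _) t hreg htm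

end Groth.Agent.Helper7.SectJ
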