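import Mathlib
import Groth.Prelude.Def_GrLC
import Groth.Prelude.Def_GrSeg

/-!
# Segre products and nondegenerate pairings, part 1: slicing tensors, and nondegeneracy of the multiplication
pairing into the top degree passes to Segre products (helper7)
-/

set_option autoImplicit false
set_option linter.unusedSectionVars false
set_option linter.style.haveILetI false

namespace Groth.Agent.Helper7.SegDu

open TensorProduct

universe u

section LA

variable {k M N : Type*} [Field k] [AddCommGroup M] [Module k M] [AddCommGroup N] [Module k N]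

/-- slice a tensor by a functional on the right factor -/
noncomputable def sliceR (g : N →ₗ[k] k) : M ⊗[k] N →ₗ[k] M :=
  (TensorProduct.rid k M).toLinearMap ∘ₗ (g.lTensor M)

theorem sliceR_tmul (g : N →ₗ[k] k) (m : M) (n : N) : sliceR g (m ⊗ₜ[k] n) = g n • m := by
  simp [sliceR]

/-- slice a tensor by a functional on the left factor -/
noncomputable def sliceL (h : M →ₗ[k] k) : M ⊗[k] N →ₗ[k] N :=
  (TensorProduct.lid k N).toLinearMap ∘ₗ (h.rTensor N)

theorem sliceL_tmul (h : M →ₗ[k] k) (m : M) (n : N) : sliceL h (m ⊗ₜ[k] n) = h m • n := by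
  simp [sliceL]

theorem exists_sliceR_ne_zero {W : M ⊗[k] N} (hW : W ≠ 0) : ∃ g : N →ₗ[k] k, sliceR g W ≠ 0 := by
  classical
  let b := Module.Free.chooseBasis k N
  by_contra hcon
  push Not at hcon
  apply hW
  apply (TensorProduct.equivFinsuppOfBasisRight (M := M) b).injective
  rw [map_zero]
  ext i
  rw [TensorProduct.equivFinsuppOfBasisRight_apply]
  exact hcon (b.coord i)

theorem exists_sliceL_ne_zero {W : M ⊗[k] N} (hW : W ≠ 0) : ∃ h : M →ₗ[k] k, sliceL h W ≠ 0 := by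
  classical
  let b := Module.Free.chooseBasis k M
  by_contra hcon
  push Not at hcon
  apply hW
  apply (TensorProduct.equivFinsuppOfBasisLeft (N := N) b).injective
  rw [map_zero]
  ext i
  rw [TensorProduct.equivFinsuppOfBasisLeft_apply]
  exact hcon (b.coord i)

theorem sliceR_mem (U : Submodule k M) (g : N →ₗ[k] k) {W : M ⊗[k] N}
    (hW : W ∈ Submodule.span k {x : M ⊗[k] N | ∃ m ∈ U, ∃ n : N, x = m ⊗ₜ[k] n}) :
    sliceR g W ∈ U := by
  induction hW using Submodule.span_induction with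
  | mem x hx =>
    obtain ⟨m, hm, n, rfl⟩ := hx
    rw [sliceR_tmul]
    exact U.smul_mem _ hm
  | zero => rw [map_zero]; exact U.zero_mem
  | add x y _ _ hx hy => rw [map_add]; exact U.add_mem hx hy
  | smul c x _ hx => rw [map_smul]; exact U.smul_mem c hx

theorem sliceL_mem (V : Submodule k N) (h : M →ₗ[k] k) {W : M ⊗[k] N}
    (hW : W ∈ Submodule.span k {x : M ⊗[k] N | ∃ m : M, ∃ n ∈ V, x = m ⊗ₜ[k] n}) :
    sliceL h W ∈ V := by
  induction hW using Submodule.span_induction with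
  | mem x hx =>
    obtain ⟨m, n, hn, rfl⟩ := hx
    rw [sliceL_tmul]
    exact V.smul_mem _ hn
  | zero => rw [map_zero]; exact V.zero_mem
  | add x y _ _ hx hy => rw [map_add]; exact V.add_mem hx hy
  | smul c x _ hx => rw [map_smul]; exact V.smul_mem c hx

end LA

section Act

variable {k : Type u} [Field k] {R S : Type u} [CommRing R] [Algebra k R] [CommRing S] [Algebra k S]
  {M : Type u} [AddCommGroup M] [Module R M] [Module k M] [IsScalarTower k R M]
  {N : Type u} [AddCommGroup N] [Module S N] [Module k N] [IsScalarTower k S N]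

theorem sliceR_act_left (u : R) (g : N →ₗ[k] k) (W : M ⊗[k] N) :
    sliceR g (GrSeg.act k R S M N (u ⊗ₜ[k] (1 : S)) W) = u • sliceR g W := by
  induction W using TensorProduct.induction_on with
  | zero => rw [map_zero, map_zero, smul_zero]
  | tmul m n => rw [GrSeg.act_tmul, one_smul, sliceR_tmul, sliceR_tmul, smul_comm]
  | add x y hx hy => rw [map_add, map_add, map_add, hx, hy, smul_add]

theorem sliceL_act_left (u : R) (h : M →ₗ[k] k) (W : M ⊗[k] N) :
    sliceL h (GrSeg.act k R S M N (u ⊗ₜ[k] (1 : S)) W) =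
      sliceL (h ∘ₗ (Algebra.lsmul k k M u : M →ₗ[k] M)) W := by
  induction W using TensorProduct.induction_on with
  | zero => rw [map_zero, map_zero, map_zero]
  | tmul m n => rw [GrSeg.act_tmul, one_smul, sliceL_tmul, sliceL_tmul]; rfl
  | add x y hx hy => rw [map_add, map_add, map_add, hx, hy]

theorem sliceL_act_right (v : S) (h : M →ₗ[k] k) (W : M ⊗[k] N) :
    sliceL h (GrSeg.act k R S M N ((1 : R) ⊗ₜ[k] v) W) = v • sliceL h W := by
  induction W using TensorProduct.induction_on with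
  | zero => rw [map_zero, map_zero, smul_zero]
  | tmul m n => rw [GrSeg.act_tmul, one_smul, sliceL_tmul, sliceL_tmul, smul_comm]
  | add x y hx hy => rw [map_add, map_add, map_add, hx, hy, smul_add]

theorem act_act (u : R) (v : S) (W : M ⊗[k] N) :
    GrSeg.act k R S M N ((1 : R) ⊗ₜ[k] v) (GrSeg.act k R S M N (u ⊗ₜ[k] (1 : S)) W) =
      GrSeg.act k R S M N (u ⊗ₜ[k] v) W := by
  induction W using TensorProduct.induction_on with
  | zero => rw [map_zero, map_zero, map_zero]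
  | tmul m n => rw [GrSeg.act_tmul, GrSeg.act_tmul, GrSeg.act_tmul, one_smul, one_smul]
  | add x y hx hy => rw [map_add, map_add, map_add, hx, hy]

end Act

section Piece

variable {k R : Type u} [Field k] [CommRing R] [Algebra k R] (𝒜 : ℤ → Submodule k R) [GradedAlgebra 𝒜]
  {M : Type u} [AddCommGroup M] [Module R M] [Module k M] [IsScalarTower k R M]
  (ℳ : ℤ → AddSubgroup M) [SetLike.GradedSMul 𝒜 ℳ]

/-- a homogeneous piece of a graded module over a graded `k`-algebra, as a `k`-subspace -/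
def pieceK (d : ℤ) : Submodule k M where
  carrier := {x | x ∈ ℳ d}
  add_mem' := fun {x y} hx hy => (ℳ d).add_mem hx hy
  zero_mem' := (ℳ d).zero_mem
  smul_mem' := fun c x hx => by
    have h1 : algebraMap k R c ∈ 𝒜 0 := SetLike.algebraMap_mem_graded 𝒜 c
    have h2 := SetLike.GradedSMul.smul_mem (A := 𝒜) (B := ℳ) h1 hx
    rw [vadd_eq_add, zero_add, algebraMap_smul] at h2
    exact h2

theorem mem_pieceK {d : ℤ} {x : M} : x ∈ pieceK 𝒜 ℳ d ↔ x ∈ ℳ d := Iff.rfl

end Piece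

section Main

variable {k : Type u} [Field k] {R S T : Type u} [CommRing R] [Algebra k R] [CommRing S] [Algebra k S]
  [CommRing T] [Algebra k T]
  (𝒜 : ℤ → Submodule k R) [GradedAlgebra 𝒜] (ℬ : ℤ → Submodule k S) [GradedAlgebra ℬ]
  (𝒯 : ℤ → Submodule k T) [GradedAlgebra 𝒯] (ψ : T →ₐ[k] R ⊗[k] S)
  (hT : GrSeg.IsSegreRing 𝒜 ℬ 𝒯 ψ)
  {M : Type u} [AddCommGroup M] [Module R M] [Module k M] [IsScalarTower k R M]
  (ℳ : ℤ → AddSubgroup M) [SetLike.GradedSMul 𝒜 ℳ]
  {N : Type u} [AddCommGroup N] [Module S N] [Module k N] [IsScalarTower k S N]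
  (𝒩 : ℤ → AddSubgroup N) [SetLike.GradedSMul ℬ 𝒩]
  {P : Type u} [AddCommGroup P] [Module T P] [Module k P] [IsScalarTower k T P]
  (𝒬 : ℤ → AddSubgroup P) [DirectSum.Decomposition 𝒬]
  (φ : P →ₗ[k] M ⊗[k] N) (hP : GrSeg.IsSegreMod ψ ℳ 𝒩 𝒬 φ)

include hT hP in
/-- if multiplication by `R_e` kills no nonzero element of `M_d`, and multiplication by `S_e` kills no nonzero
element of `N_d`, then multiplication by `T_e` kills no nonzero element of `(M # N)_d` -/
theorem smul_ne_zero_segre (d e : ℤ)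
    (hNM : ∀ x ∈ ℳ d, x ≠ 0 → ∃ r ∈ 𝒜 e, r • x ≠ 0)
    (hNN : ∀ y ∈ 𝒩 d, y ≠ 0 → ∃ r ∈ ℬ e, r • y ≠ 0) :
    ∀ p ∈ 𝒬 d, p ≠ 0 → ∃ t ∈ 𝒯 e, t • p ≠ 0 := by
  intro p hp hp0
  have hW : φ p ∈ GrSeg.segrePiece k ℳ 𝒩 d := by
    have h1 : φ p ∈ φ '' (𝒬 d : Set P) := ⟨p, hp, rfl⟩
    rw [hP.image_piece d] at h1
    exact h1
  have hW0 : φ p ≠ 0 := fun h => hp0 (hP.injective (h.trans (map_zero φ).symm))
  -- first factor
  obtain ⟨g, hg⟩ := exists_sliceR_ne_zero hW0
  have hc : sliceR g (φ p) ∈ pieceK 𝒜 ℳ d := by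
    refine sliceR_mem (pieceK 𝒜 ℳ d) g (Submodule.span_mono ?_ hW)
    rintro x ⟨m, hm, n, -, rfl⟩
    exact ⟨m, hm, n, rfl⟩
  obtain ⟨u, hu, hu0⟩ := hNM _ hc hg
  have h1 : GrSeg.act k R S M N (u ⊗ₜ[k] (1 : S)) (φ p) ≠ 0 := by
    intro h
    apply hu0
    rw [← sliceR_act_left (S := S), h, map_zero]
  -- second factor
  obtain ⟨h, hh⟩ := exists_sliceL_ne_zero h1
  have hc' : sliceL h (GrSeg.act k R S M N (u ⊗ₜ[k] (1 : S)) (φ p)) ∈ pieceK ℬ 𝒩 d := by
    rw [sliceL_act_left]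
    refine sliceL_mem (pieceK ℬ 𝒩 d) _ (Submodule.span_mono ?_ hW)
    rintro x ⟨m, -, n, hn, rfl⟩
    exact ⟨m, n, hn, rfl⟩
  obtain ⟨v, hv, hv0⟩ := hNN _ hc' hh
  have h2 : GrSeg.act k R S M N (u ⊗ₜ[k] v) (φ p) ≠ 0 := by
    rw [← act_act]
    intro h'
    apply hv0
    rw [← sliceL_act_right (R := R), h', map_zero]
  -- back to `T`
  have huv : u ⊗ₜ[k] v ∈ GrSeg.segrePiece k 𝒜 ℬ e :=
    Submodule.subset_span ⟨u, hu, v, hv, rfl⟩
  rw [← hT.2 e] at huv
  obtain ⟨t, ht, e'⟩ := huv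
  refine ⟨t, ht, fun h0 => h2 ?_⟩
  have e'' : ψ t = u ⊗ₜ[k] v := e'
  rw [← e'', ← hP.map_smul, h0, map_zero]

include hT hP in
/-- **nondegeneracy of the multiplication pairing into degree `a` passes to Segre products** -/
theorem nDeg_segre (a : ℤ)
    (hNM : ∀ d : ℤ, ∀ x ∈ ℳ d, x ≠ 0 → ∃ r ∈ 𝒜 (a - d), r • x ≠ 0)
    (hNN : ∀ d : ℤ, ∀ y ∈ 𝒩 d, y ≠ 0 → ∃ r ∈ ℬ (a - d), r • y ≠ 0) :
    ∀ d : ℤ, ∀ p ∈ 𝒬 d, p ≠ 0 → ∃ t ∈ 𝒯 (a - d), t • p ≠ 0 :=
  fun d => smul_ne_zero_segre 𝒜 ℬ 𝒯 ψ hT ℳ 𝒩 𝒬 φ hP d (a - d) (hNM d) (hNN d)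

include hP in
/-- a piece of a Segre product vanishes when the corresponding piece of the second factor does -/
theorem piece_eq_bot_of_right (d : ℤ) (h : 𝒩 d = ⊥) : 𝒬 d = ⊥ := by
  rw [eq_bot_iff]
  intro p hp
  rw [AddSubgroup.mem_bot]
  apply hP.injective
  rw [map_zero]
  have hW : φ p ∈ GrSeg.segrePiece k ℳ 𝒩 d := by
    have h1 : φ p ∈ φ '' (𝒬 d : Set P) := ⟨p, hp, rfl⟩
    rw [hP.image_piece d] at h1
    exact h1
  have hle : GrSeg.segrePiece k ℳ 𝒩 d ≤ ⊥ := by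
    refine Submodule.span_le.mpr ?_
    rintro x ⟨m, -, n, hn, rfl⟩
    rw [h, AddSubgroup.mem_bot] at hn
    rw [hn, tmul_zero]
    exact Submodule.zero_mem _
  exact (Submodule.mem_bot k).mp (hle hW)

include hP in
/-- a piece of a Segre product vanishes when the corresponding piece of the first factor does -/
theorem piece_eq_bot_of_left (d : ℤ) (h : ℳ d = ⊥) : 𝒬 d = ⊥ := by
  rw [eq_bot_iff]
  intro p hp
  rw [AddSubgroup.mem_bot]
  apply hP.injective
  rw [map_zero]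
  have hW : φ p ∈ GrSeg.segrePiece k ℳ 𝒩 d := by
    have h1 : φ p ∈ φ '' (𝒬 d : Set P) := ⟨p, hp, rfl⟩
    rw [hP.image_piece d] at h1
    exact h1
  have hle : GrSeg.segrePiece k ℳ 𝒩 d ≤ ⊥ := by
    refine Submodule.span_le.mpr ?_
    rintro x ⟨m, hm, n, -, rfl⟩
    rw [h, AddSubgroup.mem_bot] at hm
    rw [hm, zero_tmul]
    exact Submodule.zero_mem _
  exact (Submodule.mem_bot k).mp (hle hW)

end Main

end Groth.Agent.Helper7.SegDu
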