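import Mathlib

/-!
# Going up from a subring: linear maps to the subring that are multiplications, and an injectivity
argument (helper7)

Abstract algebra used to show that `R` is Gorenstein when a Veronese subring `R^(q)` is: if `A → B` is a
ring map, `M ⊆ B` an `A`-submodule and `f : M → A` is `A`-linear, then under a depth-two type hypothesis
`f` is the multiplication by an element of `B`; and if `E` is an injective `A`-module mapping semilinearly
to a `B`-module `H`, an element `∑ r_l θ(h_l)` of `H` killed by all such multipliers vanishes.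
-/

set_option autoImplicit false
set_option linter.unusedSectionVars false

namespace Groth.Agent.Helper7.VerUp

universe u

section LemmaC

variable {A B : Type*} [CommRing A] [CommRing B] [Algebra A B]
  (V W : Set B) (M : Submodule A B)

/-- the products `σ v w` with `σ ∈ A`, `v ∈ V`, `w ∈ W` -/
def tripleSet : Set B := {t | ∃ σ : A, ∃ v ∈ V, ∃ w ∈ W, t = algebraMap A B σ * (v * w)}

/-- elements of `A` whose image is a sum of products `σ v w`, `σ ∈ A`, `v ∈ V`, `w ∈ W` -/
def JSet : Set A := {y | algebraMap A B y ∈ AddSubgroup.closure (tripleSet (A := A) V W)}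

variable (hVM : ∀ v ∈ V, v ∈ M)
  (hWM : ∀ w ∈ W, ∀ z ∈ M, ∃ a : A, algebraMap A B a = w * z)
  (f : M →ₗ[A] A)

include hVM hWM in
theorem exists_mul_of_mem_closure (t : B)
    (ht : t ∈ AddSubgroup.closure (tripleSet (A := A) V W)) :
    ∃ b : B, ∀ z : M, t * algebraMap A B (f z) = b * z := by
  induction ht using AddSubgroup.closure_induction with
  | mem t ht =>
    obtain ⟨σ, v, hv, w, hw, rfl⟩ := ht
    refine ⟨algebraMap A B σ * (w * algebraMap A B (f ⟨v, hVM _ hv⟩)), fun z => ?_⟩
    obtain ⟨a, ha⟩ := hWM w hw z z.2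
    obtain ⟨a', ha'⟩ := hWM w hw v (hVM _ hv)
    have h1 : a' • z = a • (⟨v, hVM _ hv⟩ : M) := by
      apply Subtype.ext
      rw [Submodule.coe_smul, Submodule.coe_smul, Algebra.smul_def, Algebra.smul_def, ha, ha']
      ring
    have h2 : a' * f z = a * f ⟨v, hVM _ hv⟩ := by
      have := congrArg f h1
      rwa [map_smul, map_smul, smul_eq_mul, smul_eq_mul] at this
    have h3 := congrArg (algebraMap A B) h2
    rw [map_mul, map_mul, ha, ha'] at h3
    calc algebraMap A B σ * (v * w) * algebraMap A B (f z)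
        = algebraMap A B σ * (w * v * algebraMap A B (f z)) := by ring
      _ = algebraMap A B σ * (w * (z : B) * algebraMap A B (f ⟨v, hVM _ hv⟩)) := by
          rw [h3]
      _ = algebraMap A B σ * (w * algebraMap A B (f ⟨v, hVM _ hv⟩)) * (z : B) := by ring
  | zero => exact ⟨0, fun z => by rw [zero_mul, zero_mul]⟩
  | add t t' _ _ h h' =>
    obtain ⟨b, hb⟩ := h
    obtain ⟨b', hb'⟩ := h'
    exact ⟨b + b', fun z => by rw [add_mul, add_mul, hb, hb']⟩
  | neg t _ h =>
    obtain ⟨b, hb⟩ := h
    exact ⟨-b, fun z => by rw [neg_mul, neg_mul, hb]⟩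

include hVM hWM in
theorem exists_mul_of_mem_JSet (y : A) (hy : y ∈ JSet (A := A) V W) :
    ∃ b : B, ∀ z : M, algebraMap A B (y * f z) = b * z := by
  obtain ⟨b, hb⟩ := exists_mul_of_mem_closure V W M hVM hWM f _ hy
  exact ⟨b, fun z => by rw [map_mul, hb]⟩

include hVM hWM in
/-- an `A`-linear map `M → A` is a multiplication, given a "regular sequence" `z₀, y` of multipliers -/
theorem exists_mul_eq (z₀ y : A) (hz₀ : z₀ ∈ JSet (A := A) V W) (hy : y ∈ JSet (A := A) V W)
    (hreg₀ : ∀ β : B, algebraMap A B z₀ * β = 0 → β = 0)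
    (hreg₁ : ∀ β γ : B, algebraMap A B y * β = algebraMap A B z₀ * γ →
      ∃ γ', β = algebraMap A B z₀ * γ')
    (hV : ∀ β : B, (∀ v ∈ V, β * v = 0) → β = 0) :
    ∃ g : B, ∀ z : M, algebraMap A B (f z) = g * z := by
  obtain ⟨b₁, hb₁⟩ := exists_mul_of_mem_JSet V W M hVM hWM f z₀ hz₀
  obtain ⟨b₂, hb₂⟩ := exists_mul_of_mem_JSet V W M hVM hWM f y hy
  have h1 : algebraMap A B y * b₁ = algebraMap A B z₀ * b₂ := by
    have : algebraMap A B y * b₁ - algebraMap A B z₀ * b₂ = 0 := by
      apply hV
      intro v hv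
      have e1 := hb₁ ⟨v, hVM v hv⟩
      have e2 := hb₂ ⟨v, hVM v hv⟩
      rw [map_mul] at e1 e2
      calc (algebraMap A B y * b₁ - algebraMap A B z₀ * b₂) * v
          = algebraMap A B y * (b₁ * v) - algebraMap A B z₀ * (b₂ * v) := by ring
        _ = algebraMap A B y * (algebraMap A B z₀ * algebraMap A B (f ⟨v, hVM v hv⟩)) -
              algebraMap A B z₀ * (algebraMap A B y * algebraMap A B (f ⟨v, hVM v hv⟩)) := by
            rw [← e1, ← e2]
        _ = 0 := by ring
    exact sub_eq_zero.mp this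
  obtain ⟨g, hg⟩ := hreg₁ b₁ b₂ h1
  refine ⟨g, fun z => ?_⟩
  have h2 : algebraMap A B z₀ * (algebraMap A B (f z) - g * z) = 0 := by
    have e1 := hb₁ z
    rw [map_mul] at e1
    rw [mul_sub, e1, hg]
    ring
  exact sub_eq_zero.mp (hreg₀ _ h2)

end LemmaC

section LemmaD

variable {A B : Type u} [CommRing A] [IsNoetherianRing A] [CommRing B] [Algebra A B]
  {E : Type u} [AddCommGroup E] [Module A E] (hE : Module.Injective A E)
  {H : Type*} [AddCommGroup H] [Module B H] (θ : E →+ H)
  (hθ : ∀ (a : A) (e : E), θ (a • e) = algebraMap A B a • θ e)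
  {g : ℕ} (r : Fin g → B) (h : Fin g → E)

include hE hθ in
/-- if every `c ∈ A^g` killing the syzygies of `r` kills `h`, then `∑ r_l θ(h_l) = 0` -/
theorem sum_smul_eq_zero_of_syz
    (hkey : ∀ c : Fin g → A,
      (∀ c' : Fin g → A, ∑ l, algebraMap A B (c' l) * r l = 0 → ∑ l, c l * c' l = 0) →
        ∑ l, c l • h l = 0) :
    ∑ l, r l • θ (h l) = 0 := by
  classical
  let ρ : (Fin g → A) →ₗ[A] B := Fintype.linearCombination A r
  have hρ : ∀ c', ρ c' = ∑ l, algebraMap A B (c' l) * r l := by
    intro c'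
    show Fintype.linearCombination A r c' = _
    rw [Fintype.linearCombination_apply]
    exact Finset.sum_congr rfl fun l _ => Algebra.smul_def _ _
  have hfg : (LinearMap.ker ρ).FG := IsNoetherian.noetherian _
  obtain ⟨p, zz, hzz⟩ := Submodule.fg_iff_exists_fin_generating_family.mp hfg
  let ρT : (Fin g → A) →ₗ[A] (Fin p → A) :=
    LinearMap.pi (fun m => Fintype.linearCombination A (fun l => zz m l))
  have hρT : ∀ c m, ρT c m = ∑ l, c l * zz m l := by
    intro c m
    show Fintype.linearCombination A (fun l => zz m l) c = _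
    rw [Fintype.linearCombination_apply]
    rfl
  let hh : (Fin g → A) →ₗ[A] E := Fintype.linearCombination A h
  have hhh : ∀ c, hh c = ∑ l, c l • h l := fun c => Fintype.linearCombination_apply A h c
  have hle : LinearMap.ker ρT ≤ LinearMap.ker hh := by
    intro c hc
    rw [LinearMap.mem_ker] at hc ⊢
    rw [hhh]
    apply hkey
    intro c' hc'
    have hmem : c' ∈ LinearMap.ker ρ := by
      rw [LinearMap.mem_ker, hρ]
      exact hc'
    rw [← hzz] at hmem
    have hall : ∀ x ∈ Submodule.span A (Set.range zz), ∑ l, c l * x l = 0 := by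
      intro x hx
      induction hx using Submodule.span_induction with
      | mem x hx =>
        obtain ⟨m, rfl⟩ := hx
        have := congrFun hc m
        rw [hρT] at this
        exact this
      | zero => simp
      | add x y _ _ hx hy =>
        simp only [Pi.add_apply, mul_add, Finset.sum_add_distrib, hx, hy, add_zero]
      | smul a x _ hx =>
        simp only [Pi.smul_apply, smul_eq_mul]
        have : ∑ l, c l * (a * x l) = a * ∑ l, c l * x l := by
          rw [Finset.mul_sum]
          exact Finset.sum_congr rfl fun l _ => by ring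
        rw [this, hx, mul_zero]
    exact hall c' hmem
  let f₁ : ((Fin g → A) ⧸ LinearMap.ker ρT) →ₗ[A] (Fin p → A) :=
    (LinearMap.ker ρT).liftQ ρT le_rfl
  have hf₁ : Function.Injective f₁ := by
    rw [← LinearMap.ker_eq_bot]
    exact Submodule.ker_liftQ_eq_bot _ _ _ le_rfl
  let g₁ : ((Fin g → A) ⧸ LinearMap.ker ρT) →ₗ[A] E := (LinearMap.ker ρT).liftQ hh hle
  obtain ⟨w, hw⟩ := Module.Injective.extension_property A E _ _ f₁ hf₁ g₁
  have hw' : ∀ c, w (ρT c) = hh c := by
    intro c
    have := LinearMap.congr_fun hw ((LinearMap.ker ρT).mkQ c)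
    simpa [f₁, g₁] using this
  have hl : ∀ l, h l = ∑ m, zz m l • w (Pi.single m 1) := by
    intro l
    have h1 : hh (Pi.single l 1) = h l := by
      rw [hhh, Finset.sum_eq_single l]
      · rw [Pi.single_eq_same, one_smul]
      · intro l' _ hl'
        rw [Pi.single_eq_of_ne hl', zero_smul]
      · intro hl'
        exact absurd (Finset.mem_univ l) hl'
    have h2 : ρT (Pi.single l 1) = fun m => zz m l := by
      ext m
      rw [hρT, Finset.sum_eq_single l]
      · rw [Pi.single_eq_same, one_mul]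
      · intro l' _ hl'
        rw [Pi.single_eq_of_ne hl', zero_mul]
      · intro hl'
        exact absurd (Finset.mem_univ l) hl'
    rw [← h1, ← hw', h2, LinearMap.pi_apply_eq_sum_univ w]
    refine Finset.sum_congr rfl fun m _ => ?_
    have e : (fun j => if m = j then (1 : A) else 0) = Pi.single m 1 := by
      ext j
      simp [Pi.single_apply, eq_comm]
    rw [e]
  have hzero : ∀ m, ∑ l, algebraMap A B (zz m l) * r l = 0 := by
    intro m
    rw [← hρ]
    have : zz m ∈ LinearMap.ker ρ := by
      rw [← hzz]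
      exact Submodule.subset_span ⟨m, rfl⟩
    exact this
  calc ∑ l, r l • θ (h l)
      = ∑ l, r l • ∑ m, algebraMap A B (zz m l) • θ (w (Pi.single m 1)) := by
        refine Finset.sum_congr rfl fun l _ => ?_
        rw [hl l, map_sum]
        congr 1
        exact Finset.sum_congr rfl fun m _ => hθ _ _
    _ = ∑ m, (∑ l, algebraMap A B (zz m l) * r l) • θ (w (Pi.single m 1)) := by
        simp_rw [Finset.smul_sum, Finset.sum_smul]
        rw [Finset.sum_comm]
        refine Finset.sum_congr rfl fun m _ => Finset.sum_congr rfl fun l _ => ?_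
        rw [smul_smul, mul_comm]
    _ = 0 := by
        refine Finset.sum_eq_zero fun m _ => ?_
        rw [hzero m, zero_smul]

include hE hθ in
/-- **the injectivity argument**: an element `x = ∑ r_l θ(h_l)` killed by every multiplier `b` with
`b r_l ∈ A` vanishes. -/
theorem sum_smul_eq_zero (V W : Set B)
    (hVr : ∀ v ∈ V, ∃ κ : Fin g → A, v = ∑ l, algebraMap A B (κ l) * r l)
    (hWr : ∀ w ∈ W, ∀ l, ∃ a : A, algebraMap A B a = w * r l)
    (z₀ y : A) (hz₀ : z₀ ∈ JSet (A := A) V W) (hy : y ∈ JSet (A := A) V W)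
    (hreg₀ : ∀ β : B, algebraMap A B z₀ * β = 0 → β = 0)
    (hreg₁ : ∀ β γ : B, algebraMap A B y * β = algebraMap A B z₀ * γ →
      ∃ γ', β = algebraMap A B z₀ * γ')
    (hV : ∀ β : B, (∀ v ∈ V, β * v = 0) → β = 0)
    (hθi : Function.Injective θ)
    (hx : ∀ b : B, (∀ l, ∃ a : A, algebraMap A B a = b * r l) → b • ∑ l, r l • θ (h l) = 0) :
    ∑ l, r l • θ (h l) = 0 := by
  classical
  apply sum_smul_eq_zero_of_syz hE θ hθ r h
  intro c hc
  apply hθi
  rw [map_zero, map_sum]
  have e0 : ∀ l, θ (c l • h l) = algebraMap A B (c l) • θ (h l) := fun l => hθ _ _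
  rw [Finset.sum_congr rfl fun l _ => e0 l]
  let ρ : (Fin g → A) →ₗ[A] B := Fintype.linearCombination A r
  have hρ : ∀ c', ρ c' = ∑ l, algebraMap A B (c' l) * r l := by
    intro c'
    show Fintype.linearCombination A r c' = _
    rw [Fintype.linearCombination_apply]
    exact Finset.sum_congr rfl fun l _ => Algebra.smul_def _ _
  let cc : (Fin g → A) →ₗ[A] A := Fintype.linearCombination A c
  have hcc : ∀ c', cc c' = ∑ l, c l * c' l := by
    intro c'
    show Fintype.linearCombination A c c' = _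
    rw [Fintype.linearCombination_apply]
    exact Finset.sum_congr rfl fun l _ => by rw [smul_eq_mul, mul_comm]
  have hle : LinearMap.ker ρ ≤ LinearMap.ker cc := by
    intro c' hc'
    rw [LinearMap.mem_ker] at hc' ⊢
    rw [hcc]
    exact hc c' ((hρ c').symm.trans hc')
  let M : Submodule A B := LinearMap.range ρ
  let f : M →ₗ[A] A :=
    ((LinearMap.ker ρ).liftQ cc hle) ∘ₗ (ρ.quotKerEquivRange).symm.toLinearMap
  have hf : ∀ c' : Fin g → A, f ⟨ρ c', ⟨c', rfl⟩⟩ = ∑ l, c l * c' l := by
    intro c'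
    show ((LinearMap.ker ρ).liftQ cc hle) ((ρ.quotKerEquivRange).symm ⟨ρ c', ⟨c', rfl⟩⟩) = _
    have : (ρ.quotKerEquivRange).symm ⟨ρ c', ⟨c', rfl⟩⟩ = (LinearMap.ker ρ).mkQ c' :=
      LinearMap.quotKerEquivRange_symm_apply_image ρ c' ⟨c', rfl⟩
    rw [this, Submodule.mkQ_apply, Submodule.liftQ_apply, hcc]
  have hrM : ∀ l, r l ∈ M := by
    intro l
    refine ⟨Pi.single l 1, ?_⟩
    rw [hρ, Finset.sum_eq_single l]
    · rw [Pi.single_eq_same, map_one, one_mul]
    · intro l' _ hl'
      rw [Pi.single_eq_of_ne hl', map_zero, zero_mul]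
    · intro hl'
      exact absurd (Finset.mem_univ l) hl'
  have hVM : ∀ v ∈ V, v ∈ M := by
    intro v hv
    obtain ⟨κ, hκ⟩ := hVr v hv
    exact ⟨κ, (hρ κ).trans hκ.symm⟩
  have hWM : ∀ w ∈ W, ∀ z ∈ M, ∃ a : A, algebraMap A B a = w * z := by
    intro w hw z hz
    obtain ⟨c', rfl⟩ := hz
    choose a ha using hWr w hw
    refine ⟨∑ l, c' l * a l, ?_⟩
    rw [hρ, map_sum, Finset.mul_sum]
    refine Finset.sum_congr rfl fun l _ => ?_
    rw [map_mul, ha]
    ring
  obtain ⟨b, hb⟩ := exists_mul_eq V W M hVM hWM f z₀ y hz₀ hy hreg₀ hreg₁ hV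
  have hcl : ∀ l, algebraMap A B (c l) = b * r l := by
    intro l
    have h3 : ρ (Pi.single l 1) = r l := by
      rw [hρ, Finset.sum_eq_single l]
      · rw [Pi.single_eq_same, map_one, one_mul]
      · intro l' _ hl'
        rw [Pi.single_eq_of_ne hl', map_zero, zero_mul]
      · intro hl'
        exact absurd (Finset.mem_univ l) hl'
    have h1 := hb ⟨ρ (Pi.single l 1), ⟨Pi.single l 1, rfl⟩⟩
    rw [hf] at h1
    have h1' : algebraMap A B (∑ l', c l' * (Pi.single l (1 : A) : Fin g → A) l') =
        b * ρ (Pi.single l 1) := h1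
    rw [h3] at h1'
    rw [← h1']
    congr 1
    rw [Finset.sum_eq_single l]
    · rw [Pi.single_eq_same, mul_one]
    · intro l' _ hl'
      rw [Pi.single_eq_of_ne hl', mul_zero]
    · intro hl'
      exact absurd (Finset.mem_univ l) hl'
  have := hx b (fun l => ⟨c l, hcl l⟩)
  rw [Finset.smul_sum] at this
  rw [← this]
  refine Finset.sum_congr rfl fun l _ => ?_
  rw [hcl l, mul_smul]

end LemmaD

end Groth.Agent.Helper7.VerUp
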