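import Mathlib
import Groth.Prelude.Def_GrLC
import Groth.Agent.Helper7.VerUp1
import Groth.Agent.Helper7.VerGor8
import Groth.Agent.Helper7.GrVer2

/-!
# Nondegeneracy of the top pairing goes up from a Veronese subring (helper7)

`R` standard graded, `R' = R^(q)` with a graded `R'`-module `H'` mapping semilinearly and injectively
onto the Veronese part of a graded `R`-module `H`.  If `H'` is an injective `R'`-module whose pairing
into degree `a'` is nondegenerate, `H = R_1 H` and `R` has a homogeneous regular sequence of length two,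
then the pairing of `H` into degree `a' q` is nondegenerate.
-/

set_option autoImplicit false
set_option linter.unusedSectionVars false
set_option linter.style.haveILetI false

namespace Groth.Agent.Helper7.VerUp

open DirectSum Groth.Agent.Helper6.GrMod Groth.Agent.Helper7.GrVer Groth.Agent.Helper7.VerGor

universe u

theorem map_mem_closure {X Y : Type*} [AddCommGroup X] [AddCommGroup Y] (f : X →+ Y) {S : Set X}
    {T : AddSubgroup Y} (h : ∀ t ∈ S, f t ∈ T) {x : X} (hx : x ∈ AddSubgroup.closure S) :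
    f x ∈ T := by
  have : AddSubgroup.closure S ≤ T.comap f := (AddSubgroup.closure_le _).mpr h
  exact this hx

section Std

variable {R : Type u} [CommRing R] (𝒜 : ℤ → AddSubgroup R) [GradedRing 𝒜]
  (hstd : Ideal.span (⋃ n ∈ Set.Ioi (0 : ℤ), (𝒜 n : Set R)) =
    Ideal.span ((𝒜 1 : AddSubgroup R) : Set R))

/-- products of an element of degree `s` and an element of degree `e` -/
def prodSet (s e : ℤ) : Set R := {t | ∃ u ∈ 𝒜 s, ∃ v ∈ 𝒜 e, t = u * v}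

include hstd in
/-- in a standard graded ring `R_{s+e} = R_s R_e` -/
theorem std_mul (s : ℕ) : ∀ (e : ℕ) {x : R}, x ∈ 𝒜 ((s : ℤ) + e) →
    x ∈ AddSubgroup.closure (prodSet 𝒜 s e) := by
  intro e
  induction e with
  | zero =>
    intro x hx
    apply AddSubgroup.subset_closure
    refine ⟨x, ?_, 1, ?_, (mul_one x).symm⟩
    · simpa using hx
    · simpa using (SetLike.GradedOne.one_mem : (1 : R) ∈ 𝒜 0)
  | succ e ih =>
    intro x hx
    have hx' : x ∈ 𝒜 (((s + e : ℕ) : ℤ) + 1) := by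
      have : ((s + e : ℕ) : ℤ) + 1 = (s : ℤ) + ((e + 1 : ℕ) : ℤ) := by push_cast; ring
      rw [this]; exact hx
    obtain ⟨N, u, v, hu, hv, rfl⟩ := std_step 𝒜 hstd (s + e) hx'
    refine AddSubgroup.sum_mem _ (fun l _ => ?_)
    have hul : u l ∈ AddSubgroup.closure (prodSet 𝒜 s e) := by
      apply ih
      have : (s : ℤ) + (e : ℤ) = ((s + e : ℕ) : ℤ) := by push_cast; ring
      rw [this]; exact hu l
    refine map_mem_closure (AddMonoidHom.mulRight (v l)) ?_ hul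
    rintro t ⟨u', hu', v', hv', rfl⟩
    apply AddSubgroup.subset_closure
    refine ⟨u', hu', v' * v l, ?_, ?_⟩
    · have := SetLike.GradedMul.mul_mem (A := 𝒜) hv' (hv l)
      have e1 : ((e + 1 : ℕ) : ℤ) = (e : ℤ) + 1 := by push_cast; ring
      rw [e1]; exact this
    · show u' * v' * v l = u' * (v' * v l)
      ring

/-- a power of a non-zero-divisor is a non-zero-divisor -/
theorem pow_reg {Z : R} (hZreg : ∀ β : R, Z * β = 0 → β = 0) :
    ∀ (k : ℕ) (β : R), Z ^ k * β = 0 → β = 0 := by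
  intro k
  induction k with
  | zero => intro β h; rwa [pow_zero, one_mul] at h
  | succ k ih =>
    intro β h
    apply ih
    apply hZreg
    rw [← mul_assoc, ← pow_succ']
    exact h

include hstd in
/-- an element killing `R_s` vanishes, if there is a homogeneous non-zero-divisor of positive degree -/
theorem eq_zero_of_mul_piece {Z : R} {d₁ : ℤ} (hd₁ : 0 < d₁) (hZ : Z ∈ 𝒜 d₁)
    (hZreg : ∀ β : R, Z * β = 0 → β = 0) (s : ℕ) (β : R)
    (hβ : ∀ v ∈ 𝒜 (s : ℤ), β * v = 0) : β = 0 := by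
  apply pow_reg hZreg s β
  have h1 : Z ^ s ∈ 𝒜 (s • d₁) := SetLike.pow_mem_graded s hZ
  obtain ⟨e, he⟩ : ∃ e : ℕ, (e : ℤ) = (s : ℤ) * (d₁ - 1) :=
    ⟨((s : ℤ) * (d₁ - 1)).toNat, Int.toNat_of_nonneg (mul_nonneg (Int.natCast_nonneg s) (by omega))⟩
  have h2 : s • d₁ = (s : ℤ) + e := by rw [nsmul_eq_mul, he]; ring
  rw [h2] at h1
  have h3 := std_mul 𝒜 hstd s e h1
  have h4 : β * Z ^ s ∈ (⊥ : AddSubgroup R) := by
    refine map_mem_closure (AddMonoidHom.mulLeft β) ?_ h3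
    rintro t ⟨u, hu, v, hv, rfl⟩
    rw [AddSubgroup.mem_bot]
    show β * (u * v) = 0
    rw [← mul_assoc, hβ u hu, zero_mul]
  rw [mul_comm]
  exact AddSubgroup.mem_bot.mp h4

end Std

section Div

variable {R : Type u} [CommRing R] (𝒜 : ℤ → AddSubgroup R) [GradedRing 𝒜]
  {H : Type u} [AddCommGroup H] [Module R H] (ℋ : ℤ → AddSubgroup H) [Decomposition ℋ]
  [SetLike.GradedSMul 𝒜 ℋ]

/-- products of an element of `R_s` and an element of `H_d` -/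
def smulSet (s d : ℤ) : Set H := {t | ∃ u ∈ 𝒜 s, ∃ y ∈ ℋ d, t = u • y}

theorem div_iter (hdiv : ∀ (d : ℤ) (x : H), x ∈ ℋ d →
      x ∈ AddSubgroup.closure (smulSet 𝒜 ℋ 1 (d - 1))) (s : ℕ) :
    ∀ (d : ℤ) (x : H), x ∈ ℋ d → x ∈ AddSubgroup.closure (smulSet 𝒜 ℋ s (d - s)) := by
  induction s with
  | zero =>
    intro d x hx
    apply AddSubgroup.subset_closure
    refine ⟨1, ?_, x, ?_, (one_smul R x).symm⟩
    · simpa using (SetLike.GradedOne.one_mem : (1 : R) ∈ 𝒜 0)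
    · simpa using hx
  | succ s ih =>
    intro d x hx
    have h1 := ih d x hx
    refine (AddSubgroup.closure_le _).mpr ?_ h1
    rintro t ⟨u, hu, y, hy, rfl⟩
    have h2 := hdiv _ y hy
    refine map_mem_closure (DistribSMul.toAddMonoidHom H u) ?_ h2
    rintro t' ⟨u₁, hu₁, y₁, hy₁, rfl⟩
    apply AddSubgroup.subset_closure
    refine ⟨u * u₁, ?_, y₁, ?_, ?_⟩
    · have := SetLike.GradedMul.mul_mem (A := 𝒜) hu hu₁
      have e1 : ((s + 1 : ℕ) : ℤ) = (s : ℤ) + 1 := by push_cast; ring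
      rw [e1]; exact this
    · have e1 : d - ((s + 1 : ℕ) : ℤ) = d - s - 1 := by push_cast; ring
      rw [e1]; exact hy₁
    · show u • u₁ • y₁ = (u * u₁) • y₁
      rw [mul_smul]

theorem exists_sum_of_closure {g : ℕ} (r : Fin g → R) (s d : ℤ)
    (hspan : ∀ v ∈ 𝒜 s, ∃ κ : Fin g → R, (∀ l, κ l ∈ 𝒜 0) ∧ v = ∑ l, κ l * r l)
    {x : H} (hx : x ∈ AddSubgroup.closure (smulSet 𝒜 ℋ s d)) :
    ∃ y : Fin g → H, (∀ l, y l ∈ ℋ d) ∧ x = ∑ l, r l • y l := by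
  induction hx using AddSubgroup.closure_induction with
  | mem t ht =>
    obtain ⟨u, hu, y₀, hy₀, rfl⟩ := ht
    obtain ⟨κ, hκ, rfl⟩ := hspan u hu
    refine ⟨fun l => κ l • y₀, fun l => ?_, ?_⟩
    · have := smul_mem' 𝒜 ℋ (hκ l) hy₀
      rwa [zero_add] at this
    · rw [Finset.sum_smul]
      refine Finset.sum_congr rfl fun l _ => ?_
      rw [mul_comm, mul_smul]
  | zero => exact ⟨fun _ => 0, fun _ => zero_mem _, by simp⟩
  | add t t' _ _ h h' =>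
    obtain ⟨y, hy, rfl⟩ := h
    obtain ⟨y', hy', rfl⟩ := h'
    refine ⟨fun l => y l + y' l, fun l => add_mem (hy l) (hy' l), ?_⟩
    rw [← Finset.sum_add_distrib]
    exact Finset.sum_congr rfl fun l _ => (smul_add _ _ _).symm
  | neg t _ h =>
    obtain ⟨y, hy, rfl⟩ := h
    refine ⟨fun l => -y l, fun l => neg_mem (hy l), ?_⟩
    rw [← Finset.sum_neg_distrib]
    exact Finset.sum_congr rfl fun l _ => (smul_neg _ _).symm

end Div

section Main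

variable {R R' : Type u} [CommRing R] [CommRing R'] [IsNoetherianRing R']
  {𝒜 : ℤ → AddSubgroup R} [GradedRing 𝒜] {𝒜' : ℤ → AddSubgroup R'} [GradedRing 𝒜']
  (D : VData 𝒜 𝒜')
  (hstd : Ideal.span (⋃ n ∈ Set.Ioi (0 : ℤ), (𝒜 n : Set R)) =
    Ideal.span ((𝒜 1 : AddSubgroup R) : Set R))
  {H : Type u} [AddCommGroup H] [Module R H] (ℋ : ℤ → AddSubgroup H) [Decomposition ℋ]
  [SetLike.GradedSMul 𝒜 ℋ]
  {H' : Type u} [AddCommGroup H'] [Module R' H'] (ℋ' : ℤ → AddSubgroup H')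
  (θ : H' →ₛₗ[D.φ] H) (hθi : Function.Injective θ)
  (hθ2 : ∀ (j : ℤ) (y : H), y ∈ ℋ (j * (D.q : ℤ)) → ∃ x ∈ ℋ' j, θ x = y)
  (a' : ℤ) (hN' : ∀ d : ℤ, ∀ x ∈ ℋ' d, x ≠ 0 → ∃ r ∈ 𝒜' (a' - d), r • x ≠ 0)
  (hinj' : Module.Injective R' H')
  (hdiv : ∀ (d : ℤ) (x : H), x ∈ ℋ d → x ∈ AddSubgroup.closure (smulSet 𝒜 ℋ 1 (d - 1)))
  (Z Y : R) (d₁ d₂ : ℤ) (hd₁ : 0 < d₁) (hd₂ : 0 < d₂) (hZ : Z ∈ 𝒜 (d₁ * (D.q : ℤ)))
  (hY : Y ∈ 𝒜 (d₂ * (D.q : ℤ)))
  (hZreg : ∀ β : R, Z * β = 0 → β = 0)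
  (hYreg : ∀ β γ : R, Y * β = Z * γ → ∃ γ', β = Z * γ')
  (hfin : ∀ s : ℕ, ∃ (g : ℕ) (r : Fin g → R), (∀ l, r l ∈ 𝒜 (s : ℤ)) ∧
    ∀ v ∈ 𝒜 (s : ℤ), ∃ κ : Fin g → R, (∀ l, κ l ∈ 𝒜 0) ∧ v = ∑ l, κ l * r l)

include hstd in
/-- a homogeneous element of degree `k q`, `k ≥ 1`, is a sum of products `σ v w` with `σ` in the Veronese
subring, `v ∈ R_s`, `w ∈ R_{q-s}` -/
theorem mem_closure_triple (s : ℕ) (hs : (s : ℤ) ≤ (D.q : ℤ)) (k : ℤ) (hk : 0 < k) {x : R}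
    (hx : x ∈ 𝒜 (k * (D.q : ℤ))) :
    letI : Algebra R' R := D.φ.toAlgebra
    x ∈ AddSubgroup.closure (tripleSet (A := R') (B := R) (𝒜 (s : ℤ) : Set R)
      (𝒜 ((D.q : ℤ) - s) : Set R)) := by
  letI : Algebra R' R := D.φ.toAlgebra
  have hq : (0 : ℤ) < (D.q : ℤ) := D.qpos
  obtain ⟨k₀, hk₀⟩ : ∃ k₀ : ℕ, (k₀ : ℤ) = (k - 1) * (D.q : ℤ) :=
    ⟨((k - 1) * (D.q : ℤ)).toNat, Int.toNat_of_nonneg (mul_nonneg (by omega) hq.le)⟩
  obtain ⟨e, he⟩ : ∃ e : ℕ, (e : ℤ) = (D.q : ℤ) - s :=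
    ⟨((D.q : ℤ) - s).toNat, Int.toNat_of_nonneg (by omega)⟩
  have h1 : k * (D.q : ℤ) = (k₀ : ℤ) + (D.q : ℕ) := by rw [hk₀]; ring
  rw [h1] at hx
  have h2 := std_mul 𝒜 hstd k₀ D.q hx
  refine (AddSubgroup.closure_le _).mpr ?_ h2
  rintro t ⟨u, hu, v, hv, rfl⟩
  rw [hk₀] at hu
  obtain ⟨σ, -, rfl⟩ := D.exists_mem (k - 1) u hu
  have hv' : v ∈ 𝒜 ((s : ℤ) + e) := by
    have : (s : ℤ) + e = (D.q : ℕ) := by rw [he]; ring
    rw [this]; exact hv
  have h3 := std_mul 𝒜 hstd s e hv'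
  refine map_mem_closure (AddMonoidHom.mulLeft (D.φ σ)) ?_ h3
  rintro t' ⟨v₁, hv₁, w₁, hw₁, rfl⟩
  apply AddSubgroup.subset_closure
  refine ⟨σ, v₁, hv₁, w₁, ?_, rfl⟩
  rw [SetLike.mem_coe, ← he]
  exact hw₁

include hstd hθi hθ2 hN' hinj' hdiv hd₁ hd₂ hZ hY hZreg hYreg hfin in
/-- **nondegeneracy goes up** -/
theorem nDeg_up : NDeg 𝒜 ℋ (a' * (D.q : ℤ)) := by
  classical
  intro d x hx hx0
  by_contra hcon
  push Not at hcon
  apply hx0
  have hq : (0 : ℤ) < (D.q : ℤ) := D.qpos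
  have G1 : ∀ (j' : ℤ) (y : H), y ∈ ℋ (j' * (D.q : ℤ)) → y ≠ 0 →
      ∃ r ∈ 𝒜 ((a' - j') * (D.q : ℤ)), r • y ≠ 0 := by
    intro j' y hy hy0
    obtain ⟨x', hx', rfl⟩ := hθ2 j' y hy
    have hx'0 : x' ≠ 0 := fun h => hy0 (by rw [h, map_zero])
    obtain ⟨r', hr', hne⟩ := hN' j' x' hx' hx'0
    refine ⟨D.φ r', D.map_mem _ r' hr', fun h => hne ?_⟩
    apply hθi
    rw [map_zero, θ.map_smulₛₗ]
    exact h
  have hT : ∀ (e : ℤ) (β : R), β ∈ 𝒜 e → (∃ j' : ℤ, e + d = j' * (D.q : ℤ)) → β • x = 0 := by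
    rintro e β hβ ⟨j', hj'⟩
    by_contra hne
    have hβx : β • x ∈ ℋ (j' * (D.q : ℤ)) := by
      rw [← hj']; exact smul_mem' 𝒜 ℋ hβ hx
    obtain ⟨r, hr, hr0⟩ := G1 j' (β • x) hβx hne
    apply hr0
    rw [smul_smul]
    apply hcon
    have h3 := SetLike.GradedMul.mul_mem (A := 𝒜) hr hβ
    have e1 : (a' - j') * (D.q : ℤ) + e = a' * (D.q : ℤ) - d := by rw [sub_mul]; linarith
    rw [e1] at h3
    exact h3
  set s : ℕ := (d % (D.q : ℤ)).toNat with hs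
  have hs1 : (s : ℤ) = d % (D.q : ℤ) := Int.toNat_of_nonneg (Int.emod_nonneg d hq.ne')
  have hs2 : (s : ℤ) < (D.q : ℤ) := by rw [hs1]; exact Int.emod_lt_of_pos d hq
  set j : ℤ := d / (D.q : ℤ) with hj
  have hd : d - s = j * (D.q : ℤ) := by
    have := Int.emod_add_mul_ediv d (D.q : ℤ)
    rw [hs1]; linarith [mul_comm (D.q : ℤ) (d / (D.q : ℤ))]
  obtain ⟨g, r, hr, hspan⟩ := hfin s
  have h1 := div_iter 𝒜 ℋ hdiv s d x hx
  obtain ⟨y, hy, hxy⟩ := exists_sum_of_closure 𝒜 ℋ r s (d - s) hspan h1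
  have hy' : ∀ l, ∃ h' ∈ ℋ' j, θ h' = y l := fun l => hθ2 j (y l) (by rw [← hd]; exact hy l)
  choose h hhj hhy using hy'
  obtain ⟨z₀, -, hz₀⟩ := D.exists_mem d₁ Z hZ
  obtain ⟨y₀, -, hy₀⟩ := D.exists_mem d₂ Y hY
  letI : Algebra R' R := D.φ.toAlgebra
  have halg : ∀ a : R', algebraMap R' R a = D.φ a := fun a => rfl
  have hZpos : 0 < d₁ * (D.q : ℤ) := mul_pos hd₁ hq
  have hfaith : ∀ (s' : ℕ) (β : R), (∀ v ∈ 𝒜 (s' : ℤ), β * v = 0) → β = 0 :=
    fun s' β hβ => eq_zero_of_mul_piece 𝒜 hstd hZpos hZ hZreg s' β hβ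
  have hxsum : x = ∑ l, r l • θ.toAddMonoidHom (h l) := by
    rw [hxy]
    exact Finset.sum_congr rfl fun l _ => by rw [← hhy l]; rfl
  rw [hxsum]
  refine sum_smul_eq_zero (A := R') (B := R) hinj' θ.toAddMonoidHom
    (fun a e => θ.map_smulₛₗ a e) r h (𝒜 (s : ℤ) : Set R) (𝒜 ((D.q : ℤ) - s) : Set R)
    ?_ ?_ z₀ y₀ ?_ ?_ ?_ ?_ ?_ hθi ?_
  · -- hVr
    intro v hv
    obtain ⟨κ, hκ, rfl⟩ := hspan v hv
    have hκ' : ∀ l, ∃ c : R', D.φ c = κ l := by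
      intro l
      have : κ l ∈ 𝒜 (0 * (D.q : ℤ)) := by rw [zero_mul]; exact hκ l
      obtain ⟨c, -, hc⟩ := D.exists_mem 0 (κ l) this
      exact ⟨c, hc⟩
    choose c hc using hκ'
    exact ⟨c, Finset.sum_congr rfl fun l _ => by rw [halg, hc]⟩
  · -- hWr
    intro w hw l
    have h3 := SetLike.GradedMul.mul_mem (A := 𝒜) (SetLike.mem_coe.mp hw) (hr l)
    have e1 : (D.q : ℤ) - s + s = 1 * (D.q : ℤ) := by ring
    rw [e1] at h3
    obtain ⟨c, -, hc⟩ := D.exists_mem 1 _ h3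
    exact ⟨c, hc⟩
  · -- hz₀
    rw [JSet, Set.mem_ofPred_eq, halg, hz₀]
    exact mem_closure_triple D hstd s hs2.le d₁ hd₁ hZ
  · -- hy₀
    rw [JSet, Set.mem_ofPred_eq, halg, hy₀]
    exact mem_closure_triple D hstd s hs2.le d₂ hd₂ hY
  · -- hreg₀
    intro β hβ
    rw [halg, hz₀] at hβ
    exact hZreg β hβ
  · -- hreg₁
    intro β γ hβ
    rw [halg, halg, hz₀, hy₀] at hβ
    obtain ⟨γ', hγ'⟩ := hYreg β γ hβ
    exact ⟨γ', by rw [halg, hz₀]; exact hγ'⟩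
  · -- hV
    intro β hβ
    exact hfaith s β (fun v hv => hβ v hv)
  · -- hx
    intro b hb
    rw [← hxsum]
    rw [← DirectSum.sum_support_decompose 𝒜 b, Finset.sum_smul]
    refine Finset.sum_eq_zero fun e _ => ?_
    by_cases hdv : ∃ j' : ℤ, e + d = j' * (D.q : ℤ)
    · exact hT e _ (SetLike.coe_mem _) hdv
    · have hzero : (decompose 𝒜 b e : R) = 0 := by
        apply hfaith s
        intro v hv
        obtain ⟨κ, -, rfl⟩ := hspan v hv
        rw [Finset.mul_sum]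
        refine Finset.sum_eq_zero fun l _ => ?_
        have h4 : (decompose 𝒜 b e : R) * r l = 0 := by
          obtain ⟨c, hc⟩ := hb l
          rw [halg] at hc
          have h5 := DirectSum.coe_decompose_mul_add_of_right_mem 𝒜 (a := b) (i := e) (hr l)
          rw [← h5, ← hc]
          apply decompose_eq_zero_of_fixed D.S 𝒜 (D.fixed_φ c)
          intro hmem
          obtain ⟨c', hc'⟩ := D.exists_of_mem_S hmem
          apply hdv
          refine ⟨c' + j, ?_⟩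
          rw [add_mul, ← hd, ← hc']
          ring
        rw [mul_comm (κ l), ← mul_assoc, h4, zero_mul]
      rw [hzero, zero_smul]

end Main

end Groth.Agent.Helper7.VerUp
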