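import Mathlib
import Groth.Prelude.Def_GrLC
import Groth.Agent.Helper7.VerUp2

/-!
# Representability of functionals goes up from a Veronese subring (helper7)

Left nondegeneracy of the top pairing of `H` (from that of `H'` over the Veronese subring and a
homogeneous non-zero-divisor), and then representability by a dimension count.
-/

set_option autoImplicit false
set_option linter.unusedSectionVars false
set_option linter.style.haveILetI false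

namespace Groth.Agent.Helper7.VerUp

open DirectSum Groth.Agent.Helper6.GrMod Groth.Agent.Helper7.GrVer Groth.Agent.Helper7.VerGor

universe u

section LeftND

variable {R R' : Type u} [CommRing R] [CommRing R']
  {𝒜 : ℤ → AddSubgroup R} [GradedRing 𝒜] {𝒜' : ℤ → AddSubgroup R'} [GradedRing 𝒜']
  (D : VData 𝒜 𝒜')
  (hstd : Ideal.span (⋃ n ∈ Set.Ioi (0 : ℤ), (𝒜 n : Set R)) =
    Ideal.span ((𝒜 1 : AddSubgroup R) : Set R))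
  {H : Type u} [AddCommGroup H] [Module R H] (ℋ : ℤ → AddSubgroup H) [Decomposition ℋ]
  [SetLike.GradedSMul 𝒜 ℋ]
  {H' : Type u} [AddCommGroup H'] [Module R' H'] (ℋ' : ℤ → AddSubgroup H') [Decomposition ℋ']
  [SetLike.GradedSMul 𝒜' ℋ']
  (θ : H' →ₛₗ[D.φ] H) (hθi : Function.Injective θ)
  (hθ1 : ∀ (j : ℤ) (x : H'), x ∈ ℋ' j → θ x ∈ ℋ (j * (D.q : ℤ)))
  (a' : ℤ) (h0' : IsField (GrLC.deg0 𝒜')) (hR' : Rep 𝒜' ℋ' a')
  (ε' : H') (hε' : ε' ∈ ℋ' a') (hε'0 : ε' ≠ 0)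
  (Z : R) (d₁ : ℤ) (hd₁ : 0 < d₁) (hZ : Z ∈ 𝒜 d₁) (hZreg : ∀ β : R, Z * β = 0 → β = 0)

include h0' hR' hε' hε'0 in
theorem left_nd' (j' : ℤ) (ρ' : R') (hρ' : ρ' ∈ 𝒜' j') (hρ'0 : ρ' ≠ 0) :
    ∃ x' ∈ ℋ' (a' - j'), ρ' • x' ≠ 0 := by
  classical
  letI := h0'.toField
  have hne : (⟨ρ', hρ'⟩ : GrLC.comp 𝒜' 𝒜' j') ≠ 0 := fun h => hρ'0 (congrArg Subtype.val h)
  obtain ⟨ψ, hψ⟩ := Module.Projective.exists_dual_ne_zero (GrLC.deg0 𝒜') hne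
  let εT : GrLC.comp 𝒜' ℋ' a' := ⟨ε', hε'⟩
  let f : GrLC.comp 𝒜' 𝒜' j' →ₗ[GrLC.deg0 𝒜'] GrLC.comp 𝒜' ℋ' a' :=
    (LinearMap.toSpanSingleton (GrLC.deg0 𝒜') (GrLC.comp 𝒜' ℋ' a') εT).comp ψ
  obtain ⟨x', hx'⟩ := mulTop_surjective 𝒜' ℋ' a' hR' j' f
  refine ⟨x', x'.2, fun h => ?_⟩
  have h1 := congrArg Subtype.val (LinearMap.congr_fun hx' ⟨ρ', hρ'⟩)
  have h2 : ((mulTop 𝒜' ℋ' a' j' x' ⟨ρ', hρ'⟩ : GrLC.comp 𝒜' ℋ' a') : H') = ρ' • (x' : H') := rfl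
  have h3 : ((f ⟨ρ', hρ'⟩ : GrLC.comp 𝒜' ℋ' a') : H') =
      ((ψ ⟨ρ', hρ'⟩ : GrLC.deg0 𝒜') : R') • ε' := rfl
  rw [h2, h3, h] at h1
  obtain ⟨c, hc⟩ := h0'.mul_inv_cancel hψ
  have hc' : ((ψ ⟨ρ', hρ'⟩ : GrLC.deg0 𝒜') : R') * (c : R') = 1 := congrArg Subtype.val hc
  apply hε'0
  calc ε' = ((c : R') * ((ψ ⟨ρ', hρ'⟩ : GrLC.deg0 𝒜') : R')) • ε' := by
        rw [mul_comm, hc', one_smul]
    _ = 0 := by rw [mul_smul, ← h1, smul_zero]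

include hstd hθi hθ1 h0' hR' hε' hε'0 hd₁ hZ hZreg in
/-- left nondegeneracy of the top pairing of `H` -/
theorem left_nd (j : ℤ) (ρ : R) (hρ : ρ ∈ 𝒜 j) (hρ0 : ρ ≠ 0) :
    ∃ x ∈ ℋ (a' * (D.q : ℤ) - j), ρ • x ≠ 0 := by
  classical
  have hq : (0 : ℤ) < (D.q : ℤ) := D.qpos
  set e : ℕ := ((-j) % (D.q : ℤ)).toNat with he
  have he1 : (e : ℤ) = (-j) % (D.q : ℤ) := Int.toNat_of_nonneg (Int.emod_nonneg _ hq.ne')
  set c : ℤ := -((-j) / (D.q : ℤ)) with hc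
  have hje : j + e = c * (D.q : ℤ) := by
    have := Int.emod_add_mul_ediv (-j) (D.q : ℤ)
    rw [he1, hc]; linarith [mul_comm (D.q : ℤ) ((-j) / (D.q : ℤ))]
  obtain ⟨u, hu, hρu⟩ : ∃ u ∈ 𝒜 (e : ℤ), ρ * u ≠ 0 := by
    by_contra hcon
    push Not at hcon
    exact hρ0 (eq_zero_of_mul_piece 𝒜 hstd hd₁ hZ hZreg e ρ hcon)
  have hρu' : ρ * u ∈ 𝒜 (c * (D.q : ℤ)) := by
    rw [← hje]; exact SetLike.GradedMul.mul_mem (A := 𝒜) hρ hu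
  obtain ⟨ρ', hρ', hρ'e⟩ := D.exists_mem c _ hρu'
  have hρ'0 : ρ' ≠ 0 := fun h => hρu (by rw [← hρ'e, h, map_zero])
  obtain ⟨x', hx', hne⟩ := left_nd' ℋ' a' h0' hR' ε' hε' hε'0 c ρ' hρ' hρ'0
  refine ⟨u • θ x', ?_, ?_⟩
  · have h1 := smul_mem' 𝒜 ℋ hu (hθ1 _ x' hx')
    have e1 : (e : ℤ) + (a' - c) * (D.q : ℤ) = a' * (D.q : ℤ) - j := by
      rw [sub_mul, ← hje]; ring
    rw [e1] at h1
    exact h1
  · rw [smul_smul, hρ'e.symm, ← θ.map_smulₛₗ]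
    intro h
    apply hne
    apply hθi
    rw [h, map_zero]

end LeftND

section RepUp

variable {R : Type u} [CommRing R] (𝒜 : ℤ → AddSubgroup R) [GradedRing 𝒜]
  (h0 : IsField (GrLC.deg0 𝒜))
  {H : Type u} [AddCommGroup H] [Module R H] (ℋ : ℤ → AddSubgroup H) [Decomposition ℋ]
  [SetLike.GradedSMul 𝒜 ℋ] (t : ℤ)
  (hN : NDeg 𝒜 ℋ t) (ε : H) (hε : ε ∈ ℋ t) (hε0 : ε ≠ 0)
  (hspan : ∀ y ∈ ℋ t, ∃ c ∈ 𝒜 0, y = c • ε)
  (hL : ∀ (j : ℤ) (ρ : R), ρ ∈ 𝒜 j → ρ ≠ 0 → ∃ x ∈ ℋ (t - j), ρ • x ≠ 0)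
  (hfin : ∀ j : ℤ, Module.Finite (GrLC.deg0 𝒜) (GrLC.comp 𝒜 𝒜 j))

/-- multiplication into the top piece, the other way around -/
def mulTop' (j : ℤ) : GrLC.comp 𝒜 𝒜 j →ₗ[GrLC.deg0 𝒜]
    (GrLC.comp 𝒜 ℋ (t - j) →ₗ[GrLC.deg0 𝒜] GrLC.comp 𝒜 ℋ t) where
  toFun r :=
    { toFun := fun x => ⟨(r : R) • (x : H), by
        have := smul_mem' 𝒜 ℋ r.2 x.2
        rwa [add_sub_cancel] at this⟩
      map_add' := fun x x' => Subtype.ext (smul_add (r : R) (x : H) (x' : H))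
      map_smul' := fun c x => Subtype.ext (smul_comm (r : R) (c : R) (x : H)) }
  map_add' r r' := by
    ext x
    exact add_smul (r : R) (r' : R) (x : H)
  map_smul' c r := by
    ext x
    exact mul_smul (c : R) (r : R) (x : H)

include h0 hN hε hε0 hspan hL hfin in
/-- **representability from nondegeneracy on both sides** -/
theorem rep_of_nDeg : Rep 𝒜 ℋ t := by
  classical
  intro j F hF1 hF2 hF3
  letI := h0.toField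
  obtain ⟨h1, hfinT⟩ := finrank_top 𝒜 h0 ℋ t ε hε hε0 hspan
  haveI := hfin j
  haveI := hfinT
  have hinj : Function.Injective (mulTop 𝒜 ℋ t j) := mulTop_injective 𝒜 ℋ t hN j
  haveI : Module.Finite (GrLC.deg0 𝒜) (GrLC.comp 𝒜 ℋ (t - j)) :=
    Module.Finite.of_injective (mulTop 𝒜 ℋ t j) hinj
  have hinj' : Function.Injective (mulTop' 𝒜 ℋ t j) := by
    rw [injective_iff_map_eq_zero]
    intro r hr
    by_contra hr0
    have hr0' : (r : R) ≠ 0 := fun h => hr0 (Subtype.ext h)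
    obtain ⟨x, hx, hne⟩ := hL j r r.2 hr0'
    exact hne (congrArg Subtype.val (LinearMap.congr_fun hr ⟨x, hx⟩))
  have hle1 := LinearMap.finrank_le_finrank_of_injective hinj
  have hle2 := LinearMap.finrank_le_finrank_of_injective hinj'
  rw [Module.finrank_linearMap, h1, mul_one] at hle1 hle2
  have heq : Module.finrank (GrLC.deg0 𝒜) (GrLC.comp 𝒜 ℋ (t - j)) =
      Module.finrank (GrLC.deg0 𝒜)
        (GrLC.comp 𝒜 𝒜 j →ₗ[GrLC.deg0 𝒜] GrLC.comp 𝒜 ℋ t) := by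
    rw [Module.finrank_linearMap, h1, mul_one]
    exact le_antisymm hle1 hle2
  have hsurj : Function.Surjective (mulTop 𝒜 ℋ t j) := by
    have h5 := LinearMap.injective_iff_surjective_of_finrank_eq_finrank (K := GrLC.deg0 𝒜)
      (V := GrLC.comp 𝒜 ℋ (t - j))
      (V₂ := GrLC.comp 𝒜 𝒜 j →ₗ[GrLC.deg0 𝒜] GrLC.comp 𝒜 ℋ t) heq (f := mulTop 𝒜 ℋ t j)
    exact h5.mp hinj
  let f₀ : GrLC.comp 𝒜 𝒜 j →ₗ[GrLC.deg0 𝒜] GrLC.comp 𝒜 ℋ t :=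
    { toFun := fun r => ⟨F r, hF1 r r.2⟩
      map_add' := fun r r' => Subtype.ext (hF2 r r.2 r' r'.2)
      map_smul' := fun c r => Subtype.ext (hF3 c c.2 r r.2) }
  obtain ⟨x, hx⟩ := hsurj f₀
  exact ⟨x, x.2, fun r hr => congrArg Subtype.val (LinearMap.congr_fun hx ⟨r, hr⟩)⟩

end RepUp

end Groth.Agent.Helper7.VerUp
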