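import Mathlib
import Groth.Prelude.Def_GrLC
import Groth.Prelude.Def_CAlg
import Groth.Agent.Helper7.VerUp3
import Groth.Agent.Helper7.VerGor6
import Groth.Agent.Helper7.GrDu5
import Groth.Agent.Helper7.GrAInv5
import Groth.Agent.Helper7.GrFinB
import Groth.Agent.Helper7.GrFinD
import Groth.Agent.Helper7.GrH0
import Groth.Agent.Helper7.HilbMono3

/-!
# A standard graded Cohen–Macaulay ring of dimension `≥ 2` over a field with a Gorenstein Veronese
subring is Gorenstein (helper7)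
-/

set_option autoImplicit false
set_option linter.unusedSectionVars false
set_option linter.style.haveILetI false

namespace Groth.Agent.Helper7.VerUp

open DirectSum Groth.Agent.Helper6.GrMod Groth.Agent.Helper6.GrCon Groth.Agent.Helper6.GrShift
  Groth.Agent.Helper7.GrDel Groth.Agent.Helper7.GrWkReg Groth.Agent.Helper7.GrTopRE
  Groth.Agent.Helper7.GrVer Groth.Agent.Helper7.VerGor

universe u

section End

variable {H : Type u} [AddCommGroup H] (ℋ : ℤ → AddSubgroup H)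

theorem exists_endDeg_of_bound (hb : ∃ N : ℤ, ∀ d, N ≤ d → ℋ d = ⊥) (hne : ∃ d, ℋ d ≠ ⊥) :
    ∃ a : ℤ, GrLC.endDeg ℋ = ((a : WithTop ℤ) : WithBot (WithTop ℤ)) := by
  classical
  obtain ⟨N, hN⟩ := hb
  obtain ⟨a, ha, hmax⟩ := Int.exists_greatest_of_bdd (P := fun d => ℋ d ≠ ⊥)
    ⟨N, fun z hz => by
      by_contra hlt
      push Not at hlt
      exact hz (hN z hlt.le)⟩ hne
  refine ⟨a, (Groth.Agent.Helper7.GrAInv.endDeg_eq_coe_iff ℋ a).mpr ⟨ha, fun j hj => ?_⟩⟩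
  by_contra hne'
  have := hmax j hne'
  omega

end End

section Gam

variable {R : Type u} [CommRing R] {𝒜 : ℤ → AddSubgroup R} [GradedRing 𝒜]
  {M : Type u} [AddCommGroup M] [Module R M] {ℳ : ℤ → AddSubgroup M} [Decomposition ℳ]
  [SetLike.GradedSMul 𝒜 ℳ]

theorem gam_eq_zero_of_subsingleton (E : GrLC.StarInjRes 𝒜 ℳ) (a : HomogeneousIdeal 𝒜)
    (hs : Subsingleton (E.H a 0)) : ∀ y : M, y ∈ GrLC.gam a.toIdeal M → y = 0 := by
  classical
  intro y hy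
  have hhom := Groth.Agent.Helper6.GrH.gam_isHomogeneous 𝒜 ℳ a
  rw [← DirectSum.sum_support_decompose ℳ y]
  refine Finset.sum_eq_zero fun d _ => ?_
  by_contra hne
  have h1 : E.Hgr a 0 d ≠ ⊥ :=
    (Groth.Agent.Helper7.GrH0.hgr_zero_ne_bot_iff E a d).mpr
      ⟨_, SetLike.coe_mem _, hne, hhom d hy⟩
  apply h1
  rw [eq_bot_iff]
  intro w _
  rw [AddSubgroup.mem_bot]
  exact Subsingleton.elim _ _

end Gam

section Van

variable {R : Type u} [CommRing R] [IsNoetherianRing R] (𝒜 : ℤ → AddSubgroup R) [GradedRing 𝒜]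
  (a : HomogeneousIdeal 𝒜)
  {M : Type u} [AddCommGroup M] [Module R M] {ℳ : ℤ → AddSubgroup M} [Decomposition ℳ]
  [SetLike.GradedSMul 𝒜 ℳ]

/-- Grothendieck vanishing above the dimension of the ring -/
theorem subsingleton_H_of_gt (n : ℕ) (hn : ringKrullDim R = n) (E : GrLC.StarInjRes 𝒜 ℳ) (i : ℕ)
    (hi : n < i) : Subsingleton (E.H a i) := by
  obtain ⟨e⟩ := Groth.Agent.Helper7.GrFinC.nonempty_H_equiv a E i
  have hlt : Module.supportDim R M < ((i : ℕ) : WithBot ℕ∞) := by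
    refine lt_of_le_of_lt (Module.supportDim_le_ringKrullDim (R := R) (M := M)) ?_
    rw [hn]
    exact_mod_cast hi
  have hz := Groth.Agent.Helper1.LocCohVanish.isZero_lc_of_supportDim_lt a.toIdeal M i hlt
  have : Subsingleton (LocCoh.H a.toIdeal i M) := ModuleCat.subsingleton_of_isZero hz
  exact e.toEquiv.subsingleton

end Van

section DivTop

variable {R : Type u} [CommRing R] [IsNoetherianRing R] (𝒜 : ℤ → AddSubgroup R) [GradedRing 𝒜]
  (m : HomogeneousIdeal 𝒜) [hmax : m.toIdeal.IsMaximal]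
  (hm1 : m.toIdeal = Ideal.span ((𝒜 1 : AddSubgroup R) : Set R))
  (n : ℕ) (hn : ringKrullDim R = n) (h1 : 1 ≤ n) (I : GrLC.StarInjRes 𝒜 𝒜)
  [Decomposition (I.Hgr m n)] [SetLike.GradedSMul 𝒜 (I.Hgr m n)]

include hm1 hn h1 in
/-- the top local cohomology of a standard graded ring of positive dimension is `R_1`-divisible -/
theorem hdiv_top (d : ℤ) (x : I.H m n) (hx : x ∈ I.Hgr m n d) :
    x ∈ AddSubgroup.closure (smulSet 𝒜 (I.Hgr m n) 1 (d - 1)) := by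
  classical
  have hfg : (Ideal.span ((𝒜 1 : AddSubgroup R) : Set R)).FG :=
    (isNoetherianRing_iff_ideal_fg R).mp inferInstance _
  obtain ⟨s', hs', hspan⟩ := (Submodule.fg_span_iff_fg_span_finset_subset _).mp hfg
  let L : List R := s'.toList
  have hLset : {x : R | x ∈ L} = (s' : Set R) := by
    ext x
    simp [L]
  have hL : ∀ x ∈ L, ∃ t : ℤ, x ∈ 𝒜 t := by
    intro x hx
    have : x ∈ (s' : Set R) := by rw [← hLset]; exact hx
    exact ⟨1, hs' this⟩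
  have h𝔟eq : Ideal.span {x : R | x ∈ L} = m.toIdeal := by
    rw [hLset, hm1]
    exact hspan.symm
  have h𝔟 : ringKrullDim (R ⧸ Ideal.span {x : R | x ∈ L}) < (n : WithBot ℕ∞) := by
    rw [h𝔟eq]
    letI := Ideal.Quotient.field m.toIdeal
    rw [ringKrullDim_eq_zero_of_field]
    exact_mod_cast h1
  have hvan := topVan_of_dim 𝒜 m n hn
  have hH := Groth.Agent.Helper7.GrDu.top_gen 𝒜 m n hvan (Ideal.span {x : R | x ∈ L}) h𝔟 L hL
    (GrLC.GMod.of 𝒜 R 𝒜) le_rfl I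
  let P : AddSubgroup (I.H m n) :=
    AddSubgroup.closure {t | ∃ u ∈ 𝒜 1, ∃ y : I.H m n, t = u • y}
  have hb : ∀ b ∈ Ideal.span {x : R | x ∈ L}, ∀ y : I.H m n, b • y ∈ P := by
    intro b hb
    induction hb using Submodule.span_induction with
    | mem b hb =>
      intro y
      have : b ∈ (s' : Set R) := by rw [← hLset]; exact hb
      exact AddSubgroup.subset_closure ⟨b, hs' this, y, rfl⟩
    | zero => intro y; rw [zero_smul]; exact zero_mem _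
    | add b b' _ _ h h' => intro y; rw [add_smul]; exact add_mem (h y) (h' y)
    | smul c b _ h =>
      intro y
      rw [smul_eq_mul, mul_comm, mul_smul]
      exact h (c • y)
  have hP : ∀ w ∈ Ideal.span {x : R | x ∈ L} • (⊤ : Submodule R (I.H m n)), w ∈ P := by
    intro w hw
    induction hw using Submodule.smul_induction_on' with
    | smul b hb' y _ => exact hb b hb' y
    | add w₁ _ w₂ _ h₁ h₂ => exact add_mem h₁ h₂
  have hxP : x ∈ P := hP x (hH trivial)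
  let proj : I.H m n →+ I.H m n :=
    { toFun := fun y => (decompose (I.Hgr m n) y d : I.H m n)
      map_zero' := by simp
      map_add' := fun y y' => by simp [decompose_add] }
  have hproj : proj x = x := decompose_of_mem_same (I.Hgr m n) hx
  rw [← hproj]
  refine map_mem_closure proj ?_ hxP
  rintro t ⟨u, hu, y, rfl⟩
  apply AddSubgroup.subset_closure
  refine ⟨u, hu, (decompose (I.Hgr m n) y (d - 1) : I.H m n), SetLike.coe_mem _, ?_⟩
  have := decompose_smul_homog 𝒜 (I.Hgr m n) hu y (d - 1)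
  rw [add_sub_cancel] at this
  exact this

end DivTop

section RegSeq

variable {R : Type u} [CommRing R] [hCM : LocCoh.IsCohenMacaulayRing R] (𝒜 : ℤ → AddSubgroup R)
  [GradedRing 𝒜] (hpos : ∀ n : ℤ, n < 0 → 𝒜 n = ⊥)
  (m : HomogeneousIdeal 𝒜) (hm : GrLC.IsStarLocal 𝒜 m)
  (hmsp : m.toIdeal = Ideal.span (⋃ n ∈ Set.Ioi (0 : ℤ), (𝒜 n : Set R)))
  (n : ℕ) (hn : ringKrullDim R = n) (h2 : 2 ≤ n) (I : GrLC.StarInjRes 𝒜 𝒜) (q : ℕ)

include hpos hm hmsp hn h2 I in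
/-- a homogeneous regular sequence of length two with degrees divisible by `q` -/
theorem exists_regSeq : ∃ (Z Y : R) (d₁ d₂ : ℤ), 0 < d₁ ∧ 0 < d₂ ∧ Z ∈ 𝒜 (d₁ * (q : ℤ)) ∧
    Y ∈ 𝒜 (d₂ * (q : ℤ)) ∧ (∀ β : R, Z * β = 0 → β = 0) ∧
    (∀ β γ : R, Y * β = Z * γ → ∃ γ', β = Z * γ') := by
  classical
  haveI hN : IsNoetherianRing R := inferInstance
  have hs0 : Subsingleton (I.H m 0) :=
    Groth.Agent.Helper7.GrAInv.subsingleton_H_of_lt' 𝒜 hpos m hm n hn I 0 (by omega)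
  have hs1 : Subsingleton (I.H m 1) :=
    Groth.Agent.Helper7.GrAInv.subsingleton_H_of_lt' 𝒜 hpos m hm n hn I 1 (by omega)
  have hΓ := gam_eq_zero_of_subsingleton I m hs0
  obtain ⟨d₁, hd₁, z₁, hz₁, hz₁reg⟩ := Groth.Agent.Helper7.GrFinB.exists_regular 𝒜 hpos m hmsp R hΓ
  have hZ : z₁ ^ q ∈ 𝒜 (d₁ * (q : ℤ)) := by
    have := SetLike.pow_mem_graded q hz₁
    rw [nsmul_eq_mul, mul_comm] at this
    exact this
  have hZreg : IsSMulRegular R (z₁ ^ q) := hz₁reg.pow q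
  let X : GrLC.GMod.{u} 𝒜 := GrLC.GMod.of 𝒜 R 𝒜
  let μ : X.carrier →ₗ[R] X.carrier := (z₁ ^ q) • LinearMap.id
  have hP : (LinearMap.range μ).IsHomogeneous X.gr :=
    Groth.Agent.Helper7.GrFinC.range_smul_isHomogeneous X hZ
  let XN : GrLC.GMod.{u} 𝒜 := quotGMod 𝒜 X.gr (LinearMap.range μ) hP
  let π : X.carrier →ₗ[R] XN.carrier := (LinearMap.range μ).mkQ
  have hπg : GrLC.IsGrHom X.gr XN.gr π := fun g z hz => mkQ_mem_quotFam X.gr _ hz
  have hπs : Function.Surjective π := (LinearMap.range μ).mkQ_surjective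
  have hker : ∀ r, π r = 0 ↔ ∃ r', (z₁ ^ q) • r' = r := fun r =>
    ⟨fun h => (Submodule.Quotient.mk_eq_zero _).mp h,
      fun h => (Submodule.Quotient.mk_eq_zero _).mpr h⟩
  obtain ⟨EN⟩ := Groth.Agent.Helper6.GrExist.nonempty_starInjRes 𝒜 XN.gr
  obtain ⟨L⟩ := nonempty_mulLES I EN m (z₁ ^ q) (d₁ * (q : ℤ)) hZ hZreg π hπg hπs hker
  have hsN : Subsingleton (EN.H m 0) :=
    Groth.Agent.Helper7.GrAInv.subsingleton_quot I EN m (z₁ ^ q) _ L 0 hs0 hs1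
  have hΓN := gam_eq_zero_of_subsingleton EN m hsN
  haveI : Module.Finite R X.carrier := (inferInstance : Module.Finite R R)
  haveI : Module.Finite R XN.carrier := Module.Finite.of_surjective π hπs
  obtain ⟨d₂, hd₂, y₁, hy₁, hy₁reg⟩ :=
    Groth.Agent.Helper7.GrFinB.exists_regular 𝒜 hpos m hmsp XN.carrier hΓN
  have hY : y₁ ^ q ∈ 𝒜 (d₂ * (q : ℤ)) := by
    have := SetLike.pow_mem_graded q hy₁
    rw [nsmul_eq_mul, mul_comm] at this
    exact this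
  refine ⟨z₁ ^ q, y₁ ^ q, d₁, d₂, hd₁, hd₂, hZ, hY, ?_, ?_⟩
  · intro β hβ
    have : (z₁ ^ q) • β = (z₁ ^ q) • (0 : R) := by rw [smul_eq_mul, hβ, smul_zero]
    exact hZreg this
  · intro β γ h
    have h5 : π (y₁ ^ q * β : R) = 0 := by
      rw [h]
      exact (hker _).mpr ⟨γ, rfl⟩
    have h3 : (y₁ ^ q) • π β = (y₁ ^ q) • (0 : XN.carrier) := by
      rw [smul_zero, ← map_smul]
      exact h5
    have h4 : π β = 0 := (hy₁reg.pow q) h3
    obtain ⟨γ', hγ'⟩ := (hker β).mp h4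
    exact ⟨γ', hγ'.symm⟩

end RegSeq

section Main

variable {R R' : Type u} [CommRing R] [CommRing R'] [hCM : LocCoh.IsCohenMacaulayRing R]
  [hG' : LocCoh.IsGorensteinRing R']
  {𝒜 : ℤ → AddSubgroup R} [GradedRing 𝒜] {𝒜' : ℤ → AddSubgroup R'} [GradedRing 𝒜']
  (D : VData 𝒜 𝒜')
  (hpos : ∀ n : ℤ, n < 0 → 𝒜 n = ⊥) (h0 : IsField (GrLC.deg0 𝒜))
  (m : HomogeneousIdeal 𝒜) (hm : GrLC.IsStarLocal 𝒜 m)
  (hmsp : m.toIdeal = Ideal.span (⋃ n ∈ Set.Ioi (0 : ℤ), (𝒜 n : Set R)))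
  (hstd : Ideal.span (⋃ n ∈ Set.Ioi (0 : ℤ), (𝒜 n : Set R)) =
    Ideal.span ((𝒜 1 : AddSubgroup R) : Set R))
  (n : ℕ) (hn : ringKrullDim R = n) (h2 : 2 ≤ n) (I : GrLC.StarInjRes 𝒜 𝒜)

include hpos h0 hm hmsp hstd hn h2 in
/-- **if the Veronese subring `R^(q)` of a standard graded Cohen–Macaulay ring of dimension `≥ 2` is
Gorenstein, then `R` is Gorenstein and `q ∣ a(R)`** -/
theorem gorenstein_up : LocCoh.IsGorensteinRing R ∧ ∃ a : ℤ,
    GrLC.endDeg (I.Hgr m n) = ((a : WithTop ℤ) : WithBot (WithTop ℤ)) ∧ (D.q : ℤ) ∣ a := by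
  classical
  haveI hN : IsNoetherianRing R := inferInstance
  haveI hN' : IsNoetherianRing R' := inferInstance
  have hpos' := hpos_ver D hpos
  have h0' := h0_ver D h0
  set m' := irrel 𝒜' with hm'def
  have hm' : GrLC.IsStarLocal 𝒜' m' := isStarLocal_irr 𝒜' hpos' h0'
  have hm'sp : m'.toIdeal = Ideal.span (⋃ j ∈ Set.Ioi (0 : ℤ), (𝒜' j : Set R')) := irrel_toIdeal 𝒜'
  haveI hmax : m.toIdeal.IsMaximal := Groth.Agent.Helper7.GrStarLoc.isMaximal 𝒜 hpos m hm.1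
  haveI hmax' : m'.toIdeal.IsMaximal := Groth.Agent.Helper7.GrStarLoc.isMaximal 𝒜' hpos' m' hm'.1
  have hn' : ringKrullDim R' = n := (ringKrullDim_ver D).trans hn
  obtain ⟨I'⟩ := Groth.Agent.Helper6.GrExist.nonempty_starInjRes 𝒜' 𝒜'
  letI : Decomposition (I.Hgr m n) :=
    (Groth.Agent.Helper6.GrH.Hgr_isInternal 𝒜 𝒜 m I n).chooseDecomposition
  letI : SetLike.GradedSMul 𝒜 (I.Hgr m n) := Groth.Agent.Helper7.GrStarLoc.gradedSMul_Hgr 𝒜 I m n
  letI : Decomposition (I'.Hgr m' n) :=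
    (Groth.Agent.Helper6.GrH.Hgr_isInternal 𝒜' 𝒜' m' I' n).chooseDecomposition
  letI : SetLike.GradedSMul 𝒜' (I'.Hgr m' n) :=
    Groth.Agent.Helper7.GrStarLoc.gradedSMul_Hgr 𝒜' I' m' n
  -- the `a`-invariant of the Veronese subring
  obtain ⟨a', ha'⟩ : ∃ a' : ℤ,
      GrLC.endDeg (I'.Hgr m' n) = ((a' : WithTop ℤ) : WithBot (WithTop ℤ)) := by
    apply exists_endDeg_of_bound
    · haveI : Module.Finite R' (GrLC.GMod.of 𝒜' R' 𝒜').carrier :=
        (inferInstance : Module.Finite R' R')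
      exact Groth.Agent.Helper7.GrFinD.vanish 𝒜' hpos' m' hm'sp n (GrLC.GMod.of 𝒜' R' 𝒜') I'
    · letI := h0'.toField
      haveI hArt : IsArtinianRing (GrLC.deg0 𝒜') := inferInstance
      have hht : m'.toIdeal.height = n :=
        Groth.Agent.Helper7.GrHt.height_eq_dim 𝒜' hpos' m' hm' n hn'
      have hdimA : ringKrullDim (Localization.AtPrime m'.toIdeal) = n := by
        rw [IsLocalization.AtPrime.ringKrullDim_eq_height m'.toIdeal
          (Localization.AtPrime m'.toIdeal), hht]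
        rfl
      haveI hGA : LocCoh.IsGorensteinLocalRing (Localization.AtPrime m'.toIdeal) :=
        hG'.isGorensteinLocalRing_localization m'.toIdeal
      obtain ⟨e4⟩ := Groth.Agent.Helper7.GrFinC.nonempty_H_equiv m' I' n
      obtain ⟨-, ε, hε0, -, -⟩ := gor_top_lc m'.toIdeal n hdimA (I'.H m' n) e4
      by_contra hcon
      push Not at hcon
      apply hε0
      rw [← DirectSum.sum_support_decompose (I'.Hgr m' n) ε]
      refine Finset.sum_eq_zero fun d _ => ?_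
      have h3 := (decompose (I'.Hgr m' n) ε d).2
      have h4 : ((decompose (I'.Hgr m' n) ε d : I'.Hgr m' n d) : I'.H m' n) ∈
          (⊥ : AddSubgroup (I'.H m' n)) := hcon d ▸ h3
      exact AddSubgroup.mem_bot.mp h4
  obtain ⟨hN'', hR', ⟨ε', hε', hε'0, hspan'⟩, -, htop'⟩ :=
    ring_side 𝒜' hpos' h0' m' hm' n hn' I' a' ha'
  have hT' : LocCoh.IsPowerTorsion m'.toIdeal (I'.H m' n) :=
    fun h => Groth.Agent.Helper7.GrFinC.H_torsion m' I' n h
  have hinj' : Module.Injective R' (I'.H m' n) :=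
    injective_of_dual 𝒜' hpos' h0' m' hm'.1 hm'sp (I'.Hgr m' n) a' hT' hN'' hR'
  obtain ⟨θ, hθi, hθ1, hθ2⟩ := exists_theta_ring D m hmsp m' hm'sp I I' n
  have hm1 : m.toIdeal = Ideal.span ((𝒜 1 : AddSubgroup R) : Set R) := hmsp.trans hstd
  have hdiv := hdiv_top 𝒜 m hm1 n hn (by omega) I
  obtain ⟨Z, Y, d₁, d₂, hd₁, hd₂, hZ, hY, hZreg, hYreg⟩ :=
    exists_regSeq 𝒜 hpos m hm hmsp n hn h2 I D.q
  have hfinK : ∀ j : ℤ, Module.Finite (GrLC.deg0 𝒜) (GrLC.comp 𝒜 𝒜 j) :=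
    fun j => Groth.Agent.Helper7.HilbMono.finite_comp hpos hstd j
  have hfin : ∀ s : ℕ, ∃ (g : ℕ) (r : Fin g → R), (∀ l, r l ∈ 𝒜 (s : ℤ)) ∧
      ∀ v ∈ 𝒜 (s : ℤ), ∃ κ : Fin g → R, (∀ l, κ l ∈ 𝒜 0) ∧ v = ∑ l, κ l * r l := by
    intro s
    haveI := hfinK s
    obtain ⟨g, r, hr⟩ := Module.Finite.exists_fin (R := GrLC.deg0 𝒜)
      (M := GrLC.comp 𝒜 𝒜 (s : ℤ))
    refine ⟨g, fun l => (r l : R), fun l => (r l).2, fun v hv => ?_⟩
    have hmem : (⟨v, hv⟩ : GrLC.comp 𝒜 𝒜 (s : ℤ)) ∈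
        Submodule.span (GrLC.deg0 𝒜) (Set.range r) := by rw [hr]; trivial
    obtain ⟨c, hc⟩ := (Submodule.mem_span_range_iff_exists_fun _).mp hmem
    refine ⟨fun l => (c l : R), fun l => (c l).2, ?_⟩
    have h3 := congrArg Subtype.val hc
    rw [Submodule.coe_sum] at h3
    exact h3.symm
  have hNup : NDeg 𝒜 (I.Hgr m n) (a' * (D.q : ℤ)) :=
    nDeg_up D hstd (I.Hgr m n) (I'.Hgr m' n) θ hθi hθ2 a' hN'' hinj' hdiv Z Y d₁ d₂ hd₁ hd₂ hZ hY
      hZreg hYreg hfin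
  have hε : θ ε' ∈ I.Hgr m n (a' * (D.q : ℤ)) := hθ1 a' ε' hε'
  have hε0 : θ ε' ≠ 0 := fun h => hε'0 (hθi (h.trans (map_zero θ).symm))
  have hspan : ∀ y ∈ I.Hgr m n (a' * (D.q : ℤ)), ∃ c ∈ 𝒜 0, y = c • θ ε' := by
    intro y hy
    obtain ⟨y', hy', rfl⟩ := hθ2 a' y hy
    obtain ⟨c', hc', rfl⟩ := hspan' y' hy'
    refine ⟨D.φ c', ?_, θ.map_smulₛₗ c' ε'⟩
    have := D.map_mem 0 c' hc'
    rwa [zero_mul] at this
  have hL := left_nd D hstd (I.Hgr m n) (I'.Hgr m' n) θ hθi hθ1 a' h0' hR' ε' hε' hε'0 Z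
    (d₁ * (D.q : ℤ)) (mul_pos hd₁ D.qpos) hZ hZreg
  have hRup : Rep 𝒜 (I.Hgr m n) (a' * (D.q : ℤ)) :=
    rep_of_nDeg 𝒜 h0 (I.Hgr m n) (a' * (D.q : ℤ)) hNup (θ ε') hε hε0 hspan hL hfinK
  have htop : ∀ d : ℤ, a' * (D.q : ℤ) < d → I.Hgr m n d = ⊥ := by
    intro d hd
    rw [eq_bot_iff]
    intro x hx
    rw [AddSubgroup.mem_bot]
    by_contra hx0
    obtain ⟨r, hr, hrx⟩ := hNup d x hx hx0
    have : r = 0 := Groth.Agent.Helper7.GrStarLoc.eq_zero_of_neg 𝒜 hpos _ (by omega) r hr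
    exact hrx (by rw [this, zero_smul])
  have hend : GrLC.endDeg (I.Hgr m n) =
      (((a' * (D.q : ℤ) : ℤ) : WithTop ℤ) : WithBot (WithTop ℤ)) := by
    refine (Groth.Agent.Helper7.GrAInv.endDeg_eq_coe_iff (I.Hgr m n) (a' * (D.q : ℤ))).mpr
      ⟨fun hbot => hε0 ?_, htop⟩
    have h3 := hε
    rw [hbot] at h3
    exact AddSubgroup.mem_bot.mp h3
  have hvan : ∀ i : ℕ, i ≠ n → Subsingleton (I.H m i) := by
    intro i hi
    rcases lt_or_gt_of_ne hi with h | h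
    · exact Groth.Agent.Helper7.GrAInv.subsingleton_H_of_lt' 𝒜 hpos m hm n hn I i h
    · exact subsingleton_H_of_gt 𝒜 m n hn I i h
  let D₁ : VData 𝒜 𝒜 :=
    { φ := RingHom.id R
      q := 1
      hq := one_pos
      inj := Function.injective_id
      map_mem := fun j r hr => by
        show r ∈ 𝒜 (j * ((1 : ℕ) : ℤ))
        rw [Nat.cast_one, mul_one]; exact hr
      exists_mem := fun j r hr => by
        have hr' : r ∈ 𝒜 (j * ((1 : ℕ) : ℤ)) := hr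
        rw [Nat.cast_one, mul_one] at hr'
        exact ⟨r, hr', rfl⟩ }
  have e1 : a' * (D.q : ℤ) * ((D₁.q : ℕ) : ℤ) = a' * (D.q : ℤ) := by
    show a' * (D.q : ℤ) * ((1 : ℕ) : ℤ) = a' * (D.q : ℤ)
    rw [Nat.cast_one, mul_one]
  have hG : LocCoh.IsGorensteinRing R :=
    ver_gorenstein D₁ hpos h0 m hmsp n I (a' * (D.q : ℤ)) (by rw [e1]; exact hNup)
      (by rw [e1]; exact hRup) (by rw [e1]; exact htop) hvan
  exact ⟨hG, a' * (D.q : ℤ), hend, Dvd.intro_left a' rfl⟩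

end Main

end Groth.Agent.Helper7.VerUp
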