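import Mathlib
import Groth.Prelude.Def_GrLC
import Groth.Prelude.Def_CAlg
import Groth.Prelude.Def_Wider
import Groth.Agent.Helper7.VerGor6
import Groth.Agent.Helper7.VerGor8
import Groth.Agent.Helper7.VerUp4

/-!
# Segre products and nondegenerate pairings, part 2: representability from a dimension count, and the
Gorenstein criterion by a perfect pairing of the top local cohomology with the ring (helper7)
-/

set_option autoImplicit false
set_option linter.unusedSectionVars false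
set_option linter.style.haveILetI false

namespace Groth.Agent.Helper7.SegDu

open DirectSum IsLocalRing Groth.Agent.Helper6.GrMod Groth.Agent.Helper7.GrVer Groth.Agent.Helper7.GrGor
  Groth.Agent.Helper7.VerGor

universe u

section RepDim

variable {R : Type u} [CommRing R] (𝒜 : ℤ → AddSubgroup R) [GradedRing 𝒜]
  {H : Type u} [AddCommGroup H] [Module R H] (ℋ : ℤ → AddSubgroup H) [Decomposition ℋ]
  [SetLike.GradedSMul 𝒜 ℋ] (t : ℤ)

theorem rep_of_mulTop_surjective (h : ∀ j : ℤ, Function.Surjective (mulTop 𝒜 ℋ t j)) :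
    Groth.Agent.Helper7.VerGor.Rep 𝒜 ℋ t := by
  intro j F hF1 hF2 hF3
  let f : GrLC.comp 𝒜 𝒜 j →ₗ[GrLC.deg0 𝒜] GrLC.comp 𝒜 ℋ t :=
    { toFun := fun r => ⟨F r.1, hF1 r.1 r.2⟩
      map_add' := fun r r' => Subtype.ext (hF2 r.1 r.2 r'.1 r'.2)
      map_smul' := fun c r => Subtype.ext (hF3 c.1 c.2 r.1 r.2) }
  obtain ⟨x, hx⟩ := h j f
  refine ⟨x.1, x.2, fun r hr => ?_⟩
  exact congrArg Subtype.val (LinearMap.congr_fun hx ⟨r, hr⟩)

/-- **representability from a dimension count** -/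
theorem rep_of_finrank (h0 : IsField (GrLC.deg0 𝒜)) (hN : NDeg 𝒜 ℋ t)
    (hfA : ∀ j : ℤ, Module.Finite (GrLC.deg0 𝒜) (GrLC.comp 𝒜 𝒜 j))
    (hfH : ∀ e : ℤ, Module.Finite (GrLC.deg0 𝒜) (GrLC.comp 𝒜 ℋ e))
    (hdim : ∀ j : ℤ, Module.finrank (GrLC.deg0 𝒜) (GrLC.comp 𝒜 ℋ (t - j)) =
      Module.finrank (GrLC.deg0 𝒜) (GrLC.comp 𝒜 𝒜 j) *
        Module.finrank (GrLC.deg0 𝒜) (GrLC.comp 𝒜 ℋ t)) :
    Groth.Agent.Helper7.VerGor.Rep 𝒜 ℋ t := by
  letI := h0.toField
  apply rep_of_mulTop_surjective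
  intro j
  haveI := hfA j
  haveI := hfH t
  haveI := hfH (t - j)
  have hinj := mulTop_injective 𝒜 ℋ t hN j
  have h1 := Module.finrank_linearMap (GrLC.deg0 𝒜) (GrLC.deg0 𝒜) (GrLC.comp 𝒜 𝒜 j)
    (GrLC.comp 𝒜 ℋ t)
  have h2 : Module.finrank (GrLC.deg0 𝒜) (GrLC.comp 𝒜 ℋ (t - j)) =
      Module.finrank (GrLC.deg0 𝒜) (GrLC.comp 𝒜 𝒜 j →ₗ[GrLC.deg0 𝒜] GrLC.comp 𝒜 ℋ t) :=
    (hdim j).trans h1.symm
  have h3 := @LinearMap.injective_iff_surjective_of_finrank_eq_finrank (GrLC.deg0 𝒜)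
    (GrLC.comp 𝒜 ℋ (t - j)) _ _ _ (GrLC.comp 𝒜 𝒜 j →ₗ[GrLC.deg0 𝒜] GrLC.comp 𝒜 ℋ t) _ _ _ _ h2
    (mulTop 𝒜 ℋ t j)
  exact h3.mp hinj

end RepDim

section AInv

variable {R : Type u} [CommRing R] [hG : LocCoh.IsGorensteinRing R] (𝒜 : ℤ → AddSubgroup R)
  [GradedRing 𝒜] (hpos : ∀ n : ℤ, n < 0 → 𝒜 n = ⊥) (h0 : IsField (GrLC.deg0 𝒜))
  (m : HomogeneousIdeal 𝒜) (hm : GrLC.IsStarLocal 𝒜 m)
  (hmsp : m.toIdeal = Ideal.span (⋃ n ∈ Set.Ioi (0 : ℤ), (𝒜 n : Set R)))
  (n : ℕ) (hn : ringKrullDim R = n) (I : GrLC.StarInjRes 𝒜 𝒜)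

include hpos h0 hm hmsp hn in
/-- the `a`-invariant of a Gorenstein graded ring defined over a field is an integer -/
theorem exists_ainv : ∃ a : ℤ,
    GrLC.endDeg (I.Hgr m n) = ((a : WithTop ℤ) : WithBot (WithTop ℤ)) := by
  classical
  haveI hN : IsNoetherianRing R := inferInstance
  haveI hmax : m.toIdeal.IsMaximal := Groth.Agent.Helper7.GrStarLoc.isMaximal 𝒜 hpos m hm.1
  letI : Decomposition (I.Hgr m n) :=
    (Groth.Agent.Helper6.GrH.Hgr_isInternal 𝒜 𝒜 m I n).chooseDecomposition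
  apply Groth.Agent.Helper7.VerUp.exists_endDeg_of_bound
  · haveI : Module.Finite R (GrLC.GMod.of 𝒜 R 𝒜).carrier :=
      (inferInstance : Module.Finite R R)
    exact Groth.Agent.Helper7.GrFinD.vanish 𝒜 hpos m hmsp n (GrLC.GMod.of 𝒜 R 𝒜) I
  · letI := h0.toField
    haveI hArt : IsArtinianRing (GrLC.deg0 𝒜) := inferInstance
    have hht : m.toIdeal.height = n :=
      Groth.Agent.Helper7.GrHt.height_eq_dim 𝒜 hpos m hm n hn
    have hdimA : ringKrullDim (Localization.AtPrime m.toIdeal) = n := by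
      rw [IsLocalization.AtPrime.ringKrullDim_eq_height m.toIdeal
        (Localization.AtPrime m.toIdeal), hht]
      rfl
    haveI hGA : LocCoh.IsGorensteinLocalRing (Localization.AtPrime m.toIdeal) :=
      hG.isGorensteinLocalRing_localization m.toIdeal
    obtain ⟨e4⟩ := Groth.Agent.Helper7.GrFinC.nonempty_H_equiv m I n
    obtain ⟨-, ε, hε0, -, -⟩ := gor_top_lc m.toIdeal n hdimA (I.H m n) e4
    by_contra hcon
    push Not at hcon
    apply hε0
    rw [← DirectSum.sum_support_decompose (I.Hgr m n) ε]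
    refine Finset.sum_eq_zero fun d _ => ?_
    have h3 := (decompose (I.Hgr m n) ε d).2
    have h4 : ((decompose (I.Hgr m n) ε d : I.Hgr m n d) : I.H m n) ∈
        (⊥ : AddSubgroup (I.H m n)) := hcon d ▸ h3
    exact AddSubgroup.mem_bot.mp h4

end AInv

section Crit

variable {R' : Type u} [CommRing R'] [IsNoetherianRing R'] (𝒜' : ℤ → AddSubgroup R') [GradedRing 𝒜']
  (hpos' : ∀ n : ℤ, n < 0 → 𝒜' n = ⊥) (h0' : IsField (GrLC.deg0 𝒜'))
  (m' : HomogeneousIdeal 𝒜') (hm' : GrLC.IsStarLocal 𝒜' m')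
  (hm'sp : m'.toIdeal = Ideal.span (⋃ n ∈ Set.Ioi (0 : ℤ), (𝒜' n : Set R')))
  (n : ℕ) (I' : GrLC.StarInjRes 𝒜' 𝒜') (t' : ℤ)
  (hN' : NDeg 𝒜' (I'.Hgr m' n) t') (hR' : Groth.Agent.Helper7.VerGor.Rep 𝒜' (I'.Hgr m' n) t')
  (hvan : ∀ i : ℕ, i ≠ n → Subsingleton (I'.H m' i))

include hpos' h0' hm' hm'sp hN' hR' hvan in
/-- **a graded ring defined over a field whose only nonvanishing local cohomology is perfectly paired with the
ring is Gorenstein** -/
theorem gorenstein_of_dual : LocCoh.IsGorensteinRing R' := by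
  classical
  haveI hmax' : m'.toIdeal.IsMaximal := Groth.Agent.Helper7.GrStarLoc.isMaximal 𝒜' hpos' m' hm'.1
  haveI hmp' : m'.toIdeal.IsPrime := hmax'.isPrime
  letI : Decomposition (I'.Hgr m' n) :=
    (Groth.Agent.Helper6.GrH.Hgr_isInternal 𝒜' 𝒜' m' I' n).chooseDecomposition
  letI : SetLike.GradedSMul 𝒜' (I'.Hgr m' n) :=
    Groth.Agent.Helper7.GrStarLoc.gradedSMul_Hgr 𝒜' I' m' n
  have hT' : LocCoh.IsPowerTorsion m'.toIdeal (I'.H m' n) :=
    fun h => Groth.Agent.Helper7.GrFinC.H_torsion m' I' n h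
  have hinj' : Module.Injective R' (I'.H m' n) :=
    injective_of_dual 𝒜' hpos' h0' m' hm'.1 hm'sp (I'.Hgr m' n) t' hT' hN' hR'
  -- pass to the local ring
  obtain ⟨e4'⟩ := Groth.Agent.Helper7.GrFinC.nonempty_H_equiv m' I' n
  have hH' : LocCoh.IsPowerTorsion m'.toIdeal (LocCoh.H m'.toIdeal n R') :=
    Groth.Agent.Helper1.LocCohTors.isPowerTorsion m'.toIdeal n (ModuleCat.of R' R')
  let e5' := locEquiv m'.toIdeal (LocCoh.H m'.toIdeal n R') hH'
  obtain ⟨e67'⟩ := nonempty_localized_lc_equiv m'.toIdeal n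
  have hL' : Module.Injective R' (LocalizedModule m'.toIdeal.primeCompl (LocCoh.H m'.toIdeal n R')) :=
    (Module.Baer.of_equiv (e4'.trans e5') (Module.Baer.of_injective hinj')).injective
  have hLA' : Module.Injective (Localization.AtPrime m'.toIdeal)
      (LocalizedModule m'.toIdeal.primeCompl (LocCoh.H m'.toIdeal n R')) :=
    injective_of_isLocalization m'.toIdeal.primeCompl (Localization.AtPrime m'.toIdeal) _ hL'
  have hX' : Module.Injective (Localization.AtPrime m'.toIdeal)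
      (LocCoh.H (maximalIdeal (Localization.AtPrime m'.toIdeal)) n
        (Localization.AtPrime m'.toIdeal)) :=
    (Module.Baer.of_equiv e67' (Module.Baer.of_injective hLA')).injective
  -- vanishing
  have hvan' : ∀ i : ℕ, i ≠ n → Subsingleton (LocCoh.H (maximalIdeal (Localization.AtPrime m'.toIdeal)) i
      (Localization.AtPrime m'.toIdeal)) := by
    intro i hi
    rw [subsingleton_lc_iff m'.toIdeal i]
    obtain ⟨e⟩ := Groth.Agent.Helper7.GrFinC.nonempty_H_equiv m' I' i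
    haveI := hvan i hi
    exact e.symm.toEquiv.subsingleton
  have hGA' : LocCoh.IsGorensteinLocalRing (Localization.AtPrime m'.toIdeal) :=
    (Groth.Agent.S11175.result (Localization.AtPrime m'.toIdeal)).2 ⟨n, hvan', hX'⟩
  exact isGorensteinRing_of_local 𝒜' m' hm' hGA'

end Crit

end Groth.Agent.Helper7.SegDu
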