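import Mathlib
import Groth.Prelude.Def_GrLC
import Groth.Prelude.Def_CAlg
import Groth.Prelude.Def_Wider
import Groth.Prelude.Def_GrSeg
import Groth.Agent.Helper7.KunMd5
import Groth.Agent.Helper7.SegDu1
import Groth.Agent.Helper7.SegDu2
import Groth.Agent.Helper7.KunP2
import Groth.Agent.S18647

/-!
# Segre products and nondegenerate pairings, part 3: the ring side, in the language of gradings by
`k`-subspaces (helper7)
-/

set_option autoImplicit false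
set_option linter.unusedSectionVars false
set_option linter.style.haveILetI false

namespace Groth.Agent.Helper7.SegDu

open TensorProduct DirectSum Groth.Agent.Helper7.Kun Groth.Agent.Helper7.VerGor

universe u

section RingSide

variable {k : Type u} [Field k] {R : Type u} [CommRing R] [Algebra k R]
  {𝒜 : ℤ → Submodule k R} [GradedAlgebra 𝒜]
  (hposR : ∀ n : ℤ, n < 0 → 𝒜 n = ⊥) (h0R : 𝒜 0 = Submodule.span k {(1 : R)})
  [Algebra.FiniteType k R] [hG : LocCoh.IsGorensteinRing R]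
  (mR : HomogeneousIdeal 𝒜)
  (hmR : mR.toIdeal = Ideal.span (⋃ n ∈ Set.Ioi (0 : ℤ), (𝒜 n : Set R)))
  (I : GrLC.StarInjRes 𝒜 𝒜) (r : ℕ) (hr : ringKrullDim R = r)

include hposR h0R hmR hr in
/-- **the top graded local cohomology of a Gorenstein graded ring defined over a field**: the `a`-invariant is
an integer `a`, multiplication into degree `a` is a nondegenerate pairing, and `dim H^r(R)_{a-j} = dim R_j` -/
theorem gor_side : ∃ a : ℤ,
    GrLC.endDeg (I.Hgr mR r) = ((a : WithTop ℤ) : WithBot (WithTop ℤ)) ∧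
    (∀ d : ℤ, ∀ x ∈ I.Hgr mR r d, x ≠ 0 → ∃ u ∈ 𝒜 (a - d), u • x ≠ 0) ∧
    (∀ j : ℤ, Module.finrank (GrLC.deg0 𝒜) (I.Hcomp mR r (a - j)) = Module.finrank k (𝒜 j)) ∧
    (∀ i : ℕ, i ≠ r → Subsingleton (I.H mR i)) := by
  classical
  haveI : IsNoetherianRing R := Algebra.FiniteType.isNoetherianRing k R
  haveI : Nontrivial R := by
    by_contra hcon
    rw [not_nontrivial_iff_subsingleton] at hcon
    rw [ringKrullDim_eq_bot_of_subsingleton] at hr
    exact WithBot.bot_ne_coe hr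
  haveI : SetLike.GradedSMul 𝒜 (plus 𝒜) := gradedSMul_self 𝒜
  have hpos' : ∀ n : ℤ, n < 0 → plus 𝒜 n = ⊥ := hpos_plus hposR
  have h0' : IsField (GrLC.deg0 (plus 𝒜)) := deg0_isField h0R
  have hm' : GrLC.IsStarLocal (plus 𝒜) (idealPlus 𝒜 mR) := isStarLocal_idealPlus 𝒜 hposR h0R mR hmR
  have hmsp' : (idealPlus 𝒜 mR).toIdeal =
      Ideal.span (⋃ n ∈ Set.Ioi (0 : ℤ), (plus 𝒜 n : Set R)) := hmR
  set I' : GrLC.StarInjRes (plus 𝒜) (plus 𝒜) := resPlus 𝒜 (resSelf 𝒜 I) with hI'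
  obtain ⟨a, ha⟩ := exists_ainv (plus 𝒜) hpos' h0' (idealPlus 𝒜 mR) hm' hmsp' r hr I'
  obtain ⟨hN, hR, ⟨ε, hε, hε0, hspan⟩, hvan, htop⟩ :=
    ring_side (plus 𝒜) hpos' h0' (idealPlus 𝒜 mR) hm' r hr I' a ha
  refine ⟨a, ha, fun d x hx hx0 => hN d x hx hx0, fun j => ?_, fun i hi => hvan i hi⟩
  letI : Decomposition (I'.Hgr (idealPlus 𝒜 mR) r) :=
    (Groth.Agent.Helper6.GrH.Hgr_isInternal (plus 𝒜) (plus 𝒜) (idealPlus 𝒜 mR) I' r).chooseDecomposition
  letI : SetLike.GradedSMul (plus 𝒜) (I'.Hgr (idealPlus 𝒜 mR) r) :=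
    Groth.Agent.Helper7.GrStarLoc.gradedSMul_Hgr (plus 𝒜) I' (idealPlus 𝒜 mR) r
  haveI hfA : Module.Finite (GrLC.deg0 (plus 𝒜)) (GrLC.comp (plus 𝒜) (plus 𝒜) j) :=
    Module.Finite.iff_fg.mpr (comp_fg (plus 𝒜) (plus 𝒜) j)
  have h1 := length_piece_eq (plus 𝒜) h0' (I'.Hgr (idealPlus 𝒜 mR) r) a hN hR ε hε hε0 hspan j
  haveI hfH : Module.Finite (GrLC.deg0 (plus 𝒜))
      (GrLC.comp (plus 𝒜) (I'.Hgr (idealPlus 𝒜 mR) r) (a - j)) :=
    finite_Hcomp hposR mR hmR (resSelf 𝒜 I) (a - j) r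
  letI := h0'.toField
  rw [Module.length_eq_finrank] at h1
  have h2 : Module.finrank (GrLC.deg0 (plus 𝒜))
      (GrLC.comp (plus 𝒜) (I'.Hgr (idealPlus 𝒜 mR) r) (a - j)) =
      Module.finrank (GrLC.deg0 (plus 𝒜)) (GrLC.comp (plus 𝒜) (plus 𝒜) j) := by
    exact_mod_cast h1
  exact h2.trans (finrank_comp_self 𝒜 h0R j)

end RingSide

section Unself

variable {k R : Type u} [Field k] [CommRing R] [Algebra k R]
  (𝒜 : ℤ → Submodule k R) [GradedAlgebra 𝒜]

/-- a *injective resolution of the ring with pieces regarded as additive subgroups, retyped back -/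
noncomputable def resUnself [SetLike.GradedSMul 𝒜 (plus 𝒜)] (I : GrLC.StarInjRes 𝒜 (plus 𝒜)) :
    GrLC.StarInjRes 𝒜 𝒜 where
  X := I.X
  d := I.d
  ε := I.ε
  d_grHom := I.d_grHom
  ε_grHom := fun n x hx => I.ε_grHom n x hx
  ε_injective := I.ε_injective
  exact_zero := I.exact_zero
  exact_succ := I.exact_succ
  starInj := I.starInj

/-- *injective resolutions of the ring exist -/
theorem nonempty_starInjRes_self : Nonempty (GrLC.StarInjRes 𝒜 𝒜) := by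
  haveI : SetLike.GradedSMul 𝒜 (plus 𝒜) := gradedSMul_self 𝒜
  obtain ⟨I⟩ := nonempty_starInjRes_sub 𝒜 (plus 𝒜)
  exact ⟨resUnself 𝒜 I⟩

/-- the graded structure of the graded local cohomology of the ring -/
theorem gradedSMul_HgrS (I : GrLC.StarInjRes 𝒜 𝒜) (mR : HomogeneousIdeal 𝒜) (i : ℕ) :
    SetLike.GradedSMul 𝒜 (I.Hgr mR i) := by
  haveI : SetLike.GradedSMul 𝒜 (plus 𝒜) := gradedSMul_self 𝒜
  refine ⟨fun {t j} {r x} hr hx => ?_⟩
  exact Groth.Agent.Helper7.KunMd.smul_mem_HgrS (resSelf 𝒜 I) mR hr i j x hx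

/-- the grading of the graded local cohomology of the ring -/
theorem isInternal_HgrS (I : GrLC.StarInjRes 𝒜 𝒜) (mR : HomogeneousIdeal 𝒜) (i : ℕ) :
    DirectSum.IsInternal (I.Hgr mR i) := by
  haveI : SetLike.GradedSMul 𝒜 (plus 𝒜) := gradedSMul_self 𝒜
  exact Groth.Agent.Helper6.GrH.Hgr_isInternal (plus 𝒜) (plus 𝒜) (idealPlus 𝒜 mR)
    (resPlus 𝒜 (resSelf 𝒜 I)) i

end Unself

section SegPiece

variable {k : Type u} [Field k] {R S T : Type u} [CommRing R] [Algebra k R] [CommRing S] [Algebra k S]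
  [CommRing T] [Algebra k T]
  {𝒜 : ℤ → Submodule k R} [GradedAlgebra 𝒜] {ℬ : ℤ → Submodule k S} [GradedAlgebra ℬ]
  (𝒯 : ℤ → Submodule k T) [GradedAlgebra 𝒯] (ψ : T →ₐ[k] R ⊗[k] S)
  (hT : GrSeg.IsSegreRing 𝒜 ℬ 𝒯 ψ)

include hT in
/-- `dim T_j = dim R_j · dim S_j` -/
theorem finrank_segre_piece (j : ℤ) :
    Module.finrank k (𝒯 j) = Module.finrank k (𝒜 j) * Module.finrank k (ℬ j) := by
  have h1 : Module.finrank k ((𝒯 j).map ψ.toLinearMap) = Module.finrank k (𝒯 j) :=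
    (Submodule.equivMapOfInjective ψ.toLinearMap hT.1 (𝒯 j)).finrank_eq.symm
  rw [← h1, hT.2 j]
  exact Groth.Agent.Helper7.KunMd.finrank_span_tmul (𝒜 j) (ℬ j)

theorem finrank_deg_zero [Nontrivial R] (h0R : 𝒜 0 = Submodule.span k {(1 : R)}) :
    Module.finrank k (𝒜 0) = 1 := by
  rw [h0R]
  exact finrank_span_singleton one_ne_zero

end SegPiece

end Groth.Agent.Helper7.SegDu
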