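import Mathlib
import Groth.Prelude.Def_GrLC
import Groth.Prelude.Def_CAlg
import Groth.Prelude.Def_Wider
import Groth.Prelude.Def_GrSeg
import Groth.Agent.Helper7.SegDu3

/-!
# Segre products and nondegenerate pairings, part 4: a Cohen–Macaulay Segre product of two Gorenstein graded
rings of dimensions `≥ 2` with equal `a`-invariants is Gorenstein (helper7)
-/

set_option autoImplicit false
set_option linter.unusedSectionVars false
set_option linter.style.haveILetI false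

namespace Groth.Agent.Helper7.SegDu

open TensorProduct DirectSum Groth.Agent.Helper7.Kun Groth.Agent.Helper7.VerGor
  Groth.Agent.Helper7.SegDim Groth.Agent.Helper7.GrCM Groth.Agent.Helper7.KunMd

universe u

attribute [local instance] gmodModuleK gmodTowerK

section Main

variable {k : Type u} [Field k] {R : Type u} [CommRing R] [Algebra k R]
  {𝒜 : ℤ → Submodule k R} [GradedAlgebra 𝒜]
  (hposR : ∀ n : ℤ, n < 0 → 𝒜 n = ⊥) (h0R : 𝒜 0 = Submodule.span k {(1 : R)})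
  [Algebra.FiniteType k R]
  {S : Type u} [CommRing S] [Algebra k S]
  {ℬ : ℤ → Submodule k S} [GradedAlgebra ℬ]
  (hposS : ∀ n : ℤ, n < 0 → ℬ n = ⊥) (h0S : ℬ 0 = Submodule.span k {(1 : S)})
  [Algebra.FiniteType k S]
  {T : Type u} [CommRing T] [Algebra k T] (𝒯 : ℤ → Submodule k T) [GradedAlgebra 𝒯]
  (ψ : T →ₐ[k] R ⊗[k] S) (hT : GrSeg.IsSegreRing 𝒜 ℬ 𝒯 ψ)
  [hGR : LocCoh.IsGorensteinRing R] [hGS : LocCoh.IsGorensteinRing S]
  (mR : HomogeneousIdeal 𝒜)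
  (hmR : mR.toIdeal = Ideal.span (⋃ n ∈ Set.Ioi (0 : ℤ), (𝒜 n : Set R)))
  (mS : HomogeneousIdeal ℬ)
  (hmS : mS.toIdeal = Ideal.span (⋃ n ∈ Set.Ioi (0 : ℤ), (ℬ n : Set S)))
  (I : GrLC.StarInjRes 𝒜 𝒜) (J : GrLC.StarInjRes ℬ ℬ)

include hposR h0R hposS h0S hT hmR hmS in
/-- **a Cohen–Macaulay Segre product of Gorenstein graded rings of dimensions `≥ 2` with equal `a`-invariants is
Gorenstein** -/
theorem gor_segre (r s : ℕ) (hr : ringKrullDim R = r) (hs : ringKrullDim S = s)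
    (h2r : 2 ≤ r) (h2s : 2 ≤ s)
    (haeq : GrLC.endDeg (I.Hgr mR r) = GrLC.endDeg (J.Hgr mS s))
    [hCM : LocCoh.IsCohenMacaulayRing T] : LocCoh.IsGorensteinRing T := by
  classical
  haveI : IsNoetherianRing R := Algebra.FiniteType.isNoetherianRing k R
  haveI : IsNoetherianRing S := Algebra.FiniteType.isNoetherianRing k S
  haveI : Nontrivial R := by
    by_contra hcon
    rw [not_nontrivial_iff_subsingleton] at hcon
    rw [ringKrullDim_eq_bot_of_subsingleton] at hr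
    exact WithBot.bot_ne_coe hr
  haveI : Nontrivial S := by
    by_contra hcon
    rw [not_nontrivial_iff_subsingleton] at hcon
    rw [ringKrullDim_eq_bot_of_subsingleton] at hs
    exact WithBot.bot_ne_coe hs
  haveI : Nontrivial T := nontrivial_segre 𝒯 ψ hT
  haveI : IsNoetherianRing T := noeth_segre 𝒯 ψ hT
  have hposT : ∀ n : ℤ, n < 0 → 𝒯 n = ⊥ :=
    Groth.Agent.Helper7.SegOne.segre_hpos 𝒜 ℬ 𝒯 ψ hT.1 hT.2 hposR
  have h0T : 𝒯 0 = Submodule.span k {(1 : T)} :=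
    Groth.Agent.Helper7.SegOne.segre_h0 𝒜 ℬ 𝒯 ψ hT.1 hT.2 h0R h0S
  haveI : Algebra.FiniteType k T := Groth.Agent.Helper7.SegOne.finiteType_of_noeth 𝒯 hposT h0T
  haveI : SetLike.GradedSMul 𝒯 (plus 𝒯) := gradedSMul_self 𝒯
  have hdimT : ringKrullDim T = ((r + s - 1 : ℕ) : WithBot ℕ∞) :=
    Groth.Agent.S18647.result k R 𝒜 hposR h0R S ℬ hposS h0S T 𝒯 ψ hT.1 hT.2 r s hr hs (by omega)
      (by omega)
  obtain ⟨a', rfl⟩ : ∃ a' : ℕ, r = a' + 2 := ⟨r - 2, by omega⟩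
  obtain ⟨b', rfl⟩ : ∃ b' : ℕ, s = b' + 2 := ⟨s - 2, by omega⟩
  have en : a' + 2 + (b' + 2) - 1 = a' + b' + 2 + 1 := by omega
  rw [en] at hdimT
  obtain ⟨a, haR, hNR, hdR, hvR⟩ := gor_side hposR h0R mR hmR I (a' + 2) hr
  obtain ⟨b, haS, hNS, hdS, hvS⟩ := gor_side hposS h0S mS hmS J (b' + 2) hs
  have hab : a = b := by
    rw [haR, haS] at haeq
    exact WithTop.coe_injective (WithBot.coe_injective haeq)
  subst hab
  -- the `T` side
  let mT : HomogeneousIdeal 𝒯 := ⟨irr 𝒯, irr_isHomogeneous 𝒯⟩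
  have hmT : mT.toIdeal = Ideal.span (⋃ n ∈ Set.Ioi (0 : ℤ), (𝒯 n : Set T)) := irr_eq_span 𝒯
  obtain ⟨IT⟩ := nonempty_starInjRes_self 𝒯
  set n : ℕ := a' + b' + 2 + 1 with hn
  set IT' : GrLC.StarInjRes (plus 𝒯) (plus 𝒯) := resPlus 𝒯 (resSelf 𝒯 IT) with hIT'
  have hposT' : ∀ n : ℤ, n < 0 → plus 𝒯 n = ⊥ := hpos_plus hposT
  have h0T' : IsField (GrLC.deg0 (plus 𝒯)) := deg0_isField h0T
  have hmT' : GrLC.IsStarLocal (plus 𝒯) (idealPlus 𝒯 mT) := isStarLocal_idealPlus 𝒯 hposT h0T mT hmT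
  have hmTsp' : (idealPlus 𝒯 mT).toIdeal =
      Ideal.span (⋃ n ∈ Set.Ioi (0 : ℤ), (plus 𝒯 n : Set T)) := hmT
  letI decT : Decomposition (IT.Hgr mT n) := (isInternal_HgrS 𝒯 IT mT n).chooseDecomposition
  letI : SetLike.GradedSMul 𝒜 (I.Hgr mR (a' + 1 + 1)) := gradedSMul_HgrS 𝒜 I mR (a' + 1 + 1)
  letI : SetLike.GradedSMul ℬ (J.Hgr mS (b' + 1 + 1)) := gradedSMul_HgrS ℬ J mS (b' + 1 + 1)
  obtain ⟨φ', hφ'⟩ := kunneth_top_module hposR h0R hposS h0S 𝒯 ψ hT mR hmR mS hmS mT hmT I J IT a' b'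
    hr hs
  -- nondegeneracy
  have hNT : NDeg (plus 𝒯) (IT'.Hgr (idealPlus 𝒯 mT) n) a :=
    nDeg_segre 𝒜 ℬ 𝒯 ψ hT (I.Hgr mR (a' + 1 + 1)) (J.Hgr mS (b' + 1 + 1)) (IT.Hgr mT n) φ' hφ' a
      hNR hNS
  -- representability, by a dimension count
  letI : SetLike.GradedSMul (plus 𝒯) (IT'.Hgr (idealPlus 𝒯 mT) n) :=
    Groth.Agent.Helper7.GrStarLoc.gradedSMul_Hgr (plus 𝒯) IT' (idealPlus 𝒯 mT) n
  letI decT' : Decomposition (IT'.Hgr (idealPlus 𝒯 mT) n) := decT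
  have hKun : ∀ e : ℤ, Module.finrank (GrLC.deg0 𝒯) (IT.Hcomp mT n e) =
      Module.finrank (GrLC.deg0 𝒜) (I.Hcomp mR (a' + 2) e) *
        Module.finrank (GrLC.deg0 ℬ) (J.Hcomp mS (b' + 2) e) := by
    intro e
    have h := kunneth_top hposR h0R hposS h0S 𝒯 ψ hT mR hmR mS hmS mT hmT I J IT (a' + 2) (b' + 2)
      hr hs (by omega) (by omega) e
    rw [en] at h
    exact h
  have hpiece : ∀ j : ℤ, Module.finrank (GrLC.deg0 𝒯) (IT.Hcomp mT n (a - j)) =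
      Module.finrank k (𝒯 j) := by
    intro j
    rw [hKun, hdR j, hdS j, finrank_segre_piece 𝒯 ψ hT j]
  have htop1 : Module.finrank (GrLC.deg0 𝒯) (IT.Hcomp mT n a) = 1 := by
    have h := hpiece 0
    rw [sub_zero] at h
    rw [h, finrank_segre_piece 𝒯 ψ hT 0, finrank_deg_zero h0R, finrank_deg_zero h0S]
  have hRT : Groth.Agent.Helper7.VerGor.Rep (plus 𝒯) (IT'.Hgr (idealPlus 𝒯 mT) n) a := by
    apply rep_of_finrank (plus 𝒯) (IT'.Hgr (idealPlus 𝒯 mT) n) a h0T' hNT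
    · intro j
      exact Module.Finite.iff_fg.mpr (comp_fg (plus 𝒯) (plus 𝒯) j)
    · intro e
      exact finite_Hcomp hposT mT hmT (resSelf 𝒯 IT) e n
    · intro j
      have h3 : Module.finrank (GrLC.deg0 (plus 𝒯)) (GrLC.comp (plus 𝒯) (plus 𝒯) j) =
          Module.finrank k (𝒯 j) := finrank_comp_self 𝒯 h0T j
      rw [h3]
      exact (hpiece j).trans (by rw [show Module.finrank (GrLC.deg0 (plus 𝒯))
        (GrLC.comp (plus 𝒯) (IT'.Hgr (idealPlus 𝒯 mT) n) a) = 1 from htop1, mul_one])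
  -- vanishing
  have hvanT : ∀ i : ℕ, i ≠ n → Subsingleton (IT'.H (idealPlus 𝒯 mT) i) := by
    intro i hi
    have hsd : Module.supportDim T T = n := (Module.supportDim_self_eq_ringKrullDim T).trans hdimT
    have hcm := (cmRing_iff_cmModule T).mp hCM
    have h := fun d => Hcomp_eq_bot_of_cm 𝒯 hposT h0T (plus 𝒯) mT hmT (resSelf 𝒯 IT) n hsd hcm i hi d
    exact (subsingleton_H_iff 𝒯 (plus 𝒯) mT (resSelf 𝒯 IT) i).mpr h
  exact gorenstein_of_dual (plus 𝒯) hposT' h0T' (idealPlus 𝒯 mT) hmT' hmTsp' n IT' a hNT hRT hvanT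

end Main

end Groth.Agent.Helper7.SegDu
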