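import Mathlib
import Groth.Prelude.Def_GrLC
import Groth.Prelude.Def_GrLC2
import Groth.Prelude.Def_CAlg
import Groth.Prelude.Def_Wider
import Groth.Agent.Helper7.VerGor9

/-!
# Segre products and nondegenerate pairings, part 5: the type of a Cohen–Macaulay graded ring defined over a
field is the length of the socle of its top local cohomology (helper7)
-/

set_option autoImplicit false
set_option linter.unusedSectionVars false
set_option linter.style.haveILetI false

namespace Groth.Agent.Helper7.SegDu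

open DirectSum IsLocalRing CategoryTheory Abelian Groth.Agent.Helper1 Groth.Agent.Helper6.GrMod
  Groth.Agent.Helper7.GrVer Groth.Agent.Helper7.GrGor Groth.Agent.Helper7.BassNum
  Groth.Agent.Helper7.VerGor

universe u

section Bass

variable {R' : Type u} [CommRing R'] [IsNoetherianRing R'] (𝒜' : ℤ → AddSubgroup R') [GradedRing 𝒜']
  (m' : HomogeneousIdeal 𝒜') [hmax' : m'.toIdeal.IsMaximal]
  (n : ℕ) (I' : GrLC.StarInjRes 𝒜' 𝒜')
  (hvan : ∀ i : ℕ, i ≠ n → Subsingleton (I'.H m' i))

include hvan in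
/-- **the type is the length of the socle of the top local cohomology** -/
theorem bassNum_eq_length_socle : GrLC.bassNum m'.toIdeal R' n =
    Module.length R' ↥(Submodule.torsionBySet R' (I'.H m' n) (m'.toIdeal : Set R')) := by
  classical
  obtain ⟨e4'⟩ := Groth.Agent.Helper7.GrFinC.nonempty_H_equiv m' I' n
  have hH' : LocCoh.IsPowerTorsion m'.toIdeal (LocCoh.H m'.toIdeal n R') :=
    Groth.Agent.Helper1.LocCohTors.isPowerTorsion m'.toIdeal n (ModuleCat.of R' R')
  let e5' := locEquiv m'.toIdeal (LocCoh.H m'.toIdeal n R') hH'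
  obtain ⟨e67'⟩ := nonempty_localized_lc_equiv m'.toIdeal n
  have hvan' : ∀ i : ℕ, i ≠ n → Subsingleton (LocCoh.H (maximalIdeal (Localization.AtPrime m'.toIdeal)) i
      (Localization.AtPrime m'.toIdeal)) := by
    intro i hi
    rw [subsingleton_lc_iff m'.toIdeal i]
    obtain ⟨e⟩ := Groth.Agent.Helper7.GrFinC.nonempty_H_equiv m' I' i
    haveI := hvan i hi
    exact e.symm.toEquiv.subsingleton
  obtain ⟨e1⟩ := GorTop.nonempty_ext_equiv_hom (maximalIdeal (Localization.AtPrime m'.toIdeal)) n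
    (ModuleCat.of (Localization.AtPrime m'.toIdeal) (Localization.AtPrime m'.toIdeal))
    (fun j hj => by
      haveI := hvan' j (by omega)
      exact (ModuleCat.isZero_of_subsingleton _).injective)
    (ModuleCat.of (Localization.AtPrime m'.toIdeal)
      (Localization.AtPrime m'.toIdeal ⧸ maximalIdeal (Localization.AtPrime m'.toIdeal)))
    Canon.isTors_residueField
  let α₀ : LocalizedModule m'.toIdeal.primeCompl R' ≃ₗ[R'] Localization.AtPrime m'.toIdeal :=
    IsLocalizedModule.iso m'.toIdeal.primeCompl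
      (Algebra.linearMap R' (Localization.AtPrime m'.toIdeal))
  let α : LocalizedModule m'.toIdeal.primeCompl R' ≃ₗ[Localization.AtPrime m'.toIdeal]
      Localization.AtPrime m'.toIdeal :=
    LinearEquiv.extendScalarsOfIsLocalization m'.toIdeal.primeCompl
      (Localization.AtPrime m'.toIdeal) α₀
  unfold GrLC.bassNum
  rw [bassNumLocal_congr α n]
  unfold GrLC.bassNumLocal
  rw [← length_hom_residue_eq m'.toIdeal
    (LocalizedModule m'.toIdeal.primeCompl (LocCoh.H m'.toIdeal n R')) (I'.H m' n) (e4'.trans e5')]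
  have h5 := e1.length_eq
  have h6 := (LinearEquiv.congrRight (M := Localization.AtPrime m'.toIdeal ⧸
    maximalIdeal (Localization.AtPrime m'.toIdeal)) e67'.symm).length_eq
  exact h5.trans h6

end Bass

section Socle

variable {R : Type u} [CommRing R] (𝒜 : ℤ → AddSubgroup R) [GradedRing 𝒜]
  (hpos : ∀ n : ℤ, n < 0 → 𝒜 n = ⊥) (h0 : IsField (GrLC.deg0 𝒜)) (m : HomogeneousIdeal 𝒜)
  (hmsp : m.toIdeal = Ideal.span (⋃ n ∈ Set.Ioi (0 : ℤ), (𝒜 n : Set R)))
  {H : Type u} [AddCommGroup H] [Module R H] (ℋ : ℤ → AddSubgroup H) [Decomposition ℋ]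
  [SetLike.GradedSMul 𝒜 ℋ] (s : ℤ) (htop : ∀ d : ℤ, s < d → ℋ d = ⊥)
  (hess : ∀ d : ℤ, d < s → ∀ x ∈ ℋ d, (∀ u ∈ 𝒜 1, u • x = 0) → x = 0)

include hpos h0 hmsp htop hess in
/-- the length of the socle is the dimension of the top piece -/
theorem length_socle_eq [Module.Finite (GrLC.deg0 𝒜) (GrLC.comp 𝒜 ℋ s)] :
    Module.length R ↥(Submodule.torsionBySet R H (m.toIdeal : Set R)) =
      (Module.finrank (GrLC.deg0 𝒜) (GrLC.comp 𝒜 ℋ s) : ℕ∞) := by
  classical
  have hsoc := mem_socle_iff_mem_top 𝒜 hpos m hmsp ℋ s htop hess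
  have hL1 : Module.length (GrLC.deg0 𝒜)
        ↥(Submodule.torsionBySet R H (m.toIdeal : Set R)) =
      Module.length R ↥(Submodule.torsionBySet R H (m.toIdeal : Set R)) := by
    apply length_eq_of_same_lattice
    · intro r x
      refine ⟨⟨(decompose 𝒜 r 0 : R), (decompose 𝒜 r 0).2⟩, ?_⟩
      apply Subtype.ext
      exact smul_top_eq 𝒜 hpos ℋ s htop ((hsoc x.1).1 x.2) r
    · intro c x
      exact ⟨(c : R), rfl⟩
  let e2 : ↥(Submodule.torsionBySet R H (m.toIdeal : Set R)) ≃ₗ[GrLC.deg0 𝒜]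
      ↥(GrLC.comp 𝒜 ℋ s) :=
    { toFun := fun x => ⟨x.1, (hsoc x.1).1 x.2⟩
      map_add' := fun x y => rfl
      map_smul' := fun c x => rfl
      invFun := fun y => ⟨y.1, (hsoc y.1).2 y.2⟩
      left_inv := fun x => rfl
      right_inv := fun y => rfl }
  letI := h0.toField
  rw [← hL1, e2.length_eq, Module.length_eq_finrank]

end Socle

end Groth.Agent.Helper7.SegDu
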