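import Mathlib
import Groth.Prelude.Def_GrLC
import Groth.Prelude.Def_GrLC2
import Groth.Prelude.Def_CAlg
import Groth.Prelude.Def_Wider
import Groth.Prelude.Def_GrSeg
import Groth.Agent.Helper7.SegDu4
import Groth.Agent.Helper7.SegDu5

/-!
# Segre products and nondegenerate pairings, part 6: the type of a Cohen–Macaulay Segre product of two standard
graded Gorenstein rings of dimensions `≥ 2` (helper7)
-/

set_option autoImplicit false
set_option linter.unusedSectionVars false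
set_option linter.style.haveILetI false

namespace Groth.Agent.Helper7.SegDu

open TensorProduct DirectSum Groth.Agent.Helper7.Kun Groth.Agent.Helper7.VerGor
  Groth.Agent.Helper7.SegDim Groth.Agent.Helper7.GrCM Groth.Agent.Helper7.KunMd

universe u

attribute [local instance] gmodModuleK gmodTowerK

section Ess

variable {k : Type u} [Field k] {R : Type u} [CommRing R] [Algebra k R]
  {𝒜 : ℤ → Submodule k R} [GradedAlgebra 𝒜]
  (hstdR : Ideal.span (⋃ n ∈ Set.Ioi (0 : ℤ), (𝒜 n : Set R)) =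
    Ideal.span ((𝒜 1 : Submodule k R) : Set R))
  {H : Type u} [AddCommGroup H] [Module R H] (ℋ : ℤ → AddSubgroup H)

include hstdR in
/-- over a standard graded ring, a nondegenerate pairing into degree `a` is already detected by `R_1` -/
theorem exists_deg_one_smul_ne_zero (a : ℤ)
    (hN : ∀ d : ℤ, ∀ x ∈ ℋ d, x ≠ 0 → ∃ u ∈ 𝒜 (a - d), u • x ≠ 0) (d : ℤ) (hd : d < a) :
    ∀ x ∈ ℋ d, x ≠ 0 → ∃ u ∈ 𝒜 1, u • x ≠ 0 := by
  intro x hx hx0
  by_contra hcon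
  push Not at hcon
  obtain ⟨r, hr, hrx⟩ := hN d x hx hx0
  apply hrx
  have hstd' : Ideal.span (⋃ n ∈ Set.Ioi (0 : ℤ), (plus 𝒜 n : Set R)) =
      Ideal.span ((plus 𝒜 1 : AddSubgroup R) : Set R) := hstdR
  have hdeg : a - d = (((a - d - 1).toNat : ℕ) : ℤ) + ((1 : ℕ) : ℤ) := by
    rw [Int.toNat_of_nonneg (by omega)]
    push_cast
    ring
  rw [hdeg] at hr
  refine std_kill (plus 𝒜) hstd' 1 _ r hr x (fun u hu => ?_)
  rw [Nat.cast_one] at hu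
  exact hcon u hu

end Ess

section Main

variable {k : Type u} [Field k] {R : Type u} [CommRing R] [Algebra k R]
  {𝒜 : ℤ → Submodule k R} [GradedAlgebra 𝒜]
  (hposR : ∀ n : ℤ, n < 0 → 𝒜 n = ⊥) (h0R : 𝒜 0 = Submodule.span k {(1 : R)})
  [Algebra.FiniteType k R]
  {S : Type u} [CommRing S] [Algebra k S]
  {ℬ : ℤ → Submodule k S} [GradedAlgebra ℬ]
  (hposS : ∀ n : ℤ, n < 0 → ℬ n = ⊥) (h0S : ℬ 0 = Submodule.span k {(1 : S)})
  [Algebra.FiniteType k S]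
  {T : Type u} [CommRing T] [Algebra k T] (𝒯 : ℤ → Submodule k T) [GradedAlgebra 𝒯]
  (ψ : T →ₐ[k] R ⊗[k] S) (hT : GrSeg.IsSegreRing 𝒜 ℬ 𝒯 ψ)
  [hGR : LocCoh.IsGorensteinRing R] [hGS : LocCoh.IsGorensteinRing S]
  (mR : HomogeneousIdeal 𝒜)
  (hmR : mR.toIdeal = Ideal.span (⋃ n ∈ Set.Ioi (0 : ℤ), (𝒜 n : Set R)))
  (hstdR : Ideal.span (⋃ n ∈ Set.Ioi (0 : ℤ), (𝒜 n : Set R)) =
    Ideal.span ((𝒜 1 : Submodule k R) : Set R))
  (mS : HomogeneousIdeal ℬ)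
  (hmS : mS.toIdeal = Ideal.span (⋃ n ∈ Set.Ioi (0 : ℤ), (ℬ n : Set S)))
  (hstdS : Ideal.span (⋃ n ∈ Set.Ioi (0 : ℤ), (ℬ n : Set S)) =
    Ideal.span ((ℬ 1 : Submodule k S) : Set S))
  (I : GrLC.StarInjRes 𝒜 𝒜) (J : GrLC.StarInjRes ℬ ℬ)

include hposR h0R hposS h0S hT hmR hmS hstdR hstdS in
/-- **the type of a Cohen–Macaulay Segre product of standard graded Gorenstein rings of dimensions `≥ 2`** is
`dim R_{a(R) - a(S)}` when `a(R) ≥ a(S)` -/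
theorem type_segre (r s : ℕ) (hr : ringKrullDim R = r) (hs : ringKrullDim S = s)
    (h2r : 2 ≤ r) (h2s : 2 ≤ s) (a b : ℤ)
    (ha : GrLC.endDeg (I.Hgr mR r) = ((a : WithTop ℤ) : WithBot (WithTop ℤ)))
    (hb : GrLC.endDeg (J.Hgr mS s) = ((b : WithTop ℤ) : WithBot (WithTop ℤ))) (hab : b ≤ a)
    [hCM : LocCoh.IsCohenMacaulayRing T] (mT : HomogeneousIdeal 𝒯) [hmaxT : mT.toIdeal.IsMaximal]
    (hmT : mT.toIdeal = Ideal.span (⋃ n ∈ Set.Ioi (0 : ℤ), (𝒯 n : Set T))) :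
    GrLC.bassNum mT.toIdeal T (r + s - 1) = (Module.finrank k (𝒜 (a - b)) : ℕ∞) := by
  classical
  haveI : IsNoetherianRing R := Algebra.FiniteType.isNoetherianRing k R
  haveI : IsNoetherianRing S := Algebra.FiniteType.isNoetherianRing k S
  haveI : Nontrivial R := by
    by_contra hcon
    rw [not_nontrivial_iff_subsingleton] at hcon
    rw [ringKrullDim_eq_bot_of_subsingleton] at hr
    exact WithBot.bot_ne_coe hr
  haveI : Nontrivial S := by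
    by_contra hcon
    rw [not_nontrivial_iff_subsingleton] at hcon
    rw [ringKrullDim_eq_bot_of_subsingleton] at hs
    exact WithBot.bot_ne_coe hs
  haveI : Nontrivial T := nontrivial_segre 𝒯 ψ hT
  haveI : IsNoetherianRing T := noeth_segre 𝒯 ψ hT
  have hposT : ∀ n : ℤ, n < 0 → 𝒯 n = ⊥ :=
    Groth.Agent.Helper7.SegOne.segre_hpos 𝒜 ℬ 𝒯 ψ hT.1 hT.2 hposR
  have h0T : 𝒯 0 = Submodule.span k {(1 : T)} :=
    Groth.Agent.Helper7.SegOne.segre_h0 𝒜 ℬ 𝒯 ψ hT.1 hT.2 h0R h0S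
  haveI : Algebra.FiniteType k T := Groth.Agent.Helper7.SegOne.finiteType_of_noeth 𝒯 hposT h0T
  haveI : SetLike.GradedSMul 𝒯 (plus 𝒯) := gradedSMul_self 𝒯
  have hdimT : ringKrullDim T = ((r + s - 1 : ℕ) : WithBot ℕ∞) :=
    Groth.Agent.S18647.result k R 𝒜 hposR h0R S ℬ hposS h0S T 𝒯 ψ hT.1 hT.2 r s hr hs (by omega)
      (by omega)
  obtain ⟨a', rfl⟩ : ∃ a' : ℕ, r = a' + 2 := ⟨r - 2, by omega⟩
  obtain ⟨b', rfl⟩ : ∃ b' : ℕ, s = b' + 2 := ⟨s - 2, by omega⟩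
  have en : a' + 2 + (b' + 2) - 1 = a' + b' + 2 + 1 := by omega
  rw [en] at hdimT ⊢
  obtain ⟨a₁, haR, hNR, hdR, hvR⟩ := gor_side hposR h0R mR hmR I (a' + 2) hr
  obtain ⟨b₁, haS, hNS, hdS, hvS⟩ := gor_side hposS h0S mS hmS J (b' + 2) hs
  have haa : a₁ = a := by
    rw [haR] at ha
    exact WithTop.coe_injective (WithBot.coe_injective ha)
  have hbb : b₁ = b := by
    rw [haS] at hb
    exact WithTop.coe_injective (WithBot.coe_injective hb)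
  subst haa
  subst hbb
  -- the `T` side
  obtain ⟨IT⟩ := nonempty_starInjRes_self 𝒯
  set n : ℕ := a' + b' + 2 + 1 with hn
  set IT' : GrLC.StarInjRes (plus 𝒯) (plus 𝒯) := resPlus 𝒯 (resSelf 𝒯 IT) with hIT'
  have hposT' : ∀ n : ℤ, n < 0 → plus 𝒯 n = ⊥ := hpos_plus hposT
  have h0T' : IsField (GrLC.deg0 (plus 𝒯)) := deg0_isField h0T
  have hmTsp' : (idealPlus 𝒯 mT).toIdeal =
      Ideal.span (⋃ n ∈ Set.Ioi (0 : ℤ), (plus 𝒯 n : Set T)) := hmT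
  haveI hmaxT' : (idealPlus 𝒯 mT).toIdeal.IsMaximal := hmaxT
  letI decT : Decomposition (IT.Hgr mT n) := (isInternal_HgrS 𝒯 IT mT n).chooseDecomposition
  letI : SetLike.GradedSMul 𝒜 (I.Hgr mR (a' + 1 + 1)) := gradedSMul_HgrS 𝒜 I mR (a' + 1 + 1)
  letI : SetLike.GradedSMul ℬ (J.Hgr mS (b' + 1 + 1)) := gradedSMul_HgrS ℬ J mS (b' + 1 + 1)
  obtain ⟨φ', hφ'⟩ := kunneth_top_module hposR h0R hposS h0S 𝒯 ψ hT mR hmR mS hmS mT hmT I J IT a' b'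
    hr hs
  letI : SetLike.GradedSMul (plus 𝒯) (IT'.Hgr (idealPlus 𝒯 mT) n) :=
    Groth.Agent.Helper7.GrStarLoc.gradedSMul_Hgr (plus 𝒯) IT' (idealPlus 𝒯 mT) n
  letI decT' : Decomposition (IT'.Hgr (idealPlus 𝒯 mT) n) := decT
  have hKun : ∀ e : ℤ, Module.finrank (GrLC.deg0 𝒯) (IT.Hcomp mT n e) =
      Module.finrank (GrLC.deg0 𝒜) (I.Hcomp mR (a' + 2) e) *
        Module.finrank (GrLC.deg0 ℬ) (J.Hcomp mS (b' + 2) e) := by
    intro e
    have h := kunneth_top hposR h0R hposS h0S 𝒯 ψ hT mR hmR mS hmS mT hmT I J IT (a' + 2) (b' + 2)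
      hr hs (by omega) (by omega) e
    rw [en] at h
    exact h
  -- vanishing
  have hvanT : ∀ i : ℕ, i ≠ n → Subsingleton (IT'.H (idealPlus 𝒯 mT) i) := by
    intro i hi
    have hsd : Module.supportDim T T = n := (Module.supportDim_self_eq_ringKrullDim T).trans hdimT
    have hcm := (cmRing_iff_cmModule T).mp hCM
    have h := fun d => Hcomp_eq_bot_of_cm 𝒯 hposT h0T (plus 𝒯) mT hmT (resSelf 𝒯 IT) n hsd hcm i hi d
    exact (subsingleton_H_iff 𝒯 (plus 𝒯) mT (resSelf 𝒯 IT) i).mpr h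
  -- the top degree and essentiality
  have htopS : ∀ d : ℤ, b₁ < d → J.Hgr mS (b' + 2) d = ⊥ :=
    ((Groth.Agent.Helper7.GrAInv.endDeg_eq_coe_iff _ b₁).1 hb).2
  have htopT : ∀ d : ℤ, b₁ < d → IT'.Hgr (idealPlus 𝒯 mT) n d = ⊥ := fun d hd =>
    piece_eq_bot_of_right ψ (I.Hgr mR (a' + 1 + 1)) (J.Hgr mS (b' + 1 + 1)) (IT.Hgr mT n) φ' hφ' d
      (htopS d hd)
  have hessT : ∀ d : ℤ, d < b₁ → ∀ x ∈ IT'.Hgr (idealPlus 𝒯 mT) n d,
      (∀ u ∈ plus 𝒯 1, u • x = 0) → x = 0 := by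
    intro d hd x hx hu
    by_contra hx0
    obtain ⟨t, ht, htx⟩ := smul_ne_zero_segre 𝒜 ℬ 𝒯 ψ hT (I.Hgr mR (a' + 1 + 1))
      (J.Hgr mS (b' + 1 + 1)) (IT.Hgr mT n) φ' hφ' d 1
      (exists_deg_one_smul_ne_zero hstdR (I.Hgr mR (a' + 1 + 1)) a₁ hNR d (by omega))
      (exists_deg_one_smul_ne_zero hstdS (J.Hgr mS (b' + 1 + 1)) b₁ hNS d hd) x hx hx0
    exact htx (hu t ht)
  haveI : Module.Finite (GrLC.deg0 (plus 𝒯)) (GrLC.comp (plus 𝒯) (IT'.Hgr (idealPlus 𝒯 mT) n) b₁) :=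
    finite_Hcomp hposT mT hmT (resSelf 𝒯 IT) b₁ n
  have h1 := bassNum_eq_length_socle (plus 𝒯) (idealPlus 𝒯 mT) n IT' hvanT
  have h2 := length_socle_eq (plus 𝒯) hposT' h0T' (idealPlus 𝒯 mT) hmTsp'
    (IT'.Hgr (idealPlus 𝒯 mT) n) b₁ htopT hessT
  have h3 : Module.finrank (GrLC.deg0 (plus 𝒯))
      (GrLC.comp (plus 𝒯) (IT'.Hgr (idealPlus 𝒯 mT) n) b₁) = Module.finrank k (𝒜 (a₁ - b₁)) := by
    have h4 := hKun b₁
    have h5 := hdR (a₁ - b₁)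
    rw [sub_sub_cancel] at h5
    have h6 := hdS 0
    rw [sub_zero] at h6
    rw [h5, h6, finrank_deg_zero h0S, mul_one] at h4
    exact h4
  rw [h3] at h2
  exact h1.trans h2

end Main

end Groth.Agent.Helper7.SegDu
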