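import Mathlib
import Groth.Prelude.Def_GrLC
import Groth.Agent.Helper7.GrDu6
import Groth.Agent.Helper7.GrStarLoc1
import Groth.Agent.Helper6.GrH

/-!
# Segre products and nondegenerate pairings, part 7: the pieces of the top local cohomology of a standard graded
ring of dimension `≥ 2` over a field have dimension `≥ 2` in every degree below the `a`-invariant (helper7)
-/

set_option autoImplicit false
set_option linter.unusedSectionVars false
set_option linter.style.haveILetI false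

namespace Groth.Agent.Helper7.SegDu

open DirectSum Groth.Agent.Helper6.GrMod Groth.Agent.Helper7.GrDu Groth.Agent.Helper7.GrTopRE

universe u

section Main

variable {R : Type u} [CommRing R] [IsNoetherianRing R] (𝒜 : ℤ → AddSubgroup R) [GradedRing 𝒜]
  (hpos : ∀ n : ℤ, n < 0 → 𝒜 n = ⊥) (h0 : IsField (GrLC.deg0 𝒜))
  (m : HomogeneousIdeal 𝒜)
  (hmsp : m.toIdeal = Ideal.span (⋃ n ∈ Set.Ioi (0 : ℤ), (𝒜 n : Set R)))
  (hstd : Ideal.span (⋃ n ∈ Set.Ioi (0 : ℤ), (𝒜 n : Set R)) =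
    Ideal.span ((𝒜 1 : AddSubgroup R) : Set R))

include hpos h0 hmsp hstd in
/-- **the pieces of the top local cohomology of a standard graded ring of dimension `≥ 2` over a field have
dimension `≥ 2` in every degree below the `a`-invariant** -/
theorem two_le_finrank_Hcomp (n : ℕ) (hn : ringKrullDim R = n) (h2 : 2 ≤ n)
    (I : GrLC.StarInjRes 𝒜 𝒜) (a : ℤ)
    (ha : GrLC.endDeg (I.Hgr m n) = ((a : WithTop ℤ) : WithBot (WithTop ℤ))) (e : ℤ) (he : e < a) :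
    2 ≤ Module.finrank (GrLC.deg0 𝒜) (I.Hcomp m n e) := by
  classical
  letI := h0.toField
  letI : Decomposition (I.Hgr m n) :=
    (Groth.Agent.Helper6.GrH.Hgr_isInternal 𝒜 𝒜 m I n).chooseDecomposition
  letI : SetLike.GradedSMul 𝒜 (I.Hgr m n) := Groth.Agent.Helper7.GrStarLoc.gradedSMul_Hgr 𝒜 I m n
  have hstd' : m.toIdeal = Ideal.span ((𝒜 1 : AddSubgroup R) : Set R) := hmsp.trans hstd
  have hH : I.Hcomp m n (e + 1) ≠ ⊥ :=
    hcomp_ne_bot_of_le 𝒜 m n (by omega) hn hstd' I a ha (e + 1) (by omega)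
  haveI : Module.Finite R (GrLC.GMod.of 𝒜 R 𝒜).carrier := Module.Finite.self R
  haveI hfe : Module.Finite (GrLC.deg0 𝒜) (GrLC.comp 𝒜 (I.Hgr m n) e) :=
    Module.Finite.iff_fg.mpr
      (Groth.Agent.Helper7.GrFinD.finite 𝒜 hpos m hmsp n (GrLC.GMod.of 𝒜 R 𝒜) I e)
  haveI hfe1 : Module.Finite (GrLC.deg0 𝒜) (GrLC.comp 𝒜 (I.Hgr m n) (e + 1)) :=
    Module.Finite.iff_fg.mpr
      (Groth.Agent.Helper7.GrFinD.finite 𝒜 hpos m hmsp n (GrLC.GMod.of 𝒜 R 𝒜) I (e + 1))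
  show 2 ≤ Module.finrank (GrLC.deg0 𝒜) (GrLC.comp 𝒜 (I.Hgr m n) e)
  by_contra hlt
  push Not at hlt
  have hle1 : Module.finrank (GrLC.deg0 𝒜) (GrLC.comp 𝒜 (I.Hgr m n) e) ≤ 1 := by omega
  obtain ⟨w, hw⟩ := finrank_le_one_iff.mp hle1
  -- a nonzero functional on the piece of degree `e + 1`
  obtain ⟨y, hy0⟩ : ∃ y : GrLC.comp 𝒜 (I.Hgr m n) (e + 1), y ≠ 0 := by
    by_contra hcon
    push Not at hcon
    apply hH
    rw [eq_bot_iff]
    intro x hx
    rw [Submodule.mem_bot]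
    exact congrArg Subtype.val (hcon ⟨x, hx⟩)
  obtain ⟨u, hu⟩ := Module.Projective.exists_dual_ne_zero (GrLC.deg0 𝒜) hy0
  let U : I.H m n →ₗ[GrLC.deg0 𝒜] GrLC.deg0 𝒜 := u.comp (projComp 𝒜 (I.Hgr m n) (e + 1))
  have hUy : U (y : I.H m n) ≠ 0 := by
    show u (projComp 𝒜 (I.Hgr m n) (e + 1) (y : I.H m n)) ≠ 0
    rw [projComp_of_mem 𝒜 (I.Hgr m n) y.2]
    exact hu
  have hU0 : ∀ (c : R) (hc : c ∈ 𝒜 0) (x : I.H m n), U (c • x) = (⟨c, hc⟩ : GrLC.deg0 𝒜) * U x := by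
    intro c hc x
    have : c • x = (⟨c, hc⟩ : GrLC.deg0 𝒜) • x := rfl
    rw [this, map_smul, smul_eq_mul]
  -- multiplication by a degree-one element only sees the component of degree `e`
  have hU1 : ∀ (ℓ : R), ℓ ∈ 𝒜 1 → ∀ x : I.H m n, ∃ c : GrLC.deg0 𝒜,
      U (ℓ • x) = c * U (ℓ • (w : I.H m n)) := by
    intro ℓ hℓ x
    obtain ⟨c, hc⟩ := hw ⟨(decompose (I.Hgr m n) x e : I.H m n), (decompose (I.Hgr m n) x e).2⟩
    have hc' : (c : R) • (w : I.H m n) = (decompose (I.Hgr m n) x e : I.H m n) :=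
      congrArg Subtype.val hc
    refine ⟨c, ?_⟩
    have h1 : projComp 𝒜 (I.Hgr m n) (e + 1) (ℓ • x) =
        projComp 𝒜 (I.Hgr m n) (e + 1) (ℓ • ((c : R) • (w : I.H m n))) := by
      apply Subtype.ext
      rw [projComp_coe, projComp_coe, add_comm e 1, decompose_smul_homog 𝒜 (I.Hgr m n) hℓ,
        decompose_smul_homog 𝒜 (I.Hgr m n) hℓ, hc', decompose_coe, DirectSum.of_eq_same]
    have h2 : ℓ • ((c : R) • (w : I.H m n)) = (c : R) • (ℓ • (w : I.H m n)) := smul_comm _ _ _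
    show u (projComp 𝒜 (I.Hgr m n) (e + 1) (ℓ • x)) = _
    rw [h1, h2]
    exact hU0 (c : R) c.2 _
  -- a single element spans the degree-one piece modulo the elements killing `w` under `U`
  let W : Set R := {ℓ | ℓ ∈ 𝒜 1 ∧ U (ℓ • (w : I.H m n)) = 0}
  obtain ⟨ℓ0, hℓ0, hspan⟩ : ∃ ℓ0 ∈ 𝒜 1, ∀ ℓ ∈ 𝒜 1, ∃ c ∈ 𝒜 0, ℓ - c * ℓ0 ∈ Ideal.span W := by
    by_cases hall : ∀ ℓ ∈ 𝒜 1, U (ℓ • (w : I.H m n)) = 0
    · refine ⟨0, zero_mem _, fun ℓ hℓ => ⟨0, zero_mem _, ?_⟩⟩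
      rw [zero_mul, sub_zero]
      exact Ideal.subset_span ⟨hℓ, hall ℓ hℓ⟩
    · push Not at hall
      obtain ⟨ℓ0, hℓ0, hne⟩ := hall
      refine ⟨ℓ0, hℓ0, fun ℓ hℓ => ?_⟩
      set c : GrLC.deg0 𝒜 := U (ℓ • (w : I.H m n)) * (U (ℓ0 • (w : I.H m n)))⁻¹ with hc
      refine ⟨(c : R), c.2, Ideal.subset_span ⟨?_, ?_⟩⟩
      · apply sub_mem hℓ
        have := SetLike.GradedMul.mul_mem (A := 𝒜) c.2 hℓ0
        rwa [zero_add] at this
      · rw [sub_smul, map_sub, mul_smul, hU0 (c : R) c.2, hc, mul_assoc, inv_mul_cancel₀ hne,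
          mul_one, sub_self]
  have hdim1 := ringKrullDim_quot_le_one 𝒜 hpos hstd h0 (Ideal.span W) ℓ0 hspan
  have hfg : (Ideal.span W).FG := (isNoetherianRing_iff_ideal_fg R).mp inferInstance _
  obtain ⟨s, hs, hss⟩ := (Submodule.fg_span_iff_fg_span_finset_subset _).mp hfg
  have hes : {x : R | x ∈ s.toList} = (s : Set R) := by
    ext x
    simp
  have hss' : Ideal.span (s : Set R) = Ideal.span W := hss.symm
  have hlt' : ringKrullDim (R ⧸ Ideal.span {x : R | x ∈ s.toList}) < (n : WithBot ℕ∞) := by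
    rw [hes, hss']
    refine lt_of_le_of_lt hdim1 ?_
    have : ((1 : ℕ) : WithBot ℕ∞) < (n : WithBot ℕ∞) := by
      exact_mod_cast (by omega : 1 < n)
    exact_mod_cast this
  have hvan := topVan_of_dim 𝒜 m n hn
  have hgen := top_gen 𝒜 m n hvan (Ideal.span {x : R | x ∈ s.toList}) hlt' s.toList
    (fun x hx => ⟨1, (hs (Finset.mem_toList.mp hx)).1⟩) (GrLC.GMod.of 𝒜 R 𝒜) le_rfl I
  rw [hes, hss'] at hgen
  -- `U` kills `(W) H`
  have hkey : ∀ b ∈ Ideal.span W, ∀ x : I.H m n, U (b • x) = 0 := by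
    intro b hb
    induction hb using Submodule.span_induction with
    | mem b hb =>
      intro x
      obtain ⟨c, hc⟩ := hU1 b hb.1 x
      rw [hc, hb.2, mul_zero]
    | zero => intro x; rw [zero_smul, map_zero]
    | add b b' _ _ hb hb' => intro x; rw [add_smul, map_add, hb x, hb' x, add_zero]
    | smul r b _ hb =>
      intro x
      rw [smul_eq_mul, mul_comm, mul_smul]
      exact hb (r • x)
  have hkill : ∀ x ∈ Ideal.span W • (⊤ : Submodule R (I.H m n)), U x = 0 := by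
    intro x hx
    induction hx using Submodule.smul_induction_on' with
    | smul b hb x _ => exact hkey b hb x
    | add x _ x' _ h h' => rw [map_add, h, h', add_zero]
  exact hUy (hkill _ (hgen trivial))

end Main

end Groth.Agent.Helper7.SegDu
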