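import Mathlib
import Groth.Prelude.Def_GrLC
import Groth.Prelude.Def_GrSeg
import Groth.Agent.Helper7.SegDu1
import Groth.Agent.Helper7.SegDu2

/-!
# Segre products and nondegenerate pairings, part 8: nondegeneracy descends from a Segre product to its factors;
a dimension bound from nondegeneracy (helper7)
-/

set_option autoImplicit false
set_option linter.unusedSectionVars false
set_option linter.style.haveILetI false

namespace Groth.Agent.Helper7.SegDu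

open TensorProduct DirectSum Groth.Agent.Helper7.VerGor

universe u

section LA

variable {k M N : Type*} [Field k] [AddCommGroup M] [Module k M] [AddCommGroup N] [Module k N]

theorem tmul_ne_zero_of_ne_zero {x : M} {y : N} (hx : x ≠ 0) (hy : y ≠ 0) : x ⊗ₜ[k] y ≠ 0 := by
  obtain ⟨g, hg⟩ := Module.Projective.exists_dual_ne_zero k hy
  intro h
  have h1 : sliceR (g : N →ₗ[k] k) (x ⊗ₜ[k] y) = 0 := by rw [h, map_zero]
  rw [sliceR_tmul] at h1
  rcases smul_eq_zero.mp h1 with h2 | h2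
  · exact hg h2
  · exact hx h2

end LA

section Down

variable {k : Type u} [Field k] {R S T : Type u} [CommRing R] [Algebra k R] [CommRing S] [Algebra k S]
  [CommRing T] [Algebra k T]
  (𝒜 : ℤ → Submodule k R) [GradedAlgebra 𝒜] (ℬ : ℤ → Submodule k S) [GradedAlgebra ℬ]
  (𝒯 : ℤ → Submodule k T) [GradedAlgebra 𝒯] (ψ : T →ₐ[k] R ⊗[k] S)
  (hT : GrSeg.IsSegreRing 𝒜 ℬ 𝒯 ψ)
  {M : Type u} [AddCommGroup M] [Module R M] [Module k M] [IsScalarTower k R M]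
  (ℳ : ℤ → AddSubgroup M)
  {N : Type u} [AddCommGroup N] [Module S N] [Module k N] [IsScalarTower k S N]
  (𝒩 : ℤ → AddSubgroup N)
  {P : Type u} [AddCommGroup P] [Module T P] [Module k P] [IsScalarTower k T P]
  (𝒬 : ℤ → AddSubgroup P) [DirectSum.Decomposition 𝒬]
  (φ : P →ₗ[k] M ⊗[k] N) (hP : GrSeg.IsSegreMod ψ ℳ 𝒩 𝒬 φ)

include hT hP in
/-- if `T_e` kills no nonzero element of `(M # N)_d`, then for nonzero `x ∈ M_d`, `y ∈ N_d` there are
`u ∈ R_e`, `v ∈ S_e` with `u x ≠ 0`, `v y ≠ 0` -/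
theorem smul_ne_zero_of_segre (d e : ℤ)
    (hQ : ∀ p ∈ 𝒬 d, p ≠ 0 → ∃ t ∈ 𝒯 e, t • p ≠ 0)
    {x : M} (hx : x ∈ ℳ d) (hx0 : x ≠ 0) {y : N} (hy : y ∈ 𝒩 d) (hy0 : y ≠ 0) :
    ∃ u ∈ 𝒜 e, ∃ v ∈ ℬ e, u • x ≠ 0 ∧ v • y ≠ 0 := by
  have hxy : x ⊗ₜ[k] y ∈ (GrSeg.segrePiece k ℳ 𝒩 d : Set (M ⊗[k] N)) :=
    Submodule.subset_span ⟨x, hx, y, hy, rfl⟩
  rw [← hP.image_piece d] at hxy
  obtain ⟨p, hp, hpe⟩ := hxy
  have hp0 : p ≠ 0 := by
    intro h
    rw [h, map_zero] at hpe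
    exact tmul_ne_zero_of_ne_zero hx0 hy0 hpe.symm
  obtain ⟨t, ht, htp⟩ := hQ p hp hp0
  have h1 : GrSeg.act k R S M N (ψ t) (x ⊗ₜ[k] y) ≠ 0 := by
    rw [← hpe, ← hP.map_smul]
    intro h
    exact htp (hP.injective (h.trans (map_zero φ).symm))
  have h2 : ψ t ∈ GrSeg.segrePiece k 𝒜 ℬ e := by
    rw [← hT.2 e]
    exact ⟨t, ht, rfl⟩
  by_contra hcon
  push Not at hcon
  apply h1
  have hall : ∀ τ ∈ GrSeg.segrePiece k 𝒜 ℬ e, GrSeg.act k R S M N τ (x ⊗ₜ[k] y) = 0 := by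
    intro τ hτ
    induction hτ using Submodule.span_induction with
    | mem τ hτ =>
      obtain ⟨u, hu, v, hv, rfl⟩ := hτ
      rw [GrSeg.act_tmul]
      by_cases hux : u • x = 0
      · rw [hux, zero_tmul]
      · rw [hcon u hu v hv hux, tmul_zero]
    | zero => rw [map_zero, LinearMap.zero_apply]
    | add τ τ' _ _ h h' => rw [map_add, LinearMap.add_apply, h, h', add_zero]
    | smul c τ _ h => rw [map_smul, LinearMap.smul_apply, h, smul_zero]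
  exact hall _ h2

end Down

section Bound

variable {R : Type u} [CommRing R] (𝒜 : ℤ → AddSubgroup R) [GradedRing 𝒜]
  {H : Type u} [AddCommGroup H] [Module R H] (ℋ : ℤ → AddSubgroup H) [Decomposition ℋ]
  [SetLike.GradedSMul 𝒜 ℋ] (t : ℤ)

/-- nondegeneracy bounds the dimensions of the pieces -/
theorem finrank_le_of_nDeg (h0 : IsField (GrLC.deg0 𝒜)) (hN : NDeg 𝒜 ℋ t) (j : ℤ)
    [Module.Finite (GrLC.deg0 𝒜) (GrLC.comp 𝒜 𝒜 j)]
    [Module.Finite (GrLC.deg0 𝒜) (GrLC.comp 𝒜 ℋ t)] :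
    Module.finrank (GrLC.deg0 𝒜) (GrLC.comp 𝒜 ℋ (t - j)) ≤
      Module.finrank (GrLC.deg0 𝒜) (GrLC.comp 𝒜 𝒜 j) *
        Module.finrank (GrLC.deg0 𝒜) (GrLC.comp 𝒜 ℋ t) := by
  letI := h0.toField
  have hinj := mulTop_injective 𝒜 ℋ t hN j
  have h1 := Module.finrank_linearMap (GrLC.deg0 𝒜) (GrLC.deg0 𝒜) (GrLC.comp 𝒜 𝒜 j)
    (GrLC.comp 𝒜 ℋ t)
  rw [← h1]
  exact LinearMap.finrank_le_finrank_of_injective hinj

end Bound

end Groth.Agent.Helper7.SegDu
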