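import Mathlib
import Groth.Prelude.Def_GrLC
import Groth.Prelude.Def_CAlg
import Groth.Prelude.Def_Wider
import Groth.Prelude.Def_GrSeg
import Groth.Agent.Helper7.SegDu6
import Groth.Agent.Helper7.SegDu7
import Groth.Agent.Helper7.SegDu8
import Groth.Agent.Helper7.KunAI

/-!
# Segre products and nondegenerate pairings, part 9: facts on the top local cohomology of a standard graded ring, in the
language of gradings by `k`-subspaces (helper7)
-/

set_option autoImplicit false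
set_option linter.unusedSectionVars false
set_option linter.style.haveILetI false

namespace Groth.Agent.Helper7.SegDu

open TensorProduct DirectSum Groth.Agent.Helper7.Kun Groth.Agent.Helper7.VerGor

universe u

section Std

variable {k : Type u} [Field k] {R : Type u} [CommRing R] [Algebra k R]
  {𝒜 : ℤ → Submodule k R} [GradedAlgebra 𝒜]
  (hposR : ∀ n : ℤ, n < 0 → 𝒜 n = ⊥) (h0R : 𝒜 0 = Submodule.span k {(1 : R)})
  [Algebra.FiniteType k R]
  (mR : HomogeneousIdeal 𝒜)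
  (hmR : mR.toIdeal = Ideal.span (⋃ n ∈ Set.Ioi (0 : ℤ), (𝒜 n : Set R)))
  (hstdR : Ideal.span (⋃ n ∈ Set.Ioi (0 : ℤ), (𝒜 n : Set R)) =
    Ideal.span ((𝒜 1 : Submodule k R) : Set R))
  (I : GrLC.StarInjRes 𝒜 𝒜) (r : ℕ) (hr : ringKrullDim R = r)

include hposR hmR hr in
/-- a nonzero graded local cohomology module of the ring has an integral end -/
theorem exists_ainv_of_ne_bot (i : ℕ) (hne : ∃ d : ℤ, I.Hgr mR i d ≠ ⊥) : ∃ a : ℤ,
    GrLC.endDeg (I.Hgr mR i) = ((a : WithTop ℤ) : WithBot (WithTop ℤ)) := by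
  haveI : IsNoetherianRing R := Algebra.FiniteType.isNoetherianRing k R
  haveI : Nontrivial R := by
    by_contra hcon
    rw [not_nontrivial_iff_subsingleton] at hcon
    rw [ringKrullDim_eq_bot_of_subsingleton] at hr
    exact WithBot.bot_ne_coe hr
  haveI : SetLike.GradedSMul 𝒜 (plus 𝒜) := gradedSMul_self 𝒜
  have hpos' : ∀ n : ℤ, n < 0 → plus 𝒜 n = ⊥ := hpos_plus hposR
  have hmsp' : (idealPlus 𝒜 mR).toIdeal =
      Ideal.span (⋃ n ∈ Set.Ioi (0 : ℤ), (plus 𝒜 n : Set R)) := hmR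
  apply Groth.Agent.Helper7.VerUp.exists_endDeg_of_bound _ _ hne
  haveI : Module.Finite R (GrLC.GMod.of (plus 𝒜) R (plus 𝒜)).carrier :=
    (inferInstance : Module.Finite R R)
  let I' : GrLC.StarInjRes (plus 𝒜) (plus 𝒜) := resPlus 𝒜 (resSelf 𝒜 I)
  exact Groth.Agent.Helper7.GrFinD.vanish (plus 𝒜) hpos' (idealPlus 𝒜 mR) hmsp' i
    (GrLC.GMod.of (plus 𝒜) R (plus 𝒜)) I'

include hmR hstdR hr in
/-- for a standard graded ring the top local cohomology is nonzero in every degree below the `a`-invariant -/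
theorem hgr_ne_bot_of_le (h1 : 1 ≤ r) (a : ℤ)
    (ha : GrLC.endDeg (I.Hgr mR r) = ((a : WithTop ℤ) : WithBot (WithTop ℤ))) (d : ℤ) (hd : d ≤ a) :
    I.Hgr mR r d ≠ ⊥ := by
  haveI : IsNoetherianRing R := Algebra.FiniteType.isNoetherianRing k R
  haveI : SetLike.GradedSMul 𝒜 (plus 𝒜) := gradedSMul_self 𝒜
  have hstd' : (idealPlus 𝒜 mR).toIdeal = Ideal.span ((plus 𝒜 1 : AddSubgroup R) : Set R) :=
    hmR.trans hstdR
  have h := Groth.Agent.Helper7.GrTopRE.hcomp_ne_bot_of_le (plus 𝒜) (idealPlus 𝒜 mR) r h1 hr hstd'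
    (resPlus 𝒜 (resSelf 𝒜 I)) a ha d hd
  intro hbot
  exact h ((hgr_eq_bot_iff_hcomp 𝒜 mR I r d).mp hbot)

include hposR h0R hmR hstdR hr in
/-- for a standard graded ring of dimension `≥ 2` the pieces of the top local cohomology have dimension `≥ 2` in
every degree below the `a`-invariant -/
theorem two_le_finrank_HcompS (h2 : 2 ≤ r) (a : ℤ)
    (ha : GrLC.endDeg (I.Hgr mR r) = ((a : WithTop ℤ) : WithBot (WithTop ℤ))) (e : ℤ) (he : e < a) :
    2 ≤ Module.finrank (GrLC.deg0 𝒜) (I.Hcomp mR r e) := by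
  haveI : IsNoetherianRing R := Algebra.FiniteType.isNoetherianRing k R
  haveI : Nontrivial R := by
    by_contra hcon
    rw [not_nontrivial_iff_subsingleton] at hcon
    rw [ringKrullDim_eq_bot_of_subsingleton] at hr
    exact WithBot.bot_ne_coe hr
  haveI : SetLike.GradedSMul 𝒜 (plus 𝒜) := gradedSMul_self 𝒜
  have hpos' : ∀ n : ℤ, n < 0 → plus 𝒜 n = ⊥ := hpos_plus hposR
  have h0' : IsField (GrLC.deg0 (plus 𝒜)) := deg0_isField h0R
  have hmsp' : (idealPlus 𝒜 mR).toIdeal =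
      Ideal.span (⋃ n ∈ Set.Ioi (0 : ℤ), (plus 𝒜 n : Set R)) := hmR
  have hstd' : Ideal.span (⋃ n ∈ Set.Ioi (0 : ℤ), (plus 𝒜 n : Set R)) =
      Ideal.span ((plus 𝒜 1 : AddSubgroup R) : Set R) := hstdR
  exact two_le_finrank_Hcomp (plus 𝒜) hpos' h0' (idealPlus 𝒜 mR) hmsp' hstd' r hr h2
    (resPlus 𝒜 (resSelf 𝒜 I)) a ha e he

end Std

end Groth.Agent.Helper7.SegDu
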