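import Mathlib
import Groth.Prelude.Def_GrLC
import Groth.Prelude.Def_CAlg
import Groth.Prelude.Def_Wider
import Groth.Prelude.Def_GrSeg
import Groth.Agent.Helper7.SegDu9
import Groth.Agent.Helper6.Bass4

/-!
# Segre products and nondegenerate pairings, part 10: if the Segre product of two standard graded Cohen–Macaulay
rings of dimensions `≥ 2` is Gorenstein, the first factor is Gorenstein and the `a`-invariants agree and are negative
(helper7)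
-/

set_option autoImplicit false
set_option linter.unusedSectionVars false
set_option linter.style.haveILetI false

namespace Groth.Agent.Helper7.SegDu

open TensorProduct DirectSum Groth.Agent.Helper7.Kun Groth.Agent.Helper7.VerGor
  Groth.Agent.Helper7.SegDim Groth.Agent.Helper7.GrCM Groth.Agent.Helper7.KunMd

universe u

attribute [local instance] gmodModuleK gmodTowerK

section Main

variable {k : Type u} [Field k] {R : Type u} [CommRing R] [Algebra k R]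
  {𝒜 : ℤ → Submodule k R} [GradedAlgebra 𝒜]
  (hposR : ∀ n : ℤ, n < 0 → 𝒜 n = ⊥) (h0R : 𝒜 0 = Submodule.span k {(1 : R)})
  [Algebra.FiniteType k R]
  {S : Type u} [CommRing S] [Algebra k S]
  {ℬ : ℤ → Submodule k S} [GradedAlgebra ℬ]
  (hposS : ∀ n : ℤ, n < 0 → ℬ n = ⊥) (h0S : ℬ 0 = Submodule.span k {(1 : S)})
  [Algebra.FiniteType k S]
  {T : Type u} [CommRing T] [Algebra k T] (𝒯 : ℤ → Submodule k T) [GradedAlgebra 𝒯]
  (ψ : T →ₐ[k] R ⊗[k] S) (hT : GrSeg.IsSegreRing 𝒜 ℬ 𝒯 ψ)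
  [hCR : LocCoh.IsCohenMacaulayRing R] [hCS : LocCoh.IsCohenMacaulayRing S]
  (mR : HomogeneousIdeal 𝒜)
  (hmR : mR.toIdeal = Ideal.span (⋃ n ∈ Set.Ioi (0 : ℤ), (𝒜 n : Set R)))
  (hstdR : Ideal.span (⋃ n ∈ Set.Ioi (0 : ℤ), (𝒜 n : Set R)) =
    Ideal.span ((𝒜 1 : Submodule k R) : Set R))
  (mS : HomogeneousIdeal ℬ)
  (hmS : mS.toIdeal = Ideal.span (⋃ n ∈ Set.Ioi (0 : ℤ), (ℬ n : Set S)))
  (hstdS : Ideal.span (⋃ n ∈ Set.Ioi (0 : ℤ), (ℬ n : Set S)) =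
    Ideal.span ((ℬ 1 : Submodule k S) : Set S))
  (I : GrLC.StarInjRes 𝒜 𝒜) (J : GrLC.StarInjRes ℬ ℬ)

include hposR h0R hposS h0S hT hmR hmS hstdR hstdS in
/-- **if the Segre product of two standard graded Cohen–Macaulay rings of dimensions `≥ 2` is Gorenstein, then the
first factor is Gorenstein and the `a`-invariants agree and are negative** -/
theorem gor_of_gor_segre (r s : ℕ) (hr : ringKrullDim R = r) (hs : ringKrullDim S = s)
    (h2r : 2 ≤ r) (h2s : 2 ≤ s) [hGT : LocCoh.IsGorensteinRing T] :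
    LocCoh.IsGorensteinRing R ∧ GrLC.endDeg (I.Hgr mR r) = GrLC.endDeg (J.Hgr mS s) ∧
      GrLC.endDeg (I.Hgr mR r) < 0 := by
  classical
  haveI : IsNoetherianRing R := Algebra.FiniteType.isNoetherianRing k R
  haveI : IsNoetherianRing S := Algebra.FiniteType.isNoetherianRing k S
  haveI : Nontrivial R := by
    by_contra hcon
    rw [not_nontrivial_iff_subsingleton] at hcon
    rw [ringKrullDim_eq_bot_of_subsingleton] at hr
    exact WithBot.bot_ne_coe hr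
  haveI : Nontrivial S := by
    by_contra hcon
    rw [not_nontrivial_iff_subsingleton] at hcon
    rw [ringKrullDim_eq_bot_of_subsingleton] at hs
    exact WithBot.bot_ne_coe hs
  haveI : Nontrivial T := nontrivial_segre 𝒯 ψ hT
  haveI : IsNoetherianRing T := noeth_segre 𝒯 ψ hT
  have hposT : ∀ n : ℤ, n < 0 → 𝒯 n = ⊥ :=
    Groth.Agent.Helper7.SegOne.segre_hpos 𝒜 ℬ 𝒯 ψ hT.1 hT.2 hposR
  have h0T : 𝒯 0 = Submodule.span k {(1 : T)} :=
    Groth.Agent.Helper7.SegOne.segre_h0 𝒜 ℬ 𝒯 ψ hT.1 hT.2 h0R h0S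
  haveI : Algebra.FiniteType k T := Groth.Agent.Helper7.SegOne.finiteType_of_noeth 𝒯 hposT h0T
  haveI : SetLike.GradedSMul 𝒜 (plus 𝒜) := gradedSMul_self 𝒜
  haveI : SetLike.GradedSMul ℬ (plus ℬ) := gradedSMul_self ℬ
  haveI : SetLike.GradedSMul 𝒯 (plus 𝒯) := gradedSMul_self 𝒯
  haveI hCMT : LocCoh.IsCohenMacaulayRing T := ⟨fun p hp => by
    haveI := hGT.isGorensteinLocalRing_localization p
    exact Groth.Agent.Helper6.Bass.cm_of_gorenstein⟩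
  have hneg := (cm_segre_ring_iff_ainv hposR h0R hposS h0S 𝒯 ψ hT mR hmR hstdR mS hmS hstdS I J r s
    hr hs h2r h2s).mp hCMT
  have hdimT : ringKrullDim T = ((r + s - 1 : ℕ) : WithBot ℕ∞) :=
    Groth.Agent.S18647.result k R 𝒜 hposR h0R S ℬ hposS h0S T 𝒯 ψ hT.1 hT.2 r s hr hs (by omega)
      (by omega)
  obtain ⟨a', rfl⟩ : ∃ a' : ℕ, r = a' + 2 := ⟨r - 2, by omega⟩
  obtain ⟨b', rfl⟩ : ∃ b' : ℕ, s = b' + 2 := ⟨s - 2, by omega⟩
  have en : a' + 2 + (b' + 2) - 1 = a' + b' + 2 + 1 := by omega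
  rw [en] at hdimT
  -- the `T` side
  let mT : HomogeneousIdeal 𝒯 := ⟨irr 𝒯, irr_isHomogeneous 𝒯⟩
  have hmT : mT.toIdeal = Ideal.span (⋃ n ∈ Set.Ioi (0 : ℤ), (𝒯 n : Set T)) := irr_eq_span 𝒯
  obtain ⟨IT⟩ := nonempty_starInjRes_self 𝒯
  set n : ℕ := a' + b' + 2 + 1 with hn
  obtain ⟨aT, haT, hNT, hdT, -⟩ := gor_side hposT h0T mT hmT IT n hdimT
  letI decT : Decomposition (IT.Hgr mT n) := (isInternal_HgrS 𝒯 IT mT n).chooseDecomposition
  letI gsR : SetLike.GradedSMul 𝒜 (I.Hgr mR (a' + 1 + 1)) := gradedSMul_HgrS 𝒜 I mR (a' + 1 + 1)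
  letI gsS : SetLike.GradedSMul ℬ (J.Hgr mS (b' + 1 + 1)) := gradedSMul_HgrS ℬ J mS (b' + 1 + 1)
  obtain ⟨φ', hφ'⟩ := kunneth_top_module hposR h0R hposS h0S 𝒯 ψ hT mR hmR mS hmS mT hmT I J IT a' b'
    hr hs
  have hKun : ∀ e : ℤ, Module.finrank (GrLC.deg0 𝒯) (IT.Hcomp mT n e) =
      Module.finrank (GrLC.deg0 𝒜) (I.Hcomp mR (a' + 2) e) *
        Module.finrank (GrLC.deg0 ℬ) (J.Hcomp mS (b' + 2) e) := by
    intro e
    have h := kunneth_top hposR h0R hposS h0S 𝒯 ψ hT mR hmR mS hmS mT hmT I J IT (a' + 2) (b' + 2)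
      hr hs (by omega) (by omega) e
    rw [en] at h
    exact h
  -- the top piece
  have htop1 : Module.finrank (GrLC.deg0 𝒯) (IT.Hcomp mT n aT) = 1 := by
    have h := hdT 0
    rw [sub_zero] at h
    rw [h, finrank_segre_piece 𝒯 ψ hT 0, finrank_deg_zero h0R, finrank_deg_zero h0S]
  have h11 := hKun aT
  rw [htop1] at h11
  obtain ⟨hxR, hxS⟩ := mul_eq_one.mp h11.symm
  have hneR : I.Hgr mR (a' + 2) aT ≠ ⊥ := by
    intro h
    rw [(hgr_eq_bot_iff_hcomp 𝒜 mR I (a' + 2) aT).mp h, finrank_bot] at hxR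
    omega
  have hneS : J.Hgr mS (b' + 2) aT ≠ ⊥ := by
    intro h
    rw [(hgr_eq_bot_iff_hcomp ℬ mS J (b' + 2) aT).mp h, finrank_bot] at hxS
    omega
  obtain ⟨a, ha⟩ := exists_ainv_of_ne_bot hposR mR hmR I (a' + 2) hr (a' + 2) ⟨aT, hneR⟩
  obtain ⟨b, hb⟩ := exists_ainv_of_ne_bot hposS mS hmS J (b' + 2) hs (b' + 2) ⟨aT, hneS⟩
  have haa : a = aT := by
    have h1 := Groth.Agent.Helper7.GrAInv.le_endDeg (I.Hgr mR (a' + 2)) hneR
    rw [ha, WithBot.coe_le_coe, WithTop.coe_le_coe] at h1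
    by_contra hne
    have hlt : aT < a := lt_of_le_of_ne h1 (Ne.symm hne)
    have := two_le_finrank_HcompS hposR h0R mR hmR hstdR I (a' + 2) hr (by omega) a ha aT hlt
    omega
  have hbb : b = aT := by
    have h1 := Groth.Agent.Helper7.GrAInv.le_endDeg (J.Hgr mS (b' + 2)) hneS
    rw [hb, WithBot.coe_le_coe, WithTop.coe_le_coe] at h1
    by_contra hne
    have hlt : aT < b := lt_of_le_of_ne h1 (Ne.symm hne)
    have := two_le_finrank_HcompS hposS h0S mS hmS hstdS J (b' + 2) hs (by omega) b hb aT hlt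
    omega
  rw [haa] at ha
  rw [hbb] at hb
  refine ⟨?_, by rw [ha, hb], hneg.1⟩
  -- nondegeneracy for `R` and `S`
  have htopR : ∀ d : ℤ, aT < d → I.Hgr mR (a' + 2) d = ⊥ :=
    ((Groth.Agent.Helper7.GrAInv.endDeg_eq_coe_iff _ aT).1 ha).2
  have htopS : ∀ d : ℤ, aT < d → J.Hgr mS (b' + 2) d = ⊥ :=
    ((Groth.Agent.Helper7.GrAInv.endDeg_eq_coe_iff _ aT).1 hb).2
  have hexR : ∀ d : ℤ, d ≤ aT → ∃ x ∈ I.Hgr mR (a' + 2) d, x ≠ 0 := by
    intro d hd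
    by_contra hcon
    push Not at hcon
    apply hgr_ne_bot_of_le mR hmR hstdR I (a' + 2) hr (by omega) aT ha d hd
    rw [eq_bot_iff]
    intro y hy
    exact AddSubgroup.mem_bot.mpr (hcon y hy)
  have hexS : ∀ d : ℤ, d ≤ aT → ∃ y ∈ J.Hgr mS (b' + 2) d, y ≠ 0 := by
    intro d hd
    by_contra hcon
    push Not at hcon
    apply hgr_ne_bot_of_le mS hmS hstdS J (b' + 2) hs (by omega) aT hb d hd
    rw [eq_bot_iff]
    intro y hy
    exact AddSubgroup.mem_bot.mpr (hcon y hy)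
  have hNR : ∀ d : ℤ, ∀ x ∈ I.Hgr mR (a' + 2) d, x ≠ 0 → ∃ u ∈ 𝒜 (aT - d), u • x ≠ 0 := by
    intro d x hx hx0
    have hd : d ≤ aT := by
      by_contra hcon
      push Not at hcon
      rw [htopR d hcon] at hx
      exact hx0 (AddSubgroup.mem_bot.mp hx)
    obtain ⟨y, hy, hy0⟩ := hexS d hd
    obtain ⟨u, hu, v, hv, hux, -⟩ := smul_ne_zero_of_segre 𝒜 ℬ 𝒯 ψ hT (I.Hgr mR (a' + 1 + 1))
      (J.Hgr mS (b' + 1 + 1)) (IT.Hgr mT n) φ' hφ' d (aT - d) (hNT d) hx hx0 hy hy0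
    exact ⟨u, hu, hux⟩
  have hNS : ∀ d : ℤ, ∀ y ∈ J.Hgr mS (b' + 2) d, y ≠ 0 → ∃ v ∈ ℬ (aT - d), v • y ≠ 0 := by
    intro d y hy hy0
    have hd : d ≤ aT := by
      by_contra hcon
      push Not at hcon
      rw [htopS d hcon] at hy
      exact hy0 (AddSubgroup.mem_bot.mp hy)
    obtain ⟨x, hx, hx0⟩ := hexR d hd
    obtain ⟨u, hu, v, hv, -, hvy⟩ := smul_ne_zero_of_segre 𝒜 ℬ 𝒯 ψ hT (I.Hgr mR (a' + 1 + 1))
      (J.Hgr mS (b' + 1 + 1)) (IT.Hgr mT n) φ' hφ' d (aT - d) (hNT d) hx hx0 hy hy0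
    exact ⟨v, hv, hvy⟩
  -- the retyped data
  set I' : GrLC.StarInjRes (plus 𝒜) (plus 𝒜) := resPlus 𝒜 (resSelf 𝒜 I) with hI'
  set J' : GrLC.StarInjRes (plus ℬ) (plus ℬ) := resPlus ℬ (resSelf ℬ J) with hJ'
  have hposR' : ∀ n : ℤ, n < 0 → plus 𝒜 n = ⊥ := hpos_plus hposR
  have h0R' : IsField (GrLC.deg0 (plus 𝒜)) := deg0_isField h0R
  have hmR' : GrLC.IsStarLocal (plus 𝒜) (idealPlus 𝒜 mR) := isStarLocal_idealPlus 𝒜 hposR h0R mR hmR
  have hmRsp' : (idealPlus 𝒜 mR).toIdeal =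
      Ideal.span (⋃ n ∈ Set.Ioi (0 : ℤ), (plus 𝒜 n : Set R)) := hmR
  have h0S' : IsField (GrLC.deg0 (plus ℬ)) := deg0_isField h0S
  letI : Decomposition (I'.Hgr (idealPlus 𝒜 mR) (a' + 2)) :=
    (Groth.Agent.Helper6.GrH.Hgr_isInternal (plus 𝒜) (plus 𝒜) (idealPlus 𝒜 mR) I'
      (a' + 2)).chooseDecomposition
  letI : SetLike.GradedSMul (plus 𝒜) (I'.Hgr (idealPlus 𝒜 mR) (a' + 2)) :=
    Groth.Agent.Helper7.GrStarLoc.gradedSMul_Hgr (plus 𝒜) I' (idealPlus 𝒜 mR) (a' + 2)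
  letI : Decomposition (J'.Hgr (idealPlus ℬ mS) (b' + 2)) :=
    (Groth.Agent.Helper6.GrH.Hgr_isInternal (plus ℬ) (plus ℬ) (idealPlus ℬ mS) J'
      (b' + 2)).chooseDecomposition
  letI : SetLike.GradedSMul (plus ℬ) (J'.Hgr (idealPlus ℬ mS) (b' + 2)) :=
    Groth.Agent.Helper7.GrStarLoc.gradedSMul_Hgr (plus ℬ) J' (idealPlus ℬ mS) (b' + 2)
  have hNR' : NDeg (plus 𝒜) (I'.Hgr (idealPlus 𝒜 mR) (a' + 2)) aT := hNR
  have hNS' : NDeg (plus ℬ) (J'.Hgr (idealPlus ℬ mS) (b' + 2)) aT := hNS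
  have hfA : ∀ j : ℤ, Module.Finite (GrLC.deg0 (plus 𝒜)) (GrLC.comp (plus 𝒜) (plus 𝒜) j) :=
    fun j => Module.Finite.iff_fg.mpr (comp_fg (plus 𝒜) (plus 𝒜) j)
  have hfB : ∀ j : ℤ, Module.Finite (GrLC.deg0 (plus ℬ)) (GrLC.comp (plus ℬ) (plus ℬ) j) :=
    fun j => Module.Finite.iff_fg.mpr (comp_fg (plus ℬ) (plus ℬ) j)
  have hfHR : ∀ e : ℤ, Module.Finite (GrLC.deg0 (plus 𝒜))
      (GrLC.comp (plus 𝒜) (I'.Hgr (idealPlus 𝒜 mR) (a' + 2)) e) :=
    fun e => finite_Hcomp hposR mR hmR (resSelf 𝒜 I) e (a' + 2)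
  have hfHS : ∀ e : ℤ, Module.Finite (GrLC.deg0 (plus ℬ))
      (GrLC.comp (plus ℬ) (J'.Hgr (idealPlus ℬ mS) (b' + 2)) e) :=
    fun e => finite_Hcomp hposS mS hmS (resSelf ℬ J) e (b' + 2)
  -- the dimension inequalities
  have hleR : ∀ j : ℤ, Module.finrank (GrLC.deg0 𝒜) (I.Hcomp mR (a' + 2) (aT - j)) ≤
      Module.finrank k (𝒜 j) := by
    intro j
    haveI := hfA j
    haveI := hfHR aT
    have h := finrank_le_of_nDeg (plus 𝒜) (I'.Hgr (idealPlus 𝒜 mR) (a' + 2)) aT h0R' hNR' j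
    have h3 : Module.finrank (GrLC.deg0 (plus 𝒜)) (GrLC.comp (plus 𝒜) (plus 𝒜) j) =
        Module.finrank k (𝒜 j) := finrank_comp_self 𝒜 h0R j
    have h4 : Module.finrank (GrLC.deg0 (plus 𝒜))
        (GrLC.comp (plus 𝒜) (I'.Hgr (idealPlus 𝒜 mR) (a' + 2)) aT) = 1 := hxR
    rw [h3, h4, mul_one] at h
    exact h
  have hleS : ∀ j : ℤ, Module.finrank (GrLC.deg0 ℬ) (J.Hcomp mS (b' + 2) (aT - j)) ≤
      Module.finrank k (ℬ j) := by
    intro j
    haveI := hfB j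
    haveI := hfHS aT
    have h := finrank_le_of_nDeg (plus ℬ) (J'.Hgr (idealPlus ℬ mS) (b' + 2)) aT h0S' hNS' j
    have h3 : Module.finrank (GrLC.deg0 (plus ℬ)) (GrLC.comp (plus ℬ) (plus ℬ) j) =
        Module.finrank k (ℬ j) := finrank_comp_self ℬ h0S j
    have h4 : Module.finrank (GrLC.deg0 (plus ℬ))
        (GrLC.comp (plus ℬ) (J'.Hgr (idealPlus ℬ mS) (b' + 2)) aT) = 1 := hxS
    rw [h3, h4, mul_one] at h
    exact h
  -- the dimensions of the pieces of the top local cohomology of `R`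
  have hdimR : ∀ j : ℤ, Module.finrank (GrLC.deg0 𝒜) (I.Hcomp mR (a' + 2) (aT - j)) =
      Module.finrank k (𝒜 j) := by
    intro j
    by_cases hX : Module.finrank k (𝒜 j) = 0
    · have := hleR j
      omega
    · have hj : 0 ≤ j := by
        by_contra hcon
        push Not at hcon
        apply hX
        rw [hposR j hcon]
        exact finrank_bot k R
      have hy1 : Module.finrank (GrLC.deg0 ℬ) (J.Hcomp mS (b' + 2) (aT - j)) ≠ 0 := by
        intro h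
        have h' : J.Hcomp mS (b' + 2) (aT - j) = ⊥ :=
          (finrank_Hcomp_eq_zero_iff ℬ hposS h0S (plus ℬ) mS hmS (resSelf ℬ J) (b' + 2) (aT - j)).mp h
        exact hgr_ne_bot_of_le mS hmS hstdS J (b' + 2) hs (by omega) aT hb (aT - j) (by omega)
          ((hgr_eq_bot_iff_hcomp ℬ mS J (b' + 2) (aT - j)).mpr h')
      have hprod : Module.finrank (GrLC.deg0 𝒜) (I.Hcomp mR (a' + 2) (aT - j)) *
          Module.finrank (GrLC.deg0 ℬ) (J.Hcomp mS (b' + 2) (aT - j)) =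
          Module.finrank k (𝒜 j) * Module.finrank k (ℬ j) :=
        (hKun (aT - j)).symm.trans ((hdT j).trans (finrank_segre_piece 𝒯 ψ hT j))
      by_contra hne
      have hlt : Module.finrank (GrLC.deg0 𝒜) (I.Hcomp mR (a' + 2) (aT - j)) <
          Module.finrank k (𝒜 j) := lt_of_le_of_ne (hleR j) hne
      have h5 : Module.finrank (GrLC.deg0 𝒜) (I.Hcomp mR (a' + 2) (aT - j)) *
          Module.finrank (GrLC.deg0 ℬ) (J.Hcomp mS (b' + 2) (aT - j)) <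
          Module.finrank k (𝒜 j) * Module.finrank k (ℬ j) :=
        calc _ < Module.finrank k (𝒜 j) *
              Module.finrank (GrLC.deg0 ℬ) (J.Hcomp mS (b' + 2) (aT - j)) :=
            Nat.mul_lt_mul_of_pos_right hlt (Nat.pos_of_ne_zero hy1)
          _ ≤ _ := Nat.mul_le_mul_left _ (hleS j)
      omega
  -- representability
  have hRR : Groth.Agent.Helper7.VerGor.Rep (plus 𝒜) (I'.Hgr (idealPlus 𝒜 mR) (a' + 2)) aT := by
    apply rep_of_finrank (plus 𝒜) (I'.Hgr (idealPlus 𝒜 mR) (a' + 2)) aT h0R' hNR' hfA hfHR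
    intro j
    have h3 : Module.finrank (GrLC.deg0 (plus 𝒜)) (GrLC.comp (plus 𝒜) (plus 𝒜) j) =
        Module.finrank k (𝒜 j) := finrank_comp_self 𝒜 h0R j
    have h4 : Module.finrank (GrLC.deg0 (plus 𝒜))
        (GrLC.comp (plus 𝒜) (I'.Hgr (idealPlus 𝒜 mR) (a' + 2)) aT) = 1 := hxR
    rw [h3, h4, mul_one]
    exact hdimR j
  -- vanishing
  have hvanR : ∀ i : ℕ, i ≠ a' + 2 → Subsingleton (I'.H (idealPlus 𝒜 mR) i) := by
    intro i hi
    have hsd : Module.supportDim R R = ((a' + 2 : ℕ) : WithBot ℕ∞) :=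
      (Module.supportDim_self_eq_ringKrullDim R).trans hr
    have hcm := (cmRing_iff_cmModule R).mp hCR
    have h := fun d => Hcomp_eq_bot_of_cm 𝒜 hposR h0R (plus 𝒜) mR hmR (resSelf 𝒜 I) (a' + 2) hsd hcm
      i hi d
    exact (subsingleton_H_iff 𝒜 (plus 𝒜) mR (resSelf 𝒜 I) i).mpr h
  exact gorenstein_of_dual (plus 𝒜) hposR' h0R' (idealPlus 𝒜 mR) hmR' hmRsp' (a' + 2) I' aT hNR' hRR
    hvanR

end Main

end Groth.Agent.Helper7.SegDu
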