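import Mathlib
import Groth.Prelude.Def_GrLC
import Groth.Agent.Helper7.GrDu8

/-!
# Segre products and nondegenerate pairings, part 11: a perfect graded pairing `H × C → R_0` gives a graded
isomorphism `Hom_R(C, E) ≅ H`, `E` the *injective envelope of the residue field (helper7)
-/

set_option autoImplicit false
set_option linter.unusedSectionVars false
set_option linter.style.haveILetI false

namespace Groth.Agent.Helper7.SegDu

open DirectSum Groth.Agent.Helper6.GrMod Groth.Agent.Helper7.GrDu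

universe u

section HomCompMore

variable {R : Type u} [CommRing R] (𝒜 : ℤ → AddSubgroup R) [GradedRing 𝒜]
  {C : Type u} [AddCommGroup C] [Module R C] (𝒞 : ℤ → AddSubgroup C) [Decomposition 𝒞]
  [SetLike.GradedSMul 𝒜 𝒞]
  {E : Type u} [AddCommGroup E] [Module R E] (𝓔 : ℤ → AddSubgroup E) [Decomposition 𝓔]
  [SetLike.GradedSMul 𝒜 𝓔]

/-- two linear maps agreeing on homogeneous elements are equal -/
theorem linearMap_ext_homog {f f' : C →ₗ[R] E} (h : ∀ (g : ℤ) (x : C), x ∈ 𝒞 g → f x = f' x) :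
    f = f' := by
  classical
  apply LinearMap.ext
  intro x
  rw [← DirectSum.sum_support_decompose 𝒞 x, map_sum, map_sum]
  exact Finset.sum_congr rfl (fun g _ => h g _ (decompose 𝒞 x g).2)

theorem homComp_add (f f' : C →ₗ[R] E) (j : ℤ) :
    homComp 𝒜 𝒞 𝓔 (f + f') j = homComp 𝒜 𝒞 𝓔 f j + homComp 𝒜 𝒞 𝓔 f' j := by
  apply linearMap_ext_homog 𝒞
  intro g x hx
  rw [LinearMap.add_apply, homComp_of_mem 𝒜 𝒞 𝓔 _ j hx, homComp_of_mem 𝒜 𝒞 𝓔 _ j hx,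
    homComp_of_mem 𝒜 𝒞 𝓔 _ j hx, LinearMap.add_apply, decompose_add, DirectSum.add_apply,
    AddSubgroup.coe_add]

theorem homComp_zero (j : ℤ) : homComp 𝒜 𝒞 𝓔 (0 : C →ₗ[R] E) j = 0 := by
  apply linearMap_ext_homog 𝒞
  intro g x hx
  rw [homComp_of_mem 𝒜 𝒞 𝓔 _ j hx, LinearMap.zero_apply, decompose_zero, DirectSum.zero_apply,
    ZeroMemClass.coe_zero]

theorem homComp_of_mem_same {f : C →ₗ[R] E} {j : ℤ} (hf : f ∈ GrLC.homDeg 𝒜 𝒞 𝓔 j) :
    homComp 𝒜 𝒞 𝓔 f j = f := by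
  apply linearMap_ext_homog 𝒞
  intro g x hx
  rw [homComp_of_mem 𝒜 𝒞 𝓔 _ j hx]
  exact decompose_of_mem_same 𝓔 (hf g x hx)

theorem homComp_of_mem_ne {f : C →ₗ[R] E} {i j : ℤ} (hf : f ∈ GrLC.homDeg 𝒜 𝒞 𝓔 i) (hij : i ≠ j) :
    homComp 𝒜 𝒞 𝓔 f j = 0 := by
  apply linearMap_ext_homog 𝒞
  intro g x hx
  rw [homComp_of_mem 𝒜 𝒞 𝓔 _ j hx, LinearMap.zero_apply]
  exact decompose_of_mem_ne 𝓔 (hf g x hx) (by omega)

/-- the component of degree `j`, as an additive map -/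
noncomputable def homCompHom (j : ℤ) : (C →ₗ[R] E) →+ (C →ₗ[R] E) where
  toFun f := homComp 𝒜 𝒞 𝓔 f j
  map_zero' := homComp_zero 𝒜 𝒞 𝓔 j
  map_add' f f' := homComp_add 𝒜 𝒞 𝓔 f f' j

theorem smul_mem_homDeg {i j : ℤ} {a : R} (ha : a ∈ 𝒜 i) {f : C →ₗ[R] E}
    (hf : f ∈ GrLC.homDeg 𝒜 𝒞 𝓔 j) : a • f ∈ GrLC.homDeg 𝒜 𝒞 𝓔 (i + j) := by
  intro g x hx
  rw [LinearMap.smul_apply]
  have h1 := smul_mem' 𝒜 𝓔 ha (hf g x hx)
  have e1 : i + (g + j) = g + (i + j) := by ring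
  rwa [e1] at h1

end HomCompMore

section Assemble

variable {R : Type u} [CommRing R] (𝒜 : ℤ → AddSubgroup R) [GradedRing 𝒜]
  {H : Type u} [AddCommGroup H] [Module R H] (ℋ : ℤ → AddSubgroup H) [Decomposition ℋ]
  [SetLike.GradedSMul 𝒜 ℋ]
  {X : Type*} [AddCommGroup X] [Module R X]

/-- a compatible family of additive maps on the pieces of a graded module assembles to a linear map -/
theorem exists_linear_of_pieces (ψ : ∀ j : ℤ, ℋ j →+ X)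
    (hψ : ∀ (i j : ℤ) (a : R) (ha : a ∈ 𝒜 i) (h : ℋ j),
      ψ (i + j) ⟨a • (h : H), smul_mem' 𝒜 ℋ ha h.2⟩ = a • ψ j h) :
    ∃ Ψ : H →ₗ[R] X, ∀ (j : ℤ) (h : H) (hh : h ∈ ℋ j), Ψ h = ψ j ⟨h, hh⟩ := by
  classical
  let Ψ0 : H →+ X := (DirectSum.toAddMonoid ψ).comp (decomposeAddEquiv ℋ).toAddMonoidHom
  have hΨ0 : ∀ (j : ℤ) (h : H) (hh : h ∈ ℋ j), Ψ0 h = ψ j ⟨h, hh⟩ := by
    intro j h hh
    show (DirectSum.toAddMonoid ψ) (decompose ℋ h) = _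
    rw [decompose_of_mem ℋ hh, DirectSum.toAddMonoid_of]
  have hlin : ∀ (a : R) (h : H), Ψ0 (a • h) = a • Ψ0 h := by
    intro a h
    induction h using Decomposition.inductionOn ℋ with
    | zero => rw [smul_zero, map_zero, smul_zero]
    | @homogeneous j h =>
      induction a using Decomposition.inductionOn 𝒜 with
      | zero => rw [zero_smul, zero_smul, map_zero]
      | @homogeneous i a =>
        rw [hΨ0 (i + j) _ (smul_mem' 𝒜 ℋ a.2 h.2), hΨ0 j _ h.2]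
        exact hψ i j a a.2 h
      | add a a' h1 h2 => rw [add_smul, add_smul, map_add, h1, h2]
    | add h h' h1 h2 => rw [smul_add, map_add, map_add, h1, h2, smul_add]
  exact ⟨{ toFun := Ψ0, map_add' := map_add Ψ0, map_smul' := hlin }, hΨ0⟩

end Assemble

section Iso

variable {R : Type u} [CommRing R] [IsNoetherianRing R] (𝒜 : ℤ → AddSubgroup R) [GradedRing 𝒜]
  (hpos : ∀ n : ℤ, n < 0 → 𝒜 n = ⊥) (h0 : IsField (GrLC.deg0 𝒜))
  (m : HomogeneousIdeal 𝒜) (hm : IsCoatom m)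
  {E : Type u} [AddCommGroup E] [Module R E] (𝓔 : ℤ → AddSubgroup E) [Decomposition 𝓔]
  [SetLike.GradedSMul 𝒜 𝓔]
  (e : (R ⧸ m.toIdeal) →ₗ[R] E) (he : GrLC.IsStarInjHull 𝒜 (GrLC.quotGr 𝒜 m) 𝓔 e)
  {C : Type u} [AddCommGroup C] [Module R C] (𝒞 : ℤ → AddSubgroup C) [Decomposition 𝒞]
  [SetLike.GradedSMul 𝒜 𝒞] [Module.Finite R C]
  {H : Type u} [AddCommGroup H] [Module R H] (ℋ : ℤ → AddSubgroup H) [Decomposition ℋ]
  [SetLike.GradedSMul 𝒜 ℋ]
  (B : H →+ C →+ R) (hmem : ∀ h c, B h c ∈ 𝒜 0)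
  (hsmul : ∀ (r : R) h c, B (r • h) c = B h (r • c))
  (hsmul0 : ∀ a ∈ 𝒜 0, ∀ h c, B (a • h) c = a * B h c)
  (coef : GrLC.comp 𝒜 𝓔 0 ≃ₗ[GrLC.deg0 𝒜] GrLC.deg0 𝒜)

/-- the functional on `C_{-j}` attached to an element of `H_j`, with values in `E_0` -/
noncomputable def pairFun (j : ℤ) : GrLC.comp 𝒜 ℋ j →ₗ[GrLC.deg0 𝒜]
    (GrLC.comp 𝒜 𝒞 (-j) →ₗ[GrLC.deg0 𝒜] GrLC.comp 𝒜 𝓔 0) where
  toFun h :=
    { toFun := fun c => coef.symm ⟨B h.1 c.1, hmem h.1 c.1⟩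
      map_add' := fun c c' => by
        rw [← map_add]
        congr 1
        apply Subtype.ext
        show B h.1 (c.1 + c'.1) = B h.1 c.1 + B h.1 c'.1
        rw [map_add]
      map_smul' := fun a c => by
        rw [RingHom.id_apply, ← map_smul]
        congr 1
        apply Subtype.ext
        show B h.1 ((a : R) • c.1) = (a : R) * B h.1 c.1
        rw [← hsmul, hsmul0 a.1 a.2] }
  map_add' h h' := by
    apply LinearMap.ext
    intro c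
    show coef.symm ⟨B (h.1 + h'.1) c.1, _⟩ = coef.symm ⟨B h.1 c.1, _⟩ + coef.symm ⟨B h'.1 c.1, _⟩
    rw [← map_add]
    congr 1
    apply Subtype.ext
    show B (h.1 + h'.1) c.1 = B h.1 c.1 + B h'.1 c.1
    rw [map_add]
    rfl
  map_smul' a h := by
    apply LinearMap.ext
    intro c
    show coef.symm ⟨B ((a : R) • h.1) c.1, _⟩ = a • coef.symm ⟨B h.1 c.1, _⟩
    rw [← map_smul]
    congr 1
    apply Subtype.ext
    show B ((a : R) • h.1) c.1 = (a : R) * B h.1 c.1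
    rw [hsmul0 a.1 a.2]

theorem pairFun_apply (j : ℤ) (h : GrLC.comp 𝒜 ℋ j) (c : GrLC.comp 𝒜 𝒞 (-j)) :
    coef (pairFun 𝒜 𝓔 𝒞 ℋ B hmem hsmul hsmul0 coef j h c) = ⟨B h.1 c.1, hmem h.1 c.1⟩ := by
  show coef (coef.symm _) = _
  rw [LinearEquiv.apply_symm_apply]

end Iso

end Groth.Agent.Helper7.SegDu
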