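import Mathlib
import Groth.Prelude.Def_GrLC
import Groth.Agent.Helper7.SegDu11

/-!
# Segre products and nondegenerate pairings, part 12: a perfect graded pairing `H × C → R_0` gives a graded
isomorphism `Hom_R(C, E) ≅ H` (helper7)
-/

set_option autoImplicit false
set_option linter.unusedSectionVars false
set_option linter.style.haveILetI false

namespace Groth.Agent.Helper7.SegDu

open DirectSum Groth.Agent.Helper6.GrMod Groth.Agent.Helper7.GrDu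

universe u

section Iso

variable {R : Type u} [CommRing R] [IsNoetherianRing R] (𝒜 : ℤ → AddSubgroup R) [GradedRing 𝒜]
  (hpos : ∀ n : ℤ, n < 0 → 𝒜 n = ⊥) (h0 : IsField (GrLC.deg0 𝒜))
  (m : HomogeneousIdeal 𝒜) (hm : IsCoatom m)
  {E : Type u} [AddCommGroup E] [Module R E] (𝓔 : ℤ → AddSubgroup E) [Decomposition 𝓔]
  [SetLike.GradedSMul 𝒜 𝓔]
  (e : (R ⧸ m.toIdeal) →ₗ[R] E) (he : GrLC.IsStarInjHull 𝒜 (GrLC.quotGr 𝒜 m) 𝓔 e)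
  {C : Type u} [AddCommGroup C] [Module R C] (𝒞 : ℤ → AddSubgroup C) [Decomposition 𝒞]
  [SetLike.GradedSMul 𝒜 𝒞] [Module.Finite R C]
  {H : Type u} [AddCommGroup H] [Module R H] (ℋ : ℤ → AddSubgroup H) [Decomposition ℋ]
  [SetLike.GradedSMul 𝒜 ℋ]
  (B : H →+ C →+ R) (hmem : ∀ h c, B h c ∈ 𝒜 0)
  (hsmul : ∀ (r : R) h c, B (r • h) c = B h (r • c))
  (hsmul0 : ∀ a ∈ 𝒜 0, ∀ h c, B (a • h) c = a * B h c)

include hpos h0 hm he hmem hsmul hsmul0 in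
/-- **a perfect graded pairing `H × C → R_0` gives a graded isomorphism `Hom_R(C, E) ≅ H`** -/
theorem iso_of_pairing
    (hL : ∀ j : ℤ, ∀ h ∈ ℋ j, (∀ c ∈ 𝒞 (-j), B h c = 0) → h = 0)
    (hfin : ∀ j : ℤ, Module.Finite (GrLC.deg0 𝒜) (GrLC.comp 𝒜 ℋ j))
    (hdim : ∀ j : ℤ, Module.finrank (GrLC.deg0 𝒜) (GrLC.comp 𝒜 ℋ j) =
      Module.finrank (GrLC.deg0 𝒜) (GrLC.comp 𝒜 𝒞 (-j))) :
    ∃ Θ : (C →ₗ[R] E) ≃ₗ[R] H,
      GrLC.IsGrHom (fun d => (GrLC.homDeg 𝒜 𝒞 𝓔 d).toAddSubgroup) ℋ Θ.toLinearMap := by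
  classical
  letI := h0.toField
  obtain ⟨coef⟩ := nonempty_coef 𝒜 hpos h0 m hm 𝓔 e he
  haveI : IsNoetherian R C := isNoetherian_of_isNoetherianRing_of_finite R C
  have hfinC : ∀ t : ℤ, Module.Finite (GrLC.deg0 𝒜) (GrLC.comp 𝒜 𝒞 t) :=
    fun t => Module.Finite.iff_fg.mpr (Groth.Agent.Helper7.Kun.comp_fg 𝒜 𝒞 t)
  have hE0 := finrank_comp_zero 𝒜 hpos h0 m hm 𝓔 e he
  haveI hfinE : Module.Finite (GrLC.deg0 𝒜) (GrLC.comp 𝒜 𝓔 0) :=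
    Module.finite_of_finrank_pos (by rw [hE0]; exact Nat.one_pos)
  have htj : ∀ j : ℤ, -j + j = 0 := fun j => by omega
  -- the restriction equivalences
  let ej : ∀ j : ℤ, GrLC.homDeg 𝒜 𝒞 𝓔 j ≃ₗ[GrLC.deg0 𝒜]
      (GrLC.comp 𝒜 𝒞 (-j) →ₗ[GrLC.deg0 𝒜] GrLC.comp 𝒜 𝓔 0) := fun j =>
    LinearEquiv.ofBijective (restr 𝒜 𝓔 𝒞 (htj j))
      ⟨restr_injective 𝒜 hpos h0 m hm 𝓔 e he 𝒞 (htj j),
        restr_surjective 𝒜 hpos h0 m hm 𝓔 e he 𝒞 (htj j)⟩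
  let ψ : ∀ j : ℤ, GrLC.comp 𝒜 ℋ j →ₗ[GrLC.deg0 𝒜] GrLC.homDeg 𝒜 𝒞 𝓔 j := fun j =>
    (ej j).symm.toLinearMap ∘ₗ pairFun 𝒜 𝓔 𝒞 ℋ B hmem hsmul hsmul0 coef j
  -- the key property
  have hkey : ∀ (j : ℤ) (h : GrLC.comp 𝒜 ℋ j) (c : C) (hc : c ∈ 𝒞 (-j)),
      ∃ hm0 : (ψ j h).1 c ∈ 𝓔 0,
        coef (⟨(ψ j h).1 c, hm0⟩ : GrLC.comp 𝒜 𝓔 0) = ⟨B h.1 c, hmem h.1 c⟩ := by
    intro j h c hc
    have h1 : ej j (ψ j h) = pairFun 𝒜 𝓔 𝒞 ℋ B hmem hsmul hsmul0 coef j h :=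
      LinearEquiv.apply_symm_apply (ej j) _
    have h2 : restr 𝒜 𝓔 𝒞 (htj j) (ψ j h) ⟨c, hc⟩ =
        pairFun 𝒜 𝓔 𝒞 ℋ B hmem hsmul hsmul0 coef j h ⟨c, hc⟩ := LinearMap.congr_fun h1 ⟨c, hc⟩
    refine ⟨(restr 𝒜 𝓔 𝒞 (htj j) (ψ j h) ⟨c, hc⟩).2, ?_⟩
    have h3 : (⟨(ψ j h).1 c, (restr 𝒜 𝓔 𝒞 (htj j) (ψ j h) ⟨c, hc⟩).2⟩ : GrLC.comp 𝒜 𝓔 0) =
        restr 𝒜 𝓔 𝒞 (htj j) (ψ j h) ⟨c, hc⟩ := rfl
    rw [h3, h2]
    exact pairFun_apply 𝒜 𝓔 𝒞 ℋ B hmem hsmul hsmul0 coef j h ⟨c, hc⟩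
  -- bijectivity on pieces
  have hψinj : ∀ j : ℤ, Function.Injective (ψ j) := by
    intro j
    refine (ej j).symm.injective.comp ?_
    refine (injective_iff_map_eq_zero _).mpr ?_
    intro h hh
    apply Subtype.ext
    apply hL j h.1 h.2
    intro c hc
    have h1 := LinearMap.congr_fun hh ⟨c, hc⟩
    have h2 := pairFun_apply 𝒜 𝓔 𝒞 ℋ B hmem hsmul hsmul0 coef j h ⟨c, hc⟩
    rw [h1, LinearMap.zero_apply, map_zero] at h2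
    exact (congrArg Subtype.val h2).symm
  have hψsurj : ∀ j : ℤ, Function.Surjective (ψ j) := by
    intro j
    haveI := hfin j
    haveI := hfinC (-j)
    haveI : Module.Finite (GrLC.deg0 𝒜) (GrLC.homDeg 𝒜 𝒞 𝓔 j) := Module.Finite.equiv (ej j).symm
    have hd : Module.finrank (GrLC.deg0 𝒜) (GrLC.comp 𝒜 ℋ j) =
        Module.finrank (GrLC.deg0 𝒜) (GrLC.homDeg 𝒜 𝒞 𝓔 j) :=
      (hdim j).trans (finrank_homDeg 𝒜 hpos h0 m hm 𝓔 e he 𝒞 (htj j)).symm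
    have h3 := @LinearMap.injective_iff_surjective_of_finrank_eq_finrank (GrLC.deg0 𝒜)
      (GrLC.comp 𝒜 ℋ j) _ _ _ (GrLC.homDeg 𝒜 𝒞 𝓔 j) _ _ _ _ hd (ψ j)
    exact h3.mp (hψinj j)
  -- assembling
  let ψadd : ∀ j : ℤ, ℋ j →+ (C →ₗ[R] E) := fun j =>
    AddMonoidHom.mk' (fun h => ((ψ j ⟨h.1, h.2⟩ : GrLC.homDeg 𝒜 𝒞 𝓔 j) : C →ₗ[R] E))
      (fun h h' => by
        have h1 : (⟨(h + h').1, (h + h').2⟩ : GrLC.comp 𝒜 ℋ j) = ⟨h.1, h.2⟩ + ⟨h'.1, h'.2⟩ := rfl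
        rw [h1, map_add]
        rfl)
  have hψadd : ∀ (j : ℤ) (h : ℋ j), ψadd j h = ((ψ j ⟨h.1, h.2⟩ : GrLC.homDeg 𝒜 𝒞 𝓔 j) :
      C →ₗ[R] E) := fun _ _ => rfl
  have hcompat : ∀ (i j : ℤ) (a : R) (ha : a ∈ 𝒜 i) (h : ℋ j),
      ψadd (i + j) ⟨a • (h : H), smul_mem' 𝒜 ℋ ha h.2⟩ = a • ψadd j h := by
    intro i j a ha h
    rw [hψadd, hψadd]
    set f1 : GrLC.homDeg 𝒜 𝒞 𝓔 (i + j) := ψ (i + j) ⟨a • (h : H), smul_mem' 𝒜 ℋ ha h.2⟩ with hf1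
    set g : GrLC.homDeg 𝒜 𝒞 𝓔 j := ψ j ⟨h.1, h.2⟩ with hg
    let f2 : GrLC.homDeg 𝒜 𝒞 𝓔 (i + j) := ⟨a • g.1, smul_mem_homDeg 𝒜 𝒞 𝓔 ha g.2⟩
    have h12 : f1 = f2 := by
      apply restr_injective 𝒜 hpos h0 m hm 𝓔 e he 𝒞 (htj (i + j))
      apply LinearMap.ext
      intro c
      apply Subtype.ext
      rw [restr_apply, restr_apply]
      have hac : a • c.1 ∈ 𝒞 (-j) := by
        have h1 := smul_mem' 𝒜 𝒞 ha c.2
        have e1 : i + -(i + j) = -j := by ring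
        rwa [e1] at h1
      obtain ⟨m1, k1⟩ := hkey (i + j) ⟨a • (h : H), smul_mem' 𝒜 ℋ ha h.2⟩ c.1 c.2
      obtain ⟨m2, k2⟩ := hkey j ⟨h.1, h.2⟩ (a • c.1) hac
      have m2' : f2.1 c.1 ∈ 𝓔 0 := by
        show (a • g.1) c.1 ∈ 𝓔 0
        rw [LinearMap.smul_apply, ← map_smul]
        exact m2
      have e1 : (⟨f1.1 c.1, m1⟩ : GrLC.comp 𝒜 𝓔 0) = ⟨f2.1 c.1, m2'⟩ := by
        apply coef.injective
        rw [k1]
        have e2 : (⟨f2.1 c.1, m2'⟩ : GrLC.comp 𝒜 𝓔 0) = ⟨g.1 (a • c.1), m2⟩ := by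
          apply Subtype.ext
          show (a • g.1) c.1 = g.1 (a • c.1)
          rw [LinearMap.smul_apply, ← map_smul]
        rw [e2, k2]
        apply Subtype.ext
        exact hsmul a h.1 c.1
      exact congrArg Subtype.val e1
    exact congrArg Subtype.val h12
  obtain ⟨Ψ, hΨ⟩ := exists_linear_of_pieces 𝒜 ℋ ψadd hcompat
  -- the components of `Ψ x`
  have hπ : ∀ (j : ℤ) (x : H), homComp 𝒜 𝒞 𝓔 (Ψ x) j =
      ((ψ j ⟨(decompose ℋ x j : H), (decompose ℋ x j).2⟩ : GrLC.homDeg 𝒜 𝒞 𝓔 j) : C →ₗ[R] E) := by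
    intro j x
    induction x using Decomposition.inductionOn ℋ with
    | zero =>
      rw [map_zero, homComp_zero]
      have h1 : (⟨(decompose ℋ (0 : H) j : H), (decompose ℋ (0 : H) j).2⟩ : GrLC.comp 𝒜 ℋ j) = 0 := by
        apply Subtype.ext
        rw [decompose_zero]
        rfl
      rw [h1, map_zero]
      rfl
    | @homogeneous i h =>
      rw [hΨ i h.1 h.2, hψadd]
      by_cases hij : i = j
      · subst hij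
        rw [homComp_of_mem_same 𝒜 𝒞 𝓔 (ψ i ⟨h.1, h.2⟩).2]
        congr 2
        apply Subtype.ext
        exact (decompose_of_mem_same ℋ h.2).symm
      · rw [homComp_of_mem_ne 𝒜 𝒞 𝓔 (ψ i ⟨h.1, h.2⟩).2 hij]
        have h1 : (⟨(decompose ℋ (h : H) j : H), (decompose ℋ (h : H) j).2⟩ : GrLC.comp 𝒜 ℋ j) = 0 := by
          apply Subtype.ext
          exact decompose_of_mem_ne ℋ h.2 hij
        rw [h1, map_zero]
        rfl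
    | add x x' h1 h2 =>
      rw [map_add, homComp_add, h1, h2]
      have h3 : (⟨(decompose ℋ (x + x') j : H), (decompose ℋ (x + x') j).2⟩ : GrLC.comp 𝒜 ℋ j) =
          ⟨(decompose ℋ x j : H), (decompose ℋ x j).2⟩ +
            ⟨(decompose ℋ x' j : H), (decompose ℋ x' j).2⟩ := by
        apply Subtype.ext
        show (decompose ℋ (x + x') j : H) = (decompose ℋ x j : H) + (decompose ℋ x' j : H)
        rw [decompose_add, DirectSum.add_apply, AddSubgroup.coe_add]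
      rw [h3, map_add]
      rfl
  have hΨinj : Function.Injective Ψ := by
    refine (injective_iff_map_eq_zero Ψ).mpr ?_
    intro x hx
    rw [← DirectSum.sum_support_decompose ℋ x]
    refine Finset.sum_eq_zero fun j _ => ?_
    have h1 := hπ j x
    rw [hx, homComp_zero] at h1
    have h2 : ψ j ⟨(decompose ℋ x j : H), (decompose ℋ x j).2⟩ = 0 := Subtype.ext h1.symm
    have h3 := (injective_iff_map_eq_zero (ψ j)).mp (hψinj j) _ h2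
    exact congrArg Subtype.val h3
  have hΨsurj : Function.Surjective Ψ := by
    intro f
    obtain ⟨J, hJ⟩ := exists_sum_homComp 𝒜 𝒞 𝓔 f
    have hex : ∀ j : ℤ, ∃ h : GrLC.comp 𝒜 ℋ j, ψ j h = ⟨homComp 𝒜 𝒞 𝓔 f j, homComp_mem 𝒜 𝒞 𝓔 f j⟩ :=
      fun j => hψsurj j _
    choose hh hhs using hex
    refine ⟨∑ j ∈ J, ((hh j : GrLC.comp 𝒜 ℋ j) : H), ?_⟩
    rw [map_sum]
    conv_rhs => rw [hJ]
    apply Finset.sum_congr rfl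
    intro j _
    rw [hΨ j (hh j).1 (hh j).2, hψadd]
    have h1 : (⟨((hh j : GrLC.comp 𝒜 ℋ j) : H), (hh j).2⟩ : GrLC.comp 𝒜 ℋ j) = hh j := rfl
    rw [h1, hhs j]
  refine ⟨(LinearEquiv.ofBijective Ψ ⟨hΨinj, hΨsurj⟩).symm, ?_⟩
  intro d f hf
  obtain ⟨h, hh⟩ := hψsurj d ⟨f, hf⟩
  have h1 : Ψ h.1 = f := by
    rw [hΨ d h.1 h.2, hψadd]
    have h2 : (⟨h.1, h.2⟩ : GrLC.comp 𝒜 ℋ d) = h := rfl
    rw [h2, hh]
  show (LinearEquiv.ofBijective Ψ ⟨hΨinj, hΨsurj⟩).symm f ∈ ℋ d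
  have h3 : (LinearEquiv.ofBijective Ψ ⟨hΨinj, hΨsurj⟩).symm f = h.1 := by
    rw [LinearEquiv.symm_apply_eq]
    exact h1.symm
  rw [h3]
  exact h.2

end Iso

end Groth.Agent.Helper7.SegDu
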