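import Mathlib
import Groth.Prelude.Def_GrLC
import Groth.Prelude.Def_GrSeg
import Groth.Agent.Helper7.GrDu8
import Groth.Agent.Helper7.KunMd5

/-!
# Segre products and nondegenerate pairings, part 13: the `k`-bilinear perfect pairing between the top local
cohomology and a *canonical module of a graded ring defined over a field `k` (helper7)
-/

set_option autoImplicit false
set_option linter.unusedSectionVars false
set_option linter.style.haveILetI false

namespace Groth.Agent.Helper7.SegDu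

open DirectSum Groth.Agent.Helper7.Kun Groth.Agent.Helper7.GrDu Groth.Agent.Helper7.KunMd

universe u

attribute [local instance] gmodModuleK gmodTowerK

/-- a `k`-bilinear graded pairing `H × C → k`, balanced over `R`, nondegenerate on the `H`-side and representing
every functional on a piece of `H` by an element of the opposite piece of `C` -/
structure KPair (k : Type u) [Field k] (R : Type u) [CommRing R] [Algebra k R]
    {H : Type u} [AddCommGroup H] [Module R H] [Module k H] (ℋ : ℤ → AddSubgroup H)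
    {C : Type u} [AddCommGroup C] [Module R C] [Module k C] (𝒞 : ℤ → AddSubgroup C) where
  b : H →ₗ[k] C →ₗ[k] k
  bal : ∀ (r : R) (h : H) (c : C), b (r • h) c = b h (r • c)
  left : ∀ (j : ℤ), ∀ h ∈ ℋ j, h ≠ 0 → ∃ c ∈ 𝒞 (-j), b h c ≠ 0
  rep : ∀ (j : ℤ) (g : H →ₗ[k] k), ∃ c ∈ 𝒞 (-j), ∀ h ∈ ℋ j, b h c = g h

section Main

variable {k R : Type u} [Field k] [CommRing R] [Algebra k R]
  (𝒜 : ℤ → Submodule k R) [GradedAlgebra 𝒜]
  (hpos : ∀ n : ℤ, n < 0 → 𝒜 n = ⊥) (h0 : 𝒜 0 = Submodule.span k {(1 : R)})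
  [Algebra.FiniteType k R]
  (mR : HomogeneousIdeal 𝒜)
  (hmR : mR.toIdeal = Ideal.span (⋃ n ∈ Set.Ioi (0 : ℤ), (𝒜 n : Set R)))
  {E : Type u} [AddCommGroup E] [Module R E] (𝓔 : ℤ → AddSubgroup E) [Decomposition 𝓔]
  [SetLike.GradedSMul 𝒜 𝓔]
  (e : (R ⧸ mR.toIdeal) →ₗ[R] E) (he : GrLC.IsStarInjHull 𝒜 (GrLC.quotGr 𝒜 mR) 𝓔 e)
  {C : Type u} [AddCommGroup C] [Module R C] [Module k C] [IsScalarTower k R C]
  (𝒞 : ℤ → AddSubgroup C) [Decomposition 𝒞] [SetLike.GradedSMul 𝒜 𝒞]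
  (I : GrLC.StarInjRes 𝒜 𝒜) (r : ℕ)

include hpos h0 hmR he in
/-- **the `k`-bilinear perfect pairing attached to a *canonical module** -/
theorem nonempty_kPair [Nontrivial R] (hC : GrLC.IsStarCanonical 𝒜 𝒞 𝓔 mR r I) :
    Nonempty (KPair k R (I.Hgr mR r) 𝒞) := by
  classical
  haveI : IsNoetherianRing R := Algebra.FiniteType.isNoetherianRing k R
  haveI : SetLike.GradedSMul (plus 𝒜) 𝓔 := gradedSMul_plus 𝒜 𝓔
  haveI : SetLike.GradedSMul (plus 𝒜) 𝒞 := gradedSMul_plus 𝒜 𝒞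
  haveI : SetLike.GradedSMul 𝒜 (plus 𝒜) := gradedSMul_self 𝒜
  obtain ⟨hfin, Φ, hΦ⟩ := hC
  haveI := hfin
  set I' : GrLC.StarInjRes (plus 𝒜) (plus 𝒜) := resPlus 𝒜 (resSelf 𝒜 I) with hI'
  obtain ⟨D⟩ := nonempty_dualPair (plus 𝒜) (plus_eq_bot_of_neg 𝒜 hpos) (deg0_isField h0)
    (idealPlus 𝒜 mR) (isStarLocal_idealPlus 𝒜 hpos h0 mR hmR).1 𝓔 e
    (isStarInjHull_plus 𝒜 mR 𝓔 e he) 𝒞 (fun d => I'.Hcomp (idealPlus 𝒜 mR) r d)
    (Groth.Agent.Helper6.GrH.Hgr_isInternal (plus 𝒜) (plus 𝒜) (idealPlus 𝒜 mR) I' r) Φ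
    (fun d f hf => hΦ d f hf)
  -- the scalar values
  let B' : I.H mR r →+ C →+ R := D.B
  have hmem' : ∀ (h : I.H mR r) (c : C), B' h c ∈ 𝒜 0 := fun h c => D.mem h c
  have hadd1 : ∀ (h h' : I.H mR r) (c : C), B' (h + h') c = B' h c + B' h' c :=
    fun h h' c => DFunLike.congr_fun (map_add B' h h') c
  have hadd2 : ∀ (h : I.H mR r) (c c' : C), B' h (c + c') = B' h c + B' h c' :=
    fun h c c' => map_add (B' h) c c'
  have hbal : ∀ (x : R) (h : I.H mR r) (c : C), B' (x • h) c = B' h (x • c) :=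
    fun x h c => D.smul x h c
  have hsm0 : ∀ (x : R), x ∈ 𝒜 0 → ∀ (h : I.H mR r) (c : C), B' (x • h) c = x * B' h c :=
    fun x hx h c => D.smul0 x hx h c
  have key : ∀ (h : I.H mR r) (c : C), ∃ x : k, algebraMap k R x = B' h c := by
    intro h c
    have h1 : B' h c ∈ 𝒜 0 := hmem' h c
    rw [h0, Submodule.mem_span_singleton] at h1
    obtain ⟨x, hx⟩ := h1
    exact ⟨x, by rw [Algebra.algebraMap_eq_smul_one, hx]⟩
  choose bf hbf using key
  have hinj : Function.Injective (algebraMap k R) := (algebraMap k R).injective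
  have hsm : ∀ (a : k) (h : I.H mR r) (c : C), B' (a • h) c = algebraMap k R a * B' h c := by
    intro a h c
    rw [← algebraMap_smul R a h]
    exact hsm0 _ (SetLike.algebraMap_mem_graded 𝒜 a) h c
  have hsm2 : ∀ (a : k) (h : I.H mR r) (c : C), B' h (a • c) = algebraMap k R a * B' h c := by
    intro a h c
    rw [← algebraMap_smul R a c, ← hbal, algebraMap_smul, hsm]
  let b : I.H mR r →ₗ[k] C →ₗ[k] k := LinearMap.mk₂ k bf
    (fun h h' c => hinj (by rw [hbf, hadd1, map_add, hbf, hbf]))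
    (fun a h c => hinj (by rw [hbf, hsm, smul_eq_mul, map_mul, hbf]))
    (fun h c c' => hinj (by rw [hbf, hadd2, map_add, hbf, hbf]))
    (fun a h c => hinj (by rw [hbf, hsm2, smul_eq_mul, map_mul, hbf]))
  have hb : ∀ h c, algebraMap k R (b h c) = B' h c := fun h c => hbf h c
  have hrep : ∀ (j : ℤ) (g : I.H mR r →ₗ[k] k), ∃ c ∈ 𝒞 (-j), ∀ h ∈ I.Hgr mR r j, b h c = g h := by
    intro j g
    obtain ⟨c, hc, hcB⟩ := D.exists_rep (-j) (fun h => algebraMap k R (g h))
      (fun (h₁ : I.H mR r) _ (h₂ : I.H mR r) _ => by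
        show algebraMap k R (g (h₁ + h₂)) = _
        rw [map_add, map_add])
      (fun a ha (h : I.H mR r) _ => by
        show algebraMap k R (g (a • h)) = a * algebraMap k R (g h)
        have ha' : a ∈ 𝒜 0 := ha
        rw [h0, Submodule.mem_span_singleton] at ha'
        obtain ⟨x, rfl⟩ := ha'
        rw [smul_assoc, one_smul, map_smul, smul_eq_mul, map_mul, Algebra.algebraMap_eq_smul_one])
      (fun (h : I.H mR r) _ => SetLike.algebraMap_mem_graded 𝒜 (g h))
    refine ⟨c, hc, fun h hh => hinj ?_⟩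
    rw [hb]
    exact hcB h (by rw [neg_neg]; exact hh)
  refine ⟨{ b := b, bal := fun x h c => hinj (by rw [hb, hb]; exact hbal x h c), left := ?_,
            rep := hrep }⟩
  intro j h hh hh0
  obtain ⟨g, hg⟩ := Module.Projective.exists_dual_ne_zero k hh0
  obtain ⟨c, hc, hcg⟩ := hrep j g
  exact ⟨c, hc, by rw [hcg h hh]; exact hg⟩

end Main

end Groth.Agent.Helper7.SegDu
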