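import Mathlib
import Groth.Prelude.Def_GrLC
import Groth.Prelude.Def_GrSeg
import Groth.Agent.Helper7.SegDu1
import Groth.Agent.Helper7.KunMd4

/-!
# Segre products and nondegenerate pairings, part 14: the tensor product of two `k`-bilinear pairings, and the
dimension of the pieces of a Segre product of graded modules (helper7)
-/

set_option autoImplicit false
set_option linter.unusedSectionVars false
set_option linter.style.haveILetI false

namespace Groth.Agent.Helper7.SegDu

open TensorProduct Groth.Agent.Helper7.Kun Groth.Agent.Helper7.KunMd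

universe u

section Form

variable {k : Type u} [Field k]
  {H H' C C' : Type u} [AddCommGroup H] [Module k H] [AddCommGroup H'] [Module k H']
  [AddCommGroup C] [Module k C] [AddCommGroup C'] [Module k C']

/-- the tensor product of two bilinear forms -/
noncomputable def tensorForm (b : H →ₗ[k] C →ₗ[k] k) (b' : H' →ₗ[k] C' →ₗ[k] k) :
    H ⊗[k] H' →ₗ[k] C ⊗[k] C' →ₗ[k] k :=
  (TensorProduct.map₂ b b').compr₂ (TensorProduct.lid k k).toLinearMap

theorem tensorForm_tmul (b : H →ₗ[k] C →ₗ[k] k) (b' : H' →ₗ[k] C' →ₗ[k] k) (h : H) (h' : H') (c : C)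
    (c' : C') : tensorForm b b' (h ⊗ₜ[k] h') (c ⊗ₜ[k] c') = b h c * b' h' c' := by
  simp [tensorForm, TensorProduct.map₂_apply_tmul]

/-- evaluating the tensor form against a pure tensor is slicing -/
theorem tensorForm_slice (b : H →ₗ[k] C →ₗ[k] k) (b' : H' →ₗ[k] C' →ₗ[k] k) (x : H ⊗[k] H') (c : C)
    (c' : C') : tensorForm b b' x (c ⊗ₜ[k] c') = b (sliceR (b'.flip c') x) c := by
  induction x using TensorProduct.induction_on with
  | zero => simp
  | tmul h h' =>
    rw [tensorForm_tmul, sliceR_tmul, LinearMap.flip_apply, map_smul, LinearMap.smul_apply, smul_eq_mul,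
      mul_comm]
  | add x y hx hy => rw [map_add, LinearMap.add_apply, hx, hy, map_add, map_add, LinearMap.add_apply]

/-- slicing a tensor whose right factors lie in `V` only depends on the functional on `V` -/
theorem sliceR_congr_on (V : Submodule k H') (g g' : H' →ₗ[k] k) (hg : ∀ v ∈ V, g v = g' v)
    {x : H ⊗[k] H'}
    (hx : x ∈ Submodule.span k {x : H ⊗[k] H' | ∃ m : H, ∃ n ∈ V, x = m ⊗ₜ[k] n}) :
    sliceR g x = sliceR g' x := by
  induction hx using Submodule.span_induction with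
  | mem x hx =>
    obtain ⟨m, n, hn, rfl⟩ := hx
    rw [sliceR_tmul, sliceR_tmul, hg n hn]
  | zero => rw [map_zero, map_zero]
  | add x y _ _ hx hy => rw [map_add, map_add, hx, hy]
  | smul c x _ hx => rw [map_smul, map_smul, hx]

end Form

section FormAct

variable {k : Type u} [Field k] {R S : Type u} [CommRing R] [Algebra k R] [CommRing S] [Algebra k S]
  {H : Type u} [AddCommGroup H] [Module R H] [Module k H] [IsScalarTower k R H]
  {H' : Type u} [AddCommGroup H'] [Module S H'] [Module k H'] [IsScalarTower k S H']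
  {C : Type u} [AddCommGroup C] [Module R C] [Module k C] [IsScalarTower k R C]
  {C' : Type u} [AddCommGroup C'] [Module S C'] [Module k C'] [IsScalarTower k S C']

/-- the tensor product of two balanced forms is balanced for the action of `R ⊗ S` -/
theorem tensorForm_act (b : H →ₗ[k] C →ₗ[k] k) (b' : H' →ₗ[k] C' →ₗ[k] k)
    (hb : ∀ (r : R) (h : H) (c : C), b (r • h) c = b h (r • c))
    (hb' : ∀ (s : S) (h : H') (c : C'), b' (s • h) c = b' h (s • c))
    (τ : R ⊗[k] S) (x : H ⊗[k] H') (y : C ⊗[k] C') :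
    tensorForm b b' (GrSeg.act k R S H H' τ x) y = tensorForm b b' x (GrSeg.act k R S C C' τ y) := by
  induction τ using TensorProduct.induction_on with
  | zero => simp
  | add τ τ' h1 h2 =>
    rw [map_add, LinearMap.add_apply, map_add, LinearMap.add_apply, h1, h2, map_add,
      LinearMap.add_apply, map_add]
  | tmul r s =>
    induction x using TensorProduct.induction_on with
    | zero => simp
    | add x x' h1 h2 => rw [map_add, map_add, LinearMap.add_apply, h1, h2, map_add, LinearMap.add_apply]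
    | tmul h h' =>
      induction y using TensorProduct.induction_on with
      | zero => simp
      | add y y' h1 h2 => rw [map_add, h1, h2, map_add, map_add]
      | tmul c c' =>
        rw [GrSeg.act_tmul, GrSeg.act_tmul, tensorForm_tmul, tensorForm_tmul, hb, hb']

end FormAct

section Pieces

variable {k R : Type u} [Field k] [CommRing R] [Nontrivial R] [Algebra k R] (𝒜 : ℤ → Submodule k R)
  [GradedAlgebra 𝒜] (h0 : 𝒜 0 = Submodule.span k {(1 : R)})
  {M : Type u} [AddCommGroup M] [Module R M] [Module k M] [IsScalarTower k R M]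
  (ℳ : ℤ → AddSubgroup M) [SetLike.GradedSMul 𝒜 ℳ]

include h0 in
theorem finrank_pieceK (d : ℤ) :
    Module.finrank k ↥(pieceK 𝒜 ℳ d) = Module.finrank (GrLC.deg0 𝒜) ↥(GrLC.comp 𝒜 ℳ d) := by
  let j : ↥(pieceK 𝒜 ℳ d) ≃+ ↥(GrLC.comp 𝒜 ℳ d) :=
    { toFun := fun x => ⟨x.1, x.2⟩
      invFun := fun x => ⟨x.1, x.2⟩
      left_inv := fun _ => rfl
      right_inv := fun _ => rfl
      map_add' := fun _ _ => rfl }
  have hj : ∀ (c : k) (x : ↥(pieceK 𝒜 ℳ d)), j (c • x) = kToDeg0S 𝒜 c • j x := by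
    intro c x
    apply Subtype.ext
    show c • (x : M) = (kToDeg0S 𝒜 c) • (x : M)
    exact (algebraMap_smul R c (x : M)).symm
  exact congrArg Cardinal.toNat
    (rank_eq_of_equiv_equiv (kToDeg0S 𝒜) j (kToDeg0S_bijective h0) hj)

end Pieces

section SegDim

variable {k : Type u} [Field k] {R S T : Type u} [CommRing R] [Nontrivial R] [Algebra k R]
  [CommRing S] [Nontrivial S] [Algebra k S] [CommRing T] [Nontrivial T] [Algebra k T]
  (𝒜 : ℤ → Submodule k R) [GradedAlgebra 𝒜] (ℬ : ℤ → Submodule k S) [GradedAlgebra ℬ]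
  (𝒯 : ℤ → Submodule k T) [GradedAlgebra 𝒯] (ψ : T →ₐ[k] R ⊗[k] S)
  (h0R : 𝒜 0 = Submodule.span k {(1 : R)}) (h0S : ℬ 0 = Submodule.span k {(1 : S)})
  (h0T : 𝒯 0 = Submodule.span k {(1 : T)})
  {M : Type u} [AddCommGroup M] [Module R M] [Module k M] [IsScalarTower k R M]
  (ℳ : ℤ → AddSubgroup M) [SetLike.GradedSMul 𝒜 ℳ]
  {N : Type u} [AddCommGroup N] [Module S N] [Module k N] [IsScalarTower k S N]
  (𝒩 : ℤ → AddSubgroup N) [SetLike.GradedSMul ℬ 𝒩]
  {P : Type u} [AddCommGroup P] [Module T P] [Module k P] [IsScalarTower k T P]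
  (𝒬 : ℤ → AddSubgroup P) [DirectSum.Decomposition 𝒬] [SetLike.GradedSMul 𝒯 𝒬]
  (φ : P →ₗ[k] M ⊗[k] N) (hP : GrSeg.IsSegreMod ψ ℳ 𝒩 𝒬 φ)

include h0R h0S h0T hP in
/-- the pieces of a Segre product of graded modules have the product dimension -/
theorem finrank_comp_segre (d : ℤ) :
    Module.finrank (GrLC.deg0 𝒯) ↥(GrLC.comp 𝒯 𝒬 d) =
      Module.finrank (GrLC.deg0 𝒜) ↥(GrLC.comp 𝒜 ℳ d) *
        Module.finrank (GrLC.deg0 ℬ) ↥(GrLC.comp ℬ 𝒩 d) := by
  rw [← finrank_pieceK 𝒯 h0T 𝒬 d, ← finrank_pieceK 𝒜 h0R ℳ d, ← finrank_pieceK ℬ h0S 𝒩 d]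
  have h1 : (pieceK 𝒯 𝒬 d).map φ = GrSeg.segrePiece k ℳ 𝒩 d := by
    apply SetLike.coe_injective
    rw [Submodule.map_coe]
    exact hP.image_piece d
  have h2 : Module.finrank k ↥((pieceK 𝒯 𝒬 d).map φ) = Module.finrank k ↥(pieceK 𝒯 𝒬 d) :=
    (LinearEquiv.finrank_eq (Submodule.equivMapOfInjective φ hP.injective (pieceK 𝒯 𝒬 d))).symm
  rw [← h2, h1]
  exact finrank_span_tmul (pieceK 𝒜 ℳ d) (pieceK ℬ 𝒩 d)

end SegDim

end Groth.Agent.Helper7.SegDu
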