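import Mathlib
import Groth.Prelude.Def_GrLC
import Groth.Prelude.Def_CAlg
import Groth.Prelude.Def_Wider
import Groth.Prelude.Def_GrSeg
import Groth.Agent.Helper7.SegDu4
import Groth.Agent.Helper7.SegDu12
import Groth.Agent.Helper7.SegDu13
import Groth.Agent.Helper7.SegDu14
import Groth.Agent.Helper9.SegreMod

/-!
# Segre products and nondegenerate pairings, part 15: the Segre product of *canonical modules of two graded rings
of dimensions `≥ 2` defined over a field is a *canonical module of the Segre product (helper7)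
-/

set_option autoImplicit false
set_option linter.unusedSectionVars false
set_option linter.style.haveILetI false

namespace Groth.Agent.Helper7.SegDu

open TensorProduct DirectSum Groth.Agent.Helper7.Kun Groth.Agent.Helper7.VerGor
  Groth.Agent.Helper7.SegDim Groth.Agent.Helper7.GrCM Groth.Agent.Helper7.KunMd
  Groth.Agent.Helper7.GrDu

universe u

attribute [local instance] gmodModuleK gmodTowerK

section Main

variable {k : Type u} [Field k] {R : Type u} [CommRing R] [Algebra k R]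
  {𝒜 : ℤ → Submodule k R} [GradedAlgebra 𝒜]
  (hposR : ∀ n : ℤ, n < 0 → 𝒜 n = ⊥) (h0R : 𝒜 0 = Submodule.span k {(1 : R)})
  [Algebra.FiniteType k R]
  {S : Type u} [CommRing S] [Algebra k S]
  {ℬ : ℤ → Submodule k S} [GradedAlgebra ℬ]
  (hposS : ∀ n : ℤ, n < 0 → ℬ n = ⊥) (h0S : ℬ 0 = Submodule.span k {(1 : S)})
  [Algebra.FiniteType k S]
  {T : Type u} [CommRing T] [Algebra k T] (𝒯 : ℤ → Submodule k T) [GradedAlgebra 𝒯]
  (ψ : T →ₐ[k] R ⊗[k] S) (hT : GrSeg.IsSegreRing 𝒜 ℬ 𝒯 ψ)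
  (mR : HomogeneousIdeal 𝒜)
  (hmR : mR.toIdeal = Ideal.span (⋃ n ∈ Set.Ioi (0 : ℤ), (𝒜 n : Set R)))
  (I : GrLC.StarInjRes 𝒜 𝒜)
  (mS : HomogeneousIdeal ℬ)
  (hmS : mS.toIdeal = Ideal.span (⋃ n ∈ Set.Ioi (0 : ℤ), (ℬ n : Set S)))
  (J : GrLC.StarInjRes ℬ ℬ)
  (mT : HomogeneousIdeal 𝒯)
  (hmT : mT.toIdeal = Ideal.span (⋃ n ∈ Set.Ioi (0 : ℤ), (𝒯 n : Set T)))
  (IT : GrLC.StarInjRes 𝒯 𝒯)
  {ER : Type u} [AddCommGroup ER] [Module R ER] (𝓔R : ℤ → AddSubgroup ER) [Decomposition 𝓔R]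
  [SetLike.GradedSMul 𝒜 𝓔R]
  (eR : (R ⧸ mR.toIdeal) →ₗ[R] ER) (heR : GrLC.IsStarInjHull 𝒜 (GrLC.quotGr 𝒜 mR) 𝓔R eR)
  {CR : Type u} [AddCommGroup CR] [Module R CR] [Module k CR] [IsScalarTower k R CR]
  (𝒞R : ℤ → AddSubgroup CR) [Decomposition 𝒞R] [SetLike.GradedSMul 𝒜 𝒞R]
  {ES : Type u} [AddCommGroup ES] [Module S ES] (𝓔S : ℤ → AddSubgroup ES) [Decomposition 𝓔S]
  [SetLike.GradedSMul ℬ 𝓔S]
  (eS : (S ⧸ mS.toIdeal) →ₗ[S] ES) (heS : GrLC.IsStarInjHull ℬ (GrLC.quotGr ℬ mS) 𝓔S eS)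
  {CS : Type u} [AddCommGroup CS] [Module S CS] [Module k CS] [IsScalarTower k S CS]
  (𝒞S : ℤ → AddSubgroup CS) [Decomposition 𝒞S] [SetLike.GradedSMul ℬ 𝒞S]
  {ET : Type u} [AddCommGroup ET] [Module T ET] (𝓔T : ℤ → AddSubgroup ET) [Decomposition 𝓔T]
  [SetLike.GradedSMul 𝒯 𝓔T]
  (eT : (T ⧸ mT.toIdeal) →ₗ[T] ET) (heT : GrLC.IsStarInjHull 𝒯 (GrLC.quotGr 𝒯 mT) 𝓔T eT)
  {P : Type u} [AddCommGroup P] [Module T P] [Module k P] [IsScalarTower k T P]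
  (𝒬 : ℤ → AddSubgroup P) [Decomposition 𝒬] [SetLike.GradedSMul 𝒯 𝒬]
  (φ : P →ₗ[k] CR ⊗[k] CS) (hP : GrSeg.IsSegreMod ψ 𝒞R 𝒞S 𝒬 φ)

include hposR h0R hposS h0S hT hmR hmS hmT heR heS heT hP in
/-- **the Segre product of *canonical modules is a *canonical module of the Segre product** -/
theorem canonical_segre (r s : ℕ) (hr : ringKrullDim R = r) (hs : ringKrullDim S = s)
    (h2r : 2 ≤ r) (h2s : 2 ≤ s)
    (hCR : GrLC.IsStarCanonical 𝒜 𝒞R 𝓔R mR r I) (hCS : GrLC.IsStarCanonical ℬ 𝒞S 𝓔S mS s J) :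
    GrLC.IsStarCanonical 𝒯 𝒬 𝓔T mT (r + s - 1) IT := by
  classical
  haveI : IsNoetherianRing R := Algebra.FiniteType.isNoetherianRing k R
  haveI : IsNoetherianRing S := Algebra.FiniteType.isNoetherianRing k S
  haveI : Nontrivial R := by
    by_contra hcon
    rw [not_nontrivial_iff_subsingleton] at hcon
    rw [ringKrullDim_eq_bot_of_subsingleton] at hr
    exact WithBot.bot_ne_coe hr
  haveI : Nontrivial S := by
    by_contra hcon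
    rw [not_nontrivial_iff_subsingleton] at hcon
    rw [ringKrullDim_eq_bot_of_subsingleton] at hs
    exact WithBot.bot_ne_coe hs
  haveI : Nontrivial T := nontrivial_segre 𝒯 ψ hT
  haveI : IsNoetherianRing T := noeth_segre 𝒯 ψ hT
  have hposT : ∀ n : ℤ, n < 0 → 𝒯 n = ⊥ :=
    Groth.Agent.Helper7.SegOne.segre_hpos 𝒜 ℬ 𝒯 ψ hT.1 hT.2 hposR
  have h0T : 𝒯 0 = Submodule.span k {(1 : T)} :=
    Groth.Agent.Helper7.SegOne.segre_h0 𝒜 ℬ 𝒯 ψ hT.1 hT.2 h0R h0S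
  haveI : Algebra.FiniteType k T := Groth.Agent.Helper7.SegOne.finiteType_of_noeth 𝒯 hposT h0T
  haveI : SetLike.GradedSMul 𝒯 (plus 𝒯) := gradedSMul_self 𝒯
  haveI : SetLike.GradedSMul (plus 𝒯) 𝓔T := gradedSMul_plus 𝒯 𝓔T
  haveI : SetLike.GradedSMul (plus 𝒯) 𝒬 := gradedSMul_plus 𝒯 𝒬
  obtain ⟨a', rfl⟩ : ∃ a' : ℕ, r = a' + 2 := ⟨r - 2, by omega⟩
  obtain ⟨b', rfl⟩ : ∃ b' : ℕ, s = b' + 2 := ⟨s - 2, by omega⟩
  have en : a' + 2 + (b' + 2) - 1 = a' + b' + 2 + 1 := by omega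
  rw [en]
  set n : ℕ := a' + b' + 2 + 1 with hn
  haveI finCR : Module.Finite R CR := hCR.1
  haveI finCS : Module.Finite S CS := hCS.1
  haveI finP : Module.Finite T P :=
    Groth.Agent.Helper9.SegreMod.main k R 𝒜 S ℬ T 𝒯 ψ hT CR 𝒞R CS 𝒞S P 𝒬 φ hP
  refine ⟨finP, ?_⟩
  set IT' : GrLC.StarInjRes (plus 𝒯) (plus 𝒯) := resPlus 𝒯 (resSelf 𝒯 IT) with hIT'
  have hposT' : ∀ n : ℤ, n < 0 → plus 𝒯 n = ⊥ := hpos_plus hposT
  have h0T' : IsField (GrLC.deg0 (plus 𝒯)) := deg0_isField h0T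
  have hmT' : GrLC.IsStarLocal (plus 𝒯) (idealPlus 𝒯 mT) := isStarLocal_idealPlus 𝒯 hposT h0T mT hmT
  letI decT : Decomposition (IT.Hgr mT n) := (isInternal_HgrS 𝒯 IT mT n).chooseDecomposition
  letI : SetLike.GradedSMul 𝒜 (I.Hgr mR (a' + 1 + 1)) := gradedSMul_HgrS 𝒜 I mR (a' + 1 + 1)
  letI : SetLike.GradedSMul ℬ (J.Hgr mS (b' + 1 + 1)) := gradedSMul_HgrS ℬ J mS (b' + 1 + 1)
  obtain ⟨φ', hφ'⟩ := kunneth_top_module hposR h0R hposS h0S 𝒯 ψ hT mR hmR mS hmS mT hmT I J IT a' b'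
    hr hs
  letI : SetLike.GradedSMul (plus 𝒯) (IT'.Hgr (idealPlus 𝒯 mT) n) :=
    Groth.Agent.Helper7.GrStarLoc.gradedSMul_Hgr (plus 𝒯) IT' (idealPlus 𝒯 mT) n
  letI decT' : Decomposition (IT'.Hgr (idealPlus 𝒯 mT) n) := decT
  -- the two pairings
  obtain ⟨PR⟩ := nonempty_kPair 𝒜 hposR h0R mR hmR 𝓔R eR heR 𝒞R I (a' + 1 + 1) hCR
  obtain ⟨PS⟩ := nonempty_kPair ℬ hposS h0S mS hmS 𝓔S eS heS 𝒞S J (b' + 1 + 1) hCS
  -- the pairing on the Segre product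
  let β : I.H mR (a' + 1 + 1) ⊗[k] J.H mS (b' + 1 + 1) →ₗ[k] CR ⊗[k] CS →ₗ[k] k :=
    tensorForm PR.b PS.b
  let L : IT.H mT n →ₗ[k] P →ₗ[k] T := (β.compl₁₂ φ' φ).compr₂ (Algebra.linearMap k T)
  have hLapp : ∀ h p, L h p = algebraMap k T (β (φ' h) (φ p)) := fun h p => rfl
  let B : IT.H mT n →+ P →+ T :=
    { toFun := fun h => (L h).toAddMonoidHom
      map_zero' := by ext p; simp
      map_add' := fun h h' => by ext p; simp }
  have hBapp : ∀ h p, B h p = algebraMap k T (β (φ' h) (φ p)) := fun h p => rfl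
  have hmem : ∀ h p, B h p ∈ plus 𝒯 0 := fun h p => SetLike.algebraMap_mem_graded 𝒯 _
  have hsmul : ∀ (t : T) h p, B (t • h) p = B h (t • p) := by
    intro t h p
    rw [hBapp, hBapp, hφ'.map_smul, hP.map_smul]
    exact congrArg _ (tensorForm_act PR.b PS.b PR.bal PS.bal (ψ t) (φ' h) (φ p))
  have hsmul0 : ∀ a ∈ plus 𝒯 0, ∀ h p, B (a • h) p = a * B h p := by
    intro a ha h p
    have ha' : a ∈ 𝒯 0 := ha
    rw [h0T, Submodule.mem_span_singleton] at ha'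
    obtain ⟨c, rfl⟩ := ha'
    rw [smul_assoc, one_smul, hBapp, hBapp, map_smul, map_smul, LinearMap.smul_apply, smul_eq_mul,
      map_mul, smul_mul_assoc, one_mul, Algebra.smul_def]
  -- nondegeneracy on the left
  have hL : ∀ j : ℤ, ∀ h ∈ IT'.Hgr (idealPlus 𝒯 mT) n j, (∀ p ∈ 𝒬 (-j), B h p = 0) → h = 0 := by
    intro j h hh hvan
    by_contra hne
    have hx0 : φ' h ≠ 0 := fun h0 => hne (hφ'.injective (h0.trans (map_zero φ').symm))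
    have hx : φ' h ∈ GrSeg.segrePiece k (I.Hgr mR (a' + 1 + 1)) (J.Hgr mS (b' + 1 + 1)) j := by
      have h1 : φ' h ∈ φ' '' (IT.Hgr mT n j : Set (IT.H mT n)) := ⟨h, hh, rfl⟩
      rw [hφ'.image_piece j] at h1
      exact h1
    obtain ⟨g, hg⟩ := exists_sliceR_ne_zero hx0
    obtain ⟨w', hw', hw'g⟩ := PS.rep j g
    have hv : sliceR g (φ' h) ∈ pieceK 𝒜 (I.Hgr mR (a' + 1 + 1)) j := by
      refine sliceR_mem (pieceK 𝒜 (I.Hgr mR (a' + 1 + 1)) j) g (Submodule.span_mono ?_ hx)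
      rintro x ⟨m, hm, n', -, rfl⟩
      exact ⟨m, hm, n', rfl⟩
    have hveq : sliceR (PS.b.flip w') (φ' h) = sliceR g (φ' h) := by
      refine sliceR_congr_on (pieceK ℬ (J.Hgr mS (b' + 1 + 1)) j) _ _ (fun v hv => ?_)
        (Submodule.span_mono ?_ hx)
      · rw [LinearMap.flip_apply]
        exact hw'g v hv
      · rintro x ⟨m, -, n', hn', rfl⟩
        exact ⟨m, n', hn', rfl⟩
    obtain ⟨w, hw, hwne⟩ := PR.left j _ hv hg
    have hww : w ⊗ₜ[k] w' ∈ GrSeg.segrePiece k 𝒞R 𝒞S (-j) :=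
      Submodule.subset_span ⟨w, hw, w', hw', rfl⟩
    have hww' : w ⊗ₜ[k] w' ∈ φ '' (𝒬 (-j) : Set P) := by
      rw [hP.image_piece (-j)]
      exact hww
    obtain ⟨p, hp, hpe⟩ := hww'
    have h1 := hvan p hp
    rw [hBapp, hpe] at h1
    have h2 : β (φ' h) (w ⊗ₜ[k] w') = 0 := by
      apply (algebraMap k T).injective
      rw [h1, map_zero]
    apply hwne
    rw [← hveq]
    rw [← tensorForm_slice PR.b PS.b (φ' h) w w']
    exact h2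
  -- finiteness and the dimension count
  have hfin : ∀ j : ℤ, Module.Finite (GrLC.deg0 (plus 𝒯))
      (GrLC.comp (plus 𝒯) (IT'.Hgr (idealPlus 𝒯 mT) n) j) := by
    intro e
    exact finite_Hcomp hposT mT hmT (resSelf 𝒯 IT) e n
  have hKun : ∀ e : ℤ, Module.finrank (GrLC.deg0 𝒯) (IT.Hcomp mT n e) =
      Module.finrank (GrLC.deg0 𝒜) (I.Hcomp mR (a' + 2) e) *
        Module.finrank (GrLC.deg0 ℬ) (J.Hcomp mS (b' + 2) e) := by
    intro e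
    have h := kunneth_top hposR h0R hposS h0S 𝒯 ψ hT mR hmR mS hmS mT hmT I J IT (a' + 2) (b' + 2)
      hr hs (by omega) (by omega) e
    rw [en] at h
    exact h
  have hdim : ∀ j : ℤ, Module.finrank (GrLC.deg0 (plus 𝒯))
      (GrLC.comp (plus 𝒯) (IT'.Hgr (idealPlus 𝒯 mT) n) j) =
      Module.finrank (GrLC.deg0 (plus 𝒯)) (GrLC.comp (plus 𝒯) 𝒬 (-j)) := by
    intro j
    have htj : -j + j = 0 := by omega
    have h1 : Module.finrank (GrLC.deg0 𝒯) (GrLC.comp 𝒯 𝒬 (-j)) =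
        Module.finrank (GrLC.deg0 𝒜) (GrLC.comp 𝒜 𝒞R (-j)) *
          Module.finrank (GrLC.deg0 ℬ) (GrLC.comp ℬ 𝒞S (-j)) :=
      finrank_comp_segre 𝒜 ℬ 𝒯 ψ h0R h0S h0T 𝒞R 𝒞S 𝒬 φ hP (-j)
    have h2 := finrank_comp_of_isStarCanonical_sub 𝒜 hposR h0R mR hmR 𝓔R eR heR 𝒞R I (a' + 2) hCR htj
    have h3 := finrank_comp_of_isStarCanonical_sub ℬ hposS h0S mS hmS 𝓔S eS heS 𝒞S J (b' + 2) hCS htj
    rw [h2, h3, ← hKun j] at h1
    exact h1.symm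
  obtain ⟨Θ, hΘ⟩ := iso_of_pairing (plus 𝒯) hposT' h0T' (idealPlus 𝒯 mT) hmT'.1 𝓔T eT
    (isStarInjHull_plus 𝒯 mT 𝓔T eT heT) 𝒬 (IT'.Hgr (idealPlus 𝒯 mT) n) B hmem hsmul hsmul0 hL hfin hdim
  exact ⟨Θ, fun d f hf => hΘ d f hf⟩

end Main

end Groth.Agent.Helper7.SegDu
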