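import Mathlib
import Groth.Agent.Helper7.SegOneF
import Groth.Agent.Helper7.SegGorB
import Groth.Agent.Helper7.SegGorD

/-!
# Gorenstein Segre products of one-dimensional standard graded rings (helper7)
-/

set_option autoImplicit false
set_option linter.unusedSectionVars false
universe u

namespace Groth.Agent.Helper7.SegGor

open DirectSum TensorProduct Polynomial Groth.Agent.Helper7.SegDim Groth.Agent.Helper7.SegOne

section Tensor

variable {k R S : Type u} [Field k] [CommRing R] [Algebra k R] [CommRing S] [Algebra k S]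

/-- a functional `f ⊗ id` on `R ⊗ S` killing `(x ⊗ y)` and detecting `a ∉ (x)` -/
theorem exists_kill_left {x a : R} (y : S) (ha : a ∉ Ideal.span {x}) :
    ∃ (f : R →ₗ[k] k) (Λ : R ⊗[k] S →ₗ[k] S), f a ≠ 0 ∧ (∀ r, f (x * r) = 0) ∧
      (∀ r b, Λ (r ⊗ₜ[k] b) = f r • b) ∧ ∀ v, Λ (v * (x ⊗ₜ[k] y)) = 0 := by
  let W : Submodule k R := LinearMap.range (LinearMap.mulLeft k x)
  have haW : a ∉ W := by
    rintro ⟨r, hr⟩
    apply ha
    rw [Ideal.mem_span_singleton']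
    exact ⟨r, by rw [← hr, LinearMap.mulLeft_apply, mul_comm]⟩
  obtain ⟨f, hfa, hfW⟩ := Submodule.exists_dual_map_eq_bot_of_notMem haW inferInstance
  let Λ : R ⊗[k] S →ₗ[k] S := (TensorProduct.lid k S).toLinearMap ∘ₗ (LinearMap.rTensor S f)
  have hΛ : ∀ (r : R) (b : S), Λ (r ⊗ₜ[k] b) = f r • b := by
    intro r b
    simp [Λ]
  have hfx : ∀ r : R, f (x * r) = 0 := by
    intro r
    have : f (x * r) ∈ W.map f := ⟨x * r, ⟨r, rfl⟩, rfl⟩
    rw [hfW] at this
    exact (Submodule.mem_bot k).1 this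
  refine ⟨f, Λ, hfa, hfx, hΛ, ?_⟩
  intro v
  induction v using TensorProduct.induction_on with
  | zero => simp
  | tmul r b => rw [Algebra.TensorProduct.tmul_mul_tmul, hΛ, mul_comm r x, hfx, zero_smul]
  | add v w hv hw => rw [add_mul, map_add, hv, hw, add_zero]

/-- a functional `id ⊗ g` on `R ⊗ S` killing `(x ⊗ y)` and detecting `b ∉ (y)` -/
theorem exists_kill_right (x : R) {y b : S} (hb : b ∉ Ideal.span {y}) :
    ∃ (g : S →ₗ[k] k) (Λ : R ⊗[k] S →ₗ[k] R), g b ≠ 0 ∧ (∀ s, g (y * s) = 0) ∧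
      (∀ r s, Λ (r ⊗ₜ[k] s) = g s • r) ∧ ∀ v, Λ (v * (x ⊗ₜ[k] y)) = 0 := by
  let W : Submodule k S := LinearMap.range (LinearMap.mulLeft k y)
  have hbW : b ∉ W := by
    rintro ⟨r, hr⟩
    apply hb
    rw [Ideal.mem_span_singleton']
    exact ⟨r, by rw [← hr, LinearMap.mulLeft_apply, mul_comm]⟩
  obtain ⟨g, hgb, hgW⟩ := Submodule.exists_dual_map_eq_bot_of_notMem hbW inferInstance
  let Λ : R ⊗[k] S →ₗ[k] R := (TensorProduct.rid k R).toLinearMap ∘ₗ (LinearMap.lTensor R g)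
  have hΛ : ∀ (r : R) (s : S), Λ (r ⊗ₜ[k] s) = g s • r := by
    intro r s
    simp [Λ]
  have hgy : ∀ s : S, g (y * s) = 0 := by
    intro s
    have : g (y * s) ∈ W.map g := ⟨y * s, ⟨s, rfl⟩, rfl⟩
    rw [hgW] at this
    exact (Submodule.mem_bot k).1 this
  refine ⟨g, Λ, hgb, hgy, hΛ, ?_⟩
  intro v
  induction v using TensorProduct.induction_on with
  | zero => simp
  | tmul r s => rw [Algebra.TensorProduct.tmul_mul_tmul, hΛ, mul_comm s y, hgy, zero_smul]
  | add v w hv hw => rw [add_mul, map_add, hv, hw, add_zero]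

/-- the two socle elements `a ⊗ s` and `x r ⊗ b` are independent modulo `(x ⊗ y)` -/
theorem indep_tmul {x a r : R} {y b s : S} (ha : a ∉ Ideal.span {x}) (hb : b ∉ Ideal.span {y})
    (hs : s ≠ 0) (hr : x * r ≠ 0) (α β : k)
    (h : α • (a ⊗ₜ[k] s) + β • ((x * r) ⊗ₜ[k] b) ∈ Ideal.span {x ⊗ₜ[k] y}) : α = 0 ∧ β = 0 := by
  obtain ⟨v, hv⟩ := Ideal.mem_span_singleton'.1 h
  obtain ⟨f, Λ₁, hfa, hfx, hΛ₁, hkill₁⟩ := exists_kill_left (k := k) y ha
  obtain ⟨g, Λ₂, hgb, hgy, hΛ₂, hkill₂⟩ := exists_kill_right (k := k) x hb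
  have h1 := hkill₁ v
  rw [hv, map_add, map_smul, map_smul, hΛ₁, hΛ₁, hfx, zero_smul, smul_zero, add_zero, smul_smul] at h1
  have hα : α = 0 := by
    rcases smul_eq_zero.1 h1 with h | h
    · exact (mul_eq_zero.1 h).resolve_right hfa
    · exact absurd h hs
  have h2 := hkill₂ v
  rw [hv, hα, zero_smul, zero_add, map_smul, hΛ₂, smul_smul] at h2
  refine ⟨hα, ?_⟩
  rcases smul_eq_zero.1 h2 with h | h
  · exact (mul_eq_zero.1 h).resolve_right hgb
  · exact absurd h hr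

end Tensor

end Groth.Agent.Helper7.SegGor
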