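import Mathlib
import Groth.Agent.Helper7.SegGorE

/-!
# Gorenstein Segre products of one-dimensional standard graded rings: socle elements (helper7)
-/

set_option autoImplicit false
set_option linter.unusedSectionVars false
universe u

namespace Groth.Agent.Helper7.SegGor

open DirectSum TensorProduct Polynomial Groth.Agent.Helper7.SegDim Groth.Agent.Helper7.SegOne

section Main

variable {k R S T : Type u} [Field k] [CommRing R] [Algebra k R] (𝒜 : ℤ → Submodule k R)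
  [GradedAlgebra 𝒜] [CommRing S] [Algebra k S] (ℬ : ℤ → Submodule k S) [GradedAlgebra ℬ]
  [CommRing T] [Algebra k T] (𝒯 : ℤ → Submodule k T) [GradedAlgebra 𝒯]
  (ψ : T →ₐ[k] R ⊗[k] S) (hψ : Function.Injective ψ)
  (hdegT : ∀ n : ℤ, (𝒯 n).map ψ.toLinearMap =
    Submodule.span k {x : R ⊗[k] S | ∃ a ∈ 𝒜 n, ∃ b ∈ ℬ n, x = a ⊗ₜ[k] b})

/-- the swapped presentation of the Segre product -/
noncomputable def swap : T →ₐ[k] S ⊗[k] R :=
  (Algebra.TensorProduct.comm k R S).toAlgHom.comp ψ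

theorem swap_apply (u : T) : swap ψ u = Algebra.TensorProduct.comm k R S (ψ u) := rfl

include hψ in
theorem swap_injective : Function.Injective (swap ψ) :=
  (Algebra.TensorProduct.comm k R S).injective.comp hψ

include hdegT in
theorem swap_hdeg (n : ℤ) : (𝒯 n).map (swap ψ).toLinearMap =
    Submodule.span k {x : S ⊗[k] R | ∃ b ∈ ℬ n, ∃ a ∈ 𝒜 n, x = b ⊗ₜ[k] a} := by
  have h1 : (swap ψ).toLinearMap =
      (Algebra.TensorProduct.comm k R S).toAlgHom.toLinearMap ∘ₗ ψ.toLinearMap := rfl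
  rw [h1, Submodule.map_comp, hdegT, Submodule.map_span]
  congr 1
  ext z
  constructor
  · rintro ⟨_, ⟨a, ha, b, hb, rfl⟩, rfl⟩
    exact ⟨b, hb, a, ha, rfl⟩
  · rintro ⟨b, hb, a, ha, rfl⟩
    exact ⟨a ⊗ₜ[k] b, ⟨a, ha, b, hb, rfl⟩, rfl⟩

include hψ hdegT in
/-- a socle element of `R` modulo `x` gives a socle element of `T = R # S` modulo `t = x ⊗ y` -/
theorem exists_socle_segre {e j : ℕ} {x a : R} {y b₀ : S}
    (hy : y ∈ ℬ (e : ℤ))
    (ha : a ∈ 𝒜 ((j + e : ℕ) : ℤ))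
    (hsoc : ∀ i : ℕ, 0 < i → ∀ a' ∈ 𝒜 (i : ℤ), ∃ a'' ∈ 𝒜 ((i + j : ℕ) : ℤ), a' * a = x * a'')
    (hb₀ : b₀ ∈ ℬ (j : ℤ)) (t : T) (hψt : ψ t = x ⊗ₜ[k] y) :
    ∃ w : T, ψ w = a ⊗ₜ[k] (y * b₀) ∧ ∀ u ∈ irr 𝒯, u * w ∈ Ideal.span {t} := by
  have hyb : y * b₀ ∈ ℬ ((j + e : ℕ) : ℤ) := by
    have := SetLike.mul_mem_graded hy hb₀
    rwa [add_comm, ← Nat.cast_add] at this
  have h2 : a ⊗ₜ[k] (y * b₀) ∈ (𝒯 ((j + e : ℕ) : ℤ)).map ψ.toLinearMap := by
    rw [hdegT]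
    exact Submodule.subset_span ⟨a, ha, _, hyb, rfl⟩
  obtain ⟨w, hw, hψw⟩ := h2
  rw [AlgHom.toLinearMap_apply] at hψw
  refine ⟨w, hψw, ?_⟩
  intro u hu
  unfold irr at hu
  induction hu using Submodule.span_induction with
  | mem u hu =>
    obtain ⟨i, hi, hui⟩ := hu
    obtain ⟨i', rfl⟩ := Int.eq_ofNat_of_zero_le hi.le
    have hi' : 0 < i' := by exact_mod_cast hi
    have h3 : ψ u ∈ (𝒯 (i' : ℤ)).map ψ.toLinearMap := ⟨u, hui, rfl⟩
    rw [hdegT] at h3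
    have h4 : ∀ m ∈ Submodule.span k {x' : R ⊗[k] S | ∃ a' ∈ 𝒜 (i' : ℤ), ∃ b' ∈ ℬ (i' : ℤ), x' = a' ⊗ₜ[k] b'},
        ∃ v : T, m * ψ w = ψ t * ψ v := by
      intro m hm
      induction hm using Submodule.span_induction with
      | mem m hm =>
        obtain ⟨a', ha', b', hb', rfl⟩ := hm
        obtain ⟨a'', ha'', haa⟩ := hsoc i' hi' a' ha'
        have hbb : b' * b₀ ∈ ℬ ((i' + j : ℕ) : ℤ) := by
          have := SetLike.mul_mem_graded hb' hb₀
          rwa [← Nat.cast_add] at this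
        have h5 : a'' ⊗ₜ[k] (b' * b₀) ∈ (𝒯 ((i' + j : ℕ) : ℤ)).map ψ.toLinearMap := by
          rw [hdegT]
          exact Submodule.subset_span ⟨a'', ha'', _, hbb, rfl⟩
        obtain ⟨v, -, hv⟩ := h5
        rw [AlgHom.toLinearMap_apply] at hv
        refine ⟨v, ?_⟩
        rw [hψw, hψt, hv, Algebra.TensorProduct.tmul_mul_tmul, Algebra.TensorProduct.tmul_mul_tmul,
          haa]
        congr 1
        ring
      | zero => exact ⟨0, by rw [zero_mul, map_zero, mul_zero]⟩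
      | add m m' _ _ hm hm' =>
        obtain ⟨v, hv⟩ := hm
        obtain ⟨v', hv'⟩ := hm'
        exact ⟨v + v', by rw [add_mul, hv, hv', map_add, mul_add]⟩
      | smul c m _ hm =>
        obtain ⟨v, hv⟩ := hm
        exact ⟨c • v, by rw [Algebra.smul_mul_assoc, hv, map_smul, Algebra.mul_smul_comm]⟩
    obtain ⟨v, hv⟩ := h4 _ h3
    rw [Ideal.mem_span_singleton']
    refine ⟨v, hψ ?_⟩
    rw [map_mul, map_mul, hv, mul_comm]
  | zero => rw [zero_mul]; exact zero_mem _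
  | add u u' _ _ hu hu' => rw [add_mul]; exact add_mem hu hu'
  | smul r u _ hu => rw [smul_eq_mul, mul_assoc]; exact Ideal.mul_mem_left _ r hu

end Main

end Groth.Agent.Helper7.SegGor
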