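import Mathlib
import Groth.Agent.Helper7.SegGorF

/-!
# Gorenstein Segre products of one-dimensional standard graded rings: main theorem (helper7)
-/

set_option autoImplicit false
set_option linter.unusedSectionVars false
universe u

namespace Groth.Agent.Helper7.SegGor

open DirectSum TensorProduct Polynomial Groth.Agent.Helper7.SegDim Groth.Agent.Helper7.SegOne

/-- **Gorenstein Segre products in dimension one**: if `R`, `S` are standard graded Cohen–Macaulay of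
dimension one, `R` not a polynomial ring and `R # S` Gorenstein, then `S` is a polynomial ring and
`R` is Gorenstein. -/
theorem main_gor (k : Type u) [Field k] (R : Type u) [CommRing R] [Algebra k R]
    (𝒜 : ℤ → Submodule k R) [GradedAlgebra 𝒜] (hposR : ∀ n : ℤ, n < 0 → 𝒜 n = ⊥)
    (h0R : 𝒜 0 = Submodule.span k {(1 : R)}) [Algebra.FiniteType k R] (S : Type u) [CommRing S]
    [Algebra k S] (ℬ : ℤ → Submodule k S) [GradedAlgebra ℬ] (hposS : ∀ n : ℤ, n < 0 → ℬ n = ⊥)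
    (h0S : ℬ 0 = Submodule.span k {(1 : S)}) [Algebra.FiniteType k S] (T : Type u) [CommRing T]
    [Algebra k T] (𝒯 : ℤ → Submodule k T) [GradedAlgebra 𝒯] (ψ : T →ₐ[k] TensorProduct k R S)
    (hψ : Function.Injective ψ)
    (hdegT : ∀ n : ℤ, (𝒯 n).map ψ.toLinearMap =
      Submodule.span k {x : TensorProduct k R S | ∃ a ∈ 𝒜 n, ∃ b ∈ ℬ n, x = a ⊗ₜ[k] b})
    [LocCoh.IsCohenMacaulayRing R] [LocCoh.IsCohenMacaulayRing S]
    (hstdR : Ideal.span (⋃ n ∈ Set.Ioi (0 : ℤ), (𝒜 n : Set R)) = Ideal.span ((𝒜 1 : Submodule k R) : Set R))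
    (hstdS : Ideal.span (⋃ n ∈ Set.Ioi (0 : ℤ), (ℬ n : Set S)) = Ideal.span ((ℬ 1 : Submodule k S) : Set S))
    (hr : ringKrullDim R = 1) (hs : ringKrullDim S = 1) (hR : IsEmpty (R ≃ₐ[k] Polynomial k))
    [hG : LocCoh.IsGorensteinRing T] :
    Nonempty (S ≃ₐ[k] Polynomial k) ∧ LocCoh.IsGorensteinRing R := by
  classical
  have hntR : Nontrivial R := by
    by_contra h
    rw [not_nontrivial_iff_subsingleton] at h
    rw [ringKrullDim_eq_bot_of_subsingleton] at hr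
    exact absurd hr (by simp)
  have hntS : Nontrivial S := by
    by_contra h
    rw [not_nontrivial_iff_subsingleton] at h
    rw [ringKrullDim_eq_bot_of_subsingleton] at hs
    exact absurd hs (by simp)
  have hdimT := Groth.Agent.S18647.result k R 𝒜 hposR h0R S ℬ hposS h0S T 𝒯 ψ hψ hdegT 1 1
    (by rw [hr]; rfl) (by rw [hs]; rfl) le_rfl le_rfl
  have hdimT1 : ringKrullDim T = 1 := by rw [hdimT]; rfl
  have hntT : Nontrivial T := by
    by_contra h
    rw [not_nontrivial_iff_subsingleton] at h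
    rw [ringKrullDim_eq_bot_of_subsingleton] at hdimT
    exact absurd hdimT (by simp)
  have hposT := segre_hpos 𝒜 ℬ 𝒯 ψ hψ hdegT hposR
  have h0T := segre_h0 𝒜 ℬ 𝒯 ψ hψ hdegT h0R h0S
  have hNT : IsNoetherianRing T := hG.toIsNoetherian
  have hmaxT : (irr 𝒯).IsMaximal := irr_isMaximal 𝒯 hposT h0T
  have hS : Nonempty (S ≃ₐ[k] k[X]) := by
    by_contra hnpS
    have hnpR : ¬ Nonempty (R ≃ₐ[k] k[X]) := fun ⟨e⟩ => hR.false e
    obtain ⟨e₁, x₀, he₁, hx₀, hx₀reg⟩ := exists_homog_regular 𝒜 hposR h0R (by rw [hr])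
    obtain ⟨e₂, y₀, he₂, hy₀, hy₀reg⟩ := exists_homog_regular ℬ hposS h0S (by rw [hs])
    obtain ⟨n₁, rfl⟩ := Int.eq_ofNat_of_zero_le he₁.le
    obtain ⟨n₂, rfl⟩ := Int.eq_ofNat_of_zero_le he₂.le
    have hn₁ : 0 < n₁ := by exact_mod_cast he₁
    have hn₂ : 0 < n₂ := by exact_mod_cast he₂
    have hx : x₀ ^ n₂ ∈ 𝒜 ((n₁ * n₂ : ℕ) : ℤ) := by
      have := SetLike.pow_mem_graded n₂ hx₀
      rwa [nsmul_eq_mul, ← Nat.cast_mul, mul_comm] at this
    have hy : y₀ ^ n₁ ∈ ℬ ((n₁ * n₂ : ℕ) : ℤ) := by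
      have := SetLike.pow_mem_graded n₁ hy₀
      rwa [nsmul_eq_mul, ← Nat.cast_mul] at this
    have hxreg : IsSMulRegular R (x₀ ^ n₂) := hx₀reg.pow _
    have hyreg : IsSMulRegular S (y₀ ^ n₁) := hy₀reg.pow _
    have he : 0 < n₁ * n₂ := Nat.mul_pos hn₁ hn₂
    generalize x₀ ^ n₂ = x at hx hxreg
    generalize y₀ ^ n₁ = y at hy hyreg
    generalize n₁ * n₂ = e at hx hy he
    obtain ⟨j, a, ha, hax, hsocR⟩ := exists_socle 𝒜 hposR h0R hstdR (le_of_eq hr) hnpR he hx hxreg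
    obtain ⟨j', b, hb, hby, hsocS⟩ := exists_socle ℬ hposS h0S hstdS (le_of_eq hs) hnpS he hy hyreg
    obtain ⟨b₀, hb₀, hb₀0⟩ := exists_ne_zero_piece ℬ hstdS he hy hyreg j
    obtain ⟨a₀, ha₀, ha₀0⟩ := exists_ne_zero_piece 𝒜 hstdR he hx hxreg j'
    have h1 : x ⊗ₜ[k] y ∈ (𝒯 (e : ℤ)).map ψ.toLinearMap := by
      rw [hdegT]
      exact Submodule.subset_span ⟨x, hx, y, hy, rfl⟩
    obtain ⟨t, ht, hψt⟩ := h1
    rw [AlgHom.toLinearMap_apply] at hψt
    have htirr : t ∈ irr 𝒯 := Ideal.subset_span ⟨e, by exact_mod_cast he, ht⟩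
    have htreg : IsSMulRegular T t := by
      intro u v huv
      apply hψ
      apply isSMulRegular_tmul (k := k) hxreg hyreg
      simp only [smul_eq_mul] at huv ⊢
      rw [← hψt, ← map_mul, ← map_mul, huv]
    obtain ⟨w₁, hψw₁, hsoc₁⟩ := exists_socle_segre 𝒜 ℬ 𝒯 ψ hψ hdegT hy ha hsocR hb₀ t hψt
    have hψt' : swap ψ t = y ⊗ₜ[k] x := by
      rw [swap_apply, hψt, Algebra.TensorProduct.comm_tmul]
    obtain ⟨w₂, hψw₂', hsoc₂⟩ := exists_socle_segre ℬ 𝒜 𝒯 (swap ψ) (swap_injective ψ hψ)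
      (swap_hdeg 𝒜 ℬ 𝒯 ψ hdegT) hx hb hsocS ha₀ t hψt'
    have hψw₂ : ψ w₂ = (x * a₀) ⊗ₜ[k] b := by
      have := congrArg (Algebra.TensorProduct.comm k R S).symm hψw₂'
      rw [swap_apply, AlgEquiv.symm_apply_apply] at this
      rw [this, Algebra.TensorProduct.comm_symm_tmul]
    obtain ⟨a', b', hab, hmem⟩ := socle_dependent (irr 𝒯) t htirr htreg (le_of_eq hdimT1) w₁ w₂ hsoc₂
    obtain ⟨α, hα⟩ := exists_smul_one 𝒯 h0T _ (SetLike.coe_mem (decompose 𝒯 a' 0))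
    obtain ⟨β, hβ⟩ := exists_smul_one 𝒯 h0T _ (SetLike.coe_mem (decompose 𝒯 b' 0))
    have hsub : ∀ (c : T) (γ : k), γ • (1 : T) = (decompose 𝒯 c 0 : T) → c - γ • 1 ∈ irr 𝒯 := by
      intro c γ hγ
      apply mem_irr_of_zero 𝒯 hposT
      have h1mem : γ • (1 : T) ∈ 𝒯 0 := by rw [hγ]; exact SetLike.coe_mem _
      rw [decompose_sub, DFinsupp.sub_apply, AddSubgroupClass.coe_sub,
        decompose_of_mem_same 𝒯 h1mem, hγ, sub_self]
    have hα' := hsub a' α hα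
    have hβ' := hsub b' β hβ
    have hne : α ≠ 0 ∨ β ≠ 0 := by
      rcases hab with h | h
      · left
        rintro rfl
        rw [zero_smul, sub_zero] at hα'
        exact h hα'
      · right
        rintro rfl
        rw [zero_smul, sub_zero] at hβ'
        exact h hβ'
    have hmem' : α • w₁ + β • w₂ ∈ Ideal.span {t} := by
      have h1 := hsoc₁ _ hα'
      have h2 := hsoc₂ _ hβ'
      have h3 : α • w₁ + β • w₂ =
          (a' * w₁ + b' * w₂) - ((a' - α • 1) * w₁ + (b' - β • 1) * w₂) := by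
        rw [sub_mul, sub_mul, smul_mul_assoc, one_mul, smul_mul_assoc, one_mul]
        ring
      rw [h3]
      exact sub_mem hmem (add_mem h1 h2)
    have hmemψ : α • (a ⊗ₜ[k] (y * b₀)) + β • ((x * a₀) ⊗ₜ[k] b) ∈
        Ideal.span {x ⊗ₜ[k] y} := by
      obtain ⟨v, hv⟩ := Ideal.mem_span_singleton'.1 hmem'
      rw [Ideal.mem_span_singleton']
      refine ⟨ψ v, ?_⟩
      rw [← hψt, ← map_mul, hv, map_add, map_smul, map_smul, hψw₁, hψw₂]
    have hyb0 : y * b₀ ≠ 0 := by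
      intro h
      apply hb₀0
      apply hyreg
      show y * b₀ = y * 0
      rw [h, mul_zero]
    have hxa0 : x * a₀ ≠ 0 := by
      intro h
      apply ha₀0
      apply hxreg
      show x * a₀ = x * 0
      rw [h, mul_zero]
    obtain ⟨h1, h2⟩ := indep_tmul hax hby hyb0 hxa0 α β hmemψ
    rcases hne with h | h
    · exact h h1
    · exact h h2
  refine ⟨hS, ?_⟩
  obtain ⟨e₀⟩ := hS
  obtain ⟨z, hz1, hzreg, h1⟩ := exists_gen_of_algEquiv ℬ hposS h0S hstdS e₀ hs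
  obtain ⟨Θ⟩ := nonempty_algEquiv_of_gen ℬ 𝒜 𝒯 (swap ψ) (swap_injective ψ hψ)
    (swap_hdeg 𝒜 ℬ 𝒯 ψ hdegT) hposS hposR h0S hstdS hz1 hzreg h1
  exact gorenstein_of_ringEquiv Θ.toRingEquiv

end Groth.Agent.Helper7.SegGor
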