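import Mathlib
import Groth.Prelude.Def_HopfRep
import Groth.Prelude.Def_ComodSub
import Groth.Agent.Helper2.SocleFilt
import Groth.Agent.Helper2.TrigFlag

/-! The filtration `TL L` of a comodule by lists of group-like elements. -/

set_option autoImplicit false
universe u v w
open TensorProduct

namespace Groth.Agent.Helper7.TrigFilt

open Groth.Agent.Helper2.ComodGen Groth.Agent.Helper2.UnipFlag Groth.Agent.Helper2.SocleFilt

section defs

variable (R : Type u) [CommRing R] (A : Type v) [Ring A] [Bialgebra R A]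
variable (V : Type w) [AddCommGroup V] [Module R V] [HopfRep.Comod R A V]

/-- the twisted reduced coaction `v ↦ ρ(v) - v ⊗ g` -/
noncomputable def twCoact (g : A) : V →ₗ[R] V ⊗[R] A :=
  HopfRep.Comod.coact (k := R) (A := A) - (TensorProduct.mk R V A).flip g

lemma twCoact_apply (g : A) (v : V) :
    twCoact R A V g v = HopfRep.Comod.coact (k := R) (A := A) v - v ⊗ₜ[R] g := rfl

/-- the filtration attached to a list of elements (in practice group-likes); the head of the list
is the last character -/
noncomputable def TL : List A → Submodule R V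
  | [] => ⊥
  | g :: L => Submodule.comap (twCoact R A V g) (LinearMap.range ((TL L).subtype.rTensor A))

lemma TL_nil : TL R A V [] = ⊥ := rfl

lemma mem_TL_cons (g : A) (L : List A) (v : V) :
    v ∈ TL R A V (g :: L) ↔ twCoact R A V g v ∈ LinearMap.range ((TL R A V L).subtype.rTensor A) :=
  Iff.rfl

lemma TL_cons_mono (g : A) {L L' : List A} (h : TL R A V L ≤ TL R A V L') :
    TL R A V (g :: L) ≤ TL R A V (g :: L') := by
  intro v hv
  rw [mem_TL_cons] at hv ⊢
  exact range_rTensor_mono h hv

lemma TL_le_append (L₁ L₂ : List A) : TL R A V L₁ ≤ TL R A V (L₁ ++ L₂) := by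
  induction L₁ with
  | nil => rw [TL_nil]; exact bot_le
  | cons g L ih => exact TL_cons_mono R A V g ih

end defs

section field

variable {k : Type u} [Field k] {A : Type v} [CommRing A] [Bialgebra k A]
variable {V : Type v} [AddCommGroup V] [Module k V] [HopfRep.Comod k A V]

lemma slice_twCoact (g : A) (ψ : A →ₗ[k] k) (v : V) :
    (TensorProduct.rid k V) (ψ.lTensor V (twCoact k A V g v)) = RopV ψ v - ψ g • v := by
  rw [twCoact_apply, map_sub, map_sub]
  simp [RopV]

lemma mem_TL_cons_iff (g : A) (L : List A) (v : V) :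
    v ∈ TL k A V (g :: L) ↔ ∀ ψ : A →ₗ[k] k, RopV ψ v - ψ g • v ∈ TL k A V L := by
  rw [mem_TL_cons]
  constructor
  · intro h ψ
    rw [← slice_twCoact]
    exact slice_mem_of_mem_range _ ψ h
  · intro h
    apply mem_range_rTensor_of_slices
    intro ψ
    rw [slice_twCoact]
    exact h ψ

lemma cv_apply_groupLike {g : A} (hg : IsGroupLikeElem k g) (ψ θ : A →ₗ[k] k) :
    cv ψ θ g = ψ g * θ g := by
  show LinearMap.mul' k k (TensorProduct.map ψ θ (Coalgebra.comul (R := k) g)) = _
  rw [hg.comul_eq_tmul_self, TensorProduct.map_tmul, LinearMap.mul'_apply]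

lemma RopV_mem_TL (L : List A) (hL : ∀ g ∈ L, IsGroupLikeElem k g) (θ : A →ₗ[k] k) :
    ∀ v ∈ TL k A V L, RopV θ v ∈ TL k A V L := by
  induction L with
  | nil =>
    intro v hv
    rw [TL_nil, Submodule.mem_bot] at hv
    rw [hv, map_zero]
    exact zero_mem _
  | cons g L ih =>
    intro v hv
    have hg := hL g (List.mem_cons_self)
    have hL' : ∀ g' ∈ L, IsGroupLikeElem k g' := fun g' hg' => hL g' (List.mem_cons_of_mem _ hg')
    rw [mem_TL_cons_iff] at hv ⊢
    intro ψ
    rw [RopV_RopV]
    have h1 := hv (cv ψ θ)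
    have h2 := hv θ
    have e : RopV (cv ψ θ) v - ψ g • RopV θ v =
        (RopV (cv ψ θ) v - cv ψ θ g • v) - ψ g • (RopV θ v - θ g • v) := by
      rw [cv_apply_groupLike hg, smul_sub, smul_smul]
      abel
    rw [e]
    exact sub_mem h1 (Submodule.smul_mem _ _ h2)

lemma TL_le_cons (L : List A) (hL : ∀ g ∈ L, IsGroupLikeElem k g) (g : A) :
    TL k A V L ≤ TL k A V (g :: L) := by
  intro v hv
  rw [mem_TL_cons_iff]
  intro ψ
  exact sub_mem (RopV_mem_TL L hL ψ v hv) (Submodule.smul_mem _ _ hv)

lemma TL_le_append_left (L₁ L₂ : List A) (hL : ∀ g ∈ L₁ ++ L₂, IsGroupLikeElem k g) :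
    TL k A V L₂ ≤ TL k A V (L₁ ++ L₂) := by
  induction L₁ with
  | nil => exact le_rfl
  | cons g L ih =>
    have hL' : ∀ g' ∈ L ++ L₂, IsGroupLikeElem k g' :=
      fun g' hg' => hL g' (List.mem_cons_of_mem _ hg')
    exact le_trans (ih hL') (TL_le_cons (L ++ L₂) hL' g)

/-- membership in `TL` can be tested on matrix coefficients -/
lemma mem_TL_of_cf (L : List A) :
    ∀ v : V, (∀ φ : V →ₗ[k] k, cf (A := A) φ v ∈ TL k A A L) → v ∈ TL k A V L := by
  induction L with
  | nil =>
    intro v h
    rw [TL_nil, Submodule.mem_bot]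
    refine eq_zero_of_cf (k := k) (A := A) v (fun φ => ?_)
    have := h φ
    rwa [TL_nil, Submodule.mem_bot] at this
  | cons g L ih =>
    intro v h
    rw [mem_TL_cons_iff]
    intro ψ
    apply ih
    intro φ
    rw [map_sub, map_smul, ← RopV_cf]
    exact (mem_TL_cons_iff g L _).mp (h φ) ψ

end field

end Groth.Agent.Helper7.TrigFilt
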