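import Mathlib
import Groth.Prelude.Def_HopfRep
import Groth.Prelude.Def_ComodSub
import Groth.Agent.Helper2.SocleFilt
import Groth.Agent.Helper2.TrigFlag
import Groth.Agent.Helper7.TG1

/-! `TL` and trigonalizability: sufficiency. -/

set_option autoImplicit false
universe u v w
open TensorProduct

namespace Groth.Agent.Helper7.TrigFilt

open Groth.Agent.Helper2.ComodGen Groth.Agent.Helper2.UnipFlag Groth.Agent.Helper2.SocleFilt

section field

variable {k : Type u} [Field k] {A : Type v} [CommRing A] [Bialgebra k A]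
variable {V : Type v} [AddCommGroup V] [Module k V] [HopfRep.Comod k A V]

lemma range_rTensor_bot_eq :
    LinearMap.range ((⊥ : Submodule k V).subtype.rTensor A) = ⊥ := by
  rw [eq_bot_iff]
  rintro _ ⟨t, rfl⟩
  have : t = 0 := Subsingleton.elim _ _
  rw [this, map_zero]
  exact zero_mem _

lemma exists_eigen_of_TL_ne_bot (L : List A) (h : TL k A V L ≠ ⊥) :
    ∃ g ∈ L, ∃ v : V, v ≠ 0 ∧ HopfRep.Comod.coact (k := k) (A := A) v = v ⊗ₜ[k] g := by
  induction L with
  | nil => exact absurd (TL_nil k A V) h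
  | cons g L ih =>
    by_cases hL : TL k A V L = ⊥
    · obtain ⟨v, hv, hv0⟩ := (Submodule.ne_bot_iff _).1 h
      refine ⟨g, List.mem_cons_self, v, hv0, ?_⟩
      rw [mem_TL_cons, hL, range_rTensor_bot_eq, Submodule.mem_bot, twCoact_apply, sub_eq_zero] at hv
      exact hv
    · obtain ⟨g', hg', v, hv⟩ := ih hL
      exact ⟨g', List.mem_cons_of_mem _ hg', v, hv⟩

lemma exists_common_list (hA : ∀ a : A, ∃ L : List A, (∀ g ∈ L, IsGroupLikeElem k g) ∧
    a ∈ TL k A A L) (S : Finset A) :
    ∃ L : List A, (∀ g ∈ L, IsGroupLikeElem k g) ∧ ∀ x ∈ S, x ∈ TL k A A L := by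
  classical
  induction S using Finset.induction_on with
  | empty => exact ⟨[], by simp, by simp⟩
  | insert x S _ ih =>
    obtain ⟨L₂, hL₂, hS⟩ := ih
    obtain ⟨L₁, hL₁, hx⟩ := hA x
    have hL : ∀ g ∈ L₁ ++ L₂, IsGroupLikeElem k g := by
      intro g hg
      rcases List.mem_append.1 hg with h | h
      · exact hL₁ g h
      · exact hL₂ g h
    refine ⟨L₁ ++ L₂, hL, ?_⟩
    intro y hy
    rcases Finset.mem_insert.1 hy with rfl | hy
    · exact TL_le_append k A A L₁ L₂ hx
    · exact TL_le_append_left L₁ L₂ hL (hS y hy)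

theorem isTrigonalizable_of_forall_mem_TL
    (hA : ∀ a : A, ∃ L : List A, (∀ g ∈ L, IsGroupLikeElem k g) ∧ a ∈ TL k A A L) :
    HopfRep.IsTrigonalizable k A := by
  classical
  intro V _ _ _ hfin hsimple
  obtain ⟨hnt, hsub⟩ := hsimple
  obtain ⟨v, hv⟩ := exists_ne (0 : V)
  obtain ⟨f, -, hf⟩ := exists_repr (R := k) (C := A)
    (HopfRep.Comod.coact (k := k) (A := A) (V := V) v)
  obtain ⟨L, hL, hLS⟩ := exists_common_list hA f.support
  have hmem : ∀ φ : V →ₗ[k] k, cf (A := A) φ v ∈ TL k A A L := by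
    intro φ
    have h1 : cf (A := A) φ v = f.sum (fun x u => φ u • x) := by
      show (TensorProduct.lid k A) (φ.rTensor A (HopfRep.Comod.coact (k := k) (A := A) v)) = _
      rw [hf, Finsupp.sum, Finsupp.sum, map_sum, map_sum]
      refine Finset.sum_congr rfl (fun x _ => ?_)
      simp
    rw [h1]
    refine Submodule.sum_mem _ (fun x hx => ?_)
    exact Submodule.smul_mem _ _ (hLS x hx)
  have hvL := mem_TL_of_cf L v hmem
  have hne : TL k A V L ≠ ⊥ := by
    intro hbot
    rw [hbot, Submodule.mem_bot] at hvL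
    exact hv hvL
  obtain ⟨g, -, w, hw0, hw⟩ := exists_eigen_of_TL_ne_bot L hne
  have hWsub : HopfRep.IsSubcomod (k := k) (A := A) (Submodule.span k {w}) := by
    intro x hx
    obtain ⟨c, rfl⟩ := Submodule.mem_span_singleton.1 hx
    refine ⟨(⟨c • w, hx⟩ : Submodule.span k {w}) ⊗ₜ[k] g, ?_⟩
    rw [LinearMap.rTensor_tmul, Submodule.subtype_apply, map_smul, hw, TensorProduct.smul_tmul']
  rcases hsub _ hWsub with h | h
  · exfalso
    have : w ∈ Submodule.span k {w} := Submodule.mem_span_singleton_self w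
    rw [h, Submodule.mem_bot] at this
    exact hw0 this
  · have h1 : Module.finrank k (Submodule.span k {w}) = 1 := finrank_span_singleton hw0
    rw [h, finrank_top] at h1
    exact h1

end field

end Groth.Agent.Helper7.TrigFilt
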