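import Mathlib
import Groth.Prelude.Def_HopfRep
import Groth.Prelude.Def_ComodSub
import Groth.Agent.Helper2.SocleFilt
import Groth.Agent.Helper2.TrigFlag
import Groth.Agent.Helper7.TG2

/-! `TL` and trigonalizability: necessity. -/

set_option autoImplicit false
universe u v w
open TensorProduct

namespace Groth.Agent.Helper7.TrigFilt

open Groth.Agent.Helper2.ComodGen Groth.Agent.Helper2.UnipFlag Groth.Agent.Helper2.SocleFilt
  Groth.Agent.Helper2.TrigFlag

section field

variable {k : Type u} [Field k] {A : Type v} [CommRing A] [Bialgebra k A]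

/-- comodule maps preserve `TL` -/
lemma map_mem_TL {V V' : Type v} [AddCommGroup V] [Module k V] [HopfRep.Comod k A V]
    [AddCommGroup V'] [Module k V'] [HopfRep.Comod k A V'] (φ : V →ₗ[k] V')
    (hφ : ∀ v, HopfRep.Comod.coact (k := k) (A := A) (φ v) =
      φ.rTensor A (HopfRep.Comod.coact (k := k) (A := A) v)) (L : List A) :
    ∀ v ∈ TL k A V L, φ v ∈ TL k A V' L := by
  induction L with
  | nil =>
    intro v hv
    rw [TL_nil, Submodule.mem_bot] at hv
    rw [hv, map_zero]
    exact zero_mem _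
  | cons g L ih =>
    intro v hv
    rw [mem_TL_cons] at hv ⊢
    obtain ⟨t, ht⟩ := hv
    have h1 : twCoact k A V' g (φ v) = φ.rTensor A (twCoact k A V g v) := by
      rw [twCoact_apply, twCoact_apply, map_sub, hφ, LinearMap.rTensor_tmul]
    rw [h1, ← ht]
    let φ' : TL k A V L →ₗ[k] TL k A V' L :=
      LinearMap.codRestrict (TL k A V' L) (φ ∘ₗ (TL k A V L).subtype) (fun x => ih x.1 x.2)
    refine ⟨φ'.rTensor A t, ?_⟩
    rw [← LinearMap.comp_apply, ← LinearMap.comp_apply, ← LinearMap.rTensor_comp,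
      ← LinearMap.rTensor_comp]
    rfl

variable {V : Type v} [AddCommGroup V] [Module k V]

/-- the character of an eigenvector is group-like -/
lemma isGroupLikeElem_of_eigen [c : HopfRep.Comod k A V] {w : V} (hw0 : w ≠ 0) {g : A}
    (hw : HopfRep.Comod.coact (k := k) (A := A) w = w ⊗ₜ[k] g) : IsGroupLikeElem k g := by
  obtain ⟨φ, hφ⟩ : ∃ φ : V →ₗ[k] k, φ w = 1 := Module.Projective.exists_dual_eq_one k hw0
  constructor
  · have h := LinearMap.congr_fun (HopfRep.Comod.counit_comp (k := k) (A := A) (V := V)) w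
    simp only [LinearMap.comp_apply, LinearMap.flip_apply, TensorProduct.mk_apply] at h
    rw [hw, LinearMap.lTensor_tmul] at h
    have h2 := congrArg (fun t => (TensorProduct.lid k k) (φ.rTensor k t)) h
    simp only [LinearMap.rTensor_tmul, TensorProduct.lid_tmul, hφ, smul_eq_mul, one_mul,
      mul_one] at h2
    exact h2
  · have h := LinearMap.congr_fun (HopfRep.Comod.coassoc (k := k) (A := A) (V := V)) w
    simp only [LinearMap.comp_apply, LinearEquiv.coe_coe] at h
    rw [hw, LinearMap.rTensor_tmul, hw, TensorProduct.assoc_tmul, LinearMap.lTensor_tmul] at h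
    have h2 := congrArg (fun t => (TensorProduct.lid k (A ⊗[k] A)) (φ.rTensor (A ⊗[k] A) t)) h
    simp only [LinearMap.rTensor_tmul, TensorProduct.lid_tmul, hφ, one_smul] at h2
    exact h2.symm

/-- lifting `TL` along a quotient by an eigen-subcomodule -/
lemma comap_TL_le (c : HopfRep.Comod k A V) (W : Submodule k V)
    (hW : HopfRep.IsSubcomod (k := k) (A := A) W) (g : A)
    (hg : ∀ w ∈ W, HopfRep.Comod.coact (k := k) (A := A) w = w ⊗ₜ[k] g) (L : List A) :
    (@TL k _ A _ _ (V ⧸ W) _ _ (ComodSub.Comod.quot c W hW) L).comap W.mkQ ≤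
      TL k A V (L ++ [g]) := by
  letI cq : HopfRep.Comod k A (V ⧸ W) := ComodSub.Comod.quot c W hW
  induction L with
  | nil =>
    intro v hv
    have hvW : v ∈ W := by
      rw [Submodule.mem_comap, TL_nil, Submodule.mem_bot, Submodule.mkQ_apply,
        Submodule.Quotient.mk_eq_zero] at hv
      exact hv
    show v ∈ TL k A V [g]
    rw [mem_TL_cons, twCoact_apply, hg v hvW, sub_self]
    exact zero_mem _
  | cons h L ih =>
    intro v hv
    rw [Submodule.mem_comap, mem_TL_cons] at hv
    show v ∈ TL k A V (h :: (L ++ [g]))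
    rw [mem_TL_cons]
    have h1 : twCoact k A (V ⧸ W) h (W.mkQ v) = W.mkQ.rTensor A (twCoact k A V h v) := by
      rw [twCoact_apply, twCoact_apply, map_sub, LinearMap.rTensor_tmul]
      rfl
    rw [h1] at hv
    exact range_rTensor_mono ih (mem_range_comap W.mkQ _ _ hv)

theorem exists_TL_eq_top (hT : HopfRep.IsTrigonalizable k A) (n : ℕ) :
    ∀ (V : Type v) [AddCommGroup V] [Module k V] [Module.Finite k V] [HopfRep.Comod k A V],
      Module.finrank k V = n →
      ∃ L : List A, (∀ g ∈ L, IsGroupLikeElem k g) ∧ TL k A V L = ⊤ := by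
  induction n with
  | zero =>
    intro V _ _ _ c hn
    haveI : Subsingleton V := Module.finrank_zero_iff.1 hn
    exact ⟨[], by simp, Subsingleton.elim _ _⟩
  | succ n ih =>
    intro V _ _ _ c hn
    haveI hV : Nontrivial V := Module.nontrivial_of_finrank_pos (R := k) (by omega)
    obtain ⟨W, hsub, hWrank⟩ := exists_line hT V
    obtain ⟨w₀, hw₀, hspan⟩ := finrank_eq_one_iff'.1 hWrank
    -- the character
    obtain ⟨t, ht⟩ := hsub w₀.1 w₀.2
    obtain ⟨g, hg⟩ : ∃ g : A, t = w₀ ⊗ₜ[k] g := by
      clear ht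
      induction t using TensorProduct.induction_on with
      | zero => exact ⟨0, by simp⟩
      | tmul x a =>
        obtain ⟨c', hc'⟩ := hspan x
        exact ⟨c' • a, by rw [← hc', TensorProduct.smul_tmul]⟩
      | add x y hx hy =>
        obtain ⟨a, rfl⟩ := hx
        obtain ⟨b, rfl⟩ := hy
        exact ⟨a + b, by rw [TensorProduct.tmul_add]⟩
    have hw₀' : HopfRep.Comod.coact (k := k) (A := A) (w₀ : V) = (w₀ : V) ⊗ₜ[k] g := by
      rw [← ht, hg, LinearMap.rTensor_tmul, Submodule.subtype_apply]
    have hw₀ne : (w₀ : V) ≠ 0 := fun h => hw₀ (Subtype.ext h)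
    have hgl : IsGroupLikeElem k g := isGroupLikeElem_of_eigen hw₀ne hw₀'
    have hgW : ∀ w ∈ W, HopfRep.Comod.coact (k := k) (A := A) w = w ⊗ₜ[k] g := by
      intro w hw
      obtain ⟨c', hc'⟩ := hspan ⟨w, hw⟩
      have : w = c' • (w₀ : V) := by
        have := congrArg Subtype.val hc'
        simpa using this.symm
      rw [this, map_smul, hw₀', TensorProduct.smul_tmul']
    letI cq : HopfRep.Comod k A (V ⧸ W) := ComodSub.Comod.quot c W hsub
    have hqrank : Module.finrank k (V ⧸ W) = n := by
      have h1 := Submodule.finrank_quotient_add_finrank W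
      omega
    obtain ⟨L', hL', hL'top⟩ := ih (V ⧸ W) hqrank
    refine ⟨L' ++ [g], ?_, ?_⟩
    · intro g' hg'
      rcases List.mem_append.1 hg' with h | h
      · exact hL' g' h
      · rw [List.mem_singleton.1 h]; exact hgl
    · rw [eq_top_iff]
      intro v _
      apply comap_TL_le c W hsub g hgW L'
      rw [Submodule.mem_comap, hL'top]
      trivial

theorem exists_mem_TL_of_isTrigonalizable (hT : HopfRep.IsTrigonalizable k A) (a : A) :
    ∃ L : List A, (∀ g ∈ L, IsGroupLikeElem k g) ∧ a ∈ TL k A A L := by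
  obtain ⟨W, hfin, haW, hW⟩ :=
    Groth.Agent.Helper3.exists_finite_subcomod (k := k) (C := A) (V := A) a
  letI cW : HopfRep.Comod k A W := ComodSub.Comod.restr (HopfRep.Comod.regular k A) W hW
  obtain ⟨L, hL, hLtop⟩ := exists_TL_eq_top hT _ W rfl
  refine ⟨L, hL, ?_⟩
  have h1 : (⟨a, haW⟩ : W) ∈ TL k A W L := by rw [hLtop]; trivial
  have := map_mem_TL (A := A) W.subtype
    (fun w => (ComodSub.restr_coact_coe (HopfRep.Comod.regular k A) W hW w).symm) L _ h1
  exact this

end field

end Groth.Agent.Helper7.TrigFilt
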