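import Mathlib
import Groth.Agent.Helper7.InvFracA
import Groth.Agent.Helper7.GrpLikeA
import Groth.Agent.Helper7.HopfCartier
import Groth.Agent.Helper7.TG3

/-!
# Semi-invariants and invariant rational functions (helper7)

`A` a Hopf algebra of finite type over an algebraically closed field of characteristic zero, `B` a
factorial domain of finite type with only scalar units and a multiplicative coaction.  The weights of
the non-zero semi-invariants of `B` generate an ideal `span {χ - 1}` which is finitely generated;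
choosing semi-invariants `s_i` of weights `χ_i` generating it and `h = ∏ s_i`, every invariant
fraction is a quotient of invariants of `B[1/h]` (`main`).
-/

set_option autoImplicit false
set_option linter.unusedSectionVars false
set_option linter.style.haveILetI false
universe u

namespace Groth.Agent.Helper7.SemiInv

open TensorProduct Groth.Agent.Helper9 Groth.Agent.Helper7.OrbFin Groth.Agent.Helper7.LinTriv
  Groth.Agent.Helper7.InvFrac

section basic

variable {k : Type u} [Field k] {A : Type u} [CommRing A] [HopfAlgebra k A]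
variable {B : Type u} [CommRing B] [Algebra k B] [HopfRep.Comod k A B] [GLin.IsCoactAlg k A B]

/-- `s` is a semi-invariant of weight `χ` -/
def IsSemi (s : B) (χ : A) : Prop := HopfRep.Comod.coact (k := k) (A := A) s = s ⊗ₜ[k] χ

theorem isSemi_one : IsSemi (k := k) (1 : B) (1 : A) := by
  unfold IsSemi
  rw [GLin.IsCoactAlg.coact_one]
  rfl

theorem IsSemi.mul {s s' : B} {χ χ' : A} (h : IsSemi (k := k) s χ) (h' : IsSemi (k := k) s' χ') :
    IsSemi (k := k) (s * s') (χ * χ') := by
  unfold IsSemi at h h' ⊢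
  rw [GLin.IsCoactAlg.coact_mul, h, h', Algebra.TensorProduct.tmul_mul_tmul]

theorem IsSemi.pow {s : B} {χ : A} (h : IsSemi (k := k) s χ) (n : ℕ) :
    IsSemi (k := k) (s ^ n) (χ ^ n) := by
  induction n with
  | zero => rw [pow_zero, pow_zero]; exact isSemi_one
  | succ n ih => rw [pow_succ, pow_succ]; exact ih.mul h

theorem isSemi_prod {ι : Type*} (S : Finset ι) (s : ι → B) (χ : ι → A)
    (h : ∀ i, IsSemi (k := k) (s i) (χ i)) :
    IsSemi (k := k) (∏ i ∈ S, s i) (∏ i ∈ S, χ i) := by
  classical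
  induction S using Finset.induction_on with
  | empty => rw [Finset.prod_empty, Finset.prod_empty]; exact isSemi_one
  | insert a S ha ih => rw [Finset.prod_insert ha, Finset.prod_insert ha]; exact (h a).mul ih

theorem IsSemi.act {s : B} {χ : A} (h : IsSemi (k := k) s χ) (φ : A →ₐ[k] k) :
    HopfRep.Comod.act k A B φ s = φ χ • s := by
  unfold IsSemi at h
  unfold HopfRep.Comod.act
  simp only [LinearMap.comp_apply, h, LinearMap.lTensor_tmul, LinearEquiv.coe_coe,
    TensorProduct.rid_tmul, AlgHom.toLinearMap_apply]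

theorem IsSemi.isGroupLike {s : B} {χ : A} (h : IsSemi (k := k) s χ) (hs : s ≠ 0) :
    IsGroupLikeElem k χ :=
  Groth.Agent.Helper7.TrigFilt.isGroupLikeElem_of_eigen hs h

theorem apply_ne_zero_of_isGroupLike {χ : A} (h : IsGroupLikeElem k χ) (φ : A →ₐ[k] k) :
    φ χ ≠ 0 := by
  have hu : IsUnit χ := h.isUnit
  exact (hu.map φ).ne_zero

end basic

section main

variable {k : Type u} [Field k] [IsAlgClosed k] [CharZero k]
  {A : Type u} [CommRing A] [HopfAlgebra k A] [Algebra.FiniteType k A]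
variable {B : Type u} [CommRing B] [Algebra k B] [Algebra.FiniteType k B] [IsDomain B]
  [HopfRep.Comod k A B] [GLin.IsCoactAlg k A B]

/-- an element dividing all its translates is a semi-invariant when the units are scalars -/
theorem exists_isSemi_of_dvd (hunits : ∀ u : Bˣ, ∃ c : k, algebraMap k B c = u)
    (f1 : B) (hf1 : f1 ≠ 0) (hdiv : ∀ φ : A →ₐ[k] k, f1 ∣ HopfRep.Comod.act k A B φ f1) :
    ∃ χ : A, IsSemi (k := k) f1 χ := by
  haveI : IsReduced A := Groth.Agent.Helper7.HopfCartier.isReduced k A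
  obtain ⟨U, hact, -, hunit, -, -⟩ := exists_slices f1 hf1 hdiv
  have hc : ∀ ψ : A →ₐ[k] k, ∃ c : k, algebraMap k B c = slAlg ψ U := by
    intro ψ
    obtain ⟨c, hc⟩ := hunits (hunit ψ).unit
    exact ⟨c, by rw [hc, IsUnit.unit_spec]⟩
  choose c hc using hc
  exact Groth.Agent.Helper2.PtsDense.coact_eq_of_joint_eigen f1 c (fun ψ => by
    rw [hact ψ, ← hc ψ, Algebra.smul_def, mul_comm])

/-- the set of weights of non-zero semi-invariants -/
def Wt (k : Type u) [Field k] (A : Type u) [CommRing A] [HopfAlgebra k A]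
    (B : Type u) [CommRing B] [Algebra k B] [HopfRep.Comod k A B] : Set A :=
  {χ | ∃ s : B, s ≠ 0 ∧ IsSemi (k := k) s χ}

/-- finitely many semi-invariants whose weights generate the ideal of all weights -/
theorem exists_gens :
    ∃ (ι : Type u) (_ : Fintype ι) (s : ι → B) (χ : ι → A),
      (∀ i, s i ≠ 0) ∧ (∀ i, IsSemi (k := k) (s i) (χ i)) ∧
      ∀ χ' ∈ Wt k A B, χ' - 1 ∈ Ideal.span (Set.range fun i => χ i - 1) := by
  classical
  haveI : IsNoetherianRing A := Algebra.FiniteType.isNoetherianRing k A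
  have hfg : (Ideal.span ((fun χ : A => χ - 1) '' Wt k A B)).FG :=
    IsNoetherian.noetherian _
  obtain ⟨S, hS, hspan⟩ := (Submodule.fg_span_iff_fg_span_finset_subset _).mp hfg
  have hex : ∀ i : (S : Set A), ∃ s : B, s ≠ 0 ∧ IsSemi (k := k) s ((i : A) + 1) := by
    intro i
    obtain ⟨χ', ⟨s, hs0, hs⟩, hχ'⟩ := hS i.2
    refine ⟨s, hs0, ?_⟩
    have : (i : A) + 1 = χ' := by rw [← hχ']; ring
    rw [this]
    exact hs
  choose s hs0 hs using hex
  refine ⟨(S : Set A), inferInstance, s, fun i => (i : A) + 1, hs0, hs, ?_⟩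
  intro χ' hχ'
  have hrange : (Set.range fun i : (S : Set A) => ((i : A) + 1) - 1) = (S : Set A) := by
    ext x
    constructor
    · rintro ⟨i, rfl⟩
      simp
    · intro hx
      exact ⟨⟨x, hx⟩, by simp⟩
  rw [hrange]
  have h1 : χ' - 1 ∈ Ideal.span ((fun χ : A => χ - 1) '' Wt k A B) :=
    Ideal.subset_span ⟨χ', hχ', rfl⟩
  have h2 : Ideal.span ((fun χ : A => χ - 1) '' Wt k A B) = Ideal.span (S : Set A) := hspan
  rw [h2] at h1
  exact h1

/-- **main theorem**: the invariant open set `D(h)` on which invariant fractions are quotients of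
invariants -/
theorem main [UniqueFactorizationMonoid B] (hunits : ∀ u : Bˣ, ∃ c : k, algebraMap k B c = u) :
    ∃ h : B, h ≠ 0 ∧
      (∀ φ : A →ₐ[k] k, ∃ (N : ℕ) (u : B), HopfRep.Comod.act k A B φ h * u = h ^ N) ∧
      ∀ a b : B, b ≠ 0 →
        (∀ φ : A →ₐ[k] k, HopfRep.Comod.act k A B φ a * b = a * HopfRep.Comod.act k A B φ b) →
        ∃ (c d : B) (r t : ℕ), d ≠ 0 ∧
          (∀ φ : A →ₐ[k] k,
            HopfRep.Comod.act k A B φ c * h ^ r = c * (HopfRep.Comod.act k A B φ h) ^ r) ∧
          (∀ φ : A →ₐ[k] k,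
            HopfRep.Comod.act k A B φ d * h ^ t = d * (HopfRep.Comod.act k A B φ h) ^ t) ∧
          a * d * h ^ r = b * c * h ^ t := by
  classical
  haveI : IsReduced A := Groth.Agent.Helper7.HopfCartier.isReduced k A
  obtain ⟨ι, hι, s, χ, hs0, hs, hgen⟩ := exists_gens (k := k) (A := A) (B := B)
  haveI := hι
  have hχ : ∀ i, IsGroupLikeElem k (χ i) := fun i => (hs i).isGroupLike (hs0 i)
  set h : B := ∏ i, s i with hh
  set X : A := ∏ i, χ i with hX
  have hsemi : IsSemi (k := k) h X := isSemi_prod Finset.univ s χ hs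
  have hh0 : h ≠ 0 := Finset.prod_ne_zero_iff.mpr (fun i _ => hs0 i)
  have hXg : IsGroupLikeElem k X := hsemi.isGroupLike hh0
  have hsemiact : ∀ (c : B) (r : ℕ), IsSemi (k := k) c (X ^ r) → ∀ φ : A →ₐ[k] k,
      HopfRep.Comod.act k A B φ c * h ^ r = c * (HopfRep.Comod.act k A B φ h) ^ r := by
    intro c r hc φ
    rw [hc.act φ, hsemi.act φ, map_pow, smul_pow, smul_mul_assoc, mul_smul_comm]
  refine ⟨h, hh0, ?_, ?_⟩
  · intro φ
    refine ⟨1, algebraMap k B (φ X)⁻¹, ?_⟩
    rw [hsemi.act φ, Algebra.smul_def, pow_one, mul_comm (algebraMap k B (φ X)) h, mul_assoc,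
      ← map_mul, mul_inv_cancel₀ (apply_ne_zero_of_isGroupLike hXg φ), map_one, mul_one]
  · intro a b hb hinv
    by_cases ha : a = 0
    · refine ⟨0, 1, 0, 0, one_ne_zero, fun φ => ?_, fun φ => ?_, ?_⟩
      · rw [map_zero, zero_mul, zero_mul]
      · rw [comodAct_one, pow_zero, pow_zero]
      · rw [ha]; ring
    letI : GCDMonoid B := UniqueFactorizationMonoid.toGCDMonoid B
    obtain ⟨a1, b1, ha1, hb1, hu⟩ := extract_gcd a b
    set g := gcd a b with hg
    have hg0 : g ≠ 0 := fun h => hb (by rw [hb1, h, zero_mul])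
    have ha10 : a1 ≠ 0 := fun h => ha (by rw [ha1, h, mul_zero])
    have hb10 : b1 ≠ 0 := fun h => hb (by rw [hb1, h, mul_zero])
    have hrel : IsRelPrime a1 b1 := gcd_isUnit_iff_isRelPrime.mp hu
    have hinv1 : ∀ φ : A →ₐ[k] k,
        HopfRep.Comod.act k A B φ a1 * b1 = a1 * HopfRep.Comod.act k A B φ b1 := by
      intro φ
      have h := hinv φ
      rw [ha1, hb1, comodAct_mul, comodAct_mul] at h
      have hφg : HopfRep.Comod.act k A B φ g ≠ 0 := fun h0 => hg0 (comodAct_injective φ g h0)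
      have h' : (HopfRep.Comod.act k A B φ g * g) * (HopfRep.Comod.act k A B φ a1 * b1) =
          (HopfRep.Comod.act k A B φ g * g) * (a1 * HopfRep.Comod.act k A B φ b1) := by
        linear_combination h
      exact mul_left_cancel₀ (mul_ne_zero hφg hg0) h'
    have hdiva : ∀ φ : A →ₐ[k] k, a1 ∣ HopfRep.Comod.act k A B φ a1 := by
      intro φ
      exact hrel.dvd_of_dvd_mul_right ⟨HopfRep.Comod.act k A B φ b1, hinv1 φ⟩
    have hdivb : ∀ φ : A →ₐ[k] k, b1 ∣ HopfRep.Comod.act k A B φ b1 := by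
      intro φ
      refine hrel.symm.dvd_of_dvd_mul_right ⟨HopfRep.Comod.act k A B φ a1, ?_⟩
      rw [mul_comm, ← hinv1 φ, mul_comm]
    obtain ⟨χa, hχa⟩ := exists_isSemi_of_dvd hunits a1 ha10 hdiva
    obtain ⟨χb, hχb⟩ := exists_isSemi_of_dvd hunits b1 hb10 hdivb
    have hab : χa = χb := by
      rw [← sub_eq_zero]
      apply Groth.Agent.Helper2.PtsDense.eq_zero_of_forall_algHom' (k := k)
      intro φ
      have h1 := hinv1 φ
      rw [hχa.act φ, hχb.act φ, smul_mul_assoc, mul_smul_comm, ← sub_eq_zero, ← sub_smul,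
        Algebra.smul_def] at h1
      rcases mul_eq_zero.mp h1 with h2 | h2
      · rw [map_sub]
        exact (map_eq_zero_iff _ (algebraMap k B).injective).mp h2
      · exact absurd h2 (mul_ne_zero ha10 hb10)
    have hχag : IsGroupLikeElem k χa := hχa.isGroupLike ha10
    have hmem : χa - 1 ∈ Ideal.span (Set.range fun i => χ i - 1) := hgen χa ⟨a1, ha10, hχa⟩
    obtain ⟨p, q, hpq⟩ := Groth.Agent.Helper7.GrpLike.exists_pow_eq χ hχ χa hχag hmem
    set r : ℕ := ∑ i, q i with hr
    have hqr : ∀ i, q i ≤ r := fun i => Finset.single_le_sum (fun _ _ => Nat.zero_le _)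
      (Finset.mem_univ i)
    set M : B := (∏ i, s i ^ p i) * ∏ i, s i ^ (r - q i) with hM
    set Y : A := (∏ i, χ i ^ p i) * ∏ i, χ i ^ (r - q i) with hY
    have hMs : IsSemi (k := k) M Y :=
      (isSemi_prod Finset.univ _ _ (fun i => (hs i).pow (p i))).mul
        (isSemi_prod Finset.univ _ _ (fun i => (hs i).pow (r - q i)))
    have hM0 : M ≠ 0 := by
      apply mul_ne_zero
      · exact Finset.prod_ne_zero_iff.mpr (fun i _ => pow_ne_zero _ (hs0 i))
      · exact Finset.prod_ne_zero_iff.mpr (fun i _ => pow_ne_zero _ (hs0 i))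
    have key : χa * Y = X ^ r := by
      rw [hY, ← mul_assoc, hpq, ← Finset.prod_mul_distrib, hX, ← Finset.prod_pow]
      apply Finset.prod_congr rfl
      intro i _
      rw [← pow_add, Nat.add_sub_cancel' (hqr i)]
    have hc : IsSemi (k := k) (a1 * M) (X ^ r) := by
      have := hχa.mul hMs
      rwa [key] at this
    have hd : IsSemi (k := k) (b1 * M) (X ^ r) := by
      have := hχb.mul hMs
      rwa [← hab, key] at this
    refine ⟨a1 * M, b1 * M, r, r, mul_ne_zero hb10 hM0, hsemiact _ _ hc, hsemiact _ _ hd, ?_⟩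
    rw [ha1, hb1]
    ring

end main

end Groth.Agent.Helper7.SemiInv
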