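import Mathlib

/-! Equaliser of `L ⇉ completion of L ⊗[K] L` : kernel description and the easy direction. -/

namespace Groth.Agent.Helper7.SepCla

open TensorProduct

universe u

variable (K L : Type u) [Field K] [Field L] [Algebra K L]

/-- equality in the completion iff the difference lies in all powers of the ideal -/
theorem of_eq_iff (a b : L ⊗[K] L) :
    AdicCompletion.of (KaehlerDifferential.ideal K L) (L ⊗[K] L) a =
      AdicCompletion.of (KaehlerDifferential.ideal K L) (L ⊗[K] L) b ↔
    ∀ n : ℕ, a - b ∈ (KaehlerDifferential.ideal K L) ^ n := by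
  have key : ∀ n : ℕ, ((KaehlerDifferential.ideal K L) ^ n • ⊤ : Submodule (L ⊗[K] L) (L ⊗[K] L))
      = (KaehlerDifferential.ideal K L) ^ n := by
    intro n
    rw [smul_eq_mul, Ideal.mul_top]
  constructor
  · intro h n
    have h1 := congrArg (fun z => AdicCompletion.eval (KaehlerDifferential.ideal K L) (L ⊗[K] L) n z) h
    simp only [AdicCompletion.eval_of] at h1
    have h2 := (Submodule.Quotient.eq _).mp h1
    rw [key n] at h2
    exact h2
  · intro h
    apply AdicCompletion.ext
    intro n
    rw [AdicCompletion.of_apply, AdicCompletion.of_apply]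
    refine (Submodule.Quotient.eq _).mpr ?_
    rw [key n]
    exact h n

variable {K L}

/-- if `d * u = 0` and `u` is a unit modulo `I`, then `d` lies in all powers of `I`. -/
theorem mem_pow_of_mul_eq_zero {d u : L ⊗[K] L}
    (h : d * u = 0)
    (hu : (Algebra.TensorProduct.lmul' K : L ⊗[K] L →ₐ[K] L) u ≠ 0) (n : ℕ) :
    d ∈ (KaehlerDifferential.ideal K L) ^ n := by
  set μ := (Algebra.TensorProduct.lmul' K : L ⊗[K] L →ₐ[K] L) with hμ
  set c : L := (μ u)⁻¹ with hc
  set v : L ⊗[K] L := c ⊗ₜ[K] (1 : L) with hv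
  set i : L ⊗[K] L := 1 - u * v with hi
  have hiI : i ∈ KaehlerDifferential.ideal K L := by
    rw [RingHom.mem_ker]
    change μ i = 0
    rw [hi, map_sub, map_one, map_mul, hv, hμ, Algebra.TensorProduct.lmul'_apply_tmul, mul_one, hc]
    rw [mul_inv_cancel₀ hu, sub_self]
  have hdi : d * i = d := by
    rw [hi, mul_sub, mul_one, ← mul_assoc, h, zero_mul, sub_zero]
  have hpow : ∀ n : ℕ, d = d * i ^ n := by
    intro n
    induction n with
    | zero => simp
    | succ n ih => rw [pow_succ, ← mul_assoc, ← ih, hdi]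
  rw [hpow n]
  exact Ideal.mul_mem_left _ _ (Ideal.pow_mem_pow hiI n)

/-- the easy direction: separable elements are equalised. -/
theorem mem_pow_of_isSeparable {x : L} (hx : IsSeparable K x) (n : ℕ) :
    (x ⊗ₜ[K] (1 : L) - (1 : L) ⊗ₜ[K] x : L ⊗[K] L) ∈ (KaehlerDifferential.ideal K L) ^ n := by
  set μ := (Algebra.TensorProduct.lmul' K : L ⊗[K] L →ₐ[K] L) with hμ
  set f := minpoly K x with hf
  set a : L ⊗[K] L := x ⊗ₜ[K] (1 : L) with ha
  set b : L ⊗[K] L := (1 : L) ⊗ₜ[K] x with hb
  have hfa : Polynomial.aeval a f = 0 := by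
    have : a = (Algebra.TensorProduct.includeLeft : L →ₐ[K] L ⊗[K] L) x := rfl
    rw [this, Polynomial.aeval_algHom_apply, hf, minpoly.aeval, map_zero]
  have hfb : Polynomial.aeval b f = 0 := by
    have : b = (Algebra.TensorProduct.includeRight : L →ₐ[K] L ⊗[K] L) x := rfl
    rw [this, Polynomial.aeval_algHom_apply, hf, minpoly.aeval, map_zero]
  set g := f.map (algebraMap K (L ⊗[K] L)) with hg
  obtain ⟨k, hk⟩ := Polynomial.binomExpansion g b (a - b)
  rw [add_sub_cancel, hg, Polynomial.eval_map_algebraMap, Polynomial.eval_map_algebraMap, hfa, hfb,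
    zero_add, Polynomial.derivative_map, Polynomial.eval_map_algebraMap] at hk
  set u := Polynomial.aeval b (Polynomial.derivative f) + k * (a - b) with hu
  have hdu : (a - b) * u = 0 := by
    rw [hu, hk]; ring
  have hd : a - b ∈ KaehlerDifferential.ideal K L := by
    rw [RingHom.mem_ker]
    change μ (a - b) = 0
    rw [map_sub, ha, hb, hμ, Algebra.TensorProduct.lmul'_apply_tmul, Algebra.TensorProduct.lmul'_apply_tmul,
      mul_one, one_mul, sub_self]
  have hμu : μ u ≠ 0 := by
    have h1 : μ (a - b) = 0 := hd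
    have h2 : μ b = x := by
      rw [hb, hμ, Algebra.TensorProduct.lmul'_apply_tmul, one_mul]
    rw [hu, map_add, map_mul, h1, mul_zero, add_zero, ← Polynomial.aeval_algHom_apply, h2]
    exact hx.aeval_derivative_ne_zero (minpoly.aeval K x)
  exact mem_pow_of_mul_eq_zero hdu hμu n

end Groth.Agent.Helper7.SepCla
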