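import Mathlib

/-! Descent of annihilators from `L ⊗[K] L` to `E ⊗[K] E` for an intermediate field `E`. -/

namespace Groth.Agent.Helper7.SepClb

open TensorProduct

universe u

variable {K L : Type u} [Field K] [Field L] [Algebra K L] (E : IntermediateField K L)

/-- inclusion `E ⊗ E → L ⊗ L`. -/
noncomputable def incl : E ⊗[K] E →ₐ[K] L ⊗[K] L :=
  Algebra.TensorProduct.map E.val E.val

theorem incl_tmul (e e' : E) : incl E (e ⊗ₜ[K] e') = (e : L) ⊗ₜ[K] (e' : L) := by
  simp [incl]

/-- `φ ⊗ ψ` for `E`-linear functionals. -/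
noncomputable def Phi (φ ψ : L →ₗ[E] E) : L ⊗[K] L →ₗ[K] E ⊗[K] E :=
  TensorProduct.map (φ.restrictScalars K) (ψ.restrictScalars K)

theorem Phi_tmul (φ ψ : L →ₗ[E] E) (l l' : L) :
    Phi E φ ψ (l ⊗ₜ[K] l') = φ l ⊗ₜ[K] ψ l' := by
  simp [Phi]

theorem Phi_incl_mul (φ ψ : L →ₗ[E] E) (b : E ⊗[K] E) (a : L ⊗[K] L) :
    Phi E φ ψ (incl E b * a) = b * Phi E φ ψ a := by
  induction a using TensorProduct.induction_on with
  | zero => simp
  | add a1 a2 h1 h2 => rw [mul_add, map_add, h1, h2, map_add, mul_add]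
  | tmul l l' =>
    induction b using TensorProduct.induction_on with
    | zero => simp
    | add b1 b2 h1 h2 => rw [map_add, add_mul, map_add, h1, h2, add_mul]
    | tmul e e' =>
      have h1 : ∀ (χ : L →ₗ[E] E) (e : E) (l : L), χ ((e : L) * l) = e * χ l := by
        intro χ e l
        have : (e : L) * l = e • l := rfl
        rw [this, map_smul, smul_eq_mul]
      rw [incl_tmul, Algebra.TensorProduct.tmul_mul_tmul, Phi_tmul, Phi_tmul,
        Algebra.TensorProduct.tmul_mul_tmul, h1, h1]

/-- projection `L ⊗[K] L → L ⊗[E] L`. -/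
noncomputable def proj : L ⊗[K] L →ₗ[K] L ⊗[E] L :=
  TensorProduct.lift ((TensorProduct.mk E L L).restrictScalars₁₂ K K)

theorem proj_tmul (l l' : L) : proj E (l ⊗ₜ[K] l') = l ⊗ₜ[E] l' := by
  simp [proj]

theorem lmul_proj (a : L ⊗[K] L) :
    Algebra.TensorProduct.lmul' E (proj E a) = Algebra.TensorProduct.lmul' K a := by
  induction a using TensorProduct.induction_on with
  | zero => simp
  | add a1 a2 h1 h2 => rw [map_add, map_add, h1, h2, map_add]
  | tmul l l' => rw [proj_tmul, Algebra.TensorProduct.lmul'_apply_tmul,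
      Algebra.TensorProduct.lmul'_apply_tmul]

theorem repr_proj {ι : Type*} (b : Module.Basis ι E L) (a : L ⊗[K] L) (i j : ι) :
    (b.tensorProduct b).repr (proj E a) (i, j) =
      Algebra.TensorProduct.lmul' K (Phi E (b.coord i) (b.coord j) a) := by
  induction a using TensorProduct.induction_on with
  | zero => simp
  | add a1 a2 h1 h2 => rw [map_add, map_add, Finsupp.add_apply, h1, h2, map_add, map_add]
  | tmul l l' =>
    rw [proj_tmul, Module.Basis.tensorProduct_repr_tmul_apply, Phi_tmul,
      Algebra.TensorProduct.lmul'_apply_tmul, Module.Basis.coord_apply, Module.Basis.coord_apply,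
      smul_eq_mul, mul_comm]

/-- descent of annihilating elements. -/
theorem exists_descent (dE : E ⊗[K] E) (u : L ⊗[K] L) (h : incl E dE * u = 0)
    (hu : Algebra.TensorProduct.lmul' K u ≠ 0) :
    ∃ t : E ⊗[K] E, dE * t = 0 ∧ Algebra.TensorProduct.lmul' K t ≠ 0 := by
  by_contra hcon
  push Not at hcon
  apply hu
  set b := Module.Free.chooseBasis E L with hb
  have h0 : (b.tensorProduct b).repr (proj E u) = 0 := by
    refine Finsupp.ext ?_
    rintro ⟨i, j⟩
    rw [repr_proj, Finsupp.zero_apply]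
    apply hcon
    rw [← Phi_incl_mul, h, map_zero]
  have h1 : proj E u = 0 := by
    have := congrArg (b.tensorProduct b).repr.symm h0
    simpa using this
  rw [← lmul_proj E u, h1, map_zero]

end Groth.Agent.Helper7.SepClb
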