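import Mathlib
import Groth.Agent.Helper7.SepCla
import Groth.Agent.Helper7.SepClb

/-! The hard direction: equalised elements are separable algebraic. -/

namespace Groth.Agent.Helper7.SepClc

open TensorProduct IntermediateField

universe u

variable {K : Type u} [Field K]

section Omega

variable {E : Type u} [Field E] [Algebra K E]

/-- an element of `E ⊗ E` acts on `Ω` through the multiplication map. -/
theorem smul_omega (t : E ⊗[K] E) (ω : Ω[E⁄K]) :
    t • ω = (Algebra.TensorProduct.lmul' K t : E) • ω := by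
  set c : E := Algebra.TensorProduct.lmul' K t with hc
  have h1 : t - algebraMap E (E ⊗[K] E) c ∈ KaehlerDifferential.ideal K E := by
    rw [RingHom.mem_ker, map_sub, Algebra.TensorProduct.algebraMap_apply]
    change Algebra.TensorProduct.lmul' K t - Algebra.TensorProduct.lmul' K _ = 0
    rw [Algebra.TensorProduct.lmul'_apply_tmul, ← hc]
    simp
  have h2 : (t - algebraMap E (E ⊗[K] E) c) • ω = 0 :=
    Ideal.Cotangent.smul_eq_zero_of_mem h1 ω
  rw [sub_smul, sub_eq_zero, algebraMap_smul] at h2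
  exact h2

theorem D_eq_zero_of (x : E) (t : E ⊗[K] E)
    (h : ((1 : E) ⊗ₜ[K] x - x ⊗ₜ[K] (1 : E)) * t = 0)
    (ht : Algebra.TensorProduct.lmul' K t ≠ 0) : KaehlerDifferential.D K E x = 0 := by
  have h1 : t • KaehlerDifferential.D K E x = 0 := by
    have hDx : KaehlerDifferential.D K E x = KaehlerDifferential.fromIdeal K E
        ⟨1 ⊗ₜ x - x ⊗ₜ 1, KaehlerDifferential.one_smul_sub_smul_one_mem_ideal K x⟩ := rfl
    rw [hDx, ← map_smul]
    have : (t • (⟨1 ⊗ₜ x - x ⊗ₜ 1, KaehlerDifferential.one_smul_sub_smul_one_mem_ideal K x⟩ :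
        KaehlerDifferential.ideal K E) : KaehlerDifferential.ideal K E) = 0 := by
      apply Subtype.ext
      rw [Submodule.coe_smul, smul_eq_mul, mul_comm]
      exact h
    rw [this, map_zero]
  rw [smul_omega] at h1
  exact (smul_eq_zero.mp h1).resolve_left ht

end Omega

variable {L : Type u} [Field L] [Algebra K L]

/-- the intermediate field of elements of `E` killed by the universal derivation. -/
noncomputable def killed (E : IntermediateField K L) : IntermediateField K L where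
  carrier := {z | ∃ h : z ∈ E, KaehlerDifferential.D K E ⟨z, h⟩ = 0}
  mul_mem' := by
    rintro a b ⟨ha, ha'⟩ ⟨hb, hb'⟩
    refine ⟨E.mul_mem ha hb, ?_⟩
    have : (⟨a * b, E.mul_mem ha hb⟩ : E) = ⟨a, ha⟩ * ⟨b, hb⟩ := rfl
    rw [this, Derivation.leibniz, ha', hb', smul_zero, smul_zero, add_zero]
  add_mem' := by
    rintro a b ⟨ha, ha'⟩ ⟨hb, hb'⟩
    refine ⟨E.add_mem ha hb, ?_⟩
    have : (⟨a + b, E.add_mem ha hb⟩ : E) = ⟨a, ha⟩ + ⟨b, hb⟩ := rfl
    rw [this, map_add, ha', hb', add_zero]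
  algebraMap_mem' := by
    intro k
    refine ⟨E.algebraMap_mem k, ?_⟩
    have : (⟨algebraMap K L k, E.algebraMap_mem k⟩ : E) = algebraMap K E k := rfl
    rw [this, Derivation.map_algebraMap]
  inv_mem' := by
    rintro a ⟨ha, ha'⟩
    refine ⟨E.inv_mem ha, ?_⟩
    have : (⟨a⁻¹, E.inv_mem ha⟩ : E) = (⟨a, ha⟩ : E)⁻¹ := rfl
    rw [this, Derivation.leibniz_inv, ha', smul_zero]

theorem subsingleton_omega (x : L)
    (hx : KaehlerDifferential.D K K⟮x⟯ ⟨x, mem_adjoin_simple_self K x⟩ = 0) :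
    Subsingleton Ω[K⟮x⟯⁄K] := by
  have h1 : K⟮x⟯ ≤ killed K⟮x⟯ := by
    rw [adjoin_simple_le_iff]
    exact ⟨mem_adjoin_simple_self K x, hx⟩
  have h2 : ∀ z : K⟮x⟯, KaehlerDifferential.D K K⟮x⟯ z = 0 := by
    intro z
    obtain ⟨h, h'⟩ := h1 z.2
    exact h'
  have h3 : (⊤ : Submodule K⟮x⟯ Ω[K⟮x⟯⁄K]) = ⊥ := by
    rw [← KaehlerDifferential.span_range_derivation, Submodule.span_eq_bot]
    rintro _ ⟨z, rfl⟩
    exact h2 z
  refine subsingleton_of_forall_eq 0 fun ω => ?_
  have : ω ∈ (⊤ : Submodule K⟮x⟯ Ω[K⟮x⟯⁄K]) := Submodule.mem_top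
  rw [h3] at this
  exact (Submodule.mem_bot _).mp this

theorem isSeparable_of (hfg : (⊤ : IntermediateField K L).FG) (x : L)
    (h : ∀ n : ℕ, (x ⊗ₜ[K] (1 : L) - (1 : L) ⊗ₜ[K] x : L ⊗[K] L) ∈
      (KaehlerDifferential.ideal K L) ^ n) : IsSeparable K x := by
  have : Algebra.EssFiniteType K L := IntermediateField.fg_top_iff.mp hfg
  have : IsNoetherianRing (L ⊗[K] L) := Algebra.EssFiniteType.isNoetherianRing L (L ⊗[K] L)
  set d : L ⊗[K] L := x ⊗ₜ[K] (1 : L) - (1 : L) ⊗ₜ[K] x with hd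
  have hmem : d ∈ (⨅ i : ℕ, (KaehlerDifferential.ideal K L) ^ i • ⊤ :
      Submodule (L ⊗[K] L) (L ⊗[K] L)) := by
    rw [Submodule.mem_iInf]
    intro n
    rw [smul_eq_mul, Ideal.mul_top]
    exact h n
  obtain ⟨r, hr⟩ := (Ideal.mem_iInf_smul_pow_eq_bot_iff _ d).mp hmem
  set u : L ⊗[K] L := 1 - r with hu
  have hdu : d * u = 0 := by
    rw [hu, mul_sub, mul_one, mul_comm, ← smul_eq_mul, hr, sub_self]
  have hμu : Algebra.TensorProduct.lmul' K u ≠ 0 := by
    have : Algebra.TensorProduct.lmul' K (r : L ⊗[K] L) = 0 := r.2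
    rw [hu, map_sub, map_one, this, sub_zero]
    exact one_ne_zero
  set E : IntermediateField K L := K⟮x⟯ with hE
  set xE : E := ⟨x, mem_adjoin_simple_self K x⟩ with hxE
  set dE : E ⊗[K] E := (1 : E) ⊗ₜ[K] xE - xE ⊗ₜ[K] (1 : E) with hdE
  have hincl : SepClb.incl E dE = -d := by
    rw [hdE, map_sub, SepClb.incl_tmul, SepClb.incl_tmul, hd]
    simp [hxE]
  obtain ⟨t, ht, ht'⟩ := SepClb.exists_descent E dE u (by rw [hincl, neg_mul, hdu, neg_zero]) hμu
  have hD : KaehlerDifferential.D K E xE = 0 := D_eq_zero_of xE t ht ht'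
  have : Subsingleton Ω[E⁄K] := subsingleton_omega x hD
  have : Algebra.FormallyUnramified K E := ⟨inferInstance⟩
  have : Algebra.EssFiniteType K E :=
    IntermediateField.essFiniteType_iff.mpr (fg_adjoin_of_finite (Set.finite_singleton x))
  have : Algebra.IsSeparable K E := Algebra.FormallyUnramified.isSeparable K E
  have hsep : IsSeparable K xE := Algebra.IsSeparable.isSeparable K xE
  unfold IsSeparable at hsep ⊢
  rwa [IntermediateField.minpoly_eq] at hsep

/-- the full statement -/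
theorem main (hfg : (⊤ : IntermediateField K L).FG) (x : L) :
    AdicCompletion.of (KaehlerDifferential.ideal K L) (L ⊗[K] L) (x ⊗ₜ[K] (1 : L)) =
        AdicCompletion.of (KaehlerDifferential.ideal K L) (L ⊗[K] L) ((1 : L) ⊗ₜ[K] x) ↔
      x ∈ separableClosure K L := by
  rw [SepCla.of_eq_iff, mem_separableClosure_iff]
  exact ⟨isSeparable_of hfg x, fun hx n => SepCla.mem_pow_of_isSeparable hx n⟩

end Groth.Agent.Helper7.SepClc
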