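import Mathlib
import Groth.Agent.Helper4.SchDescent

set_option autoImplicit false
universe u

namespace Groth.Agent.Helper7.SepDesc

open CategoryTheory CategoryTheory.Limits AlgebraicGeometry MorphismProperty

variable {U M T : Scheme.{u}} (m : U ⟶ M) (f : M ⟶ T)

abbrev fppf : MorphismProperty Scheme.{u} := @Surjective ⊓ @Flat ⊓ @LocallyOfFinitePresentation

lemma fppf_map [Surjective m] [Flat m] [LocallyOfFinitePresentation m] :
    fppf (pullback.map (m ≫ f) (m ≫ f) f f m m (𝟙 T) (Category.comp_id _) (Category.comp_id _)) := by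
  have hm : fppf m := ⟨⟨inferInstance, inferInstance⟩, inferInstance⟩
  exact MorphismProperty.pullbackMap (P := fppf) hm hm rfl rfl

/-- the comparison `U ×_M U ⟶ U ×_T U` -/
noncomputable abbrev cmp : pullback m m ⟶ pullback (m ≫ f) (m ≫ f) :=
  pullback.map m m (m ≫ f) (m ≫ f) (𝟙 _) (𝟙 _) f (Category.id_comp _).symm (Category.id_comp _).symm

lemma cmp_snd : cmp m f ≫ pullback.snd _ _ = pullback.snd m m := by
  rw [pullback.lift_snd, Category.comp_id]

theorem quasiSeparated_descend [Surjective m] [Flat m] [LocallyOfFinitePresentation m]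
    [QuasiCompact m] [QuasiSeparated (m ≫ f)] : QuasiSeparated f := by
  rw [quasiSeparated_iff]
  have hpb := pullback_map_diagonal_isPullback m m f
  have hq : QuasiCompact (cmp m f) := by
    haveI : QuasiCompact (cmp m f ≫ pullback.snd (m ≫ f) (m ≫ f)) := by
      rw [cmp_snd]; infer_instance
    exact QuasiCompact.of_comp (cmp m f) (pullback.snd (m ≫ f) (m ≫ f))
  exact of_isPullback_of_descendsAlong (P := @QuasiCompact) (Q := fppf) hpb.flip (fppf_map m f) hq

theorem isSeparated_descend [Surjective m] [Flat m] [LocallyOfFinitePresentation m]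
    [IsProper m] [IsSeparated (m ≫ f)] : IsSeparated f := by
  rw [isSeparated_iff]
  have hpb := pullback_map_diagonal_isPullback m m f
  have hq : IsClosedImmersion (cmp m f) := by
    rw [IsClosedImmersion.iff_isProper_and_mono]
    constructor
    · haveI : IsProper (cmp m f ≫ pullback.snd (m ≫ f) (m ≫ f)) := by
        rw [cmp_snd]; infer_instance
      exact IsProper.of_comp (cmp m f) (pullback.snd (m ≫ f) (m ≫ f))
    · exact MorphismProperty.of_isPullback (P := MorphismProperty.monomorphisms _) hpb
        (inferInstance : Mono (pullback.diagonal f))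
  exact Groth.Agent.Helper4.SchDescent.isClosedImmersion_descend hpb.flip (fppf_map m f) hq

end Groth.Agent.Helper7.SepDesc
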