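import Mathlib
import Groth.Agent.Helper1.RegGlobalDim

/-!
# Duals of finite modules over regular rings of dimension `≤ 2` are projective
(the kernel-of-projectives argument is adapted from `Groth.Agent.Lead.RegDimTwo`)
-/

set_option autoImplicit false
universe u
open CategoryTheory CategoryTheory.Limits

namespace Groth.Agent.Helper7.SerreA

variable {R : Type u} [CommRing R]

theorem finite_dual [IsNoetherianRing R] (M : Type u) [AddCommGroup M] [Module R M]
    [Module.Finite R M] : Module.Finite R (Module.Dual R M) := by
  obtain ⟨n, f, hf⟩ := Module.Finite.exists_fin' R M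
  have hinj : Function.Injective f.dualMap := LinearMap.dualMap_injective_of_surjective hf
  exact Module.Finite.of_injective f.dualMap hinj

open Groth.Agent.Helper1.TorLib in
theorem projective_ker_of_pd (P Q : Type u) [AddCommGroup P] [Module R P] [AddCommGroup Q]
    [Module R Q] [Module.Projective R P] [Module.Projective R Q] (φ : P →ₗ[R] Q)
    (h : HasProjectiveDimensionLT (ModuleCat.of R (Q ⧸ LinearMap.range φ)) 3) :
    Module.Projective R (LinearMap.ker φ) := by
  have hex1 : Function.Exact (LinearMap.range φ).subtype (LinearMap.range φ).mkQ :=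
    LinearMap.exact_subtype_mkQ _
  have hS1 := scOfLinear_shortExact (LinearMap.range φ).subtype (LinearMap.range φ).mkQ
    (Submodule.subtype_injective _) (Submodule.mkQ_surjective _) hex1
  have hQ : Projective (scOfLinear (LinearMap.range φ).subtype (LinearMap.range φ).mkQ hex1).X₂ := by
    show Projective (ModuleCat.of R Q)
    rw [← IsProjective.iff_projective]
    infer_instance
  have h1 : HasProjectiveDimensionLT (ModuleCat.of R (LinearMap.range φ)) 2 :=
    (hS1.hasProjectiveDimensionLT_X₃_iff 1 hQ).mp h
  have hex2 : Function.Exact (LinearMap.ker φ).subtype φ.rangeRestrict := by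
    rw [LinearMap.exact_iff, LinearMap.ker_rangeRestrict, Submodule.range_subtype]
  have hS2 := scOfLinear_shortExact (LinearMap.ker φ).subtype φ.rangeRestrict
    (Submodule.subtype_injective _) φ.surjective_rangeRestrict hex2
  have hP : Projective (scOfLinear (LinearMap.ker φ).subtype φ.rangeRestrict hex2).X₂ := by
    show Projective (ModuleCat.of R P)
    rw [← IsProjective.iff_projective]
    infer_instance
  have h2 : HasProjectiveDimensionLT (ModuleCat.of R (LinearMap.ker φ)) 1 :=
    (hS2.hasProjectiveDimensionLT_X₃_iff 0 hP).mp h1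
  rw [← projective_iff_hasProjectiveDimensionLT_one, ← IsProjective.iff_projective] at h2
  exact h2

/-- global dimension `≤ 2` for finite modules over a regular ring of dimension `≤ 2` -/
theorem pd_lt_three [IsRegularRing R] (hdim : ringKrullDim R ≤ 2) (M : ModuleCat.{u} R)
    [Module.Finite R M] : HasProjectiveDimensionLT M 3 := by
  have key := (ModuleCat.hasProjectiveDimensionLE_iff_forall_maximalSpectrum 2 M).mpr
  apply key
  intro m
  haveI : m.1.IsPrime := m.2.isPrime
  have hreg : IsRegularLocalRing (Localization.AtPrime m.1) := inferInstance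
  have hle : ringKrullDim (Localization.AtPrime m.1) ≤ 2 := by
    rw [IsLocalization.AtPrime.ringKrullDim_eq_height m.1 (Localization.AtPrime m.1)]
    exact le_trans (Ideal.height_le_ringKrullDim_of_ne_top m.2.ne_top) hdim
  have hne : ringKrullDim (Localization.AtPrime m.1) ≠ ⊥ := ringKrullDim_ne_bot
  have hnt : ringKrullDim (Localization.AtPrime m.1) ≠ ⊤ := by
    intro ht
    rw [ht] at hle
    exact absurd hle (by decide)
  obtain ⟨d, hd⟩ : ∃ d : ℕ, ringKrullDim (Localization.AtPrime m.1) = d := by
    obtain ⟨e, he⟩ := WithBot.ne_bot_iff_exists.mp hne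
    have het : e ≠ ⊤ := by
      rintro rfl
      exact hnt he.symm
    exact ⟨e.toNat, by rw [← he, ← ENat.natCast_toNat het]; rfl⟩
  have hd2 : d ≤ 2 := by
    rw [hd] at hle
    exact_mod_cast hle
  have := Groth.Agent.Helper1.TorLib.hasProjectiveDimensionLT_of_isRegularLocalRing
    (A := Localization.AtPrime m.1) d hd (M.localizedModule m.1.primeCompl)
  exact hasProjectiveDimensionLT_of_ge _ (d + 1) 3 (by omega)

theorem projective_dual [IsRegularRing R] (hdim : ringKrullDim R ≤ 2) (N : Type u)
    [AddCommGroup N] [Module R N] [Module.Finite R N] :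
    Module.Projective R (Module.Dual R N) := by
  obtain ⟨n, π, hπ⟩ := Module.Finite.exists_fin' R N
  haveI : Module.Finite R (LinearMap.ker π) := inferInstance
  obtain ⟨m, ρ, hρ⟩ := Module.Finite.exists_fin' R (LinearMap.ker π)
  let ψ : (Fin m → R) →ₗ[R] (Fin n → R) := (LinearMap.ker π).subtype ∘ₗ ρ
  have hψ : LinearMap.range ψ = LinearMap.ker π := by
    rw [LinearMap.range_comp, LinearMap.range_eq_top.mpr hρ, Submodule.map_top,
      Submodule.range_subtype]
  have hproj : Module.Projective R (LinearMap.ker ψ.dualMap) :=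
    projective_ker_of_pd _ _ ψ.dualMap (pd_lt_three hdim _)
  let e2 : Module.Dual R N ≃ₗ[R] Module.Dual R ((Fin n → R) ⧸ LinearMap.ker π) :=
    (π.quotKerEquivOfSurjective hπ).dualMap
  let e3 : Module.Dual R ((Fin n → R) ⧸ LinearMap.ker π) ≃ₗ[R] (LinearMap.ker π).dualAnnihilator :=
    Submodule.dualQuotEquivDualAnnihilator _
  have h4 : (LinearMap.ker π).dualAnnihilator = LinearMap.ker ψ.dualMap := by
    rw [LinearMap.ker_dualMap_eq_dualAnnihilator_range, hψ]
  let e : Module.Dual R N ≃ₗ[R] LinearMap.ker ψ.dualMap := e2 ≪≫ₗ e3 ≪≫ₗ LinearEquiv.ofEq _ _ h4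
  exact Module.Projective.of_equiv e.symm

end Groth.Agent.Helper7.SerreA
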