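import Mathlib
import Groth.Prelude.Def_ComodSub

/-!
# The matrix corepresentation attached to a finite projective left comodule
-/

set_option autoImplicit false
universe u v w
open TensorProduct

namespace Groth.Agent.Helper7.SerreB

section

variable {R : Type u} [CommRing R] {A : Type v} [CommRing A] [Algebra R A]
variable {P : Type w} [AddCommGroup P] [Module R P]

/-- contraction of the module factor against a linear form -/
noncomputable def ctr (s : Module.Dual R P) : A ⊗[R] P →ₗ[R] A :=
  (TensorProduct.rid R A).toLinearMap ∘ₗ s.lTensor A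

lemma ctr_tmul (s : Module.Dual R P) (a : A) (p : P) : ctr s (a ⊗ₜ[R] p) = s p • a := by
  simp [ctr]

lemma ctr_assoc (s : Module.Dual R P) (z : A ⊗[R] A) (p : P) :
    (ctr (A := A) s).lTensor A (TensorProduct.assoc R A A P (z ⊗ₜ[R] p)) = s p • z := by
  induction z using TensorProduct.induction_on with
  | zero => simp
  | tmul x y =>
    rw [TensorProduct.assoc_tmul, LinearMap.lTensor_tmul, ctr_tmul, TensorProduct.tmul_smul]
  | add x y hx hy => rw [TensorProduct.add_tmul, map_add, map_add, hx, hy, smul_add]

end

section Main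

variable {R : Type u} [CommRing R] {A : Type v} [CommRing A] [Bialgebra R A]
variable {P : Type w} [AddCommGroup P] [Module R P] [Module.Finite R P] [Module.Projective R P]

theorem exists_matrix (l : ComodSub.LComod R A P) :
    ∃ (d : ℕ) (g : Fin d → P) (σ : Fin d → Module.Dual R P) (b a : Matrix (Fin d) (Fin d) A),
      (∀ p : P, p = ∑ i, σ i p • g i) ∧
      (∀ j, l.coact (g j) = ∑ i, b j i ⊗ₜ[R] g i) ∧
      (∀ j i, a j i = b j i + algebraMap R A ((if j = i then 1 else 0) - σ i (g j))) ∧
      (∀ i j, CoalgebraStruct.comul (R := R) (a i j) = ∑ m, a i m ⊗ₜ[R] a m j) ∧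
      (∀ i j, CoalgebraStruct.counit (R := R) (a i j) = if i = j then 1 else 0) := by
  classical
  obtain ⟨d, π, hπ⟩ := Module.Finite.exists_fin' R P
  obtain ⟨σ₀, hσ₀⟩ := Module.projective_lifting_property π LinearMap.id hπ
  let g : Fin d → P := fun i => π (Pi.single i 1)
  let σ : Fin d → Module.Dual R P := fun i => LinearMap.proj i ∘ₗ σ₀
  have hdb : ∀ p : P, p = ∑ i, σ i p • g i := by
    intro p
    have h1 : π (σ₀ p) = p := LinearMap.congr_fun hσ₀ p
    have h2 : σ₀ p = ∑ i, σ₀ p i • (Pi.single i 1 : Fin d → R) := by
      ext k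
      simp [Finset.sum_apply, Pi.single_apply]
    conv_lhs => rw [← h1, h2]
    rw [map_sum]
    refine Finset.sum_congr rfl (fun i _ => ?_)
    rw [map_smul]
    rfl
  let E : Fin d → Fin d → R := fun j i => σ i (g j)
  have hEE : ∀ j i, ∑ m, E j m * E m i = E j i := by
    intro j i
    have := congrArg (σ i) (hdb (g j))
    rw [map_sum] at this
    simp only [map_smul, smul_eq_mul] at this
    exact this.symm
  let b : Matrix (Fin d) (Fin d) A := fun j i => ctr (σ i) (l.coact (g j))
  have hDB : ∀ x : A ⊗[R] P, x = ∑ i, ctr (σ i) x ⊗ₜ[R] g i := by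
    intro x
    induction x using TensorProduct.induction_on with
    | zero => simp
    | tmul a p =>
      simp only [ctr_tmul]
      conv_lhs => rw [hdb p]
      rw [TensorProduct.tmul_sum]
      refine Finset.sum_congr rfl (fun i _ => ?_)
      rw [TensorProduct.tmul_smul, TensorProduct.smul_tmul']
    | add x y hx hy =>
      conv_lhs => rw [hx, hy]
      rw [← Finset.sum_add_distrib]
      refine Finset.sum_congr rfl (fun i _ => ?_)
      rw [map_add, TensorProduct.add_tmul]
  have hco : ∀ j, l.coact (g j) = ∑ i, b j i ⊗ₜ[R] g i := fun j => hDB _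
  -- b E = b
  have hbE : ∀ j i, ∑ m, E m i • b j m = b j i := by
    intro j i
    have := congrArg (ctr (σ i)) (hco j)
    rw [map_sum] at this
    simp only [ctr_tmul] at this
    exact this.symm
  -- E b = b
  have hEb : ∀ j i, ∑ m, E j m • b m i = b j i := by
    intro j i
    have h1 : l.coact (g j) = ∑ m, E j m • l.coact (g m) := by
      conv_lhs => rw [hdb (g j)]
      rw [map_sum]
      refine Finset.sum_congr rfl (fun m _ => ?_)
      rw [map_smul]
    have := congrArg (ctr (σ i)) h1
    rw [map_sum] at this
    simp only [map_smul] at this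
    exact this.symm
  -- counit
  have hεb : ∀ j i, CoalgebraStruct.counit (R := R) (b j i) = E j i := by
    intro j i
    have h1 := LinearMap.congr_fun l.counit_comp (g j)
    simp only [LinearMap.comp_apply, TensorProduct.mk_apply] at h1
    rw [hco j, map_sum] at h1
    simp only [LinearMap.rTensor_tmul] at h1
    have h2 := congrArg (TensorProduct.lid R P) h1
    rw [map_sum] at h2
    simp only [TensorProduct.lid_tmul, one_smul] at h2
    -- h2 : ∑ x, ε (b j x) • g x = g j
    have h3 : ∀ m, ∑ x, CoalgebraStruct.counit (R := R) (b j x) * E x m = E j m := by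
      intro m
      have := congrArg (σ m) h2
      rw [map_sum] at this
      simp only [map_smul, smul_eq_mul] at this
      exact this
    rw [← hbE j i, map_sum]
    simp only [map_smul, smul_eq_mul]
    rw [← h3 i]
    refine Finset.sum_congr rfl (fun m _ => ?_)
    ring
  -- comultiplication
  have hΔb : ∀ j i, CoalgebraStruct.comul (R := R) (b j i) = ∑ m, b j m ⊗ₜ[R] b m i := by
    intro j i
    have h1 := LinearMap.congr_fun l.coassoc (g j)
    simp only [LinearMap.comp_apply, LinearEquiv.coe_coe] at h1
    rw [hco j, map_sum, map_sum, map_sum] at h1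
    simp only [LinearMap.lTensor_tmul, LinearMap.rTensor_tmul] at h1
    have h2 := congrArg ((ctr (A := A) (σ i)).lTensor A) h1
    rw [map_sum, map_sum] at h2
    simp only [LinearMap.lTensor_tmul, ctr_assoc] at h2
    -- h2 : ∑ x, b j x ⊗ ctr (σ i) (coact (g x)) = ∑ x, σ i (g x) • comul (b j x)
    have h3 : ∑ x, E x i • CoalgebraStruct.comul (R := R) (b j x) =
        CoalgebraStruct.comul (R := R) (b j i) := by
      rw [← hbE j i, map_sum]
      simp only [map_smul]
    rw [← h3, ← h2]
  refine ⟨d, g, σ, b, fun j i => b j i + algebraMap R A ((if j = i then 1 else 0) - E j i),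
    hdb, hco, fun j i => rfl, ?_, ?_⟩
  · intro j i
    have hc : ∀ r : R, CoalgebraStruct.comul (R := R) (algebraMap R A r) =
        r • ((1 : A) ⊗ₜ[R] (1 : A)) := by
      intro r
      rw [Algebra.algebraMap_eq_smul_one, map_smul, Bialgebra.comul_one,
        Algebra.TensorProduct.one_def]
    have hal : ∀ r : R, algebraMap R A r = r • (1 : A) := Algebra.algebraMap_eq_smul_one
    have t1 : ∑ m, b j m ⊗ₜ[R] (((if m = i then (1 : R) else 0) - E m i) • (1 : A)) = 0 := by
      have : ∀ m, b j m ⊗ₜ[R] (((if m = i then (1 : R) else 0) - E m i) • (1 : A)) =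
          (((if m = i then (1 : R) else 0) - E m i) • b j m) ⊗ₜ[R] (1 : A) := by
        intro m
        rw [← TensorProduct.smul_tmul]
      simp only [this]
      rw [← TensorProduct.sum_tmul]
      have h0 : ∑ m, ((if m = i then (1 : R) else 0) - E m i) • b j m = 0 := by
        simp only [sub_smul, Finset.sum_sub_distrib, hbE, ite_smul, one_smul, zero_smul,
          Finset.sum_ite_eq', Finset.mem_univ, if_true, sub_self]
      rw [h0, TensorProduct.zero_tmul]
    have t2 : ∑ m, (((if j = m then (1 : R) else 0) - E j m) • (1 : A)) ⊗ₜ[R] b m i = 0 := by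
      have : ∀ m, (((if j = m then (1 : R) else 0) - E j m) • (1 : A)) ⊗ₜ[R] b m i =
          (1 : A) ⊗ₜ[R] (((if j = m then (1 : R) else 0) - E j m) • b m i) := by
        intro m
        rw [TensorProduct.smul_tmul]
      simp only [this]
      rw [← TensorProduct.tmul_sum]
      have h0 : ∑ m, ((if j = m then (1 : R) else 0) - E j m) • b m i = 0 := by
        simp only [sub_smul, Finset.sum_sub_distrib, hEb, ite_smul, one_smul, zero_smul,
          Finset.sum_ite_eq, Finset.mem_univ, if_true, sub_self]
      rw [h0, TensorProduct.tmul_zero]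
    have t3 : ∑ m, (((if j = m then (1 : R) else 0) - E j m) • (1 : A)) ⊗ₜ[R]
        (((if m = i then (1 : R) else 0) - E m i) • (1 : A)) =
        ((if j = i then (1 : R) else 0) - E j i) • ((1 : A) ⊗ₜ[R] (1 : A)) := by
      have : ∀ m, (((if j = m then (1 : R) else 0) - E j m) • (1 : A)) ⊗ₜ[R]
          (((if m = i then (1 : R) else 0) - E m i) • (1 : A)) =
          ((((if j = m then (1 : R) else 0) - E j m) *
            ((if m = i then (1 : R) else 0) - E m i))) • ((1 : A) ⊗ₜ[R] (1 : A)) := by
        intro m
        rw [TensorProduct.tmul_smul, ← TensorProduct.smul_tmul', smul_smul, mul_comm]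
      simp only [this]
      rw [← Finset.sum_smul]
      congr 1
      have : ∀ m, ((if j = m then (1 : R) else 0) - E j m) *
          ((if m = i then (1 : R) else 0) - E m i) =
          (if j = m then (1 : R) else 0) * (if m = i then (1 : R) else 0)
            - (if j = m then (1 : R) else 0) * E m i - E j m * (if m = i then (1 : R) else 0)
            + E j m * E m i := by
        intro m; ring
      simp only [this, Finset.sum_add_distrib, Finset.sum_sub_distrib, hEE, ite_mul, one_mul,
        zero_mul, mul_ite, mul_one, mul_zero, Finset.sum_ite_eq, Finset.sum_ite_eq',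
        Finset.mem_univ, if_true]
      ring
    have hsum : ∑ m, (b j m + algebraMap R A ((if j = m then 1 else 0) - E j m)) ⊗ₜ[R]
        (b m i + algebraMap R A ((if m = i then 1 else 0) - E m i)) =
        ∑ m, b j m ⊗ₜ[R] b m i
        + ∑ m, b j m ⊗ₜ[R] (((if m = i then (1 : R) else 0) - E m i) • (1 : A))
        + ∑ m, (((if j = m then (1 : R) else 0) - E j m) • (1 : A)) ⊗ₜ[R] b m i
        + ∑ m, (((if j = m then (1 : R) else 0) - E j m) • (1 : A)) ⊗ₜ[R]
          (((if m = i then (1 : R) else 0) - E m i) • (1 : A)) := by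
      simp only [hal, TensorProduct.add_tmul, TensorProduct.tmul_add, Finset.sum_add_distrib]
      abel
    show CoalgebraStruct.comul (R := R)
        (b j i + algebraMap R A ((if j = i then 1 else 0) - E j i)) =
      ∑ m, (b j m + algebraMap R A ((if j = m then 1 else 0) - E j m)) ⊗ₜ[R]
        (b m i + algebraMap R A ((if m = i then 1 else 0) - E m i))
    rw [hsum, t1, t2, t3, map_add, hΔb, hc, add_zero, add_zero]
  · intro j i
    rw [map_add, hεb, Algebra.algebraMap_eq_smul_one, map_smul, Bialgebra.counit_one]
    simp

end Main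

end Groth.Agent.Helper7.SerreB
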