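import Mathlib
import Groth.Agent.Helper2.ComodSerre
import Groth.Agent.Helper8.LDual
import Groth.Agent.Helper7.SerreA
import Groth.Agent.Helper7.SerreB

set_option autoImplicit false
universe u
open TensorProduct

namespace Groth.Agent.Helper7.SerreC

theorem main (R : Type u) [CommRing R] [IsRegularRing R]
    (hdim : ringKrullDim R ≤ 2) (A : Type u) [CommRing A] [HopfAlgebra R A] [Module.Flat R A]
    (F : Finset A) :
    ∃ (d : ℕ) (a : Matrix (Fin d) (Fin d) A),
      (∀ i j, CoalgebraStruct.comul (R := R) (a i j) = ∑ l, a i l ⊗ₜ[R] a l j) ∧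
      (∀ i j, CoalgebraStruct.counit (R := R) (a i j) = if i = j then 1 else 0) ∧
      ∃ u : A, u * a.det = 1 ∧ (↑F : Set A) ⊆
        Algebra.adjoin R (Set.range (fun p : Fin d × Fin d => a p.1 p.2) ∪ {u}) := by
  classical
  obtain ⟨W, hW, hFW, hWfg⟩ := Groth.Agent.Helper2.ComodSerre.main (R := R) (C := A) (V := A)
    (Submodule.span R (F : Set A)) (Submodule.fg_span F.finite_toSet)
  let c₀ : HopfRep.Comod R A A := HopfRep.Comod.regular R A
  let c : HopfRep.Comod R A W := ComodSub.Comod.restr c₀ W hW
  haveI : Module.Finite R W := Module.Finite.iff_fg.mpr hWfg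
  haveI : Module.FinitePresentation R W := Module.finitePresentation_of_finite R W
  obtain ⟨l, hl⟩ := Groth.Agent.Helper8.LDual.main R A W c
  haveI : Module.Finite R (Module.Dual R W) := SerreA.finite_dual W
  haveI : Module.Projective R (Module.Dual R W) := SerreA.projective_dual hdim W
  obtain ⟨d, g, σ, b, a, hdb, hco, hab, hΔ, hε⟩ := SerreB.exists_matrix l
  have hmul : a * a.map (HopfAlgebraStruct.antipode (R := R) (A := A)) = 1 := by
    ext j i
    rw [Matrix.mul_apply]
    have h1 := HopfAlgebra.mul_antipode_lTensor_comul_apply (R := R) (a j i)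
    rw [hΔ j i, map_sum, map_sum] at h1
    simp only [LinearMap.lTensor_tmul, LinearMap.mul'_apply] at h1
    simp only [Matrix.map_apply]
    rw [h1, hε j i, Matrix.one_apply]
    split_ifs <;> simp
  refine ⟨d, a, hΔ, hε, (a.map (HopfAlgebraStruct.antipode (R := R) (A := A))).det, ?_, ?_⟩
  · rw [mul_comm, ← Matrix.det_mul, hmul, Matrix.det_one]
  · intro x hx
    set T := Algebra.adjoin R (Set.range (fun p : Fin d × Fin d => a p.1 p.2) ∪
      {(a.map (HopfAlgebraStruct.antipode (R := R) (A := A))).det}) with hT
    have hxW : x ∈ W := hFW (Submodule.subset_span hx)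
    let m : W := ⟨x, hxW⟩
    let g₀ : Module.Dual R W := (CoalgebraStruct.counit (R := R) (A := A)) ∘ₗ W.subtype
    have haT : ∀ j i, a j i ∈ T := fun j i =>
      Algebra.subset_adjoin (Or.inl ⟨(j, i), rfl⟩)
    have hbT : ∀ j i, b j i ∈ T := by
      intro j i
      have : b j i = a j i - algebraMap R A ((if j = i then 1 else 0) - σ i (g j)) := by
        rw [hab j i]; ring
      rw [this]
      exact T.sub_mem (haT j i) (T.algebraMap_mem _)
    -- the right hand side of the duality
    have hR : ComodSub.ldualFun c g₀ m = x := by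
      rw [ComodSub.ldualFun_apply]
      have h1 : g₀.rTensor A = (CoalgebraStruct.counit (R := R) (A := A)).rTensor A ∘ₗ
          W.subtype.rTensor A := LinearMap.rTensor_comp _ _ _
      rw [h1, LinearMap.comp_apply]
      have h2 : W.subtype.rTensor A (c.coact m) = CoalgebraStruct.comul (R := R) x :=
        ComodSub.restr_coact_coe c₀ W hW m
      rw [h2]
      have h3 := LinearMap.congr_fun (Coalgebra.rTensor_counit_comp_comul (R := R) (A := A)) x
      rw [LinearMap.comp_apply] at h3
      rw [h3, TensorProduct.mk_apply, TensorProduct.lid_tmul, one_smul]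
    -- the left hand side
    have hL : dualTensorHom R W A (TensorProduct.comm R A (Module.Dual R W) (l.coact g₀)) m =
        ∑ j, σ j g₀ • ∑ i, (g i) m • b j i := by
      have h1 : l.coact g₀ = ∑ j, σ j g₀ • ∑ i, b j i ⊗ₜ[R] g i := by
        conv_lhs => rw [hdb g₀]
        rw [map_sum]
        refine Finset.sum_congr rfl (fun j _ => ?_)
        rw [map_smul, hco j]
      rw [h1, map_sum, map_sum, LinearMap.sum_apply]
      refine Finset.sum_congr rfl (fun j _ => ?_)
      rw [map_smul, map_smul, LinearMap.smul_apply, map_sum, map_sum, LinearMap.sum_apply]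
      congr 1
    have hx' : x = ∑ j, σ j g₀ • ∑ i, (g i) m • b j i := by
      rw [← hL, hl g₀, hR]
    rw [hx']
    refine T.sum_mem (fun j _ => T.smul_mem (T.sum_mem (fun i _ => T.smul_mem (hbT j i) _)) _)

end Groth.Agent.Helper7.SerreC
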