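import Mathlib
import Groth.Prelude.Def_Formal2

/-! The six-term lim / lim¹ sequence of a short exact sequence of towers. -/

universe u

namespace Groth.Agent.Helper7.SixTerm

open Formal2

section

variable {G' G : ℕ → Type u} [∀ n, AddCommGroup (G' n)] [∀ n, AddCommGroup (G n)]
  (t' : ∀ n, G' (n + 1) →+ G' n) (t : ∀ n, G (n + 1) →+ G n)
  (u : ∀ n, G' n →+ G n)

/-- levelwise map on products -/
def P : (∀ n, G' n) →+ (∀ n, G n) where
  toFun x := fun n => u n (x n)
  map_zero' := by funext n; simp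
  map_add' x y := by funext n; simp

lemma P_apply (x : ∀ n, G' n) (n : ℕ) : P u x n = u n (x n) := rfl

lemma P_comm (hu : ∀ n x, t n (u (n + 1) x) = u n (t' n x)) (x : ∀ n, G' n) :
    P u (towerDiff G' t' x) = towerDiff G t (P u x) := by
  funext n
  show u n (x n - t' n (x (n + 1))) = u n (x n) - t n (u (n + 1) (x (n + 1)))
  rw [map_sub, hu]

/-- induced map on lim -/
def onLim (hu : ∀ n x, t n (u (n + 1) x) = u n (t' n x)) : limZero G' t' →+ limZero G t :=
  ((P u).comp (limZero G' t').subtype).codRestrict (limZero G t) (fun x => by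
    show towerDiff G t (P u x.1) = 0
    rw [← P_comm t' t u hu, show towerDiff G' t' x.1 = 0 from x.2, map_zero])

/-- induced map on lim¹ -/
def onLimOne (hu : ∀ n x, t n (u (n + 1) x) = u n (t' n x)) : limOne G' t' →+ limOne G t :=
  QuotientAddGroup.map _ _ (P u) (by
    rintro _ ⟨x, rfl⟩
    exact ⟨P u x, (P_comm t' t u hu x).symm⟩)

end

theorem main (G' G G'' : ℕ → Type u)
    [∀ n, AddCommGroup (G' n)] [∀ n, AddCommGroup (G n)] [∀ n, AddCommGroup (G'' n)]
    (t' : ∀ n, G' (n + 1) →+ G' n) (t : ∀ n, G (n + 1) →+ G n) (t'' : ∀ n, G'' (n + 1) →+ G'' n)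
    (u : ∀ n, G' n →+ G n) (v : ∀ n, G n →+ G'' n)
    (hu : ∀ n x, t n (u (n + 1) x) = u n (t' n x)) (hv : ∀ n x, t'' n (v (n + 1) x) = v n (t n x))
    (hinj : ∀ n, Function.Injective (u n)) (hsurj : ∀ n, Function.Surjective (v n))
    (hex : ∀ n, (v n).ker = (u n).range) :
    ∃ (α : Formal2.limZero G' t' →+ Formal2.limZero G t) (β : Formal2.limZero G t →+ Formal2.limZero G'' t'')
      (δ : Formal2.limZero G'' t'' →+ Formal2.limOne G' t')
      (ε : Formal2.limOne G' t' →+ Formal2.limOne G t) (ζ : Formal2.limOne G t →+ Formal2.limOne G'' t''),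
      (∀ (x : Formal2.limZero G' t') (n : ℕ), (α x : ∀ n, G n) n = u n ((x : ∀ n, G' n) n)) ∧
      (∀ (x : Formal2.limZero G t) (n : ℕ), (β x : ∀ n, G'' n) n = v n ((x : ∀ n, G n) n)) ∧
      (∀ (z : Formal2.limZero G'' t'') (y : ∀ n, G n) (w : ∀ n, G' n),
          (∀ n, v n (y n) = (z : ∀ n, G'' n) n) → (∀ n, u n (w n) = Formal2.towerDiff G t y n) →
            δ z = (QuotientAddGroup.mk w : Formal2.limOne G' t')) ∧
      (∀ y : ∀ n, G' n, ε (QuotientAddGroup.mk y : Formal2.limOne G' t') =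
          (QuotientAddGroup.mk (fun n => u n (y n)) : Formal2.limOne G t)) ∧
      (∀ y : ∀ n, G n, ζ (QuotientAddGroup.mk y : Formal2.limOne G t) =
          (QuotientAddGroup.mk (fun n => v n (y n)) : Formal2.limOne G'' t'')) ∧
      Function.Injective α ∧ α.range = β.ker ∧ β.range = δ.ker ∧ δ.range = ε.ker ∧ ε.range = ζ.ker ∧
      Function.Surjective ζ := by
  classical
  -- product-level facts
  have hUinj : Function.Injective (P u) := fun x y hxy => funext fun n => hinj n (congrFun hxy n)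
  have hVsurj : Function.Surjective (P v) := fun z =>
    ⟨fun n => (hsurj n (z n)).choose, funext fun n => (hsurj n (z n)).choose_spec⟩
  have hUV : Function.Exact (P u) (P v) := by
    intro y
    constructor
    · intro hy
      have h1 : ∀ n, ∃ w : G' n, u n w = y n := fun n => by
        have : y n ∈ (v n).ker := congrFun hy n
        rw [hex n] at this
        exact this
      exact ⟨fun n => (h1 n).choose, funext fun n => (h1 n).choose_spec⟩
    · rintro ⟨w, rfl⟩
      funext n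
      have : u n (w n) ∈ (v n).ker := by rw [hex n]; exact ⟨_, rfl⟩
      exact this
  -- ℤ-linear versions
  let i₁ := (towerDiff G' t').toIntLinearMap
  let i₂ := (towerDiff G t).toIntLinearMap
  let i₃ := (towerDiff G'' t'').toIntLinearMap
  let f₁ := (P u).toIntLinearMap
  let f₂ := (P v).toIntLinearMap
  have h₁ : f₁.comp i₁ = i₂.comp f₁ := LinearMap.ext fun x => P_comm t' t u hu x
  have h₂ : f₂.comp i₂ = i₃.comp f₂ := LinearMap.ext fun x => P_comm t t'' v hv x
  let ι₂ := (limZero G t).subtype.toIntLinearMap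
  let ι₃ := (limZero G'' t'').subtype.toIntLinearMap
  have hι₂ : Function.Exact ι₂ i₂ := by
    intro x
    constructor
    · intro hx; exact ⟨⟨x, hx⟩, rfl⟩
    · rintro ⟨y, rfl⟩; exact y.2
  have hι₃ : Function.Exact ι₃ i₃ := by
    intro x
    constructor
    · intro hx; exact ⟨⟨x, hx⟩, rfl⟩
    · rintro ⟨y, rfl⟩; exact y.2
  let π₁ := (QuotientAddGroup.mk' (towerDiff G' t').range).toIntLinearMap
  let π₂ := (QuotientAddGroup.mk' (towerDiff G t).range).toIntLinearMap
  have hπ₁ : Function.Exact i₁ π₁ := by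
    intro x
    exact (QuotientAddGroup.eq_zero_iff x)
  have hπ₂ : Function.Exact i₂ π₂ := by
    intro x
    exact (QuotientAddGroup.eq_zero_iff x)
  let δL := SnakeLemma.δ' i₁ i₂ i₃ f₁ f₂ hUV f₁ f₂ hUV h₁ h₂ ι₃ hι₃ π₁ hπ₁ hVsurj hUinj
  let α := onLim t' t u hu
  let β := onLim t t'' v hv
  let ε := onLimOne t' t u hu
  let ζ := onLimOne t t'' v hv
  have hδeq : ∀ (z : Formal2.limZero G'' t'') (y : ∀ n, G n) (w : ∀ n, G' n),
      (∀ n, v n (y n) = (z : ∀ n, G'' n) n) → (∀ n, u n (w n) = Formal2.towerDiff G t y n) →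
        δL z = (QuotientAddGroup.mk w : Formal2.limOne G' t') := by
    intro z y w h1 h2
    exact SnakeLemma.δ'_eq i₁ i₂ i₃ f₁ f₂ hUV f₁ f₂ hUV h₁ h₂ ι₃ hι₃ π₁ hπ₁ hVsurj hUinj z y
      (funext h1) w (funext h2)
  have hexR : Function.Exact β.toIntLinearMap δL :=
    SnakeLemma.exact_δ'_right i₁ i₂ i₃ f₁ f₂ hUV f₁ f₂ hUV h₁ h₂ ι₂ hι₂ ι₃ hι₃ π₁ hπ₁ hVsurj hUinj
      β.toIntLinearMap (LinearMap.ext fun x => rfl) Subtype.val_injective
  have hexL : Function.Exact δL ε.toIntLinearMap :=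
    SnakeLemma.exact_δ'_left i₁ i₂ i₃ f₁ f₂ hUV f₁ f₂ hUV h₁ h₂ ι₃ hι₃ π₁ hπ₁ π₂ hπ₂ hVsurj hUinj
      ε.toIntLinearMap (LinearMap.ext fun x => rfl) (QuotientAddGroup.mk'_surjective _)
  refine ⟨α, β, δL.toAddMonoidHom, ε, ζ, fun x n => rfl, fun x n => rfl, hδeq, fun y => rfl,
    fun y => rfl, ?_, ?_, ?_, ?_, ?_, ?_⟩
  · -- α injective
    intro x y hxy
    apply Subtype.ext
    apply hUinj
    exact congrArg Subtype.val hxy
  · -- α.range = β.ker
    ext x
    constructor
    · rintro ⟨w, rfl⟩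
      rw [AddMonoidHom.mem_ker]
      apply Subtype.ext
      exact (hUV _).2 ⟨w.1, rfl⟩
    · intro hx
      rw [AddMonoidHom.mem_ker] at hx
      have hx' : P v x.1 = 0 := congrArg Subtype.val hx
      obtain ⟨w, hw⟩ := (hUV _).1 hx'
      have hw' : towerDiff G' t' w = 0 := by
        apply hUinj
        rw [P_comm t' t u hu, hw, map_zero]
        exact x.2
      exact ⟨⟨w, hw'⟩, Subtype.ext hw⟩
  · -- β.range = δ.ker
    ext z
    constructor
    · rintro ⟨x, rfl⟩
      exact (hexR _).2 ⟨x, rfl⟩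
    · intro hz
      exact (hexR z).1 hz
  · -- δ.range = ε.ker
    ext c
    constructor
    · rintro ⟨z, rfl⟩
      exact (hexL _).2 ⟨z, rfl⟩
    · intro hc
      exact (hexL c).1 hc
  · -- ε.range = ζ.ker
    ext c
    constructor
    · rintro ⟨b, rfl⟩
      obtain ⟨w, rfl⟩ := QuotientAddGroup.mk_surjective b
      rw [AddMonoidHom.mem_ker]
      show (QuotientAddGroup.mk (P v (P u w)) : limOne G'' t'') = 0
      rw [(hUV _).2 ⟨w, rfl⟩]
      rfl
    · intro hc
      obtain ⟨y, rfl⟩ := QuotientAddGroup.mk_surjective c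
      rw [AddMonoidHom.mem_ker] at hc
      have hc' : (QuotientAddGroup.mk (P v y) : limOne G'' t'') = 0 := hc
      rw [QuotientAddGroup.eq_zero_iff] at hc'
      obtain ⟨z'', hz''⟩ := hc'
      obtain ⟨z, rfl⟩ := hVsurj z''
      have h3 : P v (y - towerDiff G t z) = 0 := by
        rw [map_sub, P_comm t t'' v hv, hz'', sub_self]
      obtain ⟨w, hw⟩ := (hUV _).1 h3
      refine ⟨QuotientAddGroup.mk w, ?_⟩
      show (QuotientAddGroup.mk (P u w) : limOne G t) = QuotientAddGroup.mk y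
      rw [hw, QuotientAddGroup.mk_sub, sub_eq_self, QuotientAddGroup.eq_zero_iff]
      exact ⟨z, rfl⟩
  · -- ζ surjective
    intro c
    obtain ⟨z, rfl⟩ := QuotientAddGroup.mk_surjective c
    obtain ⟨y, rfl⟩ := hVsurj z
    exact ⟨QuotientAddGroup.mk y, rfl⟩

end Groth.Agent.Helper7.SixTerm
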