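import Mathlib
import Groth.Prelude.Def_CAlg
import Groth.Agent.Helper7.CMQuot2
import Groth.Agent.Helper1.SerreFlatU

/-!
# Serre's conditions modulo a regular element (helper7)
-/

set_option autoImplicit false
set_option linter.unusedSectionVars false
set_option linter.style.haveILetI false

namespace Groth.Agent.Helper7.SkQ

open IsLocalRing Groth.Agent.Helper7.CMQuot

universe u

/-- Serre's condition `(S_k)` at the closed point of a local ring -/
def SkL (k : ℕ) (L : Type u) [CommRing L] [IsLocalRing L] : Prop :=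
  min (k : WithBot ℕ∞) (ringKrullDim L) ≤ ((LocCoh.depth L L : ℕ∞) : WithBot ℕ∞)

theorem hasSk_iff_skL (k : ℕ) (R : Type u) [CommRing R] :
    LocCoh.HasSk k R R ↔ ∀ (p : Ideal R) [p.IsPrime], SkL k (Localization.AtPrime p) :=
  Groth.Agent.Helper1.SerreFlatU.hasSk_iff k

theorem skL_congr {L L' : Type u} [CommRing L] [CommRing L'] [IsLocalRing L] [IsLocalRing L']
    [IsNoetherianRing L] [IsNoetherianRing L'] (e : L ≃+* L') (k : ℕ) : SkL k L ↔ SkL k L' := by
  unfold SkL
  rw [ringKrullDim_eq_of_ringEquiv e, Groth.Agent.Lead.PuncSec.depth_eq_of_ringEquiv e]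

theorem skL_transport {R : Type u} [CommRing R] (q : Ideal R) [q.IsPrime] (k : ℕ) :
    ∀ (q' : Ideal R) [q'.IsPrime], q' = q →
      SkL k (Localization.AtPrime q') → SkL k (Localization.AtPrime q) := by
  intro q' _ hq'
  subst hq'
  exact id

theorem num_succ (k : ℕ) (d : WithBot ℕ∞) (δ : ℕ∞) :
    min (((k + 1 : ℕ) : ℕ∞) : WithBot ℕ∞) (d + 1) ≤ ((δ + 1 : ℕ∞) : WithBot ℕ∞) ↔
      min ((k : ℕ∞) : WithBot ℕ∞) d ≤ (δ : WithBot ℕ∞) := by
  induction d using WithBot.recBotCoe with
  | bot => simp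
  | coe e =>
    have h1 : ((e : WithBot ℕ∞) + 1) = ((e + 1 : ℕ∞) : WithBot ℕ∞) := rfl
    rw [h1, ← WithBot.coe_min, ← WithBot.coe_min, WithBot.coe_le_coe, WithBot.coe_le_coe]
    have h2 : min ((k + 1 : ℕ) : ℕ∞) (e + 1) = min (k : ℕ∞) e + 1 := by
      rw [Nat.cast_add, Nat.cast_one, min_add_add_right]
    rw [h2]
    exact WithTop.add_le_add_iff_right ENat.one_ne_top

theorem num_add (k : ℕ) (D : WithBot ℕ∞) (δ : ℕ∞) (d : ℕ)
    (h : min ((k : ℕ∞) : WithBot ℕ∞) D ≤ (δ : WithBot ℕ∞)) :
    min ((k : ℕ∞) : WithBot ℕ∞) (D + (d : WithBot ℕ∞)) ≤ ((δ + d : ℕ∞) : WithBot ℕ∞) := by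
  induction D using WithBot.recBotCoe with
  | bot => simp
  | coe e =>
    have h1 : ((e : WithBot ℕ∞) + (d : WithBot ℕ∞)) = ((e + d : ℕ∞) : WithBot ℕ∞) := rfl
    rw [h1, ← WithBot.coe_min, WithBot.coe_le_coe]
    rw [← WithBot.coe_min, WithBot.coe_le_coe] at h
    calc min (k : ℕ∞) (e + d) ≤ min (k : ℕ∞) e + d := by
          rcases le_total (k : ℕ∞) e with hke | hke
          · rw [min_eq_left hke]
            exact (min_le_left _ _).trans le_self_add
          · rw [min_eq_right hke]
            exact min_le_right _ _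
      _ ≤ δ + d := add_le_add_left h _

section Local

variable (L : Type u) [CommRing L] [IsNoetherianRing L] [IsLocalRing L] (x : L)

theorem skL_quotient_iff (hx : x ∈ maximalIdeal L) (hreg : IsSMulRegular L x)
    [IsLocalRing (L ⧸ Ideal.span {x})] (k : ℕ) :
    SkL (k + 1) L ↔ SkL k (L ⧸ Ideal.span {x}) := by
  unfold SkL
  rw [← ringKrullDim_quotient_span_singleton_succ_eq_ringKrullDim hreg hx,
    ← depth_quotient_succ L x hx hreg]
  exact num_succ k _ _

end Local

/-- `(S_{k+1})` at a prime containing a regular element `f` and `(S_k)` at the corresponding prime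
of the quotient by `f` -/
theorem skL_locQuot_iff {B : Type u} [CommRing B] [IsNoetherianRing B] (f : B)
    (hreg : IsSMulRegular B f) (q : Ideal B) [q.IsPrime] (hfq : f ∈ q)
    (Q : Ideal (B ⧸ Ideal.span {f})) [Q.IsPrime]
    (hQ : Q.comap (Ideal.Quotient.mk (Ideal.span {f})) = q) (k : ℕ) :
    SkL (k + 1) (Localization.AtPrime q) ↔ SkL k (Localization.AtPrime Q) := by
  let A := Localization.AtPrime q
  haveI : IsNoetherianRing A := IsLocalization.isNoetherianRing q.primeCompl _ inferInstance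
  haveI : IsNoetherianRing (Localization.AtPrime Q) :=
    IsLocalization.isNoetherianRing Q.primeCompl _ inferInstance
  have hfm : algebraMap B A f ∈ maximalIdeal A :=
    (IsLocalization.AtPrime.to_map_mem_maximal_iff A q f).2 hfq
  have hfreg : IsSMulRegular A (algebraMap B A f) := hreg.of_flat
  haveI := isLocalRing_quotient A (algebraMap B A f) hfm
  rw [skL_quotient_iff A (algebraMap B A f) hfm hfreg]
  obtain ⟨e⟩ := Groth.Agent.Helper7.GorQuot.nonempty_locQuot_equiv (Ideal.span {f}) q Q hQ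
  rw [Ideal.map_span, Set.image_singleton] at e
  exact skL_congr e k

end Groth.Agent.Helper7.SkQ
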