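import Mathlib
import Groth.Prelude.Def_GrLC
import Groth.Prelude.Def_CAlg
import Groth.Prelude.Def_W4c2filtblowupsingRees
import Groth.Agent.Helper7.ExtRees3
import Groth.Agent.Helper7.SkRees1
import Groth.Agent.Helper7.BassG
import Groth.Agent.Helper7.TorusI

/-!
# Serre's condition `(S_2)` for the extended Rees algebra (helper7)
-/

set_option autoImplicit false
set_option linter.unusedSectionVars false
set_option linter.style.haveILetI false

namespace Groth.Agent.Helper7.ExtRees

open LaurentPolynomial DirectSum Polynomial IsLocalRing Groth.Agent.Helper7.SkQ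
  Groth.Agent.Helper7.Torus Groth.Agent.Helper7.BassNum

universe u

variable {A : Type u} [CommRing A] [IsNoetherianRing A] (𝓕 : FiltBl.IdealFiltration A)

/-- `(S_k)` at a homogeneous prime of the Laurent polynomial ring and at its contraction -/
theorem skL_laurent_iff (Q : Ideal A[T;T⁻¹]) [Q.IsPrime] (hQ : IsHomB Q) (k : ℕ) :
    SkL k (Localization.AtPrime Q) ↔ SkL k (Localization.AtPrime (Q.under A)) := by
  unfold SkL
  rw [dim_loc_eq Q hQ, depth_loc_eq Q hQ]

/-- `(S_k)` at a prime of the Laurent polynomial ring and at its contraction to the extended Rees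
algebra -/
theorem skL_contract_iff (hfg : Algebra.FiniteType A 𝓕.rees) (Q : Ideal A[T;T⁻¹]) [Q.IsPrime]
    (k : ℕ) :
    SkL k (Localization.AtPrime (Q.comap (algebraMap ↥𝓕.extRees A[T;T⁻¹]))) ↔
      SkL k (Localization.AtPrime Q) := by
  haveI : IsNoetherianRing ↥𝓕.extRees := isNoetherianRing 𝓕 hfg
  haveI := isNoetherianRing_laurent (A := A)
  haveI : IsNoetherianRing (Localization.AtPrime Q) :=
    IsLocalization.isNoetherianRing Q.primeCompl _ inferInstance
  haveI : IsNoetherianRing (Localization.AtPrime (Q.comap (algebraMap ↥𝓕.extRees A[T;T⁻¹]))) :=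
    IsLocalization.isNoetherianRing
      (Q.comap (algebraMap ↥𝓕.extRees A[T;T⁻¹])).primeCompl _ inferInstance
  obtain ⟨e⟩ := nonempty_locLoc_equiv (Submonoid.powers 𝓕.u) Q
  exact skL_congr e k

/-- `(S_k)` at a prime of a graded ring from `(S_k)` at its homogeneous core -/
theorem skL_of_skL_core {R : Type u} [CommRing R] [IsNoetherianRing R] (𝒜 : ℤ → AddSubgroup R)
    [GradedRing 𝒜] (p : Ideal R) [p.IsPrime]
    [hc : (Ideal.homogeneousCore 𝒜 p).toIdeal.IsPrime] (k : ℕ)
    (h : SkL k (Localization.AtPrime (Ideal.homogeneousCore 𝒜 p).toIdeal)) :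
    SkL k (Localization.AtPrime p) := by
  obtain ⟨d, hd, -⟩ := ENat.le_natCast_iff.1
    (show (p.map (Ideal.Quotient.mk (Ideal.homogeneousCore 𝒜 p).toIdeal)).height ≤ ((1 : ℕ) : ℕ∞)
      from height_map_core_le_one 𝒜 p)
  have hnt : Nontrivial (LocalizedModule p.primeCompl R) :=
    inferInstanceAs (Nontrivial (Localization.AtPrime p))
  have h1 := supportDim_localization_eq 𝒜 p R 𝒜 d hd hnt
  have h2 := depth_localization_eq 𝒜 p R 𝒜 d hd
  rw [Groth.Agent.Helper1.SerreFlatU.supportDim_self,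
    Groth.Agent.Helper1.SerreFlatU.supportDim_self] at h1
  rw [Groth.Agent.Helper1.SerreFlatU.depth_self, Groth.Agent.Helper1.SerreFlatU.depth_self] at h2
  unfold SkL at h ⊢
  rw [h1, h2]
  exact num_add k _ _ d h

theorem hasS2_iff (hfg : Algebra.FiniteType A 𝓕.rees) :
    LocCoh.HasSk 2 𝓕.extRees 𝓕.extRees ↔ (LocCoh.HasSk 1 𝓕.Gr 𝓕.Gr ∧ LocCoh.HasSk 2 A A) := by
  haveI : IsNoetherianRing ↥𝓕.extRees := isNoetherianRing 𝓕 hfg
  have hreg : IsSMulRegular ↥𝓕.extRees 𝓕.u := u_regular 𝓕
  rw [hasSk_iff_skL, hasSk_iff_skL, hasSk_iff_skL]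
  constructor
  · intro h
    constructor
    · intro Q' hQ'
      have hu : 𝓕.u ∈ Q'.comap (Ideal.Quotient.mk (Ideal.span {𝓕.u})) := by
        rw [Ideal.mem_comap]
        have : Ideal.Quotient.mk (Ideal.span {𝓕.u}) 𝓕.u = 0 :=
          Ideal.Quotient.eq_zero_iff_mem.2 (Ideal.mem_span_singleton_self _)
        rw [this]
        exact zero_mem _
      exact (skL_locQuot_iff 𝓕.u hreg _ hu Q' rfl 1).1 (h _)
    · intro q hq
      have h1 := h ((cI q).comap (algebraMap ↥𝓕.extRees A[T;T⁻¹]))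
      rw [skL_contract_iff 𝓕 hfg (cI q), skL_laurent_iff (cI q) (isHomB_cI q)] at h1
      exact skL_transport q 2 _ (under_cI q) h1
  · rintro ⟨hG, hA⟩ P hP
    by_cases hu : 𝓕.u ∈ P
    · have hkerle : RingHom.ker (Ideal.Quotient.mk (Ideal.span {𝓕.u})) ≤ P := by
        rw [Ideal.mk_ker, Ideal.span_singleton_le_iff_mem]
        exact hu
      haveI : (P.map (Ideal.Quotient.mk (Ideal.span {𝓕.u}))).IsPrime :=
        Ideal.map_isPrime_of_surjective Ideal.Quotient.mk_surjective hkerle
      have hcomap : (P.map (Ideal.Quotient.mk (Ideal.span {𝓕.u}))).comap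
          (Ideal.Quotient.mk (Ideal.span {𝓕.u})) = P := by
        rw [Ideal.comap_map_of_surjective _ Ideal.Quotient.mk_surjective,
          ← RingHom.ker_eq_comap_bot, sup_eq_left.2 hkerle]
      exact (skL_locQuot_iff 𝓕.u hreg P hu _ hcomap 1).2 (hG _)
    · haveI hc : (Ideal.homogeneousCore (LaurSub.gr 𝓕.extRees) P).toIdeal.IsPrime :=
        core_isPrime (LaurSub.gr 𝓕.extRees) P
      apply skL_of_skL_core (LaurSub.gr 𝓕.extRees) P
      have hle : (Ideal.homogeneousCore (LaurSub.gr 𝓕.extRees) P).toIdeal ≤ P :=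
        Ideal.toIdeal_homogeneousCore_le _ _
      have hhom := (Ideal.homogeneousCore (LaurSub.gr 𝓕.extRees) P).isHomogeneous
      generalize (Ideal.homogeneousCore (LaurSub.gr 𝓕.extRees) P).toIdeal = P' at hc hle hhom ⊢
      have hu' : 𝓕.u ∉ P' := fun h => hu (hle h)
      obtain ⟨Q, hQp, hQc, hQh⟩ := exists_prime_laurent 𝓕 P' hu'
      have h1 := hA (Q.under A)
      rw [← skL_laurent_iff Q (hQh hhom), ← skL_contract_iff 𝓕 hfg Q] at h1
      exact skL_transport P' 2 _ hQc h1

end Groth.Agent.Helper7.ExtRees
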