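import Mathlib
import Groth.Prelude
import Groth.Agent.Helper7.J2A
import Groth.Agent.Helper2.RegSmooth
import Groth.Agent.Helper1.FieldSmooth6

/-!
# Nonsingular varieties over a perfect field: regular = smooth, and the conormal criterion
-/

set_option autoImplicit false
set_option linter.style.haveILetI false
set_option linter.unusedSectionVars false
universe u

namespace Groth.Agent.Helper7.SmVar

open TensorProduct

/-- over a perfect field, a finite type algebra is smooth iff it is a regular ring -/
theorem smooth_iff_isRegularRing (k : Type u) [Field k] [PerfectField k]
    (S : Type u) [CommRing S] [Algebra k S] [Algebra.FiniteType k S] :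
    Algebra.Smooth k S ↔ IsRegularRing S := by
  constructor
  · intro h
    exact Groth.Agent.Helper7.J2.isRegularRing_of_smooth k S
  · intro h
    haveI : Algebra.FinitePresentation k S := Algebra.FinitePresentation.of_finiteType.1 inferInstance
    refine ⟨?_, inferInstance⟩
    refine Algebra.smoothLocus_eq_univ_iff.mp (Set.eq_univ_iff_forall.mpr fun q => ?_)
    haveI : Algebra.IsGeometricallyReduced k q.asIdeal.ResidueField :=
      Groth.Agent.Helper1.FieldSmooth.isGeometricallyReduced_of_perfectField
    change Algebra.IsSmoothAt k q.asIdeal
    rw [Groth.Agent.Helper2.RegSmooth.isSmoothAt_iff_isRegularLocalRing]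
    infer_instance

/-- regularity of a quotient of a nonsingular affine variety: the conormal criterion -/
theorem s10910 (k : Type u) [Field k] [IsAlgClosed k] (A B : Type u) [CommRing A] [CommRing B]
    [Algebra k A] [Algebra.FiniteType k A] [IsRegularRing A] [Algebra A B] [Algebra k B]
    [IsScalarTower k A B] (hsurj : Function.Surjective (algebraMap A B)) :
    IsRegularRing B ↔
      (Module.Projective B (Ω[B⁄k]) ∧
        Function.Injective (KaehlerDifferential.kerCotangentToTensor k A B)) := by
  haveI : Algebra.Smooth k A := (smooth_iff_isRegularRing k A).mpr inferInstance
  haveI : Algebra.FormallySmooth k A := inferInstance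
  haveI : Algebra.FiniteType A B := Algebra.FiniteType.of_surjective (Algebra.ofId A B) hsurj
  haveI : Algebra.FiniteType k B := Algebra.FiniteType.trans (S := A) inferInstance inferInstance
  haveI : Algebra.FinitePresentation k B := Algebra.FinitePresentation.of_finiteType.1 inferInstance
  rw [← smooth_iff_isRegularRing k B, Algebra.FormallySmooth.kerCotangentToTensor_injective_iff hsurj,
    ← Algebra.formallySmooth_iff]
  constructor
  · intro h
    infer_instance
  · intro h
    exact ⟨h, inferInstance⟩

end Groth.Agent.Helper7.SmVar
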