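import Mathlib
import Groth.Prelude
import Groth.Agent.Helper7.SmVarA
import Groth.Agent.Helper7.SmVarB
import Groth.Agent.Helper7.RedModPB
import Groth.Agent.Helper2.RegMax
import Groth.Agent.Helper5.FtDim4

/-!
# Nonsingular affine varieties: `Ω` locally free of rank `dim`
-/

set_option autoImplicit false
set_option linter.style.haveILetI false
set_option linter.unusedSectionVars false
universe u

namespace Groth.Agent.Helper7.SmVar

open TensorProduct IsLocalRing

section Height

variable {A B : Type u} [CommRing A] [CommRing B] (f : A →+* B) (hf : Function.Surjective f)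
  (hker : RingHom.ker f ≤ nilradical A)
include hf hker

/-- the order isomorphism of spectra for a surjection with nilpotent kernel -/
noncomputable def specOrderIso : PrimeSpectrum B ≃o PrimeSpectrum A where
  toEquiv := Equiv.ofBijective (PrimeSpectrum.comap f) (by
    refine ⟨PrimeSpectrum.comap_injective_of_surjective f hf, fun p => ?_⟩
    have hle : RingHom.ker f ≤ p.asIdeal := hker.trans (nilradical_le_prime p.asIdeal)
    haveI : (p.asIdeal.map f).IsPrime := Ideal.map_isPrime_of_surjective hf hle
    refine ⟨⟨p.asIdeal.map f, inferInstance⟩, ?_⟩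
    ext1
    change (p.asIdeal.map f).comap f = p.asIdeal
    rw [Ideal.comap_map_of_surjective' f hf, sup_eq_left.mpr]
    exact hle)
  map_rel_iff' := by
    intro p q
    change (p.asIdeal.comap f ≤ q.asIdeal.comap f) ↔ p.asIdeal ≤ q.asIdeal
    exact Ideal.comap_le_comap_iff_of_surjective f hf _ _

theorem height_comap_eq (q : PrimeSpectrum B) :
    (q.asIdeal.comap f).height = q.asIdeal.height := by
  have h1 := PrimeSpectrum.height_eq_orderHeight q
  have h2 := PrimeSpectrum.height_eq_orderHeight (PrimeSpectrum.comap f q)
  have h3 := Order.height_orderIso (specOrderIso f hf hker) q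
  change (q.asIdeal.comap f).height = _ at h2
  rw [h1, h2]
  exact h3

theorem ringKrullDim_eq_of_nilpotent_ker : ringKrullDim B = ringKrullDim A :=
  Order.krullDim_eq_of_orderIso (specOrderIso f hf hker)

end Height

section Global

variable (k : Type u) [Field k] [IsAlgClosed k] (A : Type u) [CommRing A] [Algebra k A]
  [Algebra.FiniteType k A]

attribute [local instance] Ideal.Quotient.field in
/-- the residue field at a maximal ideal is `k` -/
theorem bijective_algebraMap_residueField (m : Ideal A) [m.IsMaximal] :
    Function.Bijective (algebraMap k m.ResidueField) := by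
  haveI : Module.Finite k (A ⧸ m) := finite_of_finite_type_of_isJacobsonRing k (A ⧸ m)
  have h1 : Function.Bijective (algebraMap k (A ⧸ m)) :=
    IsAlgClosed.algebraMap_bijective_of_isIntegral (k := k) (K := A ⧸ m)
  have h2 : Function.Bijective (algebraMap (A ⧸ m) m.ResidueField) :=
    Ideal.bijective_algebraMap_quotient_residueField m
  have h3 : algebraMap k m.ResidueField =
      (algebraMap (A ⧸ m) m.ResidueField).comp (algebraMap k (A ⧸ m)) := by
    ext c
    rw [RingHom.comp_apply, IsScalarTower.algebraMap_apply k A (A ⧸ m),
      ← IsScalarTower.algebraMap_apply A (A ⧸ m) m.ResidueField,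
      ← IsScalarTower.algebraMap_apply k A m.ResidueField]
  rw [h3]
  exact h2.comp h1

/-- the fibre of the differentials at a closed point has the dimension of the cotangent space -/
theorem finrank_fiber_kaehler (m : Ideal A) [m.IsMaximal] :
    Module.finrank m.ResidueField (m.ResidueField ⊗[A] Ω[A⁄k]) =
      Module.finrank (ResidueField (Localization.AtPrime m))
        (CotangentSpace (Localization.AtPrime m)) := by
  rw [← finrank_residueField_tensor_kaehler k (Localization.AtPrime m)
    (bijective_algebraMap_residueField k A m)]
  let e1 : Localization.AtPrime m ⊗[A] Ω[A⁄k] ≃ₗ[Localization.AtPrime m]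
      Ω[Localization.AtPrime m⁄k] :=
    KaehlerDifferential.tensorKaehlerEquivOfFormallyEtale k A (Localization.AtPrime m)
  let e2 : m.ResidueField ⊗[Localization.AtPrime m] (Localization.AtPrime m ⊗[A] Ω[A⁄k])
      ≃ₗ[m.ResidueField] m.ResidueField ⊗[A] Ω[A⁄k] :=
    AlgebraTensorModule.cancelBaseChange _ _ _ _ _
  let e3 : m.ResidueField ⊗[Localization.AtPrime m] (Localization.AtPrime m ⊗[A] Ω[A⁄k])
      ≃ₗ[m.ResidueField] m.ResidueField ⊗[Localization.AtPrime m] Ω[Localization.AtPrime m⁄k] :=
    e1.baseChange _ _ _ _
  exact (e2.symm.trans e3).finrank_eq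

end Global

end Groth.Agent.Helper7.SmVar
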