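import Mathlib
import Groth.Prelude
import Groth.Agent.Helper7.SmVarC

/-!
# Nonsingular affine varieties: `Ω` locally free of rank `dim` (main statement)
-/

set_option autoImplicit false
set_option linter.style.haveILetI false
set_option linter.unusedSectionVars false
universe u

namespace Groth.Agent.Helper7.SmVar

open TensorProduct IsLocalRing

variable (k : Type u) [Field k] [IsAlgClosed k] (A : Type u) [CommRing A] [Algebra k A]
  [Algebra.FiniteType k A]

include k in
/-- maximal ideals of a finite type algebra with irreducible spectrum have full height -/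
theorem height_of_isMaximal_of_irreducible (hirr : (nilradical A).IsPrime) (m : Ideal A)
    [m.IsMaximal] : (m.height : WithBot ℕ∞) = ringKrullDim A := by
  let f : A →+* A ⧸ nilradical A := Ideal.Quotient.mk (nilradical A)
  have hf : Function.Surjective f := Ideal.Quotient.mk_surjective
  have hker : RingHom.ker f ≤ nilradical A := by rw [Ideal.mk_ker]
  haveI : IsDomain (A ⧸ nilradical A) := Ideal.Quotient.isDomain _
  have hle : RingHom.ker f ≤ m := hker.trans (nilradical_le_prime m)
  haveI hmax : (m.map f).IsMaximal := Ideal.IsMaximal.map_of_surjective_of_ker_le hf hle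
  have hcomap : (m.map f).comap f = m := by
    rw [Ideal.comap_map_of_surjective' f hf, sup_eq_left.mpr]
    exact hle
  have h1 := height_comap_eq f hf hker ⟨m.map f, inferInstance⟩
  change ((m.map f).comap f).height = (m.map f).height at h1
  rw [hcomap] at h1
  rw [h1, Groth.Agent.Helper5.FtDim.height_of_isMaximal k (A ⧸ nilradical A) (m.map f)]
  exact ringKrullDim_eq_of_nilpotent_ker f hf hker

theorem s10909 (hirr : (nilradical A).IsPrime) (n : ℕ) (hn : ringKrullDim A = n) :
    (IsReduced A ∧ IsRegularRing A) ↔
      (Module.Projective A (Ω[A⁄k]) ∧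
        ∀ (P : Ideal A) [P.IsPrime],
          Module.finrank P.ResidueField (P.ResidueField ⊗[A] Ω[A⁄k]) = n) := by
  haveI : IsNoetherianRing A := Algebra.FiniteType.isNoetherianRing k A
  have hdim : ∀ (m : Ideal A) [m.IsMaximal],
      ringKrullDim (Localization.AtPrime m) = n := by
    intro m _
    rw [IsLocalization.AtPrime.ringKrullDim_eq_height m (Localization.AtPrime m),
      height_of_isMaximal_of_irreducible k A hirr m, hn]
  constructor
  · rintro ⟨-, hreg⟩
    haveI : Algebra.Smooth k A := (smooth_iff_isRegularRing k A).mpr hreg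
    haveI : Module.Projective A (Ω[A⁄k]) := inferInstance
    refine ⟨inferInstance, fun P hP => ?_⟩
    obtain ⟨m, hm, hPm⟩ := Ideal.exists_le_maximal P hP.ne_top
    have h1 : Module.finrank P.ResidueField (P.ResidueField ⊗[A] Ω[A⁄k]) =
        Module.finrank m.ResidueField (m.ResidueField ⊗[A] Ω[A⁄k]) := by
      have := Module.rankAtStalk_eq_of_le_of_finite_of_flat' (Ω[A⁄k]) hPm
      rw [← Ideal.finrank_fiber_eq_rankAtStalk, ← Ideal.finrank_fiber_eq_rankAtStalk] at this
      exact this
    rw [h1, finrank_fiber_kaehler k A m]
    have h2 := (IsRegularLocalRing.iff_finrank_cotangentSpace (Localization.AtPrime m)).mp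
      inferInstance
    rw [hdim m] at h2
    exact_mod_cast h2
  · rintro ⟨-, hrank⟩
    have hreg : IsRegularRing A := by
      apply Groth.Agent.Helper2.RegMax.isRegularRing_of_forall_maximal
      intro m hm
      rw [IsRegularLocalRing.iff_finrank_cotangentSpace, hdim m, ← finrank_fiber_kaehler k A m,
        hrank m]
    exact ⟨Groth.Agent.Helper7.RedModP.isReduced_of_isRegularRing A, hreg⟩

end Groth.Agent.Helper7.SmVar
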