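import Mathlib

namespace Groth.Agent.Helper7.SmallDiag

universe u

open Polynomial

variable {A : Type u} [CommRing A]

/-- `F_k = ∏_{i<k} (X + h_i)` -/
noncomputable def F (h : ℕ → A) (k : ℕ) : A[X] := ∏ i ∈ Finset.range k, (X + C (h i))

theorem F_succ (h : ℕ → A) (k : ℕ) : F h (k + 1) = F h k * (X + C (h k)) := by
  unfold F
  rw [Finset.prod_range_succ]

theorem F_coeff_zero (h : ℕ → A) (k : ℕ) : (F h k).coeff 0 = ∏ i ∈ Finset.range k, h i := by
  unfold F
  rw [Polynomial.coeff_zero_eq_eval_zero, Polynomial.eval_prod]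
  simp

theorem divX_mul_X (p : A[X]) : divX (p * X) = p := by
  ext n
  simp [coeff_divX]

theorem divX_F_succ (h : ℕ → A) (k : ℕ) :
    divX (F h (k + 1)) = F h k + C (h k) * divX (F h k) := by
  rw [F_succ, mul_add, divX_add, divX_mul_X, mul_comm (F h k) (C (h k)), divX_C_mul]

theorem eval_F (h : ℕ → A) (k : ℕ) (τ : A) :
    (F h k).eval τ = (divX (F h k)).eval τ * τ + ∏ i ∈ Finset.range k, h i := by
  conv_lhs => rw [← divX_mul_X_add (F h k)]
  rw [eval_add, eval_mul, eval_X, eval_C, F_coeff_zero]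

theorem lemmaA (τ : A) (h : ℕ → A) (m : ℕ) (hrel : ∀ i, i < m + 1 → h i ^ 2 + τ * h i = 0) :
    (∏ i ∈ Finset.range m, (h i + h (i + 1) + τ)) * h m = ∏ i ∈ Finset.range (m + 1), h i := by
  induction m with
  | zero => simp
  | succ m ih =>
    rw [Finset.prod_range_succ, Finset.prod_range_succ _ (m + 1),
      ← ih (fun i hi => hrel i (by omega))]
    have := hrel (m + 1) (by omega)
    have h2 : h (m + 1) * h (m + 1) = - (τ * h (m + 1)) := by
      rw [← pow_two]; exact eq_neg_of_add_eq_zero_left this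
    calc (∏ i ∈ Finset.range m, (h i + h (i + 1) + τ)) * (h m + h (m + 1) + τ) * h (m + 1)
        = (∏ i ∈ Finset.range m, (h i + h (i + 1) + τ)) *
          (h m * h (m + 1) + (h (m + 1) * h (m + 1) + τ * h (m + 1))) := by ring
      _ = (∏ i ∈ Finset.range m, (h i + h (i + 1) + τ)) * h m * h (m + 1) := by
          rw [h2]; ring

theorem main (τ : A) (h : ℕ → A) (m : ℕ) (hrel : ∀ i, i < m + 1 → h i ^ 2 + τ * h i = 0) :
    ∏ i ∈ Finset.range m, (h i + h (i + 1) + τ) = (divX (F h (m + 1))).eval τ := by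
  induction m with
  | zero =>
    simp [F, divX_add, divX_C]
    have : divX (X : A[X]) = 1 := by
      have := divX_mul_X (1 : A[X])
      rwa [one_mul] at this
    rw [this, eval_one]
  | succ m ih =>
    have ih' := ih (fun i hi => hrel i (by omega))
    have hA := lemmaA τ h m (fun i hi => hrel i (by omega))
    rw [Finset.prod_range_succ, divX_F_succ, eval_add, eval_mul, eval_C, eval_F, ← ih', ← hA]
    ring

theorem divX_F_eq_sum (h : ℕ → A) (k : ℕ) :
    divX (F h k) = ∑ j ∈ Finset.range k,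
      C (((Finset.range k).val.map h).esymm j) * X ^ (k - 1 - j) := by
  have hv := Multiset.prod_X_add_C_eq_sum_esymm ((Finset.range k).val.map h)
  have hF : F h k = (((Finset.range k).val.map h).map fun r => X + C r).prod := by
    unfold F
    rw [Multiset.map_map]
    rfl
  rw [hF, hv]
  simp only [Multiset.card_map, Finset.card_val, Finset.card_range]
  rw [← divX_hom_toFun, map_sum, Finset.sum_range_succ]
  simp only [divX_hom_toFun, divX_C_mul_X_pow]
  rw [if_pos (by omega), add_zero]
  refine Finset.sum_congr rfl fun j hj => ?_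
  have := Finset.mem_range.mp hj
  rw [if_neg (by omega)]
  congr 2
  omega

theorem result (k : ℕ) (hk : 2 ≤ k) (τ : A)
    (h : ℕ → A) (hrel : ∀ i, i < k → h i ^ 2 + τ * h i = 0) :
    ∏ i ∈ Finset.range (k - 1), (h i + h (i + 1) + τ) =
      ∑ j ∈ Finset.range k, τ ^ (k - 1 - j) * (((Finset.range k).val.map h).esymm j) := by
  obtain ⟨m, rfl⟩ : ∃ m, k = m + 1 := ⟨k - 1, by omega⟩
  rw [Nat.add_sub_cancel, main τ h m hrel, divX_F_eq_sum, eval_finsetSum]
  refine Finset.sum_congr rfl fun j _ => ?_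
  rw [eval_mul, eval_C, eval_pow, eval_X, Nat.add_sub_cancel, mul_comm]

end Groth.Agent.Helper7.SmallDiag
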