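import Mathlib
import Groth.Prelude.Def_RegImm
import Groth.Agent.Helper7.SmoothLCI

set_option autoImplicit false
set_option linter.style.haveILetI false
set_option linter.unusedSectionVars false

universe u

namespace Groth.Agent.Helper7.SmoothLCI

open MvPolynomial

/-- A standard smooth algebra over a field is a global complete intersection. -/
theorem isGlobalCI_of_isStandardSmooth (k : Type u) [Field k] (T : Type u) [CommRing T]
    [Algebra k T] [hstd : Algebra.IsStandardSmooth k T] : Synt.IsGlobalCI k T := by
  classical
  by_cases hT : Subsingleton T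
  · exact Or.inl hT
  haveI : Nontrivial T := not_subsingleton_iff_nontrivial.1 hT
  obtain ⟨ι, σ, hσ, hι, ⟨P⟩⟩ := hstd.out
  letI := Fintype.ofFinite ι
  letI := Fintype.ofFinite σ
  set n := Fintype.card ι with hn
  set c := Fintype.card σ with hc
  have hcn : c ≤ n := Fintype.card_le_of_injective _ P.map_inj
  let e : Fin n ≃ ι := (Fintype.equivFin ι).symm
  let f : Fin c ≃ σ := (Fintype.equivFin σ).symm
  let Q : Algebra.Presentation k T (Fin n) (Fin c) := P.toPresentation.reindex e f
  refine Or.inr ⟨n, c, hcn, IsScalarTower.toAlgHom k Q.Ring T, Q.relation, ?_, ?_, ?_⟩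
  · exact Q.algebraMap_surjective
  · rw [Q.span_range_relation_eq_ker]
    rfl
  · -- dimension
    have hdim : P.dimension = n - c := by
      simp [Algebra.Presentation.dimension, hn, hc, Nat.card_eq_fintype_card]
    haveI : Algebra.IsStandardSmoothOfRelativeDimension (n - c) k T :=
      ⟨ι, σ, hσ, hι, P, hdim⟩
    obtain ⟨g, hg⟩ :=
      Algebra.IsStandardSmoothOfRelativeDimension.exists_etale_mvPolynomial (n - c) k T
    letI : Algebra (MvPolynomial (Fin (n - c)) k) T := g.toRingHom.toAlgebra
    haveI : Algebra.Etale (MvPolynomial (Fin (n - c)) k) T := RingHom.etale_algebraMap.1 hg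
    exact ringKrullDim_of_etale k (n - c) T

/-- A smooth algebra over a field is a local complete intersection. -/
theorem s9429 (k : Type u) [Field k] (S : Type u) [CommRing S] [Algebra k S]
    [Algebra.Smooth k S] : Synt.IsLCIOver k S := by
  refine ⟨inferInstance, fun p => ?_⟩
  obtain ⟨f, hf, hstd⟩ := Algebra.IsSmoothAt.exists_notMem_isStandardSmooth k p.asIdeal
  exact ⟨f, hf, isGlobalCI_of_isStandardSmooth k _⟩

end Groth.Agent.Helper7.SmoothLCI
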