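import Groth.Agent.Helper7.SnSch2
import Groth.Agent.Helper6.EtaSN

set_option autoImplicit false
universe u
open AlgebraicGeometry CategoryTheory Limits

namespace Groth.Agent.Helper7.SnLift

open HTop Groth.Agent.Helper7.SnSch

/-- If a point `z'` of `P` over `t` carries a section `Spec κ(t) ⟶ P` over `T`, then the
residue field extension at `z'` is trivial. -/
theorem isIso_residueFieldMap_aux {P T : Scheme.{u}} (π : P ⟶ T) (t : T) (z' : P)
    (φ : P.residueField z' ⟶ CommRingCat.of (T.residueField t))
    (h : (Spec.map φ ≫ P.fromSpecResidueField z') ≫ π = T.fromSpecResidueField t) :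
    IsIso (π.residueFieldMap z') := by
  have e : π z' = t := by
    have : ((Spec.map φ ≫ P.fromSpecResidueField z') ≫ π)
        (IsLocalRing.closedPoint (T.residueField t)) =
        T.fromSpecResidueField t (IsLocalRing.closedPoint (T.residueField t)) := by rw [h]
    rwa [Scheme.Hom.comp_apply, Scheme.Hom.comp_apply, Scheme.fromSpecResidueField_apply,
      Scheme.fromSpecResidueField_apply] at this
  have h2 : Spec.map (π.residueFieldMap z' ≫ φ) ≫ T.fromSpecResidueField (π z') =
      Spec.map (T.residueFieldCongr e).hom ≫ T.fromSpecResidueField (π z') := by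
    rw [Scheme.residueFieldCongr_fromSpecResidueField, Spec.map_comp, Category.assoc,
      Scheme.Hom.SpecMap_residueFieldMap_fromSpecResidueField, ← Category.assoc, h]
  have h3 : π.residueFieldMap z' ≫ φ = (T.residueFieldCongr e).hom := by
    have := (cancel_mono (T.fromSpecResidueField (π z'))).1 h2
    exact Spec.map_injective this
  have h5 : (T.residueFieldCongr e).inv ≫ π.residueFieldMap z' ≫ φ = 𝟙 _ := by
    rw [h3, Iso.inv_hom_id]
  have hφsurj : Function.Surjective φ.hom := by
    intro b
    exact ⟨(π.residueFieldMap z').hom ((T.residueFieldCongr e).inv.hom b),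
      ConcreteCategory.congr_hom h5 b⟩
  have hφbij : Function.Bijective φ.hom := ⟨φ.hom.injective, hφsurj⟩
  have : IsIso φ := (ConcreteCategory.isIso_iff_bijective φ).2 hφbij
  have h4 : π.residueFieldMap z' = (T.residueFieldCongr e).hom ≫ inv φ := by
    rw [← h3, Category.assoc, IsIso.hom_inv_id, Category.comp_id]
  rw [h4]
  infer_instance

/-- If a point `z` of `P` over `t` is the image of a section `Spec κ(t) ⟶ P` over `T`, then the
residue field extension at `z` is trivial. -/
theorem isIso_residueFieldMap_of_section {P T : Scheme.{u}} (π : P ⟶ T) (t : T)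
    (σ : Spec (CommRingCat.of (T.residueField t)) ⟶ P)
    (hσ : σ ≫ π = T.fromSpecResidueField t) :
    IsIso (π.residueFieldMap (σ (IsLocalRing.closedPoint (T.residueField t)))) := by
  refine isIso_residueFieldMap_aux π t _
    (Scheme.descResidueField (Scheme.stalkClosedPointTo σ)) ?_
  rw [Scheme.descResidueField_stalkClosedPointTo_fromSpecResidueField (T.residueField t) P σ, hσ]

/-- A morphism into the target of a universally closed, universally injective morphism `f`, from a
seminormal scheme, which lifts through `f` at each point, lifts through `f`. -/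
theorem exists_lift_of_pointwise {T X Y : Scheme.{u}} (hT : IsSeminormal T) (f : X ⟶ Y)
    [hf1 : UniversallyClosed f] [hf2 : UniversallyInjective f] (g : T ⟶ Y)
    (hlift : ∀ t : T, ∃ l : Spec (T.residueField t) ⟶ X,
      l ≫ f = T.fromSpecResidueField t ≫ g) :
    ∃ h : T ⟶ X, h ≫ f = g := by
  choose l hl using hlift
  let π : pullback f g ⟶ T := pullback.snd f g
  let σ : ∀ t : T, Spec (CommRingCat.of (T.residueField t)) ⟶ pullback f g := fun t =>
    pullback.lift (l t) (T.fromSpecResidueField t) (hl t)
  have hσ : ∀ t, σ t ≫ π = T.fromSpecResidueField t := fun t => pullback.lift_snd _ _ _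
  have hσpt : ∀ t, π (σ t (IsLocalRing.closedPoint (T.residueField t))) = t := by
    intro t
    have : (σ t ≫ π) (IsLocalRing.closedPoint (T.residueField t)) =
        T.fromSpecResidueField t (IsLocalRing.closedPoint (T.residueField t)) := by rw [hσ t]
    rwa [Scheme.Hom.comp_apply, Scheme.fromSpecResidueField_apply] at this
  have i1 : UniversallyClosed π := MorphismProperty.pullback_snd _ _ hf1
  have i2 : UniversallyInjective π := MorphismProperty.pullback_snd _ _ hf2
  have i3 : Surjective π := ⟨fun t => ⟨_, hσpt t⟩⟩
  have hπ : FlatMor.IsUnivHomeo π := Groth.Agent.Helper6.EtaSN.isUnivHomeo_of π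
  have hres : ResidueFieldsIso π := by
    intro z
    have hz : σ (π z) (IsLocalRing.closedPoint (T.residueField (π z))) = z :=
      π.injective (hσpt (π z))
    have := isIso_residueFieldMap_of_section π (π z) (σ (π z)) (hσ (π z))
    rw [hz] at this
    exact this
  obtain ⟨h, hh, -⟩ := existsUnique_lift_of_isSeminormal (𝟙 T) π hπ hres hT
  refine ⟨h ≫ pullback.fst f g, ?_⟩
  rw [Category.assoc, pullback.condition, ← Category.assoc]
  change (h ≫ π) ≫ g = g
  rw [hh, Category.id_comp]

end Groth.Agent.Helper7.SnLift
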