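import Groth.Agent.Helper7.SnSch2
import Groth.Agent.Helper7.SnLift

set_option autoImplicit false
universe u
open AlgebraicGeometry CategoryTheory Limits TensorProduct

namespace Groth.Agent.Helper7.SnDesc

open HTop Groth.Agent.Helper7.SnSch Groth.Agent.Helper7.UHRing

section field

/-- For a field extension `k → L`, an element `x` with `x ⊗ 1 = 1 ⊗ x` in `L ⊗[k] L` lies in `k`. -/
theorem mem_range_of_tmul_eq {k L : Type u} [Field k] [Field L] [Algebra k L] (x : L)
    (h : x ⊗ₜ[k] (1 : L) = (1 : L) ⊗ₜ[k] x) : x ∈ Set.range (algebraMap k L) := by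
  let ι : k →ₗ[k] L := Algebra.linearMap k L
  let V := L ⧸ LinearMap.range ι
  let q : L →ₗ[k] V := (LinearMap.range ι).mkQ
  have hinj : Function.Injective (LinearMap.lTensor V ι) :=
    Module.Flat.lTensor_preserves_injective_linearMap ι (algebraMap k L).injective
  have h1 : LinearMap.rTensor L q (x ⊗ₜ[k] (1 : L)) = LinearMap.rTensor L q ((1 : L) ⊗ₜ[k] x) := by
    rw [h]
  rw [LinearMap.rTensor_tmul, LinearMap.rTensor_tmul] at h1
  have hq1 : q 1 = 0 := by
    rw [Submodule.mkQ_apply, Submodule.Quotient.mk_eq_zero]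
    exact ⟨1, by simp [ι]⟩
  rw [hq1, TensorProduct.zero_tmul] at h1
  have h2 : LinearMap.lTensor V ι (q x ⊗ₜ[k] (1 : k)) = 0 := by
    rw [LinearMap.lTensor_tmul]
    simpa [ι] using h1
  have h3 : q x ⊗ₜ[k] (1 : k) = 0 := by
    apply hinj
    rw [h2, map_zero]
  have h4 : q x = 0 := by
    have := congrArg (TensorProduct.rid k V) h3
    simpa using this
  rw [Submodule.mkQ_apply, Submodule.Quotient.mk_eq_zero] at h4
  obtain ⟨c, hc⟩ := h4
  exact ⟨c, by simpa [ι] using hc⟩

/-- Descent of elements along a field-valued point: if `x ⊗ 1 = 1 ⊗ x` in `L ⊗[A] L`, then `x` is a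
fraction of elements of `A`. -/
theorem exists_frac_of_tmul_eq {A L : Type u} [CommRing A] [Field L] [Algebra A L] (x : L)
    (h : x ⊗ₜ[A] (1 : L) = (1 : L) ⊗ₜ[A] x) :
    ∃ a t : A, algebraMap A L t ≠ 0 ∧ algebraMap A L t * x = algebraMap A L a := by
  let k : Subfield L := Subfield.closure (Set.range (algebraMap A L))
  letI : Algebra A k := ((algebraMap A L).codRestrict k.toSubring
    (fun a => Subfield.subset_closure ⟨a, rfl⟩)).toAlgebra
  haveI : IsScalarTower A k L := IsScalarTower.of_algebraMap_eq (fun _ => rfl)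
  have h' : x ⊗ₜ[k] (1 : L) = (1 : L) ⊗ₜ[k] x := by
    have := congrArg (TensorProduct.mapOfCompatibleSMul k A A L L) h
    simpa using this
  obtain ⟨c, hc⟩ := mem_range_of_tmul_eq x h'
  have hx : x ∈ k := by rw [← hc]; exact c.2
  obtain ⟨y, hy, z, hz, hyz⟩ := Subfield.mem_closure_iff.1 hx
  have hcl : Subring.closure (Set.range (algebraMap A L)) = (algebraMap A L).range := by
    rw [← RingHom.coe_range, Subring.closure_eq]
  rw [hcl] at hy hz
  obtain ⟨a, rfl⟩ := hy
  obtain ⟨t, rfl⟩ := hz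
  by_cases ht : algebraMap A L t = 0
  · refine ⟨0, 1, by simp, ?_⟩
    rw [← hyz, ht, div_zero]
    simp
  · refine ⟨a, t, ht, ?_⟩
    rw [← hyz, mul_div_cancel₀ _ ht]

end field

section basic

/-- A global section which pulls back to zero along a surjective morphism has empty non-vanishing
locus. -/
theorem basicOpen_eq_bot_of_surjective {W V : Scheme.{u}} (ω : W ⟶ V) [Surjective ω]
    (e : Γ(V, ⊤)) (h : ω.appTop e = 0) : V.basicOpen e = ⊥ := by
  have h1 : ω ⁻¹ᵁ V.basicOpen e = ⊥ := by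
    rw [Scheme.preimage_basicOpen]
    change W.basicOpen (ω.appTop e) = ⊥
    rw [h, Scheme.basicOpen_zero]
  rw [eq_bot_iff]
  intro v hv
  obtain ⟨w, rfl⟩ := ω.surjective v
  have : w ∈ ω ⁻¹ᵁ V.basicOpen e := hv
  rw [h1] at this
  exact this

/-- On a reduced target, pullback of sections along a surjective morphism is injective. -/
theorem app_injective_of_surjective {Y X : Scheme.{u}} (π : Y ⟶ X) [Surjective π] [IsReduced X]
    (U : X.Opens) : Function.Injective (π.app U).hom := by
  rw [injective_iff_map_eq_zero]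
  intro a ha
  rw [← basicOpen_eq_bot_iff]
  have h1 : π ⁻¹ᵁ X.basicOpen a = ⊥ := by
    rw [Scheme.preimage_basicOpen]
    have : (π.app U) a = 0 := ha
    rw [this, Scheme.basicOpen_zero]
  rw [eq_bot_iff]
  intro v hv
  obtain ⟨w, rfl⟩ := π.surjective v
  have : w ∈ π ⁻¹ᵁ X.basicOpen a := hv
  rw [h1] at this
  exact this

end basic

section affine

variable {X Y : Scheme.{u}} (π : Y ⟶ X)

/-- The subring of global sections of `Y` satisfying the descent condition. -/
noncomputable def eqSub : Subring Γ(Y, ⊤) :=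
  RingHom.eqLocus (pullback.fst π π).appTop.hom (pullback.snd π π).appTop.hom

theorem appTop_mem_eqSub (a : Γ(X, ⊤)) : π.appTop.hom a ∈ eqSub π := by
  change (pullback.fst π π).appTop.hom (π.appTop.hom a) =
    (pullback.snd π π).appTop.hom (π.appTop.hom a)
  have h := congrArg (fun f => f.appTop.hom a) (pullback.condition (f := π) (g := π))
  simpa using h

/-- The map from global sections of `X` to descent data. -/
noncomputable def toEq : Γ(X, ⊤) →+* eqSub π :=
  RingHom.codRestrict π.appTop.hom (eqSub π) (appTop_mem_eqSub π)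

/-- The affine scheme of descent data. -/
noncomputable abbrev SE : Scheme.{u} := Spec (CommRingCat.of (eqSub π))

noncomputable def bE [IsAffine X] : SE π ⟶ X :=
  Spec.map (CommRingCat.ofHom (toEq π)) ≫ X.isoSpec.inv

noncomputable def βE : Y ⟶ SE π :=
  Y.toSpecΓ ≫ Spec.map (CommRingCat.ofHom (eqSub π).subtype)

theorem βE_bE [IsAffine X] : βE π ≫ bE π = π := by
  unfold βE bE
  rw [Category.assoc, ← Spec.map_comp_assoc]
  have : CommRingCat.ofHom (toEq π) ≫ CommRingCat.ofHom (eqSub π).subtype = π.appTop := by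
    ext a
    rfl
  rw [this, ← Category.assoc, ← Scheme.toSpecΓ_naturality, Category.assoc]
  rw [← Scheme.isoSpec_hom, Iso.hom_inv_id, Category.comp_id]

theorem βE_appTop :
    (Scheme.ΓSpecIso (CommRingCat.of (eqSub π))).inv ≫ (βE π).appTop =
      CommRingCat.ofHom (eqSub π).subtype := by
  unfold βE
  rw [Scheme.Hom.comp_appTop, ← Category.assoc, ← Scheme.ΓSpecIso_inv_naturality, Category.assoc,
    Scheme.toSpecΓ_appTop, Iso.inv_hom_id, Category.comp_id]

theorem βE_appTop_apply (c : eqSub π) :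
    (βE π).appTop.hom ((Scheme.ΓSpecIso (CommRingCat.of (eqSub π))).inv.hom c) = c.1 :=
  congrArg (fun f => f.hom c) (βE_appTop π)

theorem compactSpace_of_universallyClosed [IsAffine X] [UniversallyClosed π] : CompactSpace Y :=
  (quasiCompact_iff_compactSpace π).mp inferInstance

theorem surjective_βE [IsAffine X] [UniversallyClosed π] : Surjective (βE π) := by
  haveI : CompactSpace Y := compactSpace_of_universallyClosed π
  haveI : UniversallyClosed (βE π ≫ bE π) := by rw [βE_bE]; infer_instance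
  haveI : UniversallyClosed (βE π) := UniversallyClosed.of_comp_of_isSeparated (βE π) (bE π)
  haveI : IsDominant (βE π) := by
    apply isDominant_of_of_appTop_injective
    have h : (βE π).appTop = (Scheme.ΓSpecIso (CommRingCat.of (eqSub π))).hom ≫
        CommRingCat.ofHom (eqSub π).subtype := by
      rw [← βE_appTop, Iso.hom_inv_id_assoc]
    rw [h]
    intro a b hab
    have h1 : (eqSub π).subtype ((Scheme.ΓSpecIso (CommRingCat.of (eqSub π))).hom.hom a) =
        (eqSub π).subtype ((Scheme.ΓSpecIso (CommRingCat.of (eqSub π))).hom.hom b) := hab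
    have h2 := Subtype.val_injective h1
    exact (ConcreteCategory.bijective_of_isIso
      (Scheme.ΓSpecIso (CommRingCat.of (eqSub π))).hom).1 h2
  infer_instance

theorem isIntegral_toEq [IsAffine X] [UniversallyClosed π] : (toEq π).IsIntegral := by
  intro c
  obtain ⟨p, hp, hpc⟩ := isIntegral_appTop_of_universallyClosed π c.1
  refine ⟨p, hp, ?_⟩
  apply Subtype.val_injective
  have := Polynomial.hom_eval₂ p (toEq π) (eqSub π).subtype c
  change (eqSub π).subtype (Polynomial.eval₂ (toEq π) c p) = 0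
  rw [this]
  exact hpc

theorem eq_of_comp_toEq_eq [IsAffine X] [UniversallyClosed π] (K : Type u) [Field K]
    (h₁ h₂ : eqSub π →+* K) (h : h₁.comp (toEq π) = h₂.comp (toEq π)) : h₁ = h₂ := by
  ext c
  have hβ := surjective_βE π
  let ω : pullback π π ⟶ pullback (bE π) (bE π) :=
    pullback.map π π (bE π) (bE π) (βE π) (βE π) (𝟙 X)
      ((Category.comp_id _).trans (βE_bE π).symm) ((Category.comp_id _).trans (βE_bE π).symm)
  have hω : Surjective ω :=
    MorphismProperty.pullbackMap (P := @Surjective) hβ hβ (βE_bE π).symm (βE_bE π).symm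
  let c' : Γ(SE π, ⊤) := (Scheme.ΓSpecIso (CommRingCat.of (eqSub π))).inv.hom c
  let e' : Γ(pullback (bE π) (bE π), ⊤) :=
    (pullback.fst (bE π) (bE π)).appTop.hom c' - (pullback.snd (bE π) (bE π)).appTop.hom c'
  have hω1 : ω ≫ pullback.fst (bE π) (bE π) = pullback.fst π π ≫ βE π := pullback.lift_fst _ _ _
  have hω2 : ω ≫ pullback.snd (bE π) (bE π) = pullback.snd π π ≫ βE π := pullback.lift_snd _ _ _
  have he' : ω.appTop.hom e' = 0 := by
    change ω.appTop.hom ((pullback.fst (bE π) (bE π)).appTop.hom c' -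
      (pullback.snd (bE π) (bE π)).appTop.hom c') = 0
    rw [map_sub, sub_eq_zero]
    have e1 : ω.appTop.hom ((pullback.fst (bE π) (bE π)).appTop.hom c') =
        (pullback.fst π π).appTop.hom ((βE π).appTop.hom c') := by
      have := congrArg (fun f => f.appTop.hom c') hω1
      simpa [Scheme.Hom.comp_appTop] using this
    have e2 : ω.appTop.hom ((pullback.snd (bE π) (bE π)).appTop.hom c') =
        (pullback.snd π π).appTop.hom ((βE π).appTop.hom c') := by
      have := congrArg (fun f => f.appTop.hom c') hω2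
      simpa [Scheme.Hom.comp_appTop] using this
    rw [e1, e2, βE_appTop_apply]
    exact c.2
  have hbo := basicOpen_eq_bot_of_surjective ω e' he'
  have hcond : Spec.map (CommRingCat.ofHom h₁) ≫ bE π = Spec.map (CommRingCat.ofHom h₂) ≫ bE π := by
    unfold bE
    rw [← Spec.map_comp_assoc, ← Spec.map_comp_assoc]
    have : CommRingCat.ofHom (toEq π) ≫ CommRingCat.ofHom h₁ =
        CommRingCat.ofHom (toEq π) ≫ CommRingCat.ofHom h₂ := by
      ext a
      exact congrArg (fun f => f a) h
    rw [this]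
  let κ : Spec (CommRingCat.of K) ⟶ pullback (bE π) (bE π) :=
    pullback.lift (Spec.map (CommRingCat.ofHom h₁)) (Spec.map (CommRingCat.ofHom h₂)) hcond
  have hκ : κ.appTop.hom e' = 0 := by
    have h1 : (Spec (CommRingCat.of K)).basicOpen (κ.appTop.hom e') = ⊥ := by
      rw [← Scheme.preimage_basicOpen_top, hbo]
      rfl
    rw [← Scheme.isNilpotent_iff_basicOpen_eq_bot] at h1
    have h2 : IsNilpotent ((Scheme.ΓSpecIso (CommRingCat.of K)).hom.hom (κ.appTop.hom e')) :=
      h1.map _
    have h3 := h2.eq_zero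
    exact (ConcreteCategory.bijective_of_isIso (Scheme.ΓSpecIso (CommRingCat.of K)).hom).1
      (h3.trans (map_zero _).symm)
  have k1 : κ.appTop.hom ((pullback.fst (bE π) (bE π)).appTop.hom c') =
      (Scheme.ΓSpecIso (CommRingCat.of K)).inv.hom (h₁ c) := by
    have e1 : κ ≫ pullback.fst (bE π) (bE π) = Spec.map (CommRingCat.ofHom h₁) :=
      pullback.lift_fst _ _ _
    have := congrArg (fun f => f.appTop.hom c') e1
    simp only [Scheme.Hom.comp_appTop] at this
    refine this.trans ?_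
    exact (congrArg (fun f => f.hom c)
      (Scheme.ΓSpecIso_inv_naturality (CommRingCat.ofHom h₁))).symm
  have k2 : κ.appTop.hom ((pullback.snd (bE π) (bE π)).appTop.hom c') =
      (Scheme.ΓSpecIso (CommRingCat.of K)).inv.hom (h₂ c) := by
    have e1 : κ ≫ pullback.snd (bE π) (bE π) = Spec.map (CommRingCat.ofHom h₂) :=
      pullback.lift_snd _ _ _
    have := congrArg (fun f => f.appTop.hom c') e1
    simp only [Scheme.Hom.comp_appTop] at this
    refine this.trans ?_
    exact (congrArg (fun f => f.hom c)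
      (Scheme.ΓSpecIso_inv_naturality (CommRingCat.ofHom h₂))).symm
  change κ.appTop.hom ((pullback.fst (bE π) (bE π)).appTop.hom c' -
      (pullback.snd (bE π) (bE π)).appTop.hom c') = 0 at hκ
  rw [map_sub, k1, k2, sub_eq_zero] at hκ
  exact (ConcreteCategory.bijective_of_isIso (Scheme.ΓSpecIso (CommRingCat.of K)).inv).1 hκ

set_option maxHeartbeats 800000 in
theorem resTriv_toEq [IsAffine X] [UniversallyClosed π] : ResTriv (toEq π) := by
  intro Q hQ c
  have hβ := surjective_βE π
  obtain ⟨y, hy⟩ := (βE π).surjective ⟨Q, hQ⟩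
  let η : Spec (Y.residueField y) ⟶ Y := Y.fromSpecResidueField y
  let ev : Γ(Y, ⊤) →+* Y.residueField y :=
    (η.appTop ≫ (Scheme.ΓSpecIso (Y.residueField y)).hom).hom
  let α : Γ(X, ⊤) →+* Y.residueField y := ev.comp π.appTop.hom
  letI : Algebra Γ(X, ⊤) (Y.residueField y) := α.toAlgebra
  let i₁ : Y.residueField y →+* (Y.residueField y) ⊗[Γ(X, ⊤)] (Y.residueField y) :=
    (Algebra.TensorProduct.includeLeft :
      Y.residueField y →ₐ[Γ(X, ⊤)] (Y.residueField y) ⊗[Γ(X, ⊤)] (Y.residueField y)).toRingHom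
  let i₂ : Y.residueField y →+* (Y.residueField y) ⊗[Γ(X, ⊤)] (Y.residueField y) :=
    (Algebra.TensorProduct.includeRight :
      Y.residueField y →ₐ[Γ(X, ⊤)] (Y.residueField y) ⊗[Γ(X, ⊤)] (Y.residueField y)).toRingHom
  have hi : i₁.comp α = i₂.comp α := by
    ext a
    change (Algebra.TensorProduct.includeLeft :
      Y.residueField y →ₐ[Γ(X, ⊤)] (Y.residueField y) ⊗[Γ(X, ⊤)] (Y.residueField y))
        (algebraMap _ _ a) = (Algebra.TensorProduct.includeRight :
      Y.residueField y →ₐ[Γ(X, ⊤)] (Y.residueField y) ⊗[Γ(X, ⊤)] (Y.residueField y))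
        (algebraMap _ _ a)
    rw [AlgHom.commutes, AlgHom.commutes]
  have key : ∀ (i : Y.residueField y →+* (Y.residueField y) ⊗[Γ(X, ⊤)] (Y.residueField y)),
      (Spec.map (CommRingCat.ofHom i) ≫ η).appTop ≫ (Scheme.ΓSpecIso (CommRingCat.of _)).hom =
        CommRingCat.ofHom (i.comp ev) := by
    intro i
    rw [Scheme.Hom.comp_appTop, Category.assoc, Scheme.ΓSpecIso_naturality]
    rfl
  have hτ : (Spec.map (CommRingCat.ofHom i₁) ≫ η) ≫ π = (Spec.map (CommRingCat.ofHom i₂) ≫ η) ≫ π := by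
    apply ext_of_isAffine
    rw [← cancel_mono (Scheme.ΓSpecIso (CommRingCat.of _)).hom, Scheme.Hom.comp_appTop,
      Scheme.Hom.comp_appTop (Spec.map (CommRingCat.ofHom i₂) ≫ η), Category.assoc, Category.assoc,
      key, key]
    ext a
    exact congrArg (fun f => f a) hi
  let τ : Spec (CommRingCat.of ((Y.residueField y) ⊗[Γ(X, ⊤)] (Y.residueField y))) ⟶
      pullback π π := pullback.lift _ _ hτ
  have hc : (Spec.map (CommRingCat.ofHom i₁) ≫ η).appTop.hom c.1 =
      (Spec.map (CommRingCat.ofHom i₂) ≫ η).appTop.hom c.1 := by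
    have h1 : τ ≫ pullback.fst π π = Spec.map (CommRingCat.ofHom i₁) ≫ η := pullback.lift_fst _ _ _
    have h2 : τ ≫ pullback.snd π π = Spec.map (CommRingCat.ofHom i₂) ≫ η := pullback.lift_snd _ _ _
    rw [← h1, ← h2, Scheme.Hom.comp_appTop, Scheme.Hom.comp_appTop]
    change τ.appTop.hom ((pullback.fst π π).appTop.hom c.1) =
      τ.appTop.hom ((pullback.snd π π).appTop.hom c.1)
    rw [show (pullback.fst π π).appTop.hom c.1 = (pullback.snd π π).appTop.hom c.1 from c.2]
  have hc' : i₁ (ev c.1) = i₂ (ev c.1) := by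
    have e1 := congrArg (fun f => f.hom c.1) (key i₁)
    have e2 := congrArg (fun f => f.hom c.1) (key i₂)
    change (Scheme.ΓSpecIso (CommRingCat.of _)).hom.hom
      ((Spec.map (CommRingCat.ofHom i₁) ≫ η).appTop.hom c.1) = i₁ (ev c.1) at e1
    change (Scheme.ΓSpecIso (CommRingCat.of _)).hom.hom
      ((Spec.map (CommRingCat.ofHom i₂) ≫ η).appTop.hom c.1) = i₂ (ev c.1) at e2
    rw [← e1, ← e2, hc]
  obtain ⟨a, t, ht, hat⟩ := exists_frac_of_tmul_eq (A := Γ(X, ⊤)) (ev c.1) hc'
  -- identification of `Q`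
  have hcomp : η ≫ βE π = Spec.map (CommRingCat.ofHom (ev.comp (eqSub π).subtype)) := by
    unfold βE
    rw [← Category.assoc, Scheme.toSpecΓ_naturality, Category.assoc, ← Spec.map_comp,
      ← SpecMap_ΓSpecIso_hom, ← Spec.map_comp]
    rfl
  have hQ' : ∀ b : eqSub π, b ∈ Q ↔ ev b.1 = 0 := by
    intro b
    let pt : Spec (Y.residueField y) := IsLocalRing.closedPoint (Y.residueField y)
    have h1 : (η ≫ βE π) pt = ⟨Q, hQ⟩ := by
      rw [Scheme.Hom.comp_apply, Scheme.fromSpecResidueField_apply, hy]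
    rw [hcomp] at h1
    have h2 : b ∈ Q ↔ b ∈ ((Spec.map (CommRingCat.ofHom (ev.comp (eqSub π).subtype))) pt).asIdeal := by
      rw [h1]
    rw [h2]
    change (ev.comp (eqSub π).subtype) b ∈ pt.asIdeal ↔ _
    have h3 : pt.asIdeal = ⊥ := Ideal.eq_bot_of_prime _
    rw [h3, Ideal.mem_bot]
    rfl
  refine ⟨a, t, ?_, ?_⟩
  · rw [Ideal.mem_comap, hQ']
    exact ht
  · rw [hQ']
    change ev (π.appTop.hom t * c.1 - π.appTop.hom a) = 0
    rw [map_sub, map_mul, sub_eq_zero]
    exact hat

/-- Descent of global sections along a universally closed surjection from a reduced scheme onto a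
seminormal affine scheme. -/
theorem exists_descent_affine [IsAffine X] [UniversallyClosed π] [Surjective π] [IsReduced Y]
    (hA : IsSeminormalRing Γ(X, ⊤)) (s : Γ(Y, ⊤))
    (hs : (pullback.fst π π).appTop s = (pullback.snd π π).appTop s) :
    ∃ t : Γ(X, ⊤), π.appTop t = s := by
  haveI : _root_.IsReduced Γ(X, ⊤) := Groth.Agent.Helper7.AwnR.isReduced_of_isSeminormalRing hA
  haveI : IsReduced X := isReduced_of_isAffine_isReduced X
  haveI : _root_.IsReduced (eqSub π) :=
    isReduced_of_injective (eqSub π).subtype Subtype.val_injective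
  have hUH : IsUH (toEq π) := by
    refine ⟨isIntegral_toEq π, eq_of_comp_toEq_eq π, fun a ha => ?_⟩
    have h1 : π.appTop.hom a = 0 := congrArg Subtype.val ha
    have h0 := app_injective_of_surjective π ⊤ (h1.trans (map_zero _).symm)
    rw [h0]
    exact IsNilpotent.zero
  obtain ⟨t, ht⟩ := (bijective_of_isSeminormalRing hA (toEq π) hUH (resTriv_toEq π)).2 ⟨s, hs⟩
  exact ⟨t, congrArg Subtype.val ht⟩

end affine

section glob

variable {X Y : Scheme.{u}} (π : Y ⟶ X)

theorem ι_appTop_eq (U : Y.Opens) :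
    U.ι.appTop = Y.presheaf.map (homOfLE le_top).op ≫ U.topIso.inv := by
  rw [Scheme.Opens.ι_appTop, Scheme.Opens.topIso_inv]
  erw [← Functor.map_comp]
  rfl

/-- Local descent over an affine open of a seminormal scheme. -/
theorem exists_local_descent [UniversallyClosed π] [Surjective π] [IsReduced Y]
    (hX : IsSeminormal X) (s : Γ(Y, ⊤))
    (hs : (pullback.fst π π).appTop s = (pullback.snd π π).appTop s)
    (U : X.Opens) (hU : IsAffineOpen U) :
    ∃ t : Γ(X, U), (π.app U).hom t = (Y.presheaf.map (homOfLE le_top).op).hom s := by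
  haveI : IsAffine (U : Scheme) := hU
  haveI : UniversallyClosed (π ∣_ U) := IsZariskiLocalAtTarget.restrict ‹_› U
  haveI : Surjective (π ∣_ U) := IsZariskiLocalAtTarget.restrict ‹_› U
  have hA : IsSeminormalRing Γ((U : Scheme), ⊤) :=
    Groth.Agent.Helper7.AwnAff.isSeminormalRing_of_ringEquiv
      (U.topIso).commRingCatIsoToRingEquiv
      (Groth.Agent.Helper7.AwnAff.isSeminormalRing_affine hX ⟨U, hU⟩)
  let s' : Γ(((π ⁻¹ᵁ U : Y.Opens) : Scheme), ⊤) := (π ⁻¹ᵁ U).ι.appTop.hom s
  let j : pullback (π ∣_ U) (π ∣_ U) ⟶ pullback π π :=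
    pullback.map (π ∣_ U) (π ∣_ U) π π (π ⁻¹ᵁ U).ι (π ⁻¹ᵁ U).ι U.ι
      (morphismRestrict_ι π U) (morphismRestrict_ι π U)
  have hj1 : j ≫ pullback.fst π π = pullback.fst (π ∣_ U) (π ∣_ U) ≫ (π ⁻¹ᵁ U).ι :=
    pullback.lift_fst _ _ _
  have hj2 : j ≫ pullback.snd π π = pullback.snd (π ∣_ U) (π ∣_ U) ≫ (π ⁻¹ᵁ U).ι :=
    pullback.lift_snd _ _ _
  have hs' : (pullback.fst (π ∣_ U) (π ∣_ U)).appTop s' =
      (pullback.snd (π ∣_ U) (π ∣_ U)).appTop s' := by
    have e1 := congrArg (fun f => f.appTop.hom s) hj1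
    have e2 := congrArg (fun f => f.appTop.hom s) hj2
    simp only [Scheme.Hom.comp_appTop] at e1 e2
    change j.appTop.hom ((pullback.fst π π).appTop.hom s) = _ at e1
    change j.appTop.hom ((pullback.snd π π).appTop.hom s) = _ at e2
    have hs0 : (pullback.fst π π).appTop.hom s = (pullback.snd π π).appTop.hom s := hs
    rw [hs0] at e1
    exact e1.symm.trans e2
  obtain ⟨t', ht'⟩ := exists_descent_affine (π ∣_ U) hA s' hs'
  refine ⟨U.topIso.hom.hom t', ?_⟩
  have h1 : (π ∣_ U).appTop = U.topIso.hom ≫ π.app U ≫ (π ⁻¹ᵁ U).topIso.inv := by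
    rw [← Scheme.Hom.resLE_eq_morphismRestrict]
    change (π.resLE U (π ⁻¹ᵁ U) le_rfl).app ⊤ = _
    rw [Scheme.Hom.resLE_app_top, ← Scheme.Hom.app_eq_appLE]
  have h2 : (π ⁻¹ᵁ U).topIso.inv.hom ((π.app U).hom (U.topIso.hom.hom t')) =
      (π ⁻¹ᵁ U).topIso.inv.hom ((Y.presheaf.map (homOfLE le_top).op).hom s) := by
    have e1 := congrArg (fun f => f.hom t') h1
    have e2 := congrArg (fun f => f.hom s) (ι_appTop_eq (π ⁻¹ᵁ U))
    have ht'' : (π ∣_ U).appTop.hom t' = (π ⁻¹ᵁ U).ι.appTop.hom s := ht'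
    exact e1.symm.trans (ht''.trans e2)
  exact (ConcreteCategory.bijective_of_isIso (π ⁻¹ᵁ U).topIso.inv).1 h2

theorem app_res (V : X.Opens) (a : Γ(X, ⊤)) :
    (π.app V).hom ((X.presheaf.map (homOfLE (le_top : V ≤ ⊤)).op).hom a) =
      (Y.presheaf.map (homOfLE (le_top : π ⁻¹ᵁ V ≤ ⊤)).op).hom (π.appTop.hom a) := by
  have := congrArg (fun f => f.hom a) (π.naturality (homOfLE (le_top : V ≤ ⊤)).op)
  exact this

theorem app_res' {U V : X.Opens} (h : V ≤ U) (a : Γ(X, U)) :
    (π.app V).hom ((X.presheaf.map (homOfLE h).op).hom a) =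
      (Y.presheaf.map (homOfLE (show π ⁻¹ᵁ V ≤ π ⁻¹ᵁ U from fun _ hx => h hx)).op).hom
        ((π.app U).hom a) := by
  have := congrArg (fun f => f.hom a) (π.naturality (homOfLE h).op)
  exact this

/-- Descent of global sections along a universally closed surjection from a reduced scheme onto a
seminormal scheme. -/
theorem existsUnique_descent [UniversallyClosed π] [Surjective π] [IsReduced Y]
    (hX : IsSeminormal X) (s : Γ(Y, ⊤))
    (hs : (pullback.fst π π).appTop s = (pullback.snd π π).appTop s) :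
    ∃! t : Γ(X, ⊤), π.appTop t = s := by
  haveI : IsReduced X := isReduced_of_isSeminormal hX
  have huniq : ∀ t₁ t₂ : Γ(X, ⊤), π.appTop t₁ = s → π.appTop t₂ = s → t₁ = t₂ :=
    fun t₁ t₂ h₁ h₂ => app_injective_of_surjective π ⊤ (h₁.trans h₂.symm)
  choose tU htU using fun U : X.affineOpens => exists_local_descent π hX s hs U.1 U.2
  have hcompat : TopCat.Presheaf.IsCompatible X.sheaf.1 (fun U : X.affineOpens => U.1) tU := by
    intro U V
    apply app_injective_of_surjective π (U.1 ⊓ V.1)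
    have e1 := app_res' π (inf_le_left : U.1 ⊓ V.1 ≤ U.1) (tU U)
    have e2 := app_res' π (inf_le_right : U.1 ⊓ V.1 ≤ V.1) (tU V)
    refine e1.trans (Eq.trans ?_ e2.symm)
    rw [htU U, htU V]
    change (Y.presheaf.map _ ≫ Y.presheaf.map _).hom s = (Y.presheaf.map _ ≫ Y.presheaf.map _).hom s
    rw [← Functor.map_comp, ← Functor.map_comp]
    rfl
  obtain ⟨t, ht, -⟩ := X.sheaf.existsUnique_gluing' (fun U : X.affineOpens => U.1) ⊤
    (fun U => homOfLE le_top) (by rw [iSup_affineOpens_eq_top]) tU hcompat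
  have hts : π.appTop t = s := by
    refine Y.sheaf.eq_of_locally_eq' (fun U : X.affineOpens => π ⁻¹ᵁ U.1) ⊤
      (fun U => homOfLE le_top) ?_ _ _ ?_
    · intro y _
      obtain ⟨_, ⟨U, hU, rfl⟩, hyU, -⟩ := X.isBasis_affineOpens.exists_subset_of_mem_open
        (Set.mem_univ (π y)) isOpen_univ
      exact TopologicalSpace.Opens.mem_iSup.2 ⟨⟨U, hU⟩, hyU⟩
    · intro U
      have e1 := app_res π U.1 t
      have e2 : (X.presheaf.map (homOfLE (le_top : U.1 ≤ ⊤)).op).hom t = tU U := ht U
      rw [e2, htU U] at e1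
      exact e1.symm
  exact ⟨t, hts, fun t₂ h₂ => huniq _ _ h₂ hts⟩

end glob

end Groth.Agent.Helper7.SnDesc
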