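import Groth.Agent.Helper7.SnSch3
import Groth.Prelude.Def_Pi1

set_option autoImplicit false
universe u
open AlgebraicGeometry CategoryTheory Limits

namespace Groth.Agent.Helper7.SnNorm

open Groth.Agent.Helper7.AwnR Groth.Agent.Helper7.AwnLoc HTop Localization IsLocalization

/-- An integrally closed domain is seminormal. -/
theorem isSeminormalRing_of_isIntegrallyClosed (R : Type u) [CommRing R] [IsDomain R]
    [IsIntegrallyClosed R] : IsSeminormalRing R := by
  intro x y hxy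
  by_cases hx : x = 0
  · have hy : y = 0 := by
      have : y ^ 2 = 0 := by rw [← hxy, hx]; ring
      exact pow_eq_zero_iff (two_ne_zero) |>.1 this
    refine ⟨0, ⟨by rw [hx]; ring, by rw [hy]; ring⟩, ?_⟩
    rintro a ⟨h2, -⟩
    rw [hx] at h2
    exact (pow_eq_zero_iff (two_ne_zero)).1 h2.symm
  · let K := FractionRing R
    have hxK : algebraMap R K x ≠ 0 := by
      rw [Ne, map_eq_zero_iff _ (IsFractionRing.injective R K)]; exact hx
    have hsq : (algebraMap R K y / algebraMap R K x) ^ 2 = algebraMap R K x := by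
      rw [div_pow, ← map_pow, ← hxy, map_pow, div_eq_iff (pow_ne_zero 2 hxK)]
      ring
    obtain ⟨a, ha⟩ := IsIntegrallyClosed.exists_algebraMap_eq_of_isIntegral_pow (R := R)
      (x := algebraMap R K y / algebraMap R K x) (n := 2) (by norm_num)
      (by rw [hsq]; exact isIntegral_algebraMap)
    have ha2 : x = a ^ 2 := by
      apply IsFractionRing.injective R K
      rw [map_pow, ha, hsq]
    have ha3 : y = a ^ 3 := by
      apply IsFractionRing.injective R K
      rw [map_pow, ha, pow_succ, hsq, mul_comm, div_mul_cancel₀ _ hxK]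
    refine ⟨a, ⟨ha2, ha3⟩, ?_⟩
    rintro a' ⟨h2, h3⟩
    apply eq_of_sq_cube
    · rw [← h2, ← ha2]
    · rw [← h3, ← ha3]

variable {A : Type u} [CommRing A]

/-- Gluing local solutions of `x = a^2`, `y = a^3` over a reduced ring. -/
theorem exists_sol_of_span [IsReduced A] (s : Finset A) (hs : Ideal.span (s : Set A) = ⊤)
    (x y : A) (hsol : ∀ a : (s : Set A), ∃ u : Away a.1,
      algebraMap A (Away a.1) x = u ^ 2 ∧ algebraMap A (Away a.1) y = u ^ 3) :
    ∃ r : A, x = r ^ 2 ∧ y = r ^ 3 := by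
  choose f hf using hsol
  obtain ⟨r, hr, -⟩ := existsUnique_algebraMap_eq_of_span_eq_top (s : Set A) hs f (by
    intro a b
    apply eq_of_sq_cube
    · rw [← map_pow, ← map_pow, ← (hf a).1, ← (hf b).1, Away.awayToAwayRight_eq,
        Away.awayToAwayLeft_eq]
    · rw [← map_pow, ← map_pow, ← (hf a).2, ← (hf b).2, Away.awayToAwayRight_eq,
        Away.awayToAwayLeft_eq])
  refine ⟨r, ?_, ?_⟩
  · apply eq_of_span s hs
    intro a
    rw [map_pow, hr a, (hf a).1]
  · apply eq_of_span s hs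
    intro a
    rw [map_pow, hr a, (hf a).2]

/-- A local solution at a prime spreads out to a basic open neighbourhood. -/
theorem exists_away_sol (x y : A) (𝔭 : Ideal A) [𝔭.IsPrime] (L : Type u) [CommRing L]
    [Algebra A L] [IsLocalization.AtPrime L 𝔭] (uL : L) (h2 : algebraMap A L x = uL ^ 2)
    (h3 : algebraMap A L y = uL ^ 3) :
    ∃ f : A, f ∉ 𝔭 ∧ ∃ u : Away f, algebraMap A (Away f) x = u ^ 2 ∧
      algebraMap A (Away f) y = u ^ 3 := by
  obtain ⟨⟨n, s⟩, hns⟩ := IsLocalization.surj 𝔭.primeCompl uL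
  simp only at hns
  have e2 : algebraMap A L (n ^ 2) = algebraMap A L (x * (s : A) ^ 2) := by
    rw [map_pow, ← hns, map_mul, map_pow, h2]; ring
  have e3 : algebraMap A L (n ^ 3) = algebraMap A L (y * (s : A) ^ 3) := by
    rw [map_pow, ← hns, map_mul, map_pow, h3]; ring
  obtain ⟨t, ht⟩ := (IsLocalization.eq_iff_exists 𝔭.primeCompl L).1 e2
  obtain ⟨t', ht'⟩ := (IsLocalization.eq_iff_exists 𝔭.primeCompl L).1 e3
  refine ⟨(t : A) * (t' : A) * (s : A), ?_, ?_⟩
  · exact (𝔭.primeCompl.mul_mem (𝔭.primeCompl.mul_mem t.2 t'.2) s.2)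
  · set f : A := (t : A) * (t' : A) * (s : A) with hf
    have hfu : IsUnit (algebraMap A (Away f) f) := IsLocalization.Away.algebraMap_isUnit f
    rw [hf, map_mul, map_mul] at hfu
    have hsu : IsUnit (algebraMap A (Away f) (s : A)) := isUnit_of_mul_isUnit_right hfu
    have htt : IsUnit (algebraMap A (Away f) (t : A) * algebraMap A (Away f) (t' : A)) :=
      isUnit_of_mul_isUnit_left hfu
    have htu : IsUnit (algebraMap A (Away f) (t : A)) := isUnit_of_mul_isUnit_left htt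
    have htu' : IsUnit (algebraMap A (Away f) (t' : A)) := isUnit_of_mul_isUnit_right htt
    obtain ⟨v, hv⟩ := hsu.exists_right_inv
    refine ⟨algebraMap A (Away f) n * v, ?_, ?_⟩
    · have h1 : algebraMap A (Away f) (n ^ 2) = algebraMap A (Away f) (x * (s : A) ^ 2) := by
        apply htu.mul_left_cancel
        rw [← map_mul, ← map_mul, ht]
      rw [map_pow, map_mul, map_pow] at h1
      have h4 : (algebraMap A (Away f) n * v) ^ 2 =
          algebraMap A (Away f) x * (algebraMap A (Away f) (s : A) * v) ^ 2 := by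
        rw [mul_pow, h1]; ring
      rw [h4, hv, one_pow, mul_one]
    · have h1 : algebraMap A (Away f) (n ^ 3) = algebraMap A (Away f) (y * (s : A) ^ 3) := by
        apply htu'.mul_left_cancel
        rw [← map_mul, ← map_mul, ht']
      rw [map_pow, map_mul, map_pow] at h1
      have h4 : (algebraMap A (Away f) n * v) ^ 3 =
          algebraMap A (Away f) y * (algebraMap A (Away f) (s : A) * v) ^ 3 := by
        rw [mul_pow, h1]; ring
      rw [h4, hv, one_pow, mul_one]

/-- Seminormality may be checked on the localizations at all primes. -/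
theorem isSeminormalRing_of_forall_prime [IsReduced A]
    (h : ∀ (𝔭 : Ideal A) [𝔭.IsPrime], ∃ (L : Type u) (_ : CommRing L) (_ : Algebra A L),
      IsLocalization.AtPrime L 𝔭 ∧ IsSeminormalRing L) : IsSeminormalRing A := by
  intro x y hxy
  let P : A → Prop := fun f => ∃ u : Away f, algebraMap A (Away f) x = u ^ 2 ∧
    algebraMap A (Away f) y = u ^ 3
  have hloc : ∀ (𝔭 : Ideal A) [𝔭.IsPrime], ∃ f, f ∉ 𝔭 ∧ P f := by
    intro 𝔭 _
    obtain ⟨L, _, _, hL, hLs⟩ := h 𝔭
    obtain ⟨uL, ⟨h2, h3⟩, -⟩ := hLs (algebraMap A L x) (algebraMap A L y)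
      (by rw [← map_pow, ← map_pow, hxy])
    exact exists_away_sol x y 𝔭 L uL h2 h3
  have hspan : Ideal.span {f | P f} = ⊤ := by
    by_contra hne
    obtain ⟨𝔪, h𝔪, hle⟩ := Ideal.exists_le_maximal _ hne
    haveI := h𝔪.isPrime
    obtain ⟨f, hf, hPf⟩ := hloc 𝔪
    exact hf (hle (Ideal.subset_span hPf))
  obtain ⟨s, hsP, hs⟩ := (Ideal.span_eq_top_iff_finite _).1 hspan
  obtain ⟨r, hr2, hr3⟩ := exists_sol_of_span s hs x y (fun a => hsP a.2)
  refine ⟨r, ⟨hr2, hr3⟩, ?_⟩
  rintro r' ⟨h2, h3⟩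
  apply eq_of_sq_cube
  · rw [← h2, ← hr2]
  · rw [← h3, ← hr3]

/-- A normal scheme is seminormal. -/
theorem isSeminormal_of_isNormalScheme {Z : Scheme.{u}} (hn : Pi1.IsNormalScheme Z) :
    IsSeminormal Z := by
  haveI : IsReduced Z := by
    haveI : ∀ x : Z, _root_.IsReduced (Z.presheaf.stalk x) := fun x => by
      haveI := (hn x).1
      infer_instance
    exact isReduced_of_isReduced_stalk Z
  intro z
  obtain ⟨_, ⟨W, hW, rfl⟩, hzW, -⟩ := Z.isBasis_affineOpens.exists_subset_of_mem_open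
    (Set.mem_univ z) isOpen_univ
  refine ⟨⟨W, hW⟩, hzW, ?_⟩
  apply isSeminormalRing_of_forall_prime
  intro 𝔭 h𝔭
  have hy : hW.fromSpec ⟨𝔭, h𝔭⟩ ∈ W := (hW.isoSpec.inv _).2
  refine ⟨Z.presheaf.stalk (hW.fromSpec ⟨𝔭, h𝔭⟩), inferInstance,
    TopCat.Presheaf.algebra_section_stalk Z.presheaf ⟨hW.fromSpec ⟨𝔭, h𝔭⟩, hy⟩,
    hW.isLocalization_stalk' ⟨𝔭, h𝔭⟩ hy, ?_⟩
  haveI := (hn (hW.fromSpec ⟨𝔭, h𝔭⟩)).1
  haveI := (hn (hW.fromSpec ⟨𝔭, h𝔭⟩)).2
  exact isSeminormalRing_of_isIntegrallyClosed _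

open Groth.Agent.Helper7.SnSch in
theorem s15962 {S Sn X' : Scheme.{u}} [IsNoetherian S] [IsReduced S]
    (π : Sn ⟶ S) [IsIntegralHom π] (hn : Pi1.IsNormalScheme Sn)
    (hbir : ∃ U : S.Opens, Dense (U : Set S) ∧ Dense ((π ⁻¹ᵁ U : Sn.Opens) : Set Sn) ∧
      IsIso (π ∣_ U))
    (ν : X' ⟶ S) (hν : HTop.IsSeminormalization ν) (hX' : HTop.IsSeminormal X') :
    ∃ g : Sn ⟶ X', g ≫ ν = π :=
  (existsUnique_lift_of_isSeminormal π ν hν.1.1 hν.1.2 (isSeminormal_of_isNormalScheme hn)).exists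

end Groth.Agent.Helper7.SnNorm
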