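import Groth.Agent.Helper7.SnSch1

set_option autoImplicit false
universe u
open AlgebraicGeometry CategoryTheory TensorProduct

namespace Groth.Agent.Helper7.SnRing

open Groth.Agent.Helper7.UHRing Groth.Agent.Helper7.AwnR HTop Groth.Agent.Helper7.AwnFun
open Groth.Agent.Helper7.SnSch

section basic

variable {A B C : Type u} [CommRing A] [CommRing B] [CommRing C]

theorem resTriv_of_surjective {φ : A →+* B} (hs : Function.Surjective φ) : ResTriv φ := by
  intro Q _ b
  obtain ⟨a, rfl⟩ := hs b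
  refine ⟨a, 1, ?_, ?_⟩
  · intro h1
    rw [Ideal.mem_comap, map_one] at h1
    exact (Ideal.IsPrime.ne_top ‹_›) ((Ideal.eq_top_iff_one Q).2 h1)
  · rw [map_one, one_mul, sub_self]; exact Q.zero_mem

theorem ResTriv.comp {φ : A →+* B} {ψ : B →+* C} (hφ : ResTriv φ) (hψ : ResTriv ψ) :
    ResTriv (ψ.comp φ) := by
  intro Q hQ c
  obtain ⟨b, s, hs, hbs⟩ := hψ Q c
  haveI : (Q.comap ψ).IsPrime := Ideal.comap_isPrime ψ Q
  obtain ⟨a, t, ht, hat⟩ := hφ (Q.comap ψ) b
  obtain ⟨a', t', ht', hat'⟩ := hφ (Q.comap ψ) s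
  have ha' : a' ∉ (Q.comap ψ).comap φ := by
    intro h
    have h1 : φ t' * s ∈ Q.comap ψ := by
      have := (Q.comap ψ).add_mem hat' (show φ a' ∈ Q.comap ψ from h)
      rwa [sub_add_cancel] at this
    rcases (Ideal.IsPrime.mem_or_mem ‹(Q.comap ψ).IsPrime› h1) with h2 | h2
    · exact ht' h2
    · exact hs h2
  refine ⟨t' * a, t * a', ?_, ?_⟩
  · intro h
    have h1 : t * a' ∈ (Q.comap ψ).comap φ := h
    haveI : ((Q.comap ψ).comap φ).IsPrime := Ideal.comap_isPrime φ _
    rcases (Ideal.IsPrime.mem_or_mem ‹((Q.comap ψ).comap φ).IsPrime› h1) with h2 | h2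
    · exact ht h2
    · exact ha' h2
  · have e1 : ψ (φ t * b - φ a) ∈ Q := hat
    have e2 : ψ (φ t' * s - φ a') ∈ Q := hat'
    have key : (ψ.comp φ) (t * a') * c - (ψ.comp φ) (t' * a) =
        ψ (φ t) * ψ (φ t') * (ψ s * c - ψ b) + ψ (φ t') * ψ (φ t * b - φ a)
          - ψ (φ t) * c * ψ (φ t' * s - φ a') := by
      simp only [RingHom.comp_apply, map_mul, map_sub]
      ring
    rw [key]
    exact Q.sub_mem (Q.add_mem (Q.mul_mem_left _ hbs) (Q.mul_mem_left _ e1))
      (Q.mul_mem_left _ e2)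

/-- Trivial residue field extensions are stable under base change. -/
theorem resTriv_includeLeft (A A' C : Type u) [CommRing A] [CommRing A'] [CommRing C]
    [Algebra A A'] [Algebra A C] (h : ResTriv (algebraMap A C)) :
    ResTriv (Algebra.TensorProduct.includeLeftRingHom : A' →+* A' ⊗[A] C) := by
  intro Q hQ x
  induction x using TensorProduct.induction_on with
  | zero =>
    refine ⟨0, 1, ?_, ?_⟩
    · intro h1
      rw [Ideal.mem_comap, map_one] at h1
      exact hQ.ne_top ((Ideal.eq_top_iff_one Q).2 h1)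
    · simp
  | tmul a' c =>
    let j : C →+* A' ⊗[A] C := (Algebra.TensorProduct.includeRight : C →ₐ[A] A' ⊗[A] C).toRingHom
    haveI : (Q.comap j).IsPrime := Ideal.comap_isPrime j Q
    obtain ⟨a, t, ht, hat⟩ := h (Q.comap j) c
    have e1 : ∀ s : A, (Algebra.TensorProduct.includeLeftRingHom : A' →+* A' ⊗[A] C)
        (algebraMap A A' s) = j (algebraMap A C s) := by
      intro s
      show (algebraMap A A' s) ⊗ₜ[A] (1 : C) = (1 : A') ⊗ₜ[A] (algebraMap A C s)
      rw [Algebra.algebraMap_eq_smul_one, Algebra.algebraMap_eq_smul_one, TensorProduct.smul_tmul]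
    refine ⟨a' * algebraMap A A' a, algebraMap A A' t, ?_, ?_⟩
    · intro h1
      apply ht
      rw [Ideal.mem_comap, Ideal.mem_comap, ← e1]
      exact h1
    · have key : (Algebra.TensorProduct.includeLeftRingHom : A' →+* A' ⊗[A] C)
            (algebraMap A A' t) * a' ⊗ₜ[A] c -
          (Algebra.TensorProduct.includeLeftRingHom : A' →+* A' ⊗[A] C)
            (a' * algebraMap A A' a) =
          (a' ⊗ₜ[A] (1 : C)) * j (algebraMap A C t * c - algebraMap A C a) := by
        rw [map_mul, e1, e1, map_sub, map_mul]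
        show j (algebraMap A C t) * a' ⊗ₜ[A] c - (a' ⊗ₜ[A] (1 : C)) * j (algebraMap A C a) = _
        have : a' ⊗ₜ[A] c = (a' ⊗ₜ[A] (1 : C)) * j c := by
          show a' ⊗ₜ[A] c = (a' ⊗ₜ[A] (1 : C)) * ((1 : A') ⊗ₜ[A] c)
          rw [Algebra.TensorProduct.tmul_mul_tmul, mul_one, one_mul]
        rw [this]
        ring
      rw [key]
      exact Q.mul_mem_left _ hat
  | add x y hx hy =>
    obtain ⟨a₁, t₁, ht₁, h₁⟩ := hx
    obtain ⟨a₂, t₂, ht₂, h₂⟩ := hy
    haveI : (Q.comap (Algebra.TensorProduct.includeLeftRingHom : A' →+* A' ⊗[A] C)).IsPrime :=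
      Ideal.comap_isPrime _ Q
    refine ⟨t₂ * a₁ + t₁ * a₂, t₁ * t₂, ?_, ?_⟩
    · intro h1
      rcases (Ideal.IsPrime.mem_or_mem ‹_› h1) with h2 | h2
      · exact ht₁ h2
      · exact ht₂ h2
    · have key : (Algebra.TensorProduct.includeLeftRingHom : A' →+* A' ⊗[A] C) (t₁ * t₂) * (x + y) -
          (Algebra.TensorProduct.includeLeftRingHom : A' →+* A' ⊗[A] C) (t₂ * a₁ + t₁ * a₂) =
          (Algebra.TensorProduct.includeLeftRingHom : A' →+* A' ⊗[A] C) t₂ *
            ((Algebra.TensorProduct.includeLeftRingHom : A' →+* A' ⊗[A] C) t₁ * x -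
              (Algebra.TensorProduct.includeLeftRingHom : A' →+* A' ⊗[A] C) a₁) +
          (Algebra.TensorProduct.includeLeftRingHom : A' →+* A' ⊗[A] C) t₁ *
            ((Algebra.TensorProduct.includeLeftRingHom : A' →+* A' ⊗[A] C) t₂ * y -
              (Algebra.TensorProduct.includeLeftRingHom : A' →+* A' ⊗[A] C) a₂) := by
        simp only [map_mul, map_add]
        ring
      rw [key]
      exact Q.add_mem (Q.mul_mem_left _ h₁) (Q.mul_mem_left _ h₂)

end basic

/-- Universal property of seminormal rings with respect to universal homeomorphisms with trivial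
residue field extensions. -/
theorem existsUnique_lift {A C N : Type u} [CommRing A] [CommRing C] [CommRing N]
    (ψ : A →+* C) (hψ : IsUH ψ) (hres : ResTriv ψ) (hN : IsSeminormalRing N) (r : A →+* N) :
    ∃! χ : C →+* N, χ.comp ψ = r := by
  haveI := isReduced_of_isSeminormalRing hN
  letI := ψ.toAlgebra
  letI := r.toAlgebra
  let ι : N →+* N ⊗[A] C := Algebra.TensorProduct.includeLeftRingHom
  let j : C →+* N ⊗[A] C := (Algebra.TensorProduct.includeRight : C →ₐ[A] N ⊗[A] C).toRingHom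
  have hιU : IsUH ι := isUH_includeLeft A N C hψ
  have hιR : ResTriv ι := resTriv_includeLeft A N C hres
  let q : N ⊗[A] C →+* (N ⊗[A] C) ⧸ nilradical (N ⊗[A] C) := Ideal.Quotient.mk _
  have hqs : Function.Surjective q := Ideal.Quotient.mk_surjective
  have hqU : IsUH q := IsUH.of_surjective hqs (fun x hx => by
    have : x ∈ nilradical (N ⊗[A] C) := Ideal.Quotient.eq_zero_iff_mem.1 hx
    exact mem_nilradical.1 this)
  have hqR : ResTriv q := resTriv_of_surjective hqs
  haveI : IsReduced ((N ⊗[A] C) ⧸ nilradical (N ⊗[A] C)) :=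
    (Ideal.isRadical_iff_quotient_reduced _).1 (Ideal.radical_isRadical _)
  have hκU : IsUH (q.comp ι) := hιU.comp hqU
  have hκR : ResTriv (q.comp ι) := ResTriv.comp hιR hqR
  have hbij : Function.Bijective (q.comp ι) := bijective_of_isSeminormalRing hN _ hκU hκR
  let e : N ≃+* (N ⊗[A] C) ⧸ nilradical (N ⊗[A] C) := RingEquiv.ofBijective (q.comp ι) hbij
  have hj : ∀ a : A, j (ψ a) = ι (r a) := by
    intro a
    show (1 : N) ⊗ₜ[A] (algebraMap A C a) = (algebraMap A N a) ⊗ₜ[A] (1 : C)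
    rw [Algebra.algebraMap_eq_smul_one, Algebra.algebraMap_eq_smul_one, TensorProduct.smul_tmul]
  refine ⟨(e.symm.toRingHom.comp q).comp j, ?_, ?_⟩
  · ext a
    show e.symm (q (j (ψ a))) = r a
    rw [hj]
    exact e.symm_apply_apply (r a)
  · intro χ' hχ'
    apply hom_ext_reduced hψ
    rw [hχ']
    ext a
    show r a = e.symm (q (j (ψ a)))
    rw [hj]
    exact (e.symm_apply_apply (r a)).symm

end Groth.Agent.Helper7.SnRing
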