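import Groth.Agent.Helper7.UHElem

set_option autoImplicit false
universe u
open AlgebraicGeometry CategoryTheory

namespace Groth.Agent.Helper7.UHMax

open Groth.Agent.Helper7.UHTower Groth.Agent.Helper7.UHRing Groth.Agent.Helper7.UHStep
  Groth.Agent.Helper6.EtaSN Groth.Agent.Helper6.EtaSN2

/-- A family of step predicates, natural in the `A`-algebra. -/
structure NatStep (A : Type u) [CommRing A] where
  P : ∀ (R : Type u) [CommRing R] [Algebra A R], StepPred A R
  map : ∀ {R R' : Type u} [CommRing R] [CommRing R'] [Algebra A R] [Algebra A R']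
    (g : R →ₐ[A] R') (D : Subalgebra A R) (b : R), (P R).S D b → (P R').S (D.map g) (g b)
  reflect : ∀ {R R' : Type u} [CommRing R] [CommRing R'] [Algebra A R] [Algebra A R']
    (g : R →ₐ[A] R') (_ : Function.Injective g) (D : Subalgebra A R) (b : R),
    (P R').S (D.map g) (g b) → (P R).S D b
  closed : ∀ {R : Type u} [CommRing R] [Algebra A R] (b : R),
    (P R).S (towerClosure (P R)) b → b ∈ towerClosure (P R)

variable {A : Type u} [CommRing A]

/-- The sq-cube steps. -/
def natSqCube (A : Type u) [CommRing A] : NatStep A where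
  P R _ _ := sqCube A R
  map g D b h := ⟨⟨b ^ 2, h.1, map_pow g b 2⟩, ⟨b ^ 3, h.2, map_pow g b 3⟩⟩
  reflect g hg D b h := by
    obtain ⟨⟨d, hd, hd'⟩, ⟨e, he, he'⟩⟩ := h
    have h1 : d = b ^ 2 := hg (by rw [map_pow]; exact hd')
    have h2 : e = b ^ 3 := hg (by rw [map_pow]; exact he')
    exact ⟨h1 ▸ hd, h2 ▸ he⟩
  closed b h := sqCube_closed h.1 h.2

/-- The sq-cube or prime steps. -/
def natSqCubeOrPrime (A : Type u) [CommRing A] : NatStep A where
  P R _ _ := sqCubeOrPrime A R
  map g D b h := by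
    rcases h with h | ⟨p, hp, h1, h2⟩
    · exact Or.inl ⟨⟨b ^ 2, h.1, map_pow g b 2⟩, ⟨b ^ 3, h.2, map_pow g b 3⟩⟩
    · refine Or.inr ⟨p, hp, ⟨(p : _) * b, h1, ?_⟩, ⟨b ^ p, h2, map_pow g b p⟩⟩
      rw [map_mul, map_natCast]
      rfl
  reflect g hg D b h := by
    rcases h with ⟨⟨d, hd, hd'⟩, ⟨e, he, he'⟩⟩ | ⟨p, hp, ⟨d, hd, hd'⟩, ⟨e, he, he'⟩⟩
    · have h1 : d = b ^ 2 := hg (by rw [map_pow]; exact hd')
      have h2 : e = b ^ 3 := hg (by rw [map_pow]; exact he')
      exact Or.inl ⟨h1 ▸ hd, h2 ▸ he⟩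
    · have h1 : d = (p : _) * b := hg (by rw [map_mul, map_natCast]; exact hd')
      have h2 : e = b ^ p := hg (by rw [map_pow]; exact he')
      exact Or.inr ⟨p, hp, h1 ▸ hd, h2 ▸ he⟩
  closed b h := by
    rcases h with h | ⟨p, hp, h1, h2⟩
    · exact sqCubeOrPrime_closed h.1 h.2
    · exact sqCubeOrPrime_closed' hp h1 h2

variable (N : NatStep A) {B : Type u} [CommRing B] [Algebra A B]

/-- The tower closure is its own tower closure. -/
theorem towerClosure_towerClosure :
    towerClosure (N.P (towerClosure (N.P B))) = ⊤ := by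
  set S := towerClosure (N.P B) with hS
  set C : Subalgebra A B := (towerClosure (N.P S)).map S.val with hC
  have hCS : C ≤ S := by
    rintro _ ⟨s, -, rfl⟩
    exact s.2
  have hle : towerClosure (N.P B) ≤ C := by
    apply towerClosure_le
    intro D b hD hb
    have h1 : (N.P B).S C b := (N.P B).mono hD b hb
    have h2 : b ∈ S := N.closed b ((N.P B).mono hCS b h1)
    have h3 : (N.P S).S (towerClosure (N.P S)) ⟨b, h2⟩ :=
      N.reflect S.val Subtype.val_injective _ _ h1
    exact ⟨⟨b, h2⟩, N.closed _ h3, rfl⟩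
  rw [eq_top_iff]
  intro s _
  obtain ⟨s', hs', hss'⟩ := hle s.2
  have : s' = s := Subtype.val_injective hss'
  rw [← this]
  exact hs'

/-- Images of tower closures. -/
theorem map_towerClosure_le {C : Type u} [CommRing C] [Algebra A C] (g : C →ₐ[A] B) :
    (towerClosure (N.P C)).map g ≤ towerClosure (N.P B) := by
  rw [Subalgebra.map_le]
  apply towerClosure_le
  intro D c hD hc
  rw [Subalgebra.mem_comap]
  apply N.closed
  have h1 := N.map g D c hc
  exact (N.P B).mono (Subalgebra.map_le.2 hD) _ h1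

theorem range_le_of_eq_top {C : Type u} [CommRing C] [Algebra A C] (g : C →ₐ[A] B)
    (h : towerClosure (N.P C) = ⊤) : g.range ≤ towerClosure (N.P B) := by
  have := map_towerClosure_le N g
  rwa [h, Algebra.map_top] at this

theorem towerClosure_sqCube_eq_top_of_isUnivHomeo
    (hU : FlatMor.IsUnivHomeo (Spec.map (CommRingCat.ofHom (algebraMap A B))))
    (hres : ∀ x : Spec (CommRingCat.of B),
      Function.Surjective ((Spec.map (CommRingCat.ofHom (algebraMap A B))).residueFieldMap x)) :
    towerClosure (sqCube A B) = ⊤ := by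
  have hint : Algebra.IsIntegral A B := ⟨isIntegral_of_isUnivHomeo _ hU⟩
  have hPI : ∀ (q : Ideal B) [q.IsPrime] (b : B), ∃ (ℓ n : ℕ) (a t : A),
      (ℓ = 1 ∨ (ℓ.Prime ∧ False ∧ (ℓ : B) ∈ q)) ∧ t ∉ q.comap (algebraMap A B) ∧
        algebraMap A B t * b ^ (ℓ ^ n) - algebraMap A B a ∈ q := by
    intro q hq b
    exact exists_of_surjective (algebraMap A B) q
      ((residueFieldMap_surjective_iff _ q).1 (hres ⟨q, hq⟩)) b
  exact subalgebra_eq_top _ (hcomap_of_isUnivHomeo hU) (fun _ => False) hPI
    (fun b => sqCube_closed) (fun _ _ _ h => h.elim)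

theorem isNilpotent_of_isDominant
    [IsDominant (Spec.map (CommRingCat.ofHom (algebraMap A B)))] (a : A)
    (ha : algebraMap A B a = 0) : IsNilpotent a := by
  have h1 : DenseRange (PrimeSpectrum.comap (algebraMap A B)) :=
    (Spec.map (CommRingCat.ofHom (algebraMap A B))).denseRange
  rw [PrimeSpectrum.denseRange_comap_iff_ker_le_nilRadical] at h1
  exact h1 ha

theorem s7427 [IsDominant (Spec.map (CommRingCat.ofHom (algebraMap A B)))] :
    ∃ B' : Subalgebra A B, FlatMor.IsUnivHomeo (Spec.map (CommRingCat.ofHom (algebraMap A B'))) ∧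
      ∀ (C : Type u) [CommRing C] [Algebra A C] (g : C →ₐ[A] B),
        FlatMor.IsUnivHomeo (Spec.map (CommRingCat.ofHom (algebraMap A C))) → g.range ≤ B' := by
  refine ⟨towerClosure (sqCubeOrPrime A B), ?_, ?_⟩
  · apply (isUH_iff _).1
    apply isUH_of_towerClosure_eq_top (towerClosure_towerClosure (natSqCubeOrPrime A))
    intro a ha
    apply isNilpotent_of_isDominant (B := B) a
    exact congrArg Subtype.val ha
  · intro C _ _ g hC
    exact range_le_of_eq_top (natSqCubeOrPrime A) g (towerClosure_eq_top_of_isUnivHomeo hC)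

theorem s7428 [IsDominant (Spec.map (CommRingCat.ofHom (algebraMap A B)))] :
    ∃ B' : Subalgebra A B, (FlatMor.IsUnivHomeo (Spec.map (CommRingCat.ofHom (algebraMap A B'))) ∧
      ∀ x : Spec (CommRingCat.of B'),
        Function.Surjective ((Spec.map (CommRingCat.ofHom (algebraMap A B'))).residueFieldMap x)) ∧
      ∀ (C : Type u) [CommRing C] [Algebra A C] (g : C →ₐ[A] B),
        FlatMor.IsUnivHomeo (Spec.map (CommRingCat.ofHom (algebraMap A C))) →
        (∀ x : Spec (CommRingCat.of C),
          Function.Surjective ((Spec.map (CommRingCat.ofHom (algebraMap A C))).residueFieldMap x)) →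
        g.range ≤ B' := by
  have htop := towerClosure_towerClosure (natSqCube A) (B := B)
  refine ⟨towerClosure (sqCube A B), ⟨?_, ?_⟩, ?_⟩
  · apply (isUH_iff _).1
    apply isUH_of_towerClosure_eq_top (sqCube_le_sqCubeOrPrime htop)
    intro a ha
    apply isNilpotent_of_isDominant (B := B) a
    exact congrArg Subtype.val ha
  · exact (resTriv_iff _).1 (resTriv_of_towerClosure_eq_top htop)
  · intro C _ _ g hC hres
    exact range_le_of_eq_top (natSqCube A) g (towerClosure_sqCube_eq_top_of_isUnivHomeo hC hres)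

end Groth.Agent.Helper7.UHMax
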