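import Groth.Agent.Helper7.UHImg2
import Groth.Agent.Helper7.UHMax
import Groth.Agent.Helper5.RedFib

set_option autoImplicit false
universe u
open AlgebraicGeometry CategoryTheory Limits

namespace Groth.Agent.Helper7.SnSch

open Groth.Agent.Helper7.UHRing Groth.Agent.Helper7.AwnR Groth.Agent.Helper7.UHTower HTop
open Groth.Agent.Helper7.AwnSch

/-- A universal homeomorphism with trivial residue field extensions from a seminormal ring to a
reduced ring is bijective. -/
theorem bijective_of_isSeminormalRing {B C : Type u} [CommRing B] [CommRing C]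
    (hB : IsSeminormalRing B) [IsReduced C] (χ : B →+* C) (hχ : IsUH χ) (hres : ResTriv χ) :
    Function.Bijective χ := by
  have hBred := isReduced_of_isSeminormalRing hB
  have hinj : Function.Injective χ := by
    rw [injective_iff_map_eq_zero]
    intro b hb
    exact IsReduced.eq_zero b (hχ.2.2 b hb)
  refine ⟨hinj, ?_⟩
  letI := χ.toAlgebra
  have htop : towerClosure (sqCube B C) = ⊤ :=
    Groth.Agent.Helper7.UHMax.towerClosure_sqCube_eq_top_of_isUnivHomeo ((isUH_iff χ).1 hχ)
      ((resTriv_iff χ).1 hres)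
  have hle : towerClosure (sqCube B C) ≤ (⊥ : Subalgebra B C) := by
    apply towerClosure_le
    intro D c hD hc
    obtain ⟨h2, h3⟩ := hc
    obtain ⟨x, hx⟩ := hD h2
    obtain ⟨y, hy⟩ := hD h3
    have hx' : χ x = c ^ 2 := hx
    have hy' : χ y = c ^ 3 := hy
    have hxy : x ^ 3 = y ^ 2 := by
      apply hinj
      rw [map_pow, map_pow, hx', hy']
      ring
    obtain ⟨a, ⟨ha2, ha3⟩, -⟩ := hB x y hxy
    refine ⟨a, ?_⟩
    change χ a = c
    apply eq_of_sq_cube
    · rw [← map_pow, ← ha2, hx']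
    · rw [← map_pow, ← ha3, hy']
  intro c
  have hc : c ∈ towerClosure (sqCube B C) := by rw [htop]; trivial
  obtain ⟨b, hb⟩ := hle hc
  exact ⟨b, hb⟩

section resiso

theorem residueFieldsIso_comp {X Y Z : Scheme.{u}} (f : X ⟶ Y) (g : Y ⟶ Z)
    (hf : ResidueFieldsIso f) (hg : ResidueFieldsIso g) : ResidueFieldsIso (f ≫ g) := by
  intro x
  rw [Scheme.residueFieldMap_comp]
  exact IsIso.comp_isIso' (hg (f x)) (hf x)

theorem residueFieldsIso_of_isOpenImmersion {X Y : Scheme.{u}} (f : X ⟶ Y) [IsOpenImmersion f] :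
    ResidueFieldsIso f := fun x => inferInstance

/-- Residue field isomorphisms restrict along a commutative square of open immersions. -/
theorem residueFieldsIso_of_square {U' U Z Y : Scheme.{u}} (j' : U' ⟶ Z) (j : U ⟶ Y)
    [IsOpenImmersion j'] [IsOpenImmersion j] (h : Z ⟶ Y) (h' : U' ⟶ U) (e : j' ≫ h = h' ≫ j)
    (H : ResidueFieldsIso h) : ResidueFieldsIso h' := by
  intro x
  have h1 : IsIso ((j' ≫ h).residueFieldMap x) :=
    residueFieldsIso_comp j' h (residueFieldsIso_of_isOpenImmersion j') H x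
  rw [Scheme.Hom.residueFieldMap_congr e, Scheme.residueFieldMap_comp] at h1
  generalize_proofs pf at h1
  have h2 : IsIso (j.residueFieldMap (h' x) ≫ h'.residueFieldMap x) :=
    @IsIso.of_isIso_comp_left _ _ _ _ _ (Y.residueFieldCongr pf).hom _ inferInstance h1
  exact @IsIso.of_isIso_comp_left _ _ _ _ _ (j.residueFieldMap (h' x)) _ inferInstance h2

theorem residueFieldsIso_of_surjectiveOnStalks {X Y : Scheme.{u}} (f : X ⟶ Y)
    [SurjectiveOnStalks f] : ResidueFieldsIso f := by
  intro x
  apply (ConcreteCategory.isIso_iff_bijective _).2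
  refine ⟨(f.residueFieldMap x).hom.injective, ?_⟩
  intro z
  obtain ⟨s, rfl⟩ := IsLocalRing.residue_surjective z
  obtain ⟨t, rfl⟩ := f.stalkMap_surjective x s
  refine ⟨Y.residue (f x) t, ?_⟩
  exact congr($(Scheme.residue_residueFieldMap f x) t)

theorem resTriv_app {Z Y : Scheme.{u}} (h : Z ⟶ Y) (hres : ResidueFieldsIso h) (V : Y.Opens)
    (hV : IsAffineOpen V) (hV' : IsAffineOpen (h ⁻¹ᵁ V)) : ResTriv (h.app V).hom := by
  rw [resTriv_iff]
  have H : hV'.fromSpec ≫ h = Spec.map (h.app V) ≫ hV.fromSpec := by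
    rw [Scheme.Hom.app_eq_appLE, IsAffineOpen.SpecMap_appLE_fromSpec]
  have := residueFieldsIso_of_square hV'.fromSpec hV.fromSpec h (Spec.map (h.app V)) H hres
  intro x
  exact ((ConcreteCategory.isIso_iff_bijective _).1 (this x)).2

end resiso

/-- A universal homeomorphism inducing isomorphisms on residue fields, from a reduced scheme to a
seminormal scheme, is an isomorphism. -/
theorem isIso_of_isUnivHomeo_of_isSeminormal {Z Y : Scheme.{u}} [IsReduced Z] (h : Z ⟶ Y)
    (hh : FlatMor.IsUnivHomeo h) (hres : ResidueFieldsIso h) (hY : IsSeminormal Y) : IsIso h := by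
  haveI : IsIntegralHom h := ((Groth.Agent.Helper5.UnivHomeo.isUnivHomeo_iff h).1 hh).1
  choose V hxV hV using hY
  have hcov : (⨆ y, (V y).1 : Y.Opens) = ⊤ := by
    rw [eq_top_iff]
    intro y _
    exact TopologicalSpace.Opens.mem_iSup.2 ⟨y, hxV y⟩
  show MorphismProperty.isomorphisms Scheme h
  refine (IsZariskiLocalAtTarget.iff_of_iSup_eq_top (P := .isomorphisms _) _ hcov).2 fun y => ?_
  show IsIso (h ∣_ (V y).1)
  rw [isIso_morphismRestrict_iff_isIso_app h (V y).2]
  have hbij : Function.Bijective (h.app (V y).1).hom :=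
    bijective_of_isSeminormalRing (hV y) _ (isUH_app h hh (V y))
      (resTriv_app h hres (V y).1 (V y).2 ((V y).2.preimage h))
  exact (ConcreteCategory.isIso_iff_bijective _).2 hbij

/-- The source of a seminormalization is reduced. -/
theorem isReduced_of_isSeminormalization {X' X : Scheme.{u}} (ν : X' ⟶ X)
    (hν : IsSeminormalization ν) : IsReduced X' := by
  let i : X'.nilradical.subscheme ⟶ X' := X'.nilradical.subschemeι
  haveI : Surjective i := by
    constructor
    rw [← Set.range_eq_univ, Scheme.IdealSheafData.range_subschemeι, Scheme.support_nilradical]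
    rfl
  have hiU : FlatMor.IsUnivHomeo i := Groth.Agent.Lead.isUnivHomeo_of_isClosedImmersion_of_surjective i
  have hiR : ResidueFieldsIso i := residueFieldsIso_of_surjectiveOnStalks i
  obtain ⟨h, hh, -⟩ := hν.2 _ (i ≫ ν) (MorphismProperty.comp_mem _ _ _ hiU hν.1.1)
    (residueFieldsIso_comp i ν hiR hν.1.2)
  obtain ⟨e, -, he⟩ := hν.2 _ ν hν.1.1 hν.1.2
  have h1 : h ≫ i = 𝟙 X' := by
    rw [he (h ≫ i) (by show (h ≫ i) ≫ ν = ν; rw [Category.assoc]; exact hh),
      he (𝟙 X') (Category.id_comp ν)]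
  haveI : IsSplitEpi i := ⟨⟨⟨h, h1⟩⟩⟩
  haveI : IsIso i := isIso_of_mono_of_isSplitEpi i
  exact isReduced_of_isOpenImmersion (inv i)

theorem s15940 {X' X : Scheme.{u}} (ν : X' ⟶ X)
    (hν : HTop.IsSeminormalization ν) (hX : HTop.IsSeminormal X) : IsIso ν := by
  haveI := isReduced_of_isSeminormalization ν hν
  exact isIso_of_isUnivHomeo_of_isSeminormal ν hν.1.1 hν.1.2 hX

end Groth.Agent.Helper7.SnSch
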