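import Groth.Agent.Helper7.SnRing
import Groth.Agent.Helper7.AwnAff

set_option autoImplicit false
universe u
open AlgebraicGeometry CategoryTheory Limits

namespace Groth.Agent.Helper7.SnSch

open Groth.Agent.Helper7.UHRing Groth.Agent.Helper7.AwnR HTop Groth.Agent.Helper7.AwnSch
open Groth.Agent.Helper7.SnRing Groth.Agent.Helper7.AwnAff

/-- A seminormal scheme is reduced. -/
theorem isReduced_of_isSeminormal {Z : Scheme.{u}} (hZ : IsSeminormal Z) : IsReduced Z := by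
  have hU : ∀ U : Z.affineOpens, _root_.IsReduced Γ(Z, U.1) := fun U =>
    isReduced_of_isSeminormalRing (isSeminormalRing_affine hZ U)
  let 𝒰 : Z.OpenCover := Z.openCoverOfIsOpenCover (fun U : Z.affineOpens => U.1)
    (iSup_affineOpens_eq_top Z)
  haveI : ∀ i, IsReduced (𝒰.X i) := by
    intro U
    change IsReduced (U.1 : Scheme)
    haveI : IsAffine (U.1 : Scheme) := U.2
    haveI : _root_.IsReduced Γ(Z, U.1) := hU U
    haveI : _root_.IsReduced Γ((U.1 : Scheme), ⊤) :=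
      isReduced_of_injective (U.1.topIso).hom.hom
        (U.1.topIso).commRingCatIsoToRingEquiv.injective
    exact isReduced_of_isAffine_isReduced _
  exact IsReduced.of_openCover _ 𝒰

section local_lift

variable {Z Y U : Scheme.{u}} (ρ : Z ⟶ U) (π : Y ⟶ U) (hπ : FlatMor.IsUnivHomeo π)
  (hres : ResidueFieldsIso π) (hZ : IsSeminormal Z)

include hπ hres hZ in
/-- Local lifts through a universal homeomorphism with trivial residue field extensions. -/
theorem exists_local_lift (W : Z.Opens) (hW : IsAffineOpen W) (V : U.Opens) (hV : IsAffineOpen V)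
    (hWV : W ≤ ρ ⁻¹ᵁ V) : ∃ s : (W : Scheme) ⟶ Y, s ≫ π = W.ι ≫ ρ := by
  haveI : IsIntegralHom π := ((Groth.Agent.Helper5.UnivHomeo.isUnivHomeo_iff π).1 hπ).1
  have hV' : IsAffineOpen (π ⁻¹ᵁ V) := hV.preimage π
  have hψU : IsUH (π.app V).hom := isUH_app π hπ ⟨V, hV⟩
  have hψR : ResTriv (π.app V).hom := resTriv_app π hres V hV hV'
  have hN : IsSeminormalRing Γ(Z, W) := isSeminormalRing_affine hZ ⟨W, hW⟩
  obtain ⟨χ, hχ, -⟩ := existsUnique_lift (π.app V).hom hψU hψR hN (ρ.appLE V W hWV).hom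
  refine ⟨hW.isoSpec.hom ≫ Spec.map (CommRingCat.ofHom χ) ≫ hV'.fromSpec, ?_⟩
  have h1 : hV'.fromSpec ≫ π = Spec.map (π.app V) ≫ hV.fromSpec := by
    rw [Scheme.Hom.app_eq_appLE, IsAffineOpen.SpecMap_appLE_fromSpec]
  have h2 : π.app V ≫ CommRingCat.ofHom χ = ρ.appLE V W hWV := CommRingCat.hom_ext hχ
  rw [Category.assoc, Category.assoc, h1, ← Spec.map_comp_assoc, h2,
    IsAffineOpen.SpecMap_appLE_fromSpec ρ hV hW hWV, IsAffineOpen.isoSpec_hom_fromSpec_assoc]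

include hπ hres hZ in
/-- Seminormal schemes lift uniquely through universal homeomorphisms with trivial residue field
extensions. -/
theorem existsUnique_lift_of_isSeminormal : ∃! h : Z ⟶ Y, h ≫ π = ρ := by
  haveI := isReduced_of_isSeminormal hZ
  have hbasis : ∀ z : Z, ∃ (W : Z.Opens) (V : U.Opens), IsAffineOpen W ∧ IsAffineOpen V ∧ z ∈ W ∧
      W ≤ ρ ⁻¹ᵁ V := by
    intro z
    obtain ⟨_, ⟨V, hV, rfl⟩, hzV, -⟩ := U.isBasis_affineOpens.exists_subset_of_mem_open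
      (Set.mem_univ (ρ z)) isOpen_univ
    obtain ⟨_, ⟨W, hW, rfl⟩, hzW, hWV⟩ := Z.isBasis_affineOpens.exists_subset_of_mem_open
      (show z ∈ ((ρ ⁻¹ᵁ V : Z.Opens) : Set Z) from hzV) (ρ ⁻¹ᵁ V).isOpen
    exact ⟨W, V, hW, hV, hzW, hWV⟩
  choose W V hW hV hzW hWV using hbasis
  have hcov : (⨆ z, W z : Z.Opens) = ⊤ := by
    rw [eq_top_iff]
    intro z _
    exact TopologicalSpace.Opens.mem_iSup.2 ⟨z, hzW z⟩
  let 𝒰 : Z.OpenCover := Z.openCoverOfIsOpenCover W hcov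
  have hs : ∀ z, ∃ s : (W z : Scheme) ⟶ Y, s ≫ π = (W z).ι ≫ ρ := fun z =>
    exists_local_lift ρ π hπ hres hZ (W z) (hW z) (V z) (hV z) (hWV z)
  choose s hs using hs
  have hcompat : ∀ x y : Z, pullback.fst (𝒰.f x) (𝒰.f y) ≫ s x = pullback.snd _ _ ≫ s y := by
    intro x y
    haveI : IsReduced (pullback (𝒰.f x) (𝒰.f y)) :=
      isReduced_of_isOpenImmersion (pullback.fst (𝒰.f x) (𝒰.f y) ≫ 𝒰.f x)
    refine hom_ext_of_isUnivHomeo π hπ _ _ ?_
    have e1 : (pullback.fst (𝒰.f x) (𝒰.f y) ≫ s x) ≫ π =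
        pullback.fst (𝒰.f x) (𝒰.f y) ≫ (W x).ι ≫ ρ :=
      (Category.assoc _ _ _).trans (congrArg (pullback.fst (𝒰.f x) (𝒰.f y) ≫ ·) (hs x))
    have e2 : (pullback.snd (𝒰.f x) (𝒰.f y) ≫ s y) ≫ π =
        pullback.snd (𝒰.f x) (𝒰.f y) ≫ (W y).ι ≫ ρ :=
      (Category.assoc _ _ _).trans (congrArg (pullback.snd (𝒰.f x) (𝒰.f y) ≫ ·) (hs y))
    exact e1.trans ((pullback.condition_assoc ρ).trans e2.symm)
  have hglue : 𝒰.glueMorphisms s hcompat ≫ π = ρ := by
    refine 𝒰.hom_ext _ _ fun z => ?_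
    have e1 : 𝒰.f z ≫ 𝒰.glueMorphisms s hcompat ≫ π = s z ≫ π :=
      (Category.assoc _ _ _).symm.trans (congrArg (· ≫ π) (Scheme.Cover.ι_glueMorphisms 𝒰 s hcompat z))
    exact e1.trans (hs z)
  refine ⟨𝒰.glueMorphisms s hcompat, hglue, ?_⟩
  intro h hh
  exact hom_ext_of_isUnivHomeo π hπ _ _ (hh.trans hglue.symm)

end local_lift

end Groth.Agent.Helper7.SnSch
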