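import Groth.Agent.Helper7.SnSch2

set_option autoImplicit false
universe u
open AlgebraicGeometry CategoryTheory Limits

namespace Groth.Agent.Helper7.SnSch

open Groth.Agent.Helper7.UHRing Groth.Agent.Helper7.AwnR HTop Groth.Agent.Helper7.AwnSch
open Groth.Agent.Helper7.SnRing Groth.Agent.Helper7.AwnAff

/-- An open subscheme of a seminormal scheme is seminormal. -/
theorem isSeminormal_of_isOpenImmersion {Z' Z : Scheme.{u}} (j : Z' ⟶ Z) [IsOpenImmersion j]
    (hZ : IsSeminormal Z) : IsSeminormal Z' := by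
  intro z'
  obtain ⟨_, ⟨W', hW', rfl⟩, hzW', -⟩ := Z'.isBasis_affineOpens.exists_subset_of_mem_open
    (Set.mem_univ z') isOpen_univ
  refine ⟨⟨W', hW'⟩, hzW', ?_⟩
  have h1 : IsSeminormalRing Γ(Z, j ''ᵁ W') :=
    isSeminormalRing_affine hZ ⟨j ''ᵁ W', hW'.image_of_isOpenImmersion j⟩
  exact isSeminormalRing_of_ringEquiv (j.appIso W').symm.commRingCatIsoToRingEquiv h1

theorem s15961 {X' X : Scheme.{u}} (ν : X' ⟶ X)
    (hν : HTop.IsSeminormalization ν) (hX' : HTop.IsSeminormal X') (U : X.Opens) :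
    HTop.IsSeminormalization (ν ∣_ U) := by
  have hZ : IsSeminormal (ν ⁻¹ᵁ U : Scheme) := isSeminormal_of_isOpenImmersion (ν ⁻¹ᵁ U).ι hX'
  refine ⟨⟨?_, ?_⟩, ?_⟩
  · exact MorphismProperty.of_isPullback (isPullback_morphismRestrict ν U).flip hν.1.1
  · exact residueFieldsIso_of_square (ν ⁻¹ᵁ U).ι U.ι ν (ν ∣_ U) (morphismRestrict_ι ν U).symm
      hν.1.2
  · intro Y π hπ hres
    exact existsUnique_lift_of_isSeminormal (ν ∣_ U) π hπ hres hZ

end Groth.Agent.Helper7.SnSch
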