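import Mathlib

namespace Groth.Agent.Helper7.SopChain

open IsLocalRing

variable {A : Type*} [CommRing A]

theorem map_lt_map {P₀ J₁ J₂ : Ideal A} (h1 : P₀ ≤ J₁) (h : J₁ < J₂) :
    J₁.map (Ideal.Quotient.mk P₀) < J₂.map (Ideal.Quotient.mk P₀) := by
  refine lt_of_le_of_ne (Ideal.map_mono h.le) ?_
  intro heq
  have hc : ∀ J : Ideal A, P₀ ≤ J →
      (J.map (Ideal.Quotient.mk P₀)).comap (Ideal.Quotient.mk P₀) = J := by
    intro J hJ
    rw [Ideal.comap_map_of_surjective' _ Ideal.Quotient.mk_surjective, Ideal.mk_ker,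
      sup_eq_left.2 hJ]
  have := congrArg (Ideal.comap (Ideal.Quotient.mk P₀)) heq
  rw [hc J₁ h1, hc J₂ (h1.trans h.le)] at this
  exact h.ne this

variable [IsNoetherianRing A] [IsLocalRing A]

theorem eq_max_of_lt {P₀ P : Ideal A} [hP₀ : P₀.IsPrime] [hP : P.IsPrime] (x : A)
    (hm : maximalIdeal A ∈ (P₀ ⊔ Ideal.span {x}).minimalPrimes) (hlt : P₀ < P) :
    P = maximalIdeal A := by
  by_contra hne
  have hPm : P < maximalIdeal A := lt_of_le_of_ne (le_maximalIdeal hP.ne_top) hne
  have h1 := Ideal.map_height_le_one_of_mem_minimalPrimes hm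
  have hbot : (P₀.map (Ideal.Quotient.mk P₀)) = ⊥ := by
    rw [Ideal.map_quotient_self]
  have hp1 : (P.map (Ideal.Quotient.mk P₀)).IsPrime :=
    Ideal.isPrime_map_quotientMk_of_isPrime hlt.le
  have hp2 : ((maximalIdeal A).map (Ideal.Quotient.mk P₀)).IsPrime :=
    Ideal.isPrime_map_quotientMk_of_isPrime (hlt.le.trans hPm.le)
  have hp0 : (⊥ : Ideal (A ⧸ P₀)).IsPrime := Ideal.isPrime_bot
  have l1 : (⊥ : Ideal (A ⧸ P₀)) < P.map (Ideal.Quotient.mk P₀) := by
    rw [← hbot]
    exact map_lt_map le_rfl hlt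
  have l2 : P.map (Ideal.Quotient.mk P₀) < (maximalIdeal A).map (Ideal.Quotient.mk P₀) :=
    map_lt_map hlt.le hPm
  have e1 := Ideal.height_add_one_le_of_lt_of_isPrime l1
  have e2 := Ideal.height_add_one_le_of_lt_of_isPrime l2
  have e3 : (P.map (Ideal.Quotient.mk P₀)).height + 1 ≤ 1 := e2.trans h1
  have e4 : (1 : ℕ∞) ≤ (P.map (Ideal.Quotient.mk P₀)).height :=
    le_trans (by simp) e1
  have e5 : (1 : ℕ∞) + 1 ≤ 1 := (add_le_add_left e4 1).trans e3
  exact absurd e5 (by decide)

variable {d : ℕ}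

/-- A system of parameters in the weak sense: elements of the maximal ideal generating an
ideal whose radical is the maximal ideal. -/
def SOP (a : Fin d → A) : Prop :=
  (∀ i, a i ∈ maximalIdeal A) ∧ maximalIdeal A ≤ (Ideal.span (Set.range a)).radical

/-- The ideal generated by all coordinates but `i`. -/
def rest (a : Fin d → A) (i : Fin d) : Ideal A := Ideal.span (a '' {j | j ≠ i})

omit [IsNoetherianRing A] [IsLocalRing A] in
theorem rest_sup (a : Fin d → A) (i : Fin d) :
    rest a i ⊔ Ideal.span {a i} = Ideal.span (Set.range a) := by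
  unfold rest
  rw [← Ideal.span_union]
  congr 1
  ext x
  constructor
  · rintro (⟨j, -, rfl⟩ | rfl)
    · exact ⟨j, rfl⟩
    · exact ⟨i, rfl⟩
  · rintro ⟨j, rfl⟩
    by_cases hj : j = i
    · right; rw [hj]; rfl
    · left; exact ⟨j, hj, rfl⟩

omit [IsNoetherianRing A] [IsLocalRing A] in
theorem rest_update (a : Fin d → A) (i : Fin d) (w : A) :
    rest (Function.update a i w) i = rest a i := by
  unfold rest
  congr 1
  ext x
  constructor
  · rintro ⟨j, hj, rfl⟩
    exact ⟨j, hj, (Function.update_of_ne hj _ _).symm⟩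
  · rintro ⟨j, hj, rfl⟩
    exact ⟨j, hj, Function.update_of_ne hj _ _⟩

omit [IsNoetherianRing A] in
theorem max_mem_minimalPrimes {a : Fin d → A} (ha : SOP a) (i : Fin d) {P₀ : Ideal A}
    (hP₀ : rest a i ≤ P₀) (hne : P₀ ≠ ⊤) :
    maximalIdeal A ∈ (P₀ ⊔ Ideal.span {a i}).minimalPrimes := by
  refine ⟨⟨inferInstance, sup_le (le_maximalIdeal hne) ?_⟩, ?_⟩
  · rw [Ideal.span_le]
    rintro _ rfl
    exact ha.1 i
  · rintro Q ⟨hQ, hQle⟩ _
    have h1 : Ideal.span (Set.range a) ≤ Q := by
      rw [← rest_sup a i]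
      exact (sup_le_sup_right hP₀ _).trans hQle
    have h2 : (Ideal.span (Set.range a)).radical ≤ Q := hQ.radical_le_iff.2 h1
    exact ha.2.trans h2

theorem sop_update {a : Fin d → A} (ha : SOP a) (i : Fin d) {w : A} (hw : w ∈ maximalIdeal A)
    (havoid : ∀ P ∈ (rest a i).minimalPrimes, P ≠ maximalIdeal A → w ∉ P) :
    SOP (Function.update a i w) := by
  classical
  refine ⟨fun j => ?_, ?_⟩
  · by_cases hj : j = i
    · rw [hj, Function.update_self]; exact hw
    · rw [Function.update_of_ne hj]; exact ha.1 j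
  · rw [Ideal.radical_eq_sInf]
    refine le_sInf ?_
    rintro P ⟨hPle, hP⟩
    have hrest : rest a i ≤ P := by
      rw [← rest_update a i w, ← rest_sup (Function.update a i w) i] at *
      exact le_sup_left.trans hPle
    have hwP : w ∈ P := by
      apply hPle
      apply Ideal.subset_span
      exact ⟨i, Function.update_self _ _ _⟩
    obtain ⟨P₀, hP₀, hP₀le⟩ := Ideal.exists_minimalPrimes_le hrest
    by_cases hmax : P₀ = maximalIdeal A
    · rw [← hmax]; exact hP₀le
    · have hw0 : w ∉ P₀ := havoid P₀ hP₀ hmax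
      have hlt : P₀ < P := lt_of_le_of_ne hP₀le (fun h => hw0 (h ▸ hwP))
      have hP₀prime : P₀.IsPrime := hP₀.1.1
      have := eq_max_of_lt (P₀ := P₀) (P := P) (a i)
        (max_mem_minimalPrimes ha i hP₀.1.2 hP₀prime.ne_top) hlt
      rw [this]

theorem exists_avoid (u v : Fin d → A) (i : Fin d) :
    ∃ w ∈ maximalIdeal A,
      (∀ P ∈ (rest u i).minimalPrimes, P ≠ maximalIdeal A → w ∉ P) ∧
      (∀ P ∈ (rest v i).minimalPrimes, P ≠ maximalIdeal A → w ∉ P) := by
  classical
  have hfu : ((rest u i).minimalPrimes).Finite :=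
    Ideal.finite_minimalPrimes_of_isNoetherianRing A _
  have hfv : ((rest v i).minimalPrimes).Finite :=
    Ideal.finite_minimalPrimes_of_isNoetherianRing A _
  let s : Finset (Ideal A) := (hfu.toFinset ∪ hfv.toFinset).filter (fun P => P ≠ maximalIdeal A)
  have hs : ∀ P ∈ s, P.IsPrime := by
    intro P hP
    rw [Finset.mem_filter, Finset.mem_union, Set.Finite.mem_toFinset, Set.Finite.mem_toFinset] at hP
    rcases hP.1 with h | h
    · exact h.1.1
    · exact h.1.1
  have hnot : ¬ ((maximalIdeal A : Set A) ⊆ ⋃ P ∈ (↑s : Set (Ideal A)), (id P : Ideal A)) := by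
    intro hsub
    rw [Ideal.subset_union_prime (f := id) (maximalIdeal A) (maximalIdeal A)
      (fun P hP _ _ => hs P hP)] at hsub
    obtain ⟨P, hP, hle⟩ := hsub
    have hprime := hs P hP
    have hne : P ≠ maximalIdeal A := (Finset.mem_filter.1 hP).2
    exact hne ((IsLocalRing.maximalIdeal.isMaximal A).eq_of_le hprime.ne_top hle).symm
  rw [Set.not_subset] at hnot
  obtain ⟨w, hw, hwn⟩ := hnot
  refine ⟨w, hw, ?_, ?_⟩
  · intro P hP hne hwP
    apply hwn
    simp only [Set.mem_iUnion]
    refine ⟨P, ?_, hwP⟩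
    rw [Finset.mem_coe, Finset.mem_filter, Finset.mem_union, Set.Finite.mem_toFinset]
    exact ⟨Or.inl hP, hne⟩
  · intro P hP hne hwP
    apply hwn
    simp only [Set.mem_iUnion]
    refine ⟨P, ?_, hwP⟩
    rw [Finset.mem_coe, Finset.mem_filter, Finset.mem_union, Set.Finite.mem_toFinset,
      Set.Finite.mem_toFinset]
    exact ⟨Or.inr hP, hne⟩

/-- One step: change at most one coordinate, staying among systems of parameters. -/
def Step (a b : Fin d → A) : Prop :=
  SOP a ∧ SOP b ∧ ∃ i, ∀ i' : Fin d, i' ≠ i → a i' = b i'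

theorem conn (S : Finset (Fin d)) : ∀ u v : Fin d → A, SOP u → SOP v → (∀ j, j ∉ S → u j = v j) →
    Relation.ReflTransGen Step u v := by
  classical
  induction S using Finset.induction_on with
  | empty =>
    intro u v _ _ h
    have : u = v := funext fun j => h j (Finset.notMem_empty j)
    rw [this]
  | insert i S hi ih =>
    intro u v hu hv h
    obtain ⟨w, hw, h1, h2⟩ := exists_avoid u v i
    have hu' := sop_update hu i hw h1
    have hv' := sop_update hv i hw h2
    have hagree : ∀ j, j ∉ S → Function.update u i w j = Function.update v i w j := by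
      intro j hj
      by_cases hji : j = i
      · rw [hji, Function.update_self, Function.update_self]
      · rw [Function.update_of_ne hji, Function.update_of_ne hji]
        exact h j (by simp [hji, hj])
    have hmid := ih _ _ hu' hv' hagree
    have hfirst : Step u (Function.update u i w) :=
      ⟨hu, hu', i, fun i' hi' => (Function.update_of_ne hi' _ _).symm⟩
    have hlast : Step (Function.update v i w) v :=
      ⟨hv', hv, i, fun i' hi' => Function.update_of_ne hi' _ _⟩
    exact (Relation.ReflTransGen.head hfirst hmid).tail hlast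

omit [IsNoetherianRing A] in
theorem chain_of_reflTransGen {u v : Fin d → A} (hu : SOP u) (h : Relation.ReflTransGen Step u v) :
    ∃ (m : ℕ) (w : Fin (m + 1) → Fin d → A), w 0 = u ∧ w (Fin.last m) = v ∧
      (∀ k : Fin (m + 1), SOP (w k)) ∧
      (∀ k : Fin m, ∃ i : Fin d, ∀ i' : Fin d, i' ≠ i → w k.castSucc i' = w k.succ i') := by
  induction h with
  | refl => exact ⟨0, fun _ => u, rfl, rfl, fun _ => hu, fun k => k.elim0⟩
  | @tail b c _ hbc ih =>
    obtain ⟨m, w, h0, hl, hsop, hstep⟩ := ih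
    refine ⟨m + 1, Fin.snoc w c, ?_, ?_, ?_, ?_⟩
    · have : (0 : Fin (m + 2)) = (0 : Fin (m + 1)).castSucc := rfl
      rw [this, Fin.snoc_castSucc, h0]
    · rw [Fin.snoc_last]
    · intro k
      refine Fin.lastCases ?_ (fun k' => ?_) k
      · rw [Fin.snoc_last]; exact hbc.2.1
      · rw [Fin.snoc_castSucc]; exact hsop k'
    · intro k
      refine Fin.lastCases ?_ (fun k' => ?_) k
      · rw [Fin.snoc_castSucc, Fin.succ_last, Fin.snoc_last, hl]
        exact hbc.2.2
      · have e1 : (k'.castSucc.castSucc : Fin (m + 2)) = (k'.castSucc : Fin (m + 1)).castSucc := rfl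
        have e2 : (k'.castSucc.succ : Fin (m + 2)) = (k'.succ : Fin (m + 1)).castSucc := rfl
        rw [e1, e2, Fin.snoc_castSucc, Fin.snoc_castSucc]
        exact hstep k'

theorem main {u v : Fin d → A} (hu : SOP u) (hv : SOP v) :
    ∃ (m : ℕ) (w : Fin (m + 1) → Fin d → A), w 0 = u ∧ w (Fin.last m) = v ∧
      (∀ k : Fin (m + 1), SOP (w k)) ∧
      (∀ k : Fin m, ∃ i : Fin d, ∀ i' : Fin d, i' ≠ i → w k.castSucc i' = w k.succ i') :=
  chain_of_reflTransGen hu (conn Finset.univ u v hu hv (fun j hj => absurd (Finset.mem_univ j) hj))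

end Groth.Agent.Helper7.SopChain
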