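import Mathlib
import Groth.Agent.Helper7.LinMiss2

namespace Groth.Agent.Helper7.SopExt

open IsLocalRing

variable {R : Type*} [CommRing R] [IsNoetherianRing R] [IsLocalRing R]

omit [IsNoetherianRing R] in
theorem max_le_radical_of_dim_le_zero {J : Ideal R}
    (hdim : ringKrullDim (R ⧸ J) ≤ 0) : maximalIdeal R ≤ J.radical := by
  rw [← Ideal.sInf_minimalPrimes]
  refine le_sInf fun P hP => ?_
  have h0 : Ring.KrullDimLE 0 (R ⧸ J) := by
    rw [Ring.krullDimLE_iff]
    exact_mod_cast hdim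
  have hmax : P.IsMaximal :=
    Ideal.krullDimLE_zero_quotient_iff_forall_minimalPrimes_isMaximal.1 h0 P hP
  rw [IsLocalRing.eq_maximalIdeal hmax]

theorem exists_avoid_pow {J : Ideal R} (hrad : ¬ maximalIdeal R ≤ J.radical) (k : ℕ) :
    ∃ h ∈ maximalIdeal R ^ (k + 1), ∀ P ∈ J.minimalPrimes, h ∉ P := by
  classical
  have hne : ∀ P ∈ J.minimalPrimes, P ≠ maximalIdeal R := by
    rintro P hP rfl
    apply hrad
    rw [← Ideal.sInf_minimalPrimes]
    refine le_sInf fun P' hP' => ?_
    exact hP.2 ⟨hP'.1.1, hP'.1.2⟩ (le_maximalIdeal hP'.1.1.ne_top)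
  have hfin : (J.minimalPrimes).Finite := Ideal.finite_minimalPrimes_of_isNoetherianRing R J
  have hnot : ¬ ((maximalIdeal R ^ (k + 1) : Ideal R) : Set R) ⊆
      ⋃ P ∈ (↑hfin.toFinset : Set (Ideal R)), (id P : Ideal R) := by
    intro hsub
    rw [Ideal.subset_union_prime (f := id) (maximalIdeal R) (maximalIdeal R)
      (fun P hP _ _ => ((Set.Finite.mem_toFinset hfin).1 hP).1.1)] at hsub
    obtain ⟨P, hP, hle⟩ := hsub
    have hP' := (Set.Finite.mem_toFinset hfin).1 hP
    have hprime : P.IsPrime := hP'.1.1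
    have hle' : maximalIdeal R ≤ P := Ideal.IsPrime.le_of_pow_le hle
    exact hne P hP' ((IsLocalRing.maximalIdeal.isMaximal R).eq_of_le hprime.ne_top hle').symm
  rw [Set.not_subset] at hnot
  obtain ⟨h, hh, hn⟩ := hnot
  refine ⟨h, hh, fun P hP hmem => hn ?_⟩
  simp only [Set.mem_iUnion]
  exact ⟨P, Finset.mem_coe.2 ((Set.Finite.mem_toFinset hfin).2 hP), hmem⟩

theorem main_aux (k : ℕ) : ∀ (n : ℕ) (J : Ideal R), J ≤ maximalIdeal R →
    ringKrullDim (R ⧸ J) ≤ n →
    ∃ g : Fin n → R, (∀ i, g i ∈ maximalIdeal R ^ (k + 1)) ∧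
      maximalIdeal R ≤ (J ⊔ Ideal.span (Set.range g)).radical := by
  intro n
  induction n with
  | zero =>
    intro J _ hdim
    refine ⟨fun i => i.elim0, fun i => i.elim0, ?_⟩
    exact (max_le_radical_of_dim_le_zero (by exact_mod_cast hdim)).trans
      (Ideal.radical_mono le_sup_left)
  | succ n ih =>
    intro J hJ hdim
    by_cases hrad : maximalIdeal R ≤ J.radical
    · exact ⟨fun _ => 0, fun _ => Ideal.zero_mem _, hrad.trans (Ideal.radical_mono le_sup_left)⟩
    · obtain ⟨h, hh, havoid⟩ := exists_avoid_pow hrad k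
      have hdrop := LinMiss.dim_drop J h havoid
      have hhm : h ∈ maximalIdeal R := Ideal.pow_le_self (Nat.succ_ne_zero k) hh
      have hJ' : J ⊔ Ideal.span {h} ≤ maximalIdeal R :=
        sup_le hJ ((Ideal.span_singleton_le_iff_mem _).2 hhm)
      have hdim' : ringKrullDim (R ⧸ (J ⊔ Ideal.span {h})) ≤ n := by
        have h2 := hdrop.trans hdim
        generalize ringKrullDim (R ⧸ (J ⊔ Ideal.span {h})) = a at h2 ⊢
        induction a using WithBot.recBotCoe with
        | bot => exact bot_le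
        | coe a =>
          have h3 : ((a + 1 : ℕ∞) : WithBot ℕ∞) ≤ ((n + 1 : ℕ∞) : WithBot ℕ∞) := by
            simpa using h2
          rw [WithBot.coe_le_coe] at h3
          have h4 : a ≤ (n : ℕ∞) := (ENat.add_le_add_iff_right (by simp)).1 h3
          exact_mod_cast h4
      obtain ⟨g', hg', hrad'⟩ := ih _ hJ' hdim'
      refine ⟨Fin.cons h g', ?_, ?_⟩
      · intro i
        refine Fin.cases ?_ (fun j => ?_) i
        · simpa using hh
        · simpa using hg' j
      · rw [Fin.range_cons, Ideal.span_insert, ← sup_assoc]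
        exact hrad'

end Groth.Agent.Helper7.SopExt
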