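import Mathlib

namespace Groth.Agent.Helper7.SplitLoc

universe u

variable (R : Type u) [CommRing R] (M : Type u) [AddCommGroup M] [Module R M] (x : Ideal R)

/-- Elements on which every linear form takes values in `x`. -/
def Nsub : Submodule R M where
  carrier := {m : M | ∀ φ : M →ₗ[R] R, φ m ∈ x}
  add_mem' := fun {a b} ha hb φ => by rw [map_add]; exact x.add_mem (ha φ) (hb φ)
  zero_mem' := fun φ => by rw [map_zero]; exact x.zero_mem
  smul_mem' := fun c {a} ha φ => by rw [map_smul]; exact x.mul_mem_left c (ha φ)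

theorem smul_top_le_Nsub : (x • ⊤ : Submodule R M) ≤ Nsub R M x := by
  rw [Submodule.smul_le]
  intro r hr m _ φ
  rw [map_smul]
  exact x.mul_mem_right _ hr

theorem mkQ_mem_span_iff (y : M) :
    (x • ⊤ : Submodule R M).mkQ y ∈
      Submodule.span (R ⧸ x) ((x • ⊤ : Submodule R M).mkQ '' {m : M | ∀ φ : M →ₗ[R] R, φ m ∈ x}) ↔
      y ∈ Nsub R M x := by
  constructor
  · intro h
    let B' : Submodule (R ⧸ x) (M ⧸ (x • ⊤ : Submodule R M)) :=
      { carrier := (x • ⊤ : Submodule R M).mkQ '' {m : M | ∀ φ : M →ₗ[R] R, φ m ∈ x}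
        add_mem' := by
          rintro _ _ ⟨a, ha, rfl⟩ ⟨b, hb, rfl⟩
          exact ⟨a + b, (Nsub R M x).add_mem ha hb, map_add _ _ _⟩
        zero_mem' := ⟨0, (Nsub R M x).zero_mem, map_zero _⟩
        smul_mem' := by
          rintro c _ ⟨a, ha, rfl⟩
          obtain ⟨c, rfl⟩ := Ideal.Quotient.mk_surjective c
          exact ⟨c • a, (Nsub R M x).smul_mem c ha, rfl⟩ }
    have hle : Submodule.span (R ⧸ x)
        ((x • ⊤ : Submodule R M).mkQ '' {m : M | ∀ φ : M →ₗ[R] R, φ m ∈ x}) ≤ B' :=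
      Submodule.span_le.2 (fun z hz => hz)
    obtain ⟨n, hn, hny⟩ := hle h
    have hsub : y - n ∈ (x • ⊤ : Submodule R M) := by
      rw [← Submodule.Quotient.mk_eq_zero, Submodule.Quotient.mk_sub]
      change (x • ⊤ : Submodule R M).mkQ y - (x • ⊤ : Submodule R M).mkQ n = 0
      rw [hny, sub_self]
    have : y = n + (y - n) := by abel
    rw [this]
    exact (Nsub R M x).add_mem hn (smul_top_le_Nsub R M x hsub)
  · intro h
    exact Submodule.subset_span ⟨y, h, rfl⟩

theorem sum_smul_eq (r : ℕ) (s : Fin r → M) (a : Fin r → R) :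
    (∑ i, (Ideal.Quotient.mk x (a i)) •
      (Submodule.span (R ⧸ x)
        ((x • ⊤ : Submodule R M).mkQ '' {m : M | ∀ φ : M →ₗ[R] R, φ m ∈ x})).mkQ
          ((x • ⊤ : Submodule R M).mkQ (s i))) =
    (Submodule.span (R ⧸ x)
        ((x • ⊤ : Submodule R M).mkQ '' {m : M | ∀ φ : M →ₗ[R] R, φ m ∈ x})).mkQ
          ((x • ⊤ : Submodule R M).mkQ (∑ i, a i • s i)) := by
  rw [map_sum, map_sum]
  refine Finset.sum_congr rfl fun i _ => ?_
  rw [← map_smul]
  rfl

theorem sum_mem_Nsub_iff (r : ℕ) (s : Fin r → M) (a : Fin r → R) :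
    (∑ i, a i • s i) ∈ Nsub R M x ↔ ∀ φ : M →ₗ[R] R, ∑ i, a i * φ (s i) ∈ x := by
  constructor
  · intro h φ
    have := h φ
    simpa [map_sum, map_smul] using this
  · intro h φ
    have := h φ
    simpa [map_sum, map_smul] using this

theorem linIndep_iff (r : ℕ) (s : Fin r → M) :
    LinearIndependent (R ⧸ x) (fun i =>
      (Submodule.span (R ⧸ x)
        ((x • ⊤ : Submodule R M).mkQ '' {m : M | ∀ φ : M →ₗ[R] R, φ m ∈ x})).mkQ
          ((x • ⊤ : Submodule R M).mkQ (s i))) ↔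
    ∀ a : Fin r → R, (∀ φ : M →ₗ[R] R, ∑ i, a i * φ (s i) ∈ x) → ∀ i, a i ∈ x := by
  rw [Fintype.linearIndependent_iff]
  constructor
  · intro h a ha i
    have h1 := h (fun i => Ideal.Quotient.mk x (a i))
    rw [sum_smul_eq] at h1
    have h2 : (∑ i, a i • s i) ∈ Nsub R M x := (sum_mem_Nsub_iff R M x r s a).2 ha
    have h3 := h1 (by
      rw [Submodule.mkQ_apply, Submodule.Quotient.mk_eq_zero]
      exact (mkQ_mem_span_iff R M x _).2 h2) i
    exact Ideal.Quotient.eq_zero_iff_mem.1 h3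
  · intro h c hc i
    choose a ha using fun i => Ideal.Quotient.mk_surjective (c i)
    have hc' : (∑ i, (Ideal.Quotient.mk x (a i)) •
      (Submodule.span (R ⧸ x)
        ((x • ⊤ : Submodule R M).mkQ '' {m : M | ∀ φ : M →ₗ[R] R, φ m ∈ x})).mkQ
          ((x • ⊤ : Submodule R M).mkQ (s i))) = 0 := by
      rw [← hc]
      refine Finset.sum_congr rfl fun i _ => ?_
      rw [ha i]
    rw [sum_smul_eq, Submodule.mkQ_apply, Submodule.Quotient.mk_eq_zero, mkQ_mem_span_iff,
      sum_mem_Nsub_iff] at hc'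
    rw [← ha i]
    exact Ideal.Quotient.eq_zero_iff_mem.2 (h a hc' i)

end Groth.Agent.Helper7.SplitLoc
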