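import Mathlib
import Groth.Agent.Helper7.SplitLoc1

namespace Groth.Agent.Helper7.SplitLoc

universe u

set_option linter.style.haveILetI false

variable (R : Type u) [CommRing R] (M : Type u) [AddCommGroup M] [Module R M] (x : Ideal R)

theorem dir1 [Module.FinitePresentation R M] [x.IsPrime] (r : ℕ) (s : Fin r → M) (f : R)
    (hf : f ∉ x)
    (g : LocalizedModule (Submonoid.powers f) M →ₗ[Localization.Away f]
      (Fin r → Localization.Away f))
    (hg : g ∘ₗ Fintype.linearCombination (Localization.Away f)
        (fun i => LocalizedModule.mkLinearMap (Submonoid.powers f) M (s i)) = LinearMap.id)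
    (a : Fin r → R) (ha : ∀ φ : M →ₗ[R] R, ∑ i, a i * φ (s i) ∈ x) (l : Fin r) : a l ∈ x := by
  classical
  have hgs : ∀ j, g (LocalizedModule.mkLinearMap (Submonoid.powers f) M (s j)) = Pi.single j 1 := by
    intro j
    have := LinearMap.congr_fun hg (Pi.single j 1)
    simpa [Fintype.linearCombination_apply_single] using this
  let gl : M →ₗ[R] Localization.Away f :=
    (((LinearMap.proj l).comp g).restrictScalars R) ∘ₗ
      (LocalizedModule.mkLinearMap (Submonoid.powers f) M)
  obtain ⟨φ, t, hφ⟩ := Module.FinitePresentation.exists_lift_of_isLocalizedModule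
    (Submonoid.powers f) (Algebra.linearMap R (Localization.Away f)) gl
  have h1 := ha φ
  have hφ' : ∀ m, algebraMap R (Localization.Away f) (φ m) = t • gl m := by
    intro m
    exact LinearMap.congr_fun hφ m
  have h2 : algebraMap R (Localization.Away f) (∑ i, a i * φ (s i)) =
      algebraMap R (Localization.Away f) ((t : R) * a l) := by
    rw [map_sum]
    have : ∀ i, algebraMap R (Localization.Away f) (a i * φ (s i)) =
        if i = l then algebraMap R (Localization.Away f) ((t : R) * a l) else 0 := by
      intro i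
      rw [map_mul, hφ']
      have hgl : gl (s i) = (Pi.single i (1 : Localization.Away f) : Fin r → Localization.Away f) l := by
        change (g (LocalizedModule.mkLinearMap (Submonoid.powers f) M (s i))) l = _
        rw [hgs]
      rw [hgl]
      by_cases hil : i = l
      · subst hil
        rw [if_pos rfl, Pi.single_eq_same, map_mul, Submonoid.smul_def, Algebra.smul_def]
        ring
      · rw [if_neg hil, Pi.single_eq_of_ne (Ne.symm hil), smul_zero, mul_zero]
    rw [Finset.sum_congr rfl (fun i _ => this i), Finset.sum_ite_eq' Finset.univ l]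
    simp
  obtain ⟨c, hc⟩ := (IsLocalization.eq_iff_exists (Submonoid.powers f) _).1 h2
  have h3 : (c : R) * ((t : R) * a l) ∈ x := by
    rw [← hc]
    exact x.mul_mem_left _ h1
  have hpow : ∀ y : Submonoid.powers f, (y : R) ∉ x := by
    rintro ⟨_, n, rfl⟩ h
    exact hf (Ideal.IsPrime.mem_of_pow_mem inferInstance n h)
  rcases Ideal.IsPrime.mem_or_mem inferInstance h3 with h | h
  · exact absurd h (hpow c)
  · rcases Ideal.IsPrime.mem_or_mem inferInstance h with h | h
    · exact absurd h (hpow t)
    · exact h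

theorem exists_forms [x.IsMaximal] (r : ℕ) (s : Fin r → M)
    (h2 : ∀ a : Fin r → R, (∀ φ : M →ₗ[R] R, ∑ i, a i * φ (s i) ∈ x) → ∀ i, a i ∈ x)
    (i : Fin r) :
    ∃ φ : M →ₗ[R] R, ∀ j, Ideal.Quotient.mk x (φ (s j)) = if j = i then 1 else 0 := by
  classical
  letI := Ideal.Quotient.field x
  let W : Submodule (R ⧸ x) (Fin r → R ⧸ x) :=
    { carrier := {w | ∃ φ : M →ₗ[R] R, ∀ j, w j = Ideal.Quotient.mk x (φ (s j))}
      add_mem' := by
        rintro w w' ⟨φ, hφ⟩ ⟨ψ, hψ⟩
        exact ⟨φ + ψ, fun j => by simp [hφ j, hψ j]⟩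
      zero_mem' := ⟨0, fun j => by simp⟩
      smul_mem' := by
        rintro c w ⟨φ, hφ⟩
        obtain ⟨c, rfl⟩ := Ideal.Quotient.mk_surjective c
        exact ⟨c • φ, fun j => by simp [hφ j]⟩ }
  have hW : W = ⊤ := by
    by_contra hne
    obtain ⟨F, hF0, hF⟩ := Submodule.exists_le_ker_of_lt_top W (lt_top_iff_ne_top.2 hne)
    apply hF0
    choose a ha using fun j => Ideal.Quotient.mk_surjective (F (Pi.single j 1))
    have hax : ∀ j, a j ∈ x := by
      apply h2
      intro φ
      have hw : (fun j => Ideal.Quotient.mk x (φ (s j))) ∈ W := ⟨φ, fun j => rfl⟩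
      have h0 : F (fun j => Ideal.Quotient.mk x (φ (s j))) = 0 := hF hw
      have hdec : (fun j => Ideal.Quotient.mk x (φ (s j))) =
          ∑ j, (Ideal.Quotient.mk x (φ (s j))) • (Pi.single j (1 : R ⧸ x) : Fin r → R ⧸ x) := by
        funext l
        simp [Finset.sum_apply, Pi.single_apply]
      rw [hdec, map_sum] at h0
      rw [← Ideal.Quotient.eq_zero_iff_mem, map_sum, ← h0]
      refine Finset.sum_congr rfl fun j _ => ?_
      rw [map_smul, smul_eq_mul, map_mul, ha j, mul_comm]
    apply LinearMap.pi_ext
    intro j c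
    have : (Pi.single j c : Fin r → R ⧸ x) = c • Pi.single j 1 := by
      rw [← Pi.single_smul, smul_eq_mul, mul_one]
    rw [this, map_smul, ← ha j, Ideal.Quotient.eq_zero_iff_mem.2 (hax j)]
    simp
  have hmem : (Pi.single i (1 : R ⧸ x) : Fin r → R ⧸ x) ∈ W := by rw [hW]; trivial
  obtain ⟨φ, hφ⟩ := hmem
  refine ⟨φ, fun j => ?_⟩
  rw [← hφ j, Pi.single_apply]

theorem dir2 [x.IsMaximal] (r : ℕ) (s : Fin r → M)
    (h2 : ∀ a : Fin r → R, (∀ φ : M →ₗ[R] R, ∑ i, a i * φ (s i) ∈ x) → ∀ i, a i ∈ x) :
    ∃ f : R, f ∉ x ∧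
      ∃ g : LocalizedModule (Submonoid.powers f) M →ₗ[Localization.Away f]
          (Fin r → Localization.Away f),
        g ∘ₗ Fintype.linearCombination (Localization.Away f)
            (fun i => LocalizedModule.mkLinearMap (Submonoid.powers f) M (s i)) = LinearMap.id := by
  classical
  choose φ hφ using exists_forms R M x r s h2
  let A : Matrix (Fin r) (Fin r) R := Matrix.of fun i j => φ i (s j)
  have hA : (Ideal.Quotient.mk x).mapMatrix A = 1 := by
    ext i j
    simp only [RingHom.mapMatrix_apply, Matrix.map_apply, Matrix.of_apply, A, hφ i j,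
      Matrix.one_apply]
    by_cases hij : i = j
    · rw [if_pos hij, if_pos hij.symm]
    · rw [if_neg hij, if_neg (Ne.symm hij)]
  have hdet : Ideal.Quotient.mk x A.det = 1 := by
    rw [RingHom.map_det, hA, Matrix.det_one]
  have hf : A.det ∉ x := by
    intro h
    rw [Ideal.Quotient.eq_zero_iff_mem.2 h] at hdet
    have hne : x ≠ ⊤ := Ideal.IsPrime.ne_top inferInstance
    have : Nontrivial (R ⧸ x) := Ideal.Quotient.nontrivial_iff.2 hne
    exact zero_ne_one hdet
  refine ⟨A.det, hf, ?_⟩
  let Ψ : Fin r → (M →ₗ[R] R) := fun i => ∑ k, A.adjugate i k • φ k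
  have hΨ : ∀ i j, Ψ i (s j) = if i = j then A.det else 0 := by
    intro i j
    have h1 : Ψ i (s j) = (A.adjugate * A) i j := by
      simp [Ψ, Matrix.mul_apply, LinearMap.sum_apply, A]
    rw [h1, Matrix.adjugate_mul, Matrix.smul_apply, Matrix.one_apply, smul_eq_mul]
    split_ifs <;> simp
  let S := Submonoid.powers A.det
  let gi : Fin r → (LocalizedModule S M →ₗ[Localization.Away A.det] Localization.Away A.det) :=
    fun i => (LocalizedModule.lift S
      ((Algebra.linearMap R (Localization.Away A.det)) ∘ₗ Ψ i)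
      (fun y => IsLocalizedModule.map_units (Algebra.linearMap R (Localization.Away A.det)) y)
      ).extendScalarsOfIsLocalization S (Localization.Away A.det)
  have hgi : ∀ i m, gi i (LocalizedModule.mkLinearMap S M m) =
      algebraMap R (Localization.Away A.det) (Ψ i m) := by
    intro i m
    simp only [gi, LinearMap.extendScalarsOfIsLocalization_apply', LocalizedModule.mkLinearMap_apply,
      LocalizedModule.lift_mk_one]
    rfl
  refine ⟨(IsLocalization.Away.invSelf A.det : Localization.Away A.det) • LinearMap.pi gi, ?_⟩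
  apply LinearMap.pi_ext
  intro j c
  have hsingle : (Pi.single j c : Fin r → Localization.Away A.det) = c • Pi.single j 1 := by
    rw [← Pi.single_smul, smul_eq_mul, mul_one]
  rw [hsingle, map_smul, LinearMap.comp_apply, Fintype.linearCombination_apply_single, one_smul,
    LinearMap.id_apply]
  congr 1
  funext i
  rw [LinearMap.smul_apply, Pi.smul_apply, LinearMap.pi_apply, hgi, hΨ, Pi.single_apply, smul_eq_mul]
  by_cases hij : i = j
  · rw [if_pos hij, if_pos hij, mul_comm]
    exact IsLocalization.Away.mul_invSelf A.det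
  · rw [if_neg hij, if_neg hij, map_zero, mul_zero]

end Groth.Agent.Helper7.SplitLoc
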