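import Mathlib
import Groth.Prelude.Def_W4bk4grossh1223Act

set_option autoImplicit false
set_option linter.unusedSectionVars false
universe u

namespace Groth.Agent.Helper7.SqZeroInv

open CategoryTheory MonObj AlgebraicGeometry
open scoped TensorProduct

variable {k : Type u} [Field k]
variable {G : Over (Spec (CommRingCat.of k))} [GrpObj G]
variable {A : Type u} [CommRing A] [Algebra k A]
variable {M : Type u} [AddCommGroup M] [Module A M] [Module k M] [IsScalarTower k A M]

/-- right action of `A` on `M` (same as the left one) -/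
@[reducible] def opModule (A : Type u) [CommRing A] (M : Type u) [AddCommGroup M] [Module A M] :
    Module Aᵐᵒᵖ M :=
  Module.compHom M ((RingHom.id A).fromOpposite (fun _ _ => mul_comm _ _))

attribute [local instance] opModule

instance isCentral : IsCentralScalar A M := ⟨fun _ _ => rfl⟩

/-- the splitting `B ⊗ (A ⊕ M) ≃ (B ⊗ A) × (B ⊗ M)` -/
noncomputable def split (B : Type u) [CommRing B] [Algebra k B] :
    B ⊗[k] (TrivSqZeroExt A M) ≃ₗ[B] (B ⊗[k] A) × (B ⊗[k] M) :=
  TensorProduct.prodRight k B B A M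

lemma split_tmul (B : Type u) [CommRing B] [Algebra k B] (b : B) (x : TrivSqZeroExt A M) :
    split (k := k) (A := A) (M := M) B (b ⊗ₜ[k] x) = (b ⊗ₜ[k] x.fst, b ⊗ₜ[k] x.snd) :=
  TensorProduct.prodRight_tmul _ _ _ _ _ _ _

lemma split_symm_tmul (B : Type u) [CommRing B] [Algebra k B] (b : B) (a : A) (m : M) :
    (split (k := k) (A := A) (M := M) B).symm (b ⊗ₜ[k] a, b ⊗ₜ[k] m) =
      b ⊗ₜ[k] (TrivSqZeroExt.inl a + TrivSqZeroExt.inr m) := by
  rw [LinearEquiv.symm_apply_eq, split_tmul]
  simp

/-- the product in `B ⊗ (A ⊕ M)` in terms of components -/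
lemma split_mul (B : Type u) [CommRing B] [Algebra k B] (x y : B ⊗[k] (TrivSqZeroExt A M)) :
    split (k := k) (A := A) (M := M) B (x * y) =
      ((split B x).1 * (split B y).1,
        VecGrp.GMod.smulW k A M B (split B x).1 (split B y).2 +
        VecGrp.GMod.smulW k A M B (split B y).1 (split B x).2) := by
  induction x using TensorProduct.induction_on with
  | zero => simp; rfl
  | add x₁ x₂ h₁ h₂ =>
    rw [add_mul, map_add, h₁, h₂]
    simp only [map_add, Prod.fst_add, Prod.snd_add, add_mul, LinearMap.add_apply, Prod.mk_add_mk]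
    congr 1
    abel
  | tmul b x =>
    induction y using TensorProduct.induction_on with
    | zero => simp; rfl
    | add y₁ y₂ h₁ h₂ =>
      rw [mul_add, map_add, h₁, h₂]
      simp only [map_add, Prod.fst_add, Prod.snd_add, mul_add, LinearMap.add_apply, Prod.mk_add_mk]
      congr 1
      abel
    | tmul c y =>
      rw [Algebra.TensorProduct.tmul_mul_tmul, split_tmul, split_tmul, split_tmul]
      simp only [VecGrp.GMod.smulW, TensorProduct.map₂_apply_tmul, Algebra.TensorProduct.tmul_mul_tmul, TrivSqZeroExt.fst_mul, TrivSqZeroExt.snd_mul,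
        TensorProduct.tmul_add]
      congr 2
      simp [mul_comm b c]



lemma split_one (B : Type u) [CommRing B] [Algebra k B] :
    split (k := k) (A := A) (M := M) B 1 = (1, 0) := by
  rw [Algebra.TensorProduct.one_def, split_tmul]
  simp [Algebra.TensorProduct.one_def]

lemma split_Wmap {B B' : Type u} [CommRing B] [Algebra k B] [CommRing B'] [Algebra k B']
    (φ : B →ₐ[k] B') (x : B ⊗[k] (TrivSqZeroExt A M)) :
    split (k := k) (A := A) (M := M) B' (VecGrp.Wmap φ x) =
      (VecGrp.Wmap φ (split B x).1, VecGrp.Wmap φ (split B x).2) := by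
  induction x using TensorProduct.induction_on with
  | zero => simp; rfl
  | add x y hx hy => simp only [map_add, hx, hy, Prod.fst_add, Prod.snd_add, Prod.mk_add_mk]
  | tmul b x => simp [split_tmul]

variable (ρA : VecGrp.GMod G A) (ρM : VecGrp.GMod G M)

/-- the action on `A ⊕ M` -/
noncomputable def rhoE : VecGrp.GMod G (TrivSqZeroExt A M) where
  ρ B _ _ :=
    { toFun := fun g => (split B).trans (((ρA.ρ B g).prodCongr (ρM.ρ B g)).trans (split B).symm)
      map_one' := by
        ext x
        simp
      map_mul' := fun g h => by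
        ext x
        simp }
  naturality φ g x := by
    apply (split _).injective
    rw [split_Wmap]
    simp only [MonoidHom.coe_mk, OneHom.coe_mk, LinearEquiv.trans_apply,
      LinearEquiv.apply_symm_apply, LinearEquiv.prodCongr_apply]
    rw [split_Wmap, ρA.naturality, ρM.naturality]

lemma split_rhoE (B : Type u) [CommRing B] [Algebra k B] (g : VecGrp.pt k B ⟶ G)
    (x : B ⊗[k] (TrivSqZeroExt A M)) :
    split B ((rhoE ρA ρM).ρ B g x) = (ρA.ρ B g (split B x).1, ρM.ρ B g (split B x).2) := by
  simp [rhoE]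

lemma rhoE_isMult (hρ : ρA.IsMult) (hc : VecGrp.GMod.IsCompat ρA ρM) : (rhoE ρA ρM).IsMult := by
  intro B _ _ g
  constructor
  · intro x y
    apply (split _).injective
    rw [split_mul, split_rhoE, split_rhoE, split_rhoE, split_mul]
    simp only [(hρ B g).1, map_add, hc B g]
  · apply (split _).injective
    rw [split_rhoE, split_one]
    simp [(hρ B g).2]

lemma mem_fixedUnder_rhoE (x : TrivSqZeroExt A M) :
    x ∈ (rhoE ρA ρM).fixedUnder (𝟙 G) ↔
      x.fst ∈ ρA.fixedUnder (𝟙 G) ∧ x.snd ∈ ρM.fixedUnder (𝟙 G) := by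
  constructor
  · intro h
    constructor
    · intro B _ _ g
      have := congrArg (split B) (h B g)
      rw [split_rhoE, split_tmul] at this
      exact congrArg Prod.fst this
    · intro B _ _ g
      have := congrArg (split B) (h B g)
      rw [split_rhoE, split_tmul] at this
      exact congrArg Prod.snd this
  · rintro ⟨h1, h2⟩ B _ _ g
    apply (split _).injective
    rw [split_rhoE, split_tmul]
    exact Prod.ext (h1 B g) (h2 B g)



omit [IsScalarTower k A M] in
lemma finite_tsze [Module.Finite A M] : Module.Finite A (TrivSqZeroExt A M) :=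
  inferInstanceAs (Module.Finite A (A × M))

lemma finiteType_tsze [Algebra.FiniteType k A] [Module.Finite A M] :
    Algebra.FiniteType k (TrivSqZeroExt A M) := by
  haveI := finite_tsze (A := A) (M := M)
  haveI : Algebra.FiniteType A (TrivSqZeroExt A M) := inferInstance
  exact Algebra.FiniteType.trans (R := k) (S := A) (A := TrivSqZeroExt A M) inferInstance inferInstance

theorem main (hG : VecGrp.IsReductiveGrp k G) (thmA : VecGrp.ReductiveInvariantsFG k)
    [Algebra.FiniteType k A] [Module.Finite A M]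
    (hρ : ρA.IsMult) (hc : VecGrp.GMod.IsCompat ρA ρM) :
    ∃ s : Finset M, (↑s : Set M) ⊆ ρM.fixedUnder (𝟙 G) ∧
      ρM.fixedUnder (𝟙 G) ≤
        (Submodule.span ↥(ρA.fixedSubalgebra hρ (𝟙 G)) (↑s : Set M)).restrictScalars k := by
  classical
  obtain ⟨s, hs1, hs2⟩ := thmA G hG (TrivSqZeroExt A M) (rhoE ρA ρM) (rhoE_isMult ρA ρM hρ hc)
    finiteType_tsze
  refine ⟨s.image TrivSqZeroExt.snd, ?_, ?_⟩
  · intro m hm
    simp only [Finset.coe_image, Set.mem_image, Finset.mem_coe] at hm
    obtain ⟨x, hx, rfl⟩ := hm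
    exact ((mem_fixedUnder_rhoE ρA ρM x).1 (hs1 hx)).2
  · intro m hm
    set S₀ := ρA.fixedSubalgebra hρ (𝟙 G) with hS₀
    set N : Submodule ↥S₀ M := Submodule.span ↥S₀ (↑(s.image TrivSqZeroExt.snd) : Set M) with hN
    -- the subalgebra of pairs `(a, m)` with `a` invariant and `m ∈ N`
    let T : Subalgebra k (TrivSqZeroExt A M) :=
      { carrier := {x | x.fst ∈ S₀ ∧ x.snd ∈ N}
        mul_mem' := by
          rintro x y ⟨hx1, hx2⟩ ⟨hy1, hy2⟩
          refine ⟨by simpa using S₀.mul_mem hx1 hy1, ?_⟩
          rw [TrivSqZeroExt.snd_mul]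
          refine N.add_mem ?_ ?_
          · exact N.smul_mem ⟨x.fst, hx1⟩ hy2
          · exact N.smul_mem ⟨y.fst, hy1⟩ hx2
        one_mem' := ⟨by simpa using S₀.one_mem, by simp⟩
        add_mem' := by
          rintro x y ⟨hx1, hx2⟩ ⟨hy1, hy2⟩
          exact ⟨by simpa using S₀.add_mem hx1 hy1, by simpa using N.add_mem hx2 hy2⟩
        zero_mem' := ⟨by simpa using S₀.zero_mem, by simp⟩
        algebraMap_mem' := fun c => by
          refine ⟨?_, ?_⟩
          · rw [TrivSqZeroExt.algebraMap_eq_inl']
            simpa using S₀.algebraMap_mem c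
          · rw [TrivSqZeroExt.algebraMap_eq_inl']
            simp }
    have hsT : (↑s : Set (TrivSqZeroExt A M)) ⊆ T := by
      intro x hx
      refine ⟨((mem_fixedUnder_rhoE ρA ρM x).1 (hs1 hx)).1, ?_⟩
      apply Submodule.subset_span
      simp only [Finset.coe_image, Set.mem_image, Finset.mem_coe]
      exact ⟨x, hx, rfl⟩
    have hadj : Algebra.adjoin k (↑s : Set (TrivSqZeroExt A M)) ≤ T := Algebra.adjoin_le hsT
    have hinr : (TrivSqZeroExt.inr m : TrivSqZeroExt A M) ∈ (rhoE ρA ρM).fixedUnder (𝟙 G) := by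
      rw [mem_fixedUnder_rhoE]
      refine ⟨?_, by simpa using hm⟩
      simp
    have := hadj (hs2 hinr)
    simpa using this.2

end Groth.Agent.Helper7.SqZeroInv
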