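import Mathlib

/-!
# SsNdA: the ring `Q = V[x,y]/(xy - ϖ)` of the standard semistable node: generators, the universal
property, and the normal form `q = P₀(x) + y·P₁(y)`.
-/

set_option autoImplicit false
universe u
open Polynomial

namespace Groth.Agent.Helper7.SsNd

variable (V : Type u) [CommRing V] (ϖ : V)

/-- the relation `xy - ϖ` -/
noncomputable abbrev rel : MvPolynomial (Fin 2) V :=
  MvPolynomial.X 0 * MvPolynomial.X 1 - MvPolynomial.C ϖ

/-- the ring `V[x,y]/(xy - ϖ)` -/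
abbrev Q : Type u := MvPolynomial (Fin 2) V ⧸ Ideal.span {rel V ϖ}

/-- the class of `x` -/
noncomputable def qx : Q V ϖ := Ideal.Quotient.mk (Ideal.span {rel V ϖ}) (MvPolynomial.X 0)

/-- the class of `y` -/
noncomputable def qy : Q V ϖ := Ideal.Quotient.mk (Ideal.span {rel V ϖ}) (MvPolynomial.X 1)

theorem qx_def : qx V ϖ = Ideal.Quotient.mk (Ideal.span {rel V ϖ}) (MvPolynomial.X 0) := rfl
theorem qy_def : qy V ϖ = Ideal.Quotient.mk (Ideal.span {rel V ϖ}) (MvPolynomial.X 1) := rfl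

theorem qx_mul_qy : qx V ϖ * qy V ϖ = algebraMap V (Q V ϖ) ϖ := by
  rw [qx_def, qy_def]
  have h : Ideal.Quotient.mk (Ideal.span {rel V ϖ}) (rel V ϖ) = 0 :=
    Ideal.Quotient.eq_zero_iff_mem.2 (Ideal.subset_span rfl)
  rw [rel, map_sub, map_mul, sub_eq_zero] at h
  rw [h]; rfl

section lift

variable {V ϖ} {S : Type*} [CommRing S] [Algebra V S]

/-- the universal property of `Q` -/
noncomputable def lift (s t : S) (h : s * t = algebraMap V S ϖ) : Q V ϖ →ₐ[V] S :=
  Ideal.Quotient.liftₐ (Ideal.span {rel V ϖ}) (MvPolynomial.aeval ![s, t]) (by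
    intro a ha
    have hle : Ideal.span {rel V ϖ} ≤ RingHom.ker (MvPolynomial.aeval (R := V) ![s, t]) := by
      rw [Ideal.span_le]
      rintro _ rfl
      simp [RingHom.mem_ker, h]
    exact hle ha)

@[simp] theorem lift_qx (s t : S) (h : s * t = algebraMap V S ϖ) : lift s t h (qx V ϖ) = s := by
  simp [lift, qx_def]

@[simp] theorem lift_qy (s t : S) (h : s * t = algebraMap V S ϖ) : lift s t h (qy V ϖ) = t := by
  simp [lift, qy_def]

end lift

/-- the normal form: every element of `Q` is `P₀(x) + y·P₁(y)` -/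
theorem normal_form (q : Q V ϖ) :
    ∃ P₀ P₁ : V[X], q = aeval (qx V ϖ) P₀ + qy V ϖ * aeval (qy V ϖ) P₁ := by
  obtain ⟨p, rfl⟩ := Ideal.Quotient.mk_surjective q
  induction p using MvPolynomial.induction_on with
  | C a =>
    refine ⟨C a, 0, ?_⟩
    simp only [aeval_C, map_zero, mul_zero, add_zero]
    rfl
  | add p q hp hq =>
    obtain ⟨P₀, P₁, h1⟩ := hp
    obtain ⟨P₀', P₁', h2⟩ := hq
    refine ⟨P₀ + P₀', P₁ + P₁', ?_⟩
    rw [map_add, h1, h2, map_add, map_add]; ring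
  | mul_X p i hp =>
    obtain ⟨P₀, P₁, h1⟩ := hp
    have hxy := qx_mul_qy V ϖ
    fin_cases i
    · -- multiply by x
      refine ⟨X * P₀ + C (ϖ * P₁.coeff 0), C ϖ * P₁.divX, ?_⟩
      have e1 : aeval (qy V ϖ) P₁ = aeval (qy V ϖ) P₁.divX * qy V ϖ
          + algebraMap V _ (P₁.coeff 0) := by
        conv_lhs => rw [← divX_mul_X_add P₁]
        simp
      have : Ideal.Quotient.mk (Ideal.span {rel V ϖ}) (p * MvPolynomial.X ((0 : Fin 2)))
          = Ideal.Quotient.mk (Ideal.span {rel V ϖ}) p * qx V ϖ := by rw [map_mul, qx_def]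
      simp only [Fin.zero_eta, Fin.isValue] at *
      rw [this, h1]
      simp only [map_add, map_mul, aeval_X, aeval_C]
      rw [e1]
      have hxy' : qx V ϖ * qy V ϖ = algebraMap V _ ϖ := hxy
      calc (aeval (qx V ϖ) P₀ + qy V ϖ * (aeval (qy V ϖ) P₁.divX * qy V ϖ
              + algebraMap V _ (P₁.coeff 0))) * qx V ϖ
          = qx V ϖ * aeval (qx V ϖ) P₀ + (qx V ϖ * qy V ϖ) * algebraMap V _ (P₁.coeff 0)
            + qy V ϖ * ((qx V ϖ * qy V ϖ) * aeval (qy V ϖ) P₁.divX) := by ring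
        _ = _ := by rw [hxy']
    · -- multiply by y
      refine ⟨C ϖ * P₀.divX, C (P₀.coeff 0) + X * P₁, ?_⟩
      have e1 : aeval (qx V ϖ) P₀ = aeval (qx V ϖ) P₀.divX * qx V ϖ
          + algebraMap V _ (P₀.coeff 0) := by
        conv_lhs => rw [← divX_mul_X_add P₀]
        simp
      have : Ideal.Quotient.mk (Ideal.span {rel V ϖ}) (p * MvPolynomial.X ((1 : Fin 2)))
          = Ideal.Quotient.mk (Ideal.span {rel V ϖ}) p * qy V ϖ := by rw [map_mul, qy_def]
      simp only [Fin.mk_one, Fin.isValue] at *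
      rw [this, h1]
      simp only [map_add, map_mul, aeval_X, aeval_C]
      rw [e1]
      have hxy' : qx V ϖ * qy V ϖ = algebraMap V _ ϖ := hxy
      calc (aeval (qx V ϖ) P₀.divX * qx V ϖ + algebraMap V _ (P₀.coeff 0)
              + qy V ϖ * aeval (qy V ϖ) P₁) * qy V ϖ
          = (qx V ϖ * qy V ϖ) * aeval (qx V ϖ) P₀.divX
            + qy V ϖ * (algebraMap V _ (P₀.coeff 0) + qy V ϖ * aeval (qy V ϖ) P₁) := by ring
        _ = _ := by rw [hxy']

/-- the image of the normal form under an algebra map -/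
theorem lift_normal {S : Type*} [CommRing S] [Algebra V S] (φ : Q V ϖ →ₐ[V] S) (P₀ P₁ : V[X]) :
    φ (aeval (qx V ϖ) P₀ + qy V ϖ * aeval (qy V ϖ) P₁)
      = aeval (φ (qx V ϖ)) P₀ + φ (qy V ϖ) * aeval (φ (qy V ϖ)) P₁ := by
  rw [map_add, map_mul, aeval_algHom_apply, aeval_algHom_apply]

end Groth.Agent.Helper7.SsNd
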