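import Mathlib
import Groth.Agent.Helper7.SsNdA

/-!
# SsNdB: for a DVR `V` with uniformizer `ϖ`, in `Q = V[x,y]/(xy-ϖ)` the ideals `(x)`, `(y)`, `(x,y)` are
prime (kernels of the maps to `k[Y]`, `k[Y]`, `k`).
-/

set_option autoImplicit false
universe u
open Polynomial

namespace Groth.Agent.Helper7.SsNd

variable (V : Type u) [CommRing V] [IsDomain V] [IsDiscreteValuationRing V] (ϖ : V)

local notation "𝕜" => IsLocalRing.ResidueField V

section
variable {V ϖ} (hϖ : Irreducible ϖ)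
include hϖ

theorem residue_unif : algebraMap V 𝕜 ϖ = 0 := by
  rw [IsLocalRing.ResidueField.algebraMap_eq, IsLocalRing.residue_eq_zero_iff,
    IsLocalRing.mem_maximalIdeal]
  exact hϖ.not_isUnit

theorem exists_mul_of_residue_eq_zero {a : V} (ha : algebraMap V 𝕜 a = 0) : ∃ b, a = ϖ * b := by
  rw [IsLocalRing.ResidueField.algebraMap_eq, IsLocalRing.residue_eq_zero_iff,
    hϖ.maximalIdeal_eq, Ideal.mem_span_singleton'] at ha
  obtain ⟨b, hb⟩ := ha
  exact ⟨b, by rw [← hb, mul_comm]⟩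

theorem exists_C_mul_of_map_eq_zero {P : V[X]} (hP : P.map (algebraMap V 𝕜) = 0) :
    ∃ P' : V[X], P = C ϖ * P' := by
  have h1 : P ∈ Ideal.map C (Ideal.span {ϖ}) := by
    rw [Ideal.mem_map_C_iff]
    intro n
    have : algebraMap V 𝕜 (P.coeff n) = 0 := by
      rw [← coeff_map, hP, coeff_zero]
    obtain ⟨b, hb⟩ := exists_mul_of_residue_eq_zero hϖ this
    rw [hb]
    exact Ideal.mul_mem_right _ _ (Ideal.subset_span rfl)
  rw [Ideal.map_span, Set.image_singleton, Ideal.mem_span_singleton] at h1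
  obtain ⟨P', hP'⟩ := h1
  exact ⟨P', hP'⟩

/-- `Q → k[Y]`, `x ↦ 0`, `y ↦ Y` -/
noncomputable def phi1 : Q V ϖ →ₐ[V] 𝕜[X] :=
  lift (0 : 𝕜[X]) X (by rw [zero_mul, Polynomial.algebraMap_apply, residue_unif hϖ, map_zero])

/-- `Q → k[Y]`, `x ↦ Y`, `y ↦ 0` -/
noncomputable def phi2 : Q V ϖ →ₐ[V] 𝕜[X] :=
  lift X (0 : 𝕜[X]) (by rw [mul_zero, Polynomial.algebraMap_apply, residue_unif hϖ, map_zero])

/-- `Q → k`, `x, y ↦ 0` -/
noncomputable def phi0 : Q V ϖ →ₐ[V] 𝕜 :=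
  lift (0 : 𝕜) 0 (by rw [zero_mul, residue_unif hϖ])

theorem aeval_zero' {S : Type*} [CommRing S] [Algebra V S] (P : V[X]) :
    aeval (0 : S) P = algebraMap V S (P.coeff 0) := by
  rw [aeval_def, eval₂_at_zero]

omit hϖ in
theorem aeval_split {S : Type*} [CommRing S] [Algebra V S] (s : S) (P : V[X]) :
    aeval s P = s * aeval s P.divX + algebraMap V S (P.coeff 0) := by
  have h := congrArg (aeval s) (divX_mul_X_add P)
  rw [map_add, map_mul, aeval_X, aeval_C] at h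
  rw [← h]; ring

theorem ker_phi1 : RingHom.ker (phi1 hϖ).toRingHom = Ideal.span {qx V ϖ} := by
  apply le_antisymm
  · intro q hq
    obtain ⟨P₀, P₁, rfl⟩ := normal_form V ϖ q
    rw [RingHom.mem_ker] at hq
    have hq' : (phi1 hϖ) (aeval (qx V ϖ) P₀ + qy V ϖ * aeval (qy V ϖ) P₁) = 0 := hq
    rw [lift_normal] at hq'
    have e1 : (phi1 hϖ) (qx V ϖ) = 0 := lift_qx _ _ _
    have e2 : (phi1 hϖ) (qy V ϖ) = X := lift_qy _ _ _
    rw [e1, e2, aeval_zero' hϖ, aeval_X_left_eq_map, Polynomial.algebraMap_apply] at hq'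
    have c0 : algebraMap V 𝕜 (P₀.coeff 0) = 0 := by
      have := congrArg (fun p => coeff p 0) hq'
      simpa using this
    have c1 : P₁.map (algebraMap V 𝕜) = 0 := by
      ext n
      have := congrArg (fun p => coeff p (n + 1)) hq'
      simpa [coeff_C_succ, coeff_X_mul] using this
    obtain ⟨b, hb⟩ := exists_mul_of_residue_eq_zero hϖ c0
    obtain ⟨P', hP'⟩ := exists_C_mul_of_map_eq_zero hϖ c1
    rw [Ideal.mem_span_singleton']
    refine ⟨aeval (qx V ϖ) P₀.divX + qy V ϖ * algebraMap V _ b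
      + qy V ϖ * (qy V ϖ * aeval (qy V ϖ) P'), ?_⟩
    rw [aeval_split (qx V ϖ) P₀, hb, hP', map_mul, map_mul, aeval_C, ← qx_mul_qy]
    ring
  · rw [Ideal.span_le, Set.singleton_subset_iff]
    exact lift_qx _ _ _

theorem ker_phi2 : RingHom.ker (phi2 hϖ).toRingHom = Ideal.span {qy V ϖ} := by
  apply le_antisymm
  · intro q hq
    obtain ⟨P₀, P₁, rfl⟩ := normal_form V ϖ q
    rw [RingHom.mem_ker] at hq
    have hq' : (phi2 hϖ) (aeval (qx V ϖ) P₀ + qy V ϖ * aeval (qy V ϖ) P₁) = 0 := hq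
    rw [lift_normal] at hq'
    have e1 : (phi2 hϖ) (qx V ϖ) = X := lift_qx _ _ _
    have e2 : (phi2 hϖ) (qy V ϖ) = 0 := lift_qy _ _ _
    rw [e1, e2, zero_mul, add_zero, aeval_X_left_eq_map] at hq'
    obtain ⟨P', hP'⟩ := exists_C_mul_of_map_eq_zero hϖ hq'
    rw [Ideal.mem_span_singleton']
    refine ⟨qx V ϖ * aeval (qx V ϖ) P' + aeval (qy V ϖ) P₁, ?_⟩
    rw [hP', map_mul, aeval_C, ← qx_mul_qy]
    ring
  · rw [Ideal.span_le, Set.singleton_subset_iff]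
    exact lift_qy _ _ _

theorem ker_phi0 : RingHom.ker (phi0 hϖ).toRingHom = Ideal.span {qx V ϖ, qy V ϖ} := by
  apply le_antisymm
  · intro q hq
    obtain ⟨P₀, P₁, rfl⟩ := normal_form V ϖ q
    rw [RingHom.mem_ker] at hq
    have hq' : (phi0 hϖ) (aeval (qx V ϖ) P₀ + qy V ϖ * aeval (qy V ϖ) P₁) = 0 := hq
    rw [lift_normal] at hq'
    have e1 : (phi0 hϖ) (qx V ϖ) = 0 := lift_qx _ _ _
    have e2 : (phi0 hϖ) (qy V ϖ) = 0 := lift_qy _ _ _
    rw [e1, e2, zero_mul, add_zero, aeval_zero' hϖ] at hq'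
    obtain ⟨b, hb⟩ := exists_mul_of_residue_eq_zero hϖ hq'
    have hx : qx V ϖ ∈ Ideal.span {qx V ϖ, qy V ϖ} := Ideal.subset_span (by simp)
    have hy : qy V ϖ ∈ Ideal.span {qx V ϖ, qy V ϖ} := Ideal.subset_span (by simp)
    rw [aeval_split (qx V ϖ) P₀, hb, map_mul, ← qx_mul_qy]
    refine Ideal.add_mem _ (Ideal.add_mem _ (Ideal.mul_mem_right _ _ hx) ?_)
      (Ideal.mul_mem_right _ _ hy)
    exact Ideal.mul_mem_right _ _ (Ideal.mul_mem_right _ _ hx)
  · rw [Ideal.span_le]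
    rintro _ (rfl | rfl)
    · exact lift_qx _ _ _
    · exact lift_qy _ _ _

theorem isPrime_span_qx : (Ideal.span {qx V ϖ}).IsPrime := by
  rw [← ker_phi1 hϖ]; exact RingHom.ker_isPrime _

theorem isPrime_span_qy : (Ideal.span {qy V ϖ}).IsPrime := by
  rw [← ker_phi2 hϖ]; exact RingHom.ker_isPrime _

theorem isPrime_span_qx_qy : (Ideal.span {qx V ϖ, qy V ϖ}).IsPrime := by
  rw [← ker_phi0 hϖ]; exact RingHom.ker_isPrime _

theorem qy_notMem_span_qx : qy V ϖ ∉ Ideal.span {qx V ϖ} := by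
  rw [← ker_phi1 hϖ, RingHom.mem_ker]
  have e2 : (phi1 hϖ) (qy V ϖ) = X := lift_qy _ _ _
  intro h
  exact X_ne_zero (e2.symm.trans h)

theorem qx_notMem_span_qy : qx V ϖ ∉ Ideal.span {qy V ϖ} := by
  rw [← ker_phi2 hϖ, RingHom.mem_ker]
  have e2 : (phi2 hϖ) (qx V ϖ) = X := lift_qx _ _ _
  intro h
  exact X_ne_zero (e2.symm.trans h)

end

end Groth.Agent.Helper7.SsNd
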