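import Mathlib
import Groth.Agent.Helper7.SsNdB

/-!
# SsNdC: `Q = V[x,y]/(xy-ϖ)` embeds in the Laurent polynomial ring `V[T,T⁻¹]` (`x ↦ T`, `y ↦ ϖT⁻¹`) when
`ϖ` is a nonzerodivisor; hence `Q` is a domain when `V` is.
-/

set_option autoImplicit false
universe u
open Polynomial

namespace Groth.Agent.Helper7.SsNd

variable (V : Type u) [CommRing V] (ϖ : V)

theorem aeval_single_coeff (P : V[X]) (d : ℤ) (r : V) (m : ℤ) :
    (aeval (AddMonoidAlgebra.single d r : AddMonoidAlgebra V ℤ) P).coeff m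
      = ∑ i ∈ P.support, if (i : ℤ) * d = m then P.coeff i * r ^ i else 0 := by
  rw [aeval_def, eval₂_eq_sum, Polynomial.sum_def, AddMonoidAlgebra.coeff_sum,
    Finsupp.finsetSum_apply]
  refine Finset.sum_congr rfl fun i _ => ?_
  rw [AddMonoidAlgebra.single_pow, AddMonoidAlgebra.coe_algebraMap, Function.comp_apply,
    AddMonoidAlgebra.single_mul_single, zero_add, AddMonoidAlgebra.coeff_single,
    Finsupp.single_apply]
  simp

theorem aeval_single_one_coeff_nat (P : V[X]) (n : ℕ) :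
    (aeval (AddMonoidAlgebra.single (1 : ℤ) (1 : V) : AddMonoidAlgebra V ℤ) P).coeff (n : ℤ)
      = P.coeff n := by
  rw [aeval_single_coeff]
  have : ∀ i : ℕ, (if (i : ℤ) * 1 = (n : ℤ) then P.coeff i * (1 : V) ^ i else 0)
      = if i = n then P.coeff i else 0 := by
    intro i; simp
  simp_rw [this]
  rw [Finset.sum_ite_eq' P.support n]
  split_ifs with h
  · rfl
  · rw [Polynomial.mem_support_iff, not_not] at h; exact h.symm

theorem aeval_single_one_coeff_neg (P : V[X]) (m : ℤ) (hm : m < 0) :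
    (aeval (AddMonoidAlgebra.single (1 : ℤ) (1 : V) : AddMonoidAlgebra V ℤ) P).coeff m = 0 := by
  rw [aeval_single_coeff]
  apply Finset.sum_eq_zero
  intro i _
  rw [if_neg]; omega

theorem aeval_single_neg_coeff_neg (P : V[X]) (n : ℕ) :
    (aeval (AddMonoidAlgebra.single (-1 : ℤ) ϖ : AddMonoidAlgebra V ℤ) P).coeff (-(n : ℤ))
      = P.coeff n * ϖ ^ n := by
  rw [aeval_single_coeff]
  have : ∀ i : ℕ, (if (i : ℤ) * (-1) = -(n : ℤ) then P.coeff i * ϖ ^ i else 0)
      = if i = n then P.coeff i * ϖ ^ i else 0 := by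
    intro i
    by_cases h : i = n
    · subst h; simp
    · rw [if_neg h, if_neg]; omega
  simp_rw [this]
  rw [Finset.sum_ite_eq' P.support n]
  split_ifs with h
  · rfl
  · rw [Polynomial.mem_support_iff, not_not] at h; rw [h, zero_mul]

theorem aeval_single_neg_coeff_pos (P : V[X]) (m : ℤ) (hm : 0 < m) :
    (aeval (AddMonoidAlgebra.single (-1 : ℤ) ϖ : AddMonoidAlgebra V ℤ) P).coeff m = 0 := by
  rw [aeval_single_coeff]
  apply Finset.sum_eq_zero
  intro i _
  rw [if_neg]; omega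

/-- the embedding `Q → V[T,T⁻¹]` -/
noncomputable def psi : Q V ϖ →ₐ[V] AddMonoidAlgebra V ℤ :=
  lift (AddMonoidAlgebra.single (1 : ℤ) (1 : V)) (AddMonoidAlgebra.single (-1 : ℤ) ϖ) (by
    rw [AddMonoidAlgebra.single_mul_single, AddMonoidAlgebra.coe_algebraMap]
    simp)

theorem psi_normal (P₀ P₁ : V[X]) :
    psi V ϖ (aeval (qx V ϖ) P₀ + qy V ϖ * aeval (qy V ϖ) P₁)
      = aeval (AddMonoidAlgebra.single (1 : ℤ) (1 : V) : AddMonoidAlgebra V ℤ) P₀
        + aeval (AddMonoidAlgebra.single (-1 : ℤ) ϖ : AddMonoidAlgebra V ℤ) (X * P₁) := by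
  rw [lift_normal]
  have e1 : (psi V ϖ) (qx V ϖ) = AddMonoidAlgebra.single (1 : ℤ) (1 : V) := lift_qx _ _ _
  have e2 : (psi V ϖ) (qy V ϖ) = AddMonoidAlgebra.single (-1 : ℤ) ϖ := lift_qy _ _ _
  rw [e1, e2, map_mul, aeval_X]

theorem psi_injective (hreg : ∀ a : V, ϖ * a = 0 → a = 0) : Function.Injective (psi V ϖ) := by
  rw [injective_iff_map_eq_zero]
  intro q hq
  obtain ⟨P₀, P₁, rfl⟩ := normal_form V ϖ q
  rw [psi_normal] at hq
  have h0 : P₀ = 0 := by
    ext n
    have h := congrArg (fun z => AddMonoidAlgebra.coeff z (n : ℤ)) hq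
    simp only [AddMonoidAlgebra.coeff_add, Finsupp.add_apply] at h
    rw [aeval_single_one_coeff_nat] at h
    by_cases hn : n = 0
    · subst hn
      have h2 := aeval_single_neg_coeff_neg V ϖ (X * P₁) 0
      simp only [Nat.cast_zero, neg_zero, coeff_X_mul_zero, pow_zero, mul_one] at h2
      simp only [Nat.cast_zero] at h
      rw [h2] at h
      simpa using h
    · rw [aeval_single_neg_coeff_pos V ϖ _ _ (by omega)] at h
      simpa using h
  have hpow : ∀ (n : ℕ) (a : V), a * ϖ ^ n = 0 → a = 0 := by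
    intro n
    induction n with
    | zero => intro a ha; simpa using ha
    | succ m ih =>
      intro a ha
      apply ih
      apply hreg
      rw [← ha]; ring
  have h1 : P₁ = 0 := by
    ext n
    have h := congrArg (fun z => AddMonoidAlgebra.coeff z (-((n + 1 : ℕ) : ℤ))) hq
    simp only [AddMonoidAlgebra.coeff_add, Finsupp.add_apply] at h
    rw [aeval_single_neg_coeff_neg, aeval_single_one_coeff_neg V _ _ (by omega), zero_add,
      coeff_X_mul] at h
    have := hpow _ _ (by simpa using h)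
    simpa using this
  rw [h0, h1]; simp

theorem isDomain_Q [IsDomain V] (h0 : ϖ ≠ 0) : IsDomain (Q V ϖ) :=
  (psi_injective V ϖ (fun a ha => (mul_eq_zero.1 ha).resolve_left h0)).isDomain (psi V ϖ).toRingHom

end Groth.Agent.Helper7.SsNd
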