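import Mathlib
import Groth.Agent.Helper7.SsNdC

/-!
# SsNdD: extension of a derivation to a localization; the Euler derivation `x∂x - y∂y` of
`Q = V[x,y]/(xy-ϖ)`.
-/

set_option autoImplicit false
universe u
open Polynomial

namespace Groth.Agent.Helper7.SsNd

section ext

variable {R S T : Type*} [CommRing R] [CommRing S] [CommRing T] [Algebra R S] [Algebra R T]
  [Algebra S T] [IsScalarTower R S T]

/-- a derivation of `S` extends to a localization `T` of `S` -/
theorem exists_derivation_extend (M : Submonoid S) [IsLocalization M T] (d : Derivation R S S) :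
    ∃ d' : Derivation R T T, ∀ s, d' (algebraMap S T s) = algebraMap S T (d s) := by
  let Φ' : Ω[S⁄R] →ₗ[S] T := (Algebra.linearMap S T) ∘ₗ d.liftKaehlerDifferential
  have hunit : ∀ x : M, IsUnit (algebraMap S (Module.End S T) x) :=
    IsLocalizedModule.map_units (Algebra.linearMap S T)
  let Ψ₀ : Ω[T⁄R] →ₗ[S] T := IsLocalizedModule.lift M (KaehlerDifferential.map R R S T) Φ' hunit
  let Ψ : Ω[T⁄R] →ₗ[T] T := LinearMap.extendScalarsOfIsLocalization M T Ψ₀
  refine ⟨Ψ.compDer (KaehlerDifferential.D R T), fun s => ?_⟩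
  have h1 : Ψ (KaehlerDifferential.D R T (algebraMap S T s))
      = Ψ₀ (KaehlerDifferential.map R R S T (KaehlerDifferential.D R S s)) := by
    rw [KaehlerDifferential.map_D]; rfl
  change Ψ (KaehlerDifferential.D R T (algebraMap S T s)) = _
  rw [h1, IsLocalizedModule.lift_apply]
  simp [Φ']

omit [IsScalarTower R S T] in
/-- the values of an extended derivation lie in any ideal containing the values on `S` -/
theorem derivation_mem_of_forall_mem (M : Submonoid S) [IsLocalization M T]
    (d' : Derivation R T T) (J : Ideal T)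
    (h : ∀ s : S, d' (algebraMap S T s) ∈ J) (t : T) : d' t ∈ J := by
  obtain ⟨⟨s, m⟩, hsm⟩ := IsLocalization.surj M t
  simp only at hsm
  have hu : IsUnit (algebraMap S T m) := IsLocalization.map_units T m
  have h1 := congrArg d' hsm
  rw [Derivation.leibniz, smul_eq_mul, smul_eq_mul] at h1
  have h2 : algebraMap S T m * d' t ∈ J := by
    have : algebraMap S T m * d' t = d' (algebraMap S T s) - t * d' (algebraMap S T m) := by
      rw [← h1]; ring
    rw [this]
    exact J.sub_mem (h _) (J.mul_mem_left _ (h _))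
  obtain ⟨u, hu'⟩ := hu
  have : d' t = (↑u⁻¹ : T) * (algebraMap S T m * d' t) := by
    rw [← hu', ← mul_assoc, Units.inv_mul, one_mul]
  rw [this]
  exact J.mul_mem_left _ h2

end ext

variable (V : Type u) [CommRing V] (ϖ : V)

/-- the Euler derivation on the polynomial ring -/
noncomputable def d0 : Derivation V (MvPolynomial (Fin 2) V) (MvPolynomial (Fin 2) V) :=
  MvPolynomial.mkDerivation V ![MvPolynomial.X 0, -MvPolynomial.X 1]

theorem d0_X0 : d0 V (MvPolynomial.X 0) = MvPolynomial.X 0 := by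
  simp [d0, MvPolynomial.mkDerivation_X]

theorem d0_X1 : d0 V (MvPolynomial.X 1) = -MvPolynomial.X 1 := by
  simp [d0, MvPolynomial.mkDerivation_X]

theorem d0_rel : d0 V (rel V ϖ) = 0 := by
  rw [rel, map_sub, Derivation.leibniz, d0_X0, d0_X1]
  have : d0 V (MvPolynomial.C ϖ) = 0 := by
    rw [← MvPolynomial.algebraMap_eq]; exact Derivation.map_algebraMap _ _
  rw [this, smul_eq_mul, smul_eq_mul]; ring

theorem d0_mem (p : MvPolynomial (Fin 2) V) :
    d0 V p ∈ Ideal.span {(MvPolynomial.X 0 : MvPolynomial (Fin 2) V), MvPolynomial.X 1} := by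
  have hx : (MvPolynomial.X 0 : MvPolynomial (Fin 2) V)
      ∈ Ideal.span {(MvPolynomial.X 0 : MvPolynomial (Fin 2) V), MvPolynomial.X 1} :=
    Ideal.subset_span (by simp)
  have hy : (MvPolynomial.X 1 : MvPolynomial (Fin 2) V)
      ∈ Ideal.span {(MvPolynomial.X 0 : MvPolynomial (Fin 2) V), MvPolynomial.X 1} :=
    Ideal.subset_span (by simp)
  induction p using MvPolynomial.induction_on with
  | C a =>
    have : d0 V (MvPolynomial.C a) = 0 := by
      rw [← MvPolynomial.algebraMap_eq]; exact Derivation.map_algebraMap _ _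
    rw [this]; exact Ideal.zero_mem _
  | add p q hp hq => rw [map_add]; exact Ideal.add_mem _ hp hq
  | mul_X p i hp =>
    rw [Derivation.leibniz, smul_eq_mul, smul_eq_mul]
    refine Ideal.add_mem _ (Ideal.mul_mem_left _ _ ?_) (Ideal.mul_mem_left _ _ hp)
    fin_cases i
    · simp only [Fin.zero_eta, Fin.isValue]; rw [d0_X0]; exact hx
    · simp only [Fin.mk_one, Fin.isValue]; rw [d0_X1]; exact neg_mem hy

theorem d0_ker (p : MvPolynomial (Fin 2) V)
    (hp : Ideal.Quotient.mkₐ V (Ideal.span {rel V ϖ}) p = 0) :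
    Ideal.Quotient.mkₐ V (Ideal.span {rel V ϖ}) (d0 V p) = 0 := by
  rw [Ideal.Quotient.mkₐ_eq_mk, Ideal.Quotient.eq_zero_iff_mem] at hp ⊢
  rw [Ideal.mem_span_singleton'] at hp
  obtain ⟨a, rfl⟩ := hp
  rw [Derivation.leibniz, d0_rel, smul_zero, zero_add, smul_eq_mul]
  exact Ideal.mul_mem_right _ _ (Ideal.subset_span rfl)

/-- the Euler derivation `x∂x - y∂y` of `Q` -/
noncomputable def DQ : Derivation V (Q V ϖ) (Q V ϖ) :=
  Derivation.liftOfSurjective (f := Ideal.Quotient.mkₐ V (Ideal.span {rel V ϖ}))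
    (Ideal.Quotient.mkₐ_surjective V _) (d := d0 V) (d0_ker V ϖ)

theorem DQ_mk (p : MvPolynomial (Fin 2) V) :
    DQ V ϖ (Ideal.Quotient.mk (Ideal.span {rel V ϖ}) p)
      = Ideal.Quotient.mk (Ideal.span {rel V ϖ}) (d0 V p) :=
  Derivation.liftOfSurjective_apply (f := Ideal.Quotient.mkₐ V (Ideal.span {rel V ϖ}))
    (Ideal.Quotient.mkₐ_surjective V _) (d0_ker V ϖ) p

theorem DQ_qx : DQ V ϖ (qx V ϖ) = qx V ϖ := by
  rw [qx_def, DQ_mk, d0_X0]

theorem DQ_qy : DQ V ϖ (qy V ϖ) = -qy V ϖ := by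
  rw [qy_def, DQ_mk, d0_X1, map_neg]

theorem DQ_mem (q : Q V ϖ) : DQ V ϖ q ∈ Ideal.span {qx V ϖ, qy V ϖ} := by
  obtain ⟨p, rfl⟩ := Ideal.Quotient.mk_surjective q
  rw [DQ_mk]
  have h := Ideal.mem_map_of_mem (Ideal.Quotient.mk (Ideal.span {rel V ϖ})) (d0_mem V p)
  rw [Ideal.map_span] at h
  convert h using 2
  simp [Set.image_pair, qx_def, qy_def]

/-- `Ω_{Q/V}` is spanned by `dx`, `dy` -/
theorem kaehler_mem_span (q : Q V ϖ) :
    KaehlerDifferential.D V (Q V ϖ) q ∈ Submodule.span (Q V ϖ)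
      {KaehlerDifferential.D V (Q V ϖ) (qx V ϖ), KaehlerDifferential.D V (Q V ϖ) (qy V ϖ)} := by
  obtain ⟨p, rfl⟩ := Ideal.Quotient.mk_surjective q
  induction p using MvPolynomial.induction_on with
  | C a =>
    have : (Ideal.Quotient.mk (Ideal.span {rel V ϖ})) (MvPolynomial.C a)
        = algebraMap V (Q V ϖ) a := rfl
    rw [this, Derivation.map_algebraMap]; exact Submodule.zero_mem _
  | add p q hp hq => rw [map_add, map_add]; exact Submodule.add_mem _ hp hq
  | mul_X p i hp =>
    rw [map_mul, Derivation.leibniz]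
    refine Submodule.add_mem _ (Submodule.smul_mem _ _ ?_) (Submodule.smul_mem _ _ hp)
    fin_cases i
    · exact Submodule.subset_span (by simp [qx_def])
    · exact Submodule.subset_span (by simp [qy_def])

end Groth.Agent.Helper7.SsNd
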