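import Mathlib
import Groth.Agent.Helper7.SsNdD

/-!
# SsNdE: abstract node data on a `V`-algebra `B` (two prime elements `x`, `y` with `xy = ϖ`, the Euler
derivation, two maps to `k[[Y]]`) and the local argument: if `B[1/ϖ]` is étale over `V[T]` via `T ↦ f` then
`x ∣ D f` or `y ∣ D f`; consequences for `Ω_{(B/x)/V}` and quasi-finiteness.
-/

set_option autoImplicit false
universe u
open Polynomial

namespace Groth.Agent.Helper7.SsNd

variable (V : Type u) [CommRing V] [IsLocalRing V] (ϖ : V) (B : Type u) [CommRing B] [Algebra V B]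

local notation "𝕜" => IsLocalRing.ResidueField V

/-- abstract node data -/
structure NodeData where
  x : B
  y : B
  xy : x * y = algebraMap V B ϖ
  px : Prime x
  py : Prime y
  nxy : ¬ x ∣ y
  nyx : ¬ y ∣ x
  ne_top : Ideal.span {x, y} ≠ ⊤
  D : Derivation V B B
  Dx : D x = x
  Dy : D y = -y
  D_mem : ∀ b, D b ∈ Ideal.span {x, y}
  kd_mem : ∀ b, KaehlerDifferential.D V B b ∈ Submodule.span B
    {KaehlerDifferential.D V B x, KaehlerDifferential.D V B y}
  rho1 : B →+* PowerSeries 𝕜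
  rho1_x : rho1 x = 0
  rho1_y : rho1 y = PowerSeries.X
  rho1_alg : ∀ v, rho1 (algebraMap V B v) = PowerSeries.C (IsLocalRing.residue V v)
  rho1_D : ∀ b, rho1 (D b) = -(PowerSeries.X * PowerSeries.derivative 𝕜 (rho1 b))
  rho2 : B →+* PowerSeries 𝕜
  rho2_x : rho2 x = PowerSeries.X
  rho2_y : rho2 y = 0
  rho2_alg : ∀ v, rho2 (algebraMap V B v) = PowerSeries.C (IsLocalRing.residue V v)
  rho2_D : ∀ b, rho2 (D b) = PowerSeries.X * PowerSeries.derivative 𝕜 (rho2 b)

variable {V ϖ B}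

/-- exchanging the roles of `x` and `y` -/
def NodeData.swap (N : NodeData V ϖ B) : NodeData V ϖ B where
  x := N.y
  y := N.x
  xy := by rw [mul_comm]; exact N.xy
  px := N.py
  py := N.px
  nxy := N.nyx
  nyx := N.nxy
  ne_top := by rw [Set.pair_comm]; exact N.ne_top
  D := -N.D
  Dx := by simp [N.Dy]
  Dy := by simp [N.Dx]
  D_mem := fun b => by
    rw [Set.pair_comm]
    simpa using neg_mem (N.D_mem b)
  kd_mem := fun b => by rw [Set.pair_comm]; exact N.kd_mem b
  rho1 := N.rho2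
  rho1_x := N.rho2_y
  rho1_y := N.rho2_x
  rho1_alg := N.rho2_alg
  rho1_D := fun b => by simp [N.rho2_D]
  rho2 := N.rho1
  rho2_x := N.rho1_y
  rho2_y := N.rho1_x
  rho2_alg := N.rho1_alg
  rho2_D := fun b => by simp [N.rho1_D]

/-- the divisibility argument -/
theorem NodeData.dvd_or_dvd [IsDomain B] (N : NodeData V ϖ B) (g c : B) (n : ℕ)
    (hg : g ∈ Ideal.span {N.x, N.y}) (h : c * g = (N.x * N.y) ^ n * N.x) : N.x ∣ g ∨ N.y ∣ g := by
  by_contra hcon
  rw [not_or] at hcon
  obtain ⟨hxg, hyg⟩ := hcon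
  have h1 : c * g = N.x ^ (n + 1) * N.y ^ n := by rw [h]; ring
  have h2 : N.x ^ (n + 1) ∣ c := by
    apply Prime.pow_dvd_of_dvd_mul_right N.px (n + 1) hxg
    rw [h1]; exact dvd_mul_right _ _
  obtain ⟨c₁, rfl⟩ := h2
  have h3 : c₁ * g = N.y ^ n := by
    have hx0 : N.x ^ (n + 1) ≠ 0 := pow_ne_zero _ N.px.ne_zero
    apply mul_left_cancel₀ hx0
    rw [← h1]; ring
  have h4 : N.y ^ n ∣ c₁ := by
    apply Prime.pow_dvd_of_dvd_mul_right N.py n hyg
    rw [h3]
  obtain ⟨c₂, rfl⟩ := h4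
  have h5 : c₂ * g = 1 := by
    have hy0 : N.y ^ n ≠ 0 := pow_ne_zero _ N.py.ne_zero
    apply mul_left_cancel₀ hy0
    rw [mul_one, ← mul_assoc]; exact h3
  apply N.ne_top
  rw [Ideal.eq_top_iff_one, ← h5]
  exact Ideal.mul_mem_left _ _ hg

/-- the étale hypothesis gives the divisibility relation -/
theorem NodeData.exists_mul_eq' (N : NodeData V ϖ B) (f : B)
    (Bϖ : Type u) [CommRing Bϖ] [Algebra B Bϖ] [IsLocalization.Away (algebraMap V B ϖ) Bϖ]
    (hf : ((algebraMap B Bϖ).comp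
      (Polynomial.aeval f : Polynomial V →ₐ[V] B).toRingHom).Etale) :
    ∃ (n : ℕ) (c : B), c * N.D f = (N.x * N.y) ^ n * N.x := by
  letI alg1 : Algebra V[X] B := (Polynomial.aeval f : Polynomial V →ₐ[V] B).toRingHom.toAlgebra
  letI alg2 : Algebra V[X] Bϖ :=
    ((algebraMap B Bϖ).comp
      (Polynomial.aeval f : Polynomial V →ₐ[V] B).toRingHom).toAlgebra
  haveI : IsScalarTower V[X] B Bϖ :=
    IsScalarTower.of_algebraMap_eq' rfl
  have hf' : Algebra.Etale V[X] Bϖ := hf
  haveI := hf'.formallyEtale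
  haveI : Subsingleton Ω[Bϖ⁄V[X]] :=
    Algebra.FormallyUnramified.subsingleton_kaehlerDifferential
  have halg : ∀ P : V[X], algebraMap V[X] B P = aeval f P := fun _ => rfl
  -- the quotient by `(D f)`
  let I : Ideal B := Ideal.span {N.D f}
  have hDP : ∀ P : V[X], N.D (aeval f P) ∈ I := fun P => by
    rw [Derivation.map_aeval, smul_eq_mul]
    exact Ideal.mul_mem_left _ _ (Ideal.subset_span rfl)
  let L : B →ₗ[V[X]] B ⧸ I :=
    { toFun := fun b => Ideal.Quotient.mk I (N.D b)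
      map_add' := fun a b => by rw [map_add, map_add]
      map_smul' := fun P b => by
        rw [RingHom.id_apply, Algebra.smul_def, halg, Derivation.leibniz, map_add, smul_eq_mul,
          smul_eq_mul, map_mul, map_mul, Ideal.Quotient.eq_zero_iff_mem.2 (hDP P), mul_zero,
          add_zero, Algebra.smul_def, IsScalarTower.algebraMap_apply V[X] B (B ⧸ I), halg]
        rfl }
  let δ : Derivation V[X] B (B ⧸ I) := Derivation.mk' L (fun a b => by
    change Ideal.Quotient.mk I (N.D (a * b)) = a • Ideal.Quotient.mk I (N.D b)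
      + b • Ideal.Quotient.mk I (N.D a)
    rw [Derivation.leibniz, map_add, smul_eq_mul, smul_eq_mul, map_mul, map_mul]
    rfl)
  have h0 : KaehlerDifferential.map V[X] V[X] B Bϖ
      (KaehlerDifferential.D V[X] B N.x) = 0 := Subsingleton.elim _ _
  rw [IsLocalizedModule.eq_zero_iff (Submonoid.powers (algebraMap V B ϖ))] at h0
  obtain ⟨⟨s, n, hn⟩, hs⟩ := h0
  have hs' : s • KaehlerDifferential.D V[X] B N.x = 0 := hs
  have h1 := congrArg δ.liftKaehlerDifferential hs'
  rw [map_smul, Derivation.liftKaehlerDifferential_comp_D, map_zero] at h1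
  have h2 : Ideal.Quotient.mk I (s * N.x) = 0 := by
    have : δ N.x = Ideal.Quotient.mk I (N.D N.x) := rfl
    rw [this, N.Dx] at h1
    rw [map_mul]; exact h1
  rw [Ideal.Quotient.eq_zero_iff_mem, Ideal.mem_span_singleton'] at h2
  obtain ⟨c, hc⟩ := h2
  refine ⟨n, c, ?_⟩
  rw [hc, ← hn, N.xy]

theorem NodeData.exists_mul_eq (N : NodeData V ϖ B) (f : B)
    (hf : ((algebraMap B (Localization.Away (algebraMap V B ϖ))).comp
      (Polynomial.aeval f : Polynomial V →ₐ[V] B).toRingHom).Etale) :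
    ∃ (n : ℕ) (c : B), c * N.D f = (N.x * N.y) ^ n * N.x :=
  N.exists_mul_eq' f (Localization.Away (algebraMap V B ϖ)) hf

/-- if `x ∣ D f` then `d f̄ = 0` in `Ω_{(B/x)/V}` -/
theorem NodeData.kaehler_eq_zero (N : NodeData V ϖ B) (f : B) (h : N.x ∣ N.D f) :
    KaehlerDifferential.D V (B ⧸ Ideal.span {N.x}) (Ideal.Quotient.mk (Ideal.span {N.x}) f) = 0 := by
  obtain ⟨α, β, hαβ⟩ := Submodule.mem_span_pair.1 (N.kd_mem f)
  have h1 := congrArg N.D.liftKaehlerDifferential hαβ
  rw [map_add, map_smul, map_smul, Derivation.liftKaehlerDifferential_comp_D,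
    Derivation.liftKaehlerDifferential_comp_D, Derivation.liftKaehlerDifferential_comp_D,
    N.Dx, N.Dy, smul_eq_mul, smul_eq_mul] at h1
  have h2 : N.x ∣ β * N.y := by
    have : β * N.y = α * N.x - N.D f := by rw [← h1]; ring
    rw [this]
    exact dvd_sub (dvd_mul_left _ _) h
  have h3 : N.x ∣ β := (N.px.dvd_or_dvd h2).resolve_right N.nxy
  have h4 : Ideal.Quotient.mk (Ideal.span {N.x}) β = 0 :=
    Ideal.Quotient.eq_zero_iff_mem.2 (Ideal.mem_span_singleton.2 h3)
  have h5 : Ideal.Quotient.mk (Ideal.span {N.x}) N.x = 0 :=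
    Ideal.Quotient.eq_zero_iff_mem.2 (Ideal.subset_span rfl)
  have h6 := KaehlerDifferential.map_D V V B (B ⧸ Ideal.span {N.x}) f
  have h7 : algebraMap B (B ⧸ Ideal.span {N.x}) f = Ideal.Quotient.mk (Ideal.span {N.x}) f := rfl
  rw [h7] at h6
  rw [← h6, ← hαβ, map_add, map_smul, map_smul, KaehlerDifferential.map_D,
    KaehlerDifferential.map_D]
  have h8 : algebraMap B (B ⧸ Ideal.span {N.x}) N.x = 0 := h5
  rw [h8, map_zero, smul_zero, zero_add, ← algebraMap_smul (B ⧸ Ideal.span {N.x}) β]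
  have h9 : algebraMap B (B ⧸ Ideal.span {N.x}) β = 0 := h4
  rw [h9, zero_smul]

/-- if `x ∣ D f` and the residue field has characteristic zero, `T ↦ f` is not quasi-finite -/
theorem NodeData.not_quasiFinite [CharZero 𝕜] (N : NodeData V ϖ B) (f : B) (h : N.x ∣ N.D f) :
    ¬ (Polynomial.aeval f : Polynomial V →ₐ[V] B).toRingHom.QuasiFinite := by
  intro hq
  have h1 : N.rho1 (N.D f) = 0 := by
    obtain ⟨w, hw⟩ := h
    rw [hw, map_mul, N.rho1_x, zero_mul]
  have h2 : PowerSeries.X * PowerSeries.derivative 𝕜 (N.rho1 f) = 0 := by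
    rw [N.rho1_D, neg_eq_zero] at h1; exact h1
  have h3 : PowerSeries.derivative 𝕜 (N.rho1 f) = 0 :=
    (mul_eq_zero.1 h2).resolve_left PowerSeries.X_ne_zero
  have h4 : ∀ n : ℕ, PowerSeries.coeff (n + 1) (N.rho1 f) = 0 := by
    intro n
    have := congrArg (PowerSeries.coeff n) h3
    rw [PowerSeries.coeff_derivative, map_zero] at this
    rcases mul_eq_zero.1 this with h | h
    · exact h
    · exfalso; exact Nat.cast_add_one_ne_zero n h
  have h5 : N.rho1 f = PowerSeries.C (PowerSeries.coeff 0 (N.rho1 f)) := by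
    ext n
    cases n with
    | zero => simp
    | succ m => rw [h4 m, PowerSeries.coeff_C, if_neg (Nat.succ_ne_zero m)]
  obtain ⟨v, hv⟩ := IsLocalRing.residue_surjective (PowerSeries.coeff 0 (N.rho1 f))
  have h6 : N.rho1 (f - algebraMap V B v) = 0 := by
    rw [map_sub, N.rho1_alg, hv, ← h5, sub_self]
  let 𝔭 : Ideal B := RingHom.ker N.rho1
  haveI : 𝔭.IsPrime := RingHom.ker_isPrime _
  let π : B →+* B ⧸ 𝔭 := Ideal.Quotient.mk 𝔭
  have hθ : (π.comp (Polynomial.aeval f : Polynomial V →ₐ[V] B).toRingHom).QuasiFinite :=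
    (RingHom.QuasiFinite.of_finite
      (RingHom.Finite.of_surjective π Ideal.Quotient.mk_surjective)).comp hq
  let ι : 𝕜 →+* B ⧸ 𝔭 := Ideal.Quotient.lift (IsLocalRing.maximalIdeal V)
    (π.comp (algebraMap V B)) (fun a ha => by
      rw [RingHom.comp_apply, Ideal.Quotient.eq_zero_iff_mem, RingHom.mem_ker, N.rho1_alg,
        (IsLocalRing.residue_eq_zero_iff a).2 ha, map_zero])
  let ε : V[X] →+* 𝕜 := Polynomial.eval₂RingHom (IsLocalRing.residue V) (IsLocalRing.residue V v)
  have heq : π.comp (Polynomial.aeval f : Polynomial V →ₐ[V] B).toRingHom = ι.comp ε := by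
    apply Polynomial.ringHom_ext
    · intro a
      have e1 : ε (C a) = IsLocalRing.residue V a := by simp [ε]
      rw [RingHom.comp_apply, RingHom.comp_apply, e1]
      have e2 : ι (IsLocalRing.residue V a) = π (algebraMap V B a) :=
        Ideal.Quotient.lift_mk _ _ _
      rw [e2]
      simp
    · have e1 : ε X = IsLocalRing.residue V v := by simp [ε]
      rw [RingHom.comp_apply, RingHom.comp_apply, e1]
      have e2 : ι (IsLocalRing.residue V v) = π (algebraMap V B v) :=
        Ideal.Quotient.lift_mk _ _ _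
      rw [e2]
      have e3 : (Polynomial.aeval f : Polynomial V →ₐ[V] B).toRingHom X = f := by simp
      rw [e3]
      exact (Ideal.Quotient.eq).2 (RingHom.mem_ker.2 h6)
  have hι : ι.QuasiFinite := RingHom.QuasiFinite.of_comp (heq ▸ hθ)
  letI : Algebra 𝕜 (B ⧸ 𝔭) := ι.toAlgebra
  haveI : Algebra.QuasiFinite 𝕜 (B ⧸ 𝔭) := hι
  haveI : Module.Finite 𝕜 (B ⧸ 𝔭) := Module.Finite.of_quasiFinite
  have hfield : IsField (B ⧸ 𝔭) := isField_of_isIntegral_of_isField' (Field.toIsField 𝕜)
  have hy : π N.y ≠ 0 := by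
    intro h0
    rw [Ideal.Quotient.eq_zero_iff_mem, RingHom.mem_ker, N.rho1_y] at h0
    exact PowerSeries.X_ne_zero h0
  obtain ⟨z, hz⟩ := hfield.mul_inv_cancel hy
  obtain ⟨b, rfl⟩ := Ideal.Quotient.mk_surjective z
  have h7 : π (N.y * b) = π 1 := by rw [map_mul, map_one]; exact hz
  rw [Ideal.Quotient.eq, RingHom.mem_ker, map_sub, map_mul, map_one, N.rho1_y, sub_eq_zero] at h7
  have := congrArg PowerSeries.constantCoeff h7
  simp at this

end Groth.Agent.Helper7.SsNd
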