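import Mathlib
import Groth.Agent.Helper7.SsNdE

/-!
# SsNdF: node data on `B = Q[1/h]`, `Q = V[x,y]/(xy-ϖ)`, `h ∉ (x,y)`, `V` a DVR with uniformizer `ϖ`.
-/

set_option autoImplicit false
universe u
open Polynomial

namespace Groth.Agent.Helper7.SsNd

variable {V : Type u} [CommRing V] [IsDomain V] [IsDiscreteValuationRing V] {ϖ : V}
  (hϖ : Irreducible ϖ)

local notation "𝕜" => IsLocalRing.ResidueField V

theorem ringHom_ext_Q {S : Type*} [CommRing S] (φ ψ : Q V ϖ →+* S)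
    (hC : ∀ a, φ (algebraMap V _ a) = ψ (algebraMap V _ a))
    (hx : φ (qx V ϖ) = ψ (qx V ϖ)) (hy : φ (qy V ϖ) = ψ (qy V ϖ)) : φ = ψ := by
  apply Ideal.Quotient.ringHom_ext
  apply MvPolynomial.ringHom_ext
  · intro a; exact hC a
  · intro i
    fin_cases i
    · exact hx
    · exact hy

include hϖ

/-- `Q → k[[Y]]`, `x ↦ 0`, `y ↦ Y` -/
noncomputable def rhoQ1 : Q V ϖ →ₐ[V] PowerSeries 𝕜 :=
  lift (0 : PowerSeries 𝕜) PowerSeries.X
    (by rw [zero_mul, PowerSeries.algebraMap_apply, residue_unif hϖ, map_zero])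

/-- `Q → k[[Y]]`, `x ↦ Y`, `y ↦ 0` -/
noncomputable def rhoQ2 : Q V ϖ →ₐ[V] PowerSeries 𝕜 :=
  lift PowerSeries.X (0 : PowerSeries 𝕜)
    (by rw [mul_zero, PowerSeries.algebraMap_apply, residue_unif hϖ, map_zero])

theorem constantCoeff_rhoQ1 (q : Q V ϖ) :
    PowerSeries.constantCoeff (rhoQ1 hϖ q) = phi0 hϖ q := by
  have : (PowerSeries.constantCoeff (R := 𝕜)).comp (rhoQ1 hϖ).toRingHom = (phi0 hϖ).toRingHom := by
    apply ringHom_ext_Q
    · intro a
      simp [PowerSeries.algebraMap_apply]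
    · simp [rhoQ1, phi0]
    · simp [rhoQ1, phi0]
  exact congrArg (fun f => f q) this

theorem constantCoeff_rhoQ2 (q : Q V ϖ) :
    PowerSeries.constantCoeff (rhoQ2 hϖ q) = phi0 hϖ q := by
  have : (PowerSeries.constantCoeff (R := 𝕜)).comp (rhoQ2 hϖ).toRingHom = (phi0 hϖ).toRingHom := by
    apply ringHom_ext_Q
    · intro a
      simp [PowerSeries.algebraMap_apply]
    · simp [rhoQ2, phi0]
    · simp [rhoQ2, phi0]
  exact congrArg (fun f => f q) this

theorem phi0_ne_zero {h : Q V ϖ} (hh : h ∉ Ideal.span {qx V ϖ, qy V ϖ}) : phi0 hϖ h ≠ 0 := by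
  intro h0
  apply hh
  rw [← ker_phi0 hϖ]
  exact h0

theorem isUnit_rhoQ1 {h : Q V ϖ} (hh : h ∉ Ideal.span {qx V ϖ, qy V ϖ}) :
    IsUnit ((rhoQ1 hϖ).toRingHom h) := by
  rw [PowerSeries.isUnit_iff_constantCoeff]
  change IsUnit (PowerSeries.constantCoeff (rhoQ1 hϖ h))
  rw [constantCoeff_rhoQ1]
  exact (phi0_ne_zero hϖ hh).isUnit

theorem isUnit_rhoQ2 {h : Q V ϖ} (hh : h ∉ Ideal.span {qx V ϖ, qy V ϖ}) :
    IsUnit ((rhoQ2 hϖ).toRingHom h) := by
  rw [PowerSeries.isUnit_iff_constantCoeff]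
  change IsUnit (PowerSeries.constantCoeff (rhoQ2 hϖ h))
  rw [constantCoeff_rhoQ2]
  exact (phi0_ne_zero hϖ hh).isUnit

omit hϖ in
/-- compatibility of a map `ρ : Q → K` with the Euler derivation -/
theorem compat_Q {K : Type*} [CommRing K] [Algebra V K] (ρ : Q V ϖ →ₐ[V] K) (E : K → K)
    (hadd : ∀ a b, E (a + b) = E a + E b) (hmul : ∀ a b, E (a * b) = a * E b + b * E a)
    (hC : ∀ a : V, E (algebraMap V K a) = 0)
    (hx : ρ (DQ V ϖ (qx V ϖ)) = E (ρ (qx V ϖ))) (hy : ρ (DQ V ϖ (qy V ϖ)) = E (ρ (qy V ϖ)))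
    (q : Q V ϖ) : ρ (DQ V ϖ q) = E (ρ q) := by
  obtain ⟨p, rfl⟩ := Ideal.Quotient.mk_surjective q
  induction p using MvPolynomial.induction_on with
  | C a =>
    have : (Ideal.Quotient.mk (Ideal.span {rel V ϖ})) (MvPolynomial.C a)
        = algebraMap V (Q V ϖ) a := rfl
    rw [this, Derivation.map_algebraMap, map_zero, AlgHom.commutes, hC]
  | add p q hp hq => rw [map_add, map_add, map_add, map_add, hadd, hp, hq]
  | mul_X p i hp =>
    rw [map_mul, Derivation.leibniz, map_add, smul_eq_mul, smul_eq_mul, map_mul, map_mul, map_mul,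
      hmul, hp]
    fin_cases i
    · have : (Ideal.Quotient.mk (Ideal.span {rel V ϖ})) (MvPolynomial.X ((0 : Fin 2))) = qx V ϖ := rfl
      simp only [Fin.zero_eta, Fin.isValue]
      rw [this, hx]
    · have : (Ideal.Quotient.mk (Ideal.span {rel V ϖ})) (MvPolynomial.X ((1 : Fin 2))) = qy V ϖ := rfl
      simp only [Fin.mk_one, Fin.isValue]
      rw [this, hy]

section B

variable (h : Q V ϖ) (hh : h ∉ Ideal.span {qx V ϖ, qy V ϖ})
  (B : Type u) [CommRing B] [Algebra (Q V ϖ) B] [Algebra V B] [IsScalarTower V (Q V ϖ) B]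
  [IsLocalization.Away h B]

omit hϖ in
include hh in
theorem disjoint_powers (I : Ideal (Q V ϖ)) [I.IsPrime] (hI : I ≤ Ideal.span {qx V ϖ, qy V ϖ}) :
    Disjoint (Submonoid.powers h : Set (Q V ϖ)) (I : Set (Q V ϖ)) := by
  rw [Set.disjoint_left]
  rintro _ ⟨n, rfl⟩ hn
  exact hh (hI (Ideal.IsPrime.mem_of_pow_mem inferInstance n hn))

omit hϖ [IsDomain V] [IsDiscreteValuationRing V] in
/-- compatibility on the localization -/
theorem compat_B {K : Type*} [CommRing K] (ρ : B →+* K) (D : Derivation V B B)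
    (hD : ∀ q, D (algebraMap (Q V ϖ) B q) = algebraMap (Q V ϖ) B (DQ V ϖ q)) (E : K → K)
    (hmul : ∀ a b, E (a * b) = a * E b + b * E a)
    (hQ : ∀ q, ρ (algebraMap (Q V ϖ) B (DQ V ϖ q)) = E (ρ (algebraMap (Q V ϖ) B q)))
    (hu : IsUnit (ρ (algebraMap (Q V ϖ) B h))) (b : B) : ρ (D b) = E (ρ b) := by
  obtain ⟨⟨q, ⟨m, n, rfl⟩⟩, hqm⟩ := IsLocalization.surj (Submonoid.powers h) b
  have hum : IsUnit (ρ (algebraMap (Q V ϖ) B (h ^ n))) := by
    rw [map_pow, map_pow]; exact hu.pow n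
  have h1 := congrArg (fun z => ρ (D z)) hqm
  simp only at h1
  rw [Derivation.leibniz, smul_eq_mul, smul_eq_mul, hD, hD, map_add, map_mul, map_mul, hQ, hQ,
    ← hqm, map_mul, hmul] at h1
  have h2 : ρ (algebraMap (Q V ϖ) B (h ^ n)) * ρ (D b)
      = ρ (algebraMap (Q V ϖ) B (h ^ n)) * E (ρ b) := by
    have := add_left_cancel h1
    exact this
  exact hum.mul_left_cancel h2

include hh in
/-- the node data on `B = Q[1/h]` -/
theorem exists_nodeData : ∃ N : NodeData V ϖ B, N.x = algebraMap (Q V ϖ) B (qx V ϖ)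
    ∧ N.y = algebraMap (Q V ϖ) B (qy V ϖ) := by
  haveI hQdom : IsDomain (Q V ϖ) := isDomain_Q V ϖ hϖ.ne_zero
  have hh0 : h ≠ 0 := by
    rintro rfl; exact hh (Ideal.zero_mem _)
  have hM : Submonoid.powers h ≤ nonZeroDivisors (Q V ϖ) :=
    powers_le_nonZeroDivisors_of_noZeroDivisors hh0
  have hinj : Function.Injective (algebraMap (Q V ϖ) B) := IsLocalization.injective B hM
  haveI : IsDomain B := IsLocalization.isDomain_of_le_nonZeroDivisors B hM
  haveI p1 := isPrime_span_qx hϖ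
  haveI p2 := isPrime_span_qy hϖ
  haveI p0 := isPrime_span_qx_qy hϖ
  have hx_le : Ideal.span {qx V ϖ} ≤ Ideal.span {qx V ϖ, qy V ϖ} :=
    Ideal.span_mono (by simp)
  have hy_le : Ideal.span {qy V ϖ} ≤ Ideal.span {qx V ϖ, qy V ϖ} :=
    Ideal.span_mono (by simp)
  have d1 := disjoint_powers h hh (Ideal.span {qx V ϖ}) hx_le
  have d2 := disjoint_powers h hh (Ideal.span {qy V ϖ}) hy_le
  have d0 := disjoint_powers h hh (Ideal.span {qx V ϖ, qy V ϖ}) le_rfl
  set x : B := algebraMap (Q V ϖ) B (qx V ϖ) with hxdef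
  set y : B := algebraMap (Q V ϖ) B (qy V ϖ) with hydef
  have mx : Ideal.map (algebraMap (Q V ϖ) B) (Ideal.span {qx V ϖ}) = Ideal.span {x} := by
    rw [Ideal.map_span, Set.image_singleton]
  have my : Ideal.map (algebraMap (Q V ϖ) B) (Ideal.span {qy V ϖ}) = Ideal.span {y} := by
    rw [Ideal.map_span, Set.image_singleton]
  have mxy : Ideal.map (algebraMap (Q V ϖ) B) (Ideal.span {qx V ϖ, qy V ϖ}) = Ideal.span {x, y} := by
    rw [Ideal.map_span, Set.image_pair]
  have qx0 : qx V ϖ ≠ 0 := by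
    intro h0; apply qx_notMem_span_qy hϖ; rw [h0]; exact Ideal.zero_mem _
  have qy0 : qy V ϖ ≠ 0 := by
    intro h0; apply qy_notMem_span_qx hϖ; rw [h0]; exact Ideal.zero_mem _
  have x0 : x ≠ 0 := fun h0 => qx0 (hinj (by rw [map_zero]; exact h0))
  have y0 : y ≠ 0 := fun h0 => qy0 (hinj (by rw [map_zero]; exact h0))
  have px : Prime x := by
    rw [← Ideal.span_singleton_prime x0, ← mx]
    exact IsLocalization.isPrime_of_isPrime_disjoint (Submonoid.powers h) B _ p1 d1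
  have py : Prime y := by
    rw [← Ideal.span_singleton_prime y0, ← my]
    exact IsLocalization.isPrime_of_isPrime_disjoint (Submonoid.powers h) B _ p2 d2
  have nxy : ¬ x ∣ y := by
    intro hd
    have : y ∈ Ideal.map (algebraMap (Q V ϖ) B) (Ideal.span {qx V ϖ}) := by
      rw [mx]; exact Ideal.mem_span_singleton.2 hd
    have h2 : qy V ϖ ∈ Ideal.under (Q V ϖ) (Ideal.map (algebraMap (Q V ϖ) B) (Ideal.span {qx V ϖ})) :=
      this
    rw [IsLocalization.under_map_of_isPrime_disjoint (Submonoid.powers h) B p1 d1] at h2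
    exact qy_notMem_span_qx hϖ h2
  have nyx : ¬ y ∣ x := by
    intro hd
    have : x ∈ Ideal.map (algebraMap (Q V ϖ) B) (Ideal.span {qy V ϖ}) := by
      rw [my]; exact Ideal.mem_span_singleton.2 hd
    have h2 : qx V ϖ ∈ Ideal.under (Q V ϖ) (Ideal.map (algebraMap (Q V ϖ) B) (Ideal.span {qy V ϖ})) :=
      this
    rw [IsLocalization.under_map_of_isPrime_disjoint (Submonoid.powers h) B p2 d2] at h2
    exact qx_notMem_span_qy hϖ h2
  have ne_top : Ideal.span {x, y} ≠ ⊤ := by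
    rw [← mxy]
    exact (IsLocalization.isPrime_of_isPrime_disjoint (Submonoid.powers h) B _ p0 d0).ne_top
  obtain ⟨D, hD⟩ := exists_derivation_extend (R := V) (T := B) (Submonoid.powers h) (DQ V ϖ)
  have hDx : D x = x := by rw [hxdef, hD, DQ_qx]
  have hDy : D y = -y := by rw [hydef, hD, DQ_qy, map_neg]
  have hDmem : ∀ b, D b ∈ Ideal.span {x, y} := by
    apply derivation_mem_of_forall_mem (Submonoid.powers h) D
    intro s
    rw [hD, ← mxy]
    exact Ideal.mem_map_of_mem _ (DQ_mem V ϖ s)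
  have hkd : ∀ b, KaehlerDifferential.D V B b ∈ Submodule.span B
      {KaehlerDifferential.D V B x, KaehlerDifferential.D V B y} := by
    intro b
    have htop := KaehlerDifferential.span_range_map_derivation_of_isLocalization V (Q V ϖ) B
      (Submonoid.powers h)
    have : KaehlerDifferential.D V B b ∈ Submodule.span B (Set.range
        (⇑(KaehlerDifferential.map V V (Q V ϖ) B) ∘ ⇑(KaehlerDifferential.D V (Q V ϖ)))) := by
      rw [htop]; exact Submodule.mem_top
    refine (Submodule.span_le.2 ?_) this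
    rintro _ ⟨q, rfl⟩
    obtain ⟨a, c, hac⟩ := Submodule.mem_span_pair.1 (kaehler_mem_span V ϖ q)
    rw [Function.comp_apply, ← hac, map_add, map_smul, map_smul, KaehlerDifferential.map_D,
      KaehlerDifferential.map_D]
    have e1 : a • KaehlerDifferential.D V B (algebraMap (Q V ϖ) B (qx V ϖ))
        = (algebraMap (Q V ϖ) B a) • KaehlerDifferential.D V B x := (IsScalarTower.algebraMap_smul B a _).symm
    have e2 : c • KaehlerDifferential.D V B (algebraMap (Q V ϖ) B (qy V ϖ))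
        = (algebraMap (Q V ϖ) B c) • KaehlerDifferential.D V B y := (IsScalarTower.algebraMap_smul B c _).symm
    rw [SetLike.mem_coe, e1, e2]
    exact Submodule.add_mem _ (Submodule.smul_mem _ _ (Submodule.subset_span (by simp)))
      (Submodule.smul_mem _ _ (Submodule.subset_span (by simp)))
  -- the maps to power series
  let ρ1 : B →+* PowerSeries 𝕜 := IsLocalization.Away.lift h (isUnit_rhoQ1 hϖ hh)
  let ρ2 : B →+* PowerSeries 𝕜 := IsLocalization.Away.lift h (isUnit_rhoQ2 hϖ hh)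
  have hρ1 : ∀ q, ρ1 (algebraMap (Q V ϖ) B q) = rhoQ1 hϖ q :=
    fun q => IsLocalization.Away.lift_eq h (isUnit_rhoQ1 hϖ hh) q
  have hρ2 : ∀ q, ρ2 (algebraMap (Q V ϖ) B q) = rhoQ2 hϖ q :=
    fun q => IsLocalization.Away.lift_eq h (isUnit_rhoQ2 hϖ hh) q
  have r1x : rhoQ1 hϖ (qx V ϖ) = 0 := lift_qx _ _ _
  have r1y : rhoQ1 hϖ (qy V ϖ) = PowerSeries.X := lift_qy _ _ _
  have r2x : rhoQ2 hϖ (qx V ϖ) = PowerSeries.X := lift_qx _ _ _
  have r2y : rhoQ2 hϖ (qy V ϖ) = 0 := lift_qy _ _ _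
  have halg1 : ∀ v, ρ1 (algebraMap V B v) = PowerSeries.C (IsLocalRing.residue V v) := by
    intro v
    rw [IsScalarTower.algebraMap_apply V (Q V ϖ) B, hρ1, AlgHom.commutes,
      PowerSeries.algebraMap_apply]
    rfl
  have halg2 : ∀ v, ρ2 (algebraMap V B v) = PowerSeries.C (IsLocalRing.residue V v) := by
    intro v
    rw [IsScalarTower.algebraMap_apply V (Q V ϖ) B, hρ2, AlgHom.commutes,
      PowerSeries.algebraMap_apply]
    rfl
  have hD1 : ∀ b, ρ1 (D b) = -(PowerSeries.X * PowerSeries.derivative 𝕜 (ρ1 b)) := by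
    intro b
    refine compat_B h B ρ1 D hD (fun g => -(PowerSeries.X * PowerSeries.derivative 𝕜 g)) ?_ ?_ ?_ b
    · intro a c
      rw [Derivation.leibniz, smul_eq_mul, smul_eq_mul]; ring
    · intro q
      rw [hρ1, hρ1]
      refine compat_Q (rhoQ1 hϖ) (fun g => -(PowerSeries.X * PowerSeries.derivative 𝕜 g))
        ?_ ?_ ?_ ?_ ?_ q
      · intro a c; rw [map_add]; ring
      · intro a c; rw [Derivation.leibniz, smul_eq_mul, smul_eq_mul]; ring
      · intro a; rw [PowerSeries.algebraMap_apply, PowerSeries.derivative_C, mul_zero, neg_zero]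
      · rw [DQ_qx, r1x, map_zero, mul_zero, neg_zero]
      · rw [DQ_qy, map_neg, r1y, PowerSeries.derivative_X, mul_one]
    · rw [hρ1]; exact isUnit_rhoQ1 hϖ hh
  have hD2 : ∀ b, ρ2 (D b) = PowerSeries.X * PowerSeries.derivative 𝕜 (ρ2 b) := by
    intro b
    refine compat_B h B ρ2 D hD (fun g => PowerSeries.X * PowerSeries.derivative 𝕜 g) ?_ ?_ ?_ b
    · intro a c
      rw [Derivation.leibniz, smul_eq_mul, smul_eq_mul]; ring
    · intro q
      rw [hρ2, hρ2]
      refine compat_Q (rhoQ2 hϖ) (fun g => PowerSeries.X * PowerSeries.derivative 𝕜 g)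
        ?_ ?_ ?_ ?_ ?_ q
      · intro a c; rw [map_add]; ring
      · intro a c; rw [Derivation.leibniz, smul_eq_mul, smul_eq_mul]; ring
      · intro a; rw [PowerSeries.algebraMap_apply, PowerSeries.derivative_C, mul_zero]
      · rw [DQ_qx, r2x, PowerSeries.derivative_X, mul_one]
      · rw [DQ_qy, map_neg, r2y, map_zero, mul_zero, neg_zero]
    · rw [hρ2]; exact isUnit_rhoQ2 hϖ hh
  exact ⟨{
    x := x
    y := y
    xy := by
      rw [hxdef, hydef, ← map_mul, qx_mul_qy, ← IsScalarTower.algebraMap_apply]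
    px := px
    py := py
    nxy := nxy
    nyx := nyx
    ne_top := ne_top
    D := D
    Dx := hDx
    Dy := hDy
    D_mem := hDmem
    kd_mem := hkd
    rho1 := ρ1
    rho1_x := by rw [hxdef, hρ1, r1x]
    rho1_y := by rw [hydef, hρ1, r1y]
    rho1_alg := halg1
    rho1_D := hD1
    rho2 := ρ2
    rho2_x := by rw [hxdef, hρ2, r2x]
    rho2_y := by rw [hydef, hρ2, r2y]
    rho2_alg := halg2
    rho2_D := hD2 }, rfl, rfl⟩

include hh in
theorem isDomain_B : IsDomain B := by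
  haveI hQdom : IsDomain (Q V ϖ) := isDomain_Q V ϖ hϖ.ne_zero
  have hh0 : h ≠ 0 := by
    rintro rfl; exact hh (Ideal.zero_mem _)
  have hM : Submonoid.powers h ≤ nonZeroDivisors (Q V ϖ) :=
    powers_le_nonZeroDivisors_of_noZeroDivisors hh0
  exact IsLocalization.isDomain_of_le_nonZeroDivisors B hM

end B

end Groth.Agent.Helper7.SsNd
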