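import Mathlib
import Groth.Prelude.Def_W4c6stackyreslrsPsRefl
import Groth.Agent.Helper7.ComodA
import Groth.Agent.Helper7.ComodC
import Groth.Agent.Helper7.ComodK

set_option autoImplicit false
set_option linter.unusedSectionVars false
universe u v w

namespace Groth.Agent.Helper7.StabIdeal

open TensorProduct HopfRep Groth.Agent.Helper7.Comodule

section Gen

variable {k : Type u} [CommRing k] {C : Type v} [AddCommGroup C] [Module k C] [Coalgebra k C]
  {V : Type w} [AddCommGroup V] [Module k V] [Comod k C V]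
  {B₁ B₂ : Type*} [AddCommGroup B₁] [Module k B₁] [AddCommGroup B₂] [Module k B₂]

lemma apply_sliceL' (l : V →ₗ[k] k) (g : C →ₗ[k] k)
    (x : V ⊗[k] C) : g (sliceL l x) = l (sliceR g x) := by
  induction x using TensorProduct.induction_on with
  | zero => simp
  | tmul m c => simp [mul_comm]
  | add x y hx hy => simp only [map_add, hx, hy]

lemma lTensor_map_assoc_tmul (f : C →ₗ[k] B₁) (g : C →ₗ[k] B₂) (y : V ⊗[k] C) (a : C) :
    LinearMap.lTensor V (TensorProduct.map f g) ((TensorProduct.assoc k V C C) (y ⊗ₜ[k] a)) =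
      (TensorProduct.assoc k V B₁ B₂) ((LinearMap.lTensor V f y) ⊗ₜ[k] g a) := by
  induction y using TensorProduct.induction_on with
  | zero => simp
  | tmul v c => simp
  | add x y hx hy => simp only [TensorProduct.add_tmul, map_add, hx, hy]

lemma lTensor_map_assoc_rTensor (f : C →ₗ[k] B₁) (g : C →ₗ[k] B₂) (x : V ⊗[k] C) :
    LinearMap.lTensor V (TensorProduct.map f g)
        ((TensorProduct.assoc k V C C) (LinearMap.rTensor C (ρ k C V) x)) =
      (TensorProduct.assoc k V B₁ B₂)
        (LinearMap.rTensor B₂ (LinearMap.lTensor V f ∘ₗ ρ k C V) (LinearMap.lTensor V g x)) := by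
  induction x using TensorProduct.induction_on with
  | zero => simp
  | tmul v c =>
    simp only [LinearMap.rTensor_tmul, LinearMap.lTensor_tmul, LinearMap.coe_comp,
      Function.comp_apply]
    exact lTensor_map_assoc_tmul f g _ c
  | add x y hx hy => simp only [map_add, hx, hy]

end Gen

variable {k : Type u} [CommRing k] {A : Type v} [CommRing A] [HopfAlgebra k A]
  {V : Type w} [AddCommGroup V] [Module k V] [Comod k A V]

/-- generators of the ideal of the pointwise stabiliser of `W` -/
def gens (W : Submodule k V) : Set A :=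
  {a | ∃ w ∈ W, ∃ l : V →ₗ[k] k, a = sliceL l (ρ k A V w) - algebraMap k A (l w)}

/-- ideal of the pointwise stabiliser of `W` -/
def stab (W : Submodule k V) : Ideal A := Ideal.span (gens W)

lemma stab_le (W : Submodule k V) (J : Ideal A) (h : W ≤ GLin.quotInvariants k A V J) :
    stab W ≤ J := by
  refine Ideal.span_le.2 ?_
  rintro a ⟨w, hw, l, rfl⟩
  have h1 := (GLin.mem_quotInvariants_iff k A V J w).1 (h hw)
  rw [SetLike.mem_coe, ← Ideal.Quotient.eq_zero_iff_mem]
  have h2 : (Ideal.Quotient.mkₐ k J).toLinearMap (sliceL l (ρ k A V w)) =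
      l w • (1 : A ⧸ J) := by
    rw [← sliceL_lTensor, h1, sliceL_tmul]
  have h3 : (Ideal.Quotient.mk J) (sliceL l (ρ k A V w)) = l w • (1 : A ⧸ J) := h2
  rw [map_sub, h3, Algebra.algebraMap_eq_smul_one, sub_eq_zero]
  exact (map_smul (Ideal.Quotient.mkₐ k J) (l w) (1 : A)).symm ▸ by simp

lemma mk_sliceL (W : Submodule k V) {w : V} (hw : w ∈ W) (l : V →ₗ[k] k) :
    (Ideal.Quotient.mkₐ k (stab W)).toLinearMap (sliceL l (ρ k A V w)) =
      l w • (1 : A ⧸ stab W) := by
  have hmem : sliceL l (ρ k A V w) - algebraMap k A (l w) ∈ stab W :=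
    Ideal.subset_span ⟨w, hw, l, rfl⟩
  have := (Ideal.Quotient.eq_zero_iff_mem).2 hmem
  rw [map_sub, sub_eq_zero] at this
  change (Ideal.Quotient.mk (stab W)) (sliceL l (ρ k A V w)) = _
  rw [this, Algebra.algebraMap_eq_smul_one]
  exact map_smul (Ideal.Quotient.mkₐ k (stab W)) (l w) (1 : A)

lemma le_quotInvariants_stab [Module.Free k V] (W : Submodule k V) :
    W ≤ GLin.quotInvariants k A V (stab W) := by
  intro w hw
  rw [GLin.mem_quotInvariants_iff, ← sub_eq_zero]
  refine eq_zero_of_sliceL _ fun l => ?_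
  rw [map_sub, sliceL_lTensor, mk_sliceL W hw, sliceL_tmul, sub_self]

lemma coact_mk [Module.Free k V] (W : Submodule k V) {w : V} (hw : w ∈ W) :
    LinearMap.lTensor V (Ideal.Quotient.mkₐ k (stab W)).toLinearMap (ρ k A V w) =
      w ⊗ₜ[k] (1 : A ⧸ stab W) :=
  (GLin.mem_quotInvariants_iff k A V _ w).1 (le_quotInvariants_stab W hw)

lemma stab_le_ker_counit (W : Submodule k V) :
    stab W ≤ RingHom.ker (Bialgebra.counitAlgHom k A) := by
  refine Ideal.span_le.2 ?_
  rintro a ⟨w, hw, l, rfl⟩
  rw [SetLike.mem_coe, RingHom.mem_ker, map_sub, sub_eq_zero]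
  have h1 : (Bialgebra.counitAlgHom k A) (sliceL l (ρ k A V w)) = l w := by
    change (CoalgebraStruct.counit (R := k) (A := A)) (sliceL l (ρ k A V w)) = l w
    rw [apply_sliceL', ← act_apply, act_counit]
  rw [h1, AlgHom.commutes]
  rfl

/-- comultiplication of a generator, pushed to the quotient -/
lemma map_comul_sliceL [Module.Free k V] (W : Submodule k V) {w : V} (hw : w ∈ W)
    (l : V →ₗ[k] k) :
    TensorProduct.map (Ideal.Quotient.mkₐ k (stab W)).toLinearMap
        (Ideal.Quotient.mkₐ k (stab W)).toLinearMap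
        (CoalgebraStruct.comul (R := k) (sliceL l (ρ k A V w))) =
      l w • ((1 : A ⧸ stab W) ⊗ₜ[k] (1 : A ⧸ stab W)) := by
  rw [← sliceL_lTensor, ← coassoc_apply, ← sliceL_lTensor, lTensor_map_assoc_rTensor,
    coact_mk W hw, LinearMap.rTensor_tmul, LinearMap.coe_comp, Function.comp_apply,
    coact_mk W hw, TensorProduct.assoc_tmul, sliceL_tmul]

lemma stab_le_ker_comul [Module.Free k V] (W : Submodule k V) :
    stab W ≤ RingHom.ker ((Algebra.TensorProduct.map (Ideal.Quotient.mkₐ k (stab W))
      (Ideal.Quotient.mkₐ k (stab W))).comp (Bialgebra.comulAlgHom k A)) := by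
  refine Ideal.span_le.2 ?_
  rintro a ⟨w, hw, l, rfl⟩
  rw [SetLike.mem_coe, RingHom.mem_ker, map_sub, sub_eq_zero, AlgHom.commutes]
  have h1 : ((Algebra.TensorProduct.map (Ideal.Quotient.mkₐ k (stab W))
      (Ideal.Quotient.mkₐ k (stab W))).comp (Bialgebra.comulAlgHom k A))
      (sliceL l (ρ k A V w)) = l w • ((1 : A ⧸ stab W) ⊗ₜ[k] (1 : A ⧸ stab W)) :=
    map_comul_sliceL W hw l
  rw [h1, Algebra.algebraMap_eq_smul_one, Algebra.TensorProduct.one_def]

lemma lTensor_mul_assoc_tmul_one {B : Type*} [CommRing B] [Algebra k B] (y : V ⊗[k] B) :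
    LinearMap.lTensor V (LinearMap.mul' k B) ((TensorProduct.assoc k V B B) (y ⊗ₜ[k] (1 : B))) =
      y := by
  induction y using TensorProduct.induction_on with
  | zero => simp
  | tmul v c => simp
  | add x y hx hy => simp only [TensorProduct.add_tmul, map_add, hx, hy]

lemma mul_map_antipode (J : Ideal A) :
    LinearMap.mul' k (A ⧸ J) ∘ₗ TensorProduct.map
        ((Ideal.Quotient.mkₐ k J).toLinearMap ∘ₗ HopfAlgebra.antipode k)
        (Ideal.Quotient.mkₐ k J).toLinearMap =
      (Ideal.Quotient.mkₐ k J).toLinearMap ∘ₗ LinearMap.mul' k A ∘ₗ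
        (HopfAlgebra.antipode k).rTensor A := by
  refine TensorProduct.ext' fun a b => ?_
  simp

/-- the antipode-twisted coaction is still trivial modulo the stabiliser ideal -/
lemma coact_antipode_mk [Module.Free k V] (W : Submodule k V) {w : V} (hw : w ∈ W) :
    LinearMap.lTensor V ((Ideal.Quotient.mkₐ k (stab W)).toLinearMap ∘ₗ HopfAlgebra.antipode k)
      (ρ k A V w) = w ⊗ₜ[k] (1 : A ⧸ stab W) := by
  set π := (Ideal.Quotient.mkₐ k (stab (A := A) W)).toLinearMap with hπ
  have way1 : LinearMap.lTensor V (LinearMap.mul' k (A ⧸ stab W) ∘ₗ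
      TensorProduct.map (π ∘ₗ HopfAlgebra.antipode k) π)
      ((TensorProduct.assoc k V A A) (LinearMap.rTensor A (ρ k A V) (ρ k A V w))) =
      LinearMap.lTensor V (π ∘ₗ HopfAlgebra.antipode k) (ρ k A V w) := by
    rw [LinearMap.lTensor_comp, LinearMap.coe_comp, Function.comp_apply,
      lTensor_map_assoc_rTensor, coact_mk W hw, LinearMap.rTensor_tmul, LinearMap.coe_comp,
      Function.comp_apply, lTensor_mul_assoc_tmul_one]
  have way2 : LinearMap.lTensor V (LinearMap.mul' k (A ⧸ stab W) ∘ₗ
      TensorProduct.map (π ∘ₗ HopfAlgebra.antipode k) π)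
      ((TensorProduct.assoc k V A A) (LinearMap.rTensor A (ρ k A V) (ρ k A V w))) =
      w ⊗ₜ[k] (1 : A ⧸ stab W) := by
    rw [coassoc_apply (C := A) w, ← LinearMap.comp_apply, ← LinearMap.lTensor_comp, mul_map_antipode,
      LinearMap.comp_assoc, LinearMap.comp_assoc, HopfAlgebra.mul_antipode_rTensor_comul,
      ← LinearMap.comp_assoc, LinearMap.lTensor_comp, LinearMap.comp_apply]
    have h := LinearMap.congr_fun (Comod.counit_comp (k := k) (A := A) (V := V)) w
    simp only [LinearMap.coe_comp, Function.comp_apply, LinearMap.flip_apply,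
      TensorProduct.mk_apply] at h
    rw [h, LinearMap.lTensor_tmul]
    simp
  rw [← way1, way2]

lemma antipode_mem_stab [Module.Free k V] (W : Submodule k V) :
    stab W ≤ (stab W).comap (HopfAlgebra.antipodeAlgHom k A) := by
  refine Ideal.span_le.2 ?_
  rintro a ⟨w, hw, l, rfl⟩
  rw [SetLike.mem_coe, Ideal.mem_comap, ← Ideal.Quotient.eq_zero_iff_mem, map_sub, map_sub,
    sub_eq_zero, AlgHom.commutes]
  have h1 : (Ideal.Quotient.mk (stab W)) ((HopfAlgebra.antipodeAlgHom k A) (sliceL l (ρ k A V w))) =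
      ((Ideal.Quotient.mkₐ k (stab W)).toLinearMap ∘ₗ HopfAlgebra.antipode k)
        (sliceL l (ρ k A V w)) := rfl
  rw [h1, ← sliceL_lTensor, coact_antipode_mk W hw, sliceL_tmul, Algebra.algebraMap_eq_smul_one]
  exact (map_smul (Ideal.Quotient.mkₐ k (stab W)) (l w) (1 : A)).symm

theorem isHopfIdeal_stab [Module.Free k V] (W : Submodule k V) :
    (stab (A := A) W).IsHopfIdeal k where
  counit_eq_zero := fun x hx => stab_le_ker_counit W hx
  map_mkQ_comul_eq_zero := fun x hx => stab_le_ker_comul W hx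
  antipode_mem := fun x hx => antipode_mem_stab W hx

lemma quotInvariants_anti {I J : Ideal A} (h : I ≤ J) :
    GLin.quotInvariants k A V I ≤ GLin.quotInvariants k A V J := by
  intro f hf
  rw [GLin.mem_quotInvariants_iff] at hf ⊢
  have hfac : (Ideal.Quotient.mkₐ k J).toLinearMap =
      (Ideal.Quotient.factorₐ k h).toLinearMap ∘ₗ (Ideal.Quotient.mkₐ k I).toLinearMap := by
    ext a; simp
  rw [hfac, LinearMap.lTensor_comp, LinearMap.comp_apply, hf, LinearMap.lTensor_tmul]
  simp

/-- Invariants under the subgroup generated by a family of closed subgroups: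
for any family `P` of ideals, the invariants of the largest Hopf ideal below every member of `P`
are the common invariants of the members. -/
theorem quotInvariants_sSup_eq [Module.Free k V] (P : Ideal A → Prop) :
    GLin.quotInvariants k A V (sSup {J : Ideal A | J.IsHopfIdeal k ∧ ∀ I : Ideal A, P I → J ≤ I}) =
      ⨅ (I : Ideal A) (_ : P I), GLin.quotInvariants k A V I := by
  apply le_antisymm
  · refine le_iInf fun I => le_iInf fun hI => quotInvariants_anti ?_
    exact sSup_le fun J hJ => hJ.2 I hI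
  · set W := ⨅ (I : Ideal A) (_ : P I), GLin.quotInvariants k A V I with hW
    have h1 : stab W ≤ sSup {J : Ideal A | J.IsHopfIdeal k ∧ ∀ I : Ideal A, P I → J ≤ I} := by
      refine le_sSup ⟨isHopfIdeal_stab W, fun I hI => stab_le W I ?_⟩
      exact (iInf_le _ I).trans (iInf_le _ hI)
    exact (le_quotInvariants_stab W).trans (quotInvariants_anti h1)

end Groth.Agent.Helper7.StabIdeal
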