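import Mathlib
import Groth.Prelude.Def_GLin
import Groth.Prelude.Def_HopfRep

set_option autoImplicit false
set_option linter.unusedSectionVars false
universe u

namespace Groth.Agent.Helper7.StrEt

open TensorProduct

variable (k : Type u) [Field k]
    (A : Type u) [CommRing A] [HopfAlgebra k A]
    (S : Type u) [CommRing S] [Algebra k S] [HopfRep.Comod k A S] [GLin.IsCoactAlg k A S]
    (R : Type u) [CommRing R] [Algebra k R] [HopfRep.Comod k A R] [GLin.IsCoactAlg k A R]
    [Algebra S R] [IsScalarTower k S R]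
    (hequiv : (∀ s : S, HopfRep.Comod.coact (k := k) (A := A) (algebraMap S R s) =
      Algebra.TensorProduct.map (IsScalarTower.toAlgHom k S R) (AlgHom.id k A)
        (HopfRep.Comod.coact (k := k) (A := A) s)))

include hequiv in
theorem orbitHom_comp (x : R →ₐ[k] k) :
    GLin.orbitHom k A (x.comp (IsScalarTower.toAlgHom k S R)) =
      (GLin.orbitHom k A x).comp (IsScalarTower.toAlgHom k S R) := by
  apply AlgHom.ext
  intro s
  have h1 : ∀ z : S ⊗[k] A,
      Algebra.TensorProduct.map x (AlgHom.id k A)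
        (Algebra.TensorProduct.map (IsScalarTower.toAlgHom k S R) (AlgHom.id k A) z) =
      Algebra.TensorProduct.map (x.comp (IsScalarTower.toAlgHom k S R)) (AlgHom.id k A) z := by
    intro z
    induction z using TensorProduct.induction_on with
    | zero => simp
    | tmul s a => simp
    | add z z' hz hz' => rw [map_add, map_add, map_add, hz, hz']
  show (Algebra.TensorProduct.lid k A) (Algebra.TensorProduct.map _ (AlgHom.id k A)
      (HopfRep.Comod.coact (k := k) (A := A) s)) =
    (Algebra.TensorProduct.lid k A) (Algebra.TensorProduct.map x (AlgHom.id k A)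
      (HopfRep.Comod.coact (k := k) (A := A) (algebraMap S R s)))
  rw [hequiv s, h1]

theorem orbitHom_of_mem_invariants (x : R →ₐ[k] k) (f : R) (hf : f ∈ GLin.invariants k A R) :
    GLin.orbitHom k A x f = algebraMap k A (x f) := by
  show (Algebra.TensorProduct.lid k A) (Algebra.TensorProduct.map x (AlgHom.id k A)
      (HopfRep.Comod.coact (k := k) (A := A) f)) = _
  rw [(GLin.mem_invariants_iff k A R f).1 hf, Algebra.TensorProduct.map_tmul,
    Algebra.TensorProduct.lid_tmul, AlgHom.id_apply, Algebra.algebraMap_eq_smul_one]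

variable (S₀ : Type u) [CommRing S₀] [Algebra k S₀] [Algebra S₀ S] [IsScalarTower k S₀ S]
    (R₀ : Type u) [CommRing R₀] [Algebra k R₀] [Algebra R₀ R] [IsScalarTower k R₀ R]
    (hR₀ : (IsScalarTower.toAlgHom k R₀ R).range = GLin.invariants k A R)
    [Algebra S₀ R₀] [Algebra S₀ R] [IsScalarTower S₀ S R] [IsScalarTower S₀ R₀ R]
    (hcart : Function.Bijective (Algebra.TensorProduct.productMap (IsScalarTower.toAlgHom S₀ S R)
      (IsScalarTower.toAlgHom S₀ R₀ R)))

include hR₀ in
theorem orbitHom_algebraMap_R₀ (x : R →ₐ[k] k) (r₀ : R₀) :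
    GLin.orbitHom k A x (algebraMap R₀ R r₀) = algebraMap k A (x (algebraMap R₀ R r₀)) := by
  apply orbitHom_of_mem_invariants
  rw [← hR₀]
  exact ⟨r₀, rfl⟩

include hcart in
theorem etale_of_cart (het₀ : Algebra.Etale S₀ R₀) : Algebra.Etale S R := by
  let φ : S ⊗[S₀] R₀ →ₐ[S] R :=
    Algebra.TensorProduct.productLeftAlgHom (Algebra.ofId S R) (IsScalarTower.toAlgHom S₀ R₀ R)
  have hφ : Function.Bijective φ := by
    have : (φ : S ⊗[S₀] R₀ → R) = Algebra.TensorProduct.productMap (IsScalarTower.toAlgHom S₀ S R)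
        (IsScalarTower.toAlgHom S₀ R₀ R) := by
      funext z
      induction z using TensorProduct.induction_on with
      | zero => simp
      | tmul s r => simp [φ, Algebra.ofId_apply]
      | add z z' hz hz' => rw [map_add, map_add, hz, hz']
    rw [this]
    exact hcart
  exact Algebra.Etale.of_equiv (AlgEquiv.ofBijective φ hφ)

/-- induction principle: `R` is generated by the images of `S` and `R₀`. -/
theorem induction_R {P : R → Prop}
    (hcart : Function.Bijective (Algebra.TensorProduct.productMap (IsScalarTower.toAlgHom S₀ S R)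
      (IsScalarTower.toAlgHom S₀ R₀ R)))
    (hmul : ∀ (s : S) (r₀ : R₀), P (algebraMap S R s * algebraMap R₀ R r₀))
    (hadd : ∀ a b, P a → P b → P (a + b)) (h0 : P 0) (r : R) : P r := by
  obtain ⟨z, rfl⟩ := hcart.2 r
  induction z using TensorProduct.induction_on with
  | zero => rw [map_zero]; exact h0
  | tmul s r₀ => exact hmul s r₀
  | add z z' hz hz' => rw [map_add]; exact hadd _ _ hz hz'

include hequiv hR₀ hcart in
theorem actPt_eq_of_actPt_comp_eq (x : R →ₐ[k] k) (g : A →ₐ[k] k)
    (hg : GLin.actPt k g (x.comp (IsScalarTower.toAlgHom k S R)) =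
      x.comp (IsScalarTower.toAlgHom k S R)) : GLin.actPt k g x = x := by
  apply AlgHom.ext
  intro r
  refine induction_R S R S₀ R₀ (P := fun r => GLin.actPt k g x r = x r) hcart ?_ ?_ ?_ r
  · intro s r₀
    rw [map_mul, map_mul]
    congr 1
    · have h1 := DFunLike.congr_fun hg s
      have h2 := DFunLike.congr_fun (orbitHom_comp k A S R hequiv x) s
      show g (GLin.orbitHom k A x (algebraMap S R s)) = x (algebraMap S R s)
      have h3 : g (GLin.orbitHom k A (x.comp (IsScalarTower.toAlgHom k S R)) s) =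
          x (algebraMap S R s) := h1
      rw [h2] at h3
      exact h3
    · show g (GLin.orbitHom k A x (algebraMap R₀ R r₀)) = x (algebraMap R₀ R r₀)
      rw [orbitHom_algebraMap_R₀ k A R R₀ hR₀, AlgHom.commutes]
      rfl
  · intro a b ha hb
    rw [map_add, map_add, ha, hb]
  · rw [map_zero, map_zero]

include hequiv hR₀ hcart in
theorem isClosedOrbit_iff (x : R →ₐ[k] k) :
    GLin.IsClosedOrbit k A x ↔ GLin.IsClosedOrbit k A (x.comp (IsScalarTower.toAlgHom k S R)) := by
  unfold GLin.IsClosedOrbit
  rw [orbitHom_comp k A S R hequiv x]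
  set o := GLin.orbitHom k A x with ho
  let m : Ideal R := Ideal.map (algebraMap R₀ R)
    (RingHom.ker (x.comp (IsScalarTower.toAlgHom k R₀ R)))
  have hm : m ≤ RingHom.ker o.toRingHom := by
    rw [Ideal.map_le_iff_le_comap]
    intro r₀ hr₀
    rw [Ideal.mem_comap, RingHom.mem_ker]
    have h1 : x (algebraMap R₀ R r₀) = 0 := hr₀
    show o (algebraMap R₀ R r₀) = 0
    rw [ho, orbitHom_algebraMap_R₀ k A R R₀ hR₀, h1, map_zero]
  let ō : R ⧸ m →+* A := Ideal.Quotient.lift m o.toRingHom (fun a ha => hm ha)
  have hō : o.toRingHom = ō.comp (Ideal.Quotient.mk m) := by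
    ext r
    simp [ō]
  let q : S →+* R ⧸ m := (Ideal.Quotient.mk m).comp (algebraMap S R)
  have hq : Function.Surjective q := by
    intro rb
    obtain ⟨r, rfl⟩ := Ideal.Quotient.mk_surjective rb
    refine induction_R S R S₀ R₀ (P := fun r => ∃ s, q s = Ideal.Quotient.mk m r) hcart ?_ ?_ ?_ r
    · intro s r₀
      refine ⟨x (algebraMap R₀ R r₀) • s, ?_⟩
      have h1 : Ideal.Quotient.mk m (algebraMap R₀ R r₀) =
          Ideal.Quotient.mk m (algebraMap k R (x (algebraMap R₀ R r₀))) := by
        rw [Ideal.Quotient.eq]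
        have h2 : r₀ - algebraMap k R₀ (x (algebraMap R₀ R r₀)) ∈
            RingHom.ker (x.comp (IsScalarTower.toAlgHom k R₀ R)) := by
          rw [RingHom.mem_ker, map_sub, AlgHom.commutes]
          show x (algebraMap R₀ R r₀) - algebraMap k k _ = 0
          rw [Algebra.algebraMap_self, RingHom.id_apply, sub_self]
        have h3 := Ideal.mem_map_of_mem (algebraMap R₀ R) h2
        rw [map_sub, ← IsScalarTower.algebraMap_apply] at h3
        exact h3
      show Ideal.Quotient.mk m (algebraMap S R (x (algebraMap R₀ R r₀) • s)) = _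
      rw [map_mul, h1, ← map_mul, Algebra.smul_def, map_mul, ← IsScalarTower.algebraMap_apply,
        mul_comm]
    · rintro a b ⟨s, hs⟩ ⟨s', hs'⟩
      exact ⟨s + s', by rw [map_add, map_add, hs, hs']⟩
    · exact ⟨0, by rw [map_zero, map_zero]⟩
  have hoy : (o.comp (IsScalarTower.toAlgHom k S R)).toRingHom = ō.comp q := by
    ext s
    show o (algebraMap S R s) = ō (Ideal.Quotient.mk m (algebraMap S R s))
    rw [Ideal.Quotient.lift_mk]
    rfl
  rw [hoy, hō, PrimeSpectrum.comap_comp, PrimeSpectrum.comap_comp]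
  show IsClosed (Set.range (PrimeSpectrum.comap (Ideal.Quotient.mk m) ∘ PrimeSpectrum.comap ō)) ↔
    IsClosed (Set.range (PrimeSpectrum.comap q ∘ PrimeSpectrum.comap ō))
  rw [Set.range_comp, Set.range_comp,
    ← (PrimeSpectrum.isClosedEmbedding_comap_of_surjective _ _
      Ideal.Quotient.mk_surjective).isClosed_iff_image_isClosed,
    ← (PrimeSpectrum.isClosedEmbedding_comap_of_surjective _ _ hq).isClosed_iff_image_isClosed]

end Groth.Agent.Helper7.StrEt
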