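import Mathlib

set_option autoImplicit false
universe u
open TensorProduct

namespace Groth.Agent.Helper7.StrEtB

/-- factor a ring hom through an injective one with larger range -/
theorem exists_factor {X Y Z : Type*} [CommRing X] [CommRing Y] [CommRing Z] (f : X →+* Z)
    (g : Y →+* Z) (hg : Function.Injective g) (h : ∀ x, ∃ y, g y = f x) :
    ∃ α : X →+* Y, ∀ x, g (α x) = f x := by
  choose a ha using h
  exact ⟨{ toFun := a
           map_one' := hg (by rw [ha, map_one, map_one])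
           map_mul' := fun x y => hg (by rw [ha, map_mul, map_mul, ha, ha])
           map_zero' := hg (by rw [ha, map_zero, map_zero])
           map_add' := fun x y => hg (by rw [ha, map_add, map_add, ha, ha]) }, ha⟩

section Et

variable (S₀ R₀ S₁ R₁ : Type u) [CommRing S₀] [CommRing R₀] [CommRing S₁] [CommRing R₁]
  [Algebra S₀ R₀] [Algebra S₁ R₁]

/-- if `S₁` is a quotient of `S₀` and `R₁ = R₀ / (ker) R₀` compatibly, then étaleness descends -/
theorem etale_of_quot (het₀ : Algebra.Etale S₀ R₀)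
    (α : S₀ →+* S₁) (β : R₀ →+* R₁) (hα : Function.Surjective α) (hβ : Function.Surjective β)
    (hcompat : ∀ s₀, β (algebraMap S₀ R₀ s₀) = algebraMap S₁ R₁ (α s₀))
    (hker : ∀ ρ, β ρ = 0 → ρ ∈ (RingHom.ker α).map (algebraMap S₀ R₀)) :
    Algebra.Etale S₁ R₁ := by
  letI a1 : Algebra S₀ S₁ := α.toAlgebra
  letI a2 : Algebra S₀ R₁ := (β.comp (algebraMap S₀ R₀)).toAlgebra
  haveI t1 : IsScalarTower S₀ S₁ R₁ := IsScalarTower.of_algebraMap_eq (fun x => hcompat x)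
  let βa : R₀ →ₐ[S₀] R₁ := { β with commutes' := fun _ => rfl }
  have hβa : ∀ ρ, βa ρ = β ρ := fun _ => rfl
  let Ψ : S₁ ⊗[S₀] R₀ →ₐ[S₁] R₁ :=
    Algebra.TensorProduct.lift (Algebra.ofId S₁ R₁) βa (fun _ _ => Commute.all _ _)
  have hΨ : ∀ (s : S₁) (ρ : R₀), Ψ (s ⊗ₜ ρ) = algebraMap S₁ R₁ s * β ρ := fun s ρ => rfl
  have hone : ∀ x : S₁ ⊗[S₀] R₀, ∃ ρ : R₀, x = (1 : S₁) ⊗ₜ[S₀] ρ := by
    intro x
    induction x using TensorProduct.induction_on with
    | zero => exact ⟨0, (TensorProduct.tmul_zero _ _).symm⟩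
    | tmul s ρ =>
      obtain ⟨s₀, rfl⟩ := hα s
      refine ⟨s₀ • ρ, ?_⟩
      rw [← TensorProduct.smul_tmul]
      congr 1
      rw [Algebra.smul_def, mul_one]
      rfl
    | add x y hx hy =>
      obtain ⟨a, rfl⟩ := hx
      obtain ⟨b, rfl⟩ := hy
      exact ⟨a + b, (TensorProduct.tmul_add _ _ _).symm⟩
  have hzero : ∀ ρ ∈ (RingHom.ker α).map (algebraMap S₀ R₀), (1 : S₁) ⊗ₜ[S₀] ρ = 0 := by
    intro ρ hρ
    rw [Ideal.map] at hρ
    induction hρ using Submodule.span_induction with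
    | mem x hx =>
      obtain ⟨t, ht, rfl⟩ := hx
      have h1 : algebraMap S₀ R₀ t = t • (1 : R₀) := by rw [Algebra.smul_def, mul_one]
      rw [h1, ← TensorProduct.smul_tmul]
      have h2 : t • (1 : S₁) = 0 := by
        rw [Algebra.smul_def, mul_one]
        exact ht
      rw [h2, TensorProduct.zero_tmul]
    | zero => exact TensorProduct.tmul_zero _ _
    | add x y _ _ hx hy => rw [TensorProduct.tmul_add, hx, hy, add_zero]
    | smul r x _ hx =>
      have : (1 : S₁) ⊗ₜ[S₀] (r • x) = ((1 : S₁) ⊗ₜ[S₀] r) * ((1 : S₁) ⊗ₜ[S₀] x) := by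
        rw [Algebra.TensorProduct.tmul_mul_tmul, one_mul, smul_eq_mul]
      rw [this, hx, mul_zero]
  have hbij : Function.Bijective Ψ := by
    constructor
    · rw [injective_iff_map_eq_zero]
      intro x hx
      obtain ⟨ρ, rfl⟩ := hone x
      rw [hΨ, map_one, one_mul] at hx
      exact hzero ρ (hker ρ hx)
    · intro r₁
      obtain ⟨ρ, rfl⟩ := hβ r₁
      exact ⟨1 ⊗ₜ ρ, by rw [hΨ, map_one, one_mul]⟩
  haveI := het₀
  exact Algebra.Etale.of_equiv (AlgEquiv.ofBijective Ψ hbij)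

end Et

section Cart

variable (S₀ S R₀ R : Type u) [CommRing S₀] [CommRing S] [CommRing R₀] [CommRing R]
  [Algebra S₀ S] [Algebra S₀ R₀] [Algebra S R] [Algebra R₀ R] [Algebra S₀ R]
  [IsScalarTower S₀ S R] [IsScalarTower S₀ R₀ R]
  (J : Ideal S)
  (S₁ R₁ : Type u) [CommRing S₁] [CommRing R₁]
  [Algebra S₁ (S ⧸ J)] [Algebra R₁ (R ⧸ J.map (algebraMap S R))] [Algebra S₁ R₁]
  [Algebra S₁ (R ⧸ J.map (algebraMap S R))]
  [IsScalarTower S₁ (S ⧸ J) (R ⧸ J.map (algebraMap S R))]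
  [IsScalarTower S₁ R₁ (R ⧸ J.map (algebraMap S R))]

theorem cart_of_quot
    (hcart : Function.Bijective (Algebra.TensorProduct.productMap
      (IsScalarTower.toAlgHom S₀ S R) (IsScalarTower.toAlgHom S₀ R₀ R)))
    (α : S₀ →+* S₁) (β : R₀ →+* R₁) (hβ : Function.Surjective β)
    (hα' : ∀ s₀, algebraMap S₁ (S ⧸ J) (α s₀) = Ideal.Quotient.mk J (algebraMap S₀ S s₀))
    (hβ' : ∀ ρ, algebraMap R₁ (R ⧸ J.map (algebraMap S R)) (β ρ) =
      Ideal.Quotient.mk _ (algebraMap R₀ R ρ))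
    (hcompat : ∀ s₀, β (algebraMap S₀ R₀ s₀) = algebraMap S₁ R₁ (α s₀)) :
    Function.Bijective (Algebra.TensorProduct.productMap
        (IsScalarTower.toAlgHom S₁ (S ⧸ J) (R ⧸ J.map (algebraMap S R)))
        (IsScalarTower.toAlgHom S₁ R₁ (R ⧸ J.map (algebraMap S R)))) := by
  set PMR := Algebra.TensorProduct.productMap
      (IsScalarTower.toAlgHom S₀ S R) (IsScalarTower.toAlgHom S₀ R₀ R) with hPMR
  set PMT := Algebra.TensorProduct.productMap
        (IsScalarTower.toAlgHom S₁ (S ⧸ J) (R ⧸ J.map (algebraMap S R)))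
        (IsScalarTower.toAlgHom S₁ R₁ (R ⧸ J.map (algebraMap S R))) with hPMT
  have hPMRt : ∀ (s : S) (ρ : R₀), PMR (s ⊗ₜ ρ) = algebraMap S R s * algebraMap R₀ R ρ :=
    fun s ρ => rfl
  have hPMTt : ∀ (q : S ⧸ J) (r : R₁), PMT (q ⊗ₜ r) =
      algebraMap (S ⧸ J) (R ⧸ J.map (algebraMap S R)) q *
        algebraMap R₁ (R ⧸ J.map (algebraMap S R)) r := fun q r => rfl
  -- the S₀-algebra structure on T and the map π
  letI algT : Algebra S₀ ((S ⧸ J) ⊗[S₁] R₁) :=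
    ((algebraMap S₁ ((S ⧸ J) ⊗[S₁] R₁)).comp α).toAlgebra
  have halgT : ∀ s₀ : S₀, algebraMap S₀ ((S ⧸ J) ⊗[S₁] R₁) s₀ =
      (Ideal.Quotient.mk J (algebraMap S₀ S s₀)) ⊗ₜ[S₁] (1 : R₁) := by
    intro s₀
    show algebraMap S₁ ((S ⧸ J) ⊗[S₁] R₁) (α s₀) = _
    rw [Algebra.TensorProduct.algebraMap_apply, hα']
  let fa : S →ₐ[S₀] (S ⧸ J) ⊗[S₁] R₁ :=
    { toRingHom := (Algebra.TensorProduct.includeLeftRingHom).comp (Ideal.Quotient.mk J)
      commutes' := fun s₀ => (halgT s₀).symm }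
  have hfa : ∀ s : S, fa s = (Ideal.Quotient.mk J s) ⊗ₜ[S₁] (1 : R₁) := fun s => rfl
  let ga : R₀ →ₐ[S₀] (S ⧸ J) ⊗[S₁] R₁ :=
    { toRingHom := (Algebra.TensorProduct.includeRight (R := S₁) (A := S ⧸ J)
          (B := R₁)).toRingHom.comp β
      commutes' := fun s₀ => by
        show (1 : S ⧸ J) ⊗ₜ[S₁] β (algebraMap S₀ R₀ s₀) = _
        rw [halgT, hcompat, ← hα']
        have h1 : algebraMap S₁ R₁ (α s₀) = α s₀ • (1 : R₁) := by
          rw [Algebra.smul_def, mul_one]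
        have h2 : algebraMap S₁ (S ⧸ J) (α s₀) = α s₀ • (1 : S ⧸ J) := by
          rw [Algebra.smul_def, mul_one]
        rw [h1, h2, TensorProduct.smul_tmul] }
  have hga : ∀ ρ : R₀, ga ρ = (1 : S ⧸ J) ⊗ₜ[S₁] β ρ := fun ρ => rfl
  let π : S ⊗[S₀] R₀ →ₐ[S₀] (S ⧸ J) ⊗[S₁] R₁ := Algebra.TensorProduct.productMap fa ga
  have hπ : ∀ (s : S) (ρ : R₀), π (s ⊗ₜ ρ) = (Ideal.Quotient.mk J s) ⊗ₜ[S₁] β ρ := by
    intro s ρ
    show fa s * ga ρ = _
    rw [hfa, hga, Algebra.TensorProduct.tmul_mul_tmul, mul_one, one_mul]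
  -- commutation
  have hcomm : ∀ z : S ⊗[S₀] R₀, PMT (π z) = Ideal.Quotient.mk _ (PMR z) := by
    intro z
    induction z using TensorProduct.induction_on with
    | zero => simp
    | tmul s ρ =>
      rw [hπ, hPMTt, hPMRt, hβ', Ideal.Quotient.algebraMap_quotient_map_quotient, map_mul]
    | add x y hx hy => rw [map_add, map_add, hx, hy, map_add, map_add]
  have hπsurj : Function.Surjective π := by
    intro x
    induction x using TensorProduct.induction_on with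
    | zero => exact ⟨0, map_zero _⟩
    | tmul q r =>
      obtain ⟨s, rfl⟩ := Ideal.Quotient.mk_surjective q
      obtain ⟨ρ, rfl⟩ := hβ r
      exact ⟨s ⊗ₜ ρ, hπ s ρ⟩
    | add x y hx hy =>
      obtain ⟨a, rfl⟩ := hx
      obtain ⟨b, rfl⟩ := hy
      exact ⟨a + b, map_add _ _ _⟩
  -- kernel
  have hkerπ : ∀ z : S ⊗[S₀] R₀, PMR z ∈ J.map (algebraMap S R) → π z = 0 := by
    intro z hz
    have hN : J.map (Algebra.TensorProduct.includeLeftRingHom : S →+* S ⊗[S₀] R₀) ≤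
        RingHom.ker (π : S ⊗[S₀] R₀ →+* (S ⧸ J) ⊗[S₁] R₁) := by
      rw [Ideal.map_le_iff_le_comap]
      intro j hj
      rw [Ideal.mem_comap, RingHom.mem_ker]
      show π (j ⊗ₜ (1 : R₀)) = 0
      rw [hπ, Ideal.Quotient.eq_zero_iff_mem.mpr hj, TensorProduct.zero_tmul]
    have hmap : (J.map (Algebra.TensorProduct.includeLeftRingHom : S →+* S ⊗[S₀] R₀)).map
        (PMR : S ⊗[S₀] R₀ →+* R) = J.map (algebraMap S R) := by
      rw [Ideal.map_map]
      congr 1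
      ext s
      show PMR (s ⊗ₜ (1 : R₀)) = _
      rw [hPMRt, map_one, mul_one]
    rw [← hmap] at hz
    obtain ⟨n, hn, hnz⟩ :=
      (Ideal.mem_map_iff_of_surjective (PMR : S ⊗[S₀] R₀ →+* R) hcart.2).1 hz
    have : n = z := hcart.1 hnz
    subst this
    exact hN hn
  constructor
  · rw [injective_iff_map_eq_zero]
    intro x hx
    obtain ⟨z, rfl⟩ := hπsurj x
    rw [hcomm, Ideal.Quotient.eq_zero_iff_mem] at hx
    exact hkerπ z hx
  · intro y
    obtain ⟨r, rfl⟩ := Ideal.Quotient.mk_surjective y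
    obtain ⟨z, rfl⟩ := hcart.2 r
    exact ⟨π z, hcomm z⟩

theorem main_B
    (hS₁i : Function.Injective (algebraMap S₁ (S ⧸ J)))
    (hR₁i : Function.Injective (algebraMap R₁ (R ⧸ J.map (algebraMap S R))))
    (het : Algebra.Etale S R) (het₀ : Algebra.Etale S₀ R₀)
    (hcart : Function.Bijective (Algebra.TensorProduct.productMap
      (IsScalarTower.toAlgHom S₀ S R) (IsScalarTower.toAlgHom S₀ R₀ R)))
    (hS₁r : ∀ x : S ⧸ J, x ∈ Set.range (algebraMap S₁ (S ⧸ J)) ↔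
      ∃ s₀ : S₀, Ideal.Quotient.mk J (algebraMap S₀ S s₀) = x)
    (hR₁r : ∀ y : R ⧸ J.map (algebraMap S R),
      y ∈ Set.range (algebraMap R₁ (R ⧸ J.map (algebraMap S R))) ↔
      ∃ ρ : R₀, Ideal.Quotient.mk (J.map (algebraMap S R)) (algebraMap R₀ R ρ) = y)
    (hker : ∀ ρ : R₀, algebraMap R₀ R ρ ∈ J.map (algebraMap S R) →
      ρ ∈ (J.comap (algebraMap S₀ S)).map (algebraMap S₀ R₀)) :
    Algebra.Etale (S ⧸ J) (R ⧸ J.map (algebraMap S R)) ∧ Algebra.Etale S₁ R₁ ∧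
      Function.Bijective (Algebra.TensorProduct.productMap
        (IsScalarTower.toAlgHom S₁ (S ⧸ J) (R ⧸ J.map (algebraMap S R)))
        (IsScalarTower.toAlgHom S₁ R₁ (R ⧸ J.map (algebraMap S R)))) := by
  obtain ⟨α, hα'⟩ := exists_factor ((Ideal.Quotient.mk J).comp (algebraMap S₀ S))
    (algebraMap S₁ (S ⧸ J)) hS₁i (fun s₀ => (hS₁r _).2 ⟨s₀, rfl⟩)
  obtain ⟨β, hβ'⟩ := exists_factor
    ((Ideal.Quotient.mk (J.map (algebraMap S R))).comp (algebraMap R₀ R))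
    (algebraMap R₁ (R ⧸ J.map (algebraMap S R))) hR₁i (fun ρ => (hR₁r _).2 ⟨ρ, rfl⟩)
  have hα'' : ∀ s₀, algebraMap S₁ (S ⧸ J) (α s₀) = Ideal.Quotient.mk J (algebraMap S₀ S s₀) :=
    hα'
  have hβ'' : ∀ ρ, algebraMap R₁ (R ⧸ J.map (algebraMap S R)) (β ρ) =
      Ideal.Quotient.mk _ (algebraMap R₀ R ρ) := hβ'
  have hαs : Function.Surjective α := by
    intro t
    obtain ⟨s₀, hs₀⟩ := (hS₁r (algebraMap S₁ (S ⧸ J) t)).1 ⟨t, rfl⟩
    exact ⟨s₀, hS₁i (by rw [hα'', hs₀])⟩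
  have hβs : Function.Surjective β := by
    intro t
    obtain ⟨ρ, hρ⟩ := (hR₁r (algebraMap R₁ _ t)).1 ⟨t, rfl⟩
    exact ⟨ρ, hR₁i (by rw [hβ'', hρ])⟩
  have hcompat : ∀ s₀, β (algebraMap S₀ R₀ s₀) = algebraMap S₁ R₁ (α s₀) := by
    intro s₀
    apply hR₁i
    rw [hβ'', ← IsScalarTower.algebraMap_apply S₀ R₀ R,
      ← IsScalarTower.algebraMap_apply S₁ R₁ (R ⧸ J.map (algebraMap S R)),
      IsScalarTower.algebraMap_apply S₁ (S ⧸ J) (R ⧸ J.map (algebraMap S R)), hα'',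
      Ideal.Quotient.algebraMap_quotient_map_quotient,
      ← IsScalarTower.algebraMap_apply S₀ S R]
  have hkerα : RingHom.ker α = J.comap (algebraMap S₀ S) := by
    ext s₀
    rw [RingHom.mem_ker, Ideal.mem_comap, ← Ideal.Quotient.eq_zero_iff_mem, ← hα'']
    constructor
    · intro h
      rw [h, map_zero]
    · intro h
      apply hS₁i
      rw [h, map_zero]
  refine ⟨?_, ?_, ?_⟩
  · haveI := het
    exact Algebra.Etale.of_equiv (Algebra.TensorProduct.quotIdealMapEquivQuotTensor R J).symm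
  · refine etale_of_quot S₀ R₀ S₁ R₁ het₀ α β hαs hβs hcompat ?_
    intro ρ hρ
    rw [hkerα]
    apply hker
    rw [← Ideal.Quotient.eq_zero_iff_mem, ← hβ'', hρ, map_zero]
  · exact cart_of_quot S₀ S R₀ R J S₁ R₁ hcart α β hβs hα'' hβ'' hcompat

end Cart

end Groth.Agent.Helper7.StrEtB
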