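import Mathlib
import Groth.Agent.Helper9.Reynolds2
import Groth.Agent.Helper7.StrEtB

set_option autoImplicit false
universe u
open TensorProduct

namespace Groth.Agent.Helper7.StrEtC

open Groth.Agent.Helper9

section

variable {k : Type u} [Field k] {A : Type u} [CommRing A] [HopfAlgebra k A]
variable {X Y : Type u} [CommRing X] [Algebra k X] [HopfRep.Comod k A X]
  [CommRing Y] [Algebra k Y] [HopfRep.Comod k A Y]

theorem isComodHom_of_algHom (f : X →ₐ[k] Y)
    (h : ∀ x, HopfRep.Comod.coact (k := k) (A := A) (f x) =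
      Algebra.TensorProduct.map f (AlgHom.id k A) (HopfRep.Comod.coact (k := k) (A := A) x)) :
    Hoch.IsComodHom A f.toLinearMap := by
  apply LinearMap.ext
  intro x
  simp only [LinearMap.comp_apply]
  rw [AlgHom.toLinearMap_apply, h]
  generalize HopfRep.Comod.coact (k := k) (A := A) x = z
  induction z using TensorProduct.induction_on with
  | zero => simp
  | tmul s a => simp
  | add z z' hz hz' => rw [map_add, map_add, hz, hz']

end

theorem main_A (k : Type u) [Field k]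
    (A : Type u) [CommRing A] [HopfAlgebra k A] (hG : HopfRep.IsLinearlyReductive k A)
    (S : Type u) [CommRing S] [Algebra k S] [HopfRep.Comod k A S] [GLin.IsCoactAlg k A S]
    (R : Type u) [CommRing R] [Algebra k R] [HopfRep.Comod k A R] [GLin.IsCoactAlg k A R]
    [Algebra S R] [IsScalarTower k S R]
    (hequiv : (∀ s : S, HopfRep.Comod.coact (k := k) (A := A) (algebraMap S R s) =
      Algebra.TensorProduct.map (IsScalarTower.toAlgHom k S R) (AlgHom.id k A) (HopfRep.Comod.coact (k := k) (A := A) s)))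
    (S₀ : Type u) [CommRing S₀] [Algebra k S₀] [Algebra S₀ S] [IsScalarTower k S₀ S]
    (hS₀ : (IsScalarTower.toAlgHom k S₀ S).range = GLin.invariants k A S)
    (R₀ : Type u) [CommRing R₀] [Algebra k R₀] [Algebra R₀ R] [IsScalarTower k R₀ R]
    (hR₀i : Function.Injective (algebraMap R₀ R)) (hR₀ : (IsScalarTower.toAlgHom k R₀ R).range = GLin.invariants k A R)
    [Algebra S₀ R₀] [Algebra S₀ R] [IsScalarTower S₀ S R] [IsScalarTower S₀ R₀ R]
    (hcart : Function.Surjective (Algebra.TensorProduct.productMap (IsScalarTower.toAlgHom S₀ S R) (IsScalarTower.toAlgHom S₀ R₀ R)))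
    (J : Ideal S)
    [HopfRep.Comod k A (S ⧸ J)] [GLin.IsCoactAlg k A (S ⧸ J)]
    (hqS : (∀ s : S, HopfRep.Comod.coact (k := k) (A := A) ((Ideal.Quotient.mkₐ k J) s) =
        Algebra.TensorProduct.map (Ideal.Quotient.mkₐ k J) (AlgHom.id k A) (HopfRep.Comod.coact (k := k) (A := A) s)))
    [HopfRep.Comod k A (R ⧸ J.map (algebraMap S R))] [GLin.IsCoactAlg k A (R ⧸ J.map (algebraMap S R))]
    (hqR : (∀ s : R, HopfRep.Comod.coact (k := k) (A := A) ((Ideal.Quotient.mkₐ k (J.map (algebraMap S R))) s) =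
        Algebra.TensorProduct.map (Ideal.Quotient.mkₐ k (J.map (algebraMap S R))) (AlgHom.id k A) (HopfRep.Comod.coact (k := k) (A := A) s)))
    (S₁ : Type u) [CommRing S₁] [Algebra k S₁] [Algebra S₁ (S ⧸ J)] [IsScalarTower k S₁ (S ⧸ J)]
    (hS₁ : (IsScalarTower.toAlgHom k S₁ (S ⧸ J)).range = GLin.invariants k A (S ⧸ J))
    (R₁ : Type u) [CommRing R₁] [Algebra k R₁] [Algebra R₁ (R ⧸ J.map (algebraMap S R))] [IsScalarTower k R₁ (R ⧸ J.map (algebraMap S R))]
    (hR₁ : (IsScalarTower.toAlgHom k R₁ (R ⧸ J.map (algebraMap S R))).range = GLin.invariants k A (R ⧸ J.map (algebraMap S R))) :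
    (∀ x : S ⧸ J, x ∈ Set.range (algebraMap S₁ (S ⧸ J)) ↔
      ∃ s₀ : S₀, Ideal.Quotient.mk J (algebraMap S₀ S s₀) = x) ∧
    (∀ y : R ⧸ J.map (algebraMap S R),
      y ∈ Set.range (algebraMap R₁ (R ⧸ J.map (algebraMap S R))) ↔
      ∃ ρ : R₀, Ideal.Quotient.mk (J.map (algebraMap S R)) (algebraMap R₀ R ρ) = y) ∧
    (∀ ρ : R₀, algebraMap R₀ R ρ ∈ J.map (algebraMap S R) →
      ρ ∈ (J.comap (algebraMap S₀ S)).map (algebraMap S₀ R₀)) := by
  have hssS : HopfRep.IsSemisimpleComod k A S :=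
    semisimple_of_finite (fun V' _ _ _ hf => hG V' hf)
  have hssR : HopfRep.IsSemisimpleComod k A R :=
    semisimple_of_finite (fun V' _ _ _ hf => hG V' hf)
  have hssQS : HopfRep.IsSemisimpleComod k A (S ⧸ J) :=
    semisimple_of_finite (fun V' _ _ _ hf => hG V' hf)
  have hssQR : HopfRep.IsSemisimpleComod k A (R ⧸ J.map (algebraMap S R)) :=
    semisimple_of_finite (fun V' _ _ _ hf => hG V' hf)
  obtain ⟨ES, hES1, hES2, hES3⟩ := exists_reynolds hssS
  obtain ⟨ER, hER1, hER2, hER3⟩ := exists_reynolds hssR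
  obtain ⟨EQS, hEQS1, hEQS2, hEQS3⟩ := exists_reynolds hssQS
  obtain ⟨EQR, hEQR1, hEQR2, hEQR3⟩ := exists_reynolds hssQR
  have hφ : Hoch.IsComodHom A (IsScalarTower.toAlgHom k S R).toLinearMap :=
    isComodHom_of_algHom _ hequiv
  have hmS : Hoch.IsComodHom A (Ideal.Quotient.mkₐ k J).toLinearMap :=
    isComodHom_of_algHom _ hqS
  have hmR : Hoch.IsComodHom A (Ideal.Quotient.mkₐ k (J.map (algebraMap S R))).toLinearMap :=
    isComodHom_of_algHom _ hqR
  -- commutation of Reynolds operators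
  have c1 : ∀ s : S, ER (algebraMap S R s) = algebraMap S R (ES s) := fun s =>
    reynolds_comm hssS ES hES1 hES2 hES3 ER hER1 hER2 hER3 _ hφ s
  have c2 : ∀ s : S, EQS (Ideal.Quotient.mk J s) = Ideal.Quotient.mk J (ES s) := fun s =>
    reynolds_comm hssS ES hES1 hES2 hES3 EQS hEQS1 hEQS2 hEQS3 _ hmS s
  have c3 : ∀ r : R, EQR (Ideal.Quotient.mk _ r) = Ideal.Quotient.mk _ (ER r) := fun r =>
    reynolds_comm hssR ER hER1 hER2 hER3 EQR hEQR1 hEQR2 hEQR3 _ hmR r
  -- values of the Reynolds operators come from the invariant rings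
  have vS : ∀ s : S, ∃ s₀ : S₀, algebraMap S₀ S s₀ = ES s := by
    intro s
    have h1 : ES s ∈ GLin.invariants k A S := (hES3 _).1 (hES2 s)
    rw [← hS₀] at h1
    obtain ⟨s₀, hs₀⟩ := h1
    exact ⟨s₀, hs₀⟩
  have vR : ∀ r : R, ∃ ρ : R₀, algebraMap R₀ R ρ = ER r := by
    intro r
    have h1 : ER r ∈ GLin.invariants k A R := (hER3 _).1 (hER2 r)
    rw [← hR₀] at h1
    obtain ⟨ρ, hρ⟩ := h1
    exact ⟨ρ, hρ⟩
  have iS : ∀ s₀ : S₀, algebraMap S₀ S s₀ ∈ HopfRep.fixedPts k A S := by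
    intro s₀
    have : algebraMap S₀ S s₀ ∈ GLin.invariants k A S := by
      rw [← hS₀]; exact ⟨s₀, rfl⟩
    exact this
  have iR : ∀ ρ : R₀, algebraMap R₀ R ρ ∈ HopfRep.fixedPts k A R := by
    intro ρ
    have : algebraMap R₀ R ρ ∈ GLin.invariants k A R := by
      rw [← hR₀]; exact ⟨ρ, rfl⟩
    exact this
  have hESJ : ∀ j ∈ J, ES j ∈ J := by
    intro j hj
    rw [← Ideal.Quotient.eq_zero_iff_mem, ← c2, Ideal.Quotient.eq_zero_iff_mem.mpr hj, map_zero]
  refine ⟨?_, ?_, ?_⟩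
  · intro x
    have hx : x ∈ Set.range (algebraMap S₁ (S ⧸ J)) ↔ x ∈ GLin.invariants k A (S ⧸ J) := by
      rw [← hS₁]; rfl
    rw [hx]
    constructor
    · intro hxi
      obtain ⟨s, rfl⟩ := Ideal.Quotient.mk_surjective x
      have h1 : EQS (Ideal.Quotient.mk J s) = Ideal.Quotient.mk J s := (hEQS3 _).2 hxi
      obtain ⟨s₀, hs₀⟩ := vS s
      exact ⟨s₀, by rw [hs₀, ← c2, h1]⟩
    · rintro ⟨s₀, rfl⟩
      exact map_mem_fixedPts hmS (iS s₀)
  · intro y
    have hy : y ∈ Set.range (algebraMap R₁ (R ⧸ J.map (algebraMap S R))) ↔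
        y ∈ GLin.invariants k A (R ⧸ J.map (algebraMap S R)) := by
      rw [← hR₁]; rfl
    rw [hy]
    constructor
    · intro hyi
      obtain ⟨r, rfl⟩ := Ideal.Quotient.mk_surjective y
      have h1 : EQR (Ideal.Quotient.mk _ r) = Ideal.Quotient.mk _ r := (hEQR3 _).2 hyi
      obtain ⟨ρ, hρ⟩ := vR r
      exact ⟨ρ, by rw [hρ, ← c3, h1]⟩
    · rintro ⟨ρ, rfl⟩
      exact map_mem_fixedPts hmR (iR ρ)
  · -- the kernel
    set I₀ := (J.comap (algebraMap S₀ S)).map (algebraMap S₀ R₀) with hI₀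
    have key : ∀ j ∈ J, ∀ r : R, ∃ ρ' ∈ I₀, ER (r * algebraMap S R j) = algebraMap R₀ R ρ' := by
      intro j hj r
      obtain ⟨z, rfl⟩ := hcart r
      induction z using TensorProduct.induction_on with
      | zero => exact ⟨0, I₀.zero_mem, by simp⟩
      | tmul s ρ₁ =>
        obtain ⟨t, ht⟩ := vS (s * j)
        have htJ : t ∈ J.comap (algebraMap S₀ S) := by
          rw [Ideal.mem_comap, ht]
          exact hESJ _ (J.mul_mem_left s hj)
        refine ⟨ρ₁ * algebraMap S₀ R₀ t, I₀.mul_mem_left _ (Ideal.mem_map_of_mem _ htJ), ?_⟩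
        have h1 : Algebra.TensorProduct.productMap (IsScalarTower.toAlgHom S₀ S R)
            (IsScalarTower.toAlgHom S₀ R₀ R) (s ⊗ₜ ρ₁) * algebraMap S R j =
            algebraMap R₀ R ρ₁ * algebraMap S R (s * j) := by
          rw [Algebra.TensorProduct.productMap_apply_tmul, map_mul]
          simp only [IsScalarTower.coe_toAlgHom']
          ring
        rw [h1, reynolds_mul hssR ER hER1 hER2 hER3 _ (iR ρ₁), c1, ← ht, map_mul,
          ← IsScalarTower.algebraMap_apply S₀ R₀ R, ← IsScalarTower.algebraMap_apply S₀ S R]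
      | add x y hx hy =>
        obtain ⟨a, ha, ha'⟩ := hx
        obtain ⟨b, hb, hb'⟩ := hy
        exact ⟨a + b, I₀.add_mem ha hb, by rw [map_add, add_mul, map_add, ha', hb', map_add]⟩
    have key2 : ∀ y ∈ J.map (algebraMap S R), ∀ r : R, ∃ ρ' ∈ I₀, ER (r * y) = algebraMap R₀ R ρ' := by
      intro y hy
      rw [Ideal.map] at hy
      induction hy using Submodule.span_induction with
      | mem x hx =>
        obtain ⟨j, hj, rfl⟩ := hx
        exact key j hj
      | zero => exact fun r => ⟨0, I₀.zero_mem, by simp⟩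
      | add x y _ _ hx hy =>
        intro r
        obtain ⟨a, ha, ha'⟩ := hx r
        obtain ⟨b, hb, hb'⟩ := hy r
        exact ⟨a + b, I₀.add_mem ha hb, by rw [mul_add, map_add, ha', hb', map_add]⟩
      | smul r' x _ hx =>
        intro r
        obtain ⟨a, ha, ha'⟩ := hx (r * r')
        exact ⟨a, ha, by rw [smul_eq_mul, ← mul_assoc, ha']⟩
    intro ρ hρ
    obtain ⟨ρ', hρ', h⟩ := key2 _ hρ 1
    rw [one_mul, (hER3 _).2 (iR ρ)] at h
    rw [hR₀i h]
    exact hρ'

end Groth.Agent.Helper7.StrEtC
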