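import Mathlib
import Groth.Agent.Helper7.GorAnn1

/-!
# Sum of geometrically linked ideals: elementary lemmas (helper7)
-/

set_option autoImplicit false
set_option linter.unusedSectionVars false
set_option linter.style.haveILetI false

namespace Groth.Agent.Helper7.SumGor

open IsLocalRing

universe u

section inj

variable {A : Type u} [CommRing A] [hinj : Module.Injective A A]

/-- in a self-injective ring, `Ann (J₁ ∩ J₂) = Ann J₁ + Ann J₂` -/
theorem ann_inf_le (J₁ J₂ : Ideal A) :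
    Submodule.annihilator (J₁ ⊓ J₂) ≤ Submodule.annihilator J₁ ⊔ Submodule.annihilator J₂ := by
  intro y hy
  let f : (A ⧸ (J₁ ⊓ J₂)) →ₗ[A] (A ⧸ J₁) × (A ⧸ J₂) :=
    (J₁ ⊓ J₂).liftQ (LinearMap.prod (Submodule.mkQ J₁) (Submodule.mkQ J₂)) (by
      intro x hx
      rw [LinearMap.mem_ker]
      change ((Submodule.mkQ J₁) x, (Submodule.mkQ J₂) x) = 0
      rw [Prod.mk_eq_zero]
      exact ⟨(Submodule.Quotient.mk_eq_zero _).2 hx.1, (Submodule.Quotient.mk_eq_zero _).2 hx.2⟩)
  have hfm : ∀ x : A, f (Submodule.Quotient.mk x) =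
      (Submodule.Quotient.mk x, Submodule.Quotient.mk x) := fun x => rfl
  have hf : Function.Injective f := by
    rw [← LinearMap.ker_eq_bot]
    apply Submodule.ker_liftQ_eq_bot
    intro x hx
    rw [LinearMap.mem_ker] at hx
    change ((Submodule.mkQ J₁) x, (Submodule.mkQ J₂) x) = 0 at hx
    rw [Prod.mk_eq_zero] at hx
    exact ⟨(Submodule.Quotient.mk_eq_zero _).1 hx.1, (Submodule.Quotient.mk_eq_zero _).1 hx.2⟩
  let g : (A ⧸ (J₁ ⊓ J₂)) →ₗ[A] A :=
    (J₁ ⊓ J₂).liftQ (LinearMap.toSpanSingleton A A y) (by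
      intro x hx
      rw [LinearMap.mem_ker, LinearMap.toSpanSingleton_apply, smul_eq_mul, mul_comm]
      exact (Submodule.mem_annihilator.1 hy) x hx)
  have hgm : ∀ x : A, g (Submodule.Quotient.mk x) = x * y := by
    intro x
    show LinearMap.toSpanSingleton A A y x = x * y
    rw [LinearMap.toSpanSingleton_apply, smul_eq_mul]
  obtain ⟨h, hh⟩ := hinj.out f hf g
  set c₁ : A := h (Submodule.Quotient.mk 1, 0) with hc₁
  set c₂ : A := h (0, Submodule.Quotient.mk 1) with hc₂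
  have h1 : y = c₁ + c₂ := by
    have := hh (Submodule.Quotient.mk 1)
    rw [hfm, hgm, one_mul] at this
    rw [← this, hc₁, hc₂, ← map_add, Prod.mk_add_mk, add_zero, zero_add]
  have h2 : c₁ ∈ Submodule.annihilator J₁ := by
    rw [Submodule.mem_annihilator]
    intro j hj
    rw [hc₁, smul_eq_mul, mul_comm, ← smul_eq_mul, ← map_smul, Prod.smul_mk, smul_zero,
      ← Submodule.Quotient.mk_smul, smul_eq_mul, mul_one,
      (Submodule.Quotient.mk_eq_zero _).2 hj]
    exact map_zero h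
  have h3 : c₂ ∈ Submodule.annihilator J₂ := by
    rw [Submodule.mem_annihilator]
    intro j hj
    rw [hc₂, smul_eq_mul, mul_comm, ← smul_eq_mul, ← map_smul, Prod.smul_mk, smul_zero,
      ← Submodule.Quotient.mk_smul, smul_eq_mul, mul_one,
      (Submodule.Quotient.mk_eq_zero _).2 hj]
    exact map_zero h
  rw [h1]
  exact Submodule.add_mem_sup h2 h3

end inj

section alg

variable {A : Type u} [CommRing A] (a b : Ideal A) (hab : a ⊓ b = ⊥)

include hab in
/-- modulo `t = α + β` the images of `a` and `b` meet in `(ᾱ)` -/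
theorem inf_map_eq_span (α β : A) (hα : α ∈ a) (hβ : β ∈ b) :
    a.map (Ideal.Quotient.mk (Ideal.span {α + β})) ⊓
        b.map (Ideal.Quotient.mk (Ideal.span {α + β})) =
      Ideal.span {Ideal.Quotient.mk (Ideal.span {α + β}) α} := by
  apply le_antisymm
  · rintro x ⟨hxa, hxb⟩
    obtain ⟨a₁, ha₁, rfl⟩ :=
      (Ideal.mem_map_iff_of_surjective _ Ideal.Quotient.mk_surjective).1 hxa
    obtain ⟨b₁, hb₁, h⟩ :=
      (Ideal.mem_map_iff_of_surjective _ Ideal.Quotient.mk_surjective).1 hxb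
    obtain ⟨r, hr⟩ := Ideal.mem_span_singleton'.1 (Ideal.Quotient.eq.1 h)
    have he : a₁ + r * α ∈ a ⊓ b := by
      refine ⟨a.add_mem ha₁ (a.mul_mem_left r hα), ?_⟩
      have : a₁ + r * α = b₁ - r * β := by linear_combination hr
      rw [this]
      exact b.sub_mem hb₁ (b.mul_mem_left r hβ)
    rw [hab, Submodule.mem_bot] at he
    have h2 : a₁ = -r * α := by linear_combination he
    rw [Ideal.mem_span_singleton']
    exact ⟨Ideal.Quotient.mk _ (-r), by rw [← map_mul, ← h2]⟩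
  · rw [Ideal.span_singleton_le_iff_mem]
    refine ⟨Ideal.mem_map_of_mem _ hα, ?_⟩
    have h : Ideal.Quotient.mk (Ideal.span {α + β}) α =
        Ideal.Quotient.mk (Ideal.span {α + β}) (-β) := by
      rw [Ideal.Quotient.eq, sub_neg_eq_add]
      exact Ideal.mem_span_singleton_self _
    rw [h]
    exact Ideal.mem_map_of_mem _ (b.neg_mem hβ)

include hab in
/-- modulo an element `z` regular on `A/(a+b)` the images of `a` and `b` still meet in `0` -/
theorem inf_map_eq_bot (z : A) (hz : ∀ u : A, z * u ∈ a ⊔ b → u ∈ a ⊔ b) :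
    a.map (Ideal.Quotient.mk (Ideal.span {z})) ⊓ b.map (Ideal.Quotient.mk (Ideal.span {z})) =
      ⊥ := by
  rw [eq_bot_iff]
  rintro x ⟨hxa, hxb⟩
  obtain ⟨a₁, ha₁, rfl⟩ :=
    (Ideal.mem_map_iff_of_surjective _ Ideal.Quotient.mk_surjective).1 hxa
  obtain ⟨b₁, hb₁, h⟩ :=
    (Ideal.mem_map_iff_of_surjective _ Ideal.Quotient.mk_surjective).1 hxb
  obtain ⟨r, hr⟩ := Ideal.mem_span_singleton'.1 (Ideal.Quotient.eq.1 h)
  have h1 : z * r ∈ a ⊔ b := by
    rw [mul_comm, hr]
    exact Submodule.sub_mem _ (Submodule.mem_sup_right hb₁) (Submodule.mem_sup_left ha₁)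
  obtain ⟨a₂, ha₂, b₂, hb₂, h2⟩ := Submodule.mem_sup.1 (hz r h1)
  have he : a₁ + a₂ * z ∈ a ⊓ b := by
    refine ⟨a.add_mem ha₁ (a.mul_mem_right z ha₂), ?_⟩
    have : a₁ + a₂ * z = b₁ - b₂ * z := by
      rw [← h2] at hr
      linear_combination hr
    rw [this]
    exact b.sub_mem hb₁ (b.mul_mem_right z hb₂)
  rw [hab, Submodule.mem_bot] at he
  have h3 : a₁ = -a₂ * z := by linear_combination he
  rw [Submodule.mem_bot, h3, map_mul,
    Ideal.Quotient.eq_zero_iff_mem.2 (Ideal.mem_span_singleton_self z), mul_zero]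

include hab in
/-- `depth A/(a+b) ≥ 1` from a regular sequence of length two on `A` -/
theorem mem_sup_of_mul_mem (x y : A)
    (hxa : ∀ u : A, x * u ∈ a → u ∈ a) (hxb : ∀ u : A, x * u ∈ b → u ∈ b)
    (hy : ∀ u : A, y * u ∈ Ideal.span {x} → u ∈ Ideal.span {x})
    (c : A) (hxc : x * c ∈ a ⊔ b) (hyc : y * c ∈ a ⊔ b) : c ∈ a ⊔ b := by
  obtain ⟨a₁, ha₁, b₁, hb₁, h1⟩ := Submodule.mem_sup.1 hxc
  obtain ⟨a₂, ha₂, b₂, hb₂, h2⟩ := Submodule.mem_sup.1 hyc
  have he : y * a₁ - x * a₂ ∈ a ⊓ b := by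
    refine ⟨a.sub_mem (a.mul_mem_left y ha₁) (a.mul_mem_left x ha₂), ?_⟩
    have : y * a₁ - x * a₂ = x * b₂ - y * b₁ := by linear_combination y * h1 - x * h2
    rw [this]
    exact b.sub_mem (b.mul_mem_left x hb₂) (b.mul_mem_left y hb₁)
  rw [hab, Submodule.mem_bot] at he
  have h3 : y * b₁ = x * b₂ := by linear_combination y * h1 - x * h2 - he
  have h4 : b₁ ∈ Ideal.span {x} := hy b₁ (by rw [h3]; exact Ideal.mul_mem_right _ _ (Ideal.mem_span_singleton_self x))
  obtain ⟨e, he'⟩ := Ideal.mem_span_singleton'.1 h4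
  have h5 : e ∈ b := hxb e (by rw [mul_comm, he']; exact hb₁)
  have h6 : c - e ∈ a := hxa (c - e) (by
    have : x * (c - e) = a₁ := by linear_combination -h1 - he'
    rw [this]; exact ha₁)
  have : c = (c - e) + e := by ring
  rw [this]
  exact Submodule.add_mem_sup h6 h5

end alg

end Groth.Agent.Helper7.SumGor
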