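import Mathlib
import Groth.Agent.Helper7.SumGorA

/-!
# Sum of geometrically linked ideals in a Gorenstein local ring is Gorenstein (helper7)
-/

set_option autoImplicit false
set_option linter.unusedSectionVars false
set_option linter.style.haveILetI false

namespace Groth.Agent.Helper7.SumGor

open IsLocalRing CategoryTheory RingTheory.Sequence Pointwise Groth.Agent.Helper7.GorLink
  Groth.Agent.Helper7.GorAnn

universe u

/-- the hypotheses on a pair of geometrically linked ideals -/
structure SumData (A : Type u) [CommRing A] (a b : Ideal A) : Prop where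
  gor : LocCoh.IsGorensteinLocalRing A
  ann_a : Submodule.annihilator a = b
  ann_b : Submodule.annihilator b = a
  inf : a ⊓ b = ⊥
  cm_a : LocCoh.IsCohenMacaulayLocalRing (A ⧸ a)
  cm_b : LocCoh.IsCohenMacaulayLocalRing (A ⧸ b)

namespace SumData

variable {A : Type u} [CommRing A] {a b : Ideal A} (hS : SumData A a b)

include hS

theorem symm : SumData A b a :=
  ⟨hS.gor, hS.ann_b, hS.ann_a, by rw [inf_comm]; exact hS.inf, hS.cm_b, hS.cm_a⟩

theorem ne_top_a : a ≠ ⊤ := by
  haveI := hS.cm_a.toIsLocalRing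
  exact Ideal.Quotient.nontrivial_iff.1 inferInstance

theorem linkData_a : LinkData A a :=
  haveI := hS.gor
  ⟨hS.gor, hS.cm_a, Groth.Agent.Helper7.LinkCM.dim_quotient_ann A a b hS.ann_b hS.ne_top_a⟩

theorem sup_le : a ⊔ b ≤ @maximalIdeal A _ hS.gor.toIsLocalRing := by
  letI := hS.gor.toIsLocalRing
  exact _root_.sup_le (IsLocalRing.le_maximalIdeal hS.ne_top_a)
    (IsLocalRing.le_maximalIdeal hS.symm.ne_top_a)

theorem exists_regular_mem_sup : ∃ t ∈ a ⊔ b, IsSMulRegular A t := by
  haveI : IsNoetherianRing A := hS.gor.toIsNoetherian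
  by_contra hcon
  push Not at hcon
  have hsub : ((a ⊔ b : Ideal A) : Set A) ⊆ ⋃ P ∈ associatedPrimes A A, (id P : Ideal A) := by
    intro t ht
    have h1 : t ∈ ({r : A | IsSMulRegular A r}ᶜ : Set A) := hcon t ht
    rw [← biUnion_associatedPrimes_eq_compl_regular A A] at h1
    exact h1
  obtain ⟨P, hP, hle⟩ := (Ideal.subset_union_prime_finite (associatedPrimes.finite A A)
    (f := id) ⊥ ⊥ (fun P hP _ _ => hP.isPrime)).mp hsub
  obtain ⟨hPp, x, hx⟩ := (isAssociatedPrime_iff (M := A)).1 hP
  have hxa : x ∈ Submodule.annihilator a := by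
    rw [Submodule.mem_annihilator]
    intro u hu
    have : u ∈ (id P : Ideal A) := hle (Submodule.mem_sup_left hu)
    rw [id, hx, Submodule.mem_colon_singleton, Submodule.mem_bot, smul_eq_mul] at this
    rw [smul_eq_mul, mul_comm]; exact this
  have hxb : x ∈ Submodule.annihilator b := by
    rw [Submodule.mem_annihilator]
    intro u hu
    have : u ∈ (id P : Ideal A) := hle (Submodule.mem_sup_right hu)
    rw [id, hx, Submodule.mem_colon_singleton, Submodule.mem_bot, smul_eq_mul] at this
    rw [smul_eq_mul, mul_comm]; exact this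
  rw [hS.ann_a] at hxa
  rw [hS.ann_b] at hxb
  have hx0 : x = 0 := by
    have : x ∈ a ⊓ b := ⟨hxb, hxa⟩
    rwa [hS.inf, Submodule.mem_bot] at this
  apply hPp.ne_top
  rw [hx, hx0, Ideal.eq_top_iff_one, Submodule.mem_colon_singleton, smul_zero]
  exact Submodule.zero_mem _

end SumData

/-- a regular element in the maximal ideal of a Cohen–Macaulay local ring of positive dimension -/
theorem exists_regular_mem_maximal (A : Type u) [CommRing A]
    [hCM : LocCoh.IsCohenMacaulayLocalRing A] (n : ℕ) (hd : ringKrullDim A = (n + 1 : ℕ)) :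
    ∃ x ∈ maximalIdeal A, IsSMulRegular A x := by
  obtain ⟨rs, hreg, hmem, -, hlen⟩ :=
    Groth.Agent.Helper2.DepthCM.exists_length_eq_idealDepth (maximalIdeal A) A
      (maximalIdeal_smul_top_ne_top A)
  have h4 := hCM.supportDim_eq_depth
  rw [Module.supportDim_self_eq_ringKrullDim, hd] at h4
  have hlen' : rs.length = n + 1 := by
    have h5 : LocCoh.depth A A = (rs.length : ℕ∞) := hlen.symm
    rw [h5] at h4
    have h6 : (((n + 1 : ℕ) : ℕ∞) : WithBot ℕ∞) = ((rs.length : ℕ∞) : WithBot ℕ∞) := h4
    exact_mod_cast (WithBot.coe_injective h6).symm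
  obtain ⟨x, rs', rfl⟩ : ∃ x rs', rs = x :: rs' := by
    cases rs with
    | nil => simp at hlen'
    | cons x rs' => exact ⟨x, rs', rfl⟩
  obtain ⟨hxreg, -⟩ := (isWeaklyRegular_cons_iff A x rs').1 hreg
  exact ⟨x, hmem x List.mem_cons_self, hxreg⟩

end Groth.Agent.Helper7.SumGor
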