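import Mathlib
import Groth.Agent.Helper7.SumGorB
import Groth.Agent.Helper6.Rees3
import Groth.Agent.Helper7.SegGorD

/-!
# Sum of geometrically linked ideals: the one-dimensional core (helper7)
-/

set_option autoImplicit false
set_option linter.unusedSectionVars false
set_option linter.style.haveILetI false

namespace Groth.Agent.Helper7.SumGor

open IsLocalRing CategoryTheory RingTheory.Sequence Pointwise Groth.Agent.Helper7.GorLink
  Groth.Agent.Helper7.GorAnn

universe u

/-- the dimension cannot be zero -/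
theorem dim_pos {A : Type u} [CommRing A] {a b : Ideal A} (hS : SumData A a b) :
    ringKrullDim A ≠ 0 := by
  haveI := hS.gor
  haveI : IsNoetherianRing A := hS.gor.toIsNoetherian
  haveI : IsLocalRing A := hS.gor.toIsLocalRing
  obtain ⟨t, ht, htreg⟩ := hS.exists_regular_mem_sup
  have htm : t ∈ maximalIdeal A := hS.sup_le ht
  have h2 := ringKrullDim_quotient_span_singleton_succ_eq_ringKrullDim htreg htm
  intro h0
  rw [h0] at h2
  haveI : Nontrivial (A ⧸ Ideal.span {t}) := Ideal.Quotient.nontrivial_iff.2 (by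
    intro h
    have : Ideal.span {t} ≤ maximalIdeal A := (Ideal.span_singleton_le_iff_mem _).2 htm
    rw [h] at this
    exact (IsLocalRing.maximalIdeal.isMaximal A).ne_top (top_le_iff.1 this))
  have h3 : (0 : WithBot ℕ∞) ≤ ringKrullDim (A ⧸ Ideal.span {t}) := ringKrullDim_nonneg_of_nontrivial
  have h4 : (0 : WithBot ℕ∞) + 1 ≤ ringKrullDim (A ⧸ Ideal.span {t}) + 1 := by gcongr
  rw [h2, zero_add] at h4
  exact absurd h4 (by decide)

/-- the one-dimensional case -/
theorem core {A : Type u} [CommRing A] {a b : Ideal A} (hS : SumData A a b)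
    (hdim : ringKrullDim A = 1) :
    LocCoh.IsGorensteinLocalRing (A ⧸ (a ⊔ b)) ∧
      ringKrullDim (A ⧸ (a ⊔ b)) + 1 = ringKrullDim A := by
  haveI hG := hS.gor
  haveI : IsNoetherianRing A := hS.gor.toIsNoetherian
  haveI : IsLocalRing A := hS.gor.toIsLocalRing
  obtain ⟨t, ht, htreg⟩ := hS.exists_regular_mem_sup
  have htm : t ∈ maximalIdeal A := hS.sup_le ht
  obtain ⟨α, hα, β, hβ, rfl⟩ := Submodule.mem_sup.1 ht
  set π := Ideal.Quotient.mk (Ideal.span {α + β}) with hπ
  have hdim0 : ringKrullDim (A ⧸ Ideal.span {α + β}) = 0 := by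
    have h2 := ringKrullDim_quotient_span_singleton_succ_eq_ringKrullDim htreg htm
    rw [hdim] at h2
    have h3 : (1 : WithBot ℕ∞) = 0 + 1 := by simp
    rw [h3] at h2
    exact ENat.WithBot.add_one_cancel.mp h2
  have hGq : LocCoh.IsGorensteinLocalRing (A ⧸ Ideal.span {α + β}) :=
    (Groth.Agent.Helper6.Rees.main A (α + β) htm htreg).1 hG
  haveI : IsNoetherianRing (A ⧸ Ideal.span {α + β}) := hGq.toIsNoetherian
  haveI : IsLocalRing (A ⧸ Ideal.span {α + β}) := hGq.toIsLocalRing
  haveI hinj : Module.Injective (A ⧸ Ideal.span {α + β}) (A ⧸ Ideal.span {α + β}) :=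
    Groth.Agent.Helper7.Liais11.injective_of_gorenstein_dim_zero _ hdim0
  have hanna : Submodule.annihilator (a.map π) = b.map π := by
    rw [ann_map a hS.linkData_a (α + β) htreg, hS.ann_a]
  have hannb : Submodule.annihilator (b.map π) = a.map π := by
    rw [ann_map b hS.symm.linkData_a (α + β) htreg, hS.ann_b]
  have hinf : a.map π ⊓ b.map π = Ideal.span {π α} := inf_map_eq_span a b hS.inf α β hα hβ
  have hK : ∀ r, r ∈ a.map π ⊔ b.map π ↔ r * π α = 0 := by
    intro r
    constructor
    · intro hr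
      obtain ⟨r₁, hr₁, r₂, hr₂, rfl⟩ := Submodule.mem_sup.1 hr
      have hαa : π α ∈ a.map π := Ideal.mem_map_of_mem _ hα
      have hαb : π α ∈ b.map π := by
        have : π α ∈ a.map π ⊓ b.map π := by
          rw [hinf]; exact Ideal.mem_span_singleton_self _
        exact this.2
      rw [← hannb] at hr₁
      rw [← hanna] at hr₂
      have e1 := (Submodule.mem_annihilator.1 hr₁) _ hαb
      have e2 := (Submodule.mem_annihilator.1 hr₂) _ hαa
      rw [smul_eq_mul] at e1 e2
      rw [add_mul, e1, e2, add_zero]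
    · intro hr
      have h1 : r ∈ Submodule.annihilator (a.map π ⊓ b.map π) := by
        rw [hinf, Submodule.mem_annihilator_span_singleton, smul_eq_mul]
        exact hr
      have h2 := ann_inf_le _ _ h1
      rw [hanna, hannb, sup_comm] at h2
      exact h2
  have h1 := injective_quot_ann (π α) _ hK
  have hmapsup : a.map π ⊔ b.map π = (a ⊔ b).map π := (Ideal.map_sup _ _ _).symm
  have hle : Ideal.span {α + β} ≤ a ⊔ b := (Ideal.span_singleton_le_iff_mem _).2 ht
  have hsupne : a ⊔ b ≠ ⊤ := by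
    intro h
    have := hS.sup_le
    rw [h] at this
    exact (IsLocalRing.maximalIdeal.isMaximal A).ne_top (top_le_iff.1 this)
  have e : ((A ⧸ Ideal.span {α + β}) ⧸ (a.map π ⊔ b.map π)) ≃+* (A ⧸ (a ⊔ b)) :=
    (Ideal.quotEquivOfEq hmapsup).trans (DoubleQuot.quotQuotEquivQuotOfLE hle)
  haveI : Nontrivial (A ⧸ (a ⊔ b)) := Ideal.Quotient.nontrivial_iff.2 hsupne
  haveI : Nontrivial ((A ⧸ Ideal.span {α + β}) ⧸ (a.map π ⊔ b.map π)) :=
    e.toRingHom.domain_nontrivial
  haveI : IsLocalRing ((A ⧸ Ideal.span {α + β}) ⧸ (a.map π ⊔ b.map π)) :=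
    IsLocalRing.of_surjective' (Ideal.Quotient.mk _) Ideal.Quotient.mk_surjective
  have hG1 := gorLocal_of_injective _ h1
  refine ⟨Groth.Agent.Helper7.SegGor.gorLocal_of_ringEquiv e hG1, ?_⟩
  have hd0 : ringKrullDim (A ⧸ (a ⊔ b)) = 0 := by
    apply le_antisymm
    · rw [← hdim0]
      exact ringKrullDim_le_of_surjective (Ideal.Quotient.factor hle)
        (Ideal.Quotient.factor_surjective hle)
    · exact ringKrullDim_nonneg_of_nontrivial
  rw [hd0, hdim]
  simp

end Groth.Agent.Helper7.SumGor
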