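import Mathlib
import Groth.Agent.Helper7.SumGorC

/-!
# Sum of geometrically linked ideals: the inductive step and the local theorem (helper7)
-/

set_option autoImplicit false
set_option linter.unusedSectionVars false
set_option linter.style.haveILetI false

namespace Groth.Agent.Helper7.SumGor

open IsLocalRing CategoryTheory RingTheory.Sequence Pointwise Groth.Agent.Helper7.GorLink
  Groth.Agent.Helper7.GorAnn

universe u

theorem dim_quot_regular {A : Type u} [CommRing A] [IsNoetherianRing A] [IsLocalRing A] (z : A)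
    (hzm : z ∈ maximalIdeal A) (hzreg : IsSMulRegular A z) (d : ℕ)
    (hdim : ringKrullDim A = ((d + 1 : ℕ) : WithBot ℕ∞)) :
    ringKrullDim (A ⧸ Ideal.span {z}) = (d : WithBot ℕ∞) := by
  have h2 := ringKrullDim_quotient_span_singleton_succ_eq_ringKrullDim hzreg hzm
  rw [hdim] at h2
  rw [show ((d + 1 : ℕ) : WithBot ℕ∞) = ((d : ℕ∞) : WithBot ℕ∞) + 1 from by push_cast; rfl] at h2
  exact ENat.WithBot.add_one_cancel.mp h2

/-- an element of the maximal ideal regular on `A` and on `A/(a+b)` when `dim A ≥ 2` -/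
theorem exists_regular_both {A : Type u} [CommRing A] {a b : Ideal A} (hS : SumData A a b) (d : ℕ)
    (hdim : ringKrullDim A = ((d + 1 + 1 : ℕ) : WithBot ℕ∞)) :
    ∃ z ∈ @maximalIdeal A _ hS.gor.toIsLocalRing, IsSMulRegular A z ∧
      ∀ u : A, z * u ∈ a ⊔ b → u ∈ a ⊔ b := by
  haveI hG := hS.gor
  haveI : IsNoetherianRing A := hS.gor.toIsNoetherian
  haveI : IsLocalRing A := hS.gor.toIsLocalRing
  haveI hCM : LocCoh.IsCohenMacaulayLocalRing A := Groth.Agent.Helper6.Bass.cm_of_gorenstein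
  obtain ⟨x, hxm, hxreg⟩ := exists_regular_mem_maximal A (d + 1) hdim
  have hxnu : ¬ IsUnit x := (mem_maximalIdeal x).mp hxm
  have hG1 : LocCoh.IsGorensteinLocalRing (A ⧸ Ideal.span {x}) :=
    (Groth.Agent.Helper6.Rees.main A x hxm hxreg).1 hG
  haveI : IsNoetherianRing (A ⧸ Ideal.span {x}) := hG1.toIsNoetherian
  haveI : IsLocalRing (A ⧸ Ideal.span {x}) := hG1.toIsLocalRing
  haveI hCM1 : LocCoh.IsCohenMacaulayLocalRing (A ⧸ Ideal.span {x}) :=
    Groth.Agent.Helper6.Bass.cm_of_gorenstein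
  have hdim1 := dim_quot_regular x hxm hxreg (d + 1) hdim
  obtain ⟨y', hym', hyreg'⟩ := exists_regular_mem_maximal (A ⧸ Ideal.span {x}) d hdim1
  obtain ⟨y, rfl⟩ := Ideal.Quotient.mk_surjective y'
  have hy : ∀ u : A, y * u ∈ Ideal.span {x} → u ∈ Ideal.span {x} := by
    intro u hu
    rw [← Ideal.Quotient.eq_zero_iff_mem] at hu ⊢
    rw [map_mul] at hu
    exact hyreg' (by
      change Ideal.Quotient.mk (Ideal.span {x}) y • Ideal.Quotient.mk (Ideal.span {x}) u =
        Ideal.Quotient.mk (Ideal.span {x}) y • 0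
      rw [smul_eq_mul, smul_eq_mul, hu, mul_zero])
  have hxa : ∀ u : A, x * u ∈ a → u ∈ a := by
    intro u hu
    have h1 := regular_on_quotient a hS.linkData_a x hxnu hxreg
    rw [← Ideal.Quotient.eq_zero_iff_mem] at hu ⊢
    have h2 : x • (Ideal.Quotient.mk a u) = x • (0 : A ⧸ a) := by
      rw [smul_zero, ← hu]; rfl
    exact h1 h2
  have hxb : ∀ u : A, x * u ∈ b → u ∈ b := by
    intro u hu
    have h1 := regular_on_quotient b hS.symm.linkData_a x hxnu hxreg
    rw [← Ideal.Quotient.eq_zero_iff_mem] at hu ⊢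
    have h2 : x • (Ideal.Quotient.mk b u) = x • (0 : A ⧸ b) := by
      rw [smul_zero, ← hu]; rfl
    exact h1 h2
  have hym : y ∈ maximalIdeal A := by
    rw [mem_maximalIdeal, mem_nonunits_iff]
    intro hu
    have : IsUnit (Ideal.Quotient.mk (Ideal.span {x}) y) := hu.map _
    exact ((mem_maximalIdeal _).mp hym') this
  have key := mem_sup_of_mul_mem a b hS.inf x y hxa hxb hy
  have hmne : maximalIdeal A ≠ ⊤ := (IsLocalRing.maximalIdeal.isMaximal A).ne_top
  -- prime avoidance
  obtain ⟨z, hzm, hzA, hzC⟩ : ∃ z ∈ maximalIdeal A,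
      (∀ P ∈ associatedPrimes A A, z ∉ P) ∧ (∀ P ∈ associatedPrimes A (A ⧸ (a ⊔ b)), z ∉ P) := by
    by_contra hcon
    push Not at hcon
    have hfin : (associatedPrimes A A ∪ associatedPrimes A (A ⧸ (a ⊔ b))).Finite :=
      (associatedPrimes.finite A A).union (associatedPrimes.finite A _)
    have hsub : ((maximalIdeal A : Ideal A) : Set A) ⊆
        ⋃ P ∈ (associatedPrimes A A ∪ associatedPrimes A (A ⧸ (a ⊔ b))), (id P : Ideal A) := by
      intro z hz
      by_cases h1 : ∀ P ∈ associatedPrimes A A, z ∉ P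
      · obtain ⟨P, hP, hzP⟩ := hcon z hz h1
        exact Set.mem_biUnion (Set.mem_union_right _ hP) hzP
      · push Not at h1
        obtain ⟨P, hP, hzP⟩ := h1
        exact Set.mem_biUnion (Set.mem_union_left _ hP) hzP
    obtain ⟨P, hP, hle⟩ := (Ideal.subset_union_prime_finite hfin (f := id) ⊥ ⊥
      (fun P hP _ _ => by
        rcases hP with hP | hP
        · exact hP.isPrime
        · exact hP.isPrime)).mp hsub
    rcases hP with hP | hP
    · obtain ⟨hPp, u, hu⟩ := (isAssociatedPrime_iff (M := A)).1 hP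
      have h1 : x ∈ (id P : Ideal A) := hle hxm
      rw [id, hu, Submodule.mem_colon_singleton, Submodule.mem_bot] at h1
      have hu0 : u = 0 := hxreg (by change x • u = x • 0; rw [h1, smul_zero])
      apply hPp.ne_top
      rw [hu, hu0, Ideal.eq_top_iff_one, Submodule.mem_colon_singleton, smul_zero]
      exact Submodule.zero_mem _
    · obtain ⟨hPp, c', hc⟩ := (isAssociatedPrime_iff (M := A ⧸ (a ⊔ b))).1 hP
      obtain ⟨c, rfl⟩ := Ideal.Quotient.mk_surjective c'
      have h1 : x ∈ (id P : Ideal A) := hle hxm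
      have h2 : y ∈ (id P : Ideal A) := hle hym
      rw [id, hc, Submodule.mem_colon_singleton, Submodule.mem_bot] at h1 h2
      have h1' : x * c ∈ a ⊔ b := by
        rw [← Ideal.Quotient.eq_zero_iff_mem, ← h1]; rfl
      have h2' : y * c ∈ a ⊔ b := by
        rw [← Ideal.Quotient.eq_zero_iff_mem, ← h2]; rfl
      have hc0 : Ideal.Quotient.mk (a ⊔ b) c = 0 :=
        Ideal.Quotient.eq_zero_iff_mem.2 (key c h1' h2')
      apply hPp.ne_top
      rw [hc, hc0, Ideal.eq_top_iff_one, Submodule.mem_colon_singleton, smul_zero]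
      exact Submodule.zero_mem _
  have hzregA : IsSMulRegular A z := by
    by_contra hz
    have h2 : z ∈ ({r : A | IsSMulRegular A r}ᶜ : Set A) := hz
    rw [← biUnion_associatedPrimes_eq_compl_regular A A] at h2
    obtain ⟨P, hP, hzP⟩ := Set.mem_iUnion₂.1 h2
    exact hzA P hP hzP
  have hzregC : IsSMulRegular (A ⧸ (a ⊔ b)) z := by
    by_contra hz
    have h2 : z ∈ ({r : A | IsSMulRegular (A ⧸ (a ⊔ b)) r}ᶜ : Set A) := hz
    rw [← biUnion_associatedPrimes_eq_compl_regular A (A ⧸ (a ⊔ b))] at h2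
    obtain ⟨P, hP, hzP⟩ := Set.mem_iUnion₂.1 h2
    exact hzC P hP hzP
  refine ⟨z, hzm, hzregA, ?_⟩
  intro u hu
  rw [← Ideal.Quotient.eq_zero_iff_mem] at hu ⊢
  have h2 : z • (Ideal.Quotient.mk (a ⊔ b) u) = z • (0 : A ⧸ (a ⊔ b)) := by
    rw [smul_zero, ← hu]; rfl
  exact hzregC h2

end Groth.Agent.Helper7.SumGor
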