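import Mathlib
import Groth.Agent.Helper7.SumGorD

/-!
# Sum of geometrically linked ideals: the local theorem (helper7)
-/

set_option autoImplicit false
set_option linter.unusedSectionVars false
set_option linter.style.haveILetI false

namespace Groth.Agent.Helper7.SumGor

open IsLocalRing CategoryTheory RingTheory.Sequence Pointwise Groth.Agent.Helper7.GorLink
  Groth.Agent.Helper7.GorAnn

universe u

theorem step {A : Type u} [CommRing A] {a b : Ideal A} (hS : SumData A a b) (d : ℕ)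
    (hdim : ringKrullDim A = ((d + 1 + 1 : ℕ) : WithBot ℕ∞))
    (ih : ∀ (A' : Type u) [CommRing A'] (a' b' : Ideal A'), SumData A' a' b' →
      ringKrullDim A' = ((d + 1 : ℕ) : WithBot ℕ∞) →
      LocCoh.IsGorensteinLocalRing (A' ⧸ (a' ⊔ b')) ∧
        ringKrullDim (A' ⧸ (a' ⊔ b')) + 1 = ringKrullDim A') :
    LocCoh.IsGorensteinLocalRing (A ⧸ (a ⊔ b)) ∧
      ringKrullDim (A ⧸ (a ⊔ b)) + 1 = ringKrullDim A := by
  haveI hG := hS.gor
  haveI : IsNoetherianRing A := hS.gor.toIsNoetherian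
  haveI : IsLocalRing A := hS.gor.toIsLocalRing
  obtain ⟨z, hzm, hzreg, hz⟩ := exists_regular_both hS d hdim
  have hznu : ¬ IsUnit z := (mem_maximalIdeal z).mp hzm
  set π := Ideal.Quotient.mk (Ideal.span {z}) with hπ
  have hS' : SumData (A ⧸ Ideal.span {z}) (a.map π) (b.map π) :=
    ⟨(Groth.Agent.Helper6.Rees.main A z hzm hzreg).1 hG,
      by rw [ann_map a hS.linkData_a z hzreg, hS.ann_a],
      by rw [ann_map b hS.symm.linkData_a z hzreg, hS.ann_b],
      inf_map_eq_bot a b hS.inf z hz,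
      (linkData_quotient a hS.linkData_a z hznu hzreg).cm,
      (linkData_quotient b hS.symm.linkData_a z hznu hzreg).cm⟩
  have hdim' := dim_quot_regular z hzm hzreg (d + 1) hdim
  obtain ⟨hG', hd'⟩ := ih (A ⧸ Ideal.span {z}) _ _ hS' hdim'
  have hsupne : a ⊔ b ≠ ⊤ := by
    intro h
    have := hS.sup_le
    rw [h] at this
    exact (IsLocalRing.maximalIdeal.isMaximal A).ne_top (top_le_iff.1 this)
  haveI : Nontrivial (A ⧸ (a ⊔ b)) := Ideal.Quotient.nontrivial_iff.2 hsupne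
  haveI : IsLocalRing (A ⧸ (a ⊔ b)) :=
    IsLocalRing.of_surjective' (Ideal.Quotient.mk _) Ideal.Quotient.mk_surjective
  have e := DoubleQuot.quotQuotEquivComm (Ideal.span {z}) (a ⊔ b)
  have hmap2 : (Ideal.span {z}).map (Ideal.Quotient.mk (a ⊔ b)) =
      Ideal.span {Ideal.Quotient.mk (a ⊔ b) z} := by
    rw [Ideal.map_span, Set.image_singleton]
  have hmapsup : a.map π ⊔ b.map π = (a ⊔ b).map π := (Ideal.map_sup _ _ _).symm
  have e' : ((A ⧸ Ideal.span {z}) ⧸ (a.map π ⊔ b.map π)) ≃+*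
      ((A ⧸ (a ⊔ b)) ⧸ Ideal.span {Ideal.Quotient.mk (a ⊔ b) z}) :=
    (Ideal.quotEquivOfEq hmapsup).trans (e.trans (Ideal.quotEquivOfEq hmap2))
  have hG2 : LocCoh.IsGorensteinLocalRing
      ((A ⧸ (a ⊔ b)) ⧸ Ideal.span {Ideal.Quotient.mk (a ⊔ b) z}) :=
    Groth.Agent.Helper7.SegGor.gorLocal_of_ringEquiv e' hG'
  have hzmC : Ideal.Quotient.mk (a ⊔ b) z ∈ maximalIdeal (A ⧸ (a ⊔ b)) := by
    rw [mem_maximalIdeal, mem_nonunits_iff]
    intro hu
    haveI : IsLocalHom (Ideal.Quotient.mk (a ⊔ b)) :=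
      IsLocalHom.of_surjective _ Ideal.Quotient.mk_surjective
    exact hznu ((isUnit_map_iff (Ideal.Quotient.mk (a ⊔ b)) z).mp hu)
  have hzregC : IsSMulRegular (A ⧸ (a ⊔ b)) (Ideal.Quotient.mk (a ⊔ b) z) := by
    intro u v huv
    obtain ⟨u, rfl⟩ := Ideal.Quotient.mk_surjective u
    obtain ⟨v, rfl⟩ := Ideal.Quotient.mk_surjective v
    change Ideal.Quotient.mk (a ⊔ b) z • Ideal.Quotient.mk (a ⊔ b) u =
      Ideal.Quotient.mk (a ⊔ b) z • Ideal.Quotient.mk (a ⊔ b) v at huv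
    rw [smul_eq_mul, smul_eq_mul, ← map_mul, ← map_mul, Ideal.Quotient.eq, ← mul_sub] at huv
    rw [Ideal.Quotient.eq]
    exact hz _ huv
  refine ⟨(Groth.Agent.Helper6.Rees.main (A ⧸ (a ⊔ b)) (Ideal.Quotient.mk (a ⊔ b) z)
    hzmC hzregC).2 hG2, ?_⟩
  have hdC := ringKrullDim_quotient_span_singleton_succ_eq_ringKrullDim hzregC hzmC
  have hdA := ringKrullDim_quotient_span_singleton_succ_eq_ringKrullDim hzreg hzm
  have he := ringKrullDim_eq_of_ringEquiv e'
  rw [← hdC, ← he, hd', hdA]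

/-- **the sum of two geometrically linked ideals of a Gorenstein local ring defines a Gorenstein
quotient of dimension one less** -/
theorem main_local : ∀ (d : ℕ) (A : Type u) [CommRing A] (a b : Ideal A), SumData A a b →
    ringKrullDim A = (d : WithBot ℕ∞) →
    LocCoh.IsGorensteinLocalRing (A ⧸ (a ⊔ b)) ∧
      ringKrullDim (A ⧸ (a ⊔ b)) + 1 = ringKrullDim A := by
  intro d
  induction d with
  | zero =>
    intro A _ a b hS hdim
    exact absurd hdim (dim_pos hS)
  | succ d ih =>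
    intro A _ a b hS hdim
    rcases d with _ | d
    · exact core hS (by rw [hdim]; rfl)
    · exact step hS d hdim ih

end Groth.Agent.Helper7.SumGor
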