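import Mathlib
import Groth.Agent.Helper7.SumGorE
import Groth.Agent.Helper7.LinkCM2
import Groth.Agent.Helper7.GorAnn2

/-!
# Sum of geometrically linked ideals in a Gorenstein ring: global form (helper7)
-/

set_option autoImplicit false
set_option linter.unusedSectionVars false
set_option linter.style.haveILetI false

namespace Groth.Agent.Helper7.SumGor

open IsLocalRing Groth.Agent.Helper7.LinkCM

universe u

section glob

variable (B : Type u) [CommRing B] [hG : LocCoh.IsGorensteinRing B]

/-- the localisation of a Cohen–Macaulay quotient at a prime containing the ideal -/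
theorem cm_localization_quot (I : Ideal B) [hCMI : LocCoh.IsCohenMacaulayRing (B ⧸ I)]
    (q : Ideal B) [q.IsPrime] (hIq : I ≤ q) :
    LocCoh.IsCohenMacaulayLocalRing
      (Localization.AtPrime q ⧸ I.map (algebraMap B (Localization.AtPrime q))) := by
  have hker : RingHom.ker (Ideal.Quotient.mk I) ≤ q := by rw [Ideal.mk_ker]; exact hIq
  haveI hQ'p : (q.map (Ideal.Quotient.mk I)).IsPrime :=
    Ideal.map_isPrime_of_surjective Ideal.Quotient.mk_surjective hker
  have hQ'c : (q.map (Ideal.Quotient.mk I)).comap (Ideal.Quotient.mk I) = q := by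
    rw [Ideal.comap_map_of_surjective _ Ideal.Quotient.mk_surjective,
      ← RingHom.ker_eq_comap_bot, sup_eq_left.2 hker]
  obtain ⟨e'⟩ := Groth.Agent.Helper7.GorQuot.nonempty_locQuot_equiv I q
    (q.map (Ideal.Quotient.mk I)) hQ'c
  exact Groth.Agent.Helper8.GrLG.cmLocal_of_ringEquiv e'.symm
    (hCMI.isCohenMacaulayLocalRing_localization (q.map (Ideal.Quotient.mk I)))

variable (I J : Ideal B) (hJ : Submodule.annihilator I = J) (hI : Submodule.annihilator J = I)
  (hIJ : I ⊓ J = ⊥)
  [hCMI : LocCoh.IsCohenMacaulayRing (B ⧸ I)] [hCMJ : LocCoh.IsCohenMacaulayRing (B ⧸ J)]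

include hJ hI hIJ hCMI hCMJ in
theorem sumData_localization (q : Ideal B) [q.IsPrime] (hq : I ⊔ J ≤ q) :
    SumData (Localization.AtPrime q) (I.map (algebraMap B (Localization.AtPrime q)))
      (J.map (algebraMap B (Localization.AtPrime q))) := by
  refine ⟨hG.isGorensteinLocalRing_localization q, ?_, ?_, ?_, ?_, ?_⟩
  · rw [ann_map_localization, hJ]
  · rw [ann_map_localization, hI]
  · rw [← IsLocalization.map_inf q.primeCompl, hIJ, Ideal.map_bot]
  · exact cm_localization_quot B I q (le_sup_left.trans hq)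
  · exact cm_localization_quot B J q (le_sup_right.trans hq)

theorem exists_dim_nat (A : Type u) [CommRing A] [IsNoetherianRing A] [IsLocalRing A] :
    ∃ d : ℕ, ringKrullDim A = (d : WithBot ℕ∞) := by
  have hfin : (maximalIdeal A).height ≠ ⊤ :=
    Ideal.height_ne_top (Ideal.IsPrime.ne_top inferInstance)
  obtain ⟨d, hd⟩ := ENat.ne_top_iff_exists.mp hfin
  refine ⟨d, ?_⟩
  rw [← IsLocalRing.maximalIdeal_height_eq_ringKrullDim, ← hd]
  rfl

include hJ hI hIJ hCMI hCMJ in
/-- **the sum of two geometrically linked ideals of a Gorenstein ring defines a Gorenstein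
quotient** -/
theorem gor_sup : LocCoh.IsGorensteinRing (B ⧸ (I ⊔ J)) := by
  haveI : IsNoetherianRing B := hG.toIsNoetherian
  refine { toIsNoetherian := inferInstance, isGorensteinLocalRing_localization := ?_ }
  intro Q hQ
  set q : Ideal B := Q.comap (Ideal.Quotient.mk (I ⊔ J)) with hq
  haveI hqp : q.IsPrime := Ideal.comap_isPrime _ _
  have hle : I ⊔ J ≤ q := by
    intro x hx
    rw [hq, Ideal.mem_comap, Ideal.Quotient.eq_zero_iff_mem.2 hx]
    exact zero_mem _
  haveI hGA : LocCoh.IsGorensteinLocalRing (Localization.AtPrime q) :=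
    hG.isGorensteinLocalRing_localization q
  haveI : IsNoetherianRing (Localization.AtPrime q) := hGA.toIsNoetherian
  obtain ⟨e⟩ := Groth.Agent.Helper7.GorQuot.nonempty_locQuot_equiv (I ⊔ J) q Q rfl
  refine Groth.Agent.Helper7.SegGor.gorLocal_of_ringEquiv e ?_
  have hS := sumData_localization B I J hJ hI hIJ q hle
  obtain ⟨d, hdim⟩ := exists_dim_nat (Localization.AtPrime q)
  rw [Ideal.map_sup]
  exact (main_local d _ _ _ hS hdim).1

include hJ hI hIJ hCMI hCMJ in
/-- the minimal primes of the sum have height one -/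
theorem height_eq_one_of_mem_minimalPrimes (q : Ideal B) (hq : q ∈ (I ⊔ J).minimalPrimes) :
    q.height = 1 := by
  haveI : IsNoetherianRing B := hG.toIsNoetherian
  rw [Ideal.minimalPrimes_eq_comap] at hq
  obtain ⟨Q, hQ, rfl⟩ := hq
  haveI hQp : Q.IsPrime := Ideal.minimalPrimes_isPrime hQ
  set q : Ideal B := Q.comap (Ideal.Quotient.mk (I ⊔ J)) with hq
  haveI hqp : q.IsPrime := Ideal.comap_isPrime _ _
  have hle : I ⊔ J ≤ q := by
    intro x hx
    rw [hq, Ideal.mem_comap, Ideal.Quotient.eq_zero_iff_mem.2 hx]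
    exact zero_mem _
  haveI hGA : LocCoh.IsGorensteinLocalRing (Localization.AtPrime q) :=
    hG.isGorensteinLocalRing_localization q
  haveI : IsNoetherianRing (Localization.AtPrime q) := hGA.toIsNoetherian
  obtain ⟨e⟩ := Groth.Agent.Helper7.GorQuot.nonempty_locQuot_equiv (I ⊔ J) q Q rfl
  have hS := sumData_localization B I J hJ hI hIJ q hle
  obtain ⟨d, hdim⟩ := exists_dim_nat (Localization.AtPrime q)
  have h1 := (main_local d _ _ _ hS hdim).2
  rw [← Ideal.map_sup, ringKrullDim_eq_of_ringEquiv e,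
    IsLocalization.AtPrime.ringKrullDim_eq_height Q (Localization.AtPrime Q),
    Ideal.height_eq_zero_iff.2 hQ,
    IsLocalization.AtPrime.ringKrullDim_eq_height q (Localization.AtPrime q)] at h1
  have h2 : ((q.height : ℕ∞) : WithBot ℕ∞) = ((1 : ℕ∞) : WithBot ℕ∞) := by
    rw [← h1]; simp
  exact WithBot.coe_injective h2

end glob

end Groth.Agent.Helper7.SumGor
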