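import Mathlib
import Groth.Agent.Helper7.SumGorF
import Groth.Agent.Helper7.Liais12
import Groth.Agent.Helper7.Liais7
import Groth.Agent.Helper7.CKg1

/-!
# Sum of geometrically linked homogeneous ideals of a polynomial ring (helper7)
-/

set_option autoImplicit false
set_option linter.unusedSectionVars false
set_option linter.style.haveILetI false

namespace Groth.Agent.Helper7.SumGor

open MvPolynomial Groth.Agent.Helper7.Liais3 Groth.Agent.Helper7.Liais4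
  Groth.Agent.Helper7.LinkCM

universe u

section quot

variable {R : Type u} [CommRing R]

theorem mem_map_mk_iff (𝔠 I : Ideal R) (h : 𝔠 ≤ I) (x : R) :
    Ideal.Quotient.mk 𝔠 x ∈ I.map (Ideal.Quotient.mk 𝔠) ↔ x ∈ I := by
  constructor
  · intro hx
    have h2 : x ∈ (I.map (Ideal.Quotient.mk 𝔠)).comap (Ideal.Quotient.mk 𝔠) := hx
    rwa [Ideal.comap_map_of_surjective _ Ideal.Quotient.mk_surjective,
      ← RingHom.ker_eq_comap_bot, Ideal.mk_ker, sup_eq_left.2 h] at h2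
  · exact fun hx => Ideal.mem_map_of_mem _ hx

end quot

variable {K : Type u} [Field K] {σ : Type} [Fintype σ] [DecidableEq σ]

section pair

variable (I₁ I₂ : Ideal (MvPolynomial σ K))
  (hI₁ : I₁.IsHomogeneous (GrSyz.stdGr K σ)) (hI₂ : I₂.IsHomogeneous (GrSyz.stdGr K σ))
  [hCM₁ : LocCoh.IsCohenMacaulayRing (MvPolynomial σ K ⧸ I₁)]
  [hCM₂ : LocCoh.IsCohenMacaulayRing (MvPolynomial σ K ⧸ I₂)]
  (c : ℕ) (h₁ : I₁.height = c) (h₂ : I₂.height = c)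
  (hdisj : Disjoint I₁.minimalPrimes I₂.minimalPrimes)

include hI₁ hI₂ hCM₁ hCM₂ h₁ h₂ hdisj in
/-- a minimal prime of `I₂` does not contain `I₁` -/
theorem not_le_of_mem_minimalPrimes (p : Ideal (MvPolynomial σ K)) (hp : p ∈ I₂.minimalPrimes) :
    ¬ I₁ ≤ p := by
  intro hle
  haveI hpp : p.IsPrime := hp.1.1
  obtain ⟨Q, hQ, hQp⟩ := Ideal.exists_minimalPrimes_le hle
  haveI hQp' : Q.IsPrime := hQ.1.1
  have hQh : Q.height = c := by rw [height_of_mem_minimalPrimes I₁ hI₁ Q hQ, h₁]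
  have hph : p.height = c := by rw [height_of_mem_minimalPrimes I₂ hI₂ p hp, h₂]
  have heq : Q = p := Ideal.eq_of_le_of_height_le Q hQp (by rw [hQh, hph])
  rw [heq] at hQ
  exact Set.disjoint_left.1 hdisj hQ hp

include hI₁ hI₂ hCM₁ hCM₂ h₁ h₂ hdisj in
theorem colon_eq : (I₁ ⊓ I₂).colon (I₁ : Set (MvPolynomial σ K)) = I₂ := by
  apply le_antisymm
  · intro x hx
    rw [Submodule.mem_colon] at hx
    apply Groth.Agent.Helper7.Liais12.mem_of_forall_ass I₂ x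
    intro p hp
    have hpm := Groth.Agent.Helper7.Liais7.mem_minimalPrimes_of_mem_associatedPrimes I₂ p hp
    have hnle := not_le_of_mem_minimalPrimes I₁ I₂ hI₁ hI₂ c h₁ h₂ hdisj p hpm
    obtain ⟨s, hs, hsp⟩ := Set.not_subset.1 hnle
    refine ⟨s, hsp, ?_⟩
    have := hx s hs
    rw [smul_eq_mul, mul_comm] at this
    exact this.2
  · intro x hx
    rw [Submodule.mem_colon]
    intro s hs
    rw [smul_eq_mul]
    exact ⟨I₁.mul_mem_left _ hs, I₂.mul_mem_right _ hx⟩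

end pair

/-- **S18869**: the sum of two geometrically linked arithmetically Cohen–Macaulay ideals with
arithmetically Gorenstein union is arithmetically Gorenstein of codimension one more -/
theorem main_aux (I₁ I₂ 𝔠 : Ideal (MvPolynomial σ K)) (h𝔠 : 𝔠 = I₁ ⊓ I₂)
    (hI₁ : I₁.IsHomogeneous (GrSyz.stdGr K σ)) (hI₂ : I₂.IsHomogeneous (GrSyz.stdGr K σ))
    [hCM₁ : LocCoh.IsCohenMacaulayRing (MvPolynomial σ K ⧸ I₁)]
    [hCM₂ : LocCoh.IsCohenMacaulayRing (MvPolynomial σ K ⧸ I₂)]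
    (c : ℕ) (h₁ : I₁.height = c) (h₂ : I₂.height = c)
    (hdisj : Disjoint I₁.minimalPrimes I₂.minimalPrimes)
    [hG : LocCoh.IsGorensteinRing (MvPolynomial σ K ⧸ 𝔠)] :
    (I₁ ⊔ I₂).height = c + 1 ∧ LocCoh.IsGorensteinRing (MvPolynomial σ K ⧸ (I₁ ⊔ I₂)) := by
  have h𝔠1 : 𝔠 ≤ I₁ := h𝔠 ▸ inf_le_left
  have h𝔠2 : 𝔠 ≤ I₂ := h𝔠 ▸ inf_le_right
  have hcol1 : 𝔠.colon (I₁ : Set (MvPolynomial σ K)) = I₂ := by
    rw [h𝔠]; exact colon_eq I₁ I₂ hI₁ hI₂ c h₁ h₂ hdisj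
  have hcol2 : 𝔠.colon (I₂ : Set (MvPolynomial σ K)) = I₁ := by
    have := colon_eq I₂ I₁ hI₂ hI₁ c h₂ h₁ hdisj.symm
    rw [h𝔠]
    rwa [inf_comm] at this
  have hJ : Submodule.annihilator (I₁.map (Ideal.Quotient.mk 𝔠)) = I₂.map (Ideal.Quotient.mk 𝔠) := ann_map_mk 𝔠 I₁ I₂ hcol1
  have hI : Submodule.annihilator (I₂.map (Ideal.Quotient.mk 𝔠)) = I₁.map (Ideal.Quotient.mk 𝔠) := ann_map_mk 𝔠 I₂ I₁ hcol2
  have hIJ : I₁.map (Ideal.Quotient.mk 𝔠) ⊓ I₂.map (Ideal.Quotient.mk 𝔠) = ⊥ := by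
    rw [eq_bot_iff]
    rintro x ⟨hx1, hx2⟩
    obtain ⟨x, rfl⟩ := Ideal.Quotient.mk_surjective x
    have hx1' := (mem_map_mk_iff 𝔠 I₁ h𝔠1 x).1 hx1
    have hx2' := (mem_map_mk_iff 𝔠 I₂ h𝔠2 x).1 hx2
    rw [Submodule.mem_bot]
    exact Ideal.Quotient.eq_zero_iff_mem.2 (h𝔠 ▸ ⟨hx1', hx2'⟩)
  haveI : LocCoh.IsCohenMacaulayRing ((MvPolynomial σ K ⧸ 𝔠) ⧸ I₁.map (Ideal.Quotient.mk 𝔠)) :=
    cmRing_of_ringEquiv (DoubleQuot.quotQuotEquivQuotOfLE h𝔠1).symm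
  haveI : LocCoh.IsCohenMacaulayRing ((MvPolynomial σ K ⧸ 𝔠) ⧸ I₂.map (Ideal.Quotient.mk 𝔠)) :=
    cmRing_of_ringEquiv (DoubleQuot.quotQuotEquivQuotOfLE h𝔠2).symm
  have hgor := gor_sup (MvPolynomial σ K ⧸ 𝔠) (I₁.map (Ideal.Quotient.mk 𝔠)) (I₂.map (Ideal.Quotient.mk 𝔠)) hJ hI hIJ
  have hsup : I₁.map (Ideal.Quotient.mk 𝔠) ⊔ I₂.map (Ideal.Quotient.mk 𝔠) = (I₁ ⊔ I₂).map (Ideal.Quotient.mk 𝔠) := (Ideal.map_sup _ _ _).symm
  have h𝔠s : 𝔠 ≤ I₁ ⊔ I₂ := h𝔠1.trans le_sup_left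
  have e : ((MvPolynomial σ K ⧸ 𝔠) ⧸ (I₁.map (Ideal.Quotient.mk 𝔠) ⊔ I₂.map (Ideal.Quotient.mk 𝔠))) ≃+*
      (MvPolynomial σ K ⧸ (I₁ ⊔ I₂)) :=
    (Ideal.quotEquivOfEq hsup).trans (DoubleQuot.quotQuotEquivQuotOfLE h𝔠s)
  refine ⟨?_, @Groth.Agent.Helper7.GorAnn.gorRing_of_ringEquiv _ _ _ _ e hgor⟩
  -- the height
  have hne1 : I₁ ≠ ⊤ := by
    intro h; rw [h, Ideal.height_top] at h₁; exact ENat.top_ne_natCast c h₁
  have hne2 : I₂ ≠ ⊤ := by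
    intro h; rw [h, Ideal.height_top] at h₂; exact ENat.top_ne_natCast c h₂
  have hsne : I₁ ⊔ I₂ ≠ ⊤ := by
    intro h
    have hle : I₁ ⊔ I₂ ≤ irr K σ :=
      sup_le (le_irr_of_isHomogeneous I₁ hI₁ hne1) (le_irr_of_isHomogeneous I₂ hI₂ hne2)
    rw [h] at hle
    exact (Ideal.IsMaximal.ne_top (inferInstance : (irr K σ).IsMaximal)) (top_le_iff.1 hle)
  have hht : ∀ p ∈ (I₁ ⊔ I₂).minimalPrimes, p.height = (c : ℕ∞) + 1 := by
    intro p hp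
    haveI hpp : p.IsPrime := hp.1.1
    have hI₁p : I₁ ≤ p := le_sup_left.trans hp.1.2
    have hI₂p : I₂ ≤ p := le_sup_right.trans hp.1.2
    obtain ⟨Q, hQ, hQp⟩ := Ideal.exists_minimalPrimes_le hI₁p
    haveI hQp' : Q.IsPrime := hQ.1.1
    have hQh : Q.height = c := by rw [height_of_mem_minimalPrimes I₁ hI₁ Q hQ, h₁]
    have hnle : ¬ I₂ ≤ Q :=
      not_le_of_mem_minimalPrimes I₂ I₁ hI₂ hI₁ c h₂ h₁ hdisj.symm Q hQ
    have hlt : Q < p := lt_of_le_of_ne hQp (by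
      intro h; rw [h] at hnle; exact hnle hI₂p)
    have hge : (c : ℕ∞) + 1 ≤ p.height := by
      rw [← hQh]; exact Ideal.height_add_one_le_of_lt_of_isPrime hlt
    have h𝔠Q : 𝔠 ≤ Q := h𝔠1.trans hQ.1.2
    have h𝔠p : 𝔠 ≤ p := h𝔠Q.trans hQp
    have hkerp : RingHom.ker (Ideal.Quotient.mk 𝔠) ≤ p := by rw [Ideal.mk_ker]; exact h𝔠p
    haveI hqbp : (p.map (Ideal.Quotient.mk 𝔠)).IsPrime :=
      Ideal.map_isPrime_of_surjective Ideal.Quotient.mk_surjective hkerp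
    have hqbmin : p.map (Ideal.Quotient.mk 𝔠) ∈ (I₁.map (Ideal.Quotient.mk 𝔠) ⊔ I₂.map (Ideal.Quotient.mk 𝔠)).minimalPrimes := by
      rw [hsup, Ideal.minimalPrimes_map_of_surjective Ideal.Quotient.mk_surjective]
      refine ⟨p, ?_, rfl⟩
      rw [Ideal.mk_ker, sup_eq_left.2 h𝔠s]
      exact hp
    have hqbh : (p.map (Ideal.Quotient.mk 𝔠)).height = 1 :=
      height_eq_one_of_mem_minimalPrimes (MvPolynomial σ K ⧸ 𝔠) (I₁.map (Ideal.Quotient.mk 𝔠)) (I₂.map (Ideal.Quotient.mk 𝔠))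
        hJ hI hIJ _ hqbmin
    have hadd := Groth.Agent.Helper7.Liais7.height_eq_add Q p hQp
    haveI hpQ : (p.map (Ideal.Quotient.mk Q)).IsPrime :=
      Ideal.map_isPrime_of_surjective Ideal.Quotient.mk_surjective (by rwa [Ideal.mk_ker])
    have hcomap : (p.map (Ideal.Quotient.mk Q)).comap (Ideal.Quotient.factor h𝔠Q) = p.map (Ideal.Quotient.mk 𝔠) := by
      ext y
      obtain ⟨x, rfl⟩ := Ideal.Quotient.mk_surjective y
      rw [Ideal.mem_comap, Ideal.Quotient.factor_mk, mem_map_mk_iff Q p hQp,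
        mem_map_mk_iff 𝔠 p h𝔠p]
    have hle1 : (p.map (Ideal.Quotient.mk Q)).height ≤ 1 := by
      have := Groth.Agent.Helper7.CKd.height_le_height_comap (Ideal.Quotient.factor h𝔠Q)
        (Ideal.Quotient.factor_surjective h𝔠Q) (p.map (Ideal.Quotient.mk Q))
      rwa [hcomap, hqbh] at this
    apply le_antisymm _ hge
    rw [hadd, hQh]
    gcongr
  rw [Ideal.height_eq_inf_minimalPrimes]
  obtain ⟨⟨p₀, hp₀⟩⟩ := Ideal.nonempty_minimalPrimes hsne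
  apply le_antisymm
  · exact (iInf₂_le p₀ hp₀).trans (hht p₀ hp₀).le
  · exact le_iInf₂ fun p hp => (hht p hp).ge

theorem main (I₁ I₂ : Ideal (MvPolynomial σ K))
    (hI₁ : I₁.IsHomogeneous (GrSyz.stdGr K σ)) (hI₂ : I₂.IsHomogeneous (GrSyz.stdGr K σ))
    [hCM₁ : LocCoh.IsCohenMacaulayRing (MvPolynomial σ K ⧸ I₁)]
    [hCM₂ : LocCoh.IsCohenMacaulayRing (MvPolynomial σ K ⧸ I₂)]
    (c : ℕ) (h₁ : I₁.height = c) (h₂ : I₂.height = c)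
    (hdisj : Disjoint I₁.minimalPrimes I₂.minimalPrimes)
    [hG : LocCoh.IsGorensteinRing (MvPolynomial σ K ⧸ (I₁ ⊓ I₂))] :
    (I₁ ⊔ I₂).height = c + 1 ∧ LocCoh.IsGorensteinRing (MvPolynomial σ K ⧸ (I₁ ⊔ I₂)) :=
  main_aux I₁ I₂ (I₁ ⊓ I₂) rfl hI₁ hI₂ c h₁ h₂ hdisj

end Groth.Agent.Helper7.SumGor
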