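import Mathlib

namespace Groth.Agent.Helper7.SuperComm

universe u v

theorem neg_one_pow_comm {S : Type v} [Ring S] (m : ℕ) (s : S) :
    (-1 : S) ^ m * s = s * (-1 : S) ^ m :=
  ((Commute.neg_one_left s).pow_left m).eq

theorem result {R : Type u} {S : Type v} [CommRing R] [Ring S]
    [Algebra R S] (n : ℕ) (x : S) (y : Fin (n + 1) → S) (r : Fin (n + 1) → R)
    (h : ∀ i : Fin (n + 1), x * y i + y i * x = algebraMap R S (r i)) :
    x * (List.ofFn y).prod + (-1 : S) ^ n * ((List.ofFn y).prod * x) =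
      ∑ p : Fin (n + 1), (-1 : S) ^ (p : ℕ) * (r p • (List.ofFn (fun q : Fin n => y (p.succAbove q))).prod) := by
  induction n with
  | zero =>
    rw [Fin.sum_univ_one]
    simp only [List.ofFn_succ, List.ofFn_zero, List.prod_cons, List.prod_nil, mul_one, pow_zero,
      one_mul, Fin.val_zero]
    rw [h 0, Algebra.algebraMap_eq_smul_one]
  | succ n ih =>
    have ih' := ih (fun i => y i.succ) (fun i => r i.succ) (fun i => h i.succ)
    rw [Fin.sum_univ_succ]
    simp only [Fin.val_zero, pow_zero, one_mul, Fin.succAbove_zero, Fin.val_succ]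
    rw [List.ofFn_succ, List.prod_cons]
    set Y' := (List.ofFn fun i : Fin (n + 1) => y i.succ).prod with hY'
    have hx0 : x * y 0 = algebraMap R S (r 0) - y 0 * x := by
      rw [← h 0]; abel
    have hsum : ∑ p : Fin (n + 1), (-1 : S) ^ ((p : ℕ) + 1) *
        (r p.succ • (List.ofFn fun q : Fin (n + 1) => y (p.succ.succAbove q)).prod) =
        - (y 0 * ∑ p : Fin (n + 1), (-1 : S) ^ (p : ℕ) *
          (r p.succ • (List.ofFn fun q : Fin n => y (p.succAbove q).succ).prod)) := by
      rw [Finset.mul_sum, ← Finset.sum_neg_distrib]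
      refine Finset.sum_congr rfl fun p _ => ?_
      rw [List.ofFn_succ, List.prod_cons]
      simp only [Fin.succ_succAbove_zero, Fin.succ_succAbove_succ]
      rw [mul_smul_comm, pow_succ, mul_neg, mul_one, neg_mul, ← mul_assoc, neg_one_pow_comm,
        mul_assoc]
      rw [smul_neg, mul_smul_comm, mul_smul_comm]
    rw [hsum, ← ih']
    have e1 : x * (y 0 * Y') = r 0 • Y' - y 0 * (x * Y') := by
      rw [← mul_assoc, hx0, sub_mul, Algebra.algebraMap_eq_smul_one, smul_mul_assoc, one_mul,
        mul_assoc]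
    have e2 : (-1 : S) ^ (n + 1) * (y 0 * Y' * x) = - (y 0 * ((-1 : S) ^ n * (Y' * x))) := by
      rw [pow_succ, mul_neg, mul_one, neg_mul, mul_assoc (y 0), ← mul_assoc, neg_one_pow_comm,
        mul_assoc]
    rw [e1, e2, mul_add]
    abel

end Groth.Agent.Helper7.SuperComm
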