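import Mathlib

namespace Groth.Agent.Helper7.SymSemi

section

variable (Γ : AddSubmonoid ℕ) (c : ℕ) (hc : ∀ n : ℕ, c ≤ n → n ∈ Γ) (hc0 : c ≠ 0)
  (hc1 : c - 1 ∉ Γ) (hsymm : ∀ x : ℕ, x < c → (x ∉ Γ ↔ c - 1 - x ∈ Γ))
  (e : ℕ) (he : e ∈ Γ) (he0 : e ≠ 0) (hemin : ∀ γ : ℕ, γ ∈ Γ → γ ≠ 0 → e ≤ γ) (he2 : 2 < e)

include hc hc0 hsymm he hemin he2 in
theorem e_lt_c : e < c := by
  have h1 : e ≤ c := hemin c (hc c le_rfl) hc0
  rcases h1.lt_or_eq with h | h
  · exact h
  · exfalso
    have h1' : (1 : ℕ) ∉ Γ := fun h1 => by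
      have := hemin 1 h1 one_ne_zero; omega
    have := (hsymm 1 (by omega)).mp h1'
    have h2 := hemin (c - 1 - 1) this (by omega)
    omega

include hc hsymm hemin in
theorem apery_lt (a : ℕ) (hea : e ≤ a) (hae : a - e ∉ Γ) (hne : a ≠ c - 1 + e) : a < c := by
  by_contra hge
  push_neg at hge
  have h1 : a - e < c := by
    by_contra h; push_neg at h; exact hae (hc _ h)
  have h2 := (hsymm (a - e) h1).mp hae
  by_cases h0 : c - 1 - (a - e) = 0
  · omega
  · have := hemin _ h2 h0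
    omega

include hc hc0 hc1 hsymm he hemin he2 in
theorem exists_decomp : ∃ a b : ℕ, a ∈ Γ ∧ b ∈ Γ ∧ a ≠ 0 ∧ b ≠ 0 ∧ a + b = c - 1 + e := by
  classical
  have hec := e_lt_c Γ c hc hc0 hsymm e he hemin he2
  obtain ⟨r, hr0, hre, hrF⟩ : ∃ r : ℕ, r ≠ 0 ∧ r < e ∧ r ≠ (c - 1) % e := by
    by_cases h : (c - 1) % e = 1
    · exact ⟨2, by omega, he2, by omega⟩
    · exact ⟨1, by omega, by omega, fun h' => h h'.symm⟩
  have hex : ∃ x, x ∈ Γ ∧ x % e = r := by
    refine ⟨c * e + r, hc _ ?_, ?_⟩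
    · have : c * 1 ≤ c * e := Nat.mul_le_mul_left c (by omega)
      omega
    · rw [Nat.mul_add_mod_of_lt hre]
  obtain ⟨a, ⟨haΓ, har⟩, hmin⟩ : ∃ a, (a ∈ Γ ∧ a % e = r) ∧
      ∀ x < a, ¬ (x ∈ Γ ∧ x % e = r) :=
    ⟨Nat.find hex, Nat.find_spec hex, fun x hx => Nat.find_min hex hx⟩
  have ha0 : a ≠ 0 := by
    intro h0
    rw [h0] at har
    simp at har
    exact hr0 har.symm
  have hea : e ≤ a := hemin a haΓ ha0
  have hae : a - e ∉ Γ := by
    intro hmem
    have hmod : (a - e) % e = r := by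
      have : a = (a - e) + e := by omega
      rw [← har]
      conv_rhs => rw [this, Nat.add_mod_right]
    exact hmin (a - e) (by omega) ⟨hmem, hmod⟩
  have hne : a ≠ c - 1 + e := by
    intro h
    apply hrF
    rw [← har, h, Nat.add_mod_right]
  have hlt := apery_lt Γ c hc hsymm e hemin a hea hae hne
  have hb := (hsymm (a - e) (by omega)).mp hae
  have haF : a ≠ c - 1 := fun h => hc1 (h ▸ haΓ)
  refine ⟨a, c - 1 - (a - e), haΓ, hb, ha0, by omega, by omega⟩

end

theorem main (Γ : AddSubmonoid ℕ) (c : ℕ) (hc : ∀ n : ℕ, c ≤ n → n ∈ Γ) (hc0 : c ≠ 0)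
    (hc1 : c - 1 ∉ Γ) (hsymm : ∀ x : ℕ, x < c → (x ∉ Γ ↔ c - 1 - x ∈ Γ))
    (e : ℕ) (he : e ∈ Γ) (he0 : e ≠ 0) (hemin : ∀ γ : ℕ, γ ∈ Γ → γ ≠ 0 → e ≤ γ) (he2 : 2 < e) :
    ∃ G : Finset ℕ, G.card ≤ e - 1 ∧ AddSubmonoid.closure (↑G : Set ℕ) = Γ ∧
      ∀ g ∈ G, g ∈ Γ ∧ g < c := by
  classical
  have hec := e_lt_c Γ c hc hc0 hsymm e he hemin he2
  set Ap : Finset ℕ := (Finset.range c).filter (fun a => a ∈ Γ ∧ e ≤ a ∧ a - e ∉ Γ) with hAp
  have hmul : ∀ t : ℕ, t * e ∈ Γ := fun t => by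
    rw [← smul_eq_mul]; exact Γ.nsmul_mem he t
  have hFmod : (c - 1) % e ≠ 0 := by
    intro h0
    obtain ⟨t, ht⟩ := Nat.dvd_of_mod_eq_zero h0
    apply hc1
    rw [ht, mul_comm]
    exact hmul t
  refine ⟨insert e Ap, ?_, ?_, ?_⟩
  · -- cardinality
    have hcardAp : Ap.card ≤ e - 2 := by
      have hsub : ∀ a ∈ Ap, a % e ∈ ((Finset.range e).erase 0).erase ((c - 1) % e) := by
        intro a ha
        rw [hAp, Finset.mem_filter, Finset.mem_range] at ha
        obtain ⟨hac, haΓ, hea, hae⟩ := ha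
        rw [Finset.mem_erase, Finset.mem_erase, Finset.mem_range]
        refine ⟨?_, ?_, Nat.mod_lt _ (by omega)⟩
        · intro hmod
          -- a ≡ F mod e, a < c, so F = a + t e ∈ Γ
          have haF : a ≤ c - 1 := by omega
          have : (c - 1 - a) % e = 0 := by
            have := Nat.sub_mod_eq_zero_of_mod_eq hmod.symm
            exact this
          obtain ⟨t, ht⟩ := Nat.dvd_of_mod_eq_zero this
          apply hc1
          have : c - 1 = a + t * e := by rw [mul_comm] at ht; omega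
          rw [this]
          exact Γ.add_mem haΓ (hmul t)
        · intro hmod
          obtain ⟨t, ht⟩ := Nat.dvd_of_mod_eq_zero hmod
          apply hae
          have : a - e = (t - 1) * e := by
            rw [ht, Nat.sub_mul, one_mul, mul_comm]
          rw [this]
          exact hmul _
      have hinj : Set.InjOn (fun a => a % e) (Ap : Set ℕ) := by
        intro a ha a' ha' hmod
        simp only at hmod
        rw [Finset.mem_coe, hAp, Finset.mem_filter] at ha ha'
        obtain ⟨-, haΓ, hea, hae⟩ := ha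
        obtain ⟨-, haΓ', hea', hae'⟩ := ha'
        by_contra hne
        rcases Nat.lt_or_gt_of_ne hne with hlt | hlt
        · -- a < a'
          have : (a' - a) % e = 0 := Nat.sub_mod_eq_zero_of_mod_eq hmod.symm
          obtain ⟨t, ht⟩ := Nat.dvd_of_mod_eq_zero this
          have ht1 : 1 ≤ t := by
            rcases Nat.eq_zero_or_pos t with h | h
            · subst h; omega
            · exact h
          apply hae'
          have : a' - e = a + (t - 1) * e := by
            have : (t - 1) * e = t * e - e := by rw [Nat.sub_mul, one_mul]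
            have h3 : e ≤ t * e := Nat.le_mul_of_pos_left e ht1
            rw [mul_comm] at ht
            omega
          rw [this]
          exact Γ.add_mem haΓ (hmul _)
        · have : (a - a') % e = 0 := Nat.sub_mod_eq_zero_of_mod_eq hmod
          obtain ⟨t, ht⟩ := Nat.dvd_of_mod_eq_zero this
          have ht1 : 1 ≤ t := by
            rcases Nat.eq_zero_or_pos t with h | h
            · subst h; omega
            · exact h
          apply hae
          have : a - e = a' + (t - 1) * e := by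
            have : (t - 1) * e = t * e - e := by rw [Nat.sub_mul, one_mul]
            have h3 : e ≤ t * e := Nat.le_mul_of_pos_left e ht1
            rw [mul_comm] at ht
            omega
          rw [this]
          exact Γ.add_mem haΓ' (hmul _)
      have h1 := Finset.card_le_card_of_injOn (fun a => a % e) hsub hinj
      have h2 : (((Finset.range e).erase 0).erase ((c - 1) % e)).card = e - 2 := by
        rw [Finset.card_erase_of_mem, Finset.card_erase_of_mem, Finset.card_range]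
        · omega
        · rw [Finset.mem_range]; omega
        · rw [Finset.mem_erase, Finset.mem_range]
          exact ⟨hFmod, Nat.mod_lt _ (by omega)⟩
      omega
    have := Finset.card_insert_le e Ap
    omega
  · -- generation
    apply le_antisymm
    · rw [AddSubmonoid.closure_le]
      intro g hg
      rw [Finset.mem_coe, Finset.mem_insert] at hg
      rcases hg with rfl | hg
      · exact he
      · rw [hAp, Finset.mem_filter] at hg
        exact hg.2.1
    · intro γ hγ
      induction γ using Nat.strong_induction_on with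
      | _ γ ih =>
        by_cases h0 : γ = 0
        · subst h0; exact zero_mem _
        have heγ : e ≤ γ := hemin γ hγ h0
        have heG : e ∈ AddSubmonoid.closure (↑(insert e Ap) : Set ℕ) :=
          AddSubmonoid.subset_closure (by simp)
        by_cases hsub : γ - e ∈ Γ
        · have := ih (γ - e) (by omega) hsub
          have h2 : γ = (γ - e) + e := by omega
          rw [h2]
          exact add_mem this heG
        · by_cases hF : γ = c - 1 + e
          · obtain ⟨a, b, haΓ, hbΓ, ha0, hb0, hab⟩ :=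
              exists_decomp Γ c hc hc0 hc1 hsymm e he hemin he2
            have h1 := ih a (by omega) haΓ
            have h2 := ih b (by omega) hbΓ
            rw [hF, ← hab]
            exact add_mem h1 h2
          · have hlt := apery_lt Γ c hc hsymm e hemin γ heγ hsub hF
            apply AddSubmonoid.subset_closure
            rw [Finset.mem_coe, Finset.mem_insert]
            right
            rw [hAp, Finset.mem_filter, Finset.mem_range]
            exact ⟨hlt, hγ, heγ, hsub⟩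
  · intro g hg
    rw [Finset.mem_insert] at hg
    rcases hg with rfl | hg
    · exact ⟨he, hec⟩
    · rw [hAp, Finset.mem_filter, Finset.mem_range] at hg
      exact ⟨hg.2.1, hg.1⟩

end Groth.Agent.Helper7.SymSemi

namespace Groth.Agent.Helper7.SymSemi

theorem result38 (Γ : AddSubmonoid ℕ) (c : ℕ) (hc : ∀ n : ℕ, c ≤ n → n ∈ Γ) (hc0 : c ≠ 0)
    (hc1 : c - 1 ∉ Γ) (hsymm : ∀ x : ℕ, x < c → (x ∉ Γ ↔ c - 1 - x ∈ Γ))
    (e : ℕ) (he : e ∈ Γ) (he0 : e ≠ 0) (hemin : ∀ γ : ℕ, γ ∈ Γ → γ ≠ 0 → e ≤ γ) (he2 : 2 < e) :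
    ∃ G : Finset ℕ, G.card ≤ e - 1 ∧ AddSubmonoid.closure (↑G : Set ℕ) = Γ := by
  obtain ⟨G, h1, h2, -⟩ := main Γ c hc hc0 hc1 hsymm e he he0 hemin he2
  exact ⟨G, h1, h2⟩

theorem result17 (Γ : AddSubmonoid ℕ) (c : ℕ) (hc : ∀ n : ℕ, c ≤ n → n ∈ Γ) (hc0 : c ≠ 0)
    (hc1 : c - 1 ∉ Γ) (hsymm : ∀ x : ℕ, x < c → (x ∉ Γ ↔ c - 1 - x ∈ Γ))
    (he : (1 : ℕ) ∉ Γ ∧ (2 : ℕ) ∉ Γ) :
    AddSubmonoid.closure {γ : ℕ | γ ∈ Γ ∧ γ < c} = Γ := by
  classical
  have hex : ∃ x, x ∈ Γ ∧ x ≠ 0 := ⟨c, hc c le_rfl, hc0⟩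
  obtain ⟨e, ⟨heΓ, he0⟩, hmin⟩ : ∃ e, (e ∈ Γ ∧ e ≠ 0) ∧ ∀ x < e, ¬ (x ∈ Γ ∧ x ≠ 0) :=
    ⟨Nat.find hex, Nat.find_spec hex, fun x hx => Nat.find_min hex hx⟩
  have hemin : ∀ γ : ℕ, γ ∈ Γ → γ ≠ 0 → e ≤ γ := by
    intro γ hγ h0
    by_contra hlt
    push_neg at hlt
    exact hmin γ hlt ⟨hγ, h0⟩
  have he2 : 2 < e := by
    by_contra hle
    push_neg at hle
    interval_cases e
    · exact he0 rfl
    · exact he.1 heΓ
    · exact he.2 heΓ
  obtain ⟨G, -, h2, h3⟩ := main Γ c hc hc0 hc1 hsymm e heΓ he0 hemin he2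
  apply le_antisymm
  · rw [AddSubmonoid.closure_le]
    intro γ hγ
    exact hγ.1
  · conv_lhs => rw [← h2]
    apply AddSubmonoid.closure_mono
    intro g hg
    exact h3 g hg

end Groth.Agent.Helper7.SymSemi
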