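import Mathlib
import Groth.Prelude.Def_PP16
import Groth.Agent.Helper7.SymT10

/-!
# Differentially smooth algebras: a basis of the principal parts
-/

set_option autoImplicit false
set_option linter.unusedSectionVars false
universe u v w

namespace Groth.Agent.Helper7.SymT

open TensorProduct PP16

variable (A B : Type u) [CommRing A] [CommRing B] [Algebra A B] {ι : Type w} [Fintype ι]
  (z : ι → B)

/-- the quotient map, as a `B`-linear map -/
noncomputable def mkL (m : ℕ) : B ⊗[A] B →ₗ[B] PP16.P m A B :=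
  (Ideal.Quotient.mkₐ B ((KaehlerDifferential.ideal A B) ^ (m + 1))).toLinearMap

lemma mkL_eq_zero_iff (m : ℕ) (y : B ⊗[A] B) :
    mkL A B m y = 0 ↔ y ∈ KaehlerDifferential.ideal A B ^ (m + 1) :=
  Ideal.Quotient.eq_zero_iff_mem

lemma mkL_surjective (m : ℕ) : Function.Surjective (mkL A B m) :=
  Ideal.Quotient.mk_surjective

/-- the monomials in `d^m z_i - z_i` -/
noncomputable def vmon (m : ℕ) (p : ι → ℕ) : PP16.P m A B :=
  ∏ i, (PP16.dn m A B (z i) - algebraMap B (PP16.P m A B) (z i)) ^ (p i)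

lemma vmon_eq (m : ℕ) (p : ι → ℕ) : vmon A B z m p = mkL A B m (dmon A B z p) := by
  rw [vmon, dmon]
  change _ = Ideal.Quotient.mk _ _
  rw [map_prod]
  apply Finset.prod_congr rfl
  intro i _
  rw [map_pow]
  congr 1

variable (ω : Module.Basis ι B Ω[B⁄A]) (hω : ∀ i, ω i = KaehlerDifferential.D A B (z i))
  (hinj : ∀ (ιk : Type u) [Fintype ιk], Function.Injective (symToGrI A B ιk))

include hω hinj in
lemma vmon_linearIndependent (m : ℕ) :
    LinearIndependent B (fun p : {p : ι → ℕ // ∑ i, p i ≤ m} => vmon A B z m p.1) := by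
  classical
  rw [linearIndependent_iff']
  intro s g hsum p0 hp0
  let g' : (ι → ℕ) → B := fun p => if h : ∑ i, p i ≤ m then g ⟨p, h⟩ else 0
  have hg' : ∀ p : {p : ι → ℕ // ∑ i, p i ≤ m}, g' p.1 = g p := by
    intro p
    simp only [g']
    rw [dif_pos p.2]
  let s' : Finset (ι → ℕ) := s.map ⟨Subtype.val, Subtype.val_injective⟩
  have h1 : ∑ p ∈ s', g' p • dmon A B z p ∈ KaehlerDifferential.ideal A B ^ (m + 1) := by
    rw [← mkL_eq_zero_iff, map_sum, Finset.sum_map]
    rw [← hsum]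
    apply Finset.sum_congr rfl
    intro p _
    simp only [Function.Embedding.coeFn_mk]
    rw [map_smul, hg', vmon_eq]
  have h2 := LIcore A B z ω hω hinj m s' (by
    intro p hp
    obtain ⟨q, _, rfl⟩ := Finset.mem_map.1 hp
    exact q.2) g' h1 p0.1 (Finset.mem_map.2 ⟨p0, hp0, rfl⟩)
  rw [← hg' p0]
  exact h2

include hω in
lemma vmon_span (m : ℕ) :
    ⊤ ≤ Submodule.span B (Set.range fun p : {p : ι → ℕ // ∑ i, p i ≤ m} => vmon A B z m p.1) := by
  intro x _
  obtain ⟨y, rfl⟩ := mkL_surjective A B m x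
  obtain ⟨w, hw, hyw⟩ := SPcore A B z ω hω m (m + 1) le_rfl y
  have h1 : mkL A B m y = mkL A B m w := by
    rw [← sub_eq_zero, ← map_sub, mkL_eq_zero_iff]
    exact hyw
  rw [h1]
  have h2 := Submodule.apply_mem_span_image_of_mem_span (mkL A B m) hw
  refine Submodule.span_mono ?_ h2
  rintro _ ⟨x, ⟨p, hp, rfl⟩, rfl⟩
  exact ⟨⟨p, hp⟩, vmon_eq A B z m p⟩

include hω hinj in
theorem exists_basis_P (m : ℕ) :
    ∃ b : Module.Basis {p : ι → ℕ // ∑ i, p i ≤ m} B (PP16.P m A B),
      ∀ p, b p = ∏ i, (PP16.dn m A B (z i) - algebraMap B (PP16.P m A B) (z i)) ^ (p.1 i) := by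
  refine ⟨Module.Basis.mk (vmon_linearIndependent A B z ω hω hinj m) (vmon_span A B z ω hω m), ?_⟩
  intro p
  rw [Module.Basis.mk_apply]
  rfl

end Groth.Agent.Helper7.SymT
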