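import Mathlib
import Groth.Prelude.Def_PP16
import Groth.Prelude.Def_DiffOp
import Groth.Agent.Helper7.SymT11
import Groth.Agent.Helper1.DiffOpBasis

/-!
# Divided-power operators and differential smoothness: from operators to smoothness
-/

set_option autoImplicit false
set_option linter.unusedSectionVars false
universe u v w

namespace Groth.Agent.Helper7.SymT

open TensorProduct PP16 Diff16

variable (A B : Type u) [CommRing A] [CommRing B] [Algebra A B] {ι : Type} [Fintype ι]
  [DecidableEq ι] (z : ι → B)

lemma linearize_smul (D : B →ₗ[A] B) (c : B) (y : B ⊗[A] B) :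
    linearize A B B B D (c • y) = c • linearize A B B B D y := by
  induction y using TensorProduct.induction_on with
  | zero => simp
  | tmul b b' =>
    rw [TensorProduct.smul_tmul', Groth.Agent.Helper1.DiffOp.linearize_tmul,
      Groth.Agent.Helper1.DiffOp.linearize_tmul]
    simp only [smul_eq_mul, mul_assoc]
  | add y y' ih ih' => rw [smul_add, map_add, ih, ih', map_add, smul_add]

lemma dmon_zero : dmon A B z 0 = 1 := by
  rw [dmon]
  simp

lemma dmon_add_single (q : ι → ℕ) (i : ι) :
    dmon A B z (q + Pi.single i 1) =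
      dmon A B z q * ((δ A B (z i) : ↥(KaehlerDifferential.ideal A B)) : B ⊗[A] B) := by
  rw [dmon, dmon]
  simp only [Pi.add_apply, pow_add, Finset.prod_mul_distrib]
  congr 1
  rw [Finset.prod_eq_single i]
  · simp
  · intro j _ hj
    simp [hj]
  · intro h; exact absurd (Finset.mem_univ i) h

lemma dmon_single (i : ι) :
    dmon A B z (Pi.single i 1) = ((δ A B (z i) : ↥(KaehlerDifferential.ideal A B)) : B ⊗[A] B) := by
  have := dmon_add_single A B z 0 i
  rwa [zero_add, dmon_zero, one_mul] at this

variable (Dp : (ι → ℕ) → (B →ₗ[A] B))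
  (hz : Submodule.span B (Set.range fun i => KaehlerDifferential.D A B (z i)) = ⊤)
  (hD : ∀ p, ∃ k : ℕ, IsDiffOpLE A B B B k (Dp p))
  (hDz : ∀ p q : ι → ℕ, Dp p (∏ i, z i ^ q i) =
    ((∏ i, Nat.choose (q i) (p i) : ℕ) : B) * ∏ i, z i ^ (q i - p i))

include hDz in
lemma Dp_one (p : ι → ℕ) : Dp p 1 = if p = 0 then 1 else 0 := by
  have h := hDz p 0
  simp only [Pi.zero_apply, pow_zero, Finset.prod_const_one, zero_tsub, mul_one] at h
  rw [h]
  split_ifs with hp
  · subst hp
    simp
  · have : ∃ i, p i ≠ 0 := by
      by_contra hcon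
      push Not at hcon
      exact hp (funext hcon)
    obtain ⟨i, hi⟩ := this
    rw [Finset.prod_eq_zero (Finset.mem_univ i) (Nat.choose_eq_zero_of_lt (Nat.pos_of_ne_zero hi))]
    simp

include hz hD hDz in
/-- the operators `D_p` are dual to the monomials in `1 ⊗ z_i - z_i ⊗ 1` -/
theorem linearize_dmon : ∀ (n : ℕ) (q : ι → ℕ), ∑ i, q i = n → ∀ p : ι → ℕ,
    linearize A B B B (Dp p) (dmon A B z q) = if p = q then 1 else 0 := by
  intro n
  induction n with
  | zero =>
    intro q hq p
    have hq0 : q = 0 := by
      funext i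
      have := Finset.single_le_sum (f := q) (fun j _ => Nat.zero_le _) (Finset.mem_univ i)
      simp only [Pi.zero_apply]
      omega
    subst hq0
    rw [dmon_zero, Algebra.TensorProduct.one_def, Groth.Agent.Helper1.DiffOp.linearize_tmul, one_smul,
      Dp_one A B z Dp hDz]
  | succ n ih =>
    intro q hq p
    have hex : ∃ i, q i ≠ 0 := by
      by_contra hcon
      push Not at hcon
      have : ∑ i, q i = 0 := Finset.sum_eq_zero (fun i _ => hcon i)
      omega
    obtain ⟨i, hi⟩ := hex
    set q' : ι → ℕ := q - Pi.single i 1 with hq'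
    have hqq : q = q' + Pi.single i 1 := by
      funext j
      simp only [hq', Pi.add_apply, Pi.sub_apply]
      by_cases hj : j = i
      · subst hj
        simp only [Pi.single_eq_same]
        omega
      · simp [hj]
    have hsum : ∑ j, q' j = n := by
      have := Groth.Agent.Helper1.DiffOpBasis.sum_add_single (ι := ι) i q'
      rw [← hqq, hq] at this
      omega
    rw [hqq, dmon_add_single]
    change linearize A B B B (Dp p) (dmon A B z q' * ((1 : B) ⊗ₜ[A] z i - z i ⊗ₜ[A] (1 : B))) = _
    rw [Groth.Agent.Helper1.DiffOp.linearize_mul_gen,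
      Groth.Agent.Helper1.DiffOpBasis.commutator_eq z Dp hz hD hDz p i]
    split_ifs with hpi hpq hpq
    · exfalso
      rw [hpq] at hpi
      simp at hpi
    · exact Groth.Agent.Helper1.DiffOp.linearize_zero_map _
    · rw [ih q' hsum, if_pos]
      rw [hpq]
      simp
    · rw [ih q' hsum, if_neg]
      intro heq
      apply hpq
      funext j
      have := congrFun heq j
      simp only [Pi.sub_apply, Pi.add_apply] at this ⊢
      by_cases hj : j = i
      · subst hj
        simp only [Pi.single_eq_same] at this ⊢
        omega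
      · simp [hj] at this ⊢
        exact this

end Groth.Agent.Helper7.SymT
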