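import Mathlib
import Groth.Prelude.Def_PP16
import Groth.Prelude.Def_DiffOp
import Groth.Agent.Helper7.SymT12

/-!
# Divided-power operators imply differential smoothness
-/

set_option autoImplicit false
set_option linter.unusedSectionVars false
universe u v w

namespace Groth.Agent.Helper7.SymT

open TensorProduct PP16 Diff16

section HomExtBasis

variable {R ι : Type u} [CommRing R] [Fintype ι] {Λ : Type w} {F : Type v} [AddCommGroup F]
  [Module R F] (ω : Module.Basis Λ R F) {N : Type*} [AddCommGroup N] [Module R N]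

lemma hom_ext_basis {f g : SymmetricPower R ι F →ₗ[R] N}
    (h : ∀ φ : ι → Λ, f (SymmetricPower.tprod R (fun j => ω (φ j))) =
      g (SymmetricPower.tprod R (fun j => ω (φ j)))) : f = g := by
  apply hom_ext
  have h2 : f.compMultilinearMap (SymmetricPower.tprod R) =
      g.compMultilinearMap (SymmetricPower.tprod R) := by
    apply Module.Basis.ext_multilinear (fun _ => ω)
    intro φ
    exact h φ
  exact fun v => DFunLike.congr_fun h2 v

end HomExtBasis

variable (A B : Type u) [CommRing A] [CommRing B] [Algebra A B] {ι : Type} [Fintype ι]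
  [DecidableEq ι] (z : ι → B)
  (Dp : (ι → ℕ) → (B →ₗ[A] B))
  (hz : Submodule.span B (Set.range fun i => KaehlerDifferential.D A B (z i)) = ⊤)
  (hD : ∀ p, ∃ k : ℕ, IsDiffOpLE A B B B k (Dp p))
  (hDz : ∀ p q : ι → ℕ, Dp p (∏ i, z i ^ q i) =
    ((∏ i, Nat.choose (q i) (p i) : ℕ) : B) * ∏ i, z i ^ (q i - p i))

include hz hD hDz in
theorem linearIndependent_D :
    LinearIndependent B (fun i => KaehlerDifferential.D A B (z i)) := by
  rw [Fintype.linearIndependent_iff]
  intro c hc j
  have h1 : ((∑ i, c i • δ A B (z i) : ↥(KaehlerDifferential.ideal A B)) : B ⊗[A] B) ∈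
      KaehlerDifferential.ideal A B ^ 2 := by
    apply piK_ker
    rw [map_sum]
    simp_rw [map_smul, piK_δ]
    exact hc
  have hord : IsDiffOpLE A B B B 1 (Dp (Pi.single j 1)) :=
    Groth.Agent.Helper1.DiffOpBasis.order_le z Dp hz hD hDz 1 (Pi.single j 1) (by
      rw [Finset.sum_eq_single j]
      · simp
      · intro i _ hi
        simp [hi]
      · intro h; exact absurd (Finset.mem_univ j) h)
  have h2 := Groth.Agent.Helper1.DiffOp.linearize_vanish' 1 _ hord _ h1
  rw [Submodule.coe_sum, map_sum] at h2
  have h3 : ∀ i ∈ Finset.univ, linearize A B B B (Dp (Pi.single j 1))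
      ((c i • δ A B (z i) : ↥(KaehlerDifferential.ideal A B)) : B ⊗[A] B) =
      if i = j then c i else 0 := by
    intro i _
    rw [Submodule.coe_smul_of_tower, linearize_smul, ← dmon_single A B z i,
      linearize_dmon A B z Dp hz hD hDz 1 (Pi.single i 1) (by
        rw [Finset.sum_eq_single i]
        · simp
        · intro k _ hk
          simp [hk]
        · intro h; exact absurd (Finset.mem_univ i) h)]
    by_cases hij : i = j
    · subst hij
      simp
    · rw [if_neg, if_neg hij, smul_zero]
      intro heq
      apply hij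
      have := congrFun heq j
      simp only [Pi.single_eq_same] at this
      by_contra hne
      rw [Pi.single_eq_of_ne (Ne.symm hne)] at this
      exact one_ne_zero this
  rw [Finset.sum_congr rfl h3, Finset.sum_ite_eq' Finset.univ j] at h2
  simpa using h2

/-- the basis `dz_i` -/
noncomputable def basisD (hli : LinearIndependent B (fun i => KaehlerDifferential.D A B (z i))) :
    Module.Basis ι B Ω[B⁄A] :=
  Module.Basis.mk hli (by rw [hz])

lemma basisD_apply (hli : LinearIndependent B (fun i => KaehlerDifferential.D A B (z i))) (i : ι) :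
    basisD A B z hz hli i = KaehlerDifferential.D A B (z i) := by
  rw [basisD, Module.Basis.mk_apply]

variable (ιk : Type u) [Fintype ιk]

/-- the functional `linearize (D_p)` on `I^k` -/
noncomputable def qP (p : ι → ℕ) : ↥(KaehlerDifferential.ideal A B ^ Fintype.card ιk) →ₗ[B] B where
  toFun y := linearize A B B B (Dp p) (y : B ⊗[A] B)
  map_add' y y' := by rw [Submodule.coe_add, map_add]
  map_smul' c y := by
    rw [Submodule.coe_smul_of_tower, linearize_smul]
    rfl

include hz hD hDz in
lemma qP_eq_zero (p : ι → ℕ) (hp : ∑ i, p i = Fintype.card ιk)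
    (y : ↥(KaehlerDifferential.ideal A B ^ Fintype.card ιk))
    (hy : (y : B ⊗[A] B) ∈ KaehlerDifferential.ideal A B ^ (Fintype.card ιk + 1)) :
    qP A B Dp ιk p y = 0 :=
  Groth.Agent.Helper1.DiffOp.linearize_vanish' _ _
    (Groth.Agent.Helper1.DiffOpBasis.order_le z Dp hz hD hDz _ p hp) _ hy

include hz hD hDz in
theorem symToGrI_injective_of_Dp : Function.Injective (symToGrI A B ιk) := by
  classical
  have hli := linearIndependent_D A B z Dp hz hD hDz
  set ω := basisD A B z hz hli with hω
  have hωz : ∀ i, ω i = KaehlerDifferential.D A B (z i) := basisD_apply A B z hz hli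
  rw [injective_iff_map_eq_zero]
  intro t ht
  apply Θ_injective ω
  rw [map_zero]
  ext m
  rw [MvPolynomial.coeff_zero]
  by_cases hm : ∑ i, m i = Fintype.card ιk
  · -- use the functional attached to `m`
    have hqz := qP_eq_zero A B z Dp hz hD hDz ιk (⇑m) hm
    have heq : symToGr (KaehlerDifferential.ideal A B) (piK A B) (piK_surjective A B) (piK_ker A B)
        (qP A B Dp ιk (⇑m)) hqz = (MvPolynomial.lcoeff B m) ∘ₗ (Θ (ι := ιk) ω) := by
      apply hom_ext_basis ω
      intro φ
      have h1 : (fun j => ω (φ j)) = fun j => piK A B (δ A B (z (φ j))) := by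
        funext j
        rw [hωz, piK_δ]
      rw [LinearMap.comp_apply, Θ_tprod_basis, h1, symToGr_tprod]
      rw [MvPolynomial.lcoeff_apply]
      change linearize A B B B (Dp ⇑m) _ = _
      rw [prodI_delta_comp, linearize_dmon A B z Dp hz hD hDz _ _ rfl, MvPolynomial.coeff_monomial]
      by_cases hc : cnt φ = m
      · rw [if_pos hc, if_pos (by rw [hc])]
      · rw [if_neg hc, if_neg]
        intro h'
        exact hc (DFunLike.coe_injective h'.symm)
    obtain ⟨y, hy1, hy2⟩ := exists_rep (KaehlerDifferential.ideal A B) (piK A B) (piK_surjective A B)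
      (piK_ker A B) (qK A B ιk) (qK_eq_zero A B ιk) (qP A B Dp ιk (⇑m)) hqz t
    change symToGrI A B ιk t = _ at hy1
    rw [ht] at hy1
    have hy : (y : B ⊗[A] B) ∈ KaehlerDifferential.ideal A B ^ (Fintype.card ιk + 1) :=
      (qK_eq_zero_iff A B ιk y).1 hy1.symm
    rw [heq, hqz y hy, LinearMap.comp_apply] at hy2
    exact hy2
  · have heq : (MvPolynomial.lcoeff B m) ∘ₗ (Θ (ι := ιk) ω) = 0 := by
      apply hom_ext_basis ω
      intro φ
      rw [LinearMap.comp_apply, Θ_tprod_basis, LinearMap.zero_apply]
      rw [MvPolynomial.lcoeff_apply, MvPolynomial.coeff_monomial, if_neg]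
      intro hc
      apply hm
      rw [← hc]
      exact cnt_sum φ
    exact DFunLike.congr_fun heq t

include hz hD hDz in
theorem isDiffSmooth_of_Dp :
    PP16.IsDiffSmooth A B ∧
      ∃ b : Module.Basis ι B (KaehlerDifferential A B), ∀ i, b i = KaehlerDifferential.D A B (z i) := by
  have hli := linearIndependent_D A B z Dp hz hD hDz
  refine ⟨?_, basisD A B z hz hli, basisD_apply A B z hz hli⟩
  rw [isDiffSmooth_iff]
  exact ⟨Module.Projective.of_basis (basisD A B z hz hli),
    fun ιk _ => symToGrI_injective_of_Dp A B z Dp hz hD hDz ιk⟩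

end Groth.Agent.Helper7.SymT
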