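import Mathlib
import Groth.Prelude.Def_PP16
import Groth.Prelude.Def_DiffOp
import Groth.Agent.Helper7.SymT13

/-!
# Differential smoothness implies the existence of divided-power operators
-/

set_option autoImplicit false
set_option linter.unusedSectionVars false
universe u v w

namespace Groth.Agent.Helper7.SymT

open TensorProduct PP16 Diff16 MvPolynomial

lemma coeff_prod_C_add_X' {B : Type u} [CommRing B] {ι : Type} [Fintype ι] [DecidableEq ι]
    (z : ι → B) (q p : ι → ℕ) :
    coeff (Finsupp.equivFunOnFinite.symm p)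
      (∏ i, (C (z i) + X i : MvPolynomial ι B) ^ q i) =
      ((∏ i, Nat.choose (q i) (p i) : ℕ) : B) * ∏ i, z i ^ (q i - p i) := by
  classical
  have h1 : ∀ i, (C (z i) + X i : MvPolynomial ι B) ^ q i =
      ∑ m ∈ Finset.range (q i + 1), X i ^ m * C (z i ^ (q i - m) * (Nat.choose (q i) m : B)) := by
    intro i
    rw [add_comm, add_pow]
    apply Finset.sum_congr rfl
    intro m _
    rw [C_mul, C_pow, mul_assoc]
    congr 2
  have h2 : ∀ k : ι → ℕ,
      ∏ i, (X i ^ k i * C (z i ^ (q i - k i) * (Nat.choose (q i) (k i) : B)) : MvPolynomial ι B) =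
      monomial (Finsupp.equivFunOnFinite.symm k)
        (∏ i, z i ^ (q i - k i) * (Nat.choose (q i) (k i) : B)) := by
    intro k
    rw [Finset.prod_mul_distrib, monomial_eq, Finsupp.prod_fintype _ _ (by simp), ← map_prod, mul_comm]
    rfl
  simp_rw [h1]
  rw [Finset.prod_univ_sum]
  simp_rw [h2]
  rw [coeff_sum]
  simp_rw [coeff_monomial]
  have h3 : ∀ k : ι → ℕ, (Finsupp.equivFunOnFinite.symm k = Finsupp.equivFunOnFinite.symm p) ↔
      k = p := fun k => Finsupp.equivFunOnFinite.symm.injective.eq_iff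
  simp_rw [h3]
  rw [Finset.sum_ite_eq' (Fintype.piFinset fun i => Finset.range (q i + 1)) p]
  split_ifs with hmem
  · rw [Finset.prod_mul_distrib, Nat.cast_prod, mul_comm]
  · rw [Fintype.mem_piFinset] at hmem
    push Not at hmem
    obtain ⟨i, hi⟩ := hmem
    rw [Finset.mem_range] at hi
    have : Nat.choose (q i) (p i) = 0 := Nat.choose_eq_zero_of_lt (by omega)
    rw [Finset.prod_eq_zero (Finset.mem_univ i) this]
    simp

variable (A B : Type u) [CommRing A] [CommRing B] [Algebra A B] {ι : Type} [Fintype ι]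
  [DecidableEq ι] (z : ι → B) (m : ℕ)
  (b : Module.Basis {p : ι → ℕ // ∑ i, p i ≤ m} B (PP16.P m A B))
  (hb : ∀ p, b p = ∏ i, (PP16.dn m A B (z i) - algebraMap B (PP16.P m A B) (z i)) ^ (p.1 i))

/-- the operator "coefficient of `ζ^p` in `d^m`" -/
noncomputable def Dcoord (p : {p : ι → ℕ // ∑ i, p i ≤ m}) : B →ₗ[A] B :=
  ((b.coord p).restrictScalars A) ∘ₗ (PP16.dn m A B).toLinearMap

lemma Dcoord_apply (p : {p : ι → ℕ // ∑ i, p i ≤ m}) (c : B) :
    Dcoord A B m b p c = b.coord p (PP16.dn m A B c) := rfl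

lemma linearize_Dcoord (p : {p : ι → ℕ // ∑ i, p i ≤ m}) (y : B ⊗[A] B) :
    linearize A B B B (Dcoord A B m b p) y = b.coord p (mkL A B m y) := by
  induction y using TensorProduct.induction_on with
  | zero => simp
  | tmul c c' =>
    rw [Groth.Agent.Helper1.DiffOp.linearize_tmul, Dcoord_apply, ← map_smul]
    congr 1
    change c • Ideal.Quotient.mk _ ((1 : B) ⊗ₜ[A] c') = Ideal.Quotient.mk _ (c ⊗ₜ[A] c')
    rw [Algebra.smul_def]
    change Ideal.Quotient.mk _ (c ⊗ₜ[A] (1 : B)) * _ = _
    rw [← map_mul, Algebra.TensorProduct.tmul_mul_tmul, mul_one, one_mul]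
  | add y y' ih ih' => rw [map_add, ih, ih', map_add, map_add]

lemma isDiffOpLE_Dcoord (p : {p : ι → ℕ // ∑ i, p i ≤ m}) :
    IsDiffOpLE A B B B m (Dcoord A B m b p) := by
  apply Groth.Agent.Helper1.DiffOp.isDiffOpLE_of_linearize_vanish
  intro x hx
  rw [linearize_Dcoord, (mkL_eq_zero_iff A B m x).2 hx, map_zero]

/-- evaluation of polynomials at the `ζ_i` -/
noncomputable def evZ : MvPolynomial ι B →ₐ[B] PP16.P m A B :=
  MvPolynomial.aeval (fun i => PP16.dn m A B (z i) - algebraMap B (PP16.P m A B) (z i))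

include hb in
lemma coord_evZ (p : {p : ι → ℕ // ∑ i, p i ≤ m}) (F : MvPolynomial ι B) :
    b.coord p (evZ A B z m F) = coeff (Finsupp.equivFunOnFinite.symm p.1) F := by
  classical
  induction F using MvPolynomial.induction_on' with
  | monomial r c =>
    have h1 : evZ A B z m (monomial r c) = c • vmon A B z m (⇑r) := by
      rw [evZ, MvPolynomial.aeval_monomial, Finsupp.prod_fintype _ _ (by simp), Algebra.smul_def]
      rfl
    rw [h1, map_smul, coeff_monomial]
    by_cases hr : ∑ i, r i ≤ m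
    · have h2 : vmon A B z m (⇑r) = b ⟨⇑r, hr⟩ := (hb ⟨⇑r, hr⟩).symm
      rw [h2, Module.Basis.coord_apply, Module.Basis.repr_self, Finsupp.single_apply]
      by_cases hrp : (⟨⇑r, hr⟩ : {p : ι → ℕ // ∑ i, p i ≤ m}) = p
      · rw [if_pos hrp, if_pos, smul_eq_mul, mul_one]
        rw [← hrp]
        ext i
        rfl
      · rw [if_neg hrp, if_neg, smul_zero]
        intro h'
        apply hrp
        apply Subtype.ext
        change ⇑r = p.1
        rw [h']
        rfl
    · have h2 : vmon A B z m (⇑r) = 0 := by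
        rw [vmon_eq, mkL_eq_zero_iff]
        exact dmon_mem_of_le A B z (⇑r) (m + 1) (by omega)
      rw [h2, map_zero, smul_zero, if_neg]
      intro h'
      apply hr
      rw [h']
      exact p.2
  | add F G hF hG => rw [map_add, map_add, hF, hG, coeff_add]

include hb in
lemma Dcoord_monomial (p : {p : ι → ℕ // ∑ i, p i ≤ m}) (q : ι → ℕ) :
    Dcoord A B m b p (∏ i, z i ^ q i) =
      ((∏ i, Nat.choose (q i) (p.1 i) : ℕ) : B) * ∏ i, z i ^ (q i - p.1 i) := by
  rw [Dcoord_apply, map_prod]
  have h1 : ∏ i, PP16.dn m A B (z i ^ q i) =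
      evZ A B z m (∏ i, (C (z i) + X i : MvPolynomial ι B) ^ q i) := by
    rw [map_prod]
    apply Finset.prod_congr rfl
    intro i _
    rw [map_pow, map_pow, map_add, evZ, MvPolynomial.aeval_C, MvPolynomial.aeval_X]
    congr 1
    ring
  rw [h1, coord_evZ A B z m b hb, coeff_prod_C_add_X']

end Groth.Agent.Helper7.SymT
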