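import Mathlib
import Groth.Prelude.Def_PP16
import Groth.Agent.Helper7.SymT5
import Groth.Agent.Helper7.SymT15

/-!
# Formally smooth algebras are differentially smooth: the Taylor lift
-/

set_option autoImplicit false
set_option linter.unusedSectionVars false
universe u v w

namespace Groth.Agent.Helper7.SymT

open TensorProduct PP16 MvPolynomial

variable (A B : Type u) [CommRing A] [CommRing B] [Algebra A B]
  (s : Ω[B⁄A] →ₗ[B] Ω[B⁄A] →₀ B)

/-- the polynomial ring on the elements of `Ω` -/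
abbrev QQ := MvPolynomial Ω[B⁄A] B

/-- the ideal of variables -/
noncomputable abbrev VV : Ideal (QQ A B) := MvPolynomial.idealOfVars Ω[B⁄A] B

/-- `g = ℓ ∘ d` -/
noncomputable def gP : B →ₗ[A] QQ A B :=
  ((ellP s).restrictScalars A) ∘ₗ (KaehlerDifferential.D A B).toLinearMap

lemma gP_apply (b : B) : gP A B s b = ellP s (KaehlerDifferential.D A B b) := rfl

lemma gP_mul (b c : B) :
    gP A B s (b * c) = MvPolynomial.C b * gP A B s c + MvPolynomial.C c * gP A B s b := by
  rw [gP_apply, Derivation.leibniz, map_add, map_smul, map_smul, MvPolynomial.smul_eq_C_mul,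
    MvPolynomial.smul_eq_C_mul]
  rfl

lemma gP_mem (b : B) : gP A B s b ∈ VV A B := ellP_mem s _

lemma gP_one : gP A B s 1 = 0 := by
  rw [gP_apply, Derivation.map_one_eq_zero, map_zero]

/-- the first order Taylor map -/
noncomputable def τ1 : B →ₐ[A] QQ A B ⧸ VV A B ^ 2 :=
  AlgHom.ofLinearMap
    ((Ideal.Quotient.mkₐ A (VV A B ^ 2)).toLinearMap ∘ₗ
      ((Algebra.linearMap B (QQ A B)).restrictScalars A + gP A B s))
    (by
      rw [LinearMap.comp_apply, LinearMap.add_apply, gP_one, add_zero]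
      change Ideal.Quotient.mk _ (algebraMap B (QQ A B) 1) = 1
      rw [map_one, map_one])
    (by
      intro b c
      simp only [LinearMap.comp_apply, LinearMap.add_apply]
      change Ideal.Quotient.mk _ (MvPolynomial.C (b * c) + gP A B s (b * c)) =
        Ideal.Quotient.mk _ (MvPolynomial.C b + gP A B s b) *
          Ideal.Quotient.mk _ (MvPolynomial.C c + gP A B s c)
      rw [← map_mul, Ideal.Quotient.eq, gP_mul, map_mul]
      have : MvPolynomial.C b * MvPolynomial.C c +
          (MvPolynomial.C b * gP A B s c + MvPolynomial.C c * gP A B s b) -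
          (MvPolynomial.C b + gP A B s b) * (MvPolynomial.C c + gP A B s c) =
          -(gP A B s b * gP A B s c) := by ring
      rw [this, pow_two]
      exact neg_mem (Ideal.mul_mem_mul (gP_mem A B s b) (gP_mem A B s c)))

lemma τ1_apply (b : B) :
    τ1 A B s b = Ideal.Quotient.mk _ (MvPolynomial.C b + gP A B s b) := rfl

/-- the transition maps between truncations -/
noncomputable def trans {N N' : ℕ} (h : N' ≤ N) :
    QQ A B ⧸ VV A B ^ N →ₐ[A] QQ A B ⧸ VV A B ^ N' :=
  Ideal.Quotient.factorₐ A (Ideal.pow_le_pow_right h)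

lemma trans_mk {N N' : ℕ} (h : N' ≤ N) (f : QQ A B) :
    trans A B h (Ideal.Quotient.mk _ f) = Ideal.Quotient.mk _ f := rfl

lemma trans_surjective {N N' : ℕ} (h : N' ≤ N) : Function.Surjective (trans A B h) :=
  Ideal.Quotient.factor_surjective (Ideal.pow_le_pow_right h)

lemma trans_ker_nilpotent {N : ℕ} (h : 2 ≤ N) :
    IsNilpotent (RingHom.ker (trans A B h : QQ A B ⧸ VV A B ^ N →+* QQ A B ⧸ VV A B ^ 2)) := by
  refine ⟨N, ?_⟩
  have : RingHom.ker (trans A B h : QQ A B ⧸ VV A B ^ N →+* QQ A B ⧸ VV A B ^ 2) =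
      (VV A B ^ 2).map (Ideal.Quotient.mk (VV A B ^ N)) :=
    Ideal.Quotient.factor_ker (Ideal.pow_le_pow_right h)
  rw [this, ← Ideal.map_pow, Ideal.zero_eq_bot, Ideal.map_eq_bot_iff_le_ker, Ideal.mk_ker, ← pow_mul]
  exact Ideal.pow_le_pow_right (by nlinarith)

variable [Algebra.FormallySmooth A B]

/-- the Taylor lift to the `N`-th truncation -/
noncomputable def τN (N : ℕ) (h : 2 ≤ N) : B →ₐ[A] QQ A B ⧸ VV A B ^ N :=
  Algebra.FormallySmooth.liftOfSurjective (τ1 A B s) (trans A B h) (trans_surjective A B h)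
    (trans_ker_nilpotent A B h)

lemma trans_τN (N : ℕ) (h : 2 ≤ N) (b : B) : trans A B h (τN A B s N h b) = τ1 A B s b :=
  Algebra.FormallySmooth.liftOfSurjective_apply _ _ _ _ b

/-- a polynomial representative of `τ_N(b) - b`, congruent to `g(b)` modulo `V²` -/
lemma exists_rep_τN (N : ℕ) (h : 2 ≤ N) (b : B) :
    ∃ f : QQ A B, f ∈ VV A B ∧ f - gP A B s b ∈ VV A B ^ 2 ∧
      τN A B s N h b - Ideal.Quotient.mk _ (MvPolynomial.C b) = Ideal.Quotient.mk _ f := by
  obtain ⟨f0, hf0⟩ := Ideal.Quotient.mk_surjective (τN A B s N h b)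
  have h1 := trans_τN A B s N h b
  rw [← hf0, trans_mk, τ1_apply, Ideal.Quotient.eq] at h1
  refine ⟨f0 - MvPolynomial.C b, ?_, ?_, ?_⟩
  · have h2 : f0 - MvPolynomial.C b = (f0 - (MvPolynomial.C b + gP A B s b)) + gP A B s b := by ring
    rw [h2]
    refine Ideal.add_mem _ ?_ (gP_mem A B s b)
    have : VV A B ^ 2 ≤ VV A B := Ideal.pow_le_self (by norm_num)
    exact this h1
  · have h2 : f0 - MvPolynomial.C b - gP A B s b = f0 - (MvPolynomial.C b + gP A B s b) := by ring
    rw [h2]
    exact h1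
  · rw [map_sub, hf0]

end Groth.Agent.Helper7.SymT
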