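import Mathlib
import Groth.Prelude.Def_PP16
import Groth.Agent.Helper7.SymT16

/-!
# Formally smooth algebras are differentially smooth
-/

set_option autoImplicit false
set_option linter.unusedSectionVars false
universe u v w

namespace Groth.Agent.Helper7.SymT

open TensorProduct PP16 MvPolynomial

variable (A B : Type u) [CommRing A] [CommRing B] [Algebra A B] [Algebra.FormallySmooth A B]
  (s : Ω[B⁄A] →ₗ[B] Ω[B⁄A] →₀ B) (n : ℕ)

/-- the Taylor map `B ⊗ B → Q/V^(n+1)` -/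
noncomputable def XiP : B ⊗[A] B →ₐ[A] QQ A B ⧸ VV A B ^ (n + 1) :=
  (trans A B (N := n + 2) (N' := n + 1) (by omega)).comp
    (Algebra.TensorProduct.lift (IsScalarTower.toAlgHom A B (QQ A B ⧸ VV A B ^ (n + 2)))
      (τN A B s (n + 2) (by omega)) (fun _ _ => Commute.all _ _))

lemma XiP_tmul (b c : B) :
    XiP A B s n (b ⊗ₜ[A] c) = Ideal.Quotient.mk _ (MvPolynomial.C b) *
      trans A B (N := n + 2) (N' := n + 1) (by omega) (τN A B s (n + 2) (by omega) c) := by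
  rw [XiP, AlgHom.comp_apply, Algebra.TensorProduct.lift_tmul, map_mul]
  rfl

lemma XiP_smul (b : B) (y : B ⊗[A] B) : XiP A B s n (b • y) = b • XiP A B s n y := by
  have h1 : b • y = (b ⊗ₜ[A] (1 : B)) * y := by
    rw [Algebra.smul_def, Algebra.TensorProduct.algebraMap_apply]
    rfl
  rw [h1, map_mul, XiP_tmul, map_one, map_one, mul_one]
  rw [Algebra.smul_def (R := B) (A := QQ A B ⧸ VV A B ^ (n + 1))]
  rfl

lemma XiP_delta (b : B) :
    ∃ f : QQ A B, f ∈ VV A B ∧ f - gP A B s b ∈ VV A B ^ 2 ∧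
      XiP A B s n ((1 : B) ⊗ₜ[A] b - b ⊗ₜ[A] (1 : B)) = Ideal.Quotient.mk _ f := by
  obtain ⟨f, hf1, hf2, hf3⟩ := exists_rep_τN A B s (n + 2) (by omega) b
  refine ⟨f, hf1, hf2, ?_⟩
  rw [map_sub, XiP_tmul, XiP_tmul]
  simp only [map_one, one_mul, mul_one]
  have := congrArg (trans A B (N := n + 2) (N' := n + 1) (by omega)) hf3
  rw [map_sub, trans_mk, trans_mk] at this
  exact this

lemma XiP_map_ideal_le :
    (KaehlerDifferential.ideal A B).map (XiP A B s n) ≤
      (VV A B).map (Ideal.Quotient.mk (VV A B ^ (n + 1))) := by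
  rw [← KaehlerDifferential.span_range_eq_ideal, Ideal.map_span, Ideal.span_le]
  rintro _ ⟨_, ⟨b, rfl⟩, rfl⟩
  obtain ⟨f, hf1, -, hf3⟩ := XiP_delta A B s n b
  change XiP A B s n ((1 : B) ⊗ₜ[A] b - b ⊗ₜ[A] (1 : B)) ∈ _
  rw [hf3]
  exact Ideal.mem_map_of_mem _ hf1

lemma XiP_eq_zero (y : B ⊗[A] B) (hy : y ∈ KaehlerDifferential.ideal A B ^ (n + 1)) :
    XiP A B s n y = 0 := by
  have h1 : (KaehlerDifferential.ideal A B ^ (n + 1)).map (XiP A B s n) ≤ ⊥ := by
    rw [Ideal.map_pow]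
    refine (Ideal.pow_right_mono (XiP_map_ideal_le A B s n) (n + 1)).trans ?_
    rw [← Ideal.map_pow, le_bot_iff, Ideal.map_eq_bot_iff_le_ker, Ideal.mk_ker]
  have := h1 (Ideal.mem_map_of_mem _ hy)
  simpa using this

lemma XiP_prod {ι : Type u} [Fintype ι] (hn : Fintype.card ι = n) (b : ι → B) :
    XiP A B s n (∏ i, ((1 : B) ⊗ₜ[A] b i - b i ⊗ₜ[A] (1 : B))) =
      Ideal.Quotient.mk _ (∏ i, gP A B s (b i)) := by
  classical
  choose f hf1 hf2 hf3 using fun i => XiP_delta A B s n (b i)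
  rw [map_prod]
  simp_rw [hf3]
  rw [← map_prod, Ideal.Quotient.eq]
  have := prod_sub_prod_mem (VV A B) (Finset.univ : Finset ι) f (fun i => gP A B s (b i))
    (fun i _ => hf1 i) (fun i _ => gP_mem A B s (b i)) (fun i _ => hf2 i)
  rwa [Finset.card_univ, hn] at this

end Groth.Agent.Helper7.SymT
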