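import Mathlib
import Groth.Prelude.Def_PP16
import Groth.Agent.Helper7.SymT17

/-!
# Formally smooth algebras are differentially smooth: conclusion
-/

set_option autoImplicit false
set_option linter.unusedSectionVars false
universe u v w

namespace Groth.Agent.Helper7.SymT

open TensorProduct PP16 MvPolynomial

variable (A B : Type u) [CommRing A] [CommRing B] [Algebra A B] [Algebra.FormallySmooth A B]
  (s : Ω[B⁄A] →ₗ[B] Ω[B⁄A] →₀ B) (hs : Finsupp.linearCombination B id ∘ₗ s = .id)
  (ι : Type u) [Fintype ι]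

/-- the Taylor map restricted to `I^n`, as a `B`-linear map -/
noncomputable def qF : ↥(KaehlerDifferential.ideal A B ^ Fintype.card ι) →ₗ[B]
    QQ A B ⧸ VV A B ^ (Fintype.card ι + 1) where
  toFun y := XiP A B s (Fintype.card ι) (y : B ⊗[A] B)
  map_add' y y' := by rw [Submodule.coe_add, map_add]
  map_smul' b y := by
    rw [Submodule.coe_smul_of_tower, XiP_smul]
    rfl

lemma qF_eq_zero (y : ↥(KaehlerDifferential.ideal A B ^ Fintype.card ι))
    (hy : (y : B ⊗[A] B) ∈ KaehlerDifferential.ideal A B ^ (Fintype.card ι + 1)) :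
    qF A B s ι y = 0 :=
  XiP_eq_zero A B s _ _ hy

/-- the quotient map as a `B`-linear map -/
noncomputable def mkQ' : QQ A B →ₗ[B] QQ A B ⧸ VV A B ^ (Fintype.card ι + 1) :=
  (Ideal.Quotient.mkₐ B (VV A B ^ (Fintype.card ι + 1))).toLinearMap

lemma symToGr_qF :
    symToGr (KaehlerDifferential.ideal A B) (piK A B) (piK_surjective A B) (piK_ker A B)
      (qF A B s ι) (qF_eq_zero A B s ι) = mkQ' A B ι ∘ₗ ΘP (ι := ι) s := by
  apply hom_ext_of_span (KaehlerDifferential.span_range_derivation A B)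
  intro v hv
  choose b hb using hv
  have hvb : v = fun i => piK A B (δ A B (b i)) := funext fun i => (hb i).symm
  rw [hvb, symToGr_tprod, LinearMap.comp_apply, ΘP_tprod]
  change XiP A B s (Fintype.card ι) (∏ i, ((1 : B) ⊗ₜ[A] b i - b i ⊗ₜ[A] (1 : B))) =
    Ideal.Quotient.mk _ (∏ i, ellP s (piK A B (δ A B (b i))))
  rw [XiP_prod A B s (Fintype.card ι) rfl b]
  rfl

include hs in
theorem symToGrI_injective_of_formallySmooth : Function.Injective (symToGrI A B ι) := by
  rw [injective_iff_map_eq_zero]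
  intro t ht
  obtain ⟨y, hy1, hy2⟩ := exists_rep (KaehlerDifferential.ideal A B) (piK A B) (piK_surjective A B)
    (piK_ker A B) (qK A B ι) (qK_eq_zero A B ι) (qF A B s ι) (qF_eq_zero A B s ι) t
  change symToGrI A B ι t = _ at hy1
  rw [ht] at hy1
  have hy : (y : B ⊗[A] B) ∈ KaehlerDifferential.ideal A B ^ (Fintype.card ι + 1) :=
    (qK_eq_zero_iff A B ι y).1 hy1.symm
  rw [qF_eq_zero A B s ι y hy, symToGr_qF, LinearMap.comp_apply] at hy2
  have h3 : ΘP (ι := ι) s t ∈ VV A B ^ (Fintype.card ι + 1) :=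
    Ideal.Quotient.eq_zero_iff_mem.1 hy2
  have h4 := eq_zero_of_isHomogeneous_of_mem _ _ (ΘP_isHomogeneous s t) h3
  exact ΘP_injective s hs (by rw [h4, map_zero])

omit [Algebra.FormallySmooth A B] in
theorem isDiffSmooth_of_formallySmooth [Algebra.FormallySmooth A B] : IsDiffSmooth A B := by
  rw [isDiffSmooth_iff]
  have hproj : Module.Projective B Ω[B⁄A] := inferInstance
  obtain ⟨s, hs⟩ := Module.projective_def'.1 hproj
  exact ⟨hproj, fun ι _ => symToGrI_injective_of_formallySmooth A B s hs ι⟩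

end Groth.Agent.Helper7.SymT
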