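import Mathlib
import Groth.Prelude.Def_PP16
import Groth.Prelude.Def_DiffOp
import Groth.Agent.Helper7.SymT2
import Groth.Agent.Helper7.SymT4

/-!
# Taylor-type maps from iterates of a derivation
-/

set_option autoImplicit false
set_option linter.unusedSectionVars false
universe u v w

namespace Groth.Agent.Helper7.SymT

open TensorProduct Finset

section Leibniz

variable {A : Type u} {Q : Type v} [CommRing A] [CommRing Q] [Algebra A Q] (D : Q →ₗ[A] Q)
  (hD : ∀ f h : Q, D (f * h) = f * D h + D f * h)

include hD in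
/-- the general Leibniz rule -/
theorem iterate_mul (n : ℕ) (f h : Q) :
    D^[n] (f * h) = ∑ ij ∈ antidiagonal n, n.choose ij.1 • (D^[ij.1] f * D^[ij.2] h) := by
  induction n with
  | zero => simp
  | succ n ih =>
    rw [sum_antidiagonal_choose_succ_nsmul (M := Q) (fun i j => D^[i] f * D^[j] h) n]
    simp only [Function.iterate_succ_apply', ih, map_sum, map_nsmul, hD, smul_add,
      sum_add_distrib, add_right_inj]
    refine sum_congr rfl fun ⟨i, j⟩ hij ↦ ?_
    rw [n.choose_symm_of_eq_add (mem_antidiagonal.1 hij).symm]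

end Leibniz

section Dtilde

variable {A B : Type u} [CommRing A] [CommRing B] [Algebra A B] {Λ : Type u}
  (g : B →ₗ[A] MvPolynomial Λ B)
  (hg : ∀ b c : B, g (b * c) = MvPolynomial.C b * g c + MvPolynomial.C c * g b)

/-- the `A`-linear map `c X^q ↦ X^q g(c)` -/
noncomputable def Dt : MvPolynomial Λ B →ₗ[A] MvPolynomial Λ B :=
  (Finsupp.lsum A (fun q : Λ →₀ ℕ =>
      (LinearMap.mulLeft A (MvPolynomial.monomial q (1 : B))) ∘ₗ g)) ∘ₗ
    (AddMonoidAlgebra.coeffLinearEquiv A).toLinearMap

lemma Dt_monomial (q : Λ →₀ ℕ) (c : B) :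
    Dt g (MvPolynomial.monomial q c) = MvPolynomial.monomial q 1 * g c := by
  refine (MvPolynomial.sum_monomial_eq ?_).trans ?_
  · simp
  · simp

lemma Dt_C (c : B) : Dt g (MvPolynomial.C c) = g c := by
  change Dt g (MvPolynomial.monomial 0 c) = _
  rw [Dt_monomial]
  simp

include hg in
lemma Dt_mul (f h : MvPolynomial Λ B) : Dt g (f * h) = f * Dt g h + Dt g f * h := by
  induction f using MvPolynomial.induction_on' with
  | monomial q c =>
    induction h using MvPolynomial.induction_on' with
    | monomial q' c' =>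
      rw [MvPolynomial.monomial_mul, Dt_monomial, Dt_monomial, Dt_monomial, hg]
      have h1 : (MvPolynomial.monomial (q + q') (1 : B)) =
          MvPolynomial.monomial q 1 * MvPolynomial.monomial q' 1 := by
        rw [MvPolynomial.monomial_mul, one_mul]
      have h2 : MvPolynomial.monomial q c = MvPolynomial.C c * MvPolynomial.monomial q (1 : B) := by
        rw [MvPolynomial.C_mul_monomial, mul_one]
      have h3 : MvPolynomial.monomial q' c' = MvPolynomial.C c' * MvPolynomial.monomial q' (1 : B) := by
        rw [MvPolynomial.C_mul_monomial, mul_one]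
      rw [h1, h2, h3]
      ring
    | add h1 h2 ih1 ih2 =>
      rw [mul_add, map_add, ih1, ih2, map_add]
      ring
  | add f1 f2 ih1 ih2 =>
    rw [add_mul, map_add, ih1, ih2, map_add]
    ring

/-- the Taylor coefficients `e_n = D̃^n ∘ C` -/
noncomputable def en (n : ℕ) : B →ₗ[A] MvPolynomial Λ B :=
  ((Dt g) ^ n) ∘ₗ ((Algebra.linearMap B (MvPolynomial Λ B)).restrictScalars A)

lemma en_apply (n : ℕ) (b : B) : en g n b = (Dt g)^[n] (MvPolynomial.C b) := by
  rw [en, LinearMap.comp_apply, Module.End.pow_apply]
  rfl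

lemma en_zero (b : B) : en g 0 b = MvPolynomial.C b := by
  rw [en_apply]; rfl

lemma en_one (b : B) : en g 1 b = g b := by
  rw [en_apply, Function.iterate_one, Dt_C]

include hg in
lemma en_mul (n : ℕ) (b c : B) :
    en g n (b * c) = ∑ ij ∈ antidiagonal n, n.choose ij.1 • (en g ij.1 b * en g ij.2 c) := by
  rw [en_apply, map_mul, iterate_mul (Dt g) (Dt_mul g hg)]
  simp only [en_apply]

/-- the linearisation `b ⊗ c ↦ b e_n(c)` -/
noncomputable def Xi (n : ℕ) : B ⊗[A] B →ₗ[A] MvPolynomial Λ B :=
  Diff16.linearize A B B (MvPolynomial Λ B) (en g n)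

lemma Xi_tmul (n : ℕ) (b c : B) : Xi g n (b ⊗ₜ[A] c) = MvPolynomial.C b * en g n c := by
  rw [Xi, Diff16.linearize, TensorProduct.lift.tmul]
  change b • en g n c = _
  rw [MvPolynomial.smul_eq_C_mul]

include hg in
lemma Xi_mul (n : ℕ) (x y : B ⊗[A] B) :
    Xi g n (x * y) = ∑ ij ∈ antidiagonal n, n.choose ij.1 • (Xi g ij.1 x * Xi g ij.2 y) := by
  induction x using TensorProduct.induction_on with
  | zero => simp
  | tmul b c =>
    induction y using TensorProduct.induction_on with
    | zero => simp
    | tmul b' c' =>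
      rw [Algebra.TensorProduct.tmul_mul_tmul, Xi_tmul, en_mul g hg, map_mul, Finset.mul_sum]
      apply Finset.sum_congr rfl
      intro ij _
      rw [Xi_tmul, Xi_tmul, mul_smul_comm]
      congr 1
      ring
    | add y y' ih ih' =>
      rw [mul_add, map_add, ih, ih', ← Finset.sum_add_distrib]
      apply Finset.sum_congr rfl
      intro ij _
      rw [map_add, mul_add, smul_add]
  | add x x' ih ih' =>
    rw [add_mul, map_add, ih, ih', ← Finset.sum_add_distrib]
    apply Finset.sum_congr rfl
    intro ij _
    rw [map_add, add_mul, smul_add]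

lemma Xi_smul (n : ℕ) (b : B) (x : B ⊗[A] B) : Xi g n (b • x) = b • Xi g n x := by
  induction x using TensorProduct.induction_on with
  | zero => simp
  | tmul b' c =>
    rw [TensorProduct.smul_tmul', Xi_tmul, Xi_tmul, smul_eq_mul, map_mul, MvPolynomial.smul_eq_C_mul,
      mul_assoc]
  | add x x' ih ih' => rw [smul_add, map_add, ih, ih', map_add, smul_add]

lemma Xi_zero_of_mem (x : B ⊗[A] B) (hx : x ∈ KaehlerDifferential.ideal A B) : Xi g 0 x = 0 := by
  have h : ∀ y : B ⊗[A] B, Xi g 0 y = MvPolynomial.C (Algebra.TensorProduct.lmul' A y) := by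
    intro y
    induction y using TensorProduct.induction_on with
    | zero => simp
    | tmul b c => rw [Xi_tmul, en_zero, Algebra.TensorProduct.lmul'_apply_tmul, map_mul]
    | add y y' ih ih' => rw [map_add, ih, ih', map_add, map_add]
  rw [h]
  have : Algebra.TensorProduct.lmul' A x = 0 := hx
  rw [this, map_zero]

include hg in
lemma g_one : g 1 = 0 := by
  have := hg 1 1
  simp only [mul_one, MvPolynomial.C_1, one_mul] at this
  have h2 : g 1 + g 1 = g 1 + 0 := by rw [add_zero]; exact this.symm
  exact add_left_cancel h2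

include hg in
lemma Xi_one_delta (b : B) :
    Xi g 1 ((1 : B) ⊗ₜ[A] b - b ⊗ₜ[A] (1 : B)) = g b := by
  rw [map_sub, Xi_tmul, Xi_tmul, en_one, en_one, g_one g hg, mul_zero, sub_zero, map_one, one_mul]

include hg in
/-- vanishing in low degree and the product formula on `I^n` -/
lemma Xi_prod {ι : Type*} [DecidableEq ι] (s : Finset ι) (x : ι → B ⊗[A] B)
    (hx : ∀ i ∈ s, x i ∈ KaehlerDifferential.ideal A B) :
    (∀ m < s.card, Xi g m (∏ i ∈ s, x i) = 0) ∧
      Xi g s.card (∏ i ∈ s, x i) = (s.card).factorial • ∏ i ∈ s, Xi g 1 (x i) := by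
  induction s using Finset.induction_on with
  | empty =>
    refine ⟨fun m hm => absurd hm (by simp), ?_⟩
    rw [Finset.prod_empty, Finset.prod_empty, Finset.card_empty, Nat.factorial_zero, one_smul,
      Algebra.TensorProduct.one_def, Xi_tmul, en_zero, map_one, one_mul]
  | insert a s ha ih =>
    obtain ⟨ih1, ih2⟩ := ih (fun i hi => hx i (Finset.mem_insert_of_mem hi))
    have hxa : Xi g 0 (x a) = 0 := Xi_zero_of_mem g _ (hx a (Finset.mem_insert_self a s))
    rw [Finset.prod_insert ha, Finset.prod_insert ha, Finset.card_insert_of_notMem ha]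
    constructor
    · intro m hm
      rw [Xi_mul g hg]
      apply Finset.sum_eq_zero
      rintro ⟨i, j⟩ hij
      rw [Finset.HasAntidiagonal.mem_antidiagonal] at hij
      simp only at hij ⊢
      rcases Nat.eq_zero_or_pos i with h0 | hpos
      · subst h0
        rw [hxa, zero_mul, smul_zero]
      · rw [ih1 j (by omega), mul_zero, smul_zero]
    · rw [Xi_mul g hg, Finset.sum_eq_single (1, s.card)]
      · simp only
        rw [ih2, Nat.choose_one_right, Nat.factorial_succ, mul_smul_comm, smul_smul]
      · rintro ⟨i, j⟩ hij hne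
        rw [Finset.HasAntidiagonal.mem_antidiagonal] at hij
        simp only at hij ⊢
        rcases Nat.eq_zero_or_pos i with h0 | hpos
        · subst h0
          rw [hxa, zero_mul, smul_zero]
        · have hj : j < s.card := by
            by_contra hcon
            apply hne
            have h1 : i = 1 := by omega
            have h2 : j = s.card := by omega
            rw [h1, h2]
          rw [ih1 j hj, mul_zero, smul_zero]
      · intro hnot
        exfalso
        apply hnot
        rw [Finset.HasAntidiagonal.mem_antidiagonal]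
        simp only
        ring

include hg in
/-- `Ξ_n` kills `I^(n+1)` -/
lemma Xi_eq_zero_of_mem_pow (n : ℕ) (y : B ⊗[A] B)
    (hy : y ∈ KaehlerDifferential.ideal A B ^ (n + 1)) : Xi g n y = 0 := by
  classical
  have h1 : y ∈ KaehlerDifferential.ideal A B ^ (Finset.univ : Finset (ULift.{u} (Fin (n + 1)))).card := by
    simpa using hy
  have h2 := pow_card_mem_closure (KaehlerDifferential.ideal A B) (Finset.univ : Finset (ULift.{u} (Fin (n + 1)))) y h1
  clear h1 hy
  induction h2 using AddSubgroup.closure_induction with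
  | mem z hz =>
    obtain ⟨e, x, rfl⟩ := hz
    rw [Xi_mul g hg]
    apply Finset.sum_eq_zero
    rintro ⟨i, j⟩ hij
    rw [Finset.HasAntidiagonal.mem_antidiagonal] at hij
    simp only at hij ⊢
    have := (Xi_prod g hg (Finset.univ : Finset (ULift.{u} (Fin (n + 1)))) (fun i => (x i : B ⊗[A] B))
      (fun i _ => (x i).2)).1 j (by simp; omega)
    rw [this, mul_zero, smul_zero]
  | zero => exact map_zero _
  | add z z' _ _ h h' => rw [map_add, h, h', add_zero]
  | neg z _ h => rw [map_neg, h, neg_zero]

end Dtilde

end Groth.Agent.Helper7.SymT
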