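import Mathlib
import Groth.Prelude.Def_PP16
import Groth.Agent.Helper7.SymT5
import Groth.Agent.Helper7.SymT6

/-!
# Characteristic zero: free differentials imply differential smoothness
-/

set_option autoImplicit false
set_option linter.unusedSectionVars false
universe u v w

namespace Groth.Agent.Helper7.SymT

open TensorProduct PP16

variable (A B : Type u) [CommRing A] [CommRing B] [Algebra A B] {Λ : Type u}
  (ω : Module.Basis Λ B Ω[B⁄A])

/-- `g = ℓ ∘ d` -/
noncomputable def gK : B →ₗ[A] MvPolynomial Λ B :=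
  ((ell ω).restrictScalars A) ∘ₗ (KaehlerDifferential.D A B).toLinearMap

lemma gK_apply (b : B) : gK A B ω b = ell ω (KaehlerDifferential.D A B b) := rfl

lemma gK_mul (b c : B) :
    gK A B ω (b * c) = MvPolynomial.C b * gK A B ω c + MvPolynomial.C c * gK A B ω b := by
  rw [gK_apply, Derivation.leibniz, map_add, map_smul, map_smul, MvPolynomial.smul_eq_C_mul,
    MvPolynomial.smul_eq_C_mul]
  rfl

variable (ι : Type u) [Fintype ι]

/-- `Ξ_n` restricted to `I^n`, as a `B`-linear map -/
noncomputable def qX : ↥(KaehlerDifferential.ideal A B ^ Fintype.card ι) →ₗ[B] MvPolynomial Λ B where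
  toFun y := Xi (gK A B ω) (Fintype.card ι) (y : B ⊗[A] B)
  map_add' y y' := by rw [Submodule.coe_add, map_add]
  map_smul' b y := by
    rw [Submodule.coe_smul_of_tower, Xi_smul]
    rfl

lemma qX_eq_zero (y : ↥(KaehlerDifferential.ideal A B ^ Fintype.card ι))
    (hy : (y : B ⊗[A] B) ∈ KaehlerDifferential.ideal A B ^ (Fintype.card ι + 1)) :
    qX A B ω ι y = 0 :=
  Xi_eq_zero_of_mem_pow (gK A B ω) (gK_mul A B ω) _ _ hy

/-- the composite `Sym^n(Ω) → I^n/I^(n+1) → B[X]` -/
noncomputable def symToPoly : SymmetricPower B ι Ω[B⁄A] →ₗ[B] MvPolynomial Λ B :=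
  symToGr (KaehlerDifferential.ideal A B) (piK A B) (piK_surjective A B) (piK_ker A B)
    (qX A B ω ι) (qX_eq_zero A B ω ι)

lemma symToPoly_eq : symToPoly A B ω ι = (Fintype.card ι).factorial • Θ (ι := ι) ω := by
  classical
  apply hom_ext_of_span (KaehlerDifferential.span_range_derivation A B)
  intro v hv
  choose b hb using hv
  have hvb : v = fun i => piK A B (δ A B (b i)) := funext fun i => (hb i).symm
  rw [hvb, symToPoly, symToGr_tprod, LinearMap.smul_apply, Θ_tprod]
  change Xi (gK A B ω) (Fintype.card ι) (∏ i, ((δ A B (b i) : ↥(KaehlerDifferential.ideal A B)) : B ⊗[A] B)) = _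
  have h1 := (Xi_prod (gK A B ω) (gK_mul A B ω) (Finset.univ : Finset ι)
    (fun i => ((δ A B (b i) : ↥(KaehlerDifferential.ideal A B)) : B ⊗[A] B))
    (fun i _ => (δ A B (b i)).2)).2
  rw [Finset.card_univ] at h1
  rw [h1]
  congr 1
  apply Finset.prod_congr rfl
  intro i _
  rw [piK_δ]
  exact Xi_one_delta (gK A B ω) (gK_mul A B ω) (b i)

include ω in
theorem symToGrI_injective_of_basis [Algebra ℚ B] : Function.Injective (symToGrI A B ι) := by
  rw [injective_iff_map_eq_zero]
  intro z hz
  obtain ⟨y, hy1, hy2⟩ := exists_rep (KaehlerDifferential.ideal A B) (piK A B) (piK_surjective A B)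
    (piK_ker A B) (qK A B ι) (qK_eq_zero A B ι) (qX A B ω ι) (qX_eq_zero A B ω ι) z
  change symToGrI A B ι z = _ at hy1
  change symToPoly A B ω ι z = _ at hy2
  rw [hz] at hy1
  have hy : (y : B ⊗[A] B) ∈ KaehlerDifferential.ideal A B ^ (Fintype.card ι + 1) :=
    (qK_eq_zero_iff A B ι y).1 hy1.symm
  rw [qX_eq_zero A B ω ι y hy, symToPoly_eq, LinearMap.smul_apply] at hy2
  have hne : ((Fintype.card ι).factorial : ℚ) ≠ 0 := by
    exact_mod_cast (Fintype.card ι).factorial_ne_zero
  have h3 : Θ (ι := ι) ω z = 0 := by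
    have h4 : (((Fintype.card ι).factorial : ℚ)) • Θ (ι := ι) ω z = 0 := by
      rw [Nat.cast_smul_eq_nsmul]
      exact hy2
    have := congrArg (fun f => (((Fintype.card ι).factorial : ℚ))⁻¹ • f) h4
    simpa [inv_smul_smul₀ hne] using this
  exact Θ_injective ω (by rw [h3, map_zero])

theorem isDiffSmooth_of_free [Algebra ℚ B] (hΩ : Module.Free B Ω[B⁄A]) : IsDiffSmooth A B := by
  rw [isDiffSmooth_iff]
  refine ⟨Module.Projective.of_free, fun ι _ => ?_⟩
  exact symToGrI_injective_of_basis A B (Module.Free.chooseBasis B Ω[B⁄A]) ι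

end Groth.Agent.Helper7.SymT
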