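import Mathlib
import Groth.Prelude.Def_CoactBr2
import Groth.Prelude.Def_Hoch
import Groth.Prelude.Def_GLin

set_option autoImplicit false
universe u v w
open HopfRep TensorProduct

namespace Groth.Agent.Helper7.TAa

variable (R : Type u) (A : Type v) (B : Type w)
    [CommRing R] [CommRing A] [HopfAlgebra R A]
    [CommRing B] [Algebra R B] [HopfRep.Comod R A B] [GLin.IsCoactAlg R A B]

/-- multiplication `C ⊗ B → B` -/
noncomputable def M : (↥(GLin.invariants R A B) ⊗[R] B) →ₐ[↥(GLin.invariants R A B)] B :=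
  Algebra.TensorProduct.lift (Algebra.ofId ↥(GLin.invariants R A B) B) (AlgHom.id R B)
    (fun _ _ => Commute.all _ _)

theorem M_tmul (c : ↥(GLin.invariants R A B)) (b : B) : M R A B (c ⊗ₜ b) = (c : B) * b := by
  simp [M, Algebra.ofId_apply]

noncomputable def f : (↥(GLin.invariants R A B) ⊗[R] B) →ₐ[↥(GLin.invariants R A B)] (B ⊗[R] A) :=
  (Algebra.TensorProduct.includeLeft : B →ₐ[↥(GLin.invariants R A B)] B ⊗[R] A).comp (M R A B)

noncomputable def g : (↥(GLin.invariants R A B) ⊗[R] A) →ₐ[↥(GLin.invariants R A B)] (B ⊗[R] A) :=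
  Algebra.TensorProduct.lift (Algebra.ofId ↥(GLin.invariants R A B) (B ⊗[R] A))
    (Algebra.TensorProduct.includeRight : A →ₐ[R] B ⊗[R] A) (fun _ _ => Commute.all _ _)

theorem g_tmul (c : ↥(GLin.invariants R A B)) (a : A) : g R A B (c ⊗ₜ a) = (c : B) ⊗ₜ a := by
  simp only [g, Algebra.TensorProduct.lift_tmul, Algebra.ofId_apply,
    Algebra.TensorProduct.includeRight_apply]
  change ((c : B) ⊗ₜ[R] (1 : A)) * _ = _
  rw [Algebra.TensorProduct.tmul_mul_tmul, one_mul, mul_one]

noncomputable def μ : ((↥(GLin.invariants R A B) ⊗[R] B) ⊗[↥(GLin.invariants R A B)]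
    (↥(GLin.invariants R A B) ⊗[R] A)) →ₐ[↥(GLin.invariants R A B)] (B ⊗[R] A) :=
  Algebra.TensorProduct.productMap (f R A B) (g R A B)

theorem μ_tmul (x : ↥(GLin.invariants R A B) ⊗[R] B) (y : ↥(GLin.invariants R A B) ⊗[R] A) :
    μ R A B (x ⊗ₜ y) = (M R A B x ⊗ₜ 1) * g R A B y := by
  simp only [μ, f, Algebra.TensorProduct.productMap_apply_tmul]
  rfl

end Groth.Agent.Helper7.TAa
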