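import Mathlib
import Groth.Agent.Helper7.TAa

set_option autoImplicit false
universe u v w
open HopfRep TensorProduct

namespace Groth.Agent.Helper7.TAb

open Groth.Agent.Helper7.TAa

variable (R : Type u) (A : Type v) (B : Type w)
    [CommRing R] [CommRing A] [HopfAlgebra R A]
    [CommRing B] [Algebra R B] [HopfRep.Comod R A B] [GLin.IsCoactAlg R A B]

theorem L1 (c : ↥(GLin.invariants R A B)) (z : B ⊗[R] A) :
    μ R A B (AlgebraTensorModule.tensorTensorTensorComm R ↥(GLin.invariants R A B) R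
      ↥(GLin.invariants R A B) ↥(GLin.invariants R A B) ↥(GLin.invariants R A B) B A
        (((1 : ↥(GLin.invariants R A B)) ⊗ₜ[↥(GLin.invariants R A B)] c) ⊗ₜ[R] z)) =
      ((c : B) ⊗ₜ[R] (1 : A)) * z := by
  induction z using TensorProduct.induction_on with
  | zero => simp
  | add x y hx hy => rw [tmul_add, map_add, map_add, hx, hy, mul_add]
  | tmul b a =>
    rw [AlgebraTensorModule.tensorTensorTensorComm_tmul, μ_tmul, M_tmul, g_tmul,
      Algebra.TensorProduct.tmul_mul_tmul, Algebra.TensorProduct.tmul_mul_tmul]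
    simp [mul_comm]

theorem K1 (x : ↥(GLin.invariants R A B) ⊗[R] B) :
    HopfRep.Comod.coact (k := R) (A := A) (M R A B x) =
      μ R A B ((CoactBr.Comod.baseChange R ↥(GLin.invariants R A B) A B).coact x) := by
  induction x using TensorProduct.induction_on with
  | zero => simp
  | add x y hx hy => rw [map_add, map_add, map_add, map_add, hx, hy]
  | tmul c b =>
    rw [CoactBr.baseChange_coact_tmul, L1, M_tmul, GLin.IsCoactAlg.coact_mul]
    congr 1
    exact c.2

/-- the candidate -/
noncomputable def α (β : (↥(GLin.invariants R A B) ⊗[R] A) →ₗ[↥(GLin.invariants R A B)]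
    (↥(GLin.invariants R A B) ⊗[R] B)) : A →ₗ[R] B :=
  ((M R A B).toLinearMap.restrictScalars R) ∘ₗ (β.restrictScalars R) ∘ₗ
    (TensorProduct.mk R ↥(GLin.invariants R A B) A 1)

theorem α_apply (β : (↥(GLin.invariants R A B) ⊗[R] A) →ₗ[↥(GLin.invariants R A B)]
    (↥(GLin.invariants R A B) ⊗[R] B)) (a : A) :
    α R A B β a = M R A B (β (1 ⊗ₜ a)) := rfl

theorem L2 (β : (↥(GLin.invariants R A B) ⊗[R] A) →ₗ[↥(GLin.invariants R A B)]
    (↥(GLin.invariants R A B) ⊗[R] B)) (z : A ⊗[R] A) :
    μ R A B ((β.rTensor (↥(GLin.invariants R A B) ⊗[R] A))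
      (AlgebraTensorModule.tensorTensorTensorComm R ↥(GLin.invariants R A B) R
      ↥(GLin.invariants R A B) ↥(GLin.invariants R A B) ↥(GLin.invariants R A B) A A
        (((1 : ↥(GLin.invariants R A B)) ⊗ₜ[↥(GLin.invariants R A B)]
          (1 : ↥(GLin.invariants R A B))) ⊗ₜ[R] z))) =
      ((α R A B β).rTensor A) z := by
  induction z using TensorProduct.induction_on with
  | zero => simp
  | add x y hx hy => rw [tmul_add, map_add, map_add, map_add, map_add, hx, hy]
  | tmul a₁ a₂ =>
    rw [AlgebraTensorModule.tensorTensorTensorComm_tmul, LinearMap.rTensor_tmul, μ_tmul, g_tmul,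
      LinearMap.rTensor_tmul, α_apply, Algebra.TensorProduct.tmul_mul_tmul]
    simp

theorem main
    (h : ∃ β : TensorProduct R ↥(GLin.invariants R A B) A →ₗ[↥(GLin.invariants R A B)]
        TensorProduct R ↥(GLin.invariants R A B) B,
      @Hoch.IsComodHom ↥(GLin.invariants R A B) _ (TensorProduct R ↥(GLin.invariants R A B) A) _ _ _
        (TensorProduct R ↥(GLin.invariants R A B) A) _ _
        (HopfRep.Comod.regular ↥(GLin.invariants R A B) (TensorProduct R ↥(GLin.invariants R A B) A))
        (TensorProduct R ↥(GLin.invariants R A B) B) _ _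
        (CoactBr.Comod.baseChange R ↥(GLin.invariants R A B) A B) β ∧ β 1 = 1) :
    ∃ α : A →ₗ[R] B, Hoch.IsComodHom A α ∧ α 1 = 1 := by
  obtain ⟨β, hβ, hβ1⟩ := h
  refine ⟨α R A B β, ?_, ?_⟩
  · unfold Hoch.IsComodHom
    ext a
    rw [LinearMap.comp_apply, LinearMap.comp_apply, α_apply, K1]
    have h1 := LinearMap.congr_fun hβ ((1 : ↥(GLin.invariants R A B)) ⊗ₜ[R] a)
    rw [LinearMap.comp_apply, LinearMap.comp_apply] at h1
    rw [h1]
    have h2 : (HopfRep.Comod.regular ↥(GLin.invariants R A B)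
        (TensorProduct R ↥(GLin.invariants R A B) A)).coact
          ((1 : ↥(GLin.invariants R A B)) ⊗ₜ[R] a) =
        AlgebraTensorModule.tensorTensorTensorComm R ↥(GLin.invariants R A B) R
          ↥(GLin.invariants R A B) ↥(GLin.invariants R A B) ↥(GLin.invariants R A B) A A
          (((1 : ↥(GLin.invariants R A B)) ⊗ₜ[↥(GLin.invariants R A B)]
            (1 : ↥(GLin.invariants R A B))) ⊗ₜ[R] (CoalgebraStruct.comul (R := R) a)) := rfl
    rw [h2, L2]
    rfl
  · rw [α_apply]
    have : ((1 : ↥(GLin.invariants R A B)) ⊗ₜ[R] (1 : A)) = 1 := rfl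
    rw [this, hβ1]
    exact map_one _

end Groth.Agent.Helper7.TAb
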