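import Mathlib
import Groth.Agent.Helper2.SocleDVR
import Groth.Agent.Helper7.TG3

/-! `TL` under semilinear coalgebra maps and descent from the generic fibre over a Dedekind
domain. -/

set_option autoImplicit false
universe u v w
open TensorProduct

namespace Groth.Agent.Helper7.TrigFilt

open Groth.Agent.Helper2.MultTypeSemi Groth.Agent.Helper2.SocleFilt

section push

variable {R S : Type u} [CommRing R] [CommRing S] [Algebra R S]
variable {A B : Type u} [CommRing A] [Bialgebra R A] [CommRing B] [Bialgebra S B] [Algebra R B]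
  [IsScalarTower R S B]

lemma semiMap_twCoact {θ : A →ₐ[R] B} (hθ : IsSemiCoalg R S θ) (g a : A) :
    semiMap R S θ.toLinearMap (twCoact R A A g a) = twCoact S B B (θ g) (θ a) := by
  rw [twCoact_apply, twCoact_apply, map_sub]
  congr 1
  exact (hθ.comul a).symm

lemma isGroupLikeElem_map {θ : A →ₐ[R] B} (hθ : IsSemiCoalg R S θ) {g : A}
    (hg : IsGroupLikeElem R g) : IsGroupLikeElem S (θ g) := by
  constructor
  · rw [hθ.counit, hg.counit_eq_one, map_one]
  · rw [hθ.comul, hg.comul_eq_tmul_self, semiMap_tmul]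
    rfl

lemma map_mem_TL_semi {θ : A →ₐ[R] B} (hθ : IsSemiCoalg R S θ) (L : List A) :
    ∀ a ∈ TL R A A L, θ a ∈ TL S B B (L.map θ) := by
  induction L with
  | nil =>
    intro a ha
    rw [TL_nil, Submodule.mem_bot] at ha
    rw [ha, map_zero]
    exact zero_mem _
  | cons g L ih =>
    intro a ha
    rw [mem_TL_cons] at ha
    rw [List.map_cons, mem_TL_cons]
    obtain ⟨t, ht⟩ := ha
    rw [← semiMap_twCoact hθ, ← ht]
    clear ht
    induction t using TensorProduct.induction_on with
    | zero => simp
    | add x y hx hy =>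
      rw [map_add, map_add]
      exact add_mem hx hy
    | tmul z b =>
      exact ⟨(⟨θ z.1, ih z.1 z.2⟩ : TL S B B (L.map θ)) ⊗ₜ[S] θ b, rfl⟩

end push

section descent2

variable (R : Type u) [CommRing R] [IsDedekindDomain R]
variable (K : Type u) [Field K] [Algebra R K] [IsFractionRing R K]
variable (H : Type u) [CommRing H] [Bialgebra R H] [Module.Flat R H]

theorem mem_TL_of_iotaK_mem (L : List H) :
    ∀ h : H, iotaK R K H h ∈ TL K (K ⊗[R] H) (K ⊗[R] H) (L.map (iotaK R K H)) →
      h ∈ TL R H H L := by
  induction L with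
  | nil =>
    intro h hh
    rw [List.map_nil, TL_nil, Submodule.mem_bot] at hh
    rw [TL_nil, Submodule.mem_bot]
    exact iotaK_injective R K H (by rw [hh, map_zero])
  | cons g L ih =>
    intro h hh
    rw [List.map_cons, mem_TL_cons] at hh
    rw [mem_TL_cons]
    have hpush := map_mem_TL_semi (isSemiCoalg_iotaK R K H) L
    -- torsion-freeness of the quotient
    haveI htf : Module.IsTorsionFree R (H ⧸ TL R H H L) := by
      constructor
      intro c hc x y hxy
      have hc0 : c ≠ 0 := hc.ne_zero
      induction x using Submodule.Quotient.induction_on with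
      | H a =>
      induction y using Submodule.Quotient.induction_on with
      | H b =>
      simp only at hxy
      rw [← Submodule.Quotient.mk_smul, ← Submodule.Quotient.mk_smul, Submodule.Quotient.eq,
        ← smul_sub] at hxy
      rw [Submodule.Quotient.eq]
      apply ih
      have h1 := hpush _ hxy
      rw [map_smul] at h1
      exact (smul_mem_iff_of_ne_zero R K _ hc0 _).mp h1
    haveI : Module.Flat R (H ⧸ TL R H H L) := inferInstance
    -- clearing denominators
    have hclear : ∀ t : (TL K (K ⊗[R] H) (K ⊗[R] H) (L.map (iotaK R K H))) ⊗[K] (K ⊗[R] H),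
        ∃ s : R, s ≠ 0 ∧ ∃ t' : (TL R H H L) ⊗[R] H,
          s • ((TL K (K ⊗[R] H) (K ⊗[R] H) (L.map (iotaK R K H))).subtype.rTensor (K ⊗[R] H) t) =
            semiMap R K (iotaK R K H).toLinearMap ((TL R H H L).subtype.rTensor H t') := by
      intro t
      induction t using TensorProduct.induction_on with
      | zero => exact ⟨1, one_ne_zero, 0, by simp⟩
      | tmul z y =>
        obtain ⟨s₁, hs₁, z', hz'⟩ := exists_smul_eq_iotaK R K H z.1
        obtain ⟨s₂, hs₂, y', hy'⟩ := exists_smul_eq_iotaK R K H y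
        have hz'mem : z' ∈ TL R H H L := by
          apply ih
          rw [← hz']
          exact (smul_mem_iff_of_ne_zero R K _ hs₁ _).mpr z.2
        refine ⟨s₁ * s₂, mul_ne_zero hs₁ hs₂, (⟨z', hz'mem⟩ : TL R H H L) ⊗ₜ[R] y', ?_⟩
        simp only [LinearMap.rTensor_tmul, Submodule.subtype_apply, semiMap_tmul,
          AlgHom.toLinearMap_apply]
        rw [← hz', ← hy', mul_smul, ← algebraMap_smul K s₁, ← algebraMap_smul K s₂,
          ← algebraMap_smul K s₁, ← algebraMap_smul K s₂, TensorProduct.smul_tmul_smul,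
          mul_smul]
      | add t₁ t₂ h₁ h₂ =>
        obtain ⟨s₁, hs₁, t'₁, ht₁⟩ := h₁
        obtain ⟨s₂, hs₂, t'₂, ht₂⟩ := h₂
        refine ⟨s₁ * s₂, mul_ne_zero hs₁ hs₂, s₂ • t'₁ + s₁ • t'₂, ?_⟩
        rw [map_add, map_add, map_add, map_smul, map_smul, map_smul, map_smul, ← ht₁, ← ht₂]
        module
    obtain ⟨t, ht⟩ := hh
    obtain ⟨s, hs, t', ht'⟩ := hclear t
    have h1 : s • twCoact R H H g h = (TL R H H L).subtype.rTensor H t' := by
      apply semiMap_iotaK_injective R K H
      rw [map_smul, semiMap_twCoact (isSemiCoalg_iotaK R K H), ← ht, ← ht']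
    have hex : Function.Exact ((TL R H H L).subtype.rTensor H) ((TL R H H L).mkQ.rTensor H) :=
      rTensor_exact _ (LinearMap.exact_subtype_mkQ _) (Submodule.mkQ_surjective _)
    apply (hex _).1
    have h2 : s • ((TL R H H L).mkQ.rTensor H (twCoact R H H g h)) = 0 := by
      rw [← map_smul, h1]
      exact (hex _).2 ⟨t', rfl⟩
    exact (smul_eq_zero.mp h2).resolve_left hs

end descent2

end Groth.Agent.Helper7.TrigFilt
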