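import Mathlib
import Groth.Agent.Helper2.SocleDVR
import Groth.Agent.Helper7.TG4

/-! Group-like elements of the generic fibre of a flat bialgebra over a DVR are integral, and
trigonalizability specializes. -/

set_option autoImplicit false
universe u v w
open TensorProduct

namespace Groth.Agent.Helper7.TrigFilt

open Groth.Agent.Helper2.MultTypeSemi Groth.Agent.Helper2.SocleFilt

lemma eq_zero_of_tmul_self_eq_zero {κ : Type*} [Field κ] {M : Type*} [AddCommGroup M] [Module κ M]
    (x : M) (h : x ⊗ₜ[κ] x = 0) : x = 0 := by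
  by_contra hx
  obtain ⟨φ, hφ⟩ : ∃ φ : M →ₗ[κ] κ, φ x = 1 := Module.Projective.exists_dual_eq_one κ hx
  have h1 := congrArg (fun t => LinearMap.mul' κ κ (TensorProduct.map φ φ t)) h
  simp only [TensorProduct.map_tmul, LinearMap.mul'_apply, hφ, mul_one, map_zero] at h1
  exact one_ne_zero h1

section dvr

variable (R : Type u) [CommRing R] [IsDomain R] [IsDiscreteValuationRing R]
variable (K : Type u) [Field K] [Algebra R K] [IsFractionRing R K]
variable (H : Type u) [CommRing H] [Bialgebra R H] [Module.Flat R H]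

/-- an element `h` with `ϖ^(n+1) Δh = h ⊗ h` is divisible by `ϖ` -/
lemma exists_smul_of_pow_smul_comul (ϖ : R) (hϖ : Irreducible ϖ) (n : ℕ) (h : H)
    (hh : ϖ ^ (n + 1) • Coalgebra.comul (R := R) h = h ⊗ₜ[R] h) : ∃ h₁ : H, h = ϖ • h₁ := by
  set κ := IsLocalRing.ResidueField R with hκ
  set θ : H →ₐ[R] κ ⊗[R] H := Algebra.TensorProduct.includeRight with hθ
  have hϖm : ϖ ∈ IsLocalRing.maximalIdeal R := by
    rw [IsLocalRing.mem_maximalIdeal, mem_nonunits_iff]
    exact hϖ.not_isUnit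
  have hres : algebraMap R κ ϖ = 0 := by
    show IsLocalRing.residue R ϖ = 0
    rw [IsLocalRing.residue_eq_zero_iff]
    exact hϖm
  have h1 := congrArg (semiMap R κ θ.toLinearMap) hh
  rw [map_smul, semiMap_tmul, ← algebraMap_smul κ, map_pow, hres, zero_pow (Nat.succ_ne_zero n),
    zero_smul] at h1
  have h2 : θ h = 0 := eq_zero_of_tmul_self_eq_zero _ h1.symm
  have h2' : ((1 : R ⧸ IsLocalRing.maximalIdeal R) ⊗ₜ[R] h :
      (R ⧸ IsLocalRing.maximalIdeal R) ⊗[R] H) = 0 := h2
  have h3 := congrArg (TensorProduct.quotTensorEquivQuotSMul H (IsLocalRing.maximalIdeal R)) h2'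
  rw [TensorProduct.quotTensorEquivQuotSMul_mk_one_tmul, map_zero,
    Submodule.Quotient.mk_eq_zero] at h3
  have hspan : IsLocalRing.maximalIdeal R = Ideal.span {ϖ} :=
    (IsDiscreteValuationRing.irreducible_iff_uniformizer ϖ).1 hϖ
  rw [hspan, Submodule.ideal_span_singleton_smul, Submodule.mem_smul_pointwise_iff_exists] at h3
  obtain ⟨h₁, -, hh₁⟩ := h3
  exact ⟨h₁, hh₁.symm⟩

theorem exists_iotaK_eq_of_isGroupLikeElem (y : K ⊗[R] H) (hy : IsGroupLikeElem K y) :
    ∃ h : H, IsGroupLikeElem R h ∧ iotaK R K H h = y := by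
  obtain ⟨ϖ, hϖ⟩ := IsDiscreteValuationRing.exists_irreducible R
  have hϖ0 : ϖ ≠ 0 := hϖ.ne_zero
  have hϖK : algebraMap R K ϖ ≠ 0 := by
    intro h0
    exact hϖ0 ((IsFractionRing.injective R K) (by rw [h0, map_zero]))
  -- descending induction on the exponent
  have key : ∀ n : ℕ, ∀ h : H, ϖ ^ n • y = iotaK R K H h → ∃ h' : H, iotaK R K H h' = y := by
    intro n
    induction n with
    | zero =>
      intro h hh
      exact ⟨h, by rw [← hh, pow_zero, one_smul]⟩
    | succ n ih =>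
      intro h hh
      have h1 : ϖ ^ (n + 1) • Coalgebra.comul (R := R) h = h ⊗ₜ[R] h := by
        apply semiMap_iotaK_injective R K H
        rw [map_smul, ← (isSemiCoalg_iotaK R K H).comul, semiMap_tmul, AlgHom.toLinearMap_apply,
          ← hh, ← algebraMap_smul K (ϖ ^ (n + 1)) y, map_smul, hy.comul_eq_tmul_self,
          TensorProduct.smul_tmul_smul, ← algebraMap_smul K (ϖ ^ (n + 1)), smul_smul]
      obtain ⟨h₁, rfl⟩ := exists_smul_of_pow_smul_comul R H ϖ hϖ n h h1
      apply ih h₁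
      rw [map_smul, pow_succ, mul_comm, mul_smul] at hh
      have h2 : ϖ • (ϖ ^ n • y - iotaK R K H h₁) = 0 := by rw [smul_sub, hh, sub_self]
      rw [← algebraMap_smul K ϖ, smul_eq_zero] at h2
      exact sub_eq_zero.1 (h2.resolve_left hϖK)
  obtain ⟨s, hs, h₀, hh₀⟩ := exists_smul_eq_iotaK R K H y
  obtain ⟨n, u, hu⟩ := IsDiscreteValuationRing.eq_unit_mul_pow_irreducible hs hϖ
  have h3 : ϖ ^ n • y = iotaK R K H ((↑u⁻¹ : R) • h₀) := by
    rw [map_smul, ← hh₀, hu, smul_smul, ← mul_assoc, Units.inv_mul, one_mul]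
  obtain ⟨h', hh'⟩ := key n _ h3
  refine ⟨h', ⟨?_, ?_⟩, hh'⟩
  · apply IsFractionRing.injective R K
    rw [← (isSemiCoalg_iotaK R K H).counit, hh', hy.counit_eq_one, map_one]
  · apply semiMap_iotaK_injective R K H
    rw [← (isSemiCoalg_iotaK R K H).comul, hh', hy.comul_eq_tmul_self, semiMap_tmul,
      AlgHom.toLinearMap_apply, hh']

end dvr

end Groth.Agent.Helper7.TrigFilt
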