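import Mathlib
import Groth.Agent.Helper2.SocleDVR
import Groth.Agent.Helper7.TG5

/-! Trigonalizability specializes over a DVR. -/

set_option autoImplicit false
universe u v w
open TensorProduct

namespace Groth.Agent.Helper7.TrigFilt

open Groth.Agent.Helper2.MultTypeSemi Groth.Agent.Helper2.SocleFilt

lemma exists_list_lift (A : Type u) [CommRing A] [IsDomain A] [IsDiscreteValuationRing A]
    (K : Type u) [Field K] [Algebra A K] [IsFractionRing A K]
    (H : Type u) [CommRing H] [Bialgebra A H] [Module.Flat A H]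
    (L : List (K ⊗[A] H)) (hL : ∀ g ∈ L, IsGroupLikeElem K g) :
    ∃ L' : List H, (∀ g ∈ L', IsGroupLikeElem A g) ∧ L = L'.map (iotaK A K H) := by
  induction L with
  | nil => exact ⟨[], by simp, rfl⟩
  | cons y L ih =>
    obtain ⟨L', hL', hLL'⟩ := ih (fun g hg => hL g (List.mem_cons_of_mem _ hg))
    obtain ⟨g, hg, hgy⟩ := exists_iotaK_eq_of_isGroupLikeElem A K H y (hL y List.mem_cons_self)
    refine ⟨g :: L', ?_, ?_⟩
    · intro g' hg'
      rcases List.mem_cons.1 hg' with rfl | h
      · exact hg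
      · exact hL' g' h
    · rw [List.map_cons, hgy, hLL']

theorem s18062 (A : Type u) [CommRing A] [IsDomain A] [IsDiscreteValuationRing A]
    (K : Type u) [Field K] [Algebra A K] [IsFractionRing A K]
    (H : Type u) [CommRing H] [HopfAlgebra A H] [Module.Flat A H]
    (hK : HopfRep.IsTrigonalizable K (K ⊗[A] H)) :
    HopfRep.IsTrigonalizable (IsLocalRing.ResidueField A) (IsLocalRing.ResidueField A ⊗[A] H) := by
  apply isTrigonalizable_of_forall_mem_TL
  intro y
  obtain ⟨h, rfl⟩ : ∃ h : H, y = (1 : IsLocalRing.ResidueField A) ⊗ₜ[A] h := by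
    induction y using TensorProduct.induction_on with
    | zero => exact ⟨0, by simp⟩
    | add x y hx hy =>
      obtain ⟨a, rfl⟩ := hx
      obtain ⟨b, rfl⟩ := hy
      exact ⟨a + b, by rw [TensorProduct.tmul_add]⟩
    | tmul c h =>
      obtain ⟨c', rfl⟩ := IsLocalRing.residue_surjective c
      refine ⟨c' • h, ?_⟩
      rw [TensorProduct.tmul_smul, TensorProduct.smul_tmul', Algebra.smul_def, mul_one]
      rfl
  obtain ⟨L, hL, hLh⟩ := exists_mem_TL_of_isTrigonalizable hK (iotaK A K H h)
  obtain ⟨L', hL', rfl⟩ := exists_list_lift A K H L hL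
  have h1 := mem_TL_of_iotaK_mem A K H L' h hLh
  have hθ := isSemiCoalg_includeRight A (IsLocalRing.ResidueField A) H
  refine ⟨L'.map (Algebra.TensorProduct.includeRight :
    H →ₐ[A] IsLocalRing.ResidueField A ⊗[A] H), ?_, map_mem_TL_semi hθ L' h h1⟩
  intro g hg
  obtain ⟨g', hg', rfl⟩ := List.mem_map.1 hg
  exact isGroupLikeElem_map hθ (hL' g' hg')

end Groth.Agent.Helper7.TrigFilt
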