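import Mathlib

set_option autoImplicit false
set_option maxSynthPendingDepth 3
set_option linter.style.haveILetI false
set_option linter.unusedSectionVars false

namespace Groth.Agent.Helper7.TL

open TensorProduct

variable {R : Type*} [CommRing R]

section proj

variable {M P : Type*} [AddCommGroup M] [Module R M] [AddCommGroup P] [Module R P]

/-- If `g : M → P` is surjective with `P` projective, then `ker g ∩ I M = I ker g`. -/
theorem mem_smul_ker_of_projective [Module.Projective R P] (g : M →ₗ[R] P)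
    (hg : Function.Surjective g) (I : Ideal R) (z : M) (hz : g z = 0)
    (hzI : z ∈ I • (⊤ : Submodule R M)) : z ∈ I • LinearMap.ker g := by
  obtain ⟨s, hs⟩ := Module.projective_lifting_property g LinearMap.id hg
  set π : M →ₗ[R] M := LinearMap.id - s ∘ₗ g with hπ
  have hπz : π z = z := by
    simp only [hπ, LinearMap.sub_apply, LinearMap.id_apply, LinearMap.comp_apply, hz, map_zero,
      sub_zero]
  have hπker : ∀ m, π m ∈ LinearMap.ker g := by
    intro m
    have h1 : g (s (g m)) = g m := LinearMap.congr_fun hs (g m)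
    simp only [hπ, LinearMap.mem_ker, LinearMap.sub_apply, LinearMap.id_apply,
      LinearMap.comp_apply, map_sub, h1, sub_self]
  have h1 : π z ∈ Submodule.map π (I • (⊤ : Submodule R M)) := Submodule.mem_map_of_mem hzI
  rw [Submodule.map_smul''] at h1
  rw [hπz] at h1
  refine Submodule.smul_mono le_rfl ?_ h1
  rintro _ ⟨m, _, rfl⟩
  exact hπker m

/-- If `M/N` is projective then `N ∩ I M = I N`. -/
theorem mem_smul_of_quotient_projective (N : Submodule R M) [Module.Projective R (M ⧸ N)]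
    (I : Ideal R) (z : M) (hz : z ∈ N) (hzI : z ∈ I • (⊤ : Submodule R M)) : z ∈ I • N := by
  have := mem_smul_ker_of_projective N.mkQ N.mkQ_surjective I z
    ((Submodule.Quotient.mk_eq_zero N).mpr hz) hzI
  rwa [Submodule.ker_mkQ] at this

/-- a retraction onto a submodule with projective quotient. -/
theorem exists_retraction (N : Submodule R M) [Module.Projective R (M ⧸ N)] :
    ∃ ρ : M →ₗ[R] N, ∀ x : N, ρ x = x := by
  obtain ⟨s, hs⟩ := Module.projective_lifting_property N.mkQ LinearMap.id N.mkQ_surjective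
  set π : M →ₗ[R] M := LinearMap.id - s ∘ₗ N.mkQ with hπ
  have hπN : ∀ m, π m ∈ N := by
    intro m
    rw [← Submodule.Quotient.mk_eq_zero N]
    have h1 : N.mkQ (s (N.mkQ m)) = N.mkQ m := LinearMap.congr_fun hs (N.mkQ m)
    show N.mkQ (π m) = 0
    simp only [hπ, LinearMap.sub_apply, LinearMap.id_apply, LinearMap.comp_apply, map_sub, h1,
      sub_self]
  refine ⟨π.codRestrict N hπN, ?_⟩
  intro x
  apply Subtype.ext
  have hx : N.mkQ (x : M) = 0 := (Submodule.Quotient.mk_eq_zero N).mpr x.2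
  simp only [LinearMap.codRestrict_apply, hπ, LinearMap.sub_apply, LinearMap.id_apply,
    LinearMap.comp_apply, hx, map_zero, sub_zero]

end proj

section bc

variable {H : Type*} [AddCommGroup H] [Module R H] (𝔫 : Ideal R)

theorem one_tmul_eq_zero_iff (z : H) :
    ((1 : R ⧸ 𝔫) ⊗ₜ[R] z = 0) ↔ z ∈ 𝔫 • (⊤ : Submodule R H) := by
  rw [← (TensorProduct.quotTensorEquivQuotSMul H 𝔫).map_eq_zero_iff,
    TensorProduct.quotTensorEquivQuotSMul_mk_one_tmul, Submodule.Quotient.mk_eq_zero]

theorem one_tmul_mem_baseChange_iff (F : Submodule R H) (z : H) :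
    ((1 : R ⧸ 𝔫) ⊗ₜ[R] z ∈ F.baseChange (R ⧸ 𝔫)) ↔ z ∈ F ⊔ 𝔫 • (⊤ : Submodule R H) := by
  constructor
  · rintro ⟨w, hw⟩
    obtain ⟨x, rfl⟩ := TensorProduct.mk_surjective R F (R ⧸ 𝔫) Ideal.Quotient.mk_surjective w
    have h1 : (1 : R ⧸ 𝔫) ⊗ₜ[R] (z - (x : H)) = 0 := by
      rw [tmul_sub, ← hw]
      simp
    rw [one_tmul_eq_zero_iff] at h1
    have : z = (x : H) + (z - x) := by abel
    rw [this]
    exact Submodule.add_mem_sup x.2 h1
  · intro hz
    obtain ⟨x, hx, n, hn, rfl⟩ := Submodule.mem_sup.mp hz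
    rw [tmul_add, (one_tmul_eq_zero_iff 𝔫 n).mpr hn, add_zero]
    exact Submodule.tmul_mem_baseChange_of_mem 1 hx

theorem le_sup_of_baseChange_le (F F' : Submodule R H)
    (h : F.baseChange (R ⧸ 𝔫) ≤ F'.baseChange (R ⧸ 𝔫)) : F ≤ F' ⊔ 𝔫 • (⊤ : Submodule R H) := by
  intro x hx
  rw [← one_tmul_mem_baseChange_iff]
  exact h (Submodule.tmul_mem_baseChange_of_mem 1 hx)

theorem baseChange_le_of_le_sup (F F' : Submodule R H)
    (h : F ≤ F' ⊔ 𝔫 • (⊤ : Submodule R H)) : F.baseChange (R ⧸ 𝔫) ≤ F'.baseChange (R ⧸ 𝔫) := by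
  rw [Submodule.baseChange_eq_span, Submodule.span_le]
  rintro _ ⟨x, hx, rfl⟩
  exact (one_tmul_mem_baseChange_iff 𝔫 F' x).mpr (h hx)

end bc

end Groth.Agent.Helper7.TL
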