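import Groth.Agent.Helper7.TL1

set_option autoImplicit false
set_option maxSynthPendingDepth 3
set_option linter.style.haveILetI false
set_option linter.unusedSectionVars false

namespace Groth.Agent.Helper7.TL

open TensorProduct

variable {R : Type*} [CommRing R] {H₁ H H₂ : Type*}
  [AddCommGroup H₁] [Module R H₁] [AddCommGroup H] [Module R H] [AddCommGroup H₂] [Module R H₂]
  (f : H₁ →ₗ[R] H) (g : H →ₗ[R] H₂) (hf : Function.Injective f) (hg : Function.Surjective g)
  (hfg : Function.Exact f g)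

/-- the shear `1 + f u g`. -/
def phi (u : H₂ →ₗ[R] H₁) : H →ₗ[R] H := LinearMap.id + f ∘ₗ u ∘ₗ g

theorem phi_apply (u : H₂ →ₗ[R] H₁) (x : H) : phi f g u x = x + f (u (g x)) := rfl

include hfg in
theorem g_phi (u : H₂ →ₗ[R] H₁) (x : H) : g (phi f g u x) = g x := by
  rw [phi_apply, map_add, hfg.apply_apply_eq_zero, add_zero]

include hfg in
theorem phi_neg_phi (u : H₂ →ₗ[R] H₁) (x : H) : phi f g (-u) (phi f g u x) = x := by
  rw [phi_apply, g_phi f g hfg, phi_apply]
  simp

include hfg in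
theorem phi_phi_neg (u : H₂ →ₗ[R] H₁) (x : H) : phi f g u (phi f g (-u) x) = x := by
  have := phi_neg_phi f g hfg (-u) x
  rwa [neg_neg] at this

/-- the shear as an equivalence. -/
def phiEquiv (u : H₂ →ₗ[R] H₁) : H ≃ₗ[R] H :=
  LinearEquiv.ofLinearMap (phi f g u) (phi f g (-u))
    (LinearMap.ext (phi_phi_neg f g hfg u)) (LinearMap.ext (phi_neg_phi f g hfg u))

theorem map_phiEquiv (u : H₂ →ₗ[R] H₁) (F : Submodule R H) :
    Submodule.map (phiEquiv f g hfg u).toLinearMap F = Submodule.map (phi f g u) F := rfl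

theorem f_mem_smul_top (𝔫 : Ideal R) {w : H₁} (hw : w ∈ 𝔫 • (⊤ : Submodule R H₁)) :
    f w ∈ 𝔫 • (⊤ : Submodule R H) := by
  have h1 : f w ∈ Submodule.map f (𝔫 • (⊤ : Submodule R H₁)) := Submodule.mem_map_of_mem hw
  rw [Submodule.map_smul''] at h1
  exact Submodule.smul_mono le_rfl le_top h1

section part1

variable (F₁ : Submodule R H₁) (F₂ : Submodule R H₂) (𝔫 : Ideal R) (F : Submodule R H)
  (u : H₂ →ₗ[R] H₁) (hu : ∀ y : H₂, u y ∈ 𝔫 • (⊤ : Submodule R H₁))

include hfg in
theorem part1a (hC : ∃ C : Submodule R H, IsCompl F C) :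
    ∃ C : Submodule R H, IsCompl (Submodule.map (phi f g u) F) C := by
  obtain ⟨C, hC⟩ := hC
  refine ⟨Submodule.map (phi f g u) C, ?_⟩
  rw [← map_phiEquiv f g hfg, ← map_phiEquiv f g hfg]
  exact (Submodule.orderIsoMapComap (phiEquiv f g hfg u)).isCompl hC

include hfg in
theorem part1b (hF : F ⊓ LinearMap.range f = Submodule.map f F₁) :
    Submodule.map (phi f g u) F ⊓ LinearMap.range f = Submodule.map f F₁ := by
  apply le_antisymm
  · rintro z ⟨⟨x, hx, rfl⟩, hz⟩
    -- g x = 0
    have hgx : g x = 0 := by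
      obtain ⟨w, hw⟩ := hz
      have := congrArg g hw
      rw [hfg.apply_apply_eq_zero, g_phi f g hfg] at this
      exact this.symm
    have hxr : x ∈ LinearMap.range f := (hfg x).mp hgx
    have : phi f g u x = x := by rw [phi_apply, hgx, map_zero, map_zero, add_zero]
    rw [this, ← hF]
    exact ⟨hx, hxr⟩
  · intro z hz
    have hz' : z ∈ F ⊓ LinearMap.range f := by rw [hF]; exact hz
    refine ⟨⟨z, hz'.1, ?_⟩, hz'.2⟩
    obtain ⟨w, rfl⟩ := hz'.2
    rw [phi_apply, hfg.apply_apply_eq_zero, map_zero, map_zero, add_zero]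

include hu in
theorem part1c : (Submodule.map (phi f g u) F).baseChange (R ⧸ 𝔫) = F.baseChange (R ⧸ 𝔫) := by
  apply le_antisymm
  · apply baseChange_le_of_le_sup
    rintro _ ⟨x, hx, rfl⟩
    rw [phi_apply]
    exact Submodule.add_mem_sup hx (f_mem_smul_top f 𝔫 (hu _))
  · apply baseChange_le_of_le_sup
    intro x hx
    have : x = phi f g u x + (-(f (u (g x)))) := by rw [phi_apply]; abel
    rw [this]
    exact Submodule.add_mem_sup (Submodule.mem_map_of_mem hx)
      (Submodule.neg_mem _ (f_mem_smul_top f 𝔫 (hu _)))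

include hfg in
theorem part1d : Submodule.map g (Submodule.map (phi f g u) F) = Submodule.map g F := by
  rw [← Submodule.map_comp]
  congr 1
  apply LinearMap.ext
  intro x
  exact g_phi f g hfg u x

end part1

end Groth.Agent.Helper7.TL
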