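import Groth.Agent.Helper7.TL2

set_option autoImplicit false
set_option maxSynthPendingDepth 3
set_option linter.style.haveILetI false
set_option linter.unusedSectionVars false

namespace Groth.Agent.Helper7.TL

open TensorProduct

variable {R : Type*} [CommRing R] {H₁ H H₂ : Type*}
  [AddCommGroup H₁] [Module R H₁] [AddCommGroup H] [Module R H] [AddCommGroup H₂] [Module R H₂]
  (f : H₁ →ₗ[R] H) (g : H →ₗ[R] H₂) (hf : Function.Injective f) (hg : Function.Surjective g)
  (hfg : Function.Exact f g)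

section part2

variable (F₁ : Submodule R H₁) (F₂ : Submodule R H₂) (𝔫 : Ideal R) (F : Submodule R H)
  (u : H₂ →ₗ[R] H₁) (hu : ∀ y : H₂, u y ∈ 𝔫 • (⊤ : Submodule R H₁))
  (hF2 : F ⊓ LinearMap.range f = Submodule.map f F₁) (hF4 : Submodule.map g F = F₂)

include hF2 hF4 in
theorem phi_mem_of (v : H₂ →ₗ[R] H₁) (hv : ∀ y ∈ F₂, v y ∈ F₁) (x : H) (hx : x ∈ F) :
    phi f g v x ∈ F := by
  rw [phi_apply]
  refine F.add_mem hx ?_
  have h1 : g x ∈ F₂ := by rw [← hF4]; exact Submodule.mem_map_of_mem hx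
  have h2 : f (v (g x)) ∈ Submodule.map f F₁ := Submodule.mem_map_of_mem (hv _ h1)
  rw [← hF2] at h2
  exact h2.1

include hf hfg hu hF2 hF4 in
theorem part2 [Module.Projective R (H₁ ⧸ F₁)] :
    Submodule.map (phi f g u) F = F ↔ ∀ y ∈ F₂, u y ∈ 𝔫 • F₁ := by
  constructor
  · intro h y hy
    rw [← hF4] at hy
    obtain ⟨x, hx, rfl⟩ := hy
    have h1 : phi f g u x ∈ F := by rw [← h]; exact Submodule.mem_map_of_mem hx
    have h2 : f (u (g x)) ∈ F := by
      have : f (u (g x)) = phi f g u x - x := by rw [phi_apply]; abel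
      rw [this]
      exact F.sub_mem h1 hx
    have h3 : f (u (g x)) ∈ Submodule.map f F₁ := by
      rw [← hF2]
      exact ⟨h2, LinearMap.mem_range_self f _⟩
    obtain ⟨w, hw, hfw⟩ := h3
    have h4 : u (g x) ∈ F₁ := by
      rw [← hf hfw]; exact hw
    exact mem_smul_of_quotient_projective F₁ 𝔫 _ h4 (hu _)
  · intro h
    have hv : ∀ y ∈ F₂, u y ∈ F₁ := fun y hy => Submodule.smul_le_right (h y hy)
    have hv' : ∀ y ∈ F₂, (-u) y ∈ F₁ := fun y hy => by
      rw [LinearMap.neg_apply]; exact F₁.neg_mem (hv y hy)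
    apply le_antisymm
    · rintro _ ⟨x, hx, rfl⟩
      exact phi_mem_of f g F₁ F₂ F hF2 hF4 u hv x hx
    · intro x hx
      refine ⟨phi f g (-u) x, phi_mem_of f g F₁ F₂ F hF2 hF4 (-u) hv' x hx, ?_⟩
      exact phi_phi_neg f g hfg u x

end part2

end Groth.Agent.Helper7.TL
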