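import Groth.Agent.Helper7.TL3

set_option autoImplicit false
set_option maxSynthPendingDepth 3
set_option linter.style.haveILetI false
set_option linter.unusedSectionVars false

namespace Groth.Agent.Helper7.TL

open TensorProduct

variable {R : Type*} [CommRing R] {H₁ H H₂ : Type*}
  [AddCommGroup H₁] [Module R H₁] [AddCommGroup H] [Module R H] [AddCommGroup H₂] [Module R H₂]
  (f : H₁ →ₗ[R] H) (g : H →ₗ[R] H₂) (hf : Function.Injective f) (hg : Function.Surjective g)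
  (hfg : Function.Exact f g)

section part3

variable (F₁ : Submodule R H₁) (F₂ : Submodule R H₂) (𝔫 : Ideal R) (F F' : Submodule R H)
  (hF2 : F ⊓ LinearMap.range f = Submodule.map f F₁) (hF4 : Submodule.map g F = F₂)
  (hF2' : F' ⊓ LinearMap.range f = Submodule.map f F₁) (hF4' : Submodule.map g F' = F₂)
  (hbc : F.baseChange (R ⧸ 𝔫) = F'.baseChange (R ⧸ 𝔫))

include hg hfg hF4 hF4' hbc in
theorem step3a [Module.Projective R (H₂ ⧸ F₂)] [Module.Projective R H₂] (y : H₂) (hy : y ∈ F₂) :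
    ∃ x ∈ F, ∃ x' ∈ F', ∃ w ∈ 𝔫 • (⊤ : Submodule R H₁), g x = y ∧ g x' = y ∧ x' = x + f w := by
  have hy' := hy
  rw [← hF4'] at hy'
  obtain ⟨x', hx', hgx'⟩ := hy'
  have hle : F' ≤ F ⊔ 𝔫 • (⊤ : Submodule R H) := le_sup_of_baseChange_le 𝔫 F' F hbc.ge
  obtain ⟨x₀, hx₀, n, hn, hsum⟩ := Submodule.mem_sup.mp (hle hx')
  have hgx₀ : g x₀ ∈ F₂ := by rw [← hF4]; exact Submodule.mem_map_of_mem hx₀
  have hgn : g n = y - g x₀ := by rw [← hgx', ← hsum, map_add]; abel
  have hgn2 : g n ∈ F₂ := by rw [hgn]; exact F₂.sub_mem hy hgx₀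
  have hgn3 : g n ∈ 𝔫 • (⊤ : Submodule R H₂) := by
    have h1 : g n ∈ Submodule.map g (𝔫 • (⊤ : Submodule R H)) := Submodule.mem_map_of_mem hn
    rw [Submodule.map_smul''] at h1
    exact Submodule.smul_mono le_rfl le_top h1
  have hgn4 : g n ∈ 𝔫 • F₂ := mem_smul_of_quotient_projective F₂ 𝔫 _ hgn2 hgn3
  rw [← hF4, ← Submodule.map_smul''] at hgn4
  obtain ⟨x₁, hx₁, hgx₁⟩ := hgn4
  have hx₁F : x₁ ∈ F := Submodule.smul_le_right hx₁
  have hx₁n : x₁ ∈ 𝔫 • (⊤ : Submodule R H) := Submodule.smul_mono le_rfl le_top hx₁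
  have hd1 : n - x₁ ∈ 𝔫 • (⊤ : Submodule R H) := Submodule.sub_mem _ hn hx₁n
  have hd2 : g (n - x₁) = 0 := by rw [map_sub, hgx₁, sub_self]
  have hd3 := mem_smul_ker_of_projective g hg 𝔫 _ hd2 hd1
  rw [LinearMap.exact_iff.mp hfg, ← Submodule.map_top, ← Submodule.map_smul''] at hd3
  obtain ⟨w, hw, hfw⟩ := hd3
  refine ⟨x₀ + x₁, F.add_mem hx₀ hx₁F, x', hx', w, hw, ?_, hgx', ?_⟩
  · rw [map_add, hgx₁, hgn]; abel
  · rw [hfw, ← hsum]; abel

include hf hg hfg hF2 hF4 hF2' hF4' hbc in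
theorem part3 [Module.Projective R (H₂ ⧸ F₂)] [Module.Projective R H₂] {ι : Type*}
    (b : Module.Basis ι R F₂) :
    ∃ u : H₂ →ₗ[R] H₁, (∀ y : H₂, u y ∈ 𝔫 • (⊤ : Submodule R H₁)) ∧
      F' = Submodule.map (phi f g u) F := by
  choose x hx x' hx' w hw hgx hgx' hxx' using fun i : ι =>
    step3a f g hg hfg F₂ 𝔫 F F' hF4 hF4' hbc (b i : H₂) (b i).2
  obtain ⟨ρ, hρ⟩ := exists_retraction F₂
  set ut : F₂ →ₗ[R] H₁ := b.constr R w with hut
  set ξ : F₂ →ₗ[R] H := b.constr R x with hξ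
  set ξ' : F₂ →ₗ[R] H := b.constr R x' with hξ'
  have hξF : ∀ z, ξ z ∈ F := by
    intro z
    rw [hξ, Module.Basis.constr_apply]
    exact Submodule.sum_mem _ fun i _ => F.smul_mem _ (hx i)
  have hξF' : ∀ z, ξ' z ∈ F' := by
    intro z
    rw [hξ', Module.Basis.constr_apply]
    exact Submodule.sum_mem _ fun i _ => F'.smul_mem _ (hx' i)
  have hutn : ∀ z, ut z ∈ 𝔫 • (⊤ : Submodule R H₁) := by
    intro z
    rw [hut, Module.Basis.constr_apply]
    exact Submodule.sum_mem _ fun i _ => Submodule.smul_mem _ _ (hw i)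
  have hgξ : ∀ z : F₂, g (ξ z) = z := by
    have : g ∘ₗ ξ = F₂.subtype := by
      apply b.ext
      intro i
      rw [LinearMap.comp_apply, hξ, Module.Basis.constr_basis, hgx]
      rfl
    intro z
    exact LinearMap.congr_fun this z
  have hgξ' : ∀ z : F₂, g (ξ' z) = z := by
    have : g ∘ₗ ξ' = F₂.subtype := by
      apply b.ext
      intro i
      rw [LinearMap.comp_apply, hξ', Module.Basis.constr_basis, hgx']
      rfl
    intro z
    exact LinearMap.congr_fun this z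
  have hrel : ∀ z : F₂, ξ' z = ξ z + f (ut z) := by
    have : ξ' = ξ + f ∘ₗ ut := by
      apply b.ext
      intro i
      rw [LinearMap.add_apply, LinearMap.comp_apply, hξ', hξ, hut, Module.Basis.constr_basis,
        Module.Basis.constr_basis, Module.Basis.constr_basis, hxx']
    intro z
    exact LinearMap.congr_fun this z
  refine ⟨ut ∘ₗ ρ, fun y => hutn _, ?_⟩
  have hker : ∀ d : H, g d = 0 → (d ∈ F ↔ d ∈ F') := by
    intro d hd
    have hr : d ∈ LinearMap.range f := (hfg d).mp hd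
    constructor
    · intro h
      have : d ∈ F ⊓ LinearMap.range f := ⟨h, hr⟩
      rw [hF2, ← hF2'] at this
      exact this.1
    · intro h
      have : d ∈ F' ⊓ LinearMap.range f := ⟨h, hr⟩
      rw [hF2', ← hF2] at this
      exact this.1
  apply le_antisymm
  · intro y hy
    have hgy : g y ∈ F₂ := by rw [← hF4']; exact Submodule.mem_map_of_mem hy
    set z : F₂ := ⟨g y, hgy⟩ with hz
    have h1 : g (y - ξ' z) = 0 := by rw [map_sub, hgξ', hz, sub_self]
    have h2 : y - ξ' z ∈ F := (hker _ h1).mpr (F'.sub_mem hy (hξF' z))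
    refine ⟨(y - ξ' z) + ξ z, F.add_mem h2 (hξF z), ?_⟩
    have h3 : g ((y - ξ' z) + ξ z) = (z : H₂) := by rw [map_add, h1, zero_add, hgξ]
    rw [phi_apply, LinearMap.comp_apply, h3, hρ z, hrel z]
    abel
  · rintro _ ⟨y, hy, rfl⟩
    have hgy : g y ∈ F₂ := by rw [← hF4]; exact Submodule.mem_map_of_mem hy
    set z : F₂ := ⟨g y, hgy⟩ with hz
    have h1 : g (y - ξ z) = 0 := by rw [map_sub, hgξ, hz, sub_self]
    have h2 : y - ξ z ∈ F' := (hker _ h1).mp (F.sub_mem hy (hξF z))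
    have h3 : phi f g (ut ∘ₗ ρ) y = (y - ξ z) + ξ' z := by
      have : g y = (z : H₂) := rfl
      rw [phi_apply, LinearMap.comp_apply, this, hρ z, hrel z]
      abel
    rw [h3]
    exact F'.add_mem h2 (hξF' z)

end part3

end Groth.Agent.Helper7.TL
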