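import Groth.Agent.Helper7.TL4

set_option autoImplicit false
set_option maxSynthPendingDepth 3
set_option linter.style.haveILetI false
set_option linter.unusedSectionVars false

namespace Groth.Agent.Helper7.TL

open TensorProduct

universe u v

theorem free_of_summand {R : Type*} [CommRing R] [IsLocalRing R] {M : Type*} [AddCommGroup M]
    [Module R M] [Module.Free R M] [Module.Finite R M] (N : Submodule R M)
    [Module.Projective R (M ⧸ N)] : Module.Free R N := by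
  obtain ⟨ρ, hρ⟩ := exists_retraction N
  have hsurj : Function.Surjective ρ := fun x => ⟨x, hρ x⟩
  haveI : Module.Finite R N := Module.Finite.of_surjective ρ hsurj
  haveI : Module.Projective R N :=
    Module.Projective.of_split N.subtype ρ (LinearMap.ext fun x => hρ x)
  exact Module.free_of_flat_of_isLocalRing

theorem main_16420
    (R : Type u) [CommRing R] [IsLocalRing R]
    (H₁ : Type v) (H : Type v) (H₂ : Type v)
    [AddCommGroup H₁] [Module R H₁] [AddCommGroup H] [Module R H] [AddCommGroup H₂] [Module R H₂]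
    [Module.Free R H₂] [Module.Finite R H₂]
    (f : H₁ →ₗ[R] H) (g : H →ₗ[R] H₂) (hf : Function.Injective f) (hg : Function.Surjective g)
    (hfg : Function.Exact f g)
    (F₁ : Submodule R H₁) (F₂ : Submodule R H₂) [Module.Free R (H₁ ⧸ F₁)] [Module.Free R (H₂ ⧸ F₂)]
    (𝔫 : Ideal R)
    (Fb : Submodule (R ⧸ 𝔫) ((R ⧸ 𝔫) ⊗[R] H))
    (F F' : Submodule R H)
    (hF : (∃ C : Submodule R H, IsCompl (F) C) ∧
      (F) ⊓ LinearMap.range f = Submodule.map f F₁ ∧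
      Submodule.baseChange (R ⧸ 𝔫) (F) = Fb ∧ Submodule.map g (F) = F₂)
    (hF' : (∃ C : Submodule R H, IsCompl (F') C) ∧
      (F') ⊓ LinearMap.range f = Submodule.map f F₁ ∧
      Submodule.baseChange (R ⧸ 𝔫) (F') = Fb ∧ Submodule.map g (F') = F₂) :
    (∀ u : H₂ →ₗ[R] H₁, (∀ y : H₂, u y ∈ 𝔫 • (⊤ : Submodule R H₁)) →
      (∃ C : Submodule R H, IsCompl (Submodule.map (LinearMap.id + f ∘ₗ u ∘ₗ g) F) C) ∧
      (Submodule.map (LinearMap.id + f ∘ₗ u ∘ₗ g) F) ⊓ LinearMap.range f = Submodule.map f F₁ ∧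
      Submodule.baseChange (R ⧸ 𝔫) (Submodule.map (LinearMap.id + f ∘ₗ u ∘ₗ g) F) = Fb ∧ Submodule.map g (Submodule.map (LinearMap.id + f ∘ₗ u ∘ₗ g) F) = F₂) ∧
    (∀ u : H₂ →ₗ[R] H₁, (∀ y : H₂, u y ∈ 𝔫 • (⊤ : Submodule R H₁)) →
      (Submodule.map (LinearMap.id + f ∘ₗ u ∘ₗ g) F = F ↔ ∀ y ∈ F₂, u y ∈ 𝔫 • F₁)) ∧
    (∃ u : H₂ →ₗ[R] H₁, (∀ y : H₂, u y ∈ 𝔫 • (⊤ : Submodule R H₁)) ∧
      F' = Submodule.map (LinearMap.id + f ∘ₗ u ∘ₗ g) F) := by
  obtain ⟨hFa, hFb, hFc, hFd⟩ := hF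
  obtain ⟨hFa', hFb', hFc', hFd'⟩ := hF'
  refine ⟨?_, ?_, ?_⟩
  · intro u hu
    refine ⟨part1a f g hfg F u hFa, part1b f g hfg F₁ F u hFb, ?_, ?_⟩
    · have := part1c f g 𝔫 F u hu
      rw [phi] at this
      rw [this, hFc]
    · have := part1d f g hfg F u
      rw [phi] at this
      rw [this, hFd]
  · intro u hu
    exact part2 f g hf hfg F₁ F₂ 𝔫 F u hu hFb hFd
  · haveI : Module.Free R F₂ := free_of_summand F₂
    have hbc : F.baseChange (R ⧸ 𝔫) = F'.baseChange (R ⧸ 𝔫) := by rw [hFc, hFc']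
    exact part3 f g hf hg hfg F₁ F₂ 𝔫 F F' hFb hFd hFb' hFd' hbc (Module.Free.chooseBasis R F₂)

end Groth.Agent.Helper7.TL
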