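import Mathlib
import Groth.Agent.Helper7.TL1

set_option autoImplicit false
set_option maxSynthPendingDepth 3
set_option linter.style.haveILetI false
set_option linter.unusedSectionVars false
set_option linter.unusedVariables false

namespace Groth.Agent.Helper7.TL

open TensorProduct

universe u v

variable {R : Type u} [CommRing R]
variable {H₁ : Type v} {H : Type v} {H₂ : Type v}
  [AddCommGroup H₁] [Module R H₁] [AddCommGroup H] [Module R H] [AddCommGroup H₂] [Module R H₂]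

lemma exists_one_tmul_eq (𝔫 : Ideal R) (φ : (R ⧸ 𝔫) ⊗[R] H) : ∃ x : H, (1 : R ⧸ 𝔫) ⊗ₜ[R] x = φ := by
  induction φ using TensorProduct.induction_on with
  | zero => exact ⟨0, by simp⟩
  | tmul r x =>
    obtain ⟨r', rfl⟩ := Ideal.Quotient.mk_surjective r
    refine ⟨r' • x, ?_⟩
    rw [TensorProduct.tmul_smul, TensorProduct.smul_tmul', Algebra.smul_def]
    simp
  | add a b ha hb =>
    obtain ⟨x, rfl⟩ := ha
    obtain ⟨y, rfl⟩ := hb
    exact ⟨x + y, by rw [TensorProduct.tmul_add]⟩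

theorem main_16419 [Module.Free R H₂] [Module.Free R H₁]
    (f : H₁ →ₗ[R] H) (g : H →ₗ[R] H₂) (hf : Function.Injective f) (hg : Function.Surjective g)
    (hfg : Function.Exact f g)
    (F₁ : Submodule R H₁) (F₂ : Submodule R H₂) [Module.Free R (H₁ ⧸ F₁)] [Module.Free R (H₂ ⧸ F₂)]
    (𝔫 : Ideal R)
    (Fb : Submodule (R ⧸ 𝔫) ((R ⧸ 𝔫) ⊗[R] H))
    (h1 : Fb ⊓ LinearMap.range (f.baseChange (R ⧸ 𝔫)) =
      Submodule.map (f.baseChange (R ⧸ 𝔫)) (F₁.baseChange (R ⧸ 𝔫)))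
    (h2 : Submodule.map (g.baseChange (R ⧸ 𝔫)) Fb = F₂.baseChange (R ⧸ 𝔫)) :
    ∃ F : Submodule R H, (∃ C : Submodule R H, IsCompl F C) ∧
      F ⊓ LinearMap.range f = Submodule.map f F₁ ∧
      F.baseChange (R ⧸ 𝔫) = Fb ∧ Submodule.map g F = F₂ := by
  classical
  -- retractions and complements
  obtain ⟨ρ₁, hρ₁⟩ := exists_retraction (R := R) F₁
  obtain ⟨ρ₂, hρ₂⟩ := exists_retraction (R := R) F₂
  have hC₁ : IsCompl F₁ (LinearMap.ker ρ₁) := LinearMap.isCompl_of_proj hρ₁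
  have hC₂ : IsCompl F₂ (LinearMap.ker ρ₂) := LinearMap.isCompl_of_proj hρ₂
  haveI : Module.Projective R F₂ :=
    Module.Projective.of_split F₂.subtype ρ₂ (by ext x; simp [hρ₂])
  -- a section of g
  obtain ⟨σ, hσ⟩ := Module.projective_lifting_property g LinearMap.id hg
  have hσ' : ∀ y, g (σ y) = y := fun y => LinearMap.congr_fun hσ y
  -- the pulled back submodule
  let F₀ : Submodule R H := (Fb.restrictScalars R).comap (TensorProduct.mk R (R ⧸ 𝔫) H 1)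
  have hF₀ : ∀ x, x ∈ F₀ ↔ (1 : R ⧸ 𝔫) ⊗ₜ[R] x ∈ Fb := fun x => Iff.rfl
  let M₀ : Submodule R H := F₀ ⊓ F₂.comap g
  -- 𝔫 H ⊆ F₀
  have hnF₀ : ∀ x ∈ 𝔫 • (⊤ : Submodule R H), x ∈ F₀ := by
    intro x hx
    rw [hF₀, (one_tmul_eq_zero_iff 𝔫 x).mpr hx]
    exact zero_mem _
  -- g maps 𝔫 H onto 𝔫 H₂
  have hgn : ∀ y ∈ 𝔫 • (⊤ : Submodule R H₂), ∃ x ∈ 𝔫 • (⊤ : Submodule R H), g x = y := by
    intro y hy
    have : Submodule.map g (𝔫 • (⊤ : Submodule R H)) = 𝔫 • (⊤ : Submodule R H₂) := by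
      rw [Submodule.map_smul'', Submodule.map_top, LinearMap.range_eq_top.mpr hg]
    rw [← this] at hy
    exact hy
  -- surjectivity of the restriction of g
  let g₀ : M₀ →ₗ[R] F₂ := (g.domRestrict M₀).codRestrict F₂ (fun x => x.2.2)
  have hg₀ : Function.Surjective g₀ := by
    rintro ⟨b, hb⟩
    have hb1 : (1 : R ⧸ 𝔫) ⊗ₜ[R] b ∈ F₂.baseChange (R ⧸ 𝔫) :=
      Submodule.tmul_mem_baseChange_of_mem 1 hb
    rw [← h2] at hb1
    obtain ⟨φ, hφ, hφb⟩ := hb1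
    obtain ⟨x', rfl⟩ := exists_one_tmul_eq 𝔫 φ
    rw [LinearMap.baseChange_tmul] at hφb
    have h3 : (1 : R ⧸ 𝔫) ⊗ₜ[R] (g x' - b) = 0 := by rw [TensorProduct.tmul_sub, hφb, sub_self]
    rw [one_tmul_eq_zero_iff] at h3
    obtain ⟨n', hn', hgn'⟩ := hgn _ h3
    have hx : x' - n' ∈ M₀ := by
      refine ⟨?_, ?_⟩
      · exact F₀.sub_mem hφ (hnF₀ n' hn')
      · show g (x' - n') ∈ F₂
        rw [map_sub, hgn']; simpa using hb
    refine ⟨⟨x' - n', hx⟩, ?_⟩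
    apply Subtype.ext
    show g (x' - n') = b
    rw [map_sub, hgn']; abel
  obtain ⟨e, he⟩ := Module.projective_lifting_property g₀ LinearMap.id hg₀
  have he' : ∀ b : F₂, g ((e b : H)) = b := fun b => by
    have := LinearMap.congr_fun he b
    exact congrArg Subtype.val this
  have heF₀ : ∀ b : F₂, ((e b : H)) ∈ F₀ := fun b => (e b).2.1
  let E : Submodule R H := LinearMap.range (M₀.subtype ∘ₗ e)
  have hE : ∀ x, x ∈ E ↔ ∃ b : F₂, (e b : H) = x := fun x => by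
    simp [E, LinearMap.mem_range]
  let F : Submodule R H := Submodule.map f F₁ ⊔ E
  have hgf : ∀ a, g (f a) = 0 := fun a => hfg.apply_apply_eq_zero a
  have hmemF : ∀ x, x ∈ F ↔ ∃ a ∈ F₁, ∃ b : F₂, x = f a + (e b : H) := by
    intro x
    constructor
    · intro hx
      obtain ⟨y, hy, z, hz, rfl⟩ := Submodule.mem_sup.mp hx
      obtain ⟨a, ha, rfl⟩ := hy
      obtain ⟨b, rfl⟩ := (hE z).mp hz
      exact ⟨a, ha, b, rfl⟩
    · rintro ⟨a, ha, b, rfl⟩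
      exact Submodule.add_mem_sup (Submodule.mem_map_of_mem ha) ((hE _).mpr ⟨b, rfl⟩)
  -- f(F₁) ⊆ F₀
  have hfF₀ : ∀ a ∈ F₁, f a ∈ F₀ := by
    intro a ha
    rw [hF₀]
    have : (1 : R ⧸ 𝔫) ⊗ₜ[R] f a ∈
        Submodule.map (f.baseChange (R ⧸ 𝔫)) (F₁.baseChange (R ⧸ 𝔫)) :=
      ⟨(1 : R ⧸ 𝔫) ⊗ₜ[R] a, Submodule.tmul_mem_baseChange_of_mem 1 ha, by
        rw [LinearMap.baseChange_tmul]⟩
    rw [← h1] at this
    exact this.1
  refine ⟨F, ?_, ?_, ?_, ?_⟩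
  · -- complement
    refine ⟨Submodule.map f (LinearMap.ker ρ₁) ⊔ Submodule.map σ (LinearMap.ker ρ₂), ?_⟩
    constructor
    · rw [Submodule.disjoint_def]
      intro x hxF hxC
      obtain ⟨a, ha, b, rfl⟩ := (hmemF x).mp hxF
      obtain ⟨y, hy, z, hz, hyz⟩ := Submodule.mem_sup.mp hxC
      obtain ⟨c₁, hc₁, rfl⟩ := hy
      obtain ⟨c₂, hc₂, rfl⟩ := hz
      have h3 := congrArg g hyz
      simp only [map_add, hgf, hσ', he', zero_add] at h3
      -- c₂ = b ∈ F₂ ∩ ker ρ₂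
      have hb0 : (b : H₂) = 0 := by
        have hmem : (b : H₂) ∈ F₂ ⊓ LinearMap.ker ρ₂ := ⟨b.2, by rw [← h3]; exact hc₂⟩
        rw [hC₂.inf_eq_bot] at hmem
        exact (Submodule.mem_bot R).mp hmem
      have hb : b = 0 := Subtype.ext hb0
      have hc20 : c₂ = 0 := by rw [h3, hb0]
      rw [hb, hc20] at hyz
      simp only [map_zero, ZeroMemClass.coe_zero, add_zero] at hyz
      have hac : c₁ = a := hf hyz
      have ha0 : a = 0 := by
        have hmem : a ∈ F₁ ⊓ LinearMap.ker ρ₁ := ⟨ha, hac ▸ hc₁⟩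
        rw [hC₁.inf_eq_bot] at hmem
        exact (Submodule.mem_bot R).mp hmem
      rw [ha0, hb]; simp
    · rw [codisjoint_iff, eq_top_iff]
      intro x _
      -- decompose g x
      have h3 : g x ∈ F₂ ⊔ LinearMap.ker ρ₂ := by rw [hC₂.sup_eq_top]; trivial
      obtain ⟨y₂, hy₂, c₂, hc₂, hyc⟩ := Submodule.mem_sup.mp h3
      have h4 : g (x - (e ⟨y₂, hy₂⟩ : H) - σ c₂) = 0 := by
        rw [map_sub, map_sub, he', hσ', ← hyc]; simp
      obtain ⟨w, hw⟩ := (hfg _).mp h4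
      have h5 : w ∈ F₁ ⊔ LinearMap.ker ρ₁ := by rw [hC₁.sup_eq_top]; trivial
      obtain ⟨a, ha, c₁, hc₁, hac⟩ := Submodule.mem_sup.mp h5
      have hx : x = (f a + (e ⟨y₂, hy₂⟩ : H)) + (f c₁ + σ c₂) := by
        have : f w = f a + f c₁ := by rw [← hac, map_add]
        rw [this] at hw
        have h6 : x = (x - (e ⟨y₂, hy₂⟩ : H) - σ c₂) + (e ⟨y₂, hy₂⟩ : H) + σ c₂ := by abel
        rw [h6, ← hw]; abel
      rw [hx]
      refine Submodule.add_mem_sup ((hmemF _).mpr ⟨a, ha, _, rfl⟩) ?_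
      exact Submodule.add_mem_sup (Submodule.mem_map_of_mem hc₁) (Submodule.mem_map_of_mem hc₂)
  · -- intersection with range f
    apply le_antisymm
    · rintro x ⟨hxF, hxf⟩
      obtain ⟨a, ha, b, rfl⟩ := (hmemF x).mp hxF
      obtain ⟨w, hw⟩ := hxf
      have h3 := congrArg g hw
      simp only [map_add, hgf, he', zero_add] at h3
      have hb : b = 0 := Subtype.ext h3.symm
      rw [hb]; simp only [map_zero, ZeroMemClass.coe_zero, add_zero]
      exact Submodule.mem_map_of_mem ha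
    · rintro x ⟨a, ha, rfl⟩
      exact ⟨(hmemF _).mpr ⟨a, ha, 0, by simp⟩, ⟨a, rfl⟩⟩
  · -- base change
    apply le_antisymm
    · rw [Submodule.baseChange_eq_span, Submodule.span_le]
      rintro _ ⟨x, hx, rfl⟩
      obtain ⟨a, ha, b, rfl⟩ := (hmemF x).mp hx
      exact (hF₀ _).mp (F₀.add_mem (hfF₀ a ha) (heF₀ b))
    · intro φ hφ
      obtain ⟨x, rfl⟩ := exists_one_tmul_eq 𝔫 φ
      rw [one_tmul_mem_baseChange_iff]
      -- g x ∈ F₂ ⊔ 𝔫 H₂
      have h3 : (1 : R ⧸ 𝔫) ⊗ₜ[R] g x ∈ F₂.baseChange (R ⧸ 𝔫) := by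
        rw [← h2]
        exact ⟨_, hφ, by rw [LinearMap.baseChange_tmul]⟩
      rw [one_tmul_mem_baseChange_iff] at h3
      obtain ⟨y, hy, n, hn, hyn⟩ := Submodule.mem_sup.mp h3
      obtain ⟨n', hn', hgn'⟩ := hgn n hn
      have h4 : g (x - (e ⟨y, hy⟩ : H) - n') = 0 := by
        rw [map_sub, map_sub, he', hgn', ← hyn]; simp
      obtain ⟨a, ha⟩ := (hfg _).mp h4
      -- 1 ⊗ f a ∈ Fb ∩ range
      have h5 : f a ∈ F₀ := by
        rw [ha]
        exact F₀.sub_mem (F₀.sub_mem hφ (heF₀ _)) (hnF₀ n' hn')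
      have h6 : (1 : R ⧸ 𝔫) ⊗ₜ[R] f a ∈ Fb ⊓ LinearMap.range (f.baseChange (R ⧸ 𝔫)) :=
        ⟨h5, ⟨(1 : R ⧸ 𝔫) ⊗ₜ[R] a, by rw [LinearMap.baseChange_tmul]⟩⟩
      rw [h1] at h6
      have h7 : Submodule.map (f.baseChange (R ⧸ 𝔫)) (F₁.baseChange (R ⧸ 𝔫)) ≤
          (Submodule.map f F₁).baseChange (R ⧸ 𝔫) := by
        rw [Submodule.baseChange_eq_span, Submodule.map_span, Submodule.span_le]
        rintro _ ⟨_, ⟨a', ha', rfl⟩, rfl⟩
        show (f.baseChange (R ⧸ 𝔫)) ((1 : R ⧸ 𝔫) ⊗ₜ[R] a') ∈ _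
        rw [LinearMap.baseChange_tmul]
        exact Submodule.tmul_mem_baseChange_of_mem 1 (Submodule.mem_map_of_mem ha')
      have h8 := h7 h6
      rw [one_tmul_mem_baseChange_iff] at h8
      obtain ⟨z, hz, n'', hn'', hzn⟩ := Submodule.mem_sup.mp h8
      have hx : x = (z + (e ⟨y, hy⟩ : H)) + (n'' + n') := by
        have h9 : x = (x - (e ⟨y, hy⟩ : H) - n') + (e ⟨y, hy⟩ : H) + n' := by abel
        rw [h9, ← ha, ← hzn]; abel
      rw [hx]
      refine Submodule.add_mem_sup ?_ (Submodule.add_mem _ hn'' hn')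
      exact Submodule.add_mem_sup hz ((hE _).mpr ⟨_, rfl⟩)
  · -- image under g
    apply le_antisymm
    · rintro _ ⟨x, hx, rfl⟩
      obtain ⟨a, ha, b, rfl⟩ := (hmemF x).mp hx
      rw [map_add, hgf, zero_add, he']
      exact b.2
    · intro b hb
      exact ⟨(e ⟨b, hb⟩ : H), (hmemF _).mpr ⟨0, F₁.zero_mem, ⟨b, hb⟩, by simp⟩, he' ⟨b, hb⟩⟩

end Groth.Agent.Helper7.TL
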