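import Mathlib
import Groth.Prelude.Def_EtRam
import Groth.Agent.Helper7.TRqA

/-!
# A root `z` of `X^q = π + πⁿ X` generates a totally ramified extension of degree `q`
-/

set_option autoImplicit false
universe u

namespace Groth.Agent.Helper7.TRq

open Polynomial IsLocalRing Groth.Agent.Helper7.ASch

section Pack

variable (q : ℕ) (hq : 0 < q) {A K L : Type u} [CommRing A] [IsDomain A]
  [IsDiscreteValuationRing A] [Field K] [Algebra A K] [IsFractionRing A K] [Field L] [Algebra K L]
  [Algebra A L] [IsScalarTower A K L]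
  (π : A) (hπ : maximalIdeal A = Ideal.span {π}) (m : ℕ) (hm : 0 < m)
  (z : L) (hz : z ^ q = algebraMap A L π + algebraMap A L π ^ (m + 1) * z)
  (V : ValuationSubring L) (hV : EtRam.Dominates A (algebraMap A L) V)

include hq hπ hz hV in
theorem val_z_le : V.valuation z ≤ 1 := by
  by_contra h
  push Not at h
  have hc : V.valuation (algebraMap A L π) < 1 := val_pi_lt π hπ V hV
  have h1 : V.valuation z ≤ V.valuation z ^ q := le_self_pow₀ h.le hq.ne'
  have h2 : V.valuation (z ^ q) < V.valuation z := by
    rw [hz]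
    apply lt_of_le_of_lt (Valuation.map_add _ _ _)
    apply max_lt
    · exact hc.trans h
    · rw [map_mul, map_pow]
      have h3 : V.valuation (algebraMap A L π) ^ (m + 1) < 1 :=
        pow_lt_one₀ zero_le hc (Nat.succ_ne_zero m)
      have h4 : 0 < V.valuation z := lt_trans zero_lt_one h
      calc V.valuation (algebraMap A L π) ^ (m + 1) * V.valuation z
          < 1 * V.valuation z := by
            exact mul_lt_mul_of_pos_right h3 h4
        _ = V.valuation z := one_mul _
  rw [map_pow] at h2
  exact absurd h1 (not_le.2 h2)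

include hq hπ hm hz hV in
theorem val_u : V.valuation (1 + algebraMap A L π ^ m * z) = 1 := by
  apply Valuation.map_one_add_of_lt
  rw [map_mul, map_pow]
  have hc : V.valuation (algebraMap A L π) < 1 := val_pi_lt π hπ V hV
  have h3 : V.valuation (algebraMap A L π) ^ m < 1 := pow_lt_one₀ zero_le hc hm.ne'
  calc V.valuation (algebraMap A L π) ^ m * V.valuation z
      ≤ V.valuation (algebraMap A L π) ^ m * 1 :=
        mul_le_mul_right (val_z_le q hq π hπ m z hz V hV) _
    _ = V.valuation (algebraMap A L π) ^ m := mul_one _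
    _ < 1 := h3

omit [IsDomain A] [IsDiscreteValuationRing A] in
include hz in
theorem z_pow_eq : z ^ q = algebraMap A L π * (1 + algebraMap A L π ^ m * z) := by
  rw [hz, pow_succ', mul_add, mul_one, mul_assoc]

include hq hπ hm hz hV in
theorem val_z_pow : V.valuation z ^ q = V.valuation (algebraMap A L π) := by
  rw [← map_pow, z_pow_eq q π m z hz, map_mul, val_u q hq π hπ m hm z hz V hV, mul_one]

end Pack

section Pack2

variable (q : ℕ) (hq : 0 < q) {A K L : Type u} [CommRing A] [IsDomain A]
  [IsDiscreteValuationRing A] [Field K] [Algebra A K] [IsFractionRing A K] [Field L] [Algebra K L]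
  [Algebra A L] [IsScalarTower A K L]
  (π : A) (hπ : maximalIdeal A = Ideal.span {π}) (n : ℕ) (hn : 1 < n)
  (z : L) (hz : z ^ q = algebraMap A L π + algebraMap A L π ^ n * z)

include K hq hπ hn hz in
theorem package [FiniteDimensional K L] (hfinle : Module.finrank K L ≤ q) :
    Module.finrank K L = q ∧ EtRam.IsTotallyRamified A (algebraMap A L) ∧
      ∃ πB b b' : L, πB ∈ integralClosure A L ∧ b ∈ integralClosure A L ∧
        b' ∈ integralClosure A L ∧
        πB ^ q = algebraMap A L π + algebraMap A L π ^ n * b ∧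
        πB ^ q = algebraMap A L π + πB ^ (n * q) * b' := by
  obtain ⟨m, rfl⟩ : ∃ m, n = m + 1 := ⟨n - 1, by omega⟩
  have hm : 0 < m := by omega
  obtain ⟨htot, hfin⟩ := totRam_of_varpi (K := K) q hq π hπ hfinle z
    (fun V hV => val_z_pow q hq π hπ m hm z hz V hV)
  refine ⟨hfin, htot, ?_⟩
  obtain ⟨⟨V, hV⟩, huniq, -⟩ := htot
  haveI : Algebra.IsIntegral K L := Algebra.IsIntegral.of_finite K L
  have hint : ∀ x : L, x ∈ V → IsIntegral A x := fun x hx =>
    TotRam.isIntegral_of_mem (K := K) V (fun V' hV' => huniq V' V hV' hV) x hx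
  have hzV : z ∈ V := (V.valuation_le_one_iff _).1 (val_z_le q hq π hπ m z hz V hV)
  set u : L := 1 + algebraMap A L π ^ m * z with hu
  have hvu : V.valuation u = 1 := val_u q hq π hπ m hm z hz V hV
  have hu0 : u ≠ 0 := by
    intro h0
    rw [h0, map_zero] at hvu
    exact zero_ne_one hvu
  have hεV : u⁻¹ ∈ V := by
    rw [← V.valuation_le_one_iff, map_inv₀, hvu, inv_one]
  have hzu : z ^ q = algebraMap A L π * u := z_pow_eq q π m z hz
  refine ⟨z, z, u⁻¹ ^ (m + 1) * z, hint z hzV, hint z hzV,
    hint _ (mul_mem (pow_mem hεV _) hzV), hz, ?_⟩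
  rw [pow_mul', hzu]
  have h1 : (algebraMap A L π * u) ^ (m + 1) * (u⁻¹ ^ (m + 1) * z) =
      algebraMap A L π ^ (m + 1) * (u * u⁻¹) ^ (m + 1) * z := by
    rw [mul_pow, mul_pow]
    ring
  rw [h1, mul_inv_cancel₀ hu0, one_pow, mul_one, ← hzu, hz]

end Pack2

end Groth.Agent.Helper7.TRq
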