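import Mathlib
import Groth.Prelude.Def_EtRam
import Groth.Agent.Helper7.TRqB

/-!
# Existence of a separable extension generated by a root of `X^q = π + πⁿ X`
-/

set_option autoImplicit false
universe u

namespace Groth.Agent.Helper7.TRq

open Polynomial IsLocalRing Groth.Agent.Helper7.ASch

section Poly

variable {K : Type u} [Field K] (a b : K) (q : ℕ)

/-- the polynomial `X^q - a X - b` -/
noncomputable def FK : K[X] := C 1 * X ^ q + C (-a) * X + C (-b)

theorem FK_eq : FK a b q = X ^ q + (C (-a) * X + C (-b)) := by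
  rw [FK, map_one, one_mul, add_assoc]

theorem FK_natDegree (hq : 2 ≤ q) : (FK a b q).natDegree = q := by
  rw [FK_eq, natDegree_add_eq_left_of_natDegree_lt, natDegree_X_pow]
  rw [natDegree_X_pow]
  exact lt_of_le_of_lt natDegree_linear_le (by omega)

theorem FK_ne_zero (hq : 2 ≤ q) : FK a b q ≠ 0 := by
  intro h
  have := FK_natDegree a b q hq
  rw [h, natDegree_zero] at this
  omega

theorem aeval_FK {L : Type u} [Field L] [Algebra K L] (z : L) (h : aeval z (FK a b q) = 0) :
    z ^ q = algebraMap K L b + algebraMap K L a * z := by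
  rw [FK_eq] at h
  simp only [map_add, map_mul, map_pow, aeval_X, aeval_C, map_neg] at h
  linear_combination h

theorem FK_separable (p : ℕ) [CharP K p] (hpq : p ∣ q) (ha : a ≠ 0) : (FK a b q).Separable :=
  separable_C_mul_X_pow_add_C_mul_X_add_C' p q 1 (-a) (-b) hpq (neg_ne_zero.2 ha).isUnit

end Poly

section Exists

variable {K : Type u} [Field K] (a b : K) (q : ℕ) (hq : 2 ≤ q)

include hq in
theorem factor_dvd : factor (FK a b q) ∣ FK a b q :=
  factor_dvd_of_natDegree_ne_zero (by rw [FK_natDegree a b q hq]; omega)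

/-- the field `K[X]/(g)`, `g` an irreducible factor of `X^q - aX - b` -/
abbrev LL : Type u := AdjoinRoot (factor (FK a b q))

noncomputable instance : Field (LL a b q) :=
  @AdjoinRoot.instField _ _ _ (fact_irreducible_factor _)

theorem finiteDimensional_LL : FiniteDimensional K (LL a b q) :=
  (AdjoinRoot.powerBasis (irreducible_factor (FK a b q)).ne_zero).finite

include hq in
theorem finrank_LL_le : Module.finrank K (LL a b q) ≤ q := by
  rw [(AdjoinRoot.powerBasis (irreducible_factor (FK a b q)).ne_zero).finrank]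
  show (factor (FK a b q)).natDegree ≤ q
  calc (factor (FK a b q)).natDegree ≤ (FK a b q).natDegree :=
        natDegree_le_of_dvd (factor_dvd a b q hq) (FK_ne_zero a b q hq)
    _ = q := FK_natDegree a b q hq

include hq in
theorem aeval_root_LL : aeval (AdjoinRoot.root (factor (FK a b q))) (FK a b q) = 0 := by
  rw [AdjoinRoot.aeval_eq, AdjoinRoot.mk_eq_zero]
  exact factor_dvd a b q hq

include hq in
theorem isSeparable_LL (hchar : ∀ r : ℕ, r.Prime → CharP K r → r ∣ q) (ha : a ≠ 0) :
    Algebra.IsSeparable K (LL a b q) := by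
  haveI := finiteDimensional_LL a b q
  rcases CharP.exists' K with h0 | ⟨r, hr, hrK⟩
  · infer_instance
  · have hsepF : (FK a b q).Separable := FK_separable a b q r (hchar r hr.out hrK) ha
    have hz : IsSeparable K (AdjoinRoot.root (factor (FK a b q))) :=
      hsepF.of_dvd (minpoly.dvd K _ (aeval_root_LL a b q hq))
    have htop : IntermediateField.adjoin K {AdjoinRoot.root (factor (FK a b q))} = ⊤ :=
      IntermediateField.adjoin_eq_top_of_algebra K _ AdjoinRoot.adjoinRoot_eq_top
    haveI : Algebra.IsSeparable K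
        (IntermediateField.adjoin K {AdjoinRoot.root (factor (FK a b q))}) :=
      (IntermediateField.isSeparable_adjoin_simple_iff_isSeparable _ _).2 hz
    exact AlgEquiv.Algebra.isSeparable
      ((IntermediateField.equivOfEq htop).trans IntermediateField.topEquiv)

end Exists

section Main

variable {A K : Type u} [CommRing A] [IsDomain A] [IsDiscreteValuationRing A] [Field K]
  [Algebra A K] [IsFractionRing A K] (π : A) (hπ : maximalIdeal A = Ideal.span {π})

theorem dvd_of_charP (p : ℕ) (hp : p.Prime) [CharP (ResidueField A) p] (r : ℕ) (hr : r.Prime)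
    (hrK : CharP K r) : r = p := by
  have h1 : (r : A) = 0 := by
    apply IsFractionRing.injective A K
    rw [map_natCast, map_zero, CharP.cast_eq_zero K r]
  have h2 : ((r : ℕ) : ResidueField A) = 0 := by
    have := congrArg (residue A) h1
    rwa [map_natCast, map_zero] at this
  have hdvd : p ∣ r := (CharP.cast_eq_zero_iff (ResidueField A) p r).1 h2
  exact ((Nat.prime_dvd_prime_iff_eq hp hr).1 hdvd).symm

include hπ in
theorem exists_pos (p : ℕ) (hp : p.Prime) [CharP (ResidueField A) p] (n : ℕ) (hn : 1 < n)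
    (k : ℕ) (hk : 0 < k) :
    ∃ (L : Type u) (_ : Field L) (_ : Algebra K L) (_ : Algebra A L) (_ : IsScalarTower A K L),
      Module.finrank K L = p ^ k ∧ Algebra.IsSeparable K L ∧
      EtRam.IsTotallyRamified A (algebraMap A L) ∧
      ∃ πB b b' : L, πB ∈ integralClosure A L ∧ b ∈ integralClosure A L ∧
        b' ∈ integralClosure A L ∧
        πB ^ (p ^ k) = algebraMap A L π + algebraMap A L π ^ n * b ∧
        πB ^ (p ^ k) = algebraMap A L π + πB ^ (n * p ^ k) * b' := by
  have hq2 : 2 ≤ p ^ k := by
    calc 2 ≤ p := hp.two_le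
      _ = p ^ 1 := (pow_one p).symm
      _ ≤ p ^ k := Nat.pow_le_pow_right hp.pos hk
  have hπK : algebraMap A K π ≠ 0 := by
    intro h
    exact pi_ne_zero π hπ ((map_eq_zero_iff _ (IsFractionRing.injective A K)).1 h)
  let L := LL (algebraMap A K π ^ n) (algebraMap A K π) (p ^ k)
  haveI : IsScalarTower A K L := inferInstance
  haveI : FiniteDimensional K L := finiteDimensional_LL _ _ _
  have hz : (AdjoinRoot.root (factor (FK (algebraMap A K π ^ n) (algebraMap A K π) (p ^ k))) : L)
      ^ (p ^ k) = algebraMap A L π + algebraMap A L π ^ n *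
        (AdjoinRoot.root (factor (FK (algebraMap A K π ^ n) (algebraMap A K π) (p ^ k))) : L) := by
    rw [aeval_FK _ _ _ _ (aeval_root_LL _ _ _ hq2), map_pow]
    rfl
  obtain ⟨hfin, htot, hex⟩ := package (K := K) (p ^ k) (by omega) π hπ n hn _ hz
    (finrank_LL_le _ _ _ hq2)
  refine ⟨L, inferInstance, inferInstance, inferInstance, inferInstance, hfin, ?_, htot, hex⟩
  apply isSeparable_LL _ _ _ hq2 _ (pow_ne_zero n hπK)
  intro r hr hrK
  rw [dvd_of_charP (A := A) (K := K) p hp r hr hrK]
  exact dvd_pow_self p hk.ne'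

include hπ in
theorem exists_one (n : ℕ) (hn : 1 < n) :
    Module.finrank K K = 1 ∧ Algebra.IsSeparable K K ∧
      EtRam.IsTotallyRamified A (algebraMap A K) ∧
      ∃ πB b b' : K, πB ∈ integralClosure A K ∧ b ∈ integralClosure A K ∧
        b' ∈ integralClosure A K ∧
        πB ^ 1 = algebraMap A K π + algebraMap A K π ^ n * b ∧
        πB ^ 1 = algebraMap A K π + πB ^ (n * 1) * b' := by
  have h1 : (1 : K) - algebraMap A K π ^ n ≠ 0 := by
    intro h
    have h2 : algebraMap A K (π ^ n) = algebraMap A K 1 := by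
      rw [map_pow, map_one]
      exact (sub_eq_zero.1 h).symm
    have h3 : π ^ n = 1 := IsFractionRing.injective A K h2
    have h4 : IsUnit π := IsUnit.of_pow_eq_one h3 (by omega)
    have h5 : π ∈ maximalIdeal A := by
      rw [hπ]; exact Ideal.mem_span_singleton_self π
    exact h5 h4
  have hz : (algebraMap A K π * (1 - algebraMap A K π ^ n)⁻¹) ^ 1 =
      algebraMap A K π + algebraMap A K π ^ n * (algebraMap A K π * (1 - algebraMap A K π ^ n)⁻¹) := by
    rw [pow_one]
    field_simp
    ring
  obtain ⟨hfin, htot, hex⟩ := package (K := K) (L := K) 1 one_pos π hπ n hn _ hz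
    (le_of_eq (Module.finrank_self K))
  exact ⟨hfin, inferInstance, htot, hex⟩

include hπ in
theorem exists_main (p : ℕ) (hp : p.Prime) [CharP (ResidueField A) p] (n : ℕ) (hn : 1 < n)
    (k : ℕ) :
    ∃ (L : Type u) (_ : Field L) (_ : Algebra K L) (_ : Algebra A L) (_ : IsScalarTower A K L),
      Module.finrank K L = p ^ k ∧ Algebra.IsSeparable K L ∧
      EtRam.IsTotallyRamified A (algebraMap A L) ∧
      ∃ πB b b' : L, πB ∈ integralClosure A L ∧ b ∈ integralClosure A L ∧
        b' ∈ integralClosure A L ∧
        πB ^ (p ^ k) = algebraMap A L π + algebraMap A L π ^ n * b ∧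
        πB ^ (p ^ k) = algebraMap A L π + πB ^ (n * p ^ k) * b' := by
  rcases Nat.eq_zero_or_pos k with rfl | hk
  · rw [pow_zero]
    exact ⟨K, inferInstance, inferInstance, inferInstance, inferInstance,
      exists_one π hπ n hn⟩
  · exact exists_pos π hπ p hp n hn k hk

end Main

end Groth.Agent.Helper7.TRq
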