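import Mathlib
import Groth.Agent.Helper7.TakF

set_option autoImplicit false
set_option linter.unusedSectionVars false
universe u v w

namespace Groth.Agent.Helper7.Takeuchi

open TensorProduct

section Epi

variable {B : Type u} [CommRing B] {A : Type v} [CommRing A] [Algebra B A]

/-- a faithfully flat ring map `B → A` with `a ⊗ 1 = 1 ⊗ a` in `A ⊗_B A` is surjective -/
theorem surjective_of_faithfullyFlat_of_tmul_eq [Module.FaithfullyFlat B A]
    (h : ∀ a : A, a ⊗ₜ[B] (1 : A) = (1 : A) ⊗ₜ[B] a) :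
    Function.Surjective (algebraMap B A) := by
  let N₁ : Submodule B A := LinearMap.range (Algebra.linearMap B A)
  have hsub : Subsingleton ((A ⧸ N₁) ⊗[B] A) := by
    refine ⟨fun x y => ?_⟩
    have hz : ∀ z : (A ⧸ N₁) ⊗[B] A, z = 0 := by
      intro z
      induction z using TensorProduct.induction_on with
      | zero => rfl
      | tmul q a =>
        obtain ⟨x, rfl⟩ := N₁.mkQ_surjective q
        have h1 : x ⊗ₜ[B] a = (1 : A) ⊗ₜ[B] (x * a) := by
          have h2 : x ⊗ₜ[B] a = (x ⊗ₜ[B] (1 : A)) * ((1 : A) ⊗ₜ[B] a) := by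
            rw [Algebra.TensorProduct.tmul_mul_tmul, mul_one, one_mul]
          rw [h2, h x, Algebra.TensorProduct.tmul_mul_tmul, mul_one]
        have h3 : (N₁.mkQ x) ⊗ₜ[B] a = LinearMap.rTensor A N₁.mkQ (x ⊗ₜ[B] a) := rfl
        rw [h3, h1, LinearMap.rTensor_tmul]
        have h4 : N₁.mkQ (1 : A) = 0 := by
          rw [Submodule.mkQ_apply, Submodule.Quotient.mk_eq_zero]
          exact ⟨1, by simp⟩
        rw [h4, TensorProduct.zero_tmul]
      | add x y hx hy => rw [hx, hy, add_zero]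
    rw [hz x, hz y]
  haveI := hsub
  have hQ : Subsingleton (A ⧸ N₁) := Module.FaithfullyFlat.rTensor_reflects_triviality B A (A ⧸ N₁)
  intro a
  have h5 : N₁.mkQ a = 0 := Subsingleton.elim _ _
  rw [Submodule.mkQ_apply, Submodule.Quotient.mk_eq_zero] at h5
  obtain ⟨b, hb⟩ := h5
  exact ⟨b, hb⟩

end Epi

section HopfEpi

variable {k : Type u} [Field k] {A' : Type v} [CommRing A'] [HopfAlgebra k A']
  {A : Type w} [CommRing A] [HopfAlgebra k A]

/-- a map of commutative Hopf algebras over a field which is an epimorphism of rings is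
surjective -/
theorem surjective_of_epi (φ : A' →ₐc[k] A)
    (hepi : ∀ (R : Type w) [CommRing R] (f g : A →+* R),
      f.comp (φ : A' →+* A) = g.comp (φ : A' →+* A) → f = g) :
    Function.Surjective φ := by
  haveI : Module.FaithfullyFlat ↥(φ : A' →ₐ[k] A).range A := faithfullyFlat_range φ
  have h1 := hepi (A ⊗[↥(φ : A' →ₐ[k] A).range] A)
    (Algebra.TensorProduct.includeLeftRingHom)
    ((Algebra.TensorProduct.includeRight :
      A →ₐ[↥(φ : A' →ₐ[k] A).range] A ⊗[↥(φ : A' →ₐ[k] A).range] A) : A →+* _) (by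
    ext a'
    change (φ a') ⊗ₜ[↥(φ : A' →ₐ[k] A).range] (1 : A) = (1 : A) ⊗ₜ[↥(φ : A' →ₐ[k] A).range] (φ a')
    have h2 : φ a' = (⟨φ a', a', rfl⟩ : ↥(φ : A' →ₐ[k] A).range) • (1 : A) := by
      rw [Algebra.smul_def, mul_one]
      rfl
    conv_lhs => rw [h2]
    conv_rhs => rw [h2]
    rw [TensorProduct.smul_tmul])
  have h3 := surjective_of_faithfullyFlat_of_tmul_eq (B := ↥(φ : A' →ₐ[k] A).range) (A := A)
    (fun a => RingHom.congr_fun h1 a)
  intro a
  obtain ⟨⟨_, a', rfl⟩, hb⟩ := h3 a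
  exact ⟨a', hb⟩

end HopfEpi

end Groth.Agent.Helper7.Takeuchi
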