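import Mathlib

set_option autoImplicit false

namespace Groth.Agent.Helper7.TeichP

open WittVector

variable (p : ℕ) [hp : Fact p.Prime] (R : Type*) [CommRing R]

local notation "𝕎" => WittVector p

/-- `V a * V b = p * V (a * b)`. -/
theorem verschiebung_mul_verschiebung (a b : 𝕎 R) :
    verschiebung a * verschiebung b = (p : 𝕎 R) * verschiebung (a * b) := by
  rw [← verschiebung_mul_frobenius, frobenius_verschiebung, ← mul_assoc, ← nsmul_eq_mul',
    map_nsmul, nsmul_eq_mul]

/-- every Witt vector is its Teichmüller head plus a Verschiebung -/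
theorem exists_verschiebung (x : 𝕎 R) :
    ∃ z : 𝕎 R, x = teichmuller p (x.coeff 0) + verschiebung z := by
  have h0 : (x - teichmuller p (x.coeff 0)).coeff 0 = 0 := by
    have := map_sub (constantCoeff (p := p) (R := R)) x (teichmuller p (x.coeff 0))
    simp only [constantCoeff_apply, teichmuller_coeff_zero, sub_self] at this
    exact this
  refine ⟨(x - teichmuller p (x.coeff 0)).shift 1, ?_⟩
  have h1 := verschiebung_shift (x - teichmuller p (x.coeff 0)) 0
    (by intro i hi; obtain rfl : i = 0 := by omega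
        exact h0)
  have h2 : (x - teichmuller p (x.coeff 0)).shift 0 = x - teichmuller p (x.coeff 0) := by
    ext i; simp [shift_coeff]
  rw [h1, h2]; ring

theorem main (r : R) (hr : r = (p : R)) :
    (p : 𝕎 R) ∣ teichmuller p (r ^ p) := by
  have hcoeff : ((p : 𝕎 R)).coeff 0 = (p : R) := by
    have h := map_natCast (constantCoeff (p := p) (R := R)) p
    rw [constantCoeff_apply] at h
    exact h
  obtain ⟨z, hz⟩ := exists_verschiebung p R (p : 𝕎 R)
  rw [hcoeff, ← hr] at hz
  have ht : teichmuller p r = (p : 𝕎 R) - verschiebung z := by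
    rw [eq_sub_iff_add_eq]; exact hz.symm
  rw [map_pow, ht]
  -- work modulo p
  rw [← Ideal.mem_span_singleton, ← Ideal.Quotient.eq_zero_iff_mem, map_pow, map_sub]
  have hp0 : Ideal.Quotient.mk (Ideal.span {(p : 𝕎 R)}) (p : 𝕎 R) = 0 := by
    rw [Ideal.Quotient.eq_zero_iff_mem]; exact Ideal.mem_span_singleton_self _
  have hV2 : Ideal.Quotient.mk (Ideal.span {(p : 𝕎 R)}) (verschiebung z) ^ 2 = 0 := by
    rw [← map_pow, Ideal.Quotient.eq_zero_iff_mem, Ideal.mem_span_singleton, pow_two,
      verschiebung_mul_verschiebung]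
    exact dvd_mul_right _ _
  rw [hp0, zero_sub, neg_pow]
  have h2p : 2 ≤ p := hp.out.two_le
  have hVp : ∀ n : ℕ, 2 ≤ n →
      Ideal.Quotient.mk (Ideal.span {(p : 𝕎 R)}) (verschiebung z) ^ n = 0 := by
    intro n hn
    obtain ⟨k, rfl⟩ : ∃ k, n = 2 + k := ⟨n - 2, by omega⟩
    rw [pow_add _ 2 k, hV2, zero_mul]
  rw [hVp p h2p, mul_zero]

end Groth.Agent.Helper7.TeichP
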