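import Mathlib

set_option autoImplicit false

namespace Groth.Agent.Helper7.TfDual

open Module

universe u

/-- A finitely generated module with trivial torsion over a domain has enough functionals. -/
theorem exists_dual_ne_zero (A : Type u) [CommRing A] [IsDomain A]
    (Q : Type u) [AddCommGroup Q] [Module A Q] [Module.Finite A Q]
    (htor : Submodule.torsion A Q = ⊥) (q : Q) (hq : q ≠ 0) :
    ∃ ψ : Q →ₗ[A] A, ψ q ≠ 0 := by
  classical
  let K := FractionRing A
  let V := LocalizedModule (nonZeroDivisors A) Q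
  let j : Q →ₗ[A] V := LocalizedModule.mkLinearMap (nonZeroDivisors A) Q
  have hjq : j q ≠ 0 := by
    intro h
    rw [IsLocalizedModule.eq_zero_iff (nonZeroDivisors A)] at h
    obtain ⟨s, hs⟩ := h
    have : q ∈ Submodule.torsion A Q := ⟨s, hs⟩
    rw [htor] at this
    exact hq ((Submodule.mem_bot A).mp this)
  obtain ⟨lam, hlam⟩ := Module.Projective.exists_dual_ne_zero K hjq
  let μ : Q →ₗ[A] K := (lam.restrictScalars A).comp j
  have hμq : μ q ≠ 0 := hlam
  obtain ⟨S, hS⟩ := (Module.Finite.fg_top : (⊤ : Submodule A Q).FG)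
  obtain ⟨d, hd⟩ := IsLocalization.exist_integer_multiples (nonZeroDivisors A) S (fun g => μ g)
  let ι : A →ₗ[A] K := Algebra.linearMap A K
  have hιinj : Function.Injective ι := IsFractionRing.injective A K
  have hrange : LinearMap.range ((d : A) • μ) ≤ LinearMap.range ι := by
    rw [LinearMap.range_eq_map, ← hS, Submodule.map_span, Submodule.span_le]
    rintro _ ⟨g, hg, rfl⟩
    obtain ⟨a, ha⟩ := hd g hg
    exact ⟨a, by simpa [ι] using ha⟩
  let e : A ≃ₗ[A] LinearMap.range ι := LinearEquiv.ofInjective ι hιinj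
  let ψ : Q →ₗ[A] A := e.symm.toLinearMap.comp
    (LinearMap.codRestrict (LinearMap.range ι) ((d : A) • μ) (fun x => hrange ⟨x, rfl⟩))
  refine ⟨ψ, ?_⟩
  intro h
  have h1 : e (ψ q) = 0 := by rw [h, map_zero]
  have h2 : ((e (ψ q) : LinearMap.range ι) : K) = (d : A) • μ q := by
    simp [ψ]
  rw [h1] at h2
  simp only [ZeroMemClass.coe_zero] at h2
  have h3 := h2.symm
  rw [Algebra.smul_def, mul_eq_zero] at h3
  rcases h3 with h3 | h3
  · have : (d : A) = 0 := (IsFractionRing.injective A K) (by rw [h3, map_zero])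
    exact nonZeroDivisors.coe_ne_zero d this
  · exact hμq h3

theorem main (A : Type u) [CommRing A] [IsDomain A]
    (M : Type u) [AddCommGroup M] [Module A M] [Module.Finite A M]
    (N : Submodule A M) :
    (LinearMap.range N.subtype.dualMap.dualMap).comap (Module.Dual.eval A M) ≤
      (Submodule.torsion A (M ⧸ N)).comap N.mkQ := by
  intro m hm
  rw [Submodule.mem_comap] at hm ⊢
  obtain ⟨ξ, hξ⟩ := hm
  by_contra hcon
  let T := Submodule.torsion A (M ⧸ N)
  let Q' := (M ⧸ N) ⧸ T
  have hq : T.mkQ (N.mkQ m) ≠ 0 := by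
    intro h
    apply hcon
    rwa [Submodule.mkQ_apply, Submodule.Quotient.mk_eq_zero] at h
  obtain ⟨ψ, hψ⟩ := exists_dual_ne_zero A Q' Submodule.QuotientTorsion.torsion_eq_bot _ hq
  let φ : Module.Dual A M := ψ.comp (T.mkQ.comp N.mkQ)
  have h1 : N.subtype.dualMap φ = 0 := by
    ext n
    simp only [LinearMap.dualMap_apply, Submodule.subtype_apply, LinearMap.zero_apply]
    change ψ (T.mkQ (N.mkQ (n : M))) = 0
    have : N.mkQ (n : M) = 0 := by
      rw [Submodule.mkQ_apply, Submodule.Quotient.mk_eq_zero]; exact n.2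
    rw [this, map_zero, map_zero]
  have h2 := congr($hξ φ)
  rw [LinearMap.dualMap_apply, h1, map_zero, Module.Dual.eval_apply] at h2
  exact hψ h2.symm

end Groth.Agent.Helper7.TfDual
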