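import Mathlib

/-! Functions on a shift-closed index set, equivariant for two commuting endomorphisms: a bound on
the dimension when the index set is shrunk one point at a time (helper7). -/

set_option autoImplicit false
set_option linter.style.haveILetI false

namespace Groth.Agent.Helper7.TgXp

noncomputable section

open scoped Classical

variable {k : Type*} [Field k] {N : Type*} [AddCommGroup N] [Module k N]
variable {Γ : Type*} (s1 s2 : Γ → Γ) (Y Z : N →ₗ[k] N)

/-- the space of equivariant functions supported on `E` -/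
def G (E : Set Γ) : Submodule k (Γ → N) where
  carrier := {g | (∀ β, β ∉ E → g β = 0) ∧
    ∀ β, β ∈ E → g (s1 β) = Y (g β) ∧ g (s2 β) = Z (g β)}
  zero_mem' := ⟨fun _ _ => rfl, fun _ _ => by simp⟩
  add_mem' := by
    rintro g g' ⟨h1, h2⟩ ⟨h1', h2'⟩
    refine ⟨fun β hβ => by simp [h1 β hβ, h1' β hβ], fun β hβ => ?_⟩
    simp [(h2 β hβ).1, (h2 β hβ).2, (h2' β hβ).1, (h2' β hβ).2]
  smul_mem' := by
    rintro c g ⟨h1, h2⟩
    refine ⟨fun β hβ => by simp [h1 β hβ], fun β hβ => ?_⟩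
    simp [(h2 β hβ).1, (h2 β hβ).2]

/-- the Koszul map -/
def kap : N × N →ₗ[k] N := Z.comp (LinearMap.fst k N N) - Y.comp (LinearMap.snd k N N)

theorem kap_apply (x : N × N) : kap Y Z x = Z x.1 - Y x.2 := rfl

variable {s1 s2 Y Z}

/-- the comparison map for adding one point `u` -/
def Phi (E : Set Γ) (u : Γ) : (G s1 s2 Y Z E × N) →ₗ[k] N × N :=
  LinearMap.prod
    ((LinearMap.proj (s1 u)).comp ((G s1 s2 Y Z E).subtype.comp (LinearMap.fst k _ N)) -
      Y.comp (LinearMap.snd k _ N))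
    ((LinearMap.proj (s2 u)).comp ((G s1 s2 Y Z E).subtype.comp (LinearMap.fst k _ N)) -
      Z.comp (LinearMap.snd k _ N))

theorem Phi_apply (E : Set Γ) (u : Γ) (x : G s1 s2 Y Z E × N) :
    Phi E u x = (x.1.1 (s1 u) - Y x.2, x.1.1 (s2 u) - Z x.2) := rfl

theorem range_Phi_le (hs : ∀ β, s1 (s2 β) = s2 (s1 β)) (hYZ : ∀ n, Y (Z n) = Z (Y n))
    (E : Set Γ) (u : Γ) (h1 : s1 u ∈ E) (h2 : s2 u ∈ E) :
    LinearMap.range (Phi (s1 := s1) (s2 := s2) (Y := Y) (Z := Z) E u) ≤
      LinearMap.ker (kap Y Z) := by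
  rintro _ ⟨x, rfl⟩
  rw [LinearMap.mem_ker, kap_apply, Phi_apply]
  simp only [map_sub]
  have e1 := (x.1.2.2 (s1 u) h1).2
  have e2 := (x.1.2.2 (s2 u) h2).1
  rw [← e1, ← e2, hs u, hYZ]
  abel

/-- the glueing map from the kernel of `Phi` -/
def glue (E : Set Γ) (u : Γ) (hu : u ∉ E) (h1 : s1 u ∈ E) (h2 : s2 u ∈ E)
    (hE : ∀ β ∈ E, s1 β ∈ E ∧ s2 β ∈ E) :
    LinearMap.ker (Phi (s1 := s1) (s2 := s2) (Y := Y) (Z := Z) E u) →ₗ[k]
      G s1 s2 Y Z (insert u E) where
  toFun x := ⟨fun β => if β = u then x.1.2 else x.1.1.1 β, by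
    obtain ⟨⟨⟨g, hg1, hg2⟩, n⟩, hx⟩ := x
    rw [LinearMap.mem_ker, Phi_apply, Prod.mk_eq_zero] at hx
    simp only at hx
    refine ⟨fun β hβ => ?_, fun β hβ => ?_⟩
    · have hne : β ≠ u := fun h => hβ (h ▸ Set.mem_insert _ _)
      simp only [if_neg hne]
      exact hg1 β (fun h => hβ (Set.mem_insert_of_mem _ h))
    · have hs1 : s1 β ≠ u := by
        rcases hβ with rfl | hβ
        · exact fun h => hu (h ▸ h1)
        · exact fun h => hu (h ▸ (hE β hβ).1)
      have hs2 : s2 β ≠ u := by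
        rcases hβ with rfl | hβ
        · exact fun h => hu (h ▸ h2)
        · exact fun h => hu (h ▸ (hE β hβ).2)
      simp only [if_neg hs1, if_neg hs2]
      by_cases hβu : β = u
      · subst hβu
        simp only [if_true]
        exact ⟨sub_eq_zero.mp hx.1, sub_eq_zero.mp hx.2⟩
      · simp only [if_neg hβu]
        have hβE : β ∈ E := by
          rcases hβ with h | h
          · exact absurd h hβu
          · exact h
        exact hg2 β hβE⟩
  map_add' x x' := by
    apply Subtype.ext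
    funext β
    show (if β = u then (x + x').1.2 else (x + x').1.1.1 β) =
      (if β = u then x.1.2 else x.1.1.1 β) + (if β = u then x'.1.2 else x'.1.1.1 β)
    split_ifs <;> rfl
  map_smul' c x := by
    apply Subtype.ext
    funext β
    show (if β = u then (c • x).1.2 else (c • x).1.1.1 β) =
      c • (if β = u then x.1.2 else x.1.1.1 β)
    split_ifs <;> rfl

theorem glue_injective (E : Set Γ) (u : Γ) (hu : u ∉ E) (h1 : s1 u ∈ E) (h2 : s2 u ∈ E)
    (hE : ∀ β ∈ E, s1 β ∈ E ∧ s2 β ∈ E) :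
    Function.Injective (glue (Y := Y) (Z := Z) E u hu h1 h2 hE) := by
  intro x x' hx
  have hval : ∀ β, (if β = u then x.1.2 else x.1.1.1 β) =
      (if β = u then x'.1.2 else x'.1.1.1 β) := fun β =>
    congrFun (congrArg Subtype.val hx) β
  apply Subtype.ext
  apply Prod.ext
  · apply Subtype.ext
    funext β
    by_cases hβ : β = u
    · subst hβ
      rw [x.1.1.2.1 β hu, x'.1.1.2.1 β hu]
    · have := hval β
      rwa [if_neg hβ, if_neg hβ] at this
  · have := hval u
    rwa [if_pos rfl, if_pos rfl] at this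

/-- the one-point step -/
theorem step [Module.Finite k N] (hs : ∀ β, s1 (s2 β) = s2 (s1 β)) (hYZ : ∀ n, Y (Z n) = Z (Y n))
    (E : Set Γ) (u : Γ) (hu : u ∉ E) (h1 : s1 u ∈ E) (h2 : s2 u ∈ E)
    (hE : ∀ β ∈ E, s1 β ∈ E ∧ s2 β ∈ E) [Module.Finite k (G s1 s2 Y Z (insert u E))] :
    Module.Finite k (G s1 s2 Y Z E) ∧
      Module.finrank k (G s1 s2 Y Z E) + Module.finrank k (LinearMap.range (kap Y Z)) ≤
        Module.finrank k (G s1 s2 Y Z (insert u E)) + Module.finrank k N := by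
  set Φ := Phi (s1 := s1) (s2 := s2) (Y := Y) (Z := Z) E u with hΦ
  haveI hker : Module.Finite k (LinearMap.ker Φ) :=
    Module.Finite.of_injective (glue E u hu h1 h2 hE) (glue_injective E u hu h1 h2 hE)
  haveI hquot : Module.Finite k ((G s1 s2 Y Z E × N) ⧸ LinearMap.ker Φ) :=
    Module.Finite.equiv Φ.quotKerEquivRange.symm
  haveI hprod : Module.Finite k (G s1 s2 Y Z E × N) :=
    Module.Finite.of_submodule_quotient (LinearMap.ker Φ)
  haveI hG : Module.Finite k (G s1 s2 Y Z E) :=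
    Module.Finite.of_injective (LinearMap.inl k _ N) LinearMap.inl_injective
  refine ⟨hG, ?_⟩
  have e1 := LinearMap.finrank_range_add_finrank_ker Φ
  rw [Module.finrank_prod] at e1
  have e2 : Module.finrank k (LinearMap.ker Φ) ≤ Module.finrank k (G s1 s2 Y Z (insert u E)) :=
    LinearMap.finrank_le_finrank_of_injective (glue_injective E u hu h1 h2 hE)
  have e3 : Module.finrank k (LinearMap.range Φ) ≤ Module.finrank k (LinearMap.ker (kap Y Z)) :=
    Submodule.finrank_mono (range_Phi_le hs hYZ E u h1 h2)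
  have e4 := LinearMap.finrank_range_add_finrank_ker (kap Y Z)
  rw [Module.finrank_prod] at e4
  omega

/-- the chain: shrinking a closed set `E₀` to a closed subset with finite complement -/
theorem chain [Module.Finite k N] (hs : ∀ β, s1 (s2 β) = s2 (s1 β))
    (hYZ : ∀ n, Y (Z n) = Z (Y n)) (ht : Γ → ℕ) (ht1 : ∀ β, ht β < ht (s1 β))
    (ht2 : ∀ β, ht β < ht (s2 β)) (E₀ : Set Γ) (hE₀ : ∀ β ∈ E₀, s1 β ∈ E₀ ∧ s2 β ∈ E₀)
    [Module.Finite k (G s1 s2 Y Z E₀)] :
    ∀ (n : ℕ) (E : Set Γ), E ⊆ E₀ → (∀ β ∈ E, s1 β ∈ E ∧ s2 β ∈ E) → (E₀ \ E).Finite →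
      (E₀ \ E).ncard = n →
      Module.Finite k (G s1 s2 Y Z E) ∧
        Module.finrank k (G s1 s2 Y Z E) + n * Module.finrank k (LinearMap.range (kap Y Z)) ≤
          Module.finrank k (G s1 s2 Y Z E₀) + n * Module.finrank k N := by
  intro n
  induction n with
  | zero =>
    intro E hsub hE hfin hcard
    have : E = E₀ := by
      apply Set.Subset.antisymm hsub
      have h0 : E₀ \ E = ∅ := (Set.ncard_eq_zero hfin).1 hcard
      exact Set.sdiff_eq_empty.mp h0
    subst this
    exact ⟨inferInstance, by simp⟩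
  | succ n ih =>
    intro E hsub hE hfin hcard
    have hne : (E₀ \ E).Nonempty := by
      rw [← Set.ncard_pos hfin]
      omega
    obtain ⟨u, hu, hmax⟩ := Set.exists_max_image (E₀ \ E) ht hfin hne
    have h1 : s1 u ∈ E := by
      by_contra hcon
      have := hmax (s1 u) ⟨(hE₀ u hu.1).1, hcon⟩
      have := ht1 u
      omega
    have h2 : s2 u ∈ E := by
      by_contra hcon
      have := hmax (s2 u) ⟨(hE₀ u hu.1).2, hcon⟩
      have := ht2 u
      omega
    have hE' : ∀ β ∈ insert u E, s1 β ∈ insert u E ∧ s2 β ∈ insert u E := by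
      rintro β (rfl | hβ)
      · exact ⟨Set.mem_insert_of_mem _ h1, Set.mem_insert_of_mem _ h2⟩
      · exact ⟨Set.mem_insert_of_mem _ (hE β hβ).1, Set.mem_insert_of_mem _ (hE β hβ).2⟩
    have hsub' : insert u E ⊆ E₀ := Set.insert_subset hu.1 hsub
    have hdiff : E₀ \ insert u E = (E₀ \ E) \ {u} := by
      ext β
      simp only [Set.mem_sdiff, Set.mem_insert_iff, Set.mem_singleton_iff]
      tauto
    have hfin' : (E₀ \ insert u E).Finite := by
      rw [hdiff]; exact hfin.sdiff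
    have hcard' : (E₀ \ insert u E).ncard = n := by
      rw [hdiff, Set.ncard_sdiff_singleton_of_mem hu, hcard]
      rfl
    obtain ⟨hfinG, hle⟩ := ih (insert u E) hsub' hE' hfin' hcard'
    haveI := hfinG
    obtain ⟨hG, hstep⟩ := step hs hYZ E u hu.2 h1 h2 hE
    refine ⟨hG, ?_⟩
    rw [Nat.succ_mul, Nat.succ_mul]
    omega

end

end Groth.Agent.Helper7.TgXp
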