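import Mathlib
import Groth.Prelude.Def_W4c1hilbpnTgt
import Groth.Agent.Helper7.TgXpA
import Groth.Agent.Helper7.StairD
import Groth.Agent.Helper6.MonoIdeal

/-! `dim T(I) ≤ (2p + 1) · colength` for a monomial ideal of `k[x,y,z]` containing `x^p`
(helper7). -/

set_option autoImplicit false
set_option linter.style.haveILetI false
set_option linter.unusedSectionVars false

namespace Groth.Agent.Helper7.TgXp

open MvPolynomial W4c1hilbpn Groth.Agent.Helper7.HTa Groth.Agent.Helper7.HTb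

noncomputable section

open scoped Classical

variable {k : Type*} [Field k] {I : Ideal (MvPolynomial (Fin 3) k)}

section ext

variable {σ : Type*} {J : Ideal (MvPolynomial σ k)}

/-- a homomorphism on a monomial ideal vanishing on all monomials is zero -/
theorem tgt_eq_zero_of_mon (hJ : IsMonomial J) (φ : Tgt J)
    (hmon : ∀ (β : σ →₀ ℕ) (hβ : β ∈ exps J), φ (mon J hβ) = 0) : φ = 0 := by
  apply LinearMap.ext
  intro p
  have hp := mem_span_of_mem hJ p.2
  have key : ∀ q (_ : q ∈ Submodule.span k {q : MvPolynomial σ k | ∃ β ∈ exps J, q = monomial β 1}),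
      ∃ hq : q ∈ J, φ ⟨q, hq⟩ = 0 := by
    intro q hq
    induction hq using Submodule.span_induction with
    | mem q hq =>
      obtain ⟨β, hβ, rfl⟩ := hq
      exact ⟨hβ, hmon β hβ⟩
    | zero => exact ⟨J.zero_mem, map_zero φ⟩
    | add q1 q2 _ _ h1 h2 =>
      obtain ⟨hq1, e1⟩ := h1
      obtain ⟨hq2, e2⟩ := h2
      refine ⟨J.add_mem hq1 hq2, ?_⟩
      have : (⟨q1 + q2, J.add_mem hq1 hq2⟩ : J) = ⟨q1, hq1⟩ + ⟨q2, hq2⟩ := rfl
      rw [this, map_add, e1, e2, add_zero]
    | smul c q _ h1 =>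
      obtain ⟨hq1, e1⟩ := h1
      have hcq : c • q ∈ J := by
        rw [smul_eq_C_mul]; exact J.mul_mem_left _ hq1
      refine ⟨hcq, ?_⟩
      have : (⟨c • q, hcq⟩ : J) = (C c : MvPolynomial σ k) • ⟨q, hq1⟩ := by
        apply Subtype.ext
        change c • q = C c * q
        rw [smul_eq_C_mul]
      rw [this, map_smul, e1, smul_zero]
  obtain ⟨hq, e⟩ := key p.1 hp
  exact e

end ext

/-- the shifts -/
def s1 (β : Fin 3 →₀ ℕ) : Fin 3 →₀ ℕ := β + Finsupp.single 1 1
def s2 (β : Fin 3 →₀ ℕ) : Fin 3 →₀ ℕ := β + Finsupp.single 2 1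

theorem s1_s2 (β : Fin 3 →₀ ℕ) : s1 (s2 β) = s2 (s1 β) := by
  unfold s1 s2; abel

variable (I)

/-- multiplication by `y` and `z` on the quotient -/
def Yq : (MvPolynomial (Fin 3) k ⧸ I) →ₗ[k] (MvPolynomial (Fin 3) k ⧸ I) :=
  LinearMap.mulLeft k (Ideal.Quotient.mk I (X 1))
def Zq : (MvPolynomial (Fin 3) k ⧸ I) →ₗ[k] (MvPolynomial (Fin 3) k ⧸ I) :=
  LinearMap.mulLeft k (Ideal.Quotient.mk I (X 2))

theorem Yq_apply (n : MvPolynomial (Fin 3) k ⧸ I) : Yq I n = Ideal.Quotient.mk I (X 1) * n := rfl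
theorem Zq_apply (n : MvPolynomial (Fin 3) k ⧸ I) : Zq I n = Ideal.Quotient.mk I (X 2) * n := rfl

theorem Yq_Zq (n : MvPolynomial (Fin 3) k ⧸ I) : Yq I (Zq I n) = Zq I (Yq I n) := by
  simp only [Yq_apply, Zq_apply]
  ring

theorem smul_eq_mk_mul (f : MvPolynomial (Fin 3) k) (n : MvPolynomial (Fin 3) k ⧸ I) :
    f • n = Ideal.Quotient.mk I f * n := by
  obtain ⟨g, rfl⟩ := Ideal.Quotient.mk_surjective n
  rfl

variable (p : ℕ)

/-- exponents of `x`-degree at most `p` -/
def E0 : Set (Fin 3 →₀ ℕ) := {β | β 0 ≤ p}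

/-- exponents of monomials of `I` of `x`-degree at most `p` -/
def EI : Set (Fin 3 →₀ ℕ) := {β | β ∈ exps I ∧ β 0 ≤ p}

theorem E0_closed : ∀ β ∈ E0 p, s1 β ∈ E0 p ∧ s2 β ∈ E0 p := by
  intro β hβ
  have hβ' : β 0 ≤ p := hβ
  constructor
  · show (s1 β) 0 ≤ p
    simpa [s1] using hβ'
  · show (s2 β) 0 ≤ p
    simpa [s2] using hβ'

theorem EI_closed : ∀ β ∈ EI I p, s1 β ∈ EI I p ∧ s2 β ∈ EI I p := by
  intro β hβ
  exact ⟨⟨exps_add hβ.1 _, (E0_closed p β hβ.2).1⟩, ⟨exps_add hβ.1 _, (E0_closed p β hβ.2).2⟩⟩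

theorem EI_sub : EI I p ⊆ E0 p := fun _ h => h.2

variable {I}

/-- evaluation of a tangent vector on the monomials of `x`-degree at most `p` -/
def ev : Tgt I →ₗ[k] G s1 s2 (Yq I) (Zq I) (EI I p) where
  toFun φ := ⟨fun β => if h : β ∈ exps I ∧ β 0 ≤ p then φ (mon I h.1) else 0, by
    refine ⟨fun β hβ => dif_neg hβ, fun β hβ => ?_⟩
    have h1 := (EI_closed I p β hβ).1
    have h2 := (EI_closed I p β hβ).2
    have hβ' : β ∈ exps I ∧ β 0 ≤ p := hβ
    have h1' : s1 β ∈ exps I ∧ s1 β 0 ≤ p := h1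
    have h2' : s2 β ∈ exps I ∧ s2 β 0 ≤ p := h2
    simp only [dif_pos hβ', dif_pos h1', dif_pos h2']
    constructor
    · have := mon_add_single I hβ'.1 1
      have e : mon I h1'.1 = (X 1 : MvPolynomial (Fin 3) k) • mon I hβ'.1 := this
      rw [e, map_smul, Yq_apply, smul_eq_mk_mul]
    · have := mon_add_single I hβ'.1 2
      have e : mon I h2'.1 = (X 2 : MvPolynomial (Fin 3) k) • mon I hβ'.1 := this
      rw [e, map_smul, Zq_apply, smul_eq_mk_mul]⟩
  map_add' φ ψ := by
    apply Subtype.ext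
    funext β
    show (if h : β ∈ exps I ∧ β 0 ≤ p then (φ + ψ) (mon I h.1) else 0) =
      (if h : β ∈ exps I ∧ β 0 ≤ p then φ (mon I h.1) else 0) +
        (if h : β ∈ exps I ∧ β 0 ≤ p then ψ (mon I h.1) else 0)
    split_ifs <;> simp
  map_smul' c φ := by
    apply Subtype.ext
    funext β
    show (if h : β ∈ exps I ∧ β 0 ≤ p then (c • φ) (mon I h.1) else 0) =
      c • (if h : β ∈ exps I ∧ β 0 ≤ p then φ (mon I h.1) else 0)
    split_ifs <;> simp

theorem ev_apply (φ : Tgt I) (β : Fin 3 →₀ ℕ) (h : β ∈ exps I ∧ β 0 ≤ p) :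
    (ev p φ).1 β = φ (mon I h.1) := dif_pos h

theorem ev_injective (hI : IsMonomial I) (hx : (X 0 : MvPolynomial (Fin 3) k) ^ p ∈ I) :
    Function.Injective (ev (I := I) p) := by
  intro φ ψ h
  rw [← sub_eq_zero]
  apply tgt_eq_zero_of_mon hI
  have hle : ∀ (β : Fin 3 →₀ ℕ) (hβ : β ∈ exps I), β 0 ≤ p → (φ - ψ) (mon I hβ) = 0 := by
    intro β hβ hle
    have := congrFun (congrArg Subtype.val h) β
    rw [ev_apply p φ β ⟨hβ, hle⟩, ev_apply p ψ β ⟨hβ, hle⟩] at this
    rw [LinearMap.sub_apply, this, sub_self]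
  -- reduce the `x`-degree
  have key : ∀ (t : ℕ) (β : Fin 3 →₀ ℕ) (hβ : β ∈ exps I), β 0 ≤ p + t →
      (φ - ψ) (mon I hβ) = 0 := by
    intro t
    induction t with
    | zero => intro β hβ h0; exact hle β hβ h0
    | succ t ih =>
      intro β hβ h0
      by_cases hp : β 0 ≤ p + t
      · exact ih β hβ hp
      · -- `β = β' + e₀` with `β' ∈ exps I`
        have hpos : 0 < β 0 := by omega
        set β' : Fin 3 →₀ ℕ := β - Finsupp.single 0 1 with hβ'
        have e : β = β' + Finsupp.single 0 1 := by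
          ext l
          by_cases hl : l = 0
          · subst hl
            simp [hβ']
            omega
          · simp [hβ', Finsupp.single_apply, Ne.symm hl]
        have hβ'0 : β' 0 = β 0 - 1 := by simp [hβ']
        have hβ'I : β' ∈ exps I := by
          -- `x^p` divides `x^β'`
          have hge : p ≤ β' 0 := by rw [hβ'0]; omega
          have e' : β' - Finsupp.single 0 p + Finsupp.single 0 p = β' := by
            ext l
            by_cases hl : l = 0
            · subst hl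
              simp
              omega
            · simp [Finsupp.single_apply, Ne.symm hl]
          have : monomial β' (1 : k) =
              monomial (β' - Finsupp.single 0 p) 1 * (X 0 : MvPolynomial (Fin 3) k) ^ p := by
            rw [X_pow_eq_monomial, monomial_mul, one_mul, e']
          show monomial β' (1 : k) ∈ I
          rw [this]
          exact I.mul_mem_left _ hx
        have h1 := ih β' hβ'I (by omega)
        have e2 : mon I hβ = (X 0 : MvPolynomial (Fin 3) k) • mon I hβ'I := by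
          rw [← mon_add_single I hβ'I 0]
          exact mon_congr I hβ e
        rw [e2, map_smul, h1, smul_zero]
  intro β hβ
  exact key (β 0) β hβ (by omega)

end

end Groth.Agent.Helper7.TgXp
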