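import Mathlib
import Groth.Prelude.Def_W4c1hilbpnTgt
import Groth.Agent.Helper7.TgXpB
import Groth.Agent.S13442

/-! `dim T(I) ≤ (2p + 1) · colength` for a monomial ideal of `k[x,y,z]` containing `x^p`, and the
comparison with `T(m^r)` (helper7). -/

set_option autoImplicit false
set_option linter.style.haveILetI false
set_option linter.unusedSectionVars false

namespace Groth.Agent.Helper7.TgXp

open MvPolynomial W4c1hilbpn Groth.Agent.Helper7.HTa Groth.Agent.Helper7.HTb

noncomputable section

open scoped Classical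

variable {k : Type*} [Field k] {I : Ideal (MvPolynomial (Fin 3) k)}
variable (p : ℕ)

/-- evaluation at the pure powers of `x` -/
def ev0 : G s1 s2 (Yq I) (Zq I) (E0 p) →ₗ[k] (Fin (p + 1) → MvPolynomial (Fin 3) k ⧸ I) where
  toFun g := fun a => g.1 (Finsupp.single 0 (a : ℕ))
  map_add' _ _ := rfl
  map_smul' _ _ := rfl

theorem decomp (β : Fin 3 →₀ ℕ) :
    β = Finsupp.single 0 (β 0) + Finsupp.single 1 (β 1) + Finsupp.single 2 (β 2) := by
  ext l
  fin_cases l <;> simp

theorem ev0_injective : Function.Injective (ev0 (I := I) p) := by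
  intro g g' h
  apply Subtype.ext
  funext β
  by_cases hβ : β ∈ E0 p
  · have hβ' : β 0 ≤ p := hβ
    -- values along the `y`, `z` directions
    have key : ∀ (b c : ℕ) (γ : Fin 3 →₀ ℕ), γ ∈ E0 p → g.1 γ = g'.1 γ →
        g.1 (γ + Finsupp.single 1 b + Finsupp.single 2 c) =
          g'.1 (γ + Finsupp.single 1 b + Finsupp.single 2 c) := by
      intro b c γ hγ hγe
      have h1 : ∀ b : ℕ, γ + Finsupp.single 1 b ∈ E0 p ∧
          g.1 (γ + Finsupp.single 1 b) = g'.1 (γ + Finsupp.single 1 b) := by
        intro b
        induction b with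
        | zero => simpa using ⟨hγ, hγe⟩
        | succ b ih =>
          have e : γ + Finsupp.single 1 (b + 1) = s1 (γ + Finsupp.single 1 b) := by
            rw [s1, Finsupp.single_add]; abel
          rw [e]
          refine ⟨(E0_closed p _ ih.1).1, ?_⟩
          rw [(g.2.2 _ ih.1).1, (g'.2.2 _ ih.1).1, ih.2]
      have h2 : ∀ c : ℕ, γ + Finsupp.single 1 b + Finsupp.single 2 c ∈ E0 p ∧
          g.1 (γ + Finsupp.single 1 b + Finsupp.single 2 c) =
            g'.1 (γ + Finsupp.single 1 b + Finsupp.single 2 c) := by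
        intro c
        induction c with
        | zero => simpa using h1 b
        | succ c ih =>
          have e : γ + Finsupp.single 1 b + Finsupp.single 2 (c + 1) =
              s2 (γ + Finsupp.single 1 b + Finsupp.single 2 c) := by
            rw [s2, Finsupp.single_add]; abel
          rw [e]
          refine ⟨(E0_closed p _ ih.1).2, ?_⟩
          rw [(g.2.2 _ ih.1).2, (g'.2.2 _ ih.1).2, ih.2]
      exact (h2 c).2
    rw [decomp β]
    apply key
    · show (Finsupp.single (0 : Fin 3) (β 0)) 0 ≤ p
      simpa using hβ'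
    · exact congrFun h ⟨β 0, by omega⟩
  · rw [g.2.1 β hβ, g'.2.1 β hβ]

variable (I) in
theorem finite_G0 [Module.Finite k (MvPolynomial (Fin 3) k ⧸ I)] :
    Module.Finite k (G s1 s2 (Yq I) (Zq I) (E0 p)) :=
  Module.Finite.of_injective (ev0 p) (ev0_injective p)

variable (I) in
theorem finrank_G0_le [Module.Finite k (MvPolynomial (Fin 3) k ⧸ I)] :
    Module.finrank k (G s1 s2 (Yq I) (Zq I) (E0 p)) ≤
      (p + 1) * Module.finrank k (MvPolynomial (Fin 3) k ⧸ I) := by
  have := LinearMap.finrank_le_finrank_of_injective (ev0_injective (I := I) p)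
  rwa [Module.finrank_pi_fintype, Finset.sum_const, Finset.card_univ, Fintype.card_fin,
    smul_eq_mul] at this

/-- a monomial outside `I` has `x`-degree less than `p` -/
theorem lt_of_notMem (hx : (X 0 : MvPolynomial (Fin 3) k) ^ p ∈ I) {β : Fin 3 →₀ ℕ}
    (hβ : β ∉ exps I) : β 0 < p := by
  by_contra hge
  push Not at hge
  apply hβ
  have e' : β - Finsupp.single 0 p + Finsupp.single 0 p = β := by
    ext l
    by_cases hl : l = 0
    · subst hl
      simp
      omega
    · simp [Finsupp.single_apply, Ne.symm hl]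
  have : monomial β (1 : k) =
      monomial (β - Finsupp.single 0 p) 1 * (X 0 : MvPolynomial (Fin 3) k) ^ p := by
    rw [X_pow_eq_monomial, monomial_mul, one_mul, e']
  show monomial β (1 : k) ∈ I
  rw [this]
  exact I.mul_mem_left _ hx

variable (hI : IsMonomial I) [Module.Finite k (MvPolynomial (Fin 3) k ⧸ I)]

include hI in
theorem diff_eq (hx : (X 0 : MvPolynomial (Fin 3) k) ^ p ∈ I) :
    E0 p \ EI I p = {β : Fin 3 →₀ ℕ | β ∉ exps I} := by
  ext β
  simp only [Set.mem_sdiff, Set.mem_ofPred_eq, E0, EI]
  constructor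
  · rintro ⟨h1, h2⟩ h3
    exact h2 ⟨h3, h1⟩
  · intro h
    exact ⟨(lt_of_notMem p hx h).le, fun h' => h h'.1⟩

include hI in
/-- the colength is the number of monomials outside -/
theorem finrank_quot_eq_ncard :
    Module.finrank k (MvPolynomial (Fin 3) k ⧸ I) = {β : Fin 3 →₀ ℕ | β ∉ exps I}.ncard := by
  have hfin := Groth.Agent.Helper6.MonoIdeal.finite_compl_exps I hI
  rw [Set.ncard_eq_toFinset_card _ hfin]
  apply Groth.Agent.Helper7.Stair.finrank_quot_of_coeff
  intro f
  constructor
  · intro hf β hβ
    rw [Set.Finite.mem_toFinset, Set.mem_ofPred_eq] at hβ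
    by_contra hne
    exact hβ (hI f hf β (mem_support_iff.mpr hne))
  · intro hf
    apply Groth.Agent.S13453.mem_of_support
    intro β hβ
    by_contra hnot
    have : β ∈ hfin.toFinset := by
      rw [Set.Finite.mem_toFinset, Set.mem_ofPred_eq]
      exact hnot
    exact (mem_support_iff.mp hβ) (hf β this)

include hI in
/-- the quotient by `y, z` is spanned by the powers of `x` below `p` -/
theorem finrank_le_range_add (hx : (X 0 : MvPolynomial (Fin 3) k) ^ p ∈ I) :
    Module.finrank k (MvPolynomial (Fin 3) k ⧸ I) ≤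
      Module.finrank k (LinearMap.range (kap (Yq I) (Zq I))) + p := by
  set W : Submodule k (MvPolynomial (Fin 3) k ⧸ I) :=
    LinearMap.range (kap (Yq I) (Zq I)) ⊔
      Submodule.span k (Set.range fun a : Fin p => Ideal.Quotient.mk I ((X 0) ^ (a : ℕ))) with hW
  have hY : ∀ n, Yq I n ∈ LinearMap.range (kap (Yq I) (Zq I)) := by
    intro n
    refine ⟨(0, -n), ?_⟩
    rw [kap_apply]
    simp
  have hZ : ∀ n, Zq I n ∈ LinearMap.range (kap (Yq I) (Zq I)) := by
    intro n
    refine ⟨(n, 0), ?_⟩
    rw [kap_apply]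
    simp
  have hmon : ∀ β : Fin 3 →₀ ℕ, Ideal.Quotient.mk I (monomial β (1 : k)) ∈ W := by
    intro β
    by_cases h1 : 0 < β 1
    · apply Submodule.mem_sup_left
      have e' : Finsupp.single 1 1 + (β - Finsupp.single 1 1) = β := by
        ext l
        by_cases hl : l = 1
        · subst hl
          simp
          omega
        · simp [Finsupp.single_apply, Ne.symm hl]
      have e : monomial β (1 : k) = X 1 * monomial (β - Finsupp.single 1 1) 1 := by
        rw [X, monomial_mul, one_mul, e']
      rw [e, map_mul]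
      exact hY _
    by_cases h2 : 0 < β 2
    · apply Submodule.mem_sup_left
      have e' : Finsupp.single 2 1 + (β - Finsupp.single 2 1) = β := by
        ext l
        by_cases hl : l = 2
        · subst hl
          simp
          omega
        · simp [Finsupp.single_apply, Ne.symm hl]
      have e : monomial β (1 : k) = X 2 * monomial (β - Finsupp.single 2 1) 1 := by
        rw [X, monomial_mul, one_mul, e']
      rw [e, map_mul]
      exact hZ _
    have hβ : β = Finsupp.single 0 (β 0) := by
      conv_lhs => rw [decomp β]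
      have e1 : β 1 = 0 := by omega
      have e2 : β 2 = 0 := by omega
      rw [e1, e2]
      simp
    by_cases h0 : β 0 < p
    · apply Submodule.mem_sup_right
      apply Submodule.subset_span
      refine ⟨⟨β 0, h0⟩, ?_⟩
      show Ideal.Quotient.mk I ((X 0) ^ (β 0)) = _
      rw [X_pow_eq_monomial, ← hβ]
    · have : β ∈ exps I := by
        by_contra hnot
        exact h0 (lt_of_notMem p hx hnot)
      rw [mk_monomial_eq_zero this]
      exact W.zero_mem
  have htop : W = ⊤ := by
    rw [eq_top_iff]
    rintro n -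
    obtain ⟨f, rfl⟩ := Ideal.Quotient.mk_surjective n
    rw [← support_sum_monomial_coeff f, map_sum]
    refine Submodule.sum_mem _ fun β _ => ?_
    have e : monomial β (coeff β f) = coeff β f • monomial β (1 : k) := by
      rw [smul_monomial, smul_eq_mul, mul_one]
    rw [e]
    have : Ideal.Quotient.mk I (coeff β f • monomial β (1 : k)) =
        coeff β f • Ideal.Quotient.mk I (monomial β (1 : k)) := rfl
    rw [this]
    exact W.smul_mem _ (hmon β)
  have h1 : Module.finrank k (MvPolynomial (Fin 3) k ⧸ I) = Module.finrank k W := by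
    rw [htop, finrank_top]
  have h2 := Submodule.finrank_add_le_finrank_add_finrank
    (LinearMap.range (kap (Yq I) (Zq I)))
    (Submodule.span k (Set.range fun a : Fin p => Ideal.Quotient.mk I ((X 0) ^ (a : ℕ))))
  have h3 : Module.finrank k (Submodule.span k
      (Set.range fun a : Fin p => Ideal.Quotient.mk I ((X 0) ^ (a : ℕ)))) ≤ p := by
    have := finrank_range_le_card (R := k)
      (fun a : Fin p => Ideal.Quotient.mk I ((X 0 : MvPolynomial (Fin 3) k) ^ (a : ℕ)))
    rwa [Fintype.card_fin] at this
  rw [h1]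
  rw [← hW] at h2
  omega

include hI in
/-- the bound `dim T(I) ≤ (2p + 1) · colength` -/
theorem finrank_tgt_le (hx : (X 0 : MvPolynomial (Fin 3) k) ^ p ∈ I) :
    Module.finrank k (Tgt I) ≤ (2 * p + 1) * Module.finrank k (MvPolynomial (Fin 3) k ⧸ I) := by
  set d := Module.finrank k (MvPolynomial (Fin 3) k ⧸ I) with hd
  haveI := finite_G0 I p
  have hfin : (E0 p \ EI I p).Finite := by
    rw [diff_eq p hI hx]
    exact Groth.Agent.Helper6.MonoIdeal.finite_compl_exps I hI
  have hcard : (E0 p \ EI I p).ncard = d := by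
    rw [diff_eq p hI hx, hd, finrank_quot_eq_ncard hI]
  obtain ⟨hG, hle⟩ := chain (s1 := s1) (s2 := s2) (Y := Yq I) (Z := Zq I) s1_s2 (Yq_Zq I)
    (fun β => β 1 + β 2) (fun β => by simp [s1]) (fun β => by simp [s2]) (E0 p) (E0_closed p)
    d (EI I p) (EI_sub I p) (EI_closed I p) hfin hcard
  haveI := hG
  have h1 := LinearMap.finrank_le_finrank_of_injective (ev_injective p hI hx)
  have h2 := finrank_G0_le I p
  have h3 := finrank_le_range_add p hI hx
  rw [← hd] at h2 h3 hle
  have h4 : d * d ≤ d * Module.finrank k (LinearMap.range (kap (Yq I) (Zq I))) + d * p := by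
    rw [← mul_add]
    exact Nat.mul_le_mul_left d h3
  have e : (2 * p + 1) * d = (p + 1) * d + d * p := by ring
  rw [e]
  omega

end

end Groth.Agent.Helper7.TgXp
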