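import Mathlib
import Groth.Prelude.Def_W4c1hilbpnTgt
import Groth.Agent.Helper7.TgXpC

/-! Comparison of `(2p + 1) · d` with `dim T(m^r)` (helper7). -/

set_option autoImplicit false

namespace Groth.Agent.Helper7.TgXp

open MvPolynomial W4c1hilbpn

theorem two_mul_choose (r : ℕ) :
    2 * ((r + 2).choose 2 * (r + 1).choose 2) = 3 * (r + 1) * (r + 2).choose 3 := by
  have h1 : (r + 2) * (r + 1).choose 2 = (r + 2).choose 3 * 3 := Nat.add_one_mul_choose_eq (r + 1) 2
  have h2 : (r + 2) * (r + 1).choose 1 = (r + 2).choose 2 * 2 := Nat.add_one_mul_choose_eq (r + 1) 1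
  rw [Nat.choose_one_right] at h2
  calc 2 * ((r + 2).choose 2 * (r + 1).choose 2)
      = ((r + 2).choose 2 * 2) * (r + 1).choose 2 := by ring
    _ = ((r + 2) * (r + 1)) * (r + 1).choose 2 := by rw [← h2]
    _ = (r + 1) * ((r + 2) * (r + 1).choose 2) := by ring
    _ = (r + 1) * ((r + 2).choose 3 * 3) := by rw [h1]
    _ = 3 * (r + 1) * (r + 2).choose 3 := by ring

theorem arith (d r p : ℕ) (hdr : d ≤ (r + 2).choose 3) (hp : 4 * p ≤ 3 * r + 1) :
    (2 * p + 1) * d ≤ (r + 2).choose 2 * (r + 1).choose 2 := by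
  have h1 := two_mul_choose r
  have h2 : 2 * ((2 * p + 1) * d) ≤ 2 * ((2 * p + 1) * (r + 2).choose 3) :=
    Nat.mul_le_mul_left _ (Nat.mul_le_mul_left _ hdr)
  have h3 : 2 * ((2 * p + 1) * (r + 2).choose 3) ≤ 3 * (r + 1) * (r + 2).choose 3 := by
    have : 2 * (2 * p + 1) ≤ 3 * (r + 1) := by omega
    calc 2 * ((2 * p + 1) * (r + 2).choose 3) = (2 * (2 * p + 1)) * (r + 2).choose 3 := by ring
      _ ≤ 3 * (r + 1) * (r + 2).choose 3 := Nat.mul_le_mul_right _ this
  omega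

/-- the comparison with `T(m^r)` -/
theorem main_le (k : Type*) [Field k] [Infinite k] (d r p : ℕ)
    (hdr : d ≤ Nat.choose (r + 2) 3) (hp : 4 * p ≤ 3 * r + 1)
    (I : Ideal (MvPolynomial (Fin 3) k)) (hI : IsMonomial I)
    [Module.Finite k (MvPolynomial (Fin 3) k ⧸ I)]
    (hd : Module.finrank k (MvPolynomial (Fin 3) k ⧸ I) = d)
    (hx : (MvPolynomial.X 0 : MvPolynomial (Fin 3) k) ^ p ∈ I) :
    Module.finrank k (Tgt I) ≤ Module.finrank k (Tgt ((Ideal.span (Set.range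
      (MvPolynomial.X : Fin 3 → MvPolynomial (Fin 3) k))) ^ r)) := by
  rw [(Groth.Agent.S13442.result k r 0).2.2]
  have h1 := finrank_tgt_le p hI hx
  rw [hd] at h1
  exact h1.trans (arith d r p hdr hp)

end Groth.Agent.Helper7.TgXp
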