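import Mathlib

/-! A section of a torsion-free module over a reduced Noetherian ring vanishing in all fibres is zero. -/

universe u

open TensorProduct

namespace Groth.Agent.Helper7.TorFreeFib

/-- at a minimal prime of a reduced ring, vanishing in the fibre gives an annihilating element
outside the prime -/
theorem exists_smul_eq_zero_of_minimal (R : Type u) [CommRing R] [IsReduced R]
    (M : Type u) [AddCommGroup M] [Module R M] (p : Ideal R) [hp : p.IsPrime]
    (hmin : p ∈ minimalPrimes R) (t : M)
    (ht : (1 : p.ResidueField) ⊗ₜ[R] t = (0 : p.ResidueField ⊗[R] M)) :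
    ∃ s : R, s ∉ p ∧ s • t = 0 := by
  set Rp := Localization.AtPrime p with hRp
  have hmax : IsLocalRing.maximalIdeal Rp = ⊥ := by
    have h1 := IsLocalization.AtPrime.radical_map_of_mem_minimalPrimes (A := Rp) p ⊥ hmin
    rw [Ideal.map_bot, IsLocalization.AtPrime.map_eq_maximalIdeal p Rp] at h1
    rw [← h1]
    exact nilradical_eq_zero Rp
  -- the residue map is bijective
  let r : Rp →ₗ[R] p.ResidueField := (IsScalarTower.toAlgHom R Rp p.ResidueField).toLinearMap
  have hr : Function.Bijective r := by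
    constructor
    · rw [injective_iff_map_eq_zero]
      intro x hx
      have : x ∈ IsLocalRing.maximalIdeal Rp := (IsLocalRing.residue_eq_zero_iff x).1 hx
      rw [hmax] at this
      exact this
    · exact IsLocalRing.residue_surjective
  let e : Rp ≃ₗ[R] p.ResidueField := LinearEquiv.ofBijective r hr
  have h2 : ((1 : Rp) ⊗ₜ[R] t : Rp ⊗[R] M) = 0 := by
    apply (TensorProduct.congr e (LinearEquiv.refl R M)).injective
    rw [TensorProduct.congr_tmul, map_zero, LinearEquiv.refl_apply]
    have : e 1 = 1 := map_one (IsScalarTower.toAlgHom R Rp p.ResidueField)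
    rw [this, ht]
  have h3 : TensorProduct.mk R Rp M 1 t = 0 := h2
  obtain ⟨s, hs⟩ := (IsLocalizedModule.eq_zero_iff p.primeCompl (TensorProduct.mk R Rp M 1)).1 h3
  exact ⟨s.1, s.2, hs⟩

theorem eq_zero_of_forall_residueField_tmul_eq_zero (R : Type u) [CommRing R] [IsReduced R]
    [IsNoetherianRing R]
    (M : Type u) [AddCommGroup M] [Module R M] [Module.IsTorsionFree R M]
    (t : M) (ht : ∀ p : PrimeSpectrum R, (1 : p.asIdeal.ResidueField) ⊗ₜ[R] t = (0 : p.asIdeal.ResidueField ⊗[R] M)) :
    t = 0 := by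
  classical
  set Ann : Ideal R := LinearMap.ker (LinearMap.toSpanSingleton R M t) with hAnn
  have hAnnmem : ∀ s : R, s ∈ Ann ↔ s • t = 0 := fun s => by
    rw [hAnn, LinearMap.mem_ker, LinearMap.toSpanSingleton_apply]
  have hfin : (minimalPrimes R).Finite := minimalPrimes.finite_of_isNoetherianRing R
  -- prime avoidance
  have hnot : ¬ ((Ann : Set R) ⊆ ⋃ p ∈ (↑hfin.toFinset : Set (Ideal R)), ((p : Ideal R) : Set R)) := by
    intro hsub
    have hprime : ∀ p ∈ hfin.toFinset, p ≠ ⊥ → p ≠ ⊥ → Ideal.IsPrime ((fun q : Ideal R => q) p) := by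
      intro p hp _ _
      exact (hfin.mem_toFinset.1 hp).1.1
    obtain ⟨p, hp, hle⟩ := (Ideal.subset_union_prime (s := hfin.toFinset)
      (f := fun q : Ideal R => q) ⊥ ⊥ hprime).1 hsub
    have hpmin : p ∈ minimalPrimes R := hfin.mem_toFinset.1 hp
    haveI : p.IsPrime := hpmin.1.1
    obtain ⟨s, hsp, hst⟩ := exists_smul_eq_zero_of_minimal R M p hpmin t (ht ⟨p, inferInstance⟩)
    exact hsp (hle ((hAnnmem s).2 hst))
  rw [Set.not_subset] at hnot
  obtain ⟨s, hsAnn, hsnot⟩ := hnot
  have hs : ∀ p ∈ minimalPrimes R, s ∉ p := by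
    intro p hp hsp
    apply hsnot
    simp only [Set.mem_iUnion]
    exact ⟨p, Finset.mem_coe.2 (hfin.mem_toFinset.2 hp), hsp⟩
  have hreg0 : ∀ y : R, s * y = 0 → y = 0 := by
    intro y hy
    have hy' : y ∈ sInf (minimalPrimes R) := by
      rw [Ideal.mem_sInf]
      intro p hp
      have : s * y ∈ p := by rw [hy]; exact p.zero_mem
      exact (hp.1.1.mem_or_mem this).resolve_left (hs p hp)
    have h5 : sInf (minimalPrimes R) = (⊥ : Ideal R).radical := Ideal.sInf_minimalPrimes
    rw [h5] at hy'
    have h6 : (⊥ : Ideal R).radical = ⊥ := nilradical_eq_zero R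
    rw [h6] at hy'
    exact hy'
  have hleft : IsLeftRegular s := by
    intro a b hab
    have : s * (a - b) = 0 := by
      rw [mul_sub]
      exact sub_eq_zero.2 hab
    exact sub_eq_zero.1 (hreg0 _ this)
  have hreg : IsRegular s := ⟨hleft, by
    intro a b hab
    apply hleft
    simpa [mul_comm] using hab⟩
  have hM : IsSMulRegular M s := hreg.isSMulRegular
  apply hM
  show s • t = s • 0
  rw [(hAnnmem s).1 hsAnn, smul_zero]

end Groth.Agent.Helper7.TorFreeFib
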