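import Mathlib
import Groth.Prelude.Def_GrSyz
import Groth.Agent.Helper1.TorBalance
import Groth.Agent.Helper7.GrSyzMin

set_option autoImplicit false

open CategoryTheory CategoryTheory.Limits MonoidalCategory TensorProduct

namespace Groth.Agent.Helper7.TorRk

open Groth.Agent.Helper1.TorLib

universe u

variable {R : Type u} [CommRing R] {σ' : Type u} [SetLike σ' R] [AddSubgroupClass σ' R]
  {𝒜 : ℤ → σ'} {M : Type u} [AddCommGroup M] [Module R M] {τ : Type u} [SetLike τ M]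
  [AddSubgroupClass τ M] {ℳ : ℤ → τ} [DirectSum.Decomposition ℳ] [SetLike.GradedSMul 𝒜 ℳ]
  (F : GrSyz.FreeRes 𝒜 ℳ)

theorem d_comp_d (i : ℕ) : F.dLin i ∘ₗ F.dLin (i + 1) = 0 := by
  refine LinearMap.ext fun v => ?_
  have : F.dLin (i + 1) v ∈ LinearMap.ker (F.dLin i) := by
    rw [F.exact_succ i]; exact ⟨v, rfl⟩
  exact this

theorem aug_comp_d : F.augLin ∘ₗ F.dLin 0 = 0 := by
  refine LinearMap.ext fun v => ?_
  have : F.dLin 0 v ∈ LinearMap.ker F.augLin := by
    rw [F.exact_zero]; exact ⟨v, rfl⟩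
  exact this

/-- the complex of the resolution. -/
noncomputable def cx : ChainComplex (ModuleCat.{u} R) ℕ :=
  ChainComplex.of (fun i => ModuleCat.of R (Fin (F.rk i) → R))
    (fun i => ModuleCat.ofHom (F.dLin i))
    (fun i => by
      rw [← ModuleCat.ofHom_comp, d_comp_d]
      rfl)

theorem cx_d (i : ℕ) : (cx F).d (i + 1) i = ModuleCat.ofHom (F.dLin i) := by
  unfold cx
  exact ChainComplex.of_d (V := ModuleCat.{u} R) (fun i => ModuleCat.of R (Fin (F.rk i) → R))
    (fun i => ModuleCat.ofHom (F.dLin i)) i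

theorem cx_exactAt (n : ℕ) : (cx F).ExactAt (n + 1) := by
  rw [HomologicalComplex.exactAt_iff' (cx F) (n + 2) (n + 1) n (by simp) (by simp),
    ShortComplex.moduleCat_exact_iff_range_eq_ker]
  show LinearMap.range ((cx F).d (n + 2) (n + 1)).hom = LinearMap.ker ((cx F).d (n + 1) n).hom
  rw [cx_d, cx_d]
  exact (F.exact_succ n).symm

theorem cx_d_hom (i : ℕ) (v : (cx F).X (i + 1)) :
    ((cx F).d (i + 1) i).hom v = F.dLin i v := by
  rw [cx_d]; rfl

/-- the augmented short complex `F_1 → F_0 → M`. -/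
noncomputable def augSC : ShortComplex (ModuleCat.{u} R) :=
  ShortComplex.mk ((cx F).d 1 0) (ModuleCat.ofHom (X := (cx F).X 0) F.augLin)
    (ModuleCat.hom_ext (LinearMap.ext fun v => by
      show F.augLin (((cx F).d 1 0).hom v) = 0
      rw [cx_d_hom F 0 v]
      exact LinearMap.congr_fun (aug_comp_d F) v))

theorem augSC_exact : (augSC F).Exact := by
  rw [ShortComplex.moduleCat_exact_iff_range_eq_ker]
  show LinearMap.range ((cx F).d 1 0).hom = LinearMap.ker F.augLin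
  rw [F.exact_zero]
  congr 1

instance : Epi (augSC F).g := by
  show Epi (ModuleCat.ofHom (X := (cx F).X 0) F.augLin)
  rw [ModuleCat.epi_iff_surjective]
  exact F.aug_surjective

/-- the flat resolution of `M` given by `F`. -/
noncomputable def flatRes : FlatResolution (ModuleCat.of R M) where
  complex := cx F
  flat i := (inferInstance : Module.Flat R (Fin (F.rk i) → R))
  exact := cx_exactAt F
  iso := IsColimit.coconePointUniqueUpToIso ((cx F).opcyclesIsCokernel 1 0 (by simp))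
    (augSC_exact F).gIsCokernel

section Minimal

variable (𝔪 : Ideal R) (hF : F.IsMinimal 𝔪)

theorem tmul_eq_zero_of_mem {n : ℕ} (w : Fin n → R) (hw : ∀ b, w b ∈ 𝔪) (x : R ⧸ 𝔪) :
    w ⊗ₜ[R] x = 0 := by
  classical
  rw [pi_eq_sum_univ w, TensorProduct.sum_tmul]
  refine Finset.sum_eq_zero fun b _ => ?_
  rw [TensorProduct.smul_tmul]
  obtain ⟨y, rfl⟩ := Ideal.Quotient.mk_surjective x
  have : w b • (Ideal.Quotient.mk 𝔪 y) = 0 := by
    rw [← Ideal.Quotient.mk_eq_mk, ← Submodule.Quotient.mk_smul, Submodule.Quotient.mk_eq_zero,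
      smul_eq_mul]
    exact Ideal.mul_mem_right _ _ (hw b)
  rw [this, TensorProduct.tmul_zero]

include hF in
theorem rTensor_eq_zero (i : ℕ) : (F.dLin i).rTensor (R ⧸ 𝔪) = 0 := by
  refine TensorProduct.ext' fun v x => ?_
  rw [LinearMap.rTensor_tmul, LinearMap.zero_apply]
  apply tmul_eq_zero_of_mem
  intro b
  rw [Matrix.mulVecLin_apply, Matrix.mulVec, dotProduct]
  exact Ideal.sum_mem _ fun c _ => Ideal.mul_mem_right _ _ (hF i b c)

include hF in
theorem tensor_d_eq_zero (a b : ℕ) :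
    (CohIII.tensorObj (cx F) (ModuleCat.of R (R ⧸ 𝔪))).d a b = 0 := by
  show (cx F).d a b ▷ (ModuleCat.of R (R ⧸ 𝔪)) = 0
  by_cases h : b + 1 = a
  · subst h
    apply ModuleCat.hom_ext
    rw [ModuleCat.hom_whiskerRight, cx_d]
    exact rTensor_eq_zero F 𝔪 hF b
  · rw [(cx F).shape a b h]
    exact MonoidalPreadditive.zero_whiskerRight

/-- `H_i(F ⊗ R/𝔪) ≅ F_i ⊗ R/𝔪` for a minimal resolution. -/
noncomputable def homologyIso (i : ℕ) :
    (CohIII.TFun (cx F) i).obj (ModuleCat.of R (R ⧸ 𝔪)) ≅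
      (CohIII.tensorObj (cx F) (ModuleCat.of R (R ⧸ 𝔪))).X i :=
  (ShortComplex.LeftHomologyData.ofZeros ((CohIII.tensorObj (cx F) (ModuleCat.of R (R ⧸ 𝔪))).sc i)
    (tensor_d_eq_zero F 𝔪 hF _ _) (tensor_d_eq_zero F 𝔪 hF _ _)).homologyIso

include hF in
theorem length_tor [𝔪.IsMaximal] (i : ℕ) :
    Module.length R (((Tor (ModuleCat.{u} R) i).obj (ModuleCat.of R (R ⧸ 𝔪))).obj (ModuleCat.of R M)) =
      (F.rk i : ℕ∞) := by
  obtain ⟨e⟩ := FlatResolution.nonempty_tor_iso_right (M := ModuleCat.of R (R ⧸ 𝔪)) (flatRes F) i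
  have e2 := (e ≪≫ homologyIso F 𝔪 hF i).toLinearEquiv
  rw [e2.length_eq]
  show Module.length R ((Fin (F.rk i) → R) ⊗[R] (R ⧸ 𝔪)) = _
  rw [(TensorProduct.comm R (Fin (F.rk i) → R) (R ⧸ 𝔪)).length_eq,
    (TensorProduct.piScalarRight R R (R ⧸ 𝔪) (Fin (F.rk i))).length_eq, Module.length_pi]
  haveI : IsSimpleModule R (R ⧸ 𝔪) := by
    rw [isSimpleModule_iff_isCoatom, ← Ideal.isMaximal_def]; infer_instance
  rw [Module.length_eq_one, mul_one]
  simp

end Minimal

end Groth.Agent.Helper7.TorRk
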