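import Mathlib
import Groth.Prelude.Def_GLin
import Groth.Agent.Helper7.ComodK

/-!
# Weight decomposition of a comodule over a group algebra `k[Λ]`
-/

set_option autoImplicit false
set_option linter.unusedSectionVars false
universe u v w

namespace Groth.Agent.Helper7.TorusWt

open TensorProduct HopfRep Groth.Agent.Helper7.Comodule

section lin

variable {k : Type u} [CommRing k] {Λ : Type v} [AddCommMonoid Λ] {R : Type w} [AddCommGroup R]
  [Module k R]

/-- coefficient functional -/
noncomputable def ee (a : Λ) : AddMonoidAlgebra k Λ →ₗ[k] k :=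
  Finsupp.lapply a ∘ₗ (AddMonoidAlgebra.coeffLinearEquiv k).toLinearMap

lemma ee_single (a b : Λ) (c : k) [Decidable (b = a)] :
    ee a (AddMonoidAlgebra.single b c) = if b = a then c else 0 := by
  classical
  unfold ee
  simp [Finsupp.single_apply]

/-- assembling a finitely supported family of coefficients into a tensor -/
noncomputable def asm : (Λ →₀ R) →ₗ[k] R ⊗[k] AddMonoidAlgebra k Λ :=
  Finsupp.lsum k (fun a => (TensorProduct.mk k R (AddMonoidAlgebra k Λ)).flip
    (AddMonoidAlgebra.single a 1))

lemma asm_single (a : Λ) (x : R) :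
    asm (k := k) (Finsupp.single a x) = x ⊗ₜ[k] AddMonoidAlgebra.single a (1 : k) := by
  simp [asm]

lemma asm_apply (c : Λ →₀ R) :
    asm (k := k) c = ∑ a ∈ c.support, c a ⊗ₜ[k] AddMonoidAlgebra.single a (1 : k) := by
  simp [asm, Finsupp.sum]

lemma asm_surjective : Function.Surjective (asm (k := k) (Λ := Λ) (R := R)) := by
  intro z
  induction z using TensorProduct.induction_on with
  | zero => exact ⟨0, map_zero _⟩
  | tmul x b =>
    induction b using AddMonoidAlgebra.induction_linear with
    | zero => exact ⟨0, by simp⟩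
    | add f g hf hg =>
      obtain ⟨c, hc⟩ := hf
      obtain ⟨d, hd⟩ := hg
      exact ⟨c + d, by rw [map_add, hc, hd, TensorProduct.tmul_add]⟩
    | single b t =>
      refine ⟨Finsupp.single b (t • x), ?_⟩
      rw [asm_single, TensorProduct.smul_tmul, AddMonoidAlgebra.smul_single, smul_eq_mul, mul_one]
  | add x y hx hy =>
    obtain ⟨c, hc⟩ := hx
    obtain ⟨d, hd⟩ := hy
    exact ⟨c + d, by rw [map_add, hc, hd]⟩

lemma sliceR_asm (a : Λ) (c : Λ →₀ R) : sliceR (ee (k := k) a) (asm (k := k) c) = c a := by
  classical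
  induction c using Finsupp.induction_linear with
  | zero => simp
  | add f g hf hg => rw [map_add, map_add, hf, hg, Finsupp.add_apply]
  | single b x =>
    rw [asm_single, sliceR_tmul, ee_single, Finsupp.single_apply]
    split_ifs <;> simp

/-- the coefficient family of a tensor -/
noncomputable def coef (z : R ⊗[k] AddMonoidAlgebra k Λ) : Λ →₀ R :=
  Classical.choose (asm_surjective (k := k) z)

lemma asm_coef (z : R ⊗[k] AddMonoidAlgebra k Λ) : asm (k := k) (coef z) = z :=
  Classical.choose_spec (asm_surjective (k := k) z)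

lemma coef_apply (z : R ⊗[k] AddMonoidAlgebra k Λ) (a : Λ) : coef z a = sliceR (ee (k := k) a) z := by
  conv_rhs => rw [← asm_coef z]
  rw [sliceR_asm]

lemma eq_sum (z : R ⊗[k] AddMonoidAlgebra k Λ) :
    z = ∑ a ∈ (coef z).support, sliceR (ee (k := k) a) z ⊗ₜ[k] AddMonoidAlgebra.single a (1 : k) := by
  conv_lhs => rw [← asm_coef z, asm_apply]
  apply Finset.sum_congr rfl
  intro a _
  rw [coef_apply]

end lin

section comod

variable {k : Type u} [CommRing k] {Λ : Type v} [AddCommMonoid Λ] {R : Type w} [AddCommGroup R]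
  [Module k R] [Comod k (AddMonoidAlgebra k Λ) R]

variable (k) in
/-- the weight component -/
noncomputable def comp (a : Λ) : R →ₗ[k] R := act (ee (k := k) a)

lemma sliceR_ee_comul (a : Λ) :
    sliceR (ee (k := k) a) ∘ₗ CoalgebraStruct.comul (R := k) (A := AddMonoidAlgebra k Λ) =
      (AddMonoidAlgebra.lsingle a : k →ₗ[k] AddMonoidAlgebra k Λ) ∘ₗ ee a := by
  classical
  apply LinearMap.ext
  intro x
  induction x using AddMonoidAlgebra.induction_linear with
  | zero => simp
  | add f g hf hg => simp only [map_add, hf, hg]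
  | single b c =>
    simp only [LinearMap.comp_apply]
    rw [AddMonoidAlgebra.comul_single, CommSemiring.comul_apply, TensorProduct.map_tmul,
      sliceR_tmul]
    simp only [AddMonoidAlgebra.lsingle_apply, ee_single]
    by_cases hba : b = a
    · subst hba
      simp
    · simp [hba]

lemma lTensor_lsingle_ee (a : Λ) (z : R ⊗[k] AddMonoidAlgebra k Λ) :
    LinearMap.lTensor R ((AddMonoidAlgebra.lsingle a : k →ₗ[k] AddMonoidAlgebra k Λ) ∘ₗ ee a) z =
      sliceR (ee (k := k) a) z ⊗ₜ[k] AddMonoidAlgebra.single a (1 : k) := by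
  induction z using TensorProduct.induction_on with
  | zero => simp
  | tmul x b =>
    rw [LinearMap.lTensor_tmul, sliceR_tmul, LinearMap.comp_apply, AddMonoidAlgebra.lsingle_apply,
      TensorProduct.smul_tmul, AddMonoidAlgebra.smul_single, smul_eq_mul, mul_one]
  | add x y hx hy => simp only [map_add, hx, hy, TensorProduct.add_tmul]

/-- the weight component is an eigenvector -/
theorem coact_comp (a : Λ) (f : R) :
    ρ k (AddMonoidAlgebra k Λ) R (comp k a f) = comp k a f ⊗ₜ[k] AddMonoidAlgebra.single a (1 : k) := by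
  rw [comp, coact_act, sliceR_ee_comul, lTensor_lsingle_ee]
  rfl

theorem comp_mem_eigenspace (a : Λ) (f : R) :
    comp k a f ∈ eigenspace k (AddMonoidAlgebra k Λ) R (AddMonoidAlgebra.single a 1) :=
  coact_comp a f

variable (k Λ) in
/-- the finite support of the weights of `f` -/
noncomputable def wts (f : R) : Finset Λ := (coef (ρ k (AddMonoidAlgebra k Λ) R f)).support

theorem coact_eq_sum (f : R) :
    ρ k (AddMonoidAlgebra k Λ) R f =
      ∑ a ∈ wts k Λ f, comp k a f ⊗ₜ[k] AddMonoidAlgebra.single a (1 : k) :=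
  eq_sum _

theorem eq_sum_comp (f : R) : f = ∑ a ∈ wts k Λ f, comp k a f := by
  conv_lhs => rw [← act_counit (K := k) (C := AddMonoidAlgebra k Λ) f, act_apply, coact_eq_sum f,
    map_sum]
  apply Finset.sum_congr rfl
  intro a _
  rw [sliceR_tmul, AddMonoidAlgebra.counit_single]
  simp

theorem comp_of_mem [DecidableEq Λ] {b : Λ} {f : R}
    (hf : f ∈ eigenspace k (AddMonoidAlgebra k Λ) R (AddMonoidAlgebra.single b 1)) (a : Λ) :
    comp k a f = if b = a then f else 0 := by
  have h : ρ k (AddMonoidAlgebra k Λ) R f = f ⊗ₜ[k] AddMonoidAlgebra.single b (1 : k) := hf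
  rw [comp, act_apply, h, sliceR_tmul, ee_single]
  split_ifs <;> simp

end comod

end Groth.Agent.Helper7.TorusWt
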