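import Mathlib
import Groth.Agent.Helper7.TorusWt

/-!
# Torus actions on algebras: multiplicativity of weight components, fixed locus vs invariants
-/

set_option autoImplicit false
set_option linter.unusedSectionVars false
universe u v w

namespace Groth.Agent.Helper7.TorusWt

open TensorProduct HopfRep Groth.Agent.Helper7.Comodule

section alg

variable {k : Type u} [CommRing k] {Λ : Type v} [AddCommGroup Λ] {R : Type w} [CommRing R]
  [Algebra k R]

lemma sliceR_mul_tmul_single (a w : Λ) (g : R) (z : R ⊗[k] AddMonoidAlgebra k Λ) :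
    sliceR (ee (k := k) a) (z * (g ⊗ₜ[k] AddMonoidAlgebra.single w (1 : k))) =
      sliceR (ee (k := k) (a - w)) z * g := by
  classical
  induction z using TensorProduct.induction_on with
  | zero => simp
  | tmul x b =>
    induction b using AddMonoidAlgebra.induction_linear with
    | zero => simp
    | add f g' hf hg => rw [TensorProduct.tmul_add, add_mul, map_add, map_add, hf, hg, add_mul]
    | single b t =>
      rw [Algebra.TensorProduct.tmul_mul_tmul, AddMonoidAlgebra.single_mul_single, mul_one,
        sliceR_tmul, sliceR_tmul, ee_single, ee_single]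
      by_cases h : b + w = a
      · have h' : b = a - w := by rw [← h]; abel
        rw [if_pos h, if_pos h', smul_mul_assoc]
      · have h' : ¬ b = a - w := by
          intro h''
          apply h
          rw [h'']
          abel
        rw [if_neg h, if_neg h', zero_smul, zero_smul, zero_mul]
  | add x y hx hy => rw [add_mul, map_add, map_add, hx, hy, add_mul]

variable [Comod k (AddMonoidAlgebra k Λ) R] [GLin.IsCoactAlg k (AddMonoidAlgebra k Λ) R]

/-- weight components of a product with an eigenvector -/
theorem comp_mul_of_mem {w : Λ} {g : R}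
    (hg : g ∈ eigenspace k (AddMonoidAlgebra k Λ) R (AddMonoidAlgebra.single w 1)) (a : Λ) (r : R) :
    comp k a (r * g) = comp k (a - w) r * g := by
  have h : ρ k (AddMonoidAlgebra k Λ) R g = g ⊗ₜ[k] AddMonoidAlgebra.single w (1 : k) := hg
  rw [comp, act_apply, GLin.IsCoactAlg.coact_mul (k := k) (A := AddMonoidAlgebra k Λ), h,
    sliceR_mul_tmul_single]
  rfl

theorem mem_invariants_iff_eigen (f : R) :
    f ∈ GLin.invariants k (AddMonoidAlgebra k Λ) R ↔
      f ∈ eigenspace k (AddMonoidAlgebra k Λ) R (AddMonoidAlgebra.single 0 1) := by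
  rw [GLin.mem_invariants_iff, AddMonoidAlgebra.one_def]
  rfl

/-- the ideal of the fixed locus -/
def fixIdeal (k : Type u) [CommRing k] (Λ : Type v) [AddCommGroup Λ] (R : Type w) [CommRing R]
    [Algebra k R] [Comod k (AddMonoidAlgebra k Λ) R] : Ideal R :=
  Ideal.span {f : R | ∃ w : Λ, w ≠ 0 ∧
    f ∈ eigenspace k (AddMonoidAlgebra k Λ) R (AddMonoidAlgebra.single w 1)}

theorem sub_comp_zero_mem (f : R) : f - comp k (0 : Λ) f ∈ fixIdeal k Λ R := by
  classical
  have h := eq_sum_comp (k := k) (Λ := Λ) f
  by_cases h0 : (0 : Λ) ∈ wts k Λ f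
  · have : f - comp k (0 : Λ) f = ∑ a ∈ (wts k Λ f).erase 0, comp k a f := by
      rw [sub_eq_iff_eq_add, Finset.sum_erase_add _ _ h0]
      exact h
    rw [this]
    apply Ideal.sum_mem
    intro a ha
    exact Ideal.subset_span ⟨a, (Finset.mem_erase.1 ha).1, comp_mem_eigenspace a f⟩
  · have hc : comp k (0 : Λ) f = 0 := by
      have : coef (ρ k (AddMonoidAlgebra k Λ) R f) 0 = 0 := Finsupp.notMem_support_iff.1 h0
      rw [coef_apply] at this
      exact this
    rw [hc, sub_zero, h]
    apply Ideal.sum_mem
    intro a ha
    refine Ideal.subset_span ⟨a, ?_, comp_mem_eigenspace a f⟩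
    rintro rfl
    exact h0 ha

/-- under positivity of the weight monoid the invariants map isomorphically onto the
coordinate ring of the fixed locus -/
theorem bijective_invariants_quot
    (hpos : ∀ w : Λ, eigenspace k (AddMonoidAlgebra k Λ) R (AddMonoidAlgebra.single w 1) ≠ ⊥ →
      eigenspace k (AddMonoidAlgebra k Λ) R (AddMonoidAlgebra.single (-w) 1) ≠ ⊥ → w = 0) :
    Function.Bijective ((Ideal.Quotient.mkₐ k (fixIdeal k Λ R)).comp
      (GLin.invariants k (AddMonoidAlgebra k Λ) R).val) := by
  classical
  constructor
  · rw [injective_iff_map_eq_zero]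
    rintro ⟨f, hf⟩ hf0
    rw [AlgHom.comp_apply, Ideal.Quotient.mkₐ_eq_mk, Ideal.Quotient.eq_zero_iff_mem] at hf0
    change f ∈ fixIdeal k Λ R at hf0
    have hf' := (mem_invariants_iff_eigen f).1 hf
    have key : ∀ x ∈ fixIdeal k Λ R, comp k (0 : Λ) x = 0 := by
      intro x hx
      refine Submodule.span_induction ?_ ?_ ?_ ?_ hx
      · rintro g ⟨w, hw, hg⟩
        rw [comp_of_mem hg, if_neg hw]
      · exact map_zero _
      · intro x y _ _ hx hy
        rw [map_add, hx, hy, add_zero]
      · intro r x hx _
        -- x in the span: reduce to generators by a second induction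
        revert r
        refine Submodule.span_induction ?_ ?_ ?_ ?_ hx
        · rintro g ⟨w, hw, hg⟩ r
          rw [smul_eq_mul, comp_mul_of_mem hg, zero_sub]
          by_contra hne
          have h1 : eigenspace k (AddMonoidAlgebra k Λ) R (AddMonoidAlgebra.single w 1) ≠ ⊥ := by
            intro hbot
            have : g ∈ (⊥ : Submodule k R) := hbot ▸ hg
            rw [Submodule.mem_bot] at this
            rw [this, mul_zero] at hne
            exact hne rfl
          have h2 : eigenspace k (AddMonoidAlgebra k Λ) R (AddMonoidAlgebra.single (-w) 1) ≠ ⊥ := by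
            intro hbot
            have : comp k (-w) r ∈ (⊥ : Submodule k R) := hbot ▸ comp_mem_eigenspace (-w) r
            rw [Submodule.mem_bot] at this
            rw [this, zero_mul] at hne
            exact hne rfl
          exact hw (hpos w h1 h2)
        · intro r
          rw [smul_zero, map_zero]
        · intro x y _ _ hx hy r
          rw [smul_add, map_add, hx, hy, add_zero]
        · intro s x _ hx r
          rw [smul_smul]
          exact hx (r * s)
    have h0 := key f hf0
    rw [comp_of_mem hf', if_pos rfl] at h0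
    exact Subtype.ext h0
  · intro y
    obtain ⟨f, rfl⟩ := Ideal.Quotient.mk_surjective y
    refine ⟨⟨comp k (0 : Λ) f, (mem_invariants_iff_eigen _).2 (comp_mem_eigenspace 0 f)⟩, ?_⟩
    rw [AlgHom.comp_apply, Ideal.Quotient.mkₐ_eq_mk]
    symm
    rw [Ideal.Quotient.eq]
    exact sub_comp_zero_mem f

end alg

end Groth.Agent.Helper7.TorusWt
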