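import Mathlib
import Groth.Agent.Helper7.TorusWt2

/-!
# Torus actions with positive weight monoid: closed orbits are fixed points
-/

set_option autoImplicit false
set_option linter.unusedSectionVars false
universe u v w

namespace Groth.Agent.Helper7.TorusWt

open TensorProduct HopfRep Groth.Agent.Helper7.Comodule

section orbit

variable {k : Type u} [Field k] {Λ : Type v} [AddCommGroup Λ] {R : Type w} [CommRing R]
  [Algebra k R]

lemma ee_lid_map (x : R →ₐ[k] k) (a : Λ) (z : R ⊗[k] AddMonoidAlgebra k Λ) :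
    ee a ((Algebra.TensorProduct.lid k (AddMonoidAlgebra k Λ)).toAlgHom
      ((Algebra.TensorProduct.map x (AlgHom.id k (AddMonoidAlgebra k Λ))) z)) =
      x (sliceR (ee (k := k) a) z) := by
  induction z using TensorProduct.induction_on with
  | zero => simp
  | tmul r b =>
    rw [Algebra.TensorProduct.map_tmul, AlgHom.coe_id, id_eq, sliceR_tmul, map_smul, smul_eq_mul]
    change ee a (Algebra.TensorProduct.lid k (AddMonoidAlgebra k Λ) (x r ⊗ₜ[k] b)) = _
    rw [Algebra.TensorProduct.lid_tmul, map_smul, smul_eq_mul, mul_comm]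
  | add y y' hy hy' => simp only [map_add, hy, hy']

variable [Comod k (AddMonoidAlgebra k Λ) R] [GLin.IsCoactAlg k (AddMonoidAlgebra k Λ) R]

lemma ee_orbitHom (x : R →ₐ[k] k) (a : Λ) (f : R) :
    ee a (GLin.orbitHom k (AddMonoidAlgebra k Λ) x f) = x (comp k a f) := by
  unfold GLin.orbitHom
  rw [AlgHom.comp_apply, AlgHom.comp_apply, ee_lid_map]
  rfl

lemma orbitHom_of_mem (x : R →ₐ[k] k) {a : Λ} {g : R}
    (hg : g ∈ eigenspace k (AddMonoidAlgebra k Λ) R (AddMonoidAlgebra.single a 1)) :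
    GLin.orbitHom k (AddMonoidAlgebra k Λ) x g = AddMonoidAlgebra.single a (x g) := by
  have h : ρ k (AddMonoidAlgebra k Λ) R g = g ⊗ₜ[k] AddMonoidAlgebra.single a (1 : k) := hg
  unfold GLin.orbitHom
  rw [AlgHom.comp_apply, AlgHom.comp_apply, GLin.coactAlgHom_apply]
  change (Algebra.TensorProduct.lid k (AddMonoidAlgebra k Λ)).toAlgHom
      ((Algebra.TensorProduct.map x (AlgHom.id k (AddMonoidAlgebra k Λ)))
        (ρ k (AddMonoidAlgebra k Λ) R g)) = _
  rw [h]
  simp [AddMonoidAlgebra.smul_single]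

lemma orbitHom_eq_sum (x : R →ₐ[k] k) (f : R) :
    GLin.orbitHom k (AddMonoidAlgebra k Λ) x f =
      ∑ a ∈ wts k Λ f, AddMonoidAlgebra.single a (x (comp k a f)) := by
  conv_lhs => rw [eq_sum_comp (k := k) (Λ := Λ) f, map_sum]
  apply Finset.sum_congr rfl
  intro a _
  rw [orbitHom_of_mem x (comp_mem_eigenspace a f)]

/-- a point killing all eigenvectors of non-zero weight is fixed -/
theorem isFixedPt_of_forall (x : R →ₐ[k] k)
    (h : ∀ a : Λ, a ≠ 0 → ∀ g ∈ eigenspace k (AddMonoidAlgebra k Λ) R (AddMonoidAlgebra.single a 1),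
      x g = 0) : GLin.IsFixedPt k (AddMonoidAlgebra k Λ) x := by
  unfold GLin.IsFixedPt
  apply AlgHom.ext
  intro f
  rw [orbitHom_eq_sum, AlgHom.comp_apply]
  conv_rhs => rw [eq_sum_comp (k := k) (Λ := Λ) f, map_sum, map_sum]
  apply Finset.sum_congr rfl
  intro a _
  by_cases ha : a = 0
  · subst ha
    rfl
  · rw [h a ha _ (comp_mem_eigenspace a f), map_zero]
    simp

theorem isClosedOrbit_of_isFixedPt (x : R →ₐ[k] k)
    (hx : GLin.IsFixedPt k (AddMonoidAlgebra k Λ) x) :
    GLin.IsClosedOrbit k (AddMonoidAlgebra k Λ) x := by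
  unfold GLin.IsClosedOrbit
  unfold GLin.IsFixedPt at hx
  have hsurj : Function.Surjective x := fun c => ⟨algebraMap k R c, x.commutes c⟩
  have hmax : (RingHom.ker (x : R →+* k)).IsMaximal := RingHom.ker_isMaximal_of_surjective _ hsurj
  have hrange : Set.range (PrimeSpectrum.comap (GLin.orbitHom k (AddMonoidAlgebra k Λ) x).toRingHom) =
      {⟨RingHom.ker (x : R →+* k), hmax.isPrime⟩} := by
    ext q
    rw [Set.mem_range, Set.mem_singleton_iff]
    have hq : ∀ p : PrimeSpectrum (AddMonoidAlgebra k Λ),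
        PrimeSpectrum.comap (GLin.orbitHom k (AddMonoidAlgebra k Λ) x).toRingHom p =
          ⟨RingHom.ker (x : R →+* k), hmax.isPrime⟩ := by
      intro p
      apply PrimeSpectrum.ext
      ext f
      rw [PrimeSpectrum.comap_asIdeal, Ideal.mem_comap, RingHom.mem_ker]
      change GLin.orbitHom k (AddMonoidAlgebra k Λ) x f ∈ p.asIdeal ↔ x f = 0
      rw [hx, AlgHom.comp_apply]
      constructor
      · intro hf
        by_contra hne
        apply p.2.ne_top
        rw [Ideal.eq_top_iff_one]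
        have h1 : (Algebra.ofId k (AddMonoidAlgebra k Λ)) ((x f)⁻¹ * x f) ∈ p.asIdeal := by
          rw [map_mul]
          exact Ideal.mul_mem_left _ _ hf
        rwa [inv_mul_cancel₀ hne, map_one] at h1
      · intro hf
        rw [hf, map_zero]
        exact zero_mem _
    constructor
    · rintro ⟨p, rfl⟩
      exact hq p
    · intro hq'
      obtain ⟨m, hm⟩ := Ideal.exists_maximal (AddMonoidAlgebra k Λ)
      exact ⟨⟨m, hm.isPrime⟩, by rw [hq, hq']⟩
  rw [hrange, PrimeSpectrum.isClosed_singleton_iff_isMaximal]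
  exact hmax

/-- positive weight monoid: a closed orbit is a fixed point -/
theorem isFixedPt_of_isClosedOrbit
    (hpos : ∀ w : Λ, eigenspace k (AddMonoidAlgebra k Λ) R (AddMonoidAlgebra.single w 1) ≠ ⊥ →
      eigenspace k (AddMonoidAlgebra k Λ) R (AddMonoidAlgebra.single (-w) 1) ≠ ⊥ → w = 0)
    (x : R →ₐ[k] k) (hx : GLin.IsClosedOrbit k (AddMonoidAlgebra k Λ) x) :
    GLin.IsFixedPt k (AddMonoidAlgebra k Λ) x := by
  classical
  apply isFixedPt_of_forall
  intro a ha g hg
  by_contra hne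
  -- the limit point
  let e := AlgEquiv.ofBijective _ (bijective_invariants_quot (k := k) (Λ := Λ) (R := R) hpos)
  let x₀ : R →ₐ[k] k := (x.comp (GLin.invariants k (AddMonoidAlgebra k Λ) R).val).comp
    ((e.symm : _ →ₐ[k] _).comp (Ideal.Quotient.mkₐ k (fixIdeal k Λ R)))
  have hx₀ : ∀ f : R, x₀ f = x (comp k (0 : Λ) f) := by
    intro f
    have h1 : e.symm (Ideal.Quotient.mkₐ k (fixIdeal k Λ R) f) =
        ⟨comp k (0 : Λ) f, (mem_invariants_iff_eigen _).2 (comp_mem_eigenspace 0 f)⟩ := by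
      rw [AlgEquiv.symm_apply_eq]
      change _ = (Ideal.Quotient.mkₐ k (fixIdeal k Λ R)) (comp k (0 : Λ) f)
      exact (Ideal.Quotient.eq (I := fixIdeal k Λ R)).2 (sub_comp_zero_mem f)
    change x ((e.symm (Ideal.Quotient.mkₐ k (fixIdeal k Λ R) f) : R)) = _
    rw [h1]
  have hsurj : Function.Surjective x₀ := fun c => ⟨algebraMap k R c, x₀.commutes c⟩
  have hmax : (RingHom.ker (x₀ : R →+* k)).IsMaximal := RingHom.ker_isMaximal_of_surjective _ hsurj
  have hmem : (⟨RingHom.ker (x₀ : R →+* k), hmax.isPrime⟩ : PrimeSpectrum R) ∈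
      closure (Set.range (PrimeSpectrum.comap (GLin.orbitHom k (AddMonoidAlgebra k Λ) x).toRingHom)) := by
    rw [PrimeSpectrum.closure_range_comap, PrimeSpectrum.mem_zeroLocus]
    intro f hf
    rw [SetLike.mem_coe, RingHom.mem_ker] at hf
    change GLin.orbitHom k (AddMonoidAlgebra k Λ) x f = 0 at hf
    rw [SetLike.mem_coe, RingHom.mem_ker]
    change x₀ f = 0
    rw [hx₀, ← ee_orbitHom, hf, map_zero]
  unfold GLin.IsClosedOrbit at hx
  rw [hx.closure_eq] at hmem
  obtain ⟨p, hp⟩ := hmem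
  have hgp : GLin.orbitHom k (AddMonoidAlgebra k Λ) x g ∈ p.asIdeal := by
    have : g ∈ (PrimeSpectrum.comap (GLin.orbitHom k (AddMonoidAlgebra k Λ) x).toRingHom p).asIdeal := by
      rw [hp]
      change g ∈ RingHom.ker (x₀ : R →+* k)
      rw [RingHom.mem_ker]
      change x₀ g = 0
      rw [hx₀, comp_of_mem hg, if_neg ha, map_zero]
    exact this
  rw [orbitHom_of_mem x hg] at hgp
  apply p.2.ne_top
  rw [Ideal.eq_top_iff_one]
  have h1 : AddMonoidAlgebra.single (-a) ((x g)⁻¹) * AddMonoidAlgebra.single a (x g) ∈ p.asIdeal :=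
    Ideal.mul_mem_left _ _ hgp
  rwa [AddMonoidAlgebra.single_mul_single, neg_add_cancel, inv_mul_cancel₀ hne,
    ← AddMonoidAlgebra.one_def] at h1

end orbit

end Groth.Agent.Helper7.TorusWt
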