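import Mathlib
import Groth.Prelude.Def_W4c1tameactTame
import Groth.Prelude.Def_GLin
import Groth.Prelude.Def_Hoch
import Groth.Agent.Helper8.FixHom
import Groth.Agent.Helper8.ComodDualAux

/-!
# Exactness of invariants gives a total integral
-/

set_option autoImplicit false

namespace Groth.Agent.Helper7.TotInt

open TensorProduct Groth.Agent.Helper8.FixHom

universe u v w w'

section Fix

variable {k : Type u} [CommRing k] {A : Type v} [CommRing A] [HopfAlgebra k A]
  {B : Type w} [AddCommGroup B] [Module k B] (cB : HopfRep.Comod k A B)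
  {M : Type w'} [AddCommGroup M] [Module k M] (cM : HopfRep.Comod k A M)
  (d : HopfRep.Comod k A (Module.Dual k M))

/-- fixed points of `B ⊗ M*` give comodule maps `M → B` -/
theorem isComodHom_Phi_of_fixed (hd : ComodTens.Comod.IsDual cM d) (x : B ⊗[k] Module.Dual k M)
    (hx : (ComodTens.Comod.tensor cB d).coact x = x ⊗ₜ[k] (1 : A)) :
    cB.coact ∘ₗ (Phi k B M x) = LinearMap.rTensor A (Phi k B M x) ∘ₗ cM.coact := by
  apply hom_of_T cB cM
  intro m
  rw [← Psi_coact cB cM d hd, hx, Psi_tmul_one]

end Fix

section HopfMod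

variable {k : Type u} [CommRing k] {A : Type v} [CommRing A] [HopfAlgebra k A]
  {B : Type w} [CommRing B] [Algebra k B]

/-- on `B ⊗ A` the Hopf-module action is the multiplication -/
theorem hmSMul_self (x y : B ⊗[k] A) : TameAct.hmSMul k A B B x y = x * y := by
  induction x using TensorProduct.induction_on with
  | zero => simp
  | tmul b a =>
    induction y using TensorProduct.induction_on with
    | zero => simp
    | tmul b' a' => simp [Algebra.TensorProduct.tmul_mul_tmul]
    | add y₁ y₂ h₁ h₂ => rw [map_add, h₁, h₂, mul_add]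
  | add x₁ x₂ h₁ h₂ => rw [map_add, LinearMap.add_apply, h₁, h₂, add_mul]

variable [cB : HopfRep.Comod k A B] [GLin.IsCoactAlg k A B]

/-- `B` is a Hopf module over itself -/
theorem isHopfMod_self : TameAct.IsHopfMod k A B B where
  coact_smul := fun b m => by
    rw [hmSMul_self, smul_eq_mul, GLin.IsCoactAlg.coact_mul (k := k)]

end HopfMod

section Main

variable {k : Type u} [CommRing k] {A : Type v} [CommRing A] [HopfAlgebra k A]
  {B : Type w} [CommRing B] [Algebra k B] [cB : HopfRep.Comod k A B] [GLin.IsCoactAlg k A B]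
  {M : Type w'} [AddCommGroup M] [Module k M] (cM : HopfRep.Comod k A M)
  (d : HopfRep.Comod k A (Module.Dual k M))

/-- `B ⊗ M*` is a Hopf module (for the tensor comodule structure) -/
theorem isHopfMod_tensor :
    @TameAct.IsHopfMod k _ A _ _ B _ _ (B ⊗[k] Module.Dual k M) _ _ _ _ cB
      (ComodTens.Comod.tensor cB d) := by
  letI : HopfRep.Comod k A (B ⊗[k] Module.Dual k M) := ComodTens.Comod.tensor cB d
  have key : ∀ (y y' : B ⊗[k] A) (z : Module.Dual k M ⊗[k] A),
      TensorProduct.map LinearMap.id (LinearMap.mul' k A)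
        (AlgebraTensorModule.tensorTensorTensorComm k k k k B A (Module.Dual k M) A
          ((y * y') ⊗ₜ[k] z)) =
      TameAct.hmSMul k A B (B ⊗[k] Module.Dual k M) y
        (TensorProduct.map LinearMap.id (LinearMap.mul' k A)
          (AlgebraTensorModule.tensorTensorTensorComm k k k k B A (Module.Dual k M) A
            (y' ⊗ₜ[k] z))) := by
    intro y y' z
    induction y using TensorProduct.induction_on with
    | zero => simp
    | tmul b₁ a₁ =>
      induction y' using TensorProduct.induction_on with
      | zero => simp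
      | tmul b₂ a₂ =>
        induction z using TensorProduct.induction_on with
        | zero => simp
        | tmul φ a₃ =>
          simp [Algebra.TensorProduct.tmul_mul_tmul, TensorProduct.smul_tmul', mul_assoc]
        | add z₁ z₂ h₁ h₂ => simp only [TensorProduct.tmul_add, map_add, h₁, h₂]
      | add y₁ y₂ h₁ h₂ =>
        simp only [mul_add, TensorProduct.add_tmul, map_add, h₁, h₂]
    | add y₁ y₂ h₁ h₂ =>
      simp only [add_mul, TensorProduct.add_tmul, map_add, LinearMap.add_apply, h₁, h₂]
  constructor
  intro b x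
  induction x using TensorProduct.induction_on with
  | zero => simp
  | tmul b' φ =>
    have h1 : b • (b' ⊗ₜ[k] φ : B ⊗[k] Module.Dual k M) = (b * b') ⊗ₜ[k] φ := by
      rw [TensorProduct.smul_tmul', smul_eq_mul]
    rw [h1]
    show (ComodTens.Comod.tensor cB d).coact ((b * b') ⊗ₜ[k] φ) =
      TameAct.hmSMul k A B (B ⊗[k] Module.Dual k M) (cB.coact b)
        ((ComodTens.Comod.tensor cB d).coact (b' ⊗ₜ[k] φ))
    rw [ComodTens.tensor_coact_tmul, ComodTens.tensor_coact_tmul,
      GLin.IsCoactAlg.coact_mul (k := k), key]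
  | add x₁ x₂ h₁ h₂ =>
    rw [smul_add, map_add, h₁, h₂, map_add, map_add]

variable (k B M) in
/-- evaluation at `m₀`, as a `B`-linear map `B ⊗ M* → B` -/
noncomputable def evAt (m₀ : M) : B ⊗[k] Module.Dual k M →ₗ[B] B where
  toFun := fun x => Phi k B M x m₀
  map_add' := fun x y => by rw [map_add, LinearMap.add_apply]
  map_smul' := fun b x => by
    simp only [RingHom.id_apply]
    induction x using TensorProduct.induction_on with
    | zero => simp
    | tmul b' φ =>
      rw [TensorProduct.smul_tmul', Phi_tmul, Phi_tmul, smul_eq_mul, smul_eq_mul,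
        Algebra.mul_smul_comm]
    | add x₁ x₂ h₁ h₂ =>
      rw [smul_add, map_add, LinearMap.add_apply, h₁, h₂, map_add, LinearMap.add_apply, smul_add]

theorem evAt_apply (m₀ : M) (x : B ⊗[k] Module.Dual k M) : evAt k B M m₀ x = Phi k B M x m₀ := rfl

theorem rTensor_evAt (m₀ : M) (t : (B ⊗[k] Module.Dual k M) ⊗[k] A) :
    ((evAt k B M m₀).restrictScalars k).rTensor A t = Psi k A B M t m₀ := by
  induction t using TensorProduct.induction_on with
  | zero => simp
  | tmul x a =>
    induction x using TensorProduct.induction_on with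
    | zero => simp
    | tmul b φ =>
      simp [evAt_apply, TensorProduct.smul_tmul']
    | add x₁ x₂ h₁ h₂ =>
      simp only [TensorProduct.add_tmul, map_add, LinearMap.add_apply, h₁, h₂]
  | add t₁ t₂ h₁ h₂ => simp only [map_add, LinearMap.add_apply, h₁, h₂]

end Main

section Final

variable (k : Type u) [CommRing k] (A : Type v) [CommRing A] [HopfAlgebra k A]
  [Module.Finite k A] [Module.Projective k A]
  (B : Type w) [CommRing B] [Algebra k B] [cB : HopfRep.Comod k A B] [GLin.IsCoactAlg k A B]

/-- **exactness of invariants on a single surjection of Hopf modules gives a total integral** -/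
theorem exists_totalIntegral
    (hexact : ∀ (d : HopfRep.Comod k A (Module.Dual k A)),
      ComodTens.Comod.IsDual (HopfRep.Comod.regular k A) d →
      ∀ (f : B ⊗[k] Module.Dual k A →ₗ[B] B),
      (cB.coact ∘ₗ (f.restrictScalars k) =
        (f.restrictScalars k).rTensor A ∘ₗ (ComodTens.Comod.tensor cB d).coact) →
      Function.Surjective f →
      ∀ n : B, cB.coact n = n ⊗ₜ[k] (1 : A) →
        ∃ m : B ⊗[k] Module.Dual k A,
          (ComodTens.Comod.tensor cB d).coact m = m ⊗ₜ[k] (1 : A) ∧ f m = n) :
    ∃ α : A →ₗ[k] B, Hoch.IsComodHom A α ∧ α 1 = 1 := by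
  obtain ⟨d, hd⟩ := Groth.Agent.Helper8.ComodDualAux.exists_isDual (HopfRep.Comod.regular k A)
  have hcom : cB.coact ∘ₗ ((evAt k B A (1 : A)).restrictScalars k) =
      ((evAt k B A (1 : A)).restrictScalars k).rTensor A ∘ₗ
        (ComodTens.Comod.tensor cB d).coact := by
    apply LinearMap.ext
    intro x
    simp only [LinearMap.comp_apply]
    rw [rTensor_evAt, Psi_coact cB (HopfRep.Comod.regular k A) d hd]
    have h1 : (HopfRep.Comod.regular k A).coact (1 : A) = (1 : A) ⊗ₜ[k] (1 : A) := by
      show CoalgebraStruct.comul (R := k) (1 : A) = _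
      rw [Bialgebra.comul_one]; rfl
    rw [h1, Th_tmul, HopfAlgebra.antipode_one, RA_one]
    rfl
  have hsurj : Function.Surjective (evAt k B A (1 : A)) := by
    intro b
    refine ⟨b ⊗ₜ[k] (CoalgebraStruct.counit (R := k) (A := A)), ?_⟩
    rw [evAt_apply, Phi_tmul, Bialgebra.counit_one, one_smul]
  have hone : cB.coact (1 : B) = (1 : B) ⊗ₜ[k] (1 : A) := by
    rw [GLin.IsCoactAlg.coact_one (k := k)]; rfl
  obtain ⟨m, hm, hfm⟩ := hexact d hd (evAt k B A (1 : A)) hcom hsurj 1 hone
  refine ⟨Phi k B A m, ?_, hfm⟩
  exact isComodHom_Phi_of_fixed cB (HopfRep.Comod.regular k A) d hd m hm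

end Final

end Groth.Agent.Helper7.TotInt
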