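import Mathlib
import Groth.Prelude.Def_Formal2

/-! lim and lim¹ of an eventually-zero tower vanish. -/

universe u

namespace Groth.Agent.Helper7.TowerZero

variable (G : ℕ → Type u) [∀ n, AddCommGroup (G n)] (t : ∀ n, G (n + 1) →+ G n)

/-- composite transition map `G N → G m` for `m ≤ N` -/
def T (m : ℕ) : ∀ {N : ℕ}, m ≤ N → (G N →+ G m) :=
  Nat.leRec (motive := fun N _ => G N →+ G m) (AddMonoidHom.id _) (fun k _ ih => ih.comp (t k))

lemma T_self (m : ℕ) : T G t m (le_refl m) = AddMonoidHom.id _ := Nat.leRec_self _ _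

lemma T_succ (m N : ℕ) (h1 : m ≤ N) (h2 : m ≤ N + 1) :
    T G t m h2 = (T G t m h1).comp (t N) := Nat.leRec_succ _ _ h1

lemma T_left (m : ℕ) : ∀ (N : ℕ) (h : m + 1 ≤ N),
    T G t m (Nat.le_of_succ_le h) = (t m).comp (T G t (m + 1) h) := by
  intro N h
  induction N, h using Nat.le_induction with
  | base =>
    rw [T_succ G t m m (le_refl m), T_self, T_self]
    rfl
  | succ N hN ih =>
    rw [T_succ G t m N (Nat.le_of_succ_le hN), ih, T_succ G t (m + 1) N hN, AddMonoidHom.comp_assoc]

theorem main
    (h : ∀ i : ℕ, ∃ j : ℕ, i ≤ j ∧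
      ∀ x : ∀ n, G n, (∀ n, i ≤ n → n < j → x n = t n (x (n + 1))) → x i = 0) :
    Formal2.limZero G t = ⊥ ∧ Function.Surjective (Formal2.towerDiff G t) := by
  classical
  constructor
  · rw [eq_bot_iff]
    intro x hx
    rw [AddSubgroup.mem_bot]
    have hx' : ∀ n, x n - t n (x (n + 1)) = 0 := fun n => congrFun hx n
    funext i
    obtain ⟨j, -, hj⟩ := h i
    exact hj x fun n _ _ => sub_eq_zero.1 (hx' n)
  · choose J hJ1 hJ2 using h
    -- vanishing of long composites
    have hvan : ∀ (n N : ℕ) (hN : J n ≤ N) (z : G N), T G t n ((hJ1 n).trans hN) z = 0 := by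
      intro n N hN z
      let x : ∀ m, G m := fun m => if hm : m ≤ N then T G t m hm z else 0
      have hxn : x n = T G t n ((hJ1 n).trans hN) z := dif_pos _
      rw [← hxn]
      apply hJ2 n x
      intro m _ hmj
      have hm1 : m + 1 ≤ N := hmj.trans_le hN
      have e1 : x m = T G t m (Nat.le_of_succ_le hm1) z := dif_pos _
      have e2 : x (m + 1) = T G t (m + 1) hm1 z := dif_pos _
      rw [e1, e2, T_left G t m N hm1]
      rfl
    intro y
    let S : ∀ n k : ℕ, G n := fun n k => if hk : n ≤ k then T G t n hk (y k) else 0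
    have hS0 : ∀ n k, J n ≤ k → S n k = 0 := by
      intro n k hk
      have : S n k = T G t n ((hJ1 n).trans hk) (y k) := dif_pos _
      rw [this]
      exact hvan n k hk _
    have hsum : ∀ n K, J n ≤ K → ∑ k ∈ Finset.range K, S n k = ∑ k ∈ Finset.range (J n), S n k := by
      intro n K hK
      symm
      apply Finset.sum_subset (Finset.range_mono hK)
      intro k _ hk
      rw [Finset.mem_range, not_lt] at hk
      exact hS0 n k hk
    refine ⟨fun n => ∑ k ∈ Finset.range (J n), S n k, ?_⟩
    funext n
    show (∑ k ∈ Finset.range (J n), S n k) - t n (∑ k ∈ Finset.range (J (n + 1)), S (n + 1) k) = y n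
    set K := max (J n) (J (n + 1)) + n + 1 with hK
    rw [← hsum n K (by omega), ← hsum (n + 1) K (by omega), map_sum, ← Finset.sum_sub_distrib]
    have hterm : ∀ k ∈ Finset.range K, S n k - t n (S (n + 1) k) = if k = n then y n else 0 := by
      intro k _
      rcases lt_trichotomy k n with hlt | rfl | hgt
      · have e1 : S n k = 0 := dif_neg (by omega)
        have e2 : S (n + 1) k = 0 := dif_neg (by omega)
        rw [e1, e2, map_zero, sub_zero, if_neg (by omega)]
      · have e1 : S k k = T G t k (le_refl k) (y k) := dif_pos _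
        have e2 : S (k + 1) k = 0 := dif_neg (by omega)
        rw [e1, e2, map_zero, sub_zero, if_pos rfl, T_self]
        rfl
      · have hk1 : n + 1 ≤ k := hgt
        have e1 : S n k = T G t n (Nat.le_of_succ_le hk1) (y k) := dif_pos _
        have e2 : S (n + 1) k = T G t (n + 1) hk1 (y k) := dif_pos _
        rw [e1, e2, T_left G t n k hk1, if_neg (by omega)]
        exact sub_self _
    rw [Finset.sum_congr rfl hterm, Finset.sum_ite_eq', if_pos (Finset.mem_range.2 (by omega))]

end Groth.Agent.Helper7.TowerZero
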