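import Mathlib

set_option autoImplicit false
universe u

namespace Groth.Agent.Helper7.TrAvoid

theorem exists_transcendental_mem {R : Type u} [CommRing R] (P : Ideal R) [P.IsPrime]
    (k : Subfield P.ResidueField) (hk : ¬ Algebra.IsAlgebraic ↥k P.ResidueField)
    (J : Ideal R) (hJ : ¬ J ≤ P) :
    ∃ x ∈ J, Transcendental ↥k (algebraMap R P.ResidueField x) := by
  have hk' : ∃ t : P.ResidueField, Transcendental ↥k t := by
    by_contra h
    push Not at h
    exact hk ⟨fun t => by simpa [Transcendental] using h t⟩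
  obtain ⟨t, ht⟩ := hk'
  obtain ⟨a, s, -, hts⟩ := IsFractionRing.div_surjective (A := R ⧸ P) t
  obtain ⟨a, rfl⟩ := Ideal.Quotient.mk_surjective a
  obtain ⟨s', rfl⟩ := Ideal.Quotient.mk_surjective s
  rw [Ideal.algebraMap_quotient_residueField_mk,
    Ideal.algebraMap_quotient_residueField_mk] at hts
  obtain ⟨y, hyJ, hyP⟩ := SetLike.not_le_iff_exists.1 hJ
  have hy0 : algebraMap R P.ResidueField y ≠ 0 := fun h =>
    hyP (Ideal.algebraMap_residueField_eq_zero.1 h)
  by_contra hcon
  push Not at hcon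
  have halg : ∀ x ∈ J, IsAlgebraic ↥k (algebraMap R P.ResidueField x) := fun x hx => by
    simpa [Transcendental] using hcon x hx
  have h1 := halg y hyJ
  have h2 := halg (y * a) (J.mul_mem_right _ hyJ)
  have h3 := halg (y * s') (J.mul_mem_right _ hyJ)
  rw [map_mul] at h2 h3
  have ha : IsAlgebraic ↥k (algebraMap R P.ResidueField a) := by
    have := (IsAlgebraic.inv_iff.2 h1).mul h2
    rwa [inv_mul_cancel_left₀ hy0] at this
  have hs : IsAlgebraic ↥k (algebraMap R P.ResidueField s') := by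
    have := (IsAlgebraic.inv_iff.2 h1).mul h3
    rwa [inv_mul_cancel_left₀ hy0] at this
  apply ht
  rw [← hts, div_eq_mul_inv]
  exact ha.mul (IsAlgebraic.inv_iff.2 hs)

theorem result1484 {R : Type u} [CommRing R] {r : ℕ} (p : Fin r → Ideal R) [∀ i, (p i).IsPrime]
    (hp : ∀ i j, i ≠ j → ¬ p i ≤ p j) (k : ∀ i, Subfield (p i).ResidueField)
    (hk : ∀ i, ¬ Algebra.IsAlgebraic ↥(k i) (p i).ResidueField) (J : Ideal R) (hJ : ∀ i, ¬ J ≤ p i) :
    ∃ x ∈ J, ∀ i, Transcendental ↥(k i) (algebraMap R (p i).ResidueField x) := by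
  classical
  have hJi : ∀ i, ¬ (J * ∏ j ∈ Finset.univ.erase i, p j) ≤ p i := by
    intro i h
    rcases (Ideal.IsPrime.mul_le inferInstance).1 h with h1 | h1
    · exact hJ i h1
    · obtain ⟨j, hj, hle⟩ := (Ideal.IsPrime.prod_le inferInstance).1 h1
      exact hp j i (Finset.ne_of_mem_erase hj) hle
  have hex : ∀ i, ∃ x ∈ J * ∏ j ∈ Finset.univ.erase i, p j,
      Transcendental ↥(k i) (algebraMap R (p i).ResidueField x) := fun i =>
    exists_transcendental_mem (p i) (k i) (hk i) _ (hJi i)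
  choose x hxJ hx using hex
  have hxJ' : ∀ i, x i ∈ J := fun i =>
    (Ideal.mul_le_left : J * ∏ j ∈ Finset.univ.erase i, p j ≤ J) (hxJ i)
  have hxp : ∀ i j, j ≠ i → x j ∈ p i := by
    intro i j hji
    have h1 : x j ∈ ∏ l ∈ Finset.univ.erase j, p l :=
      (Ideal.mul_le_right : J * ∏ l ∈ Finset.univ.erase j, p l ≤ _) (hxJ j)
    have h2 : ∏ l ∈ Finset.univ.erase j, p l ≤ p i :=
      Ideal.prod_le_inf.trans (Finset.inf_le (Finset.mem_erase.2 ⟨hji.symm, Finset.mem_univ i⟩))
    exact h2 h1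
  refine ⟨∑ i, x i, Ideal.sum_mem _ fun i _ => hxJ' i, ?_⟩
  intro i
  have h3 : algebraMap R (p i).ResidueField (∑ j, x j) = algebraMap R (p i).ResidueField (x i) := by
    rw [map_sum]
    apply Finset.sum_eq_single i
    · intro j _ hji
      exact Ideal.algebraMap_residueField_eq_zero.2 (hxp i j hji)
    · intro h; exact absurd (Finset.mem_univ i) h
  rw [h3]; exact hx i

end Groth.Agent.Helper7.TrAvoid
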