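import Mathlib
import Groth.Prelude.Def_QFDual
import Groth.Prelude.Def_EGA4b

set_option linter.style.haveILetI false
set_option linter.unusedSectionVars false

namespace Groth.Agent.Helper7.TrInt

open Polynomial TensorProduct

universe u v w

/-- Over an algebraically closed field: the trace of an endomorphism killed by a monic polynomial
with coefficients in `R` is integral over `R`. -/
theorem isIntegral_trace_algClosed {R : Type u} [CommRing R] {Ω : Type v} [Field Ω] [IsAlgClosed Ω]
    [Algebra R Ω] {V : Type w} [AddCommGroup V] [Module Ω V] [Module.Finite Ω V]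
    (f : Module.End Ω V) (g : R[X]) (hg : g.Monic)
    (h : Polynomial.aeval f (g.map (algebraMap R Ω)) = 0) :
    IsIntegral R (LinearMap.trace Ω V f) := by
  rw [Module.End.trace_eq_sum_roots_charpoly_of_splits (IsAlgClosed.splits _)]
  refine IsIntegral.multiset_sum ?_
  intro μ hμ
  have hroot : f.charpoly.IsRoot μ := (Polynomial.mem_roots'.mp hμ).2
  have hev : f.HasEigenvalue μ := (Module.End.hasEigenvalue_iff_isRoot_charpoly f μ).mpr hroot
  have hmin : (minpoly Ω f).IsRoot μ := Module.End.isRoot_of_hasEigenvalue hev
  have hdvd : minpoly Ω f ∣ g.map (algebraMap R Ω) := minpoly.dvd Ω f h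
  have h0 : (g.map (algebraMap R Ω)).IsRoot μ := hmin.dvd hdvd
  refine ⟨g, hg, ?_⟩
  rw [Polynomial.IsRoot.def, Polynomial.eval_map] at h0
  exact h0

/-- Over a field: the trace of an endomorphism killed by a monic polynomial
with coefficients in `R` is integral over `R`. -/
theorem isIntegral_trace_field {R : Type u} [CommRing R] {F : Type v} [Field F]
    [Algebra R F] {V : Type w} [AddCommGroup V] [Module F V] [Module.Finite F V]
    (f : Module.End F V) (g : R[X]) (hg : g.Monic)
    (h : Polynomial.aeval f (g.map (algebraMap R F)) = 0) :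
    IsIntegral R (LinearMap.trace F V f) := by
  let Ω := AlgebraicClosure F
  have key : IsIntegral R (LinearMap.trace Ω (Ω ⊗[F] V) (f.baseChange Ω)) := by
    refine isIntegral_trace_algClosed (R := R) (f.baseChange Ω) g hg ?_
    have e1 : g.map (algebraMap R Ω) = (g.map (algebraMap R F)).map (algebraMap F Ω) := by
      rw [Polynomial.map_map, ← IsScalarTower.algebraMap_eq]
    rw [e1, Polynomial.aeval_map_algebraMap]
    have e2 : f.baseChange Ω = Module.End.baseChangeHom F Ω V f := rfl
    rw [e2, Polynomial.aeval_algHom_apply, h, map_zero]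
  rw [LinearMap.trace_baseChange] at key
  exact (isIntegral_algebraMap_iff (algebraMap F Ω).injective).mp key

/-- base change of the trace along a ring map `K → F` to a field, for an integral element. -/
theorem isIntegral_map_trace {A K L : Type u} [CommRing A] [CommRing K] [CommRing L]
    [Algebra A K] [Algebra K L] [Algebra A L] [IsScalarTower A K L]
    [Module.Free K L] [Module.Finite K L]
    {F : Type u} [Field F] [Algebra A F] [Algebra K F] [IsScalarTower A K F]
    (y : L) (hy : IsIntegral A y) :
    IsIntegral A (algebraMap K F (Algebra.trace K L y)) := by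
  obtain ⟨g, hg, hgy⟩ := hy
  let Ψ : L →ₐ[K] Module.End F (F ⊗[K] L) :=
    (Module.End.baseChangeHom K F L).comp (Algebra.lmul K L)
  have hΨ : Ψ y = (Algebra.lmul K L y).baseChange F := rfl
  have key : IsIntegral A (LinearMap.trace F (F ⊗[K] L) (Ψ y)) := by
    refine isIntegral_trace_field (R := A) (Ψ y) g hg ?_
    have hcomp : ((Ψ : L →+* Module.End F (F ⊗[K] L))).comp (algebraMap A L) =
        (algebraMap F (Module.End F (F ⊗[K] L))).comp (algebraMap A F) := by
      ext a : 1
      rw [RingHom.comp_apply, RingHom.comp_apply, IsScalarTower.algebraMap_apply A K L,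
        IsScalarTower.algebraMap_apply A K F]
      have : (Ψ : L →+* Module.End F (F ⊗[K] L)) (algebraMap K L (algebraMap A K a)) =
          algebraMap K (Module.End F (F ⊗[K] L)) (algebraMap A K a) := Ψ.commutes _
      rw [this]
      apply LinearMap.ext
      intro v
      rw [Module.algebraMap_end_apply, Module.algebraMap_end_apply]
      exact (algebraMap_smul F _ v).symm
    rw [Polynomial.aeval_def, Polynomial.eval₂_map, ← hcomp]
    have h2 := Polynomial.hom_eval₂ g (algebraMap A L) (Ψ : L →+* Module.End F (F ⊗[K] L)) y
    rw [hgy, map_zero] at h2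
    exact h2.symm
  rw [hΨ, LinearMap.trace_baseChange] at key
  rw [Algebra.trace_apply]
  exact key

/-- For a normal ring `A` with total ring of fractions `K`, the trace of an `A`-integral element of
a finite free `K`-algebra lies in `A`. -/
theorem trace_mem_range {A K L : Type u} [CommRing A] [CommRing K] [CommRing L]
    [Algebra A K] [Algebra K L] [Algebra A L] [IsScalarTower A K L]
    [Module.Free K L] [Module.Finite K L] [IsFractionRing A K]
    (hA : EGA4.IsNormalRing A) (y : L) (hy : IsIntegral A y) :
    Algebra.trace K L y ∈ (algebraMap A K).range := by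
  set x := Algebra.trace K L y with hx
  -- the denominator ideal
  let D : Ideal A :=
    { carrier := {d | algebraMap A K d * x ∈ (algebraMap A K).range}
      zero_mem' := by simp
      add_mem' := fun {a b} ha hb => by
        simp only [Set.mem_ofPred_eq] at ha hb ⊢
        rw [map_add, add_mul]
        exact Subring.add_mem _ ha hb
      smul_mem' := fun c a ha => by
        simp only [Set.mem_ofPred_eq] at ha ⊢
        rw [smul_eq_mul, map_mul, mul_assoc]
        exact Subring.mul_mem _ ⟨c, rfl⟩ ha }
  suffices hD : D = ⊤ by
    have h1 : (1 : A) ∈ D := by rw [hD]; trivial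
    have h2 : algebraMap A K 1 * x ∈ (algebraMap A K).range := h1
    rwa [map_one, one_mul] at h2
  by_contra hne
  obtain ⟨m, hm, hDm⟩ := Ideal.exists_le_maximal D hne
  haveI : m.IsPrime := hm.isPrime
  obtain ⟨hdom, hic⟩ := hA m
  let Ap := Localization.AtPrime m
  let F := FractionRing Ap
  have hunit : ∀ s : nonZeroDivisors A, IsUnit (algebraMap A F s) := by
    intro s
    have h1 : algebraMap A Ap s ≠ 0 := by
      intro h0
      rw [IsLocalization.map_eq_zero_iff m.primeCompl] at h0
      obtain ⟨t, ht⟩ := h0
      have : (t : A) = 0 := by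
        have := s.2
        rw [mem_nonZeroDivisors_iff] at this
        exact this.2 _ ht
      exact t.2 (this ▸ m.zero_mem)
    rw [IsScalarTower.algebraMap_apply A Ap F]
    have h2 : algebraMap Ap F (algebraMap A Ap s) ≠ 0 := by
      intro h0
      exact h1 ((IsFractionRing.injective Ap F) (by rw [h0, map_zero]))
    exact isUnit_iff_ne_zero.mpr h2
  let φ : K →+* F := IsLocalization.lift (M := nonZeroDivisors A) (g := algebraMap A F) hunit
  letI : Algebra K F := φ.toAlgebra
  haveI : IsScalarTower A K F := IsScalarTower.of_algebraMap_eq (fun a => by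
    change algebraMap A F a = φ (algebraMap A K a)
    rw [IsLocalization.lift_eq])
  have hint : IsIntegral A (algebraMap K F x) := isIntegral_map_trace y hy
  have hint' : IsIntegral Ap (algebraMap K F x) := hint.tower_top
  obtain ⟨z, hz⟩ := (IsIntegrallyClosed.isIntegral_iff (R := Ap) (K := F)).mp hint'
  -- write z = a'/t and x = a/s
  obtain ⟨⟨a', t⟩, hzt⟩ := IsLocalization.surj m.primeCompl z
  obtain ⟨⟨a, s⟩, hxs⟩ := IsLocalization.surj (nonZeroDivisors A) x
  simp only at hzt hxs
  -- in Ap : a * t = a' * s
  have hAp : algebraMap A Ap (a * t) = algebraMap A Ap (a' * s) := by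
    apply IsFractionRing.injective Ap F
    rw [← IsScalarTower.algebraMap_apply A Ap F, ← IsScalarTower.algebraMap_apply A Ap F]
    have e1 : algebraMap A F a = algebraMap K F x * algebraMap A F s := by
      rw [IsScalarTower.algebraMap_apply A K F, ← hxs, map_mul,
        ← IsScalarTower.algebraMap_apply A K F]
    have e2 : algebraMap A F a' = algebraMap K F x * algebraMap A F t := by
      rw [IsScalarTower.algebraMap_apply A Ap F, ← hzt, map_mul, hz,
        ← IsScalarTower.algebraMap_apply A Ap F]
    rw [map_mul, map_mul, e1, e2]
    ring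
  rw [IsLocalization.eq_iff_exists m.primeCompl] at hAp
  obtain ⟨c, hc⟩ := hAp
  have hmem : (c : A) * t ∈ D := by
    change algebraMap A K (c * t) * x ∈ (algebraMap A K).range
    refine ⟨c * a', ?_⟩
    have hsu : IsUnit (algebraMap A K s) := IsLocalization.map_units K s
    apply hsu.mul_right_cancel
    calc algebraMap A K (c * a') * algebraMap A K s = algebraMap A K (c * (a' * s)) := by
          rw [← map_mul]; ring_nf
      _ = algebraMap A K (c * (a * t)) := by rw [hc]
      _ = algebraMap A K (c * t) * (x * algebraMap A K s) := by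
          rw [hxs, ← map_mul]; ring_nf
      _ = algebraMap A K (c * t) * x * algebraMap A K s := by ring
  have : (c : A) * t ∈ m := hDm hmem
  rcases (Ideal.IsPrime.mem_or_mem ‹m.IsPrime› this) with h | h
  · exact c.2 h
  · exact t.2 h

end Groth.Agent.Helper7.TrInt
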