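import Mathlib
import Groth.Agent.Helper7.CCvE

/-!
# TrPA: derivations on `R[x]/(x^p - a)` in characteristic `p`
-/

set_option autoImplicit false
universe u
open Polynomial

namespace Groth.Agent.Helper7.TrP

section Der

variable (p : ℕ) [hp : Fact p.Prime] {Λ R : Type u} [CommRing Λ] [CommRing R] [Algebra Λ R]
  [CharP R p] (a : R)
  {N : Type u} [AddCommGroup N] [Module Λ N] [Module R N]
  [Module (AdjoinRoot (X ^ p - C a : R[X])) N]
  [IsScalarTower R (AdjoinRoot (X ^ p - C a : R[X])) N]
  [IsScalarTower Λ (AdjoinRoot (X ^ p - C a : R[X])) N]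
  (d : Derivation Λ R N) (hd : d a = 0) (nx : N)

local notation "S" => AdjoinRoot (X ^ p - C a : R[X])

theorem natCast_p_eq_zero : ((p : ℕ) : S) = 0 := by
  have h : ((p : ℕ) : R) = 0 := CharP.cast_eq_zero R p
  have h2 := congrArg (algebraMap R S) h
  rwa [map_natCast, map_zero] at h2

theorem root_pow_p : (AdjoinRoot.root (X ^ p - C a : R[X])) ^ p = AdjoinRoot.of _ a := by
  have h3 : AdjoinRoot.mk (X ^ p - C a : R[X]) (X ^ p - C a) = 0 := AdjoinRoot.mk_self
  rw [map_sub, map_pow, AdjoinRoot.mk_X, sub_eq_zero] at h3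
  exact h3

include hd in
theorem exists_derivation :
    ∃ D : Derivation Λ S N, (∀ r, D (AdjoinRoot.of _ r) = d r) ∧ D (AdjoinRoot.root _) = nx := by
  letI : Module Sᵐᵒᵖ N := Module.compHom N ((RingEquiv.toOpposite S).symm : Sᵐᵒᵖ →+* S)
  haveI : IsCentralScalar S N := ⟨fun _ _ => rfl⟩
  have hsm : ∀ (r : R) (n : N), (AdjoinRoot.of (X ^ p - C a : R[X]) r) • n = r • n := by
    intro r n
    exact algebraMap_smul S r n
  -- the ring hom `R → S ⊕ N ε`
  let φR : R →+* TrivSqZeroExt S N :=
    { toFun := fun r => (AdjoinRoot.of _ r, d r)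
      map_one' := by
        apply TrivSqZeroExt.ext
        · simp
        · simp
      map_mul' := by
        intro r r'
        apply TrivSqZeroExt.ext
        · simp
        · simp only [TrivSqZeroExt.snd_mul, TrivSqZeroExt.snd_mk, TrivSqZeroExt.fst_mk,
            Derivation.leibniz, op_smul_eq_smul, hsm]
      map_zero' := by
        apply TrivSqZeroExt.ext
        · simp
        · simp
      map_add' := by
        intro r r'
        apply TrivSqZeroExt.ext
        · simp
        · simp }
  let X₀ : TrivSqZeroExt S N := (AdjoinRoot.root _, nx)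
  have hX₀ : X₀ ^ p = TrivSqZeroExt.inl (AdjoinRoot.of _ a) := by
    apply TrivSqZeroExt.ext
    · rw [TrivSqZeroExt.fst_pow, TrivSqZeroExt.fst_inl]
      exact root_pow_p p a
    · rw [TrivSqZeroExt.snd_pow, TrivSqZeroExt.snd_inl, ← Nat.cast_smul_eq_nsmul S,
        natCast_p_eq_zero, zero_smul]
  have hev : (X ^ p - C a : R[X]).eval₂ φR X₀ = 0 := by
    rw [eval₂_sub, eval₂_pow, eval₂_X, eval₂_C, hX₀]
    apply TrivSqZeroExt.ext
    · simp [φR]
    · simp [φR, hd]
  let Φ : S →+* TrivSqZeroExt S N := AdjoinRoot.lift φR X₀ hev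
  have hΦof : ∀ r, Φ (AdjoinRoot.of _ r) = (AdjoinRoot.of _ r, d r) := fun r => AdjoinRoot.lift_of hev
  have hΦroot : Φ (AdjoinRoot.root _) = X₀ := AdjoinRoot.lift_root hev
  have hfst : ∀ s, (Φ s).fst = s := by
    intro s
    have : (TrivSqZeroExt.fstHom S S N : TrivSqZeroExt S N →+* S).comp Φ = RingHom.id S := by
      apply Groth.Agent.Helper7.CCv.adj_ringHom_ext
      · intro r
        rw [RingHom.comp_apply, hΦof]
        rfl
      · rw [RingHom.comp_apply, hΦroot]
        rfl
    exact RingHom.congr_fun this s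
  -- the derivation
  let D0 : S →+ N :=
    { toFun := fun s => (Φ s).snd
      map_zero' := by simp
      map_add' := by intro s s'; simp }
  have hleib : ∀ s s', D0 (s * s') = s • D0 s' + s' • D0 s := by
    intro s s'
    show (Φ (s * s')).snd = s • (Φ s').snd + s' • (Φ s).snd
    rw [map_mul, TrivSqZeroExt.snd_mul, hfst, hfst, op_smul_eq_smul]
  have hD0of : ∀ r, D0 (AdjoinRoot.of _ r) = d r := by
    intro r
    show (Φ (AdjoinRoot.of _ r)).snd = d r
    rw [hΦof]
    rfl
  have hlin : ∀ (l : Λ) (s : S), D0 (l • s) = l • D0 s := by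
    intro l s
    have h1 : l • s = AdjoinRoot.of (X ^ p - C a : R[X]) (algebraMap Λ R l) * s := by
      rw [Algebra.smul_def]
      rfl
    rw [h1, hleib, hD0of, Derivation.map_algebraMap, smul_zero, add_zero]
    have : AdjoinRoot.of (X ^ p - C a : R[X]) (algebraMap Λ R l) = algebraMap Λ S l := rfl
    rw [this, algebraMap_smul]
  let DL : S →ₗ[Λ] N := { D0 with map_smul' := hlin }
  refine ⟨Derivation.mk' DL hleib, hD0of, ?_⟩
  show (Φ (AdjoinRoot.root _)).snd = nx
  rw [hΦroot]
  rfl

end Der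

end Groth.Agent.Helper7.TrP
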