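import Mathlib

/-!
# TrPB: linear maps out of the exterior power of a quotient module
-/

set_option autoImplicit false
universe u
open exteriorPower

namespace Groth.Agent.Helper7.TrP

section LiftQuot

variable {A : Type u} [CommRing A] {M X : Type u} [AddCommGroup M] [Module A M]
  [AddCommGroup X] [Module A X] (K : Submodule A M) (n : ℕ) (G : M [⋀^Fin n]→ₗ[A] X)
  (hG : ∀ v : Fin n → M, (∃ i, v i ∈ K) → G v = 0)

include hG in
theorem G_update_add (v : Fin n → M) (i : Fin n) (k : M) (hk : k ∈ K) :
    G (Function.update v i (v i + k)) = G v := by
  classical
  rw [AlternatingMap.map_update_add, Function.update_eq_self,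
    hG (Function.update v i k) ⟨i, by rw [Function.update_self]; exact hk⟩, add_zero]

include hG in
theorem G_congr (v v' : Fin n → M) (h : ∀ i, v' i - v i ∈ K) : G v' = G v := by
  classical
  have key : ∀ s : Finset (Fin n), G (fun i => if i ∈ s then v' i else v i) = G v := by
    intro s
    induction s using Finset.induction_on with
    | empty => simp
    | insert a s ha ih =>
      have h1 : (fun i => if i ∈ insert a s then v' i else v i) =
          Function.update (fun i => if i ∈ s then v' i else v i) a
            ((fun i => if i ∈ s then v' i else v i) a + (v' a - v a)) := by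
        funext i
        by_cases hia : i = a
        · subst hia
          simp [ha]
        · rw [Function.update_of_ne hia]
          simp [hia]
      rw [h1, G_update_add K n G hG _ a _ (h a), ih]
  have := key Finset.univ
  simpa using this

include hG in
/-- an alternating map vanishing as soon as one entry lies in `K` descends to the quotient -/
theorem exists_lift_quot :
    ∃ Gbar : (M ⧸ K) [⋀^Fin n]→ₗ[A] X, ∀ v : Fin n → M, Gbar (fun i => K.mkQ (v i)) = G v := by
  classical
  let σ : M ⧸ K → M := Function.surjInv K.mkQ_surjective
  have hσ : ∀ y, K.mkQ (σ y) = y := Function.surjInv_eq K.mkQ_surjective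
  have hker : ∀ m : M, K.mkQ m = 0 → m ∈ K := by
    intro m h
    rwa [← LinearMap.mem_ker, Submodule.ker_mkQ] at h
  have hσadd : ∀ y y', σ (y + y') - (σ y + σ y') ∈ K := by
    intro y y'
    apply hker
    rw [map_sub, map_add, hσ, hσ, hσ, sub_self]
  have hσsmul : ∀ (c : A) y, σ (c • y) - c • σ y ∈ K := by
    intro c y
    apply hker
    rw [map_sub, map_smul, hσ, hσ, sub_self]
  have hσmk : ∀ m, σ (K.mkQ m) - m ∈ K := by
    intro m
    apply hker
    rw [map_sub, hσ, sub_self]
  refine ⟨{ toFun := fun w => G (fun i => σ (w i))
            map_update_add' := ?_
            map_update_smul' := ?_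
            map_eq_zero_of_eq' := ?_ }, ?_⟩
  · intro _ w i x y
    have e1 : ∀ z, (fun j => σ (Function.update w i z j)) =
        Function.update (fun j => σ (w j)) i (σ z) := by
      intro z
      funext j
      by_cases hj : j = i
      · subst hj; simp
      · simp [Function.update_of_ne hj]
    rw [e1, e1, e1]
    have e2 : G (Function.update (fun j => σ (w j)) i (σ (x + y))) =
        G (Function.update (fun j => σ (w j)) i (σ x + σ y)) := by
      apply G_congr K n G hG
      intro j
      by_cases hj : j = i
      · subst hj
        simp only [Function.update_self]
        exact hσadd x y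
      · simp [Function.update_of_ne hj]
    rw [e2, AlternatingMap.map_update_add]
  · intro _ w i c x
    have e1 : ∀ z, (fun j => σ (Function.update w i z j)) =
        Function.update (fun j => σ (w j)) i (σ z) := by
      intro z
      funext j
      by_cases hj : j = i
      · subst hj; simp
      · simp [Function.update_of_ne hj]
    rw [e1, e1]
    have e2 : G (Function.update (fun j => σ (w j)) i (σ (c • x))) =
        G (Function.update (fun j => σ (w j)) i (c • σ x)) := by
      apply G_congr K n G hG
      intro j
      by_cases hj : j = i
      · subst hj
        simp only [Function.update_self]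
        exact hσsmul c x
      · simp [Function.update_of_ne hj]
    rw [e2, AlternatingMap.map_update_smul]
  · intro w i j hij hne
    exact G.map_eq_zero_of_eq _ (by show σ (w i) = σ (w j); rw [hij]) hne
  · intro v
    show G (fun i => σ (K.mkQ (v i))) = G v
    apply G_congr K n G hG
    intro i
    exact hσmk (v i)

end LiftQuot

end Groth.Agent.Helper7.TrP
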