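import Mathlib

/-!
# TrPC: contraction with a linear form on the graded pieces of the exterior algebra
-/

set_option autoImplicit false
universe u
open exteriorPower

namespace Groth.Agent.Helper7.TrP

section Contract

variable {B : Type u} [CommRing B] {M : Type u} [AddCommGroup M] [Module B M]
  (ε : Module.Dual B M)

/-- contraction with `ε` -/
noncomputable def cl : ExteriorAlgebra B M →ₗ[B] ExteriorAlgebra B M :=
  CliffordAlgebra.contractLeft (Q := (0 : QuadraticForm B M)) ε

theorem cl_ι_mul (m : M) (x : ExteriorAlgebra B M) :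
    cl ε (ExteriorAlgebra.ι B m * x) = ε m • x - ExteriorAlgebra.ι B m * cl ε x :=
  CliffordAlgebra.contractLeft_ι_mul ε m x

theorem cl_algebraMap (a : B) : cl ε (algebraMap B (ExteriorAlgebra B M) a) = 0 :=
  CliffordAlgebra.contractLeft_algebraMap _ ε a

theorem cl_one : cl ε (1 : ExteriorAlgebra B M) = 0 := by
  rw [← map_one (algebraMap B (ExteriorAlgebra B M)), cl_algebraMap]

theorem cl_ι (m : M) : cl ε (ExteriorAlgebra.ι B m) = algebraMap B (ExteriorAlgebra B M) (ε m) :=
  CliffordAlgebra.contractLeft_ι _ ε m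

theorem cl_mem (p : ℕ) {x : ExteriorAlgebra B M} (hx : x ∈ ⋀[B]^(p + 1) M) :
    cl ε x ∈ ⋀[B]^p M := by
  induction p generalizing x with
  | zero =>
    rw [ExteriorAlgebra.exteriorPower, zero_add, pow_one] at hx
    obtain ⟨m, rfl⟩ := hx
    rw [cl_ι, ExteriorAlgebra.exteriorPower, pow_zero, Submodule.mem_one]
    exact ⟨_, rfl⟩
  | succ p ih =>
    rw [ExteriorAlgebra.exteriorPower, pow_succ'] at hx
    refine Submodule.mul_induction_on hx ?_ ?_
    · intro y hy z hz
      obtain ⟨m, rfl⟩ := hy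
      rw [cl_ι_mul]
      refine Submodule.sub_mem _ (Submodule.smul_mem _ _ hz) ?_
      have : (⋀[B]^(p + 1) M : Submodule B (ExteriorAlgebra B M)) =
          ⋀[B]^1 M * ⋀[B]^p M := by
        rw [ExteriorAlgebra.exteriorPower, ExteriorAlgebra.exteriorPower,
          ExteriorAlgebra.exteriorPower, ← pow_add]
        congr 1
        omega
      rw [this]
      refine Submodule.mul_mem_mul ?_ (ih hz)
      rw [ExteriorAlgebra.exteriorPower, pow_one]
      exact LinearMap.mem_range_self _ _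
    · intro y z hy hz
      rw [map_add]; exact Submodule.add_mem _ hy hz

/-- contraction on the graded pieces -/
noncomputable def clp (t : ℕ) : ⋀[B]^(t + 1) M →ₗ[B] ⋀[B]^t M :=
  LinearMap.codRestrict _ ((cl ε).comp (Submodule.subtype _)) (fun x => cl_mem ε t x.2)

theorem coe_clp (t : ℕ) (x : ⋀[B]^(t + 1) M) :
    ((clp ε t x : ⋀[B]^t M) : ExteriorAlgebra B M) = cl ε (x : ExteriorAlgebra B M) := rfl

theorem vecTail_snoc (t : ℕ) (v : Fin (t + 1) → M) (ξ : M) :
    Matrix.vecTail (Fin.snoc v ξ : Fin (t + 2) → M) = Fin.snoc (Matrix.vecTail v) ξ := by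
  funext i
  refine Fin.lastCases ?_ (fun j => ?_) i
  · show (Fin.snoc v ξ : Fin (t + 2) → M) (Fin.last t).succ = _
    rw [Fin.snoc_last, Fin.succ_last, Fin.snoc_last]
  · show (Fin.snoc v ξ : Fin (t + 2) → M) j.castSucc.succ = _
    rw [Fin.snoc_castSucc, ← Fin.castSucc_succ, Fin.snoc_castSucc]
    rfl

theorem snoc_zero (t : ℕ) (v : Fin (t + 1) → M) (ξ : M) :
    (Fin.snoc v ξ : Fin (t + 2) → M) 0 = v 0 := by
  have : (0 : Fin (t + 2)) = Fin.castSucc (0 : Fin (t + 1)) := rfl
  rw [this, Fin.snoc_castSucc]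

/-- contraction of `v_0 ∧ … ∧ v_{t-1} ∧ ξ` when `ε` kills the `v_j` -/
theorem cl_ιMulti_snoc : ∀ (t : ℕ) (v : Fin t → M), (∀ j, ε (v j) = 0) → ∀ ξ : M,
    cl ε (ExteriorAlgebra.ιMulti B (t + 1) (Fin.snoc v ξ)) =
      ((-1) ^ t * ε ξ) • ExteriorAlgebra.ιMulti B t v := by
  intro t
  induction t with
  | zero =>
    intro v _ ξ
    rw [ExteriorAlgebra.ιMulti_succ_apply, ExteriorAlgebra.ιMulti_zero_apply,
      ExteriorAlgebra.ιMulti_zero_apply, mul_one, pow_zero, one_mul, cl_ι, Algebra.smul_def,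
      mul_one]
    congr 2
  | succ t ih =>
    intro v hv ξ
    rw [ExteriorAlgebra.ιMulti_succ_apply, vecTail_snoc, snoc_zero, cl_ι_mul, hv 0, zero_smul,
      zero_sub, ih (Matrix.vecTail v) (fun j => hv j.succ) ξ,
      ExteriorAlgebra.ιMulti_succ_apply (v := v), mul_smul_comm, ← neg_smul, pow_succ]
    congr 1
    ring

/-- contraction of a wedge all of whose factors are killed by `ε` -/
theorem cl_ιMulti_eq_zero : ∀ (t : ℕ) (v : Fin t → M), (∀ j, ε (v j) = 0) →
    cl ε (ExteriorAlgebra.ιMulti B t v) = 0 := by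
  intro t
  induction t with
  | zero =>
    intro v _
    rw [ExteriorAlgebra.ιMulti_zero_apply, cl_one]
  | succ t ih =>
    intro v hv
    rw [ExteriorAlgebra.ιMulti_succ_apply, cl_ι_mul, hv 0, zero_smul, zero_sub,
      ih (Matrix.vecTail v) (fun j => hv j.succ), mul_zero, neg_zero]

theorem ιMulti_snoc_eq_mul (t : ℕ) (v : Fin t → M) (ξ : M) :
    ExteriorAlgebra.ιMulti B (t + 1) (Fin.snoc v ξ) =
      ExteriorAlgebra.ιMulti B t v * ExteriorAlgebra.ι B ξ := by
  induction t with
  | zero =>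
    rw [ExteriorAlgebra.ιMulti_succ_apply, ExteriorAlgebra.ιMulti_zero_apply,
      ExteriorAlgebra.ιMulti_zero_apply, mul_one, one_mul]
    congr 1
  | succ t ih =>
    rw [ExteriorAlgebra.ιMulti_succ_apply, vecTail_snoc, snoc_zero, ih,
      ExteriorAlgebra.ιMulti_succ_apply (v := v), mul_assoc]

end Contract

end Groth.Agent.Helper7.TrP
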