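import Mathlib
import Groth.Agent.Helper7.TrPA
import Groth.Agent.Helper7.TrPB
import Groth.Agent.Helper7.TrPC
import Groth.Agent.Helper7.ExtBC

/-!
# TrPD: the trace on differential forms for `S = R[x]/(x^p - a)` in characteristic `p`
-/

set_option autoImplicit false
universe u
open Polynomial exteriorPower TensorProduct

namespace Groth.Agent.Helper7.TrP

section Forms

variable (p : ℕ) [hp : Fact p.Prime] (Λ R : Type u) [CommRing Λ] [CommRing R] [Algebra Λ R]
  [CharP R p] (a : R)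

local notation "S" => AdjoinRoot (X ^ p - C a : R[X])

/-- `Ω_{R/Λ}` modulo `da` -/
abbrev OmBar : Type u := Ω[R⁄Λ] ⧸ Submodule.span R {KaehlerDifferential.D Λ R a}

/-- `η ↦ 1 ⊗ η̄` -/
noncomputable def gMap : Ω[R⁄Λ] →ₗ[R] S ⊗[R] OmBar Λ R a :=
  (TensorProduct.mk R S (OmBar Λ R a) 1).comp (Submodule.mkQ _)

theorem gMap_apply (η : Ω[R⁄Λ]) :
    gMap p Λ R a η = (1 : S) ⊗ₜ[R] (Submodule.mkQ _ η : OmBar Λ R a) := rfl

theorem gMap_da : gMap p Λ R a (KaehlerDifferential.D Λ R a) = 0 := by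
  rw [gMap_apply]
  have : (Submodule.mkQ (Submodule.span R {KaehlerDifferential.D Λ R a}))
      (KaehlerDifferential.D Λ R a) = 0 := by
    rw [Submodule.mkQ_apply, Submodule.Quotient.mk_eq_zero]
    exact Submodule.mem_span_singleton_self _
  rw [this, tmul_zero]

theorem exists_eps : ∃ Dε : Derivation Λ S S,
    (∀ r, Dε (AdjoinRoot.of _ r) = 0) ∧ Dε (AdjoinRoot.root _) = 1 :=
  exists_derivation p a (0 : Derivation Λ R S) rfl 1

theorem exists_psi : ∃ Dψ : Derivation Λ S (S ⊗[R] OmBar Λ R a),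
    (∀ r, Dψ (AdjoinRoot.of _ r) = gMap p Λ R a (KaehlerDifferential.D Λ R r)) ∧
      Dψ (AdjoinRoot.root _) = 0 :=
  exists_derivation p a ((gMap p Λ R a).compDer (KaehlerDifferential.D Λ R)) (gMap_da p Λ R a) 0

/-- the linear form `∂/∂x` on `Ω_{S/Λ}` -/
noncomputable def eps : Ω[S⁄Λ] →ₗ[S] S :=
  (exists_eps p Λ R a).choose.liftKaehlerDifferential

theorem eps_D_of (r : R) : eps p Λ R a (KaehlerDifferential.D Λ S (AdjoinRoot.of _ r)) = 0 := by
  unfold eps
  rw [Derivation.liftKaehlerDifferential_comp_D]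
  exact (exists_eps p Λ R a).choose_spec.1 r

theorem eps_D_root : eps p Λ R a (KaehlerDifferential.D Λ S (AdjoinRoot.root _)) = 1 := by
  unfold eps
  rw [Derivation.liftKaehlerDifferential_comp_D]
  exact (exists_eps p Λ R a).choose_spec.2

/-- the projection `Ω_{S/Λ} → S ⊗ Ω_{R/Λ}/(da)` -/
noncomputable def psi : Ω[S⁄Λ] →ₗ[S] S ⊗[R] OmBar Λ R a :=
  (exists_psi p Λ R a).choose.liftKaehlerDifferential

theorem psi_D_of (r : R) : psi p Λ R a (KaehlerDifferential.D Λ S (AdjoinRoot.of _ r)) =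
    gMap p Λ R a (KaehlerDifferential.D Λ R r) := by
  unfold psi
  rw [Derivation.liftKaehlerDifferential_comp_D]
  exact (exists_psi p Λ R a).choose_spec.1 r

/-- the pull-back of forms -/
noncomputable abbrev can : Ω[R⁄Λ] →ₗ[R] Ω[S⁄Λ] := KaehlerDifferential.map Λ Λ R S

theorem eps_can (η : Ω[R⁄Λ]) : eps p Λ R a (can p Λ R a η) = 0 := by
  have h : ((eps p Λ R a).restrictScalars R).comp (can p Λ R a) = 0 := by
    apply Derivation.liftKaehlerDifferential_unique
    ext r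
    show eps p Λ R a (can p Λ R a (KaehlerDifferential.D Λ R r)) = 0
    rw [KaehlerDifferential.map_D]
    exact eps_D_of p Λ R a r
  exact LinearMap.congr_fun h η

theorem psi_can (η : Ω[R⁄Λ]) : psi p Λ R a (can p Λ R a η) = gMap p Λ R a η := by
  have h : ((psi p Λ R a).restrictScalars R).comp (can p Λ R a) = gMap p Λ R a := by
    apply Derivation.liftKaehlerDifferential_unique
    ext r
    show psi p Λ R a (can p Λ R a (KaehlerDifferential.D Λ R r)) =
      gMap p Λ R a (KaehlerDifferential.D Λ R r)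
    rw [KaehlerDifferential.map_D]
    exact psi_D_of p Λ R a r
  exact LinearMap.congr_fun h η

end Forms

section Coef

variable (p : ℕ) [hp : Fact p.Prime] (R : Type u) [CommRing R] [CharP R p] (a : R)

local notation "S" => AdjoinRoot (X ^ p - C a : R[X])

/-- the coefficient of `x^(p-1)` -/
noncomputable def coef : S →ₗ[R] R :=
  (Polynomial.lcoeff R (p - 1)).comp
    (AdjoinRoot.modByMonicHom (monic_X_pow_sub_C a hp.out.ne_zero))

theorem coef_root_pow (i : ℕ) (hi : i < p) :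
    coef p R a (AdjoinRoot.root _ ^ i) = if i = p - 1 then 1 else 0 := by
  haveI : Nontrivial R := CharP.nontrivial_of_char_ne_one (R := R) (v := p) hp.out.ne_one
  have h1 : (AdjoinRoot.root (X ^ p - C a : R[X])) ^ i = AdjoinRoot.mk _ (X ^ i) := by
    rw [map_pow, AdjoinRoot.mk_X]
  have h2 : (X ^ i : R[X]) %ₘ (X ^ p - C a) = X ^ i := by
    rw [Polynomial.modByMonic_eq_self_iff (monic_X_pow_sub_C a hp.out.ne_zero),
      degree_X_pow, degree_X_pow_sub_C hp.out.pos]
    exact_mod_cast hi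
  unfold coef
  rw [LinearMap.comp_apply, h1, AdjoinRoot.modByMonicHom_mk, h2, Polynomial.lcoeff_apply,
    coeff_X_pow]
  by_cases h : i = p - 1
  · rw [if_pos h, if_pos h.symm]
  · rw [if_neg h, if_neg (Ne.symm h)]

end Coef

section Wedge

variable (A : Type u) [CommRing A] {M : Type u} [AddCommGroup M] [Module A M] (x : M) (t : ℕ)

/-- right multiplication by `ι x` on graded pieces -/
noncomputable def mulR : ⋀[A]^t M →ₗ[A] ⋀[A]^(t + 1) M :=
  LinearMap.codRestrict _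
    ((LinearMap.mulRight A (ExteriorAlgebra.ι A x)).comp (Submodule.subtype _)) (fun y => by
      show (y : ExteriorAlgebra A M) * ExteriorAlgebra.ι A x ∈ ⋀[A]^(t + 1) M
      rw [ExteriorAlgebra.exteriorPower, pow_succ]
      exact Submodule.mul_mem_mul y.2 (LinearMap.mem_range_self _ _))

theorem mulR_ιMulti (v : Fin t → M) :
    mulR A x t (ιMulti A t v) = ιMulti A (t + 1) (Fin.snoc v x) := by
  apply Subtype.ext
  show ((ιMulti A t v : ⋀[A]^t M) : ExteriorAlgebra A M) * ExteriorAlgebra.ι A x = _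
  rw [ιMulti_apply_coe, ιMulti_apply_coe, ιMulti_snoc_eq_mul]

/-- `v ↦ v_1 ∧ … ∧ v_t ∧ x` -/
noncomputable def GW : M [⋀^Fin t]→ₗ[A] ⋀[A]^(t + 1) M :=
  (mulR A x t).compAlternatingMap (ιMulti A t)

theorem GW_apply (v : Fin t → M) : GW A x t v = ιMulti A (t + 1) (Fin.snoc v x) := by
  unfold GW
  rw [LinearMap.compAlternatingMap_apply, mulR_ιMulti]

theorem GW_eq_zero (v : Fin t → M) (h : ∃ i, v i ∈ Submodule.span A {x}) : GW A x t v = 0 := by
  classical
  obtain ⟨i, hi⟩ := h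
  obtain ⟨r, hr⟩ := Submodule.mem_span_singleton.1 hi
  rw [GW_apply]
  have hw : (Fin.snoc v x : Fin (t + 1) → M) =
      Function.update (Fin.snoc v x : Fin (t + 1) → M) i.castSucc (r • x) := by
    rw [eq_comm, Function.update_eq_self_iff, Fin.snoc_castSucc, hr]
  rw [hw, AlternatingMap.map_update_smul]
  have h0 : ιMulti A (t + 1)
      (Function.update (Fin.snoc v x : Fin (t + 1) → M) i.castSucc x) = 0 := by
    apply AlternatingMap.map_eq_zero_of_eq _ _ (i := i.castSucc) (j := Fin.last t)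
    · rw [Function.update_self, Function.update_of_ne (Fin.castSucc_lt_last i).ne',
        Fin.snoc_last]
    · exact (Fin.castSucc_lt_last i).ne
  rw [h0, smul_zero]

/-- wedging with `x` descends to the exterior power of the quotient by `x` -/
theorem exists_W : ∃ W : ⋀[A]^t (M ⧸ Submodule.span A {x}) →ₗ[A] ⋀[A]^(t + 1) M,
    ∀ v : Fin t → M, W (ιMulti A t (fun i => Submodule.mkQ _ (v i))) =
      ιMulti A (t + 1) (Fin.snoc v x) := by
  obtain ⟨Gbar, hG⟩ := exists_lift_quot (Submodule.span A {x}) t (GW A x t) (GW_eq_zero A x t)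
  refine ⟨alternatingMapLinearEquiv Gbar, fun v => ?_⟩
  rw [alternatingMapLinearEquiv_apply_ιMulti, hG, GW_apply]

end Wedge

section Main

variable (p : ℕ) [hp : Fact p.Prime] (Λ R : Type u) [CommRing Λ] [CommRing R] [Algebra Λ R]
  [CharP R p] (a : R) (t : ℕ)

local notation "S" => AdjoinRoot (X ^ p - C a : R[X])

/-- contraction, projection and base change: `Ω^{t+1}_S → S ⊗ ⋀^t (Ω_R/(da))` -/
noncomputable def F1 : ⋀[S]^(t + 1) (Ω[S⁄Λ]) →ₗ[S] S ⊗[R] ⋀[R]^t (OmBar Λ R a) :=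
  ((LinearEquiv.ofBijective (Groth.Agent.Helper7.ExtBC.beta R S (OmBar Λ R a) t)
      (Groth.Agent.Helper7.ExtBC.beta_bijective R S (OmBar Λ R a) t)).symm.toLinearMap).comp
    ((exteriorPower.map t (psi p Λ R a)).comp (clp (eps p Λ R a) t))

theorem F1_snoc (η : Fin t → Ω[R⁄Λ]) (i : ℕ) :
    F1 p Λ R a t (ιMulti S (t + 1) (Fin.snoc (fun j => can p Λ R a (η j))
      ((AdjoinRoot.root (X ^ p - C a : R[X]) ^ i : S) •
        KaehlerDifferential.D Λ S (AdjoinRoot.root (X ^ p - C a : R[X]))))) =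
    (-1 : ℤ) ^ t • ((AdjoinRoot.root (X ^ p - C a : R[X]) ^ i : S) ⊗ₜ[R]
      ιMulti R t (fun j => (Submodule.mkQ (Submodule.span R {KaehlerDifferential.D Λ R a})
        (η j) : OmBar Λ R a))) := by
  have h1 : clp (eps p Λ R a) t (ιMulti S (t + 1) (Fin.snoc (fun j => can p Λ R a (η j))
      ((AdjoinRoot.root (X ^ p - C a : R[X]) ^ i : S) •
        KaehlerDifferential.D Λ S (AdjoinRoot.root (X ^ p - C a : R[X]))))) =
      (-1 : ℤ) ^ t • ((AdjoinRoot.root (X ^ p - C a : R[X]) ^ i : S) •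
        ιMulti S t (fun j => can p Λ R a (η j))) := by
    rw [← Int.cast_smul_eq_zsmul S, Int.cast_pow, Int.cast_neg, Int.cast_one]
    apply Subtype.ext
    rw [coe_clp, ιMulti_apply_coe, cl_ιMulti_snoc _ _ _ (fun j => eps_can p Λ R a (η j)),
      map_smul, eps_D_root, smul_eq_mul, mul_one, mul_smul, Submodule.coe_smul,
      Submodule.coe_smul, ιMulti_apply_coe]
  unfold F1
  rw [LinearMap.comp_apply, LinearMap.comp_apply, h1, map_zsmul, map_zsmul, map_smul,
    exteriorPower.map_apply_ιMulti]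
  congr 1
  rw [LinearEquiv.coe_coe, LinearEquiv.symm_apply_eq, LinearEquiv.ofBijective_apply,
    Groth.Agent.Helper7.ExtBC.beta_tmul, Groth.Agent.Helper7.ExtBC.incl_ιMulti]
  congr 2
  funext j
  rw [Function.comp_apply, psi_can, gMap_apply]

theorem F1_can (s : S) (η : Fin (t + 1) → Ω[R⁄Λ]) :
    F1 p Λ R a t (s • ιMulti S (t + 1) (fun j => can p Λ R a (η j))) = 0 := by
  have h1 : clp (eps p Λ R a) t (ιMulti S (t + 1) (fun j => can p Λ R a (η j))) = 0 := by
    apply Subtype.ext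
    rw [coe_clp, ιMulti_apply_coe, cl_ιMulti_eq_zero _ _ _ (fun j => eps_can p Λ R a (η j))]
    rfl
  unfold F1
  rw [map_smul, LinearMap.comp_apply, LinearMap.comp_apply, h1, map_zero, map_zero, smul_zero]

/-- the coefficient of `x^(p-1)` on `S ⊗ Y` -/
noncomputable def cp : S ⊗[R] ⋀[R]^t (OmBar Λ R a) →ₗ[R] ⋀[R]^t (OmBar Λ R a) :=
  (TensorProduct.lid R _).toLinearMap.comp (LinearMap.rTensor _ (coef p R a))

theorem cp_tmul (s : S) (y : ⋀[R]^t (OmBar Λ R a)) :
    cp p Λ R a t (s ⊗ₜ[R] y) = coef p R a s • y := by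
  unfold cp
  rw [LinearMap.comp_apply, LinearMap.rTensor_tmul, LinearEquiv.coe_coe, TensorProduct.lid_tmul]

theorem main :
    ∃ Tr : (⋀[S]^(t + 1) (Ω[S⁄Λ])) →+ (⋀[R]^(t + 1) (Ω[R⁄Λ])),
      (∀ (r : R) (ω : ⋀[S]^(t + 1) (Ω[S⁄Λ])), Tr (algebraMap R S r • ω) = r • Tr ω) ∧
      (∀ (η : Fin t → Ω[R⁄Λ]) (i : ℕ), i + 2 ≤ p →
        Tr (ιMulti S (t + 1) (Fin.snoc (fun j => KaehlerDifferential.map Λ Λ R S (η j))
          (AdjoinRoot.root (X ^ p - C a) ^ i •
            KaehlerDifferential.D Λ S (AdjoinRoot.root (X ^ p - C a))))) = 0) ∧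
      (∀ (η : Fin t → Ω[R⁄Λ]),
        Tr (ιMulti S (t + 1) (Fin.snoc (fun j => KaehlerDifferential.map Λ Λ R S (η j))
          (AdjoinRoot.root (X ^ p - C a) ^ (p - 1) •
            KaehlerDifferential.D Λ S (AdjoinRoot.root (X ^ p - C a))))) =
          ιMulti R (t + 1) (Fin.snoc η (KaehlerDifferential.D Λ R a))) ∧
      (∀ (s : S) (η : Fin (t + 1) → Ω[R⁄Λ]),
        Tr (s • ιMulti S (t + 1) (fun j => KaehlerDifferential.map Λ Λ R S (η j))) = 0) := by
  obtain ⟨W, hW⟩ := exists_W R (KaehlerDifferential.D Λ R a) t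
  let T0 : (⋀[S]^(t + 1) (Ω[S⁄Λ])) →+ (⋀[R]^(t + 1) (Ω[R⁄Λ])) :=
    W.toAddMonoidHom.comp ((cp p Λ R a t).toAddMonoidHom.comp (F1 p Λ R a t).toAddMonoidHom)
  have hT0 : ∀ ω, T0 ω = W (cp p Λ R a t (F1 p Λ R a t ω)) := fun ω => rfl
  have hsnoc : ∀ (η : Fin t → Ω[R⁄Λ]) (i : ℕ), i < p →
      T0 (ιMulti S (t + 1) (Fin.snoc (fun j => KaehlerDifferential.map Λ Λ R S (η j))
          (AdjoinRoot.root (X ^ p - C a) ^ i •
            KaehlerDifferential.D Λ S (AdjoinRoot.root (X ^ p - C a))))) =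
        (-1 : ℤ) ^ t • ((if i = p - 1 then (1 : R) else 0) •
          ιMulti R (t + 1) (Fin.snoc η (KaehlerDifferential.D Λ R a))) := by
    intro η i hi
    rw [hT0, F1_snoc, map_zsmul, map_zsmul, cp_tmul, coef_root_pow p R a i hi, map_smul, hW]
  refine ⟨(-1 : ℤ) ^ t • T0, ?_, ?_, ?_, ?_⟩
  · intro r ω
    rw [AddMonoidHom.smul_apply, AddMonoidHom.smul_apply, hT0, hT0, map_smul, algebraMap_smul,
      map_smul, map_smul, smul_comm]
  · intro η i hi
    rw [AddMonoidHom.smul_apply, hsnoc η i (by omega), if_neg (by omega), zero_smul, smul_zero,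
      smul_zero]
  · intro η
    rw [AddMonoidHom.smul_apply, hsnoc η (p - 1) (Nat.sub_lt hp.out.pos one_pos), if_pos rfl,
      one_smul, smul_smul, ← mul_pow]
    norm_num
  · intro s η
    rw [AddMonoidHom.smul_apply, hT0, F1_can, map_zero, map_zero, smul_zero]

end Main

end Groth.Agent.Helper7.TrP
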