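import Mathlib

set_option linter.style.haveILetI false
set_option linter.unusedSectionVars false

namespace Groth.Agent.Helper7.TrRoot

open KaehlerDifferential

section key


variable {R S M : Type*} [CommRing R] [CommRing S] [Algebra R S] [AddCommGroup M] [Module S M]
  [Module R M] [IsScalarTower R S M]

/-- `((g+h)^p - g^p - h^p)/p` as a universal expression. -/
noncomputable def Lam (p : ℕ) (g h : S) : S :=
  ∑ i ∈ Finset.range (p - 1), ((p.choose (i + 1) / p : ℕ) : S) * (g ^ (i + 1) * h ^ (p - 1 - i))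

theorem lam_mul_succ (q i : ℕ) (hp : (q + 1).Prime) (hi : i < q) :
    ((q + 1).choose (i + 1) / (q + 1)) * (i + 1) = q.choose i := by
  have hdvd : (q + 1) ∣ (q + 1).choose (i + 1) :=
    hp.dvd_choose_self (Nat.succ_ne_zero i) (by omega)
  obtain ⟨c, hc⟩ := hdvd
  have h1 : (q + 1).choose (i + 1) / (q + 1) = c := by
    rw [hc, Nat.mul_div_cancel_left _ (Nat.succ_pos q)]
  rw [h1]
  have h2 := Nat.add_one_mul_choose_eq q i
  rw [hc] at h2
  have h3 : (q + 1) * q.choose i = (q + 1) * (c * (i + 1)) := by rw [h2]; ring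
  exact (Nat.eq_of_mul_eq_mul_left (Nat.succ_pos q) h3).symm

theorem lam_mul_sub (q i : ℕ) (hp : (q + 1).Prime) (hi : i < q) :
    ((q + 1).choose (i + 1) / (q + 1)) * (q - i) = q.choose (i + 1) := by
  have hdvd : (q + 1) ∣ (q + 1).choose (i + 1) :=
    hp.dvd_choose_self (Nat.succ_ne_zero i) (by omega)
  obtain ⟨c, hc⟩ := hdvd
  have h1 : (q + 1).choose (i + 1) / (q + 1) = c := by
    rw [hc, Nat.mul_div_cancel_left _ (Nat.succ_pos q)]
  rw [h1]
  have h2 := Nat.choose_mul_succ_eq q (i + 1)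
  rw [hc] at h2
  have h4 : q + 1 - (i + 1) = q - i := by omega
  rw [h4] at h2
  have h3 : (q + 1) * q.choose (i + 1) = (q + 1) * (c * (q - i)) := by rw [mul_comm, h2]; ring
  exact (Nat.eq_of_mul_eq_mul_left (Nat.succ_pos q) h3).symm

theorem key_identity (p : ℕ) (hp : p.Prime) (D : Derivation R S M) (g h : S) :
    (g + h) ^ (p - 1) • D (g + h) =
      g ^ (p - 1) • D g + h ^ (p - 1) • D h + D (Lam p g h) := by
  obtain ⟨q, rfl⟩ : ∃ q, p = q + 1 := ⟨p - 1, by have := hp.pos; omega⟩
  simp only [Nat.add_sub_cancel]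
  -- the two expansions of `(g+h)^q`
  have e1 : (g + h) ^ q = g ^ q +
      ∑ i ∈ Finset.range q, (((q + 1).choose (i + 1) / (q + 1) : ℕ) : S) * ((i + 1 : ℕ) : S) *
        (g ^ i * h ^ (q - i)) := by
    rw [add_pow, Finset.sum_range_succ, Nat.sub_self, pow_zero, mul_one, Nat.choose_self,
      Nat.cast_one, mul_one, add_comm]
    congr 1
    refine Finset.sum_congr rfl fun i hi => ?_
    rw [Finset.mem_range] at hi
    rw [← Nat.cast_mul, lam_mul_succ q i hp hi]
    ring
  have e2 : (g + h) ^ q = h ^ q +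
      ∑ i ∈ Finset.range q, (((q + 1).choose (i + 1) / (q + 1) : ℕ) : S) * ((q - i : ℕ) : S) *
        (g ^ (i + 1) * h ^ (q - i - 1)) := by
    rw [add_pow, Finset.sum_range_succ', pow_zero, one_mul, Nat.sub_zero, Nat.choose_zero_right,
      Nat.cast_one, mul_one, add_comm]
    congr 1
    refine Finset.sum_congr rfl fun i hi => ?_
    rw [Finset.mem_range] at hi
    rw [← Nat.cast_mul, lam_mul_sub q i hp hi]
    have : q - (i + 1) = q - i - 1 := by omega
    rw [this]
    ring
  have e3 : D (Lam (q + 1) g h) =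
      (∑ i ∈ Finset.range q, (((q + 1).choose (i + 1) / (q + 1) : ℕ) : S) * ((i + 1 : ℕ) : S) *
        (g ^ i * h ^ (q - i))) • D g +
      (∑ i ∈ Finset.range q, (((q + 1).choose (i + 1) / (q + 1) : ℕ) : S) * ((q - i : ℕ) : S) *
        (g ^ (i + 1) * h ^ (q - i - 1))) • D h := by
    unfold Lam
    simp only [Nat.add_sub_cancel]
    rw [map_sum, Finset.sum_smul, Finset.sum_smul, ← Finset.sum_add_distrib]
    refine Finset.sum_congr rfl fun i hi => ?_
    rw [Derivation.leibniz, Derivation.map_natCast, smul_zero, add_zero, Derivation.leibniz,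
      Derivation.leibniz_pow, Derivation.leibniz_pow]
    simp only [Nat.add_sub_cancel, smul_add, smul_smul, ← Nat.cast_smul_eq_nsmul S]
    rw [add_comm]
    congr 1 <;> congr 1 <;> ring
  rw [map_add, smul_add, e3]
  nth_rewrite 1 [e1]
  rw [e2, add_smul, add_smul]
  abel


end key

section abstract

variable {R : Type*} [CommRing R] (p : ℕ) [hp : Fact p.Prime] [CharP R p]
variable {S : Type*} [CommRing S] [Algebra R S] (y : S) (b : R)
  (T : Ω[S⁄R] →ₗ[R] Ω[R⁄ℤ])

include hp in
theorem natCast_smul_eq_zero {M : Type*} [AddCommGroup M] [Module R M] (n : ℕ) (hn : p ∣ n)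
    (m : M) : n • m = 0 := by
  rw [← Nat.cast_smul_eq_nsmul R, (CharP.cast_eq_zero_iff R p n).mpr hn, zero_smul]

variable (hy : y ^ p = algebraMap R S b)

include hy in
theorem T_pow (k i : ℕ) :
    T (y ^ (k * p + i) • D R S y) = b ^ k • T (y ^ i • D R S y) := by
  rw [← LinearMap.map_smul]
  congr 1
  rw [pow_add, mul_comm k p, pow_mul, hy, ← map_pow, mul_smul, algebraMap_smul]

variable (hT : ∀ i : ℕ, i + 2 ≤ p → T (y ^ i • D R S y) = 0)
  (hT' : T (y ^ (p - 1) • D R S y) = D ℤ R b)

include hy hT hp in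
theorem T_D_pow (l : ℕ) : T (D R S (y ^ l)) = 0 := by
  rcases l with _ | l
  · simp
  · rw [Derivation.leibniz_pow, Nat.add_sub_cancel, map_nsmul]
    have hl : l = (l / p) * p + l % p := by
      rw [mul_comm]; exact (Nat.div_add_mod l p).symm
    have hpp := hp.out.pos
    have hlt : l % p < p := Nat.mod_lt _ hpp
    by_cases h : l % p + 2 ≤ p
    · rw [hl, T_pow p y b T hy, hT _ h, smul_zero, smul_zero]
    · have : p ∣ l + 1 := by
        have h1 : l % p = p - 1 := by omega
        rw [hl, h1]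
        have : l / p * p + (p - 1) + 1 = (l / p + 1) * p := by
          rw [add_mul, one_mul]; omega
        rw [this]
        exact Dvd.intro_left _ rfl
      exact natCast_smul_eq_zero (R := R) p _ this _

variable (hspan : ∀ s : S, s ∈ Submodule.span R (Set.range fun l : ℕ => y ^ l))

include hy hT hp hspan in
theorem T_D (h : S) : T (D R S h) = 0 := by
  refine Submodule.span_induction (p := fun h _ => T (D R S h) = 0) ?_ ?_ ?_ ?_ (hspan h)
  · rintro _ ⟨l, rfl⟩
    exact T_D_pow p y b T hy hT l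
  · simp
  · intro u v _ _ hu hv
    rw [map_add, map_add, hu, hv, add_zero]
  · intro c u _ hu
    rw [Derivation.map_smul, LinearMap.map_smul, hu, smul_zero]

include hy hT hp hspan in
theorem T_pow_smul_D (g : S) (m : ℕ) (hm : m + 2 ≤ p) : T (g ^ m • D R S g) = 0 := by
  have hu : IsUnit ((m + 1 : ℕ) : R) := by
    rw [CharP.isUnit_natCast_iff hp.out]
    intro hdvd
    have := Nat.le_of_dvd (Nat.succ_pos m) hdvd
    omega
  obtain ⟨u, hu⟩ := hu
  have h1 : T (D R S (g ^ (m + 1))) = 0 := T_D p y b T hy hT hspan _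
  rw [Derivation.leibniz_pow, Nat.add_sub_cancel, ← Nat.cast_smul_eq_nsmul R, map_smul, ← hu] at h1
  have h2 := congrArg (fun z => (↑u⁻¹ : R) • z) h1
  simpa [smul_smul] using h2

/-- The predicate: `g^p` comes from `r ∈ R` and `T (g^(p-1) dg) = dr`. -/
def Pred (g : S) : Prop :=
  ∃ r : R, g ^ p = algebraMap R S r ∧ T (g ^ (p - 1) • D R S g) = D ℤ R r


theorem pred_zero : Pred p T (0 : S) := by
  refine ⟨0, ?_, ?_⟩
  · rw [zero_pow hp.out.ne_zero, map_zero]
  · simp

include hp in
theorem pred_smul (c : R) (g : S) (hg : Pred p T g) : Pred p T (c • g) := by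
  obtain ⟨r, h1, h2⟩ := hg
  refine ⟨c ^ p * r, ?_, ?_⟩
  · rw [smul_pow, h1, map_mul, map_pow, Algebra.smul_def, map_pow]
  · rw [Derivation.leibniz, Derivation.leibniz_pow, smul_comm r, natCast_smul_eq_zero (R := R) p p
      dvd_rfl, add_zero, ← h2, ← LinearMap.map_smul]
    congr 1
    rw [Derivation.map_smul, smul_pow, smul_assoc, smul_comm _ c, smul_smul, ← pow_succ,
      Nat.sub_add_cancel hp.out.one_le]

include hy hT' hp in
theorem pred_pow (l : ℕ) : Pred p T (y ^ l) := by
  refine ⟨b ^ l, ?_, ?_⟩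
  · rw [← pow_mul, mul_comm, pow_mul, hy, map_pow]
  · rcases l with _ | l
    · simp
    · rw [Derivation.leibniz_pow, Derivation.leibniz_pow, Nat.add_sub_cancel,
        smul_comm, map_nsmul, smul_smul, ← pow_mul, ← pow_add]
      have : (l + 1) * (p - 1) + l = l * p + (p - 1) := by
        have := hp.out.one_le
        obtain ⟨q, rfl⟩ : ∃ q, p = q + 1 := ⟨p - 1, by omega⟩
        simp only [Nat.add_sub_cancel]
        ring
      rw [this, T_pow p y b T hy, hT']

variable [CharP S p]

include hy hT hp hspan in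
theorem pred_add (g h : S) (hg : Pred p T g) (hh : Pred p T h) : Pred p T (g + h) := by
  obtain ⟨r, h1, h2⟩ := hg
  obtain ⟨r', h1', h2'⟩ := hh
  refine ⟨r + r', ?_, ?_⟩
  · rw [add_pow_char, h1, h1', map_add]
  · rw [key_identity p hp.out, map_add, map_add, h2, h2', T_D p y b T hy hT hspan, add_zero,
      map_add]

include hy hT hT' hp hspan in
theorem pred_all (g : S) : Pred p T g := by
  refine Submodule.span_induction (p := fun h _ => Pred p T h) ?_ ?_ ?_ ?_ (hspan g)
  · rintro _ ⟨l, rfl⟩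
    exact pred_pow p y b T hy hT' l
  · exact pred_zero p T
  · intro u v _ _ hu hv
    exact pred_add p y b T hy hT hspan u v hu hv
  · intro c u _ hu
    exact pred_smul p T c u hu

include hy hT hT' hp hspan in
/-- If `g^p = a` then `T (g^(p-1) dg) = da`. -/
theorem T_pow_pred (hinj : Function.Injective (algebraMap R S)) (g : S) (a : R)
    (hg : g ^ p = algebraMap R S a) : T (g ^ (p - 1) • D R S g) = D ℤ R a := by
  obtain ⟨r, h1, h2⟩ := pred_all p y b T hy hT hT' hspan g
  rw [h2]
  congr 1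
  exact hinj (h1.symm.trans hg)

end abstract

section main

open Polynomial

variable (p : ℕ) [hp : Fact p.Prime] {R : Type*} [CommRing R] (b : R)

include hp in
theorem monic_aux : (X ^ p - C b : R[X]).Monic :=
  monic_X_pow_sub_C b hp.out.ne_zero

theorem root_pow : AdjoinRoot.root (X ^ p - C b : R[X]) ^ p =
    algebraMap R (AdjoinRoot (X ^ p - C b : R[X])) b := by
  have h := AdjoinRoot.eval₂_root (X ^ p - C b : R[X])
  rw [eval₂_sub, eval₂_pow, eval₂_X, eval₂_C, sub_eq_zero] at h
  exact h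

theorem span_root (s : AdjoinRoot (X ^ p - C b : R[X])) :
    s ∈ Submodule.span R (Set.range fun l : ℕ => AdjoinRoot.root (X ^ p - C b : R[X]) ^ l) := by
  obtain ⟨f, rfl⟩ := AdjoinRoot.mk_surjective s
  induction f using Polynomial.induction_on' with
  | add f g hf hg =>
    rw [map_add]
    exact Submodule.add_mem _ hf hg
  | monomial n c =>
    have : AdjoinRoot.mk (X ^ p - C b : R[X]) (monomial n c) =
        c • AdjoinRoot.root (X ^ p - C b : R[X]) ^ n := by
      rw [← C_mul_X_pow_eq_monomial, map_mul, map_pow, AdjoinRoot.mk_X, AdjoinRoot.mk_C,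
        Algebra.smul_def]
      rfl
    rw [this]
    exact Submodule.smul_mem _ _ (Submodule.subset_span ⟨n, rfl⟩)

include hp in
theorem algebraMap_inj :
    Function.Injective (algebraMap R (AdjoinRoot (X ^ p - C b : R[X]))) := by
  intro r r' h
  have hm := monic_aux p b
  have h1 : AdjoinRoot.mk (X ^ p - C b : R[X]) (C r) = AdjoinRoot.mk (X ^ p - C b : R[X]) (C r') := h
  have h2 := congrArg (AdjoinRoot.modByMonicHom hm) h1
  rw [AdjoinRoot.modByMonicHom_mk, AdjoinRoot.modByMonicHom_mk] at h2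
  by_cases hR : Nontrivial R
  · have hdeg : ∀ c : R, (C c : R[X]).degree < (X ^ p - C b : R[X]).degree := by
      intro c
      rw [degree_X_pow_sub_C hp.out.pos]
      exact lt_of_le_of_lt degree_C_le (by exact_mod_cast hp.out.pos)
    rw [(modByMonic_eq_self_iff hm).mpr (hdeg r), (modByMonic_eq_self_iff hm).mpr (hdeg r')] at h2
    exact C_injective h2
  · rw [not_nontrivial_iff_subsingleton] at hR
    exact Subsingleton.elim _ _


variable [CharP R p] (a : R)

include hp in
theorem main
    (φ : AdjoinRoot (X ^ p - C a : R[X]) →ₐ[R] AdjoinRoot (X ^ p - C b : R[X]))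
    (Tx : Ω[AdjoinRoot (X ^ p - C a : R[X])⁄R] →ₗ[R] Ω[R⁄ℤ])
    (Ty : Ω[AdjoinRoot (X ^ p - C b : R[X])⁄R] →ₗ[R] Ω[R⁄ℤ])
    (hTx : ∀ i : ℕ, i + 2 ≤ p →
      Tx (AdjoinRoot.root (X ^ p - C a) ^ i •
        KaehlerDifferential.D R _ (AdjoinRoot.root (X ^ p - C a))) = 0)
    (hTx' : Tx (AdjoinRoot.root (X ^ p - C a) ^ (p - 1) •
      KaehlerDifferential.D R _ (AdjoinRoot.root (X ^ p - C a))) = KaehlerDifferential.D ℤ R a)
    (hTy : ∀ i : ℕ, i + 2 ≤ p →
      Ty (AdjoinRoot.root (X ^ p - C b) ^ i •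
        KaehlerDifferential.D R _ (AdjoinRoot.root (X ^ p - C b))) = 0)
    (hTy' : Ty (AdjoinRoot.root (X ^ p - C b) ^ (p - 1) •
      KaehlerDifferential.D R _ (AdjoinRoot.root (X ^ p - C b))) = KaehlerDifferential.D ℤ R b)
    (s t : AdjoinRoot (X ^ p - C a : R[X])) :
    Tx (s • KaehlerDifferential.D R _ t) = Ty (φ s • KaehlerDifferential.D R _ (φ t)) := by
  set x := AdjoinRoot.root (X ^ p - C a : R[X]) with hx
  set y := AdjoinRoot.root (X ^ p - C b : R[X]) with hy
  set g := φ x with hg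
  have hxp : x ^ p = algebraMap R _ a := root_pow p a
  have hyp : y ^ p = algebraMap R _ b := root_pow p b
  have hgp : g ^ p = algebraMap R _ a := by
    rw [hg, ← map_pow, hxp, AlgHom.commutes]
  haveI : CharP (AdjoinRoot (X ^ p - C b : R[X])) p :=
    charP_of_injective_algebraMap (algebraMap_inj p b) p
  have hpp := hp.out.pos
  -- the key comparison on powers
  have key : ∀ m : ℕ, Tx (x ^ m • D R _ x) = Ty (g ^ m • D R _ g) := by
    intro m
    have hm : m = (m / p) * p + m % p := by
      rw [mul_comm]; exact (Nat.div_add_mod m p).symm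
    have hlt : m % p < p := Nat.mod_lt _ hpp
    rw [hm, T_pow p x a Tx hxp, T_pow p g a Ty hgp]
    congr 1
    by_cases h : m % p + 2 ≤ p
    · rw [hTx _ h, T_pow_smul_D p y b Ty hyp hTy (span_root p b) g _ h]
    · have h1 : m % p = p - 1 := by omega
      rw [h1, hTx', T_pow_pred p y b Ty hyp hTy hTy' (span_root p b) (algebraMap_inj p b) g a hgp]
  -- monomials
  have mono : ∀ i j : ℕ, Tx (x ^ i • D R _ (x ^ j)) = Ty (φ (x ^ i) • D R _ (φ (x ^ j))) := by
    intro i j
    rw [map_pow φ, map_pow φ, ← hg, Derivation.leibniz_pow, Derivation.leibniz_pow,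
      smul_comm (x ^ i) j, smul_comm (g ^ i) j, map_nsmul, map_nsmul, smul_smul, smul_smul,
      ← pow_add, ← pow_add, key]
  -- bilinearity
  refine Submodule.span_induction
    (p := fun s _ => Tx (s • D R _ t) = Ty (φ s • D R _ (φ t))) ?_ ?_ ?_ ?_ (span_root p a s)
  · rintro _ ⟨i, rfl⟩
    refine Submodule.span_induction
      (p := fun t _ => Tx (x ^ i • D R _ t) = Ty (φ (x ^ i) • D R _ (φ t))) ?_ ?_ ?_ ?_
      (span_root p a t)
    · rintro _ ⟨j, rfl⟩
      exact mono i j
    · simp
    · intro u v _ _ hu hv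
      rw [map_add, smul_add, map_add, hu, hv, map_add, map_add, smul_add, map_add]
    · intro c u _ hu
      rw [map_smul φ, Derivation.map_smul, Derivation.map_smul, smul_comm (x ^ i) c,
        smul_comm (φ (x ^ i)) c, LinearMap.map_smul, LinearMap.map_smul, hu]
  · simp
  · intro u v _ _ hu hv
    rw [add_smul, map_add, hu, hv, map_add, add_smul, map_add]
  · intro c u _ hu
    rw [map_smul φ, smul_assoc, smul_assoc, LinearMap.map_smul, LinearMap.map_smul, hu]

end main

end Groth.Agent.Helper7.TrRoot
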