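import Mathlib

set_option autoImplicit false
universe u

namespace Groth.Agent.Helper7.TraceSum

lemma norm_trace_le {V : Type u} [AddCommGroup V] [Module ℂ V] [FiniteDimensional ℂ V]
    (Φ : V →ₗ[ℂ] V) (B : ℝ) (hB : ∀ μ : ℂ, Module.End.HasEigenvalue Φ μ → ‖μ‖ ≤ B) :
    ‖LinearMap.trace ℂ V Φ‖ ≤ (Module.finrank ℂ V : ℝ) * B := by
  have hsplit : (LinearMap.charpoly Φ).Splits := IsAlgClosed.splits _
  rw [Module.End.trace_eq_sum_roots_charpoly_of_splits hsplit]
  have hcard : Multiset.card (LinearMap.charpoly Φ).roots = Module.finrank ℂ V := by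
    rw [← hsplit.natDegree_eq_card_roots, LinearMap.charpoly_natDegree]
  calc ‖(LinearMap.charpoly Φ).roots.sum‖
      ≤ ((LinearMap.charpoly Φ).roots.map (fun z => ‖z‖)).sum := norm_multiset_sum_le _
    _ ≤ Multiset.card ((LinearMap.charpoly Φ).roots.map (fun z => ‖z‖)) • B := by
        apply Multiset.sum_le_card_nsmul
        intro x hx
        rw [Multiset.mem_map] at hx
        obtain ⟨μ, hμ, rfl⟩ := hx
        apply hB
        rw [Module.End.hasEigenvalue_iff_isRoot_charpoly]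
        exact (Polynomial.mem_roots'.mp hμ).2
    _ = (Module.finrank ℂ V : ℝ) * B := by
        rw [Multiset.card_map, hcard, nsmul_eq_mul]

theorem result
    (E : ℕ → ℕ → Type u) [∀ p q, AddCommGroup (E p q)] [∀ p q, Module ℂ (E p q)]
    [∀ p q, FiniteDimensional ℂ (E p q)] (Φ : ∀ p q, E p q →ₗ[ℂ] E p q)
    (N : ℕ) (a c : ℕ → ℝ) (b d : ℕ → ℕ) (ha : ∀ q, 0 ≤ a q) (hc : ∀ p, 0 ≤ c p)
    (h1 : ∀ p q, N < q → Subsingleton (E p q))
    (h2 : ∀ p q (μ : ℂ), Module.End.HasEigenvalue (Φ p q) μ → ‖μ‖ ≤ a q * c p)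
    (h3 : ∀ p q, Module.finrank ℂ (E p q) ≤ b q * d p)
    (hsum : Summable fun p : ℕ => c p * (d p : ℝ)) :
    Summable fun pq : ℕ × ℕ => ‖LinearMap.trace ℂ (E pq.1 pq.2) (Φ pq.1 pq.2)‖ := by
  set f : ℕ → ℝ := fun p => c p * (d p : ℝ) with hf
  set g : ℕ → ℝ := fun q => if q ≤ N then a q * (b q : ℝ) else 0 with hg
  have hf0 : 0 ≤ f := fun p => mul_nonneg (hc p) (Nat.cast_nonneg _)
  have hg0 : 0 ≤ g := by
    intro q
    simp only [hg]
    split_ifs
    · exact mul_nonneg (ha q) (Nat.cast_nonneg _)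
    · exact le_refl _
  have hgsum : Summable g := by
    apply summable_of_ne_finset_zero (s := Finset.range (N + 1))
    intro q hq
    rw [Finset.mem_range] at hq
    simp only [hg]
    rw [if_neg (by omega)]
  have hprod : Summable fun pq : ℕ × ℕ => f pq.1 * g pq.2 :=
    Summable.mul_of_nonneg hsum hgsum hf0 hg0
  refine Summable.of_nonneg_of_le (fun _ => norm_nonneg _) ?_ hprod
  rintro ⟨p, q⟩
  have hb := norm_trace_le (Φ p q) (a q * c p) (h2 p q)
  simp only [hf, hg]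
  by_cases hq : q ≤ N
  · rw [if_pos hq]
    have h4 : (Module.finrank ℂ (E p q) : ℝ) ≤ (b q : ℝ) * (d p : ℝ) := by
      exact_mod_cast h3 p q
    calc ‖LinearMap.trace ℂ (E p q) (Φ p q)‖
        ≤ (Module.finrank ℂ (E p q) : ℝ) * (a q * c p) := hb
      _ ≤ ((b q : ℝ) * (d p : ℝ)) * (a q * c p) :=
          mul_le_mul_of_nonneg_right h4 (mul_nonneg (ha q) (hc p))
      _ = c p * (d p : ℝ) * (a q * (b q : ℝ)) := by ring
  · rw [if_neg hq, mul_zero]
    haveI := h1 p q (by omega)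
    have h5 : Module.finrank ℂ (E p q) = 0 := Module.finrank_zero_of_subsingleton
    rw [h5] at hb
    simpa using hb

end Groth.Agent.Helper7.TraceSum
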