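import Mathlib
import Groth.Agent.Helper2.RegSeq3

set_option linter.style.haveILetI false
set_option linter.unusedSectionVars false

/-! Transversal intersection of two regular quotients of a regular local ring is regular. -/

namespace Groth.Agent.Helper7.Transv

open IsLocalRing

universe u

theorem nat_of_dim {R : Type u} [CommRing R] [IsRegularLocalRing R] (I : Ideal R)
    [IsRegularLocalRing (R ⧸ I)] (n a : ℕ) (hn : ringKrullDim R = n)
    (ha : ringKrullDim (R ⧸ I) = a) :
    ∃ (s : Finset R), Ideal.span (s : Set R) = I ∧ s.card + a ≤ n := by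
  classical
  have hI : I ≠ ⊤ := by
    intro h
    have : Nontrivial (R ⧸ I) := inferInstance
    rw [Ideal.Quotient.nontrivial_iff] at this
    exact this h
  obtain ⟨c, x, hxli, hIx⟩ := Groth.Agent.Helper2.RegSeq3.exists_indep_generators I hI inferInstance
  obtain ⟨hdim, -⟩ := Groth.Agent.Helper2.RegSeq.quotient_regular_of_indep c x hxli
  rw [← hIx, ha, hn] at hdim
  have hac : a + c = n := by exact_mod_cast hdim
  refine ⟨Finset.univ.image (fun i => (x i : R)), ?_, ?_⟩
  · rw [hIx]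
    congr 1
    ext r
    simp
  · have := Finset.card_image_le (s := (Finset.univ : Finset (Fin c))) (f := fun i => (x i : R))
    rw [Finset.card_univ, Fintype.card_fin] at this
    omega

theorem s14371 {R : Type u} [CommRing R] [IsRegularLocalRing R]
    (I J : Ideal R) [IsRegularLocalRing (R ⧸ I)] [IsRegularLocalRing (R ⧸ J)]
    [IsLocalRing (R ⧸ (I ⊔ J))]
    (n a b : ℕ) (hn : ringKrullDim R = n) (ha : ringKrullDim (R ⧸ I) = a)
    (hb : ringKrullDim (R ⧸ J) = b)
    (ht : Module.finrank (IsLocalRing.ResidueField (R ⧸ (I ⊔ J)))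
      (IsLocalRing.CotangentSpace (R ⧸ (I ⊔ J))) + n = a + b) :
    IsRegularLocalRing (R ⧸ (I ⊔ J)) ∧
      ringKrullDim (R ⧸ (I ⊔ J)) = ((a + b - n : ℕ) : WithBot ℕ∞) := by
  classical
  obtain ⟨s, hsI, hsa⟩ := nat_of_dim I n a hn ha
  obtain ⟨t, htJ, htb⟩ := nat_of_dim J n b hn hb
  have hIJ : I ⊔ J ≠ ⊤ := by
    intro h
    have : Nontrivial (R ⧸ (I ⊔ J)) := inferInstance
    rw [Ideal.Quotient.nontrivial_iff] at this
    exact this h
  have hspan : Ideal.span ((s ∪ t : Finset R) : Set R) = I ⊔ J := by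
    rw [Finset.coe_union, Ideal.span_union, hsI, htJ]
  have hjac : ((s ∪ t : Finset R) : Set R) ⊆ Ring.jacobson R := by
    intro r hr
    rw [IsLocalRing.ringJacobson_eq_maximalIdeal]
    exact IsLocalRing.le_maximalIdeal hIJ (hspan ▸ Ideal.subset_span hr)
  have h1 := ringKrullDim_le_ringKrullDim_quotient_add_card (s ∪ t) hjac
  rw [hspan, hn] at h1
  have hcard : (s ∪ t).card ≤ s.card + t.card := Finset.card_union_le s t
  -- upper bound
  have h2 : ringKrullDim (R ⧸ (I ⊔ J)) ≤ ((maximalIdeal (R ⧸ (I ⊔ J))).spanFinrank : WithBot ℕ∞) :=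
    ringKrullDim_le_spanFinrank_maximalIdeal _
  rw [IsLocalRing.spanFinrank_maximalIdeal_eq_finrank_cotangentSpace] at h2
  have h0 : ringKrullDim (R ⧸ (I ⊔ J)) ≠ ⊥ := by
    intro hbot
    have h3 : (0 : WithBot ℕ∞) ≤ ringKrullDim (R ⧸ (I ⊔ J)) := ringKrullDim_nonneg_of_nontrivial
    rw [hbot] at h3
    exact absurd h3 (by decide)
  obtain ⟨m, hm, hmle⟩ := Groth.Agent.Helper2.RegSeq.withBot_nat_of_le h2 h0
  rw [hm] at h1
  have h1' : n ≤ m + (s ∪ t).card := by exact_mod_cast h1
  have hmeq : m = Module.finrank (IsLocalRing.ResidueField (R ⧸ (I ⊔ J)))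
      (IsLocalRing.CotangentSpace (R ⧸ (I ⊔ J))) := by omega
  refine ⟨?_, ?_⟩
  · apply IsRegularLocalRing.of_spanFinrank_maximalIdeal_le
    rw [IsLocalRing.spanFinrank_maximalIdeal_eq_finrank_cotangentSpace, hm, ← hmeq]
  · rw [hm]
    congr 1
    have : m = a + b - n := by omega
    exact_mod_cast this

end Groth.Agent.Helper7.Transv
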