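import Mathlib

set_option autoImplicit false

namespace Groth.Agent.Helper7.TripleProd

open AlgebraicGeometry CategoryTheory CategoryTheory.Limits

universe u

theorem main (k : Type u) [Field k] (X₁ X₂ X₃ : Scheme.{u})
    (π₁ : X₁ ⟶ Spec (CommRingCat.of k)) (π₂ : X₂ ⟶ Spec (CommRingCat.of k)) (π₃ : X₃ ⟶ Spec (CommRingCat.of k))
    (p₁₃ : pullback (pullback.snd π₁ π₂) (pullback.fst π₂ π₃) ⟶ pullback π₁ π₃)
    (h₁₃ : p₁₃ ≫ pullback.fst π₁ π₃ =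
      pullback.fst (pullback.snd π₁ π₂) (pullback.fst π₂ π₃) ≫ pullback.fst π₁ π₂)
    (h₁₃' : p₁₃ ≫ pullback.snd π₁ π₃ =
      pullback.snd (pullback.snd π₁ π₂) (pullback.fst π₂ π₃) ≫ pullback.snd π₂ π₃)
    (W₁ : Set ↥(pullback π₁ π₂)) (W₂ : Set ↥(pullback π₂ π₃)) (R₁ : Set X₁)
    (W₁₂ : Set ↥(pullback (pullback.snd π₁ π₂) (pullback.fst π₂ π₃)))
    (hW₁₂ : W₁₂ = (pullback.fst (pullback.snd π₁ π₂) (pullback.fst π₂ π₃)).base ⁻¹' W₁ ∩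
      (pullback.snd (pullback.snd π₁ π₂) (pullback.fst π₂ π₃)).base ⁻¹' W₂)
    (W₃ : Set ↥(pullback π₁ π₃)) (hW₃ : W₃ = p₁₃.base '' W₁₂)
    (R₂ : Set X₂) (hR₂ : R₂ = (pullback.snd π₁ π₂).base '' (W₁ ∩ (pullback.fst π₁ π₂).base ⁻¹' R₁))
    (R₃ : Set X₃) (hR₃ : R₃ = (pullback.snd (pullback.snd π₁ π₂) (pullback.fst π₂ π₃) ≫ pullback.snd π₂ π₃).base ''
      (W₁₂ ∩ (pullback.fst (pullback.snd π₁ π₂) (pullback.fst π₂ π₃) ≫ pullback.fst π₁ π₂).base ⁻¹' R₁)) :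
    R₃ = (pullback.snd π₁ π₃).base '' (W₃ ∩ (pullback.fst π₁ π₃).base ⁻¹' R₁) ∧
      R₃ = (pullback.snd π₂ π₃).base '' (W₂ ∩ (pullback.fst π₂ π₃).base ⁻¹' R₂) := by
  subst hW₁₂ hW₃ hR₂ hR₃
  constructor
  · rw [← h₁₃', ← h₁₃]
    ext x
    simp only [Scheme.Hom.comp_base, TopCat.hom_comp, ContinuousMap.coe_comp, Set.mem_image,
      Set.mem_inter_iff, Set.mem_preimage, Function.comp_apply]
    constructor
    · rintro ⟨w, ⟨⟨hw1, hw2⟩, hw3⟩, rfl⟩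
      exact ⟨p₁₃.base w, ⟨⟨w, ⟨hw1, hw2⟩, rfl⟩, hw3⟩, rfl⟩
    · rintro ⟨_, ⟨⟨w, ⟨hw1, hw2⟩, rfl⟩, hw3⟩, rfl⟩
      exact ⟨w, ⟨⟨hw1, hw2⟩, hw3⟩, rfl⟩
  · ext x
    simp only [Scheme.Hom.comp_base, TopCat.hom_comp, ContinuousMap.coe_comp, Set.mem_image,
      Set.mem_inter_iff, Set.mem_preimage, Function.comp_apply]
    constructor
    · rintro ⟨w, ⟨⟨hw1, hw2⟩, hw3⟩, rfl⟩
      refine ⟨(pullback.snd (pullback.snd π₁ π₂) (pullback.fst π₂ π₃)).base w, ⟨hw2, ?_⟩, rfl⟩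
      refine ⟨(pullback.fst (pullback.snd π₁ π₂) (pullback.fst π₂ π₃)).base w, ⟨hw1, hw3⟩, ?_⟩
      have := congr(($(pullback.condition (f := pullback.snd π₁ π₂) (g := pullback.fst π₂ π₃))).base w)
      simpa using this
    · rintro ⟨y, ⟨hy, ⟨x', ⟨hx1, hx2⟩, hxy⟩⟩, rfl⟩
      obtain ⟨w, hw1, hw2⟩ := Scheme.Pullback.exists_preimage_pullback
        (f := pullback.snd π₁ π₂) (g := pullback.fst π₂ π₃) x' y hxy
      refine ⟨w, ⟨⟨?_, ?_⟩, ?_⟩, ?_⟩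
      · rw [hw1]; exact hx1
      · rw [hw2]; exact hy
      · rw [hw1]; exact hx2
      · rw [hw2]

end Groth.Agent.Helper7.TripleProd
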