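import Mathlib
import Groth.Agent.Helper7.DefHB1
import Groth.Agent.Helper7.DefHB3

set_option linter.style.haveILetI false
set_option linter.unusedSectionVars false
set_option autoImplicit false

/-!
# Deformations of smooth affine algebras over Artinian local bases are trivial (algebra)
-/

namespace Groth.Agent.Helper7.TrivDef

universe u

open TensorProduct Function
open Groth.Agent.Helper7.DefHB

section nak

variable {A : Type*} [CommRing A] {M : Type*} [AddCommGroup M] [Module A M]

/-- Nakayama for nilpotent ideals, no finiteness. -/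
theorem eq_top_of_sup_smul_eq_top (I : Ideal A) (hI : IsNilpotent I) (N : Submodule A M)
    (h : N ⊔ I • (⊤ : Submodule A M) = ⊤) : N = ⊤ := by
  have key : ∀ n : ℕ, N ⊔ (I ^ n) • (⊤ : Submodule A M) = ⊤ := by
    intro n
    induction n with
    | zero => simp
    | succ n ih =>
      have h1 : I • (⊤ : Submodule A M) ≤ N ⊔ (I ^ (n + 1)) • (⊤ : Submodule A M) := by
        calc I • (⊤ : Submodule A M) = I • (N ⊔ (I ^ n) • (⊤ : Submodule A M)) := by rw [ih]
          _ = I • N ⊔ I • ((I ^ n) • (⊤ : Submodule A M)) := Submodule.smul_sup _ _ _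
          _ ≤ N ⊔ (I ^ (n + 1)) • (⊤ : Submodule A M) := by
              refine sup_le_sup Submodule.smul_le_right (le_of_eq ?_)
              rw [← Submodule.mul_smul, ← pow_succ']
      exact eq_top_iff.mpr (le_trans (le_of_eq h.symm) (sup_le le_sup_left h1))
  obtain ⟨n, hn⟩ := hI
  have := key n
  rw [hn, Ideal.zero_eq_bot, Submodule.bot_smul, sup_bot_eq] at this
  exact this

end nak

section core

variable (k A B : Type u) [Field k] [CommRing A] [Algebra k A] (e : A →ₐ[k] k)
  [CommRing B] [Algebra k B]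

/-- The augmentation `A ⊗[k] B → B`, `a ⊗ b ↦ e(a) b`. -/
noncomputable def θ : A ⊗[k] B →ₐ[k] B :=
  Algebra.TensorProduct.lift ((Algebra.ofId k B).comp e) (AlgHom.id k B)
    (fun _ _ => Commute.all _ _)

lemma θ_tmul (a : A) (b : B) : θ k A B e (a ⊗ₜ b) = algebraMap k B (e a) * b := by
  simp [θ, Algebra.ofId_apply]

lemma sub_mem_smul_top (x : A ⊗[k] B) :
    x - (1 : A) ⊗ₜ[k] (θ k A B e x) ∈
      (RingHom.ker (e : A →+* k)) • (⊤ : Submodule A (A ⊗[k] B)) := by
  induction x using TensorProduct.induction_on with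
  | zero => simp
  | tmul a b =>
    rw [θ_tmul]
    have h1 : a ⊗ₜ[k] b - (1 : A) ⊗ₜ[k] (algebraMap k B (e a) * b) =
        (a - algebraMap k A (e a)) • ((1 : A) ⊗ₜ[k] b) := by
      rw [sub_smul, TensorProduct.smul_tmul', TensorProduct.smul_tmul', smul_eq_mul, mul_one,
        smul_eq_mul, mul_one, ← Algebra.smul_def, Algebra.algebraMap_eq_smul_one (e a),
        TensorProduct.smul_tmul]
    rw [h1]
    refine Submodule.smul_mem_smul ?_ trivial
    rw [RingHom.mem_ker, map_sub]
    simp
  | add x y hx hy =>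
    have : x + y - (1 : A) ⊗ₜ[k] (θ k A B e (x + y)) =
        (x - (1 : A) ⊗ₜ[k] (θ k A B e x)) + (y - (1 : A) ⊗ₜ[k] (θ k A B e y)) := by
      rw [map_add, TensorProduct.tmul_add]
      abel
    rw [this]
    exact add_mem hx hy

lemma mem_smul_top_of_θ_eq_zero (x : A ⊗[k] B) (hx : θ k A B e x = 0) :
    x ∈ (RingHom.ker (e : A →+* k)) • (⊤ : Submodule A (A ⊗[k] B)) := by
  have := sub_mem_smul_top k A B e x
  rwa [hx, TensorProduct.tmul_zero, sub_zero] at this

variable {k A B}

/-- **Triviality of deformations of formally smooth algebras over an Artinian local base.** -/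
theorem core [IsLocalRing A] [IsArtinianRing A] [Algebra.FormallySmooth k B]
    (B' : Type u) [CommRing B'] [Algebra A B'] [Module.Flat A B']
    (π : B' →+* B) (hπ : Surjective π)
    (hcomm : ∀ a, π (algebraMap A B' a) = algebraMap k B (e a))
    (hker : RingHom.ker π = (RingHom.ker (e : A →+* k)).map (algebraMap A B')) :
    ∃ ψ : A ⊗[k] B ≃ₐ[A] B', ∀ x, π (ψ x) = θ k A B e x := by
  -- `ker e` is the maximal ideal
  have hesurj : Surjective (e : A →+* k) := fun c => ⟨algebraMap k A c, by simp⟩
  haveI hmax : (RingHom.ker (e : A →+* k)).IsMaximal := RingHom.ker_isMaximal_of_surjective _ hesurj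
  have hm : RingHom.ker (e : A →+* k) = IsLocalRing.maximalIdeal A :=
    IsLocalRing.eq_maximalIdeal hmax
  have hnilm : IsNilpotent (RingHom.ker (e : A →+* k)) := by
    rw [hm]
    rw [← IsLocalRing.jacobson_eq_maximalIdeal ⊥ bot_ne_top]
    exact IsArtinianRing.isNilpotent_jacobson_bot
  letI algAB : Algebra A B := ((algebraMap k B).comp (e : A →+* k)).toAlgebra
  have halg : ∀ a : A, algebraMap A B a = algebraMap k B (e a) := fun a => rfl
  let πA : B' →ₐ[A] B := { π with commutes' := hcomm }
  let θA : A ⊗[k] B →ₐ[A] B :=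
    { (θ k A B e).toRingHom with
      commutes' := fun a => by
        rw [Algebra.TensorProduct.algebraMap_apply, halg]
        show θ k A B e (_ ⊗ₜ 1) = _
        rw [θ_tmul, mul_one]
        simp }
  have hπA : ∀ x, πA x = π x := fun _ => rfl
  have hθA : ∀ x, θA x = θ k A B e x := fun _ => rfl
  have hkerA : RingHom.ker (πA : B' →+* B) = RingHom.ker π := by
    ext x
    rfl
  have hnil : IsNilpotent (RingHom.ker (πA : B' →+* B)) := by
    rw [hkerA, hker]
    exact isNilpotent_map_of_isNilpotent _ hnilm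
  let ψ : A ⊗[k] B →ₐ[A] B' := Algebra.FormallySmooth.liftOfSurjective θA πA hπ hnil
  have hψ : ∀ x, π (ψ x) = θ k A B e x := fun x =>
    Algebra.FormallySmooth.liftOfSurjective_apply θA πA hπ hnil x
  -- membership in `m • ⊤` versus the kernel of `π`
  have hmem : ∀ y : B', y ∈ (RingHom.ker (e : A →+* k)) • (⊤ : Submodule A B') ↔ π y = 0 := by
    intro y
    rw [Ideal.smul_top_eq_map, Submodule.restrictScalars_mem, ← hker, RingHom.mem_ker]
  have hinj : Injective ψ := by
    have h1 : InjMod ψ.toLinearMap (RingHom.ker (e : A →+* k)) := by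
      intro z hz
      have h2 : π (ψ z) = 0 := (hmem _).mp hz
      rw [hψ] at h2
      exact mem_smul_top_of_θ_eq_zero k A B e z h2
    exact injective_of_injMod' (RingHom.ker (e : A →+* k)) hnilm ψ.toLinearMap h1
  have hsurj : Surjective ψ := by
    have h1 : LinearMap.range ψ.toLinearMap = ⊤ := by
      apply eq_top_of_sup_smul_eq_top (RingHom.ker (e : A →+* k)) hnilm
      rw [eq_top_iff]
      intro y _
      have h2 : y - ψ ((1 : A) ⊗ₜ[k] (π y)) ∈
          (RingHom.ker (e : A →+* k)) • (⊤ : Submodule A B') := by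
        rw [hmem, map_sub, hψ, θ_tmul]
        simp
      have : y = ψ ((1 : A) ⊗ₜ[k] (π y)) + (y - ψ ((1 : A) ⊗ₜ[k] (π y))) := by abel
      rw [this]
      exact Submodule.add_mem_sup ⟨_, rfl⟩ h2
    intro y
    have : y ∈ LinearMap.range ψ.toLinearMap := by rw [h1]; trivial
    obtain ⟨x, hx⟩ := this
    exact ⟨x, hx⟩
  exact ⟨AlgEquiv.ofBijective ψ ⟨hinj, hsurj⟩, hψ⟩

end core

end Groth.Agent.Helper7.TrivDef
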