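import Mathlib
import Groth.Agent.Helper7.TrivDef1

set_option linter.style.haveILetI false
set_option linter.unusedSectionVars false
set_option autoImplicit false

namespace Groth.Agent.Helper7.TrivDef

universe u

open CategoryTheory Function

/-- In a pushout square of commutative rings along a surjection `q`, the opposite map `q'` is
surjective with kernel generated by the image of `ker q`. -/
theorem surjective_and_ker_of_isPushout {R R' S S' : CommRingCat.{u}} {f : R ⟶ R'} {q : R ⟶ S}
    {q' : R' ⟶ S'} {f' : S ⟶ S'} (h : IsPushout f q q' f') (hq : Surjective q.hom) :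
    Surjective q'.hom ∧ RingHom.ker q'.hom = (RingHom.ker q.hom).map f.hom := by
  set J := (RingHom.ker q.hom).map f.hom with hJ
  let u : R' ⟶ CommRingCat.of (R' ⧸ J) := CommRingCat.ofHom (Ideal.Quotient.mk J)
  have hv0 : RingHom.ker q.hom ≤ RingHom.ker ((Ideal.Quotient.mk J).comp f.hom) := by
    intro a ha
    rw [RingHom.mem_ker, RingHom.comp_apply, Ideal.Quotient.eq_zero_iff_mem]
    exact Ideal.mem_map_of_mem _ ha
  let v₀ : S →+* R' ⧸ J := RingHom.liftOfSurjective q.hom hq ⟨(Ideal.Quotient.mk J).comp f.hom, hv0⟩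
  have hv₀ : ∀ a, v₀ (q.hom a) = Ideal.Quotient.mk J (f.hom a) := fun a =>
    RingHom.liftOfRightInverse_comp_apply _ _ _ ⟨(Ideal.Quotient.mk J).comp f.hom, hv0⟩ a
  let v : S ⟶ CommRingCat.of (R' ⧸ J) := CommRingCat.ofHom v₀
  have hfu : f ≫ u = q ≫ v := by
    ext a
    exact (hv₀ a).symm
  let d := h.desc u v hfu
  have hd1 : q' ≫ d = u := h.inl_desc u v hfu
  have hd2 : f' ≫ d = v := h.inr_desc u v hfu
  have hle : J ≤ RingHom.ker q'.hom := by
    rw [hJ, Ideal.map_le_iff_le_comap]
    intro a ha
    rw [Ideal.mem_comap, RingHom.mem_ker]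
    have := congrArg (fun t => t.hom a) h.w
    simp only [CommRingCat.hom_comp, RingHom.comp_apply] at this
    rw [this, (RingHom.mem_ker).mp ha, map_zero]
  refine ⟨?_, le_antisymm ?_ hle⟩
  · -- surjectivity
    let c : CommRingCat.of (R' ⧸ J) ⟶ S' := CommRingCat.ofHom (Ideal.Quotient.lift J q'.hom hle)
    have hc1 : u ≫ c = q' := by
      ext a
      simp [u, c]
    have hc2 : v ≫ c = f' := by
      ext s
      obtain ⟨a, rfl⟩ := hq s
      have h1 : (v ≫ c).hom (q.hom a) = (u ≫ c).hom (f.hom a) := by
        simp only [CommRingCat.hom_comp, RingHom.comp_apply]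
        congr 1
        exact hv₀ a
      rw [h1, hc1]
      have := congrArg (fun t => t.hom a) h.w
      simpa using this
    have hdc : d ≫ c = 𝟙 S' := by
      apply h.hom_ext
      · rw [← Category.assoc, hd1, hc1, Category.comp_id]
      · rw [← Category.assoc, hd2, hc2, Category.comp_id]
    intro y
    have hy : c.hom (d.hom y) = y := by
      have := congrArg (fun t => t.hom y) hdc
      simpa using this
    obtain ⟨x, hx⟩ := Ideal.Quotient.mk_surjective (d.hom y)
    refine ⟨x, ?_⟩
    rw [← hy, ← hx]
    simp [c]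
  · intro x hx
    rw [RingHom.mem_ker] at hx
    have h1 : u.hom x = d.hom (q'.hom x) := by
      rw [← hd1]
      simp
    rw [hx, map_zero] at h1
    exact Ideal.Quotient.eq_zero_iff_mem.mp h1

end Groth.Agent.Helper7.TrivDef
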