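import Mathlib
import Groth.Prelude
import Groth.Agent.Helper7.TrivDef2
import Groth.Agent.Lead.Thick4

set_option linter.style.haveILetI false
set_option linter.unusedSectionVars false
set_option autoImplicit false

namespace Groth.Agent.Helper7.TrivDef

universe u

open CategoryTheory AlgebraicGeometry TensorProduct

/-- The spectrum of an Artinian local ring is a point. -/
theorem subsingleton_spec_of_artinian_local (A : Type u) [CommRing A] [IsLocalRing A]
    [IsArtinianRing A] : Subsingleton (Spec (CommRingCat.of A)) := by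
  refine ⟨fun x y => ?_⟩
  have hx : x.asIdeal = IsLocalRing.maximalIdeal A :=
    IsLocalRing.eq_maximalIdeal (IsArtinianRing.isMaximal_of_isPrime x.asIdeal)
  have hy : y.asIdeal = IsLocalRing.maximalIdeal A :=
    IsLocalRing.eq_maximalIdeal (IsArtinianRing.isMaximal_of_isPrime y.asIdeal)
  exact PrimeSpectrum.ext (hx.trans hy.symm)

section main

variable (k : Type u) [Field k] (X : Scheme.{u}) (hX : X ⟶ Spec (CommRingCat.of k)) [IsAffine X]
  [Smooth hX] (A : Type u) [CommRing A] [IsLocalRing A] [IsArtinianRing A] [Algebra k A]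
  (e : A →ₐ[k] k) (X' : Scheme.{u}) (g : X' ⟶ Spec (CommRingCat.of A)) [Flat g] (i : X ⟶ X')

include e in
theorem isAffine_of_isPullback
    (hsq : IsPullback i hX g (Spec.map (CommRingCat.ofHom e.toRingHom))) : IsAffine X' := by
  have hesurj : Function.Surjective e.toRingHom := fun c => ⟨algebraMap k A c, by simp⟩
  haveI : IsClosedImmersion (Spec.map (CommRingCat.ofHom e.toRingHom)) :=
    IsClosedImmersion.spec_of_surjective _ hesurj
  haveI : Surjective (Spec.map (CommRingCat.ofHom e.toRingHom)) := by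
    refine ⟨fun x => ?_⟩
    haveI := subsingleton_spec_of_artinian_local A
    exact ⟨(⟨⊥, Ideal.isPrime_bot⟩ : PrimeSpectrum k), Subsingleton.elim _ _⟩
  haveI : IsClosedImmersion i :=
    MorphismProperty.of_isPullback (P := @IsClosedImmersion) hsq.flip inferInstance
  haveI : Surjective i :=
    MorphismProperty.of_isPullback (P := @Surjective) hsq.flip inferInstance
  exact Groth.Agent.Lead.Thick.isAffine_of_thickening i i.surjective


include e in
/-- **Deformations of a smooth affine scheme over an Artinian local base are trivial.** -/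
theorem exists_isPullback_of_smooth_affine
    (hsq : IsPullback i hX g (Spec.map (CommRingCat.ofHom e.toRingHom))) :
    ∃ p : X' ⟶ X, IsPullback p g hX (Spec.map (CommRingCat.ofHom (algebraMap k A))) ∧
      i ≫ p = 𝟙 X := by
  have hesurj : Function.Surjective e.toRingHom := fun c => ⟨algebraMap k A c, by simp⟩
  haveI : IsAffine X' := isAffine_of_isPullback k X hX A e X' g i hsq
  have hpo := isPushout_appTop_of_isPullback hsq
  letI algkB : Algebra k Γ(X, ⊤) :=
    ((Scheme.ΓSpecIso (CommRingCat.of k)).inv ≫ hX.appTop).hom.toAlgebra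
  letI algAB' : Algebra A Γ(X', ⊤) :=
    ((Scheme.ΓSpecIso (CommRingCat.of A)).inv ≫ g.appTop).hom.toAlgebra
  have hkB : CommRingCat.ofHom (algebraMap k Γ(X, ⊤)) =
      (Scheme.ΓSpecIso (CommRingCat.of k)).inv ≫ hX.appTop := rfl
  have hAB' : CommRingCat.ofHom (algebraMap A Γ(X', ⊤)) =
      (Scheme.ΓSpecIso (CommRingCat.of A)).inv ≫ g.appTop := rfl
  have hpo' : IsPushout (CommRingCat.ofHom (algebraMap A Γ(X', ⊤)))
      (CommRingCat.ofHom e.toRingHom) i.appTop (CommRingCat.ofHom (algebraMap k Γ(X, ⊤))) := by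
    refine hpo.of_iso (Scheme.ΓSpecIso (CommRingCat.of A)) (Iso.refl _)
      (Scheme.ΓSpecIso (CommRingCat.of k)) (Iso.refl _) ?_ ?_ ?_ ?_
    · rw [hAB']; simp
    · exact Scheme.ΓSpecIso_naturality (CommRingCat.ofHom e.toRingHom)
    · simp
    · rw [hkB]; simp
  obtain ⟨hπsurj, hπker⟩ := surjective_and_ker_of_isPushout hpo' hesurj
  have hcomm : ∀ a : A, i.appTop.hom (algebraMap A Γ(X', ⊤) a) = algebraMap k Γ(X, ⊤) (e a) := by
    intro a
    have := congrArg (fun t => t.hom a) hpo'.w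
    simpa using this
  haveI hflat : Module.Flat A Γ(X', ⊤) := by
    have h1 : g.appTop.hom.Flat := g.flat_appTop
    have h2 : ((Scheme.ΓSpecIso (CommRingCat.of A)).inv).hom.Flat :=
      RingHom.Flat.of_bijective (ConcreteCategory.bijective_of_isIso _)
    have h3 : (algebraMap A Γ(X', ⊤)).Flat := RingHom.Flat.comp h2 h1
    exact RingHom.flat_algebraMap_iff.mp h3
  haveI hsm : Algebra.FormallySmooth k Γ(X, ⊤) := by
    have h1 : hX.appTop.hom.Smooth :=
      (HasRingHomProperty.iff_of_isAffine (P := @Smooth)).mp inferInstance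
    have h2 : ((Scheme.ΓSpecIso (CommRingCat.of k)).inv).hom.Smooth :=
      RingHom.Smooth.holdsForLocalizationAway.of_bijective _ _
        (ConcreteCategory.bijective_of_isIso _)
    have h3 : (algebraMap k Γ(X, ⊤)).Smooth := RingHom.Smooth.comp h2 h1
    have h4 : Algebra.Smooth k Γ(X, ⊤) := RingHom.smooth_algebraMap.mp h3
    infer_instance
  obtain ⟨ψ, hψ⟩ := core e Γ(X', ⊤) i.appTop.hom hπsurj hcomm hπker
  let ψ' : Γ(X, ⊤) ⊗[k] A ≃+* Γ(X', ⊤) :=
    (Algebra.TensorProduct.comm k Γ(X, ⊤) A).toRingEquiv.trans ψ.toRingEquiv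
  have hψ'r : ∀ a : A, ψ' ((1 : Γ(X, ⊤)) ⊗ₜ[k] a) = algebraMap A Γ(X', ⊤) a := by
    intro a
    show ψ (a ⊗ₜ[k] (1 : Γ(X, ⊤))) = _
    rw [← ψ.commutes a]
    rfl
  have hψ'l : ∀ b : Γ(X, ⊤), i.appTop.hom (ψ' (b ⊗ₜ[k] (1 : A))) = b := by
    intro b
    show i.appTop.hom (ψ ((1 : A) ⊗ₜ[k] b)) = b
    rw [hψ, θ_tmul]
    simp
  have hpb := isPullback_SpecMap_of_isPushout _ _ _ _
    (CommRingCat.isPushout_tensorProduct k Γ(X, ⊤) A)
  let E : CommRingCat.of (Γ(X, ⊤) ⊗[k] A) ≅ CommRingCat.of Γ(X', ⊤) := ψ'.toCommRingCatIso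
  let e₁ : Spec (CommRingCat.of (Γ(X, ⊤) ⊗[k] A)) ≅ X' :=
    (Scheme.Spec.mapIso E.op).symm ≪≫ X'.isoSpec.symm
  let p : X' ⟶ X := e₁.inv ≫ Spec.map (CommRingCat.ofHom
    (Algebra.TensorProduct.includeLeftRingHom : Γ(X, ⊤) →+* Γ(X, ⊤) ⊗[k] A)) ≫ X.isoSpec.inv
  have hXeq : X.isoSpec.hom ≫ Spec.map (CommRingCat.ofHom (algebraMap k Γ(X, ⊤))) = hX := by
    rw [hkB, Spec.map_comp, ← Category.assoc, Scheme.isoSpec_hom_naturality, Category.assoc,
      Scheme.isoSpec_Spec_hom, ← Spec.map_comp, Iso.inv_hom_id, Spec.map_id, Category.comp_id]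
  have hgeq : X'.isoSpec.hom ≫ Spec.map (CommRingCat.ofHom (algebraMap A Γ(X', ⊤))) = g := by
    rw [hAB', Spec.map_comp, ← Category.assoc, Scheme.isoSpec_hom_naturality, Category.assoc,
      Scheme.isoSpec_Spec_hom, ← Spec.map_comp, Iso.inv_hom_id, Spec.map_id, Category.comp_id]
  refine ⟨p, ?_, ?_⟩
  · refine hpb.of_iso e₁ X.isoSpec.symm (Iso.refl _) (Iso.refl _) ?_ ?_ ?_ ?_
    · simp [p]
    · rw [Iso.refl_hom, Category.comp_id]
      have h1 : CommRingCat.ofHom (algebraMap A Γ(X', ⊤)) ≫ E.inv =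
          CommRingCat.ofHom (Algebra.TensorProduct.includeRight.toRingHom :
            A →+* Γ(X, ⊤) ⊗[k] A) := by
        rw [Iso.comp_inv_eq]
        ext a
        exact (hψ'r a).symm
      have h2 : e₁.hom = Spec.map E.inv ≫ X'.isoSpec.inv := rfl
      rw [h2, Category.assoc, ← hgeq, Iso.inv_hom_id_assoc, ← Spec.map_comp, h1]
    · rw [Iso.refl_hom, Category.comp_id, Iso.symm_hom, ← hXeq, Iso.inv_hom_id_assoc]
    · simp
  · have h1 : CommRingCat.ofHom (Algebra.TensorProduct.includeLeftRingHom :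
        Γ(X, ⊤) →+* Γ(X, ⊤) ⊗[k] A) ≫ E.hom ≫ i.appTop = 𝟙 _ := by
      ext b
      exact hψ'l b
    have h2 : e₁.inv = X'.isoSpec.hom ≫ Spec.map E.hom := rfl
    show i ≫ e₁.inv ≫ _ ≫ _ = _
    rw [h2, Category.assoc, ← Category.assoc i, ← Scheme.isoSpec_hom_naturality, Category.assoc,
      ← Spec.map_comp_assoc, ← Spec.map_comp_assoc, h1, Spec.map_id]
    erw [Category.id_comp]
    exact Iso.hom_inv_id _

end main

end Groth.Agent.Helper7.TrivDef
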