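import Mathlib
import Groth.Agent.Helper7.TrivDef1

set_option linter.style.haveILetI false
set_option linter.unusedSectionVars false
set_option autoImplicit false

/-!
# Trivial deformations with marked points (algebra)
-/

namespace Groth.Agent.Helper7.TrivDef

universe u

open TensorProduct Function
open Groth.Agent.Helper7.DefHB

section bij

variable {k A B : Type u} [Field k] [CommRing A] [Algebra k A] (e : A →ₐ[k] k)
  [CommRing B] [Algebra k B]

/-- Any `A`-algebra map `A ⊗[k] B → B'` lifting the augmentation is bijective, when `B'` is flat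
over the Artinian local ring `A` and `B' → B` has kernel `𝔪 B'`. -/
theorem bijective_of_comp_eq_θ [IsLocalRing A] [IsArtinianRing A]
    (B' : Type u) [CommRing B'] [Algebra A B'] [Module.Flat A B']
    (π : B' →+* B)
    (hker : RingHom.ker π = (RingHom.ker (e : A →+* k)).map (algebraMap A B'))
    (ψ : A ⊗[k] B →ₐ[A] B') (hψ : ∀ x, π (ψ x) = θ k A B e x) : Bijective ψ := by
  have hesurj : Surjective (e : A →+* k) := fun c => ⟨algebraMap k A c, by simp⟩
  haveI hmax : (RingHom.ker (e : A →+* k)).IsMaximal := RingHom.ker_isMaximal_of_surjective _ hesurj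
  have hm : RingHom.ker (e : A →+* k) = IsLocalRing.maximalIdeal A :=
    IsLocalRing.eq_maximalIdeal hmax
  have hnilm : IsNilpotent (RingHom.ker (e : A →+* k)) := by
    rw [hm, ← IsLocalRing.jacobson_eq_maximalIdeal ⊥ bot_ne_top]
    exact IsArtinianRing.isNilpotent_jacobson_bot
  have hmem : ∀ y : B', y ∈ (RingHom.ker (e : A →+* k)) • (⊤ : Submodule A B') ↔ π y = 0 := by
    intro y
    rw [Ideal.smul_top_eq_map, Submodule.restrictScalars_mem, ← hker, RingHom.mem_ker]
  have hinj : Injective ψ := by
    have h1 : InjMod ψ.toLinearMap (RingHom.ker (e : A →+* k)) := by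
      intro z hz
      have h2 : π (ψ z) = 0 := (hmem _).mp hz
      rw [hψ] at h2
      exact mem_smul_top_of_θ_eq_zero k A B e z h2
    exact injective_of_injMod' (RingHom.ker (e : A →+* k)) hnilm ψ.toLinearMap h1
  have hsurj : Surjective ψ := by
    have h1 : LinearMap.range ψ.toLinearMap = ⊤ := by
      apply eq_top_of_sup_smul_eq_top (RingHom.ker (e : A →+* k)) hnilm
      rw [eq_top_iff]
      intro y _
      have h2 : y - ψ ((1 : A) ⊗ₜ[k] (π y)) ∈
          (RingHom.ker (e : A →+* k)) • (⊤ : Submodule A B') := by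
        rw [hmem, map_sub, hψ, θ_tmul]
        simp
      have : y = ψ ((1 : A) ⊗ₜ[k] (π y)) + (y - ψ ((1 : A) ⊗ₜ[k] (π y))) := by abel
      rw [this]
      exact Submodule.add_mem_sup ⟨_, rfl⟩ h2
    intro y
    have : y ∈ LinearMap.range ψ.toLinearMap := by rw [h1]; trivial
    obtain ⟨x, hx⟩ := this
    exact ⟨x, hx⟩
  exact ⟨hinj, hsurj⟩

end bij

section derivation

variable {k : Type*} {B : Type*} [Field k] [CommRing B] [Algebra k B] {ι : Type*}

/-- `ι → k` regarded as a `B`-module through the characters `σ j`. -/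
def Mσ (_ : ι → B →ₐ[k] k) : Type _ := ι → k

variable (σ : ι → B →ₐ[k] k)

instance : AddCommGroup (Mσ σ) := inferInstanceAs (AddCommGroup (ι → k))
instance : Module k (Mσ σ) := inferInstanceAs (Module k (ι → k))
instance : Module B (Mσ σ) :=
  Module.compHom (ι → k) (RingHom.pi fun j => ((σ j : B →ₐ[k] k) : B →+* k))

lemma Mσ.smul_apply (b : B) (v : Mσ σ) (j : ι) : (b • v) j = σ j b * v j := rfl
lemma Mσ.smul_apply' (c : k) (v : Mσ σ) (j : ι) : (c • v) j = c * v j := rfl
lemma Mσ.add_apply (v w : Mσ σ) (j : ι) : (v + w) j = v j + w j := rfl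

instance : IsScalarTower k B (Mσ σ) := ⟨fun c b v => by
  funext j
  rw [Mσ.smul_apply, Mσ.smul_apply', Mσ.smul_apply, map_smul, smul_eq_mul, mul_assoc]⟩

/-- Evaluation at all the characters, as a `B`-linear map. -/
def evσ : B →ₗ[B] Mσ σ where
  toFun b := fun j => σ j b
  map_add' a b := by funext j; exact map_add (σ j) a b
  map_smul' a b := by
    funext j
    rw [RingHom.id_apply, Mσ.smul_apply, smul_eq_mul, map_mul]

lemma evσ_apply (b : B) (j : ι) : evσ σ b j = σ j b := rfl

lemma evσ_surjective [Finite ι] (hσ : Injective σ) : Surjective (evσ σ) := by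
  intro v
  have hmax : ∀ j, (RingHom.ker ((σ j : B →ₐ[k] k) : B →+* k)).IsMaximal := fun j =>
    RingHom.ker_isMaximal_of_surjective _ (fun c => ⟨algebraMap k B c, by simp⟩)
  have hcop : Pairwise (IsCoprime on fun j => RingHom.ker ((σ j : B →ₐ[k] k) : B →+* k)) := by
    intro j l hjl
    haveI := hmax j
    haveI := hmax l
    refine Ideal.isCoprime_of_isMaximal ?_
    intro heq
    have heq : RingHom.ker ((σ j : B →ₐ[k] k) : B →+* k) =
        RingHom.ker ((σ l : B →ₐ[k] k) : B →+* k) := heq
    apply hjl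
    apply hσ
    ext b
    have h1 : b - algebraMap k B (σ j b) ∈ RingHom.ker ((σ j : B →ₐ[k] k) : B →+* k) := by
      rw [RingHom.mem_ker]
      simp
    rw [heq, RingHom.mem_ker] at h1
    simp only [AlgHom.coe_toRingHom, map_sub, AlgHom.commutes, Algebra.algebraMap_self,
      RingHom.id_apply, sub_eq_zero] at h1
    exact h1.symm
  obtain ⟨r, hr⟩ := Ideal.exists_forall_sub_mem_ideal hcop (fun j => algebraMap k B (v j))
  refine ⟨r, ?_⟩
  funext j
  have := hr j
  rw [RingHom.mem_ker] at this
  simp only [AlgHom.coe_toRingHom, map_sub, AlgHom.commutes, Algebra.algebraMap_self,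
    RingHom.id_apply, sub_eq_zero] at this
  exact this

/-- Prescribing the values of a derivation at finitely many distinct rational points of a
formally smooth algebra. -/
theorem exists_derivation [Finite ι] [Algebra.FormallySmooth k B] (hσ : Injective σ)
    (δ : ι → B →ₗ[k] k)
    (hδ : ∀ j a b, δ j (a * b) = σ j a * δ j b + σ j b * δ j a) :
    ∃ D : Derivation k B B, ∀ j b, σ j (D b) = δ j b := by
  let δL : B →ₗ[k] Mσ σ :=
    { toFun := fun b j => δ j b
      map_add' := fun a b => by funext j; exact map_add (δ j) a b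
      map_smul' := fun c b => by funext j; exact map_smul (δ j) c b }
  let δD : Derivation k B (Mσ σ) := Derivation.mk' δL (fun a b => by
    funext j
    exact hδ j a b)
  let l : Ω[B⁄k] →ₗ[B] Mσ σ := (KaehlerDifferential.linearMapEquivDerivation k B).symm δD
  obtain ⟨h, hh⟩ := Module.projective_lifting_property (evσ σ) l (evσ_surjective σ hσ)
  refine ⟨KaehlerDifferential.linearMapEquivDerivation k B h, fun j b => ?_⟩
  have h1 : evσ σ (h (KaehlerDifferential.D k B b)) = l (KaehlerDifferential.D k B b) := by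
    rw [← hh]
    rfl
  have h2 : l (KaehlerDifferential.D k B b) = δD b := by
    simp [l]
  have h3 := congrFun (h1.trans h2) j
  exact h3

end derivation


section marked

open DualNumber

instance instFiniteDualNumber (k : Type*) [Field k] : Module.Finite k (DualNumber k) :=
  inferInstanceAs (Module.Finite k (k × k))

instance instArtinianDualNumber (k : Type*) [Field k] : IsArtinianRing (DualNumber k) :=
  IsArtinianRing.of_finite k (DualNumber k)

variable {k : Type u} [Field k] {B : Type u} [CommRing B] [Algebra k B]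

/-- The marked-points refinement of `core` over the dual numbers. -/
theorem exists_hom_marked [Algebra.FormallySmooth k B]
    (B' : Type u) [CommRing B'] [Algebra (DualNumber k) B'] [Module.Flat (DualNumber k) B']
    (π : B' →+* B) (hπ : Surjective π)
    (hcomm : ∀ a, π (algebraMap (DualNumber k) B' a) =
      algebraMap k B (TrivSqZeroExt.fstHom k k k a))
    (hker : RingHom.ker π = (RingHom.ker
      ((TrivSqZeroExt.fstHom k k k : DualNumber k →ₐ[k] k) : DualNumber k →+* k)).map
        (algebraMap (DualNumber k) B'))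
    {ι : Type*} [Finite ι] (σ : ι → B →+* k) (hσ : ∀ j c, σ j (algebraMap k B c) = c)
    (hσinj : Injective σ)
    (σ' : ι → B' →+* DualNumber k) (hσ' : ∀ j a, σ' j (algebraMap (DualNumber k) B' a) = a)
    (hσσ' : ∀ j y, TrivSqZeroExt.fst (σ' j y) = σ j (π y)) :
    ∃ β : B →+* B',
      (∀ c : k, β (algebraMap k B c) =
        algebraMap (DualNumber k) B' (algebraMap k (DualNumber k) c)) ∧
      (∀ b, π (β b) = b) ∧ ∀ j b, σ' j (β b) = algebraMap k (DualNumber k) (σ j b) := by
  obtain ⟨ψ, hψ⟩ := core (TrivSqZeroExt.fstHom k k k) B' π hπ hcomm hker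
  -- the first lift
  let β₀ : B →+* B' := (ψ : DualNumber k ⊗[k] B →+* B').comp
    (Algebra.TensorProduct.includeRight : B →ₐ[k] DualNumber k ⊗[k] B).toRingHom
  have hβ₀ : ∀ b, β₀ b = ψ ((1 : DualNumber k) ⊗ₜ[k] b) := fun b => rfl
  have hβ₀k : ∀ c : k, β₀ (algebraMap k B c) =
      algebraMap (DualNumber k) B' (algebraMap k (DualNumber k) c) := by
    intro c
    rw [hβ₀, ← ψ.commutes, Algebra.TensorProduct.algebraMap_apply, Algebra.algebraMap_self,
      RingHom.id_apply, Algebra.algebraMap_eq_smul_one, Algebra.algebraMap_eq_smul_one,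
      TensorProduct.smul_tmul]
  have hπβ₀ : ∀ b, π (β₀ b) = b := by
    intro b
    rw [hβ₀, hψ, θ_tmul]
    simp
  let σA : ι → B →ₐ[k] k := fun j => { σ j with commutes' := hσ j }
  have hσA : ∀ j b, σA j b = σ j b := fun j b => rfl
  have hσAinj : Injective σA := by
    intro j l hjl
    apply hσinj
    ext b
    rw [← hσA j b, ← hσA l b, hjl]
  -- the tangent vectors
  have hfst : ∀ j b, TrivSqZeroExt.fst (σ' j (β₀ b)) = σ j b := by
    intro j b
    rw [hσσ', hπβ₀]
  have hlin : ∀ j (c : k) (b : B), σ' j (β₀ (c • b)) = c • σ' j (β₀ b) := by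
    intro j c b
    rw [Algebra.smul_def, map_mul, hβ₀k, map_mul, hσ', Algebra.smul_def]
  let δ : ι → B →ₗ[k] k := fun j =>
    { toFun := fun b => TrivSqZeroExt.snd (σ' j (β₀ b))
      map_add' := fun a b => by rw [map_add, map_add, TrivSqZeroExt.snd_add]
      map_smul' := fun c b => by rw [hlin, TrivSqZeroExt.snd_smul, RingHom.id_apply] }
  have hδ : ∀ j a b, δ j (a * b) = σA j a * δ j b + σA j b * δ j a := by
    intro j a b
    show TrivSqZeroExt.snd (σ' j (β₀ (a * b))) = σ j a * TrivSqZeroExt.snd (σ' j (β₀ b)) +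
      σ j b * TrivSqZeroExt.snd (σ' j (β₀ a))
    rw [map_mul, map_mul, DualNumber.snd_mul, hfst, hfst]
    ring
  obtain ⟨D, hD⟩ := exists_derivation σA hσAinj δ hδ
  -- the twisted lift
  set ε' : B' := algebraMap (DualNumber k) B' DualNumber.eps with hε'
  have hεε : ε' * ε' = 0 := by
    rw [hε', ← map_mul, DualNumber.eps_mul_eps, map_zero]
  have hπε : π ε' = 0 := by
    rw [hε', hcomm]
    simp
  let β₁ : B →+* B' :=
    { toFun := fun b => β₀ b - ε' * β₀ (D b)
      map_one' := by simp
      map_mul' := fun a b => by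
        rw [map_mul, Derivation.leibniz, map_add, smul_eq_mul, smul_eq_mul, map_mul, map_mul]
        linear_combination (-(β₀ (D a) * β₀ (D b))) * hεε
      map_zero' := by simp
      map_add' := fun a b => by
        rw [map_add, map_add, map_add]
        ring }
  have hβ₁ : ∀ b, β₁ b = β₀ b - ε' * β₀ (D b) := fun b => rfl
  refine ⟨β₁, ?_, ?_, ?_⟩
  · intro c
    rw [hβ₁, Derivation.map_algebraMap, map_zero, mul_zero, sub_zero, hβ₀k]
  · intro b
    rw [hβ₁, map_sub, map_mul, hπε, zero_mul, sub_zero, hπβ₀]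
  · intro j b
    rw [hβ₁, map_sub, map_mul, hε', hσ']
    apply TrivSqZeroExt.ext
    · rw [TrivSqZeroExt.fst_sub, TrivSqZeroExt.fst_mul, DualNumber.fst_eps, zero_mul, sub_zero,
        hfst, TrivSqZeroExt.algebraMap_eq_inl, TrivSqZeroExt.fst_inl]
    · rw [TrivSqZeroExt.snd_sub, DualNumber.snd_mul, DualNumber.fst_eps, DualNumber.snd_eps,
        zero_mul, zero_add, one_mul, hfst, TrivSqZeroExt.algebraMap_eq_inl, TrivSqZeroExt.snd_inl,
        sub_eq_zero]
      exact (hD j b).symm

end marked

end Groth.Agent.Helper7.TrivDef
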