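import Mathlib
import Groth.Prelude
import Groth.Agent.Helper7.TrivDef3
import Groth.Agent.Helper7.TrivDef4

set_option linter.style.haveILetI false
set_option linter.unusedSectionVars false
set_option autoImplicit false

namespace Groth.Agent.Helper7.TrivDef

universe u

open CategoryTheory AlgebraicGeometry TensorProduct

section main

variable (k : Type u) [Field k] (X : Scheme.{u}) (hX : X ⟶ Spec (CommRingCat.of k)) [IsAffine X]
  (A : Type u) [CommRing A] [IsLocalRing A] [IsArtinianRing A] [Algebra k A]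
  (e : A →ₐ[k] k) (X' : Scheme.{u}) (g : X' ⟶ Spec (CommRingCat.of A)) [Flat g] (i : X ⟶ X')

include e in
/-- A ring map `β : Γ(X) → Γ(X')` over `k → A` splitting `i` exhibits `X'` as the trivial
deformation. -/
theorem isPullback_of_hom [IsAffine X']
    (hsq : IsPullback i hX g (Spec.map (CommRingCat.ofHom e.toRingHom)))
    (β : Γ(X, ⊤) ⟶ Γ(X', ⊤))
    (hβk : (Scheme.ΓSpecIso (CommRingCat.of k)).inv ≫ hX.appTop ≫ β =
      CommRingCat.ofHom (algebraMap k A) ≫ (Scheme.ΓSpecIso (CommRingCat.of A)).inv ≫ g.appTop)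
    (hβπ : β ≫ i.appTop = 𝟙 _) :
    ∃ p : X' ⟶ X, IsPullback p g hX (Spec.map (CommRingCat.ofHom (algebraMap k A))) ∧
      i ≫ p = 𝟙 X ∧ p.appTop = β := by
  have hesurj : Function.Surjective e.toRingHom := fun c => ⟨algebraMap k A c, by simp⟩
  have hpo := isPushout_appTop_of_isPullback hsq
  letI algkB : Algebra k Γ(X, ⊤) :=
    ((Scheme.ΓSpecIso (CommRingCat.of k)).inv ≫ hX.appTop).hom.toAlgebra
  letI algAB' : Algebra A Γ(X', ⊤) :=
    ((Scheme.ΓSpecIso (CommRingCat.of A)).inv ≫ g.appTop).hom.toAlgebra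
  have hkB : CommRingCat.ofHom (algebraMap k Γ(X, ⊤)) =
      (Scheme.ΓSpecIso (CommRingCat.of k)).inv ≫ hX.appTop := rfl
  have hAB' : CommRingCat.ofHom (algebraMap A Γ(X', ⊤)) =
      (Scheme.ΓSpecIso (CommRingCat.of A)).inv ≫ g.appTop := rfl
  have hpo' : IsPushout (CommRingCat.ofHom (algebraMap A Γ(X', ⊤)))
      (CommRingCat.ofHom e.toRingHom) i.appTop (CommRingCat.ofHom (algebraMap k Γ(X, ⊤))) := by
    refine hpo.of_iso (Scheme.ΓSpecIso (CommRingCat.of A)) (Iso.refl _)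
      (Scheme.ΓSpecIso (CommRingCat.of k)) (Iso.refl _) ?_ ?_ ?_ ?_
    · rw [hAB']; simp
    · exact Scheme.ΓSpecIso_naturality (CommRingCat.ofHom e.toRingHom)
    · simp
    · rw [hkB]; simp
  obtain ⟨hπsurj, hπker⟩ := surjective_and_ker_of_isPushout hpo' hesurj
  have hcomm : ∀ a : A, i.appTop.hom (algebraMap A Γ(X', ⊤) a) = algebraMap k Γ(X, ⊤) (e a) := by
    intro a
    have := congrArg (fun t => t.hom a) hpo'.w
    simpa using this
  haveI hflat : Module.Flat A Γ(X', ⊤) := by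
    have h1 : g.appTop.hom.Flat := g.flat_appTop
    have h2 : ((Scheme.ΓSpecIso (CommRingCat.of A)).inv).hom.Flat :=
      RingHom.Flat.of_bijective (ConcreteCategory.bijective_of_isIso _)
    have h3 : (algebraMap A Γ(X', ⊤)).Flat := RingHom.Flat.comp h2 h1
    exact RingHom.flat_algebraMap_iff.mp h3
  -- the map `ψ`
  letI algkB' : Algebra k Γ(X', ⊤) := ((algebraMap A Γ(X', ⊤)).comp (algebraMap k A)).toAlgebra
  haveI : IsScalarTower k A Γ(X', ⊤) := IsScalarTower.of_algebraMap_eq (fun _ => rfl)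
  have hβk' : ∀ c : k, β.hom (algebraMap k Γ(X, ⊤) c) = algebraMap k Γ(X', ⊤) c := by
    intro c
    have := congrArg (fun t => t.hom c) hβk
    exact this
  have hβπ' : ∀ b, i.appTop.hom (β.hom b) = b := by
    intro b
    have := congrArg (fun t => t.hom b) hβπ
    exact this
  let βk : Γ(X, ⊤) →ₐ[k] Γ(X', ⊤) := { β.hom with commutes' := hβk' }
  let ψ₀ : A ⊗[k] Γ(X, ⊤) →ₐ[A] Γ(X', ⊤) :=
    Algebra.TensorProduct.lift (Algebra.ofId A Γ(X', ⊤)) βk (fun _ _ => Commute.all _ _)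
  have hψ₀t : ∀ (a : A) (b : Γ(X, ⊤)), ψ₀ (a ⊗ₜ[k] b) = algebraMap A Γ(X', ⊤) a * β.hom b := by
    intro a b
    simp [ψ₀, βk, Algebra.ofId_apply]
  have hψ₀ : ∀ x, i.appTop.hom (ψ₀ x) = θ k A Γ(X, ⊤) e x := by
    intro x
    induction x using TensorProduct.induction_on with
    | zero => simp
    | tmul a b => rw [hψ₀t, map_mul, hcomm, hβπ', θ_tmul]
    | add x y hx hy => rw [map_add, map_add, map_add, hx, hy]
  have hbij := bijective_of_comp_eq_θ e Γ(X', ⊤) i.appTop.hom hπker ψ₀ hψ₀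
  let ψ : A ⊗[k] Γ(X, ⊤) ≃ₐ[A] Γ(X', ⊤) := AlgEquiv.ofBijective ψ₀ hbij
  have hψ : ∀ x, ψ x = ψ₀ x := fun _ => rfl
  let ψ' : Γ(X, ⊤) ⊗[k] A ≃+* Γ(X', ⊤) :=
    (Algebra.TensorProduct.comm k Γ(X, ⊤) A).toRingEquiv.trans ψ.toRingEquiv
  have hψ'r : ∀ a : A, ψ' ((1 : Γ(X, ⊤)) ⊗ₜ[k] a) = algebraMap A Γ(X', ⊤) a := by
    intro a
    show ψ (a ⊗ₜ[k] (1 : Γ(X, ⊤))) = _
    rw [← ψ.commutes a]
    rfl
  have hψ'l : ∀ b : Γ(X, ⊤), ψ' (b ⊗ₜ[k] (1 : A)) = β.hom b := by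
    intro b
    show ψ ((1 : A) ⊗ₜ[k] b) = _
    rw [hψ, hψ₀t, map_one, one_mul]
  have hpb := isPullback_SpecMap_of_isPushout _ _ _ _
    (CommRingCat.isPushout_tensorProduct k Γ(X, ⊤) A)
  let E : CommRingCat.of (Γ(X, ⊤) ⊗[k] A) ≅ CommRingCat.of Γ(X', ⊤) := ψ'.toCommRingCatIso
  let e₁ : Spec (CommRingCat.of (Γ(X, ⊤) ⊗[k] A)) ≅ X' :=
    (Scheme.Spec.mapIso E.op).symm ≪≫ X'.isoSpec.symm
  let p : X' ⟶ X := e₁.inv ≫ Spec.map (CommRingCat.ofHom
    (Algebra.TensorProduct.includeLeftRingHom : Γ(X, ⊤) →+* Γ(X, ⊤) ⊗[k] A)) ≫ X.isoSpec.inv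
  have hXeq : X.isoSpec.hom ≫ Spec.map (CommRingCat.ofHom (algebraMap k Γ(X, ⊤))) = hX := by
    rw [hkB, Spec.map_comp, ← Category.assoc, Scheme.isoSpec_hom_naturality, Category.assoc,
      Scheme.isoSpec_Spec_hom, ← Spec.map_comp, Iso.inv_hom_id, Spec.map_id, Category.comp_id]
  have hgeq : X'.isoSpec.hom ≫ Spec.map (CommRingCat.ofHom (algebraMap A Γ(X', ⊤))) = g := by
    rw [hAB', Spec.map_comp, ← Category.assoc, Scheme.isoSpec_hom_naturality, Category.assoc,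
      Scheme.isoSpec_Spec_hom, ← Spec.map_comp, Iso.inv_hom_id, Spec.map_id, Category.comp_id]
  have h2 : e₁.inv = X'.isoSpec.hom ≫ Spec.map E.hom := rfl
  have hincl : CommRingCat.ofHom (Algebra.TensorProduct.includeLeftRingHom :
      Γ(X, ⊤) →+* Γ(X, ⊤) ⊗[k] A) ≫ E.hom = β := by
    ext b
    exact hψ'l b
  have hpβ : p ≫ X.isoSpec.hom = X'.isoSpec.hom ≫ Spec.map β := by
    show (e₁.inv ≫ _ ≫ X.isoSpec.inv) ≫ X.isoSpec.hom = _
    rw [h2, Category.assoc, Category.assoc, Category.assoc, Iso.inv_hom_id, Category.comp_id,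
      ← Spec.map_comp, hincl]
  have happ : p.appTop = β := by
    apply Spec.map_injective
    rw [← cancel_epi X'.isoSpec.hom, Scheme.isoSpec_hom_naturality, hpβ]
  refine ⟨p, ?_, ?_, happ⟩
  · refine hpb.of_iso e₁ X.isoSpec.symm (Iso.refl _) (Iso.refl _) ?_ ?_ ?_ ?_
    · simp [p]
    · rw [Iso.refl_hom, Category.comp_id]
      have h1 : CommRingCat.ofHom (algebraMap A Γ(X', ⊤)) ≫ E.inv =
          CommRingCat.ofHom (Algebra.TensorProduct.includeRight.toRingHom :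
            A →+* Γ(X, ⊤) ⊗[k] A) := by
        rw [Iso.comp_inv_eq]
        ext a
        exact (hψ'r a).symm
      have h2 : e₁.hom = Spec.map E.inv ≫ X'.isoSpec.inv := rfl
      rw [h2, Category.assoc, ← hgeq, Iso.inv_hom_id_assoc, ← Spec.map_comp, h1]
    · rw [Iso.refl_hom, Category.comp_id, Iso.symm_hom, ← hXeq, Iso.inv_hom_id_assoc]
    · simp
  · apply ext_of_isAffine
    rw [Scheme.Hom.comp_appTop, happ, hβπ]
    rfl

end main

end Groth.Agent.Helper7.TrivDef
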