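import Mathlib
import Groth.Prelude
import Groth.Agent.Helper7.TrivDef5

set_option linter.style.haveILetI false
set_option linter.unusedSectionVars false
set_option autoImplicit false

namespace Groth.Agent.Helper7.TrivDef

universe u v

open CategoryTheory AlgebraicGeometry TensorProduct

/-- First-order deformations of a smooth affine scheme with marked rational points are trivial. -/
theorem s15991
    (k : Type u) [Field k] (X : Scheme.{u}) (hX : X ⟶ Spec (CommRingCat.of k)) [IsAffine X]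
    [Smooth hX]
    {ι : Type v} [Finite ι] (p : ι → (Spec (CommRingCat.of k) ⟶ X)) (hp : ∀ j, p j ≫ hX = 𝟙 _)
    (hinj : Function.Injective p)
    (X' : Scheme.{u}) (g : X' ⟶ Spec (CommRingCat.of (DualNumber k))) [Flat g] (i : X ⟶ X')
    (hsq : IsPullback i hX g
      (Spec.map (CommRingCat.ofHom (TrivSqZeroExt.fstHom k k k).toRingHom)))
    (p' : ι → (Spec (CommRingCat.of (DualNumber k)) ⟶ X')) (hp' : ∀ j, p' j ≫ g = 𝟙 _)
    (hpp' : ∀ j, p j ≫ i =
      Spec.map (CommRingCat.ofHom (TrivSqZeroExt.fstHom k k k).toRingHom) ≫ p' j) :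
    ∃ p₁ : X' ⟶ X, IsPullback p₁ g hX
        (Spec.map (CommRingCat.ofHom (algebraMap k (DualNumber k)))) ∧
      i ≫ p₁ = 𝟙 X ∧
      ∀ j, p' j ≫ p₁ = Spec.map (CommRingCat.ofHom (algebraMap k (DualNumber k))) ≫ p j := by
  have hesurj : Function.Surjective (TrivSqZeroExt.fstHom k k k).toRingHom :=
    fun c => ⟨algebraMap k (DualNumber k) c, by simp⟩
  haveI : IsAffine X' := isAffine_of_isPullback k X hX (DualNumber k)
    (TrivSqZeroExt.fstHom k k k) X' g i hsq
  have hpo := isPushout_appTop_of_isPullback hsq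
  letI algkB : Algebra k Γ(X, ⊤) :=
    ((Scheme.ΓSpecIso (CommRingCat.of k)).inv ≫ hX.appTop).hom.toAlgebra
  letI algAB' : Algebra (DualNumber k) Γ(X', ⊤) :=
    ((Scheme.ΓSpecIso (CommRingCat.of (DualNumber k))).inv ≫ g.appTop).hom.toAlgebra
  have hkB : CommRingCat.ofHom (algebraMap k Γ(X, ⊤)) =
      (Scheme.ΓSpecIso (CommRingCat.of k)).inv ≫ hX.appTop := rfl
  have hAB' : CommRingCat.ofHom (algebraMap (DualNumber k) Γ(X', ⊤)) =
      (Scheme.ΓSpecIso (CommRingCat.of (DualNumber k))).inv ≫ g.appTop := rfl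
  have hpo' : IsPushout (CommRingCat.ofHom (algebraMap (DualNumber k) Γ(X', ⊤)))
      (CommRingCat.ofHom (TrivSqZeroExt.fstHom k k k).toRingHom) i.appTop
      (CommRingCat.ofHom (algebraMap k Γ(X, ⊤))) := by
    refine hpo.of_iso (Scheme.ΓSpecIso (CommRingCat.of (DualNumber k))) (Iso.refl _)
      (Scheme.ΓSpecIso (CommRingCat.of k)) (Iso.refl _) ?_ ?_ ?_ ?_
    · rw [hAB']; simp
    · exact Scheme.ΓSpecIso_naturality (CommRingCat.ofHom (TrivSqZeroExt.fstHom k k k).toRingHom)
    · simp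
    · rw [hkB]; simp
  obtain ⟨hπsurj, hπker⟩ := surjective_and_ker_of_isPushout hpo' hesurj
  have hcomm : ∀ a : DualNumber k, i.appTop.hom (algebraMap (DualNumber k) Γ(X', ⊤) a) =
      algebraMap k Γ(X, ⊤) (TrivSqZeroExt.fstHom k k k a) := by
    intro a
    have := congrArg (fun t => t.hom a) hpo'.w
    simpa using this
  haveI hflat : Module.Flat (DualNumber k) Γ(X', ⊤) := by
    have h1 : g.appTop.hom.Flat := g.flat_appTop
    have h2 : ((Scheme.ΓSpecIso (CommRingCat.of (DualNumber k))).inv).hom.Flat :=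
      RingHom.Flat.of_bijective (ConcreteCategory.bijective_of_isIso _)
    have h3 : (algebraMap (DualNumber k) Γ(X', ⊤)).Flat := RingHom.Flat.comp h2 h1
    exact RingHom.flat_algebraMap_iff.mp h3
  haveI hsm : Algebra.FormallySmooth k Γ(X, ⊤) := by
    have h1 : hX.appTop.hom.Smooth :=
      (HasRingHomProperty.iff_of_isAffine (P := @Smooth)).mp inferInstance
    have h2 : ((Scheme.ΓSpecIso (CommRingCat.of k)).inv).hom.Smooth :=
      RingHom.Smooth.holdsForLocalizationAway.of_bijective _ _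
        (ConcreteCategory.bijective_of_isIso _)
    have h3 : (algebraMap k Γ(X, ⊤)).Smooth := RingHom.Smooth.comp h2 h1
    have h4 : Algebra.Smooth k Γ(X, ⊤) := RingHom.smooth_algebraMap.mp h3
    infer_instance
  -- the sections
  let σ : ι → Γ(X, ⊤) →+* k := fun j =>
    ((p j).appTop ≫ (Scheme.ΓSpecIso (CommRingCat.of k)).hom).hom
  let σ' : ι → Γ(X', ⊤) →+* DualNumber k := fun j =>
    ((p' j).appTop ≫ (Scheme.ΓSpecIso (CommRingCat.of (DualNumber k))).hom).hom
  have hσ : ∀ j c, σ j (algebraMap k Γ(X, ⊤) c) = c := by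
    intro j c
    have h1 : CommRingCat.ofHom (algebraMap k Γ(X, ⊤)) ≫
        ((p j).appTop ≫ (Scheme.ΓSpecIso (CommRingCat.of k)).hom) = 𝟙 _ := by
      rw [hkB, Category.assoc, ← Category.assoc hX.appTop, ← Scheme.Hom.comp_appTop, hp j]
      simp
    exact congrArg (fun t => t.hom c) h1
  have hσ' : ∀ j a, σ' j (algebraMap (DualNumber k) Γ(X', ⊤) a) = a := by
    intro j a
    have h1 : CommRingCat.ofHom (algebraMap (DualNumber k) Γ(X', ⊤)) ≫
        ((p' j).appTop ≫ (Scheme.ΓSpecIso (CommRingCat.of (DualNumber k))).hom) = 𝟙 _ := by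
      rw [hAB', Category.assoc, ← Category.assoc g.appTop, ← Scheme.Hom.comp_appTop, hp' j]
      simp
    exact congrArg (fun t => t.hom a) h1
  have hσinj : Function.Injective σ := by
    intro j l hjl
    apply hinj
    apply ext_of_isAffine
    have h1 : (p j).appTop ≫ (Scheme.ΓSpecIso (CommRingCat.of k)).hom =
        (p l).appTop ≫ (Scheme.ΓSpecIso (CommRingCat.of k)).hom := by
      ext b
      exact congrArg (fun t => t b) hjl
    exact (cancel_mono _).mp h1
  have hσσ' : ∀ j y, TrivSqZeroExt.fst (σ' j y) = σ j (i.appTop.hom y) := by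
    intro j y
    have h1 : ((p' j).appTop ≫ (Scheme.ΓSpecIso (CommRingCat.of (DualNumber k))).hom) ≫
        CommRingCat.ofHom (TrivSqZeroExt.fstHom k k k).toRingHom =
        i.appTop ≫ ((p j).appTop ≫ (Scheme.ΓSpecIso (CommRingCat.of k)).hom) := by
      rw [Category.assoc, ← Scheme.ΓSpecIso_naturality, ← Category.assoc, ← Category.assoc,
        ← Scheme.Hom.comp_appTop, ← Scheme.Hom.comp_appTop, hpp' j]
    exact congrArg (fun t => t.hom y) h1
  obtain ⟨β, hβk, hβπ, hβσ⟩ := exists_hom_marked Γ(X', ⊤) i.appTop.hom hπsurj hcomm hπker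
    σ hσ hσinj σ' hσ' hσσ'
  obtain ⟨p₁, hpb, hip, happ⟩ := isPullback_of_hom k X hX (DualNumber k)
    (TrivSqZeroExt.fstHom k k k) X' g i hsq (CommRingCat.ofHom β)
    (by
      ext c
      exact hβk c)
    (by
      ext b
      exact hβπ b)
  refine ⟨p₁, hpb, hip, fun j => ?_⟩
  apply ext_of_isAffine
  rw [Scheme.Hom.comp_appTop, Scheme.Hom.comp_appTop, happ,
    ← cancel_mono (Scheme.ΓSpecIso (CommRingCat.of (DualNumber k))).hom, Category.assoc,
    Category.assoc, Scheme.ΓSpecIso_naturality]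
  refine CommRingCat.hom_ext (RingHom.ext fun b => ?_)
  exact hβσ j b

end Groth.Agent.Helper7.TrivDef
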