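import Mathlib

namespace Groth.Agent.Helper7.TwDiag

open Polynomial

/-- Ultrametric principle: in a vanishing finite sum whose terms are not all zero, two distinct
terms have the same nonzero size. -/
theorem exists_pair_eq {L : Type*} [AddCommGroup L] (ν : L → ℝ) (hna : IsNonarchimedean ν)
    (hneg : ∀ y, ν (-y) = ν y) (hz : ν 0 = 0) (h0 : ∀ y, ν y = 0 → y = 0) (hnn : ∀ y, 0 ≤ ν y)
    {m : ℕ} (S : Fin m → L) (hsum : ∑ i, S i = 0) (hne : S ≠ 0) :
    ∃ i j, i ≠ j ∧ S i ≠ 0 ∧ S j ≠ 0 ∧ ν (S i) = ν (S j) := by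
  obtain ⟨k, hk⟩ : ∃ k, S k ≠ 0 := by
    by_contra hcon
    push Not at hcon
    exact hne (funext hcon)
  haveI : Nonempty (Fin m) := ⟨k⟩
  obtain ⟨i0, hi0⟩ := Finite.exists_max (fun i => ν (S i))
  have hpos : ∀ y : L, y ≠ 0 → 0 < ν y := fun y hy =>
    lt_of_le_of_ne (hnn y) (fun h => hy (h0 y h.symm))
  have hi0pos : 0 < ν (S i0) := lt_of_lt_of_le (hpos _ hk) (hi0 k)
  have hSi0 : S i0 ≠ 0 := by
    intro h
    rw [h, hz] at hi0pos
    exact lt_irrefl _ hi0pos
  have hsplit : S i0 + ∑ j ∈ Finset.univ.erase i0, S j = 0 := by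
    rw [Finset.add_sum_erase _ _ (Finset.mem_univ i0)]
    exact hsum
  have hne' : (Finset.univ.erase i0).Nonempty := by
    by_contra hcon
    rw [Finset.not_nonempty_iff_eq_empty] at hcon
    rw [hcon, Finset.sum_empty, add_zero] at hsplit
    exact hSi0 hsplit
  obtain ⟨b, hb, hle⟩ := IsNonarchimedean.finset_image_add_of_nonempty hna S hne'
  have heq : S i0 = -∑ j ∈ Finset.univ.erase i0, S j := eq_neg_of_add_eq_zero_left hsplit
  have h1 : ν (S i0) ≤ ν (S b) := by
    rw [heq, hneg]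
    exact hle
  have h2 : ν (S b) = ν (S i0) := le_antisymm (hi0 b) h1
  have hSb : S b ≠ 0 := by
    intro h
    rw [h, hz] at h2
    rw [← h2] at hi0pos
    exact lt_irrefl _ hi0pos
  exact ⟨b, i0, Finset.ne_of_mem_erase hb, hSb, hSi0, h2⟩

section Main

variable {F : Type*} [NontriviallyNormedField F] [CompleteSpace F] [IsUltrametricDist F]
variable {L : Type*} [Field L] [Algebra F L] [FiniteDimensional F L]

theorem exists_zpow_eq (t : F) (hval : ∀ a : F, a ≠ 0 → ∃ z : ℤ, ‖a‖ = ‖t‖ ^ z)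
    (y : L) (hy : y ≠ 0) :
    ∃ z : ℤ, spectralNorm F L y ^ Module.finrank F L = ‖t‖ ^ z := by
  have hint : IsIntegral F y := Algebra.IsIntegral.isIntegral y
  have ha0 : (minpoly F y).coeff 0 ≠ 0 := minpoly.coeff_zero_ne_zero hint hy
  obtain ⟨z, hz⟩ := hval _ ha0
  obtain ⟨q, hq⟩ := minpoly.degree_dvd (K := F) (L := L) hint
  have hr : 0 < (minpoly F y).natDegree := minpoly.natDegree_pos hint
  refine ⟨z * q, ?_⟩
  have h1 : (‖(minpoly F y).coeff 0‖ ^ (1 / ((minpoly F y).natDegree : ℝ))) ^ (minpoly F y).natDegree =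
      ‖(minpoly F y).coeff 0‖ := by
    rw [← Real.rpow_natCast, ← Real.rpow_mul (norm_nonneg _), one_div,
      inv_mul_cancel₀ (by exact_mod_cast hr.ne'), Real.rpow_one]
  rw [spectralNorm.spectralNorm_eq_norm_coeff_zero_rpow F L y, hq, pow_mul, h1, hz, zpow_mul,
    zpow_natCast]

theorem spectralNorm_term (t : F) (i d : ℕ) (y : L) :
    spectralNorm F L (algebraMap F L (t ^ i) * y ^ d) = ‖t‖ ^ i * spectralNorm F L y ^ d := by
  rw [← spectralMulAlgNorm_def, map_mul, spectralMulAlgNorm_def, spectralNorm_extends, norm_pow,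
    map_pow, spectralMulAlgNorm_def]

theorem dvd_of_lt (t : F) (ht0 : t ≠ 0) (ht1 : ‖t‖ < 1)
    (hval : ∀ a : F, a ≠ 0 → ∃ z : ℤ, ‖a‖ = ‖t‖ ^ z) (d : ℕ) (i j : ℕ) (hij : i < j)
    (y y' : L) (hy : y ≠ 0) (hy' : y' ≠ 0)
    (h : spectralNorm F L (algebraMap F L (t ^ i) * y ^ d) =
      spectralNorm F L (algebraMap F L (t ^ j) * y' ^ d)) :
    d ∣ (j - i) * Module.finrank F L := by
  obtain ⟨z, hz⟩ := exists_zpow_eq t hval y hy
  obtain ⟨z', hz'⟩ := exists_zpow_eq t hval y' hy'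
  rw [spectralNorm_term, spectralNorm_term] at h
  set n := Module.finrank F L with hn
  have htpos : 0 < ‖t‖ := norm_pos_iff.mpr ht0
  have h2 : (‖t‖ ^ i * spectralNorm F L y ^ d) ^ n = (‖t‖ ^ j * spectralNorm F L y' ^ d) ^ n := by
    rw [h]
  rw [mul_pow, mul_pow, ← pow_mul, ← pow_mul, ← pow_mul, ← pow_mul, mul_comm d n,
    pow_mul (spectralNorm F L y), pow_mul (spectralNorm F L y'), hz, hz', ← zpow_natCast,
    ← zpow_natCast (‖t‖) (j * n), ← zpow_natCast (‖t‖ ^ z), ← zpow_natCast (‖t‖ ^ z'), ← zpow_mul,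
    ← zpow_mul, ← zpow_add₀ htpos.ne', ← zpow_add₀ htpos.ne',
    zpow_right_inj₀ htpos ht1.ne] at h2
  have h3 : ((j : ℤ) - i) * n = (z - z') * d := by push_cast at h2; linarith
  have h4 : (d : ℤ) ∣ (((j - i : ℕ) * n : ℕ) : ℤ) := by
    rw [Nat.cast_mul, Nat.cast_sub hij.le, h3]
    exact Dvd.intro_left _ rfl
  exact Int.natCast_dvd_natCast.mp h4

theorem dvd_of_solution (t : F) (ht0 : t ≠ 0) (ht1 : ‖t‖ < 1)
    (hval : ∀ a : F, a ≠ 0 → ∃ z : ℤ, ‖a‖ = ‖t‖ ^ z) (d N : ℕ) (hd : 1 ≤ d)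
    (x : Fin (N + 1) → L) (hx : x ≠ 0)
    (heq : x 0 ^ d = ∑ i : Fin N, algebraMap F L (t ^ ((i : ℕ) + 1)) * x i.succ ^ d) :
    ∃ k : ℕ, 1 ≤ k ∧ k ≤ N ∧ d ∣ k * Module.finrank F L := by
  set T : Fin (N + 1) → L := fun i => algebraMap F L (t ^ (i : ℕ)) * x i ^ d with hT
  set S : Fin (N + 1) → L := Fin.cons (T 0) (fun i => -T i.succ) with hS
  have hν : ∀ i, spectralNorm F L (S i) = spectralNorm F L (T i) := by
    intro i
    refine Fin.cases ?_ (fun i => ?_) i
    · rfl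
    · change spectralNorm F L (-T i.succ) = _
      exact spectralNorm_neg (Algebra.IsAlgebraic.isAlgebraic _)
  have hS0 : ∀ i, S i ≠ 0 → x i ≠ 0 := by
    intro i
    refine Fin.cases ?_ (fun i => ?_) i
    · intro h hx0
      apply h
      change T 0 = 0
      simp only [hT, hx0, zero_pow (by omega : d ≠ 0), mul_zero]
    · intro h hx0
      apply h
      change -T i.succ = 0
      simp only [hT, hx0, zero_pow (by omega : d ≠ 0), mul_zero, neg_zero]
  have hsum : ∑ i, S i = 0 := by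
    rw [Fin.sum_univ_succ]
    simp only [hS, Fin.cons_zero, Fin.cons_succ, Finset.sum_neg_distrib]
    have : T 0 = x 0 ^ d := by simp [hT]
    rw [this, heq]
    simp only [hT, Fin.val_succ]
    ring
  have hne : S ≠ 0 := by
    intro h
    apply hx
    funext i
    have hi : S i = 0 := congrFun h i
    revert hi
    refine Fin.cases ?_ (fun i => ?_) i
    · intro hi
      change T 0 = 0 at hi
      simp only [hT, Fin.val_zero, pow_zero, map_one, one_mul] at hi
      exact pow_eq_zero_iff (by omega) |>.mp hi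
    · intro hi
      change -T i.succ = 0 at hi
      rw [neg_eq_zero] at hi
      simp only [hT] at hi
      rcases mul_eq_zero.mp hi with h1 | h1
      · exact absurd ((map_eq_zero _).mp h1) (pow_ne_zero _ ht0)
      · exact pow_eq_zero_iff (by omega) |>.mp h1
  obtain ⟨i, j, hij, hSi, hSj, hνij⟩ := exists_pair_eq (spectralNorm F L)
    isNonarchimedean_spectralNorm (fun y => spectralNorm_neg (Algebra.IsAlgebraic.isAlgebraic y))
    spectralNorm_zero
    (fun y hy => eq_zero_of_map_spectralNorm_eq_zero hy (Algebra.IsAlgebraic.isAlgebraic y))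
    spectralNorm_nonneg S hsum hne
  rw [hν, hν] at hνij
  have hxi := hS0 i hSi
  have hxj := hS0 j hSj
  rcases lt_or_gt_of_ne (fun h => hij (Fin.ext h) : (i : ℕ) ≠ j) with hlt | hlt
  · exact ⟨j - i, by omega, by omega, dvd_of_lt t ht0 ht1 hval d i j hlt (x i) (x j) hxi hxj hνij⟩
  · exact ⟨i - j, by omega, by omega,
      dvd_of_lt t ht0 ht1 hval d j i hlt (x j) (x i) hxj hxi hνij.symm⟩

end Main

end Groth.Agent.Helper7.TwDiag
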