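import Mathlib

namespace Groth.Agent.Helper7.TwDiag

open TensorProduct

universe u v

section ModuleInduction

variable {F : Type u} {A : Type u} [Field F] [CommRing A] [Algebra F A]

theorem dvd_finrank_module (g : ℕ)
    (h : ∀ m : Ideal A, m.IsMaximal → g ∣ Module.finrank F (A ⧸ m)) :
    ∀ (k : ℕ) (M : Type v) [AddCommGroup M] [Module A M] [Module F M] [IsScalarTower F A M]
      [Module.Finite F M], Module.finrank F M = k → g ∣ k := by
  intro k
  induction k using Nat.strong_induction_on with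
  | _ k ih =>
    intro M _ _ _ _ _ hk
    by_cases hM : Subsingleton M
    · rw [← hk, Module.finrank_zero_of_subsingleton]
      exact dvd_zero g
    rw [not_subsingleton_iff_nontrivial] at hM
    haveI : Module.Finite A M := Module.Finite.of_restrictScalars_finite F A M
    obtain ⟨M', hM'⟩ : ∃ M' : Submodule A M, IsCoatom M' := by
      rcases eq_top_or_exists_le_coatom (⊥ : Submodule A M) with h1 | ⟨M', hM', -⟩
      · exact absurd h1 bot_ne_top
      · exact ⟨M', hM'⟩
    haveI : IsSimpleModule A (M ⧸ M') := isSimpleModule_iff_isCoatom.mpr hM'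
    obtain ⟨I, hI, ⟨e⟩⟩ := isSimpleModule_iff_quot_maximal.mp (inferInstance : IsSimpleModule A (M ⧸ M'))
    have e1 : (M ⧸ M'.restrictScalars F) ≃ₗ[F] (A ⧸ I) :=
      (Submodule.Quotient.restrictScalarsEquiv F M').trans (e.restrictScalars F)
    have h1 : Module.finrank F (M ⧸ M'.restrictScalars F) + Module.finrank F (M'.restrictScalars F) =
        Module.finrank F M := Submodule.finrank_quotient_add_finrank _
    rw [e1.finrank_eq] at h1
    haveI : Module.Finite F ↥M' :=
      Module.Finite.of_injective (M'.subtype.restrictScalars F) M'.injective_subtype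
    have h2 : Module.finrank F (M'.restrictScalars F) = Module.finrank F ↥M' := rfl
    haveI : Nontrivial (A ⧸ I) := Ideal.Quotient.nontrivial_iff.mpr hI.ne_top
    haveI : Module.Finite F (A ⧸ I) := Module.Finite.of_surjective e1.toLinearMap e1.surjective
    have h3 : 0 < Module.finrank F (A ⧸ I) := Module.finrank_pos
    have h4 : g ∣ Module.finrank F ↥M' := ih _ (by omega) ↥M' rfl
    rw [← hk, ← h1, h2]
    exact dvd_add (h I hI) h4

theorem dvd_finrank_algebra [Module.Finite F A] (g : ℕ)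
    (h : ∀ m : Ideal A, m.IsMaximal → g ∣ Module.finrank F (A ⧸ m)) :
    g ∣ Module.finrank F A :=
  dvd_finrank_module g h _ A rfl

end ModuleInduction

theorem dvd_finrank_of_tensor {K F L : Type u} [Field K] [Field F] [Field L] [Algebra K F]
    [Algebra K L] [FiniteDimensional K L] (g : ℕ)
    (h : ∀ (L' : Type u) [Field L'] [Algebra F L'] [Algebra K L'] [IsScalarTower K F L']
      [FiniteDimensional F L'] (_ : L →ₐ[K] L'), g ∣ Module.finrank F L') :
    g ∣ Module.finrank K L := by
  rw [← Module.finrank_baseChange (R := F) (S := K) (M' := L)]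
  refine dvd_finrank_algebra (F := F) (A := F ⊗[K] L) g ?_
  intro m hm
  letI : Field ((F ⊗[K] L) ⧸ m) := Ideal.Quotient.field m
  exact h ((F ⊗[K] L) ⧸ m)
    ((Ideal.Quotient.mkₐ K m).comp (Algebra.TensorProduct.includeRight : L →ₐ[K] F ⊗[K] L))

theorem gcd_dvd_of_dvd_mul (d N n k : ℕ) (hk1 : 1 ≤ k) (hkN : k ≤ N) (h : d ∣ k * n) :
    ((Finset.Icc 1 N).filter (fun δ => δ ∣ d)).gcd (fun δ => d / δ) ∣ n := by
  have hpos : 0 < Nat.gcd d k := Nat.gcd_pos_of_pos_right d hk1
  have hmem : Nat.gcd d k ∈ (Finset.Icc 1 N).filter (fun δ => δ ∣ d) := by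
    rw [Finset.mem_filter, Finset.mem_Icc]
    exact ⟨⟨hpos, (Nat.gcd_le_right d hk1).trans hkN⟩, Nat.gcd_dvd_left d k⟩
  refine (Finset.gcd_dvd hmem).trans ?_
  have hcop : Nat.Coprime (d / Nat.gcd d k) (k / Nat.gcd d k) := Nat.coprime_div_gcd_div_gcd hpos
  obtain ⟨d', hd'⟩ := Nat.gcd_dvd_left d k
  obtain ⟨k', hk'⟩ := Nat.gcd_dvd_right d k
  have hd1 : d / Nat.gcd d k = d' := Nat.div_eq_of_eq_mul_right hpos hd'
  have hk1' : k / Nat.gcd d k = k' := Nat.div_eq_of_eq_mul_right hpos hk'
  rw [hd1, hk1'] at hcop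
  rw [hd1]
  have h5 : Nat.gcd d k * d' ∣ Nat.gcd d k * (k' * n) := by
    rw [← hd', ← mul_assoc, ← hk']
    exact h
  have h6 : d' ∣ k' * n := (Nat.mul_dvd_mul_iff_left hpos).mp h5
  rw [mul_comm] at h6
  exact hcop.dvd_of_dvd_mul_right h6

end Groth.Agent.Helper7.TwDiag
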