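import Mathlib

namespace Groth.Agent.Helper7.TwDiag

open IsDedekindDomain IsDedekindDomain.HeightOneSpectrum WithZero

universe u

theorem exists_complete_field (R : Type u) [CommRing R] [IsDomain R] [IsDiscreteValuationRing R]
    (K : Type u) [Field K] [Algebra R K] [IsFractionRing R K] (ϖ : R) (hϖ : Irreducible ϖ) :
    ∃ (F : Type u) (_ : NontriviallyNormedField F) (_ : Algebra K F),
      CompleteSpace F ∧ IsUltrametricDist F ∧
        algebraMap K F (algebraMap R K ϖ) ≠ 0 ∧ ‖algebraMap K F (algebraMap R K ϖ)‖ < 1 ∧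
        ∀ a : F, a ≠ 0 → ∃ z : ℤ, ‖a‖ = ‖algebraMap K F (algebraMap R K ϖ)‖ ^ z := by
  let v : HeightOneSpectrum R :=
    ⟨IsLocalRing.maximalIdeal R, inferInstance, IsDiscreteValuationRing.not_a_field R⟩
  letI hr1 : (Valued.v : Valuation (v.adicCompletion K) ℤᵐ⁰).RankOne :=
    Valuation.IsRankOneDiscrete.rankOne _ (e := 2) one_lt_two
  letI nnf : NontriviallyNormedField (v.adicCompletion K) :=
    Valued.toNontriviallyNormedField (L := v.adicCompletion K) (Γ₀ := ℤᵐ⁰)
  have hvt : Valued.v (algebraMap K (v.adicCompletion K) (algebraMap R K ϖ)) = exp (-1 : ℤ) := by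
    rw [algebraMap_adicCompletion, Function.comp_apply, Algebra.algebraMap_self, RingHom.id_apply,
      valuedAdicCompletion_eq_valuation', valuation_of_algebraMap]
    exact v.intValuation_singleton hϖ.ne_zero hϖ.maximalIdeal_eq
  have hnorm_eq : ∀ a b : v.adicCompletion K, Valued.v a = Valued.v b → ‖a‖ = ‖b‖ := by
    intro a b hab
    exact le_antisymm (Valued.toNormedField.norm_le_iff.mpr hab.le)
      (Valued.toNormedField.norm_le_iff.mpr hab.ge)
  refine ⟨v.adicCompletion K, nnf, inferInstance, ?_, ?_, ?_, ?_, ?_⟩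
  · infer_instance
  · infer_instance
  · intro h
    rw [h, map_zero] at hvt
    exact WithZero.exp_ne_zero.symm hvt
  · rw [Valued.toNormedField.norm_lt_one_iff, hvt, ← exp_zero, exp_lt_exp]
    norm_num
  · intro a ha
    have hva : Valued.v a ≠ 0 := (Valuation.ne_zero_iff _).mpr ha
    refine ⟨-(log (Valued.v a)), ?_⟩
    rw [← norm_zpow]
    apply hnorm_eq
    rw [map_zpow₀, hvt, ← exp_zsmul, smul_eq_mul]
    simp [exp_log hva]

end Groth.Agent.Helper7.TwDiag
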