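import Mathlib
import Groth.Agent.Helper7.TwDiagA
import Groth.Agent.Helper7.TwDiagB
import Groth.Agent.Helper7.TwDiagC

namespace Groth.Agent.Helper7.TwDiag

open Polynomial

universe u

variable (R : Type u) [CommRing R] [IsDomain R] [IsDiscreteValuationRing R]
  (K : Type u) [Field K] [Algebra R K] [IsFractionRing R K]

theorem gcd_dvd_finrank (ϖ : R) (hϖ : Irreducible ϖ) (d N : ℕ) (hd : 1 ≤ d)
    (L : Type u) [Field L] [Algebra K L] [FiniteDimensional K L]
    (x : Fin (N + 1) → L) (hx : x ≠ 0)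
    (heq : x 0 ^ d = ∑ i : Fin N, algebraMap K L (algebraMap R K (ϖ ^ ((i : ℕ) + 1))) * x i.succ ^ d) :
    ((Finset.Icc 1 N).filter (fun δ => δ ∣ d)).gcd (fun δ => d / δ) ∣ Module.finrank K L := by
  obtain ⟨F, _, _, _, _, ht0, ht1, hval⟩ := exists_complete_field R K ϖ hϖ
  refine dvd_finrank_of_tensor (K := K) (F := F) (L := L) _ ?_
  intro L' _ _ _ _ _ φ
  have hx' : (fun i => φ (x i)) ≠ 0 := by
    intro h
    apply hx
    funext i
    have := congrFun h i
    simpa using this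
  have heq' : φ (x 0) ^ d = ∑ i : Fin N,
      algebraMap F L' ((algebraMap K F (algebraMap R K ϖ)) ^ ((i : ℕ) + 1)) * φ (x i.succ) ^ d := by
    rw [← map_pow, heq, map_sum]
    refine Finset.sum_congr rfl fun i _ => ?_
    rw [map_mul, map_pow, AlgHom.commutes, IsScalarTower.algebraMap_apply K F L']
    simp only [map_pow]
  obtain ⟨k, hk1, hkN, hdvd⟩ := dvd_of_solution (F := F) (L := L')
    (algebraMap K F (algebraMap R K ϖ)) ht0 ht1 hval d N hd (fun i => φ (x i)) hx' heq'
  exact gcd_dvd_of_dvd_mul d N _ k hk1 hkN hdvd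

theorem exists_solution (ϖ : R) (hϖ : Irreducible ϖ) (d N δ : ℕ) (hd : 1 ≤ d) (hδ1 : 1 ≤ δ)
    (hδN : δ ≤ N) (hδd : δ ∣ d) :
    ∃ (L : Type u) (_ : Field L) (_ : Algebra K L),
      FiniteDimensional K L ∧ Module.finrank K L = d / δ ∧
      ∃ x : Fin (N + 1) → L, x ≠ 0 ∧
        x 0 ^ d = ∑ i : Fin N, algebraMap K L (algebraMap R K (ϖ ^ ((i : ℕ) + 1))) * x i.succ ^ d := by
  obtain ⟨e, he⟩ := hδd
  have he0 : e ≠ 0 := by
    rintro rfl
    omega
  have hde : d / δ = e := Nat.div_eq_of_eq_mul_right (by omega) he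
  set p : R[X] := X ^ e - C ϖ with hp
  have hmonic : p.Monic := monic_X_pow_sub_C ϖ he0
  have hdeg : p.natDegree = e := natDegree_X_pow_sub_C
  have hP : (IsLocalRing.maximalIdeal R) = Ideal.span {ϖ} := hϖ.maximalIdeal_eq
  have hirr : Irreducible p := by
    refine Polynomial.IsEisensteinAt.irreducible (𝓟 := IsLocalRing.maximalIdeal R) ?_ inferInstance
      hmonic.isPrimitive (by omega)
    refine ⟨?_, ?_, ?_⟩
    · rw [hmonic.leadingCoeff]
      exact fun h => (Ideal.ne_top_iff_one _).mp (IsLocalRing.maximalIdeal.isMaximal R).ne_top h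
    · intro n hn
      rw [hdeg] at hn
      rw [hp, coeff_sub, coeff_X_pow, if_neg hn.ne, coeff_C]
      split_ifs
      · rw [zero_sub, neg_mem_iff, hP]
        exact Ideal.mem_span_singleton_self ϖ
      · simp
    · rw [hp, coeff_sub, coeff_X_pow, if_neg (Ne.symm he0), coeff_C_zero, zero_sub, neg_mem_iff, hP,
        Ideal.span_singleton_pow, Ideal.mem_span_singleton]
      intro hdvd
      obtain ⟨c, hc⟩ := hdvd
      have h1 : ϖ * 1 = ϖ * (ϖ * c) := by rw [mul_one, ← mul_assoc, ← sq, ← hc]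
      have h2 : 1 = ϖ * c := mul_left_cancel₀ hϖ.ne_zero h1
      exact hϖ.not_isUnit (isUnit_iff_exists_inv.mpr ⟨c, h2.symm⟩)
  have hirrK : Irreducible (p.map (algebraMap R K)) :=
    (Monic.irreducible_iff_irreducible_map_fraction_map (K := K) hmonic).mp hirr
  have hdegK : (p.map (algebraMap R K)).natDegree = e := by rw [hmonic.natDegree_map, hdeg]
  have hpm : p.map (algebraMap R K) = X ^ e - C (algebraMap R K ϖ) := by
    rw [hp, Polynomial.map_sub, Polynomial.map_pow, map_X, map_C]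
  generalize p.map (algebraMap R K) = f at hirrK hdegK hpm
  haveI : Fact (Irreducible f) := ⟨hirrK⟩
  have hne0 : f ≠ 0 := hirrK.ne_zero
  have hroot : (AdjoinRoot.root f) ^ e = algebraMap K (AdjoinRoot f) (algebraMap R K ϖ) := by
    have h : eval₂ (AdjoinRoot.of f) (AdjoinRoot.root f) (X ^ e - C (algebraMap R K ϖ)) = 0 := by
      rw [← hpm]
      exact AdjoinRoot.eval₂_root f
    rw [eval₂_sub, eval₂_pow, eval₂_X, eval₂_C, sub_eq_zero] at h
    rw [AdjoinRoot.algebraMap_eq]
    exact h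
  refine ⟨AdjoinRoot f, inferInstance, inferInstance, ?_, ?_, ?_⟩
  · exact (AdjoinRoot.powerBasis hne0).finite
  · rw [(AdjoinRoot.powerBasis hne0).finrank, AdjoinRoot.powerBasis_dim, hdegK, hde]
  · refine ⟨fun j => if (j : ℕ) = 0 then AdjoinRoot.root f
      else if (j : ℕ) = δ then 1 else 0, ?_, ?_⟩
    · intro h
      have := congrFun h ⟨δ, by omega⟩
      simp only [show δ ≠ 0 by omega, if_false, if_true, Pi.zero_apply] at this
      exact one_ne_zero this
    · simp only [Fin.val_zero, if_true, Fin.val_succ, Nat.add_eq_zero_iff, one_ne_zero, and_false,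
        if_false]
      rw [Finset.sum_eq_single_of_mem (⟨δ - 1, by omega⟩ : Fin N) (Finset.mem_univ _)]
      · simp only [show δ - 1 + 1 = δ by omega, if_true, one_pow, mul_one]
        rw [he, mul_comm δ e, pow_mul, hroot, map_pow, map_pow]
      · intro b _ hb
        have hb' : (b : ℕ) + 1 ≠ δ := by
          intro h
          apply hb
          apply Fin.ext
          simp only
          omega
        rw [if_neg hb', zero_pow (by omega), mul_zero]

theorem main (ϖ : R) (hϖ : Irreducible ϖ) (d N : ℕ) (hd : 1 ≤ d) (hN : 1 ≤ N) :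
    AddSubgroup.closure {m : ℤ | ∃ (L : Type u) (_ : Field L) (_ : Algebra K L),
        FiniteDimensional K L ∧ m = (Module.finrank K L : ℤ) ∧
        ∃ x : Fin (N + 1) → L, x ≠ 0 ∧
          x 0 ^ d = ∑ i : Fin N, algebraMap K L (algebraMap R K (ϖ ^ ((i : ℕ) + 1))) * x i.succ ^ d} =
      AddSubgroup.zmultiples ((((Finset.Icc 1 N).filter (fun δ => δ ∣ d)).gcd (fun δ => d / δ) : ℕ) : ℤ) := by
  apply le_antisymm
  · rw [AddSubgroup.closure_le]
    rintro m ⟨L, _, _, hfin, rfl, x, hx, heq⟩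
    rw [SetLike.mem_coe, Int.mem_zmultiples_iff, Int.natCast_dvd_natCast]
    exact gcd_dvd_finrank R K ϖ hϖ d N hd L x hx heq
  · apply AddSubgroup.zmultiples_le_of_mem
    set H := AddSubgroup.closure {m : ℤ | ∃ (L : Type u) (_ : Field L) (_ : Algebra K L),
        FiniteDimensional K L ∧ m = (Module.finrank K L : ℤ) ∧
        ∃ x : Fin (N + 1) → L, x ≠ 0 ∧
          x 0 ^ d = ∑ i : Fin N, algebraMap K L (algebraMap R K (ϖ ^ ((i : ℕ) + 1))) * x i.succ ^ d}
      with hH
    obtain ⟨a, ha⟩ := Int.subgroup_cyclic H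
    have hmem : ∀ δ ∈ (Finset.Icc 1 N).filter (fun δ => δ ∣ d), ((d / δ : ℕ) : ℤ) ∈ H := by
      intro δ hδ
      rw [Finset.mem_filter, Finset.mem_Icc] at hδ
      obtain ⟨L, i1, i2, hfin, hrank, x, hx, heq⟩ :=
        exists_solution R K ϖ hϖ d N δ hd hδ.1.1 hδ.1.2 hδ.2
      apply AddSubgroup.subset_closure
      exact ⟨L, i1, i2, hfin, by rw [hrank], x, hx, heq⟩
    rw [ha, ← AddSubgroup.zmultiples_eq_closure, Int.mem_zmultiples_iff]
    have h1 : a.natAbs ∣ ((Finset.Icc 1 N).filter (fun δ => δ ∣ d)).gcd (fun δ => d / δ) := by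
      apply Finset.dvd_gcd
      intro δ hδ
      have := hmem δ hδ
      rw [ha, ← AddSubgroup.zmultiples_eq_closure, Int.mem_zmultiples_iff] at this
      exact Int.natAbs_dvd_natAbs.mpr this
    exact Int.natAbs_dvd.mp (Int.natCast_dvd_natCast.mpr h1)

end Groth.Agent.Helper7.TwDiag
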