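import Mathlib
import Groth.Agent.Helper7.PSCanB

set_option autoImplicit false
universe u

/-!
# Two-branch modules `V(a,c) ⊆ k⟦X⟧ × k⟦X⟧` over `O = {(f,g) | f ≡ g mod X^δ}`
-/

namespace Groth.Agent.Helper7.TwoBr

open PowerSeries Function
open Groth.Agent.Helper7.CanDu Groth.Agent.Helper7.PSCan

variable {k : Type u} [Field k] {δ : ℕ} {O : Subalgebra k (PowerSeries k × PowerSeries k)}
  (hO : ∀ f : PowerSeries k × PowerSeries k, f ∈ O ↔ (δ : ℕ∞) ≤ order (f.1 - f.2))

theorem smul_eq (r : ↥O) (p : PowerSeries k × PowerSeries k) :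
    r • p = ((r : PowerSeries k × PowerSeries k).1 * p.1,
      (r : PowerSeries k × PowerSeries k).2 * p.2) := rfl

theorem le_order_sub {a : ℕ} {f g : PowerSeries k} (hf : (a : ℕ∞) ≤ order f)
    (hg : (a : ℕ∞) ≤ order g) : (a : ℕ∞) ≤ order (f - g) := by
  rw [sub_eq_add_neg]
  refine le_trans (le_min hf ?_) (min_order_le_order_add _ _)
  rwa [order_neg]

theorem le_order_add {a : ℕ} {f g : PowerSeries k} (hf : (a : ℕ∞) ≤ order f)
    (hg : (a : ℕ∞) ≤ order g) : (a : ℕ∞) ≤ order (f + g) :=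
  le_trans (le_min hf hg) (min_order_le_order_add _ _)

theorem le_order_mul' {a b : ℕ} {f g : PowerSeries k} (hf : (a : ℕ∞) ≤ order f)
    (hg : (b : ℕ∞) ≤ order g) : ((a + b : ℕ) : ℕ∞) ≤ order (f * g) := by
  refine le_trans ?_ (le_order_mul f g)
  push_cast
  exact add_le_add hf hg

/-- `V(a,c) = {(f,g) | ord f, ord g ≥ a, ord (f - g) ≥ c}` -/
def V (hO : ∀ f : PowerSeries k × PowerSeries k, f ∈ O ↔ (δ : ℕ∞) ≤ order (f.1 - f.2))
    (a c : ℕ) (hac : c ≤ a + δ) : Submodule ↥O (PowerSeries k × PowerSeries k) where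
  carrier := {p | (a : ℕ∞) ≤ order p.1 ∧ (a : ℕ∞) ≤ order p.2 ∧ (c : ℕ∞) ≤ order (p.1 - p.2)}
  add_mem' := by
    rintro p q ⟨h1, h2, h3⟩ ⟨h1', h2', h3'⟩
    refine ⟨le_order_add h1 h1', le_order_add h2 h2', ?_⟩
    have : (p + q).1 - (p + q).2 = (p.1 - p.2) + (q.1 - q.2) := by
      simp only [Prod.fst_add, Prod.snd_add]
      ring
    rw [this]
    exact le_order_add h3 h3'
  zero_mem' := by
    simp
  smul_mem' := by
    rintro r p ⟨h1, h2, h3⟩
    rw [smul_eq]
    have hr := (hO _).1 r.2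
    refine ⟨?_, ?_, ?_⟩
    · have := le_order_mul' (a := 0) (b := a) (f := (r : PowerSeries k × PowerSeries k).1)
        (by simp) h1
      simpa using this
    · have := le_order_mul' (a := 0) (b := a) (f := (r : PowerSeries k × PowerSeries k).2)
        (by simp) h2
      simpa using this
    · have e : (r : PowerSeries k × PowerSeries k).1 * p.1 -
          (r : PowerSeries k × PowerSeries k).2 * p.2 =
          (r : PowerSeries k × PowerSeries k).1 * (p.1 - p.2) +
          ((r : PowerSeries k × PowerSeries k).1 - (r : PowerSeries k × PowerSeries k).2) * p.2 := by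
        ring
      show (c : ℕ∞) ≤ order ((r : PowerSeries k × PowerSeries k).1 * p.1 -
          (r : PowerSeries k × PowerSeries k).2 * p.2)
      rw [e]
      apply le_order_add
      · have := le_order_mul' (a := 0) (b := c) (f := (r : PowerSeries k × PowerSeries k).1)
          (by simp) h3
        simpa using this
      · have := le_order_mul' hr h2
        refine le_trans ?_ this
        exact_mod_cast (by omega : c ≤ δ + a)

theorem mem_V {a c : ℕ} {hac : c ≤ a + δ} {p : PowerSeries k × PowerSeries k} :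
    p ∈ V hO a c hac ↔ (a : ℕ∞) ≤ order p.1 ∧ (a : ℕ∞) ≤ order p.2 ∧
      (c : ℕ∞) ≤ order (p.1 - p.2) := Iff.rfl

theorem V_anti {a c a' c' : ℕ} {hac : c ≤ a + δ} {hac' : c' ≤ a' + δ} (ha : a ≤ a')
    (hc : c ≤ c') : V hO a' c' hac' ≤ V hO a c hac := by
  rintro p ⟨h1, h2, h3⟩
  exact ⟨le_trans (by exact_mod_cast ha) h1, le_trans (by exact_mod_cast ha) h2,
    le_trans (by exact_mod_cast hc) h3⟩

/-- scalars from `k` -/
theorem ksmul_mem' (N : Submodule ↥O (PowerSeries k × PowerSeries k)) (c : k)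
    {p : PowerSeries k × PowerSeries k} (hp : p ∈ N) : c • p ∈ N := by
  rw [← algebraMap_smul ↥O c p]
  exact N.smul_mem _ hp

/-- step in the first parameter -/
theorem stepA (a c : ℕ) (h1 : a + 1 ≤ c) (h2 : c ≤ a + δ) :
    rl (V hO (a + 1) c (by omega)) (V hO a c h2) = 1 := by
  have hcoef : ∀ p ∈ V hO a c h2, coeff a p.1 = coeff a p.2 := by
    rintro p ⟨-, -, h3⟩
    have : coeff a (p.1 - p.2) = 0 :=
      coeff_of_lt_order a (lt_of_lt_of_le (by exact_mod_cast h1) h3)
    rw [map_sub, sub_eq_zero] at this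
    exact this
  have hred : ∀ p ∈ V hO a c h2,
      p - coeff a p.1 • ((X : PowerSeries k) ^ a, (X : PowerSeries k) ^ a) ∈
        V hO (a + 1) c (by omega) := by
    intro p hp
    have hc := hcoef p hp
    obtain ⟨q1, q2, q3⟩ := hp
    refine ⟨?_, ?_, ?_⟩
    · exact order_sub_leading q1
    · show ((a + 1 : ℕ) : ℕ∞) ≤ order (p.2 - coeff a p.1 • (X : PowerSeries k) ^ a)
      rw [hc]
      exact order_sub_leading q2
    · have : (p - coeff a p.1 • ((X : PowerSeries k) ^ a, (X : PowerSeries k) ^ a)).1 -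
          (p - coeff a p.1 • ((X : PowerSeries k) ^ a, (X : PowerSeries k) ^ a)).2 =
          p.1 - p.2 := by
        simp only [Prod.fst_sub, Prod.snd_sub, Prod.smul_fst, Prod.smul_snd]
        ring
      rw [this]
      exact q3
  have heV : ((X : PowerSeries k) ^ a, (X : PowerSeries k) ^ a) ∈ V hO a c h2 := by
    refine ⟨by rw [order_X_pow], by rw [order_X_pow], ?_⟩
    simp
  refine rl_eq_one_of_cyclic _ _ ((X : PowerSeries k) ^ a, (X : PowerSeries k) ^ a) heV ?_ ?_
  · rintro ⟨q1, -, -⟩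
    rw [order_X_pow] at q1
    have : (a + 1 : ℕ) ≤ a := by exact_mod_cast q1
    omega
  · intro f hf hfn f' hf'
    have ha0 : coeff a f.1 ≠ 0 := by
      intro h0
      apply hfn
      have := hred f hf
      rwa [h0, zero_smul, sub_zero] at this
    refine ⟨algebraMap k ↥O (coeff a f'.1 / coeff a f.1), ?_⟩
    rw [algebraMap_smul]
    have e1 : (coeff a f'.1 / coeff a f.1) • f - f' =
        (coeff a f'.1 / coeff a f.1) •
          (f - coeff a f.1 • ((X : PowerSeries k) ^ a, (X : PowerSeries k) ^ a)) -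
        (f' - coeff a f'.1 • ((X : PowerSeries k) ^ a, (X : PowerSeries k) ^ a)) := by
      rw [smul_sub, smul_smul, div_mul_cancel₀ _ ha0]
      abel
    rw [e1]
    exact Submodule.sub_mem _ (ksmul_mem' _ _ (hred f hf)) (hred f' hf')

/-- step in the second parameter -/
theorem stepC (a c : ℕ) (h1 : a ≤ c) (h2 : c + 1 ≤ a + δ) :
    rl (V hO a (c + 1) h2) (V hO a c (by omega)) = 1 := by
  have hred : ∀ p ∈ V hO a c (by omega),
      p - coeff c (p.1 - p.2) • ((X : PowerSeries k) ^ c, (0 : PowerSeries k)) ∈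
        V hO a (c + 1) h2 := by
    rintro p ⟨q1, q2, q3⟩
    refine ⟨?_, ?_, ?_⟩
    · show (a : ℕ∞) ≤ order (p.1 - coeff c (p.1 - p.2) • (X : PowerSeries k) ^ c)
      apply le_order_sub q1
      have : (a : ℕ∞) ≤ order ((X : PowerSeries k) ^ c) := by
        rw [order_X_pow]
        exact_mod_cast h1
      refine le_trans this ?_
      rw [smul_eq_C_mul]
      have := le_order_mul (C (coeff c (p.1 - p.2))) ((X : PowerSeries k) ^ c)
      exact le_trans le_add_self this
    · show (a : ℕ∞) ≤ order (p.2 - coeff c (p.1 - p.2) • (0 : PowerSeries k))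
      rw [smul_zero, sub_zero]
      exact q2
    · have : (p - coeff c (p.1 - p.2) • ((X : PowerSeries k) ^ c, (0 : PowerSeries k))).1 -
          (p - coeff c (p.1 - p.2) • ((X : PowerSeries k) ^ c, (0 : PowerSeries k))).2 =
          (p.1 - p.2) - coeff c (p.1 - p.2) • (X : PowerSeries k) ^ c := by
        simp only [Prod.fst_sub, Prod.snd_sub, Prod.smul_fst, Prod.smul_snd, smul_zero, sub_zero]
        ring
      rw [this]
      exact order_sub_leading q3
  have heV : ((X : PowerSeries k) ^ c, (0 : PowerSeries k)) ∈ V hO a c (by omega) := by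
    refine ⟨?_, by simp, ?_⟩
    · rw [order_X_pow]
      exact_mod_cast h1
    · show (c : ℕ∞) ≤ order ((X : PowerSeries k) ^ c - 0)
      rw [sub_zero, order_X_pow]
  refine rl_eq_one_of_cyclic _ _ ((X : PowerSeries k) ^ c, (0 : PowerSeries k)) heV ?_ ?_
  · rintro ⟨-, -, q3⟩
    have q3' : ((c + 1 : ℕ) : ℕ∞) ≤ order ((X : PowerSeries k) ^ c - 0) := q3
    rw [sub_zero, order_X_pow] at q3'
    have : (c + 1 : ℕ) ≤ c := by exact_mod_cast q3'
    omega
  · intro f hf hfn f' hf'
    have ha0 : coeff c (f.1 - f.2) ≠ 0 := by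
      intro h0
      apply hfn
      have := hred f hf
      rwa [h0, zero_smul, sub_zero] at this
    refine ⟨algebraMap k ↥O (coeff c (f'.1 - f'.2) / coeff c (f.1 - f.2)), ?_⟩
    rw [algebraMap_smul]
    have e1 : (coeff c (f'.1 - f'.2) / coeff c (f.1 - f.2)) • f - f' =
        (coeff c (f'.1 - f'.2) / coeff c (f.1 - f.2)) •
          (f - coeff c (f.1 - f.2) • ((X : PowerSeries k) ^ c, (0 : PowerSeries k))) -
        (f' - coeff c (f'.1 - f'.2) • ((X : PowerSeries k) ^ c, (0 : PowerSeries k))) := by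
      rw [smul_sub, smul_smul, div_mul_cancel₀ _ ha0]
      abel
    rw [e1]
    exact Submodule.sub_mem _ (ksmul_mem' _ _ (hred f hf)) (hred f' hf')

theorem rl_A (a c m : ℕ) (h1 : a + m ≤ c) (h2 : c ≤ a + δ) :
    rl (V hO (a + m) c (by omega)) (V hO a c h2) = (m : ℕ∞) := by
  induction m with
  | zero =>
    show rl (V hO a c _) (V hO a c h2) = _
    rw [rl_self]
    rfl
  | succ m ih =>
    have h3 := rl_add (A := V hO (a + m + 1) c (by omega)) (B := V hO (a + m) c (by omega))
      (C := V hO a c h2) (V_anti hO (by omega) le_rfl) (V_anti hO (by omega) le_rfl)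
    rw [stepA hO (a + m) c (by omega) (by omega), ih (by omega)] at h3
    show rl (V hO (a + m + 1) c _) (V hO a c h2) = _
    rw [h3]
    push_cast
    rw [add_comm]

theorem step2 (hδ : 1 ≤ δ) (a c : ℕ) (h1 : a ≤ c) (h2 : c ≤ a + δ) :
    rl (V hO (a + 1) (c + 1) (by omega)) (V hO a c h2) = 2 := by
  by_cases hc : c < a + δ
  · have h3 := rl_add (A := V hO (a + 1) (c + 1) (by omega)) (B := V hO a (c + 1) (by omega))
      (C := V hO a c h2) (V_anti hO (by omega) le_rfl) (V_anti hO le_rfl (by omega))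
    rw [stepA hO a (c + 1) (by omega) (by omega), stepC hO a c h1 (by omega)] at h3
    rw [h3]
    norm_num
  · have h3 := rl_add (A := V hO (a + 1) (c + 1) (by omega)) (B := V hO (a + 1) c (by omega))
      (C := V hO a c h2) (V_anti hO le_rfl (by omega)) (V_anti hO (by omega) le_rfl)
    rw [stepC hO (a + 1) c (by omega) (by omega), stepA hO a c (by omega) h2] at h3
    rw [h3]
    norm_num

theorem rl_diag (hδ : 1 ≤ δ) (a c m : ℕ) (h1 : a ≤ c) (h2 : c ≤ a + δ) :
    rl (V hO (a + m) (c + m) (by omega)) (V hO a c h2) = ((2 * m : ℕ) : ℕ∞) := by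
  induction m with
  | zero =>
    show rl (V hO a c _) (V hO a c h2) = _
    rw [rl_self]
    rfl
  | succ m ih =>
    have h3 := rl_add (A := V hO (a + m + 1) (c + m + 1) (by omega))
      (B := V hO (a + m) (c + m) (by omega))
      (C := V hO a c h2) (V_anti hO (by omega) (by omega)) (V_anti hO (by omega) (by omega))
    rw [step2 hO hδ (a + m) (c + m) (by omega) (by omega), ih] at h3
    show rl (V hO (a + m + 1) (c + m + 1) _) (V hO a c h2) = _
    rw [h3]
    push_cast
    ring

end Groth.Agent.Helper7.TwoBr
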