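import Mathlib
import Groth.Agent.Helper7.TwoBrA
import Groth.Agent.Helper7.MonExtB

set_option autoImplicit false
universe u

/-!
# S19532: `ℓ Ext¹(I_i, I_j) = 2 min(i,j)` for the two-branch singularity `A_{2δ-1}`
-/

namespace Groth.Agent.Helper7.TwoBr

open PowerSeries Function CategoryTheory Abelian
open Groth.Agent.Helper6.TFC Groth.Agent.Helper7.CanDu Groth.Agent.Helper7.PSCan
open Groth.Agent.Helper7.MonExt

variable {k : Type u} [Field k] {δ : ℕ} {O : Subalgebra k (PowerSeries k × PowerSeries k)}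
  (hO : ∀ f : PowerSeries k × PowerSeries k, f ∈ O ↔ (δ : ℕ∞) ≤ order (f.1 - f.2))

theorem le_order_of_mul {a b : ℕ} {f : PowerSeries k}
    (h : ((a + b : ℕ) : ℕ∞) ≤ order ((X : PowerSeries k) ^ a * f)) : (b : ℕ∞) ≤ order f := by
  rw [order_mul, order_X_pow] at h
  push_cast at h
  exact (ENat.add_le_add_iff_left (ENat.natCast_ne_top a)).1 h

include hO in
theorem diag_mem (f : PowerSeries k) : (f, f) ∈ O := by
  rw [hO]
  simp

include hO in
theorem y_mem : ((X : PowerSeries k) ^ δ, (0 : PowerSeries k)) ∈ O := by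
  rw [hO]
  show (δ : ℕ∞) ≤ order ((X : PowerSeries k) ^ δ - 0)
  rw [sub_zero, order_X_pow]

theorem V_le_O {a c : ℕ} {hac : c ≤ a + δ} (hc : δ ≤ c) {p : PowerSeries k × PowerSeries k}
    (hp : p ∈ V hO a c hac) : p ∈ O := by
  rw [hO]
  exact le_trans (by exact_mod_cast hc) hp.2.2

theorem span_eq_V (i : ℕ) (hi : i ≤ δ) :
    Submodule.span ↥O ({((X : PowerSeries k) ^ i, (X : PowerSeries k) ^ i),
      ((X : PowerSeries k) ^ δ, 0)} : Set (PowerSeries k × PowerSeries k)) =
      V hO i δ (by omega) := by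
  apply le_antisymm
  · rw [Submodule.span_le]
    rintro p (rfl | hp)
    · refine ⟨by rw [order_X_pow], by rw [order_X_pow], ?_⟩
      simp
    · rw [Set.mem_singleton_iff] at hp
      rw [hp]
      refine ⟨?_, by simp, ?_⟩
      · rw [order_X_pow]
        exact_mod_cast hi
      · show (δ : ℕ∞) ≤ order ((X : PowerSeries k) ^ δ - 0)
        rw [sub_zero, order_X_pow]
  · rintro ⟨f, g⟩ ⟨h1, h2, h3⟩
    obtain ⟨g', hg'⟩ := exists_eq_X_pow_mul h2
    obtain ⟨h, hh⟩ := exists_eq_X_pow_mul h3
    have e : ((f, g) : PowerSeries k × PowerSeries k) =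
        (⟨(g', g'), diag_mem hO g'⟩ : ↥O) • ((X : PowerSeries k) ^ i, (X : PowerSeries k) ^ i) +
        (⟨(h, h), diag_mem hO h⟩ : ↥O) • ((X : PowerSeries k) ^ δ, (0 : PowerSeries k)) := by
      rw [smul_eq, smul_eq]
      simp only at hg' hh
      ext1
      · show f = g' * X ^ i + h * X ^ δ
        have : f = g + (f - g) := by ring
        rw [this, hh, hg']
        ring
      · show g = g' * X ^ i + h * 0
        rw [hg']
        ring
    rw [e]
    exact Submodule.add_mem _
      (Submodule.smul_mem _ _ (Submodule.subset_span (by simp)))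
      (Submodule.smul_mem _ _ (Submodule.subset_span (by simp)))

/-- `X^i` on the diagonal, as an element of `O` -/
noncomputable def ei (hO : ∀ f : PowerSeries k × PowerSeries k, f ∈ O ↔ (δ : ℕ∞) ≤ order (f.1 - f.2))
    (i : ℕ) : ↥O := ⟨((X : PowerSeries k) ^ i, (X : PowerSeries k) ^ i), diag_mem hO _⟩

theorem map_lsmul_ei (i j : ℕ) (hj : j ≤ δ) :
    (V hO j δ (by omega)).map (LinearMap.lsmul ↥O (PowerSeries k × PowerSeries k) (ei hO i)) =
      V hO (j + i) (δ + i) (by omega) := by
  ext p
  rw [Submodule.mem_map]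
  constructor
  · rintro ⟨n, ⟨h1, h2, h3⟩, rfl⟩
    show ei hO i • n ∈ _
    rw [smul_eq]
    refine ⟨?_, ?_, ?_⟩
    · have := le_order_mul' (a := i) (b := j) (f := (X : PowerSeries k) ^ i)
        (by rw [order_X_pow]) h1
      rw [add_comm]
      exact this
    · have := le_order_mul' (a := i) (b := j) (f := (X : PowerSeries k) ^ i)
        (by rw [order_X_pow]) h2
      rw [add_comm]
      exact this
    · show ((δ + i : ℕ) : ℕ∞) ≤ order ((X : PowerSeries k) ^ i * n.1 - X ^ i * n.2)
      rw [← mul_sub]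
      have := le_order_mul' (a := i) (b := δ) (f := (X : PowerSeries k) ^ i)
        (by rw [order_X_pow]) h3
      rw [add_comm]
      exact this
  · rintro ⟨h1, h2, h3⟩
    obtain ⟨f', hf'⟩ := exists_eq_X_pow_mul (c := i) (le_trans (by push_cast; exact le_add_self) h1)
    obtain ⟨g', hg'⟩ := exists_eq_X_pow_mul (c := i) (le_trans (by push_cast; exact le_add_self) h2)
    refine ⟨(f', g'), ⟨?_, ?_, ?_⟩, ?_⟩
    · apply le_order_of_mul (a := i)
      rw [← hf', add_comm]
      exact h1
    · apply le_order_of_mul (a := i)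
      rw [← hg', add_comm]
      exact h2
    · apply le_order_of_mul (a := i)
      show ((i + δ : ℕ) : ℕ∞) ≤ order ((X : PowerSeries k) ^ i * (f' - g'))
      rw [mul_sub, ← hf', ← hg', add_comm]
      exact h3
    · show ei hO i • ((f', g') : PowerSeries k × PowerSeries k) = p
      rw [smul_eq]
      ext1
      · exact hf'.symm
      · exact hg'.symm

/-- the ideal `I_i` of `O` -/
noncomputable def Iid (i : ℕ) (hi : i ≤ δ) : Ideal ↥O :=
  (V hO i δ (by omega)).comap (Algebra.linearMap ↥O (PowerSeries k × PowerSeries k))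

theorem mem_Iid {i : ℕ} {hi : i ≤ δ} {a : ↥O} :
    a ∈ Iid hO i hi ↔ (a : PowerSeries k × PowerSeries k) ∈ V hO i δ (by omega) := Iff.rfl

theorem Hsub_eq (i j : ℕ) (hi : i ≤ δ) (hj : j ≤ δ) :
    Hsub (V hO j δ (by omega)) (ei hO i) (Iid hO i hi : Set ↥O) =
      V hO (max i j) δ (by omega) := by
  ext n
  rw [mem_Hsub, map_lsmul_ei hO i j hj]
  constructor
  · rintro ⟨⟨h1, h2, h3⟩, h4⟩
    have hy : (⟨((X : PowerSeries k) ^ δ, (0 : PowerSeries k)), y_mem hO⟩ : ↥O) ∈ Iid hO i hi := by
      rw [mem_Iid]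
      refine ⟨?_, by simp, ?_⟩
      · rw [order_X_pow]
        exact_mod_cast hi
      · show (δ : ℕ∞) ≤ order ((X : PowerSeries k) ^ δ - 0)
        rw [sub_zero, order_X_pow]
    obtain ⟨-, -, q3⟩ := h4 _ hy
    rw [smul_eq] at q3
    have q3' : ((δ + i : ℕ) : ℕ∞) ≤ order ((X : PowerSeries k) ^ δ * n.1 - 0 * n.2) := q3
    rw [zero_mul, sub_zero] at q3'
    have hn1 : (i : ℕ∞) ≤ order n.1 := le_order_of_mul q3'
    have hn2 : (i : ℕ∞) ≤ order n.2 := by
      have : n.2 = n.1 - (n.1 - n.2) := by ring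
      rw [this]
      exact le_order_sub hn1 (le_trans (by exact_mod_cast hi) h3)
    refine ⟨?_, ?_, h3⟩
    · rcases le_total i j with h | h
      · rw [max_eq_right h]; exact h1
      · rw [max_eq_left h]; exact hn1
    · rcases le_total i j with h | h
      · rw [max_eq_right h]; exact h2
      · rw [max_eq_left h]; exact hn2
  · rintro ⟨h1, h2, h3⟩
    refine ⟨⟨le_trans (by exact_mod_cast le_max_right i j) h1,
      le_trans (by exact_mod_cast le_max_right i j) h2, h3⟩, ?_⟩
    rintro d ⟨d1, d2, d3⟩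
    rw [smul_eq]
    refine ⟨?_, ?_, ?_⟩
    · have := le_order_mul' d1 h1
      exact le_trans (by exact_mod_cast (by omega : j + i ≤ i + max i j)) this
    · have := le_order_mul' d2 h2
      exact le_trans (by exact_mod_cast (by omega : j + i ≤ i + max i j)) this
    · have e : (d : PowerSeries k × PowerSeries k).1 * n.1 -
          (d : PowerSeries k × PowerSeries k).2 * n.2 =
          (d : PowerSeries k × PowerSeries k).1 * (n.1 - n.2) +
          ((d : PowerSeries k × PowerSeries k).1 - (d : PowerSeries k × PowerSeries k).2) * n.2 := by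
        ring
      show ((δ + i : ℕ) : ℕ∞) ≤ order ((d : PowerSeries k × PowerSeries k).1 * n.1 -
          (d : PowerSeries k × PowerSeries k).2 * n.2)
      rw [e]
      apply le_order_add
      · have := le_order_mul' d1 h3
        exact le_trans (by exact_mod_cast (by omega : δ + i ≤ i + δ)) this
      · have := le_order_mul' d3 h2
        exact le_trans (by exact_mod_cast (by omega : δ + i ≤ δ + max i j)) this

end Groth.Agent.Helper7.TwoBr
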