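import Mathlib
import Groth.Agent.Helper7.TwoBrB

set_option autoImplicit false
universe u

/-!
# S19532, main computation
-/

namespace Groth.Agent.Helper7.TwoBr

open PowerSeries Function CategoryTheory Abelian
open Groth.Agent.Helper6.TFC Groth.Agent.Helper7.CanDu Groth.Agent.Helper7.PSCan
open Groth.Agent.Helper7.MonExt

variable {k : Type u} [Field k] {δ : ℕ} {O : Subalgebra k (PowerSeries k × PowerSeries k)}
  (hO : ∀ f : PowerSeries k × PowerSeries k, f ∈ O ↔ (δ : ℕ∞) ≤ order (f.1 - f.2))

theorem V_congr {a a' c c' : ℕ} (ha : a = a') (hc : c = c') {h : c ≤ a + δ} {h' : c' ≤ a' + δ} :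
    V hO a c h = V hO a' c' h' := by
  subst ha
  subst hc
  rfl

theorem core (hδ : 1 ≤ δ) (i j : ℕ) (hi : i ≤ δ) (hj : j ≤ δ) :
    Module.length ↥O (Ext (ModuleCat.of ↥O ↥(V hO i δ (by omega)))
      (ModuleCat.of ↥O ↥(V hO j δ (by omega))) 1) = ((2 * min i j : ℕ) : ℕ∞) := by
  classical
  set M := V hO i δ (by omega) with hM
  set N := V hO j δ (by omega) with hN
  have hXi : (X : PowerSeries k) ^ i ≠ 0 := pow_ne_zero _ X_ne_zero
  have heM : (((X : PowerSeries k) ^ i, (X : PowerSeries k) ^ i) :
      PowerSeries k × PowerSeries k) ∈ M := by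
    refine ⟨by rw [order_X_pow], by rw [order_X_pow], ?_⟩
    simp
  let e : ↥M := ⟨((X : PowerSeries k) ^ i, (X : PowerSeries k) ^ i), heM⟩
  let x : ↥O := ei hO i
  have hcoeM : ∀ (r : ↥O) (m : ↥M), ((r • m : ↥M) : PowerSeries k × PowerSeries k) =
      r • (m : PowerSeries k × PowerSeries k) := fun _ _ => rfl
  have hcoeN : ∀ (r : ↥O) (m : ↥N), ((r • m : ↥N) : PowerSeries k × PowerSeries k) =
      r • (m : PowerSeries k × PowerSeries k) := fun _ _ => rfl
  have he : Injective (fun r : ↥O => r • e) := by
    intro r r' h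
    have h' := congrArg (fun z : ↥M => (z : PowerSeries k × PowerSeries k)) h
    simp only [hcoeM] at h'
    rw [smul_eq, smul_eq] at h'
    apply Subtype.ext
    apply Prod.ext
    · exact mul_right_cancel₀ hXi (congrArg Prod.fst h')
    · exact mul_right_cancel₀ hXi (congrArg Prod.snd h')
  have hxM : ∀ m : ↥M, x • m ∈ Submodule.span ↥O {e} := by
    intro m
    rw [Submodule.mem_span_singleton]
    refine ⟨⟨(m : PowerSeries k × PowerSeries k), V_le_O hO le_rfl m.2⟩, ?_⟩
    apply Subtype.ext
    rw [hcoeM, hcoeM, smul_eq, smul_eq]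
    ext1
    · exact mul_comm _ _
    · exact mul_comm _ _
  have hxinj : ∀ u v : ↥N, x • u = x • v → u = v := by
    intro u v h
    have h' := congrArg (fun z : ↥N => (z : PowerSeries k × PowerSeries k)) h
    simp only [hcoeN] at h'
    rw [smul_eq, smul_eq] at h'
    apply Subtype.ext
    apply Prod.ext
    · exact mul_left_cancel₀ hXi (congrArg Prod.fst h')
    · exact mul_left_cancel₀ hXi (congrArg Prod.snd h')
  have hxN : ∀ n : ↥N, x • n = 0 → n = 0 := by
    intro n hn
    apply hxinj
    rw [hn, smul_zero]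
  have main := length_ext_one (R := ↥O) ↥M ↥N e x he hxM hxN
  -- the Hom side
  have hyM : (((X : PowerSeries k) ^ δ, (0 : PowerSeries k)) :
      PowerSeries k × PowerSeries k) ∈ M := by
    refine ⟨?_, by simp, ?_⟩
    · rw [order_X_pow]
      exact_mod_cast hi
    · show (δ : ℕ∞) ≤ order ((X : PowerSeries k) ^ δ - 0)
      rw [sub_zero, order_X_pow]
  let yM : ↥M := ⟨((X : PowerSeries k) ^ δ, (0 : PowerSeries k)), hyM⟩
  let q : Unit → _ := fun _ => Submodule.Quotient.mk (p := Submodule.span ↥O {e}) yM
  have hq : Submodule.span ↥O (Set.range q) = ⊤ := by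
    rw [eq_top_iff]
    rintro z -
    obtain ⟨m, rfl⟩ := Submodule.Quotient.mk_surjective _ z
    have hm : (m : PowerSeries k × PowerSeries k) ∈ Submodule.span ↥O
        ({((X : PowerSeries k) ^ i, (X : PowerSeries k) ^ i),
          ((X : PowerSeries k) ^ δ, 0)} : Set (PowerSeries k × PowerSeries k)) := by
      rw [span_eq_V hO i hi]
      exact m.2
    obtain ⟨a, b, hab⟩ := Submodule.mem_span_pair.1 hm
    have hmab : m = a • e + b • yM := Subtype.ext hab.symm
    rw [hmab, Submodule.Quotient.mk_add, Submodule.Quotient.mk_smul, Submodule.Quotient.mk_smul]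
    have e0 : Submodule.Quotient.mk (p := Submodule.span ↥O {e}) e = 0 :=
      (Submodule.Quotient.mk_eq_zero _).2 (Submodule.mem_span_singleton_self e)
    rw [e0, smul_zero, zero_add]
    exact Submodule.smul_mem _ _ (Submodule.subset_span ⟨(), rfl⟩)
  have hrel : ∀ a : Unit → ↥O, ∑ u, a u • q u = 0 ↔ ∀ u, a u ∈ Iid hO i hi := by
    intro a
    rw [Fintype.sum_unique]
    show a default • Submodule.Quotient.mk (p := Submodule.span ↥O {e}) yM = 0 ↔ _
    rw [← Submodule.Quotient.mk_smul, Submodule.Quotient.mk_eq_zero,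
      Submodule.mem_span_singleton]
    constructor
    · rintro ⟨r, hr⟩ u
      have hu : u = default := Subsingleton.elim _ _
      rw [hu]
      have h' := congrArg (fun z : ↥M => (z : PowerSeries k × PowerSeries k)) hr
      simp only [hcoeM] at h'
      rw [smul_eq, smul_eq] at h'
      have h1 : (r : PowerSeries k × PowerSeries k).1 * X ^ i =
          (a default : PowerSeries k × PowerSeries k).1 * X ^ δ := congrArg Prod.fst h'
      have h2 : (r : PowerSeries k × PowerSeries k).2 * X ^ i =
          (a default : PowerSeries k × PowerSeries k).2 * 0 := congrArg Prod.snd h'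
      rw [mul_zero] at h2
      have hr2 : (r : PowerSeries k × PowerSeries k).2 = 0 :=
        (mul_eq_zero.1 h2).resolve_right hXi
      have hrO := (hO _).1 r.2
      rw [hr2, sub_zero] at hrO
      have h3 : ((δ + i : ℕ) : ℕ∞) ≤
          order ((X : PowerSeries k) ^ δ * (a default : PowerSeries k × PowerSeries k).1) := by
        rw [mul_comm, ← h1]
        exact le_order_mul' hrO (by rw [order_X_pow])
      have ha1 : (i : ℕ∞) ≤ order (a default : PowerSeries k × PowerSeries k).1 :=
        le_order_of_mul h3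
      have haO := (hO _).1 (a default).2
      have ha2 : (i : ℕ∞) ≤ order (a default : PowerSeries k × PowerSeries k).2 := by
        have : (a default : PowerSeries k × PowerSeries k).2 =
            (a default : PowerSeries k × PowerSeries k).1 -
            ((a default : PowerSeries k × PowerSeries k).1 -
              (a default : PowerSeries k × PowerSeries k).2) := by ring
        rw [this]
        exact le_order_sub ha1 (le_trans (by exact_mod_cast hi) haO)
      exact ⟨ha1, ha2, haO⟩
    · intro h
      obtain ⟨ha1, -, -⟩ := h default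
      obtain ⟨a', ha'⟩ := exists_eq_X_pow_mul ha1
      have hrO : (((X : PowerSeries k) ^ δ * a', (0 : PowerSeries k)) :
          PowerSeries k × PowerSeries k) ∈ O := by
        rw [hO]
        show (δ : ℕ∞) ≤ order ((X : PowerSeries k) ^ δ * a' - 0)
        rw [sub_zero]
        have := le_order_mul' (a := δ) (b := 0) (f := (X : PowerSeries k) ^ δ) (g := a')
          (by rw [order_X_pow]) (by simp)
        simpa using this
      refine ⟨⟨_, hrO⟩, ?_⟩
      apply Subtype.ext
      rw [hcoeM, hcoeM, smul_eq, smul_eq]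
      ext1
      · show (X : PowerSeries k) ^ δ * a' * X ^ i =
          (a default : PowerSeries k × PowerSeries k).1 * X ^ δ
        have : (a default : PowerSeries k × PowerSeries k).1 = X ^ i * a' := ha'
        rw [this]
        ring
      · show (0 : PowerSeries k) * X ^ i = (a default : PowerSeries k × PowerSeries k).2 * 0
        rw [zero_mul, mul_zero]
  rw [length_hom_of_relations q hq (Iid hO i hi) hrel, Fintype.card_unit, one_smul,
    length_torsionBySet_quot, map_lsmul_ei hO i j hj, Hsub_eq hO i j hi hj] at main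
  -- the evaluation range
  have hev : evalRange (R := ↥O) ↥M ↥N e =
      Submodule.comap N.subtype (V hO (max i j) δ (by omega)) := by
    rw [← Hsub_eq hO i j hi hj]
    ext n
    rw [mem_evalRange, Submodule.mem_comap, mem_Hsub]
    constructor
    · rintro ⟨φ, rfl⟩
      refine ⟨(φ e).2, fun d hd => ?_⟩
      refine ⟨((φ ⟨(d : PowerSeries k × PowerSeries k), hd⟩ : ↥N) :
        PowerSeries k × PowerSeries k), (φ _).2, ?_⟩
      have e1 : x • (⟨(d : PowerSeries k × PowerSeries k), hd⟩ : ↥M) = d • e := by
        apply Subtype.ext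
        rw [hcoeM, hcoeM, smul_eq, smul_eq]
        ext1
        · exact mul_comm _ _
        · exact mul_comm _ _
      have e2 : x • φ ⟨(d : PowerSeries k × PowerSeries k), hd⟩ = d • φ e := by
        rw [← map_smul, ← map_smul, e1]
      exact congrArg (fun z : ↥N => (z : PowerSeries k × PowerSeries k)) e2
    · rintro ⟨hn, hn'⟩
      have hex : ∀ m : ↥M, ∃ n' : ↥N, x • n' =
          (⟨(m : PowerSeries k × PowerSeries k), V_le_O hO le_rfl m.2⟩ : ↥O) • n := by
        intro m
        obtain ⟨n', hn'1, hn'2⟩ :=
          hn' ⟨(m : PowerSeries k × PowerSeries k), V_le_O hO le_rfl m.2⟩ m.2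
        exact ⟨⟨n', hn'1⟩, Subtype.ext hn'2⟩
      choose φf hφf using hex
      let φ : ↥M →ₗ[↥O] ↥N :=
        { toFun := φf
          map_add' := by
            intro a b
            apply hxinj
            rw [smul_add, hφf, hφf, hφf, ← add_smul]
            rfl
          map_smul' := by
            intro r a
            apply hxinj
            rw [RingHom.id_apply, smul_comm, hφf, hφf, ← mul_smul]
            rfl }
      refine ⟨φ, ?_⟩
      apply hxinj
      show x • φf e = x • n
      rw [hφf]
      rfl
  rw [hev, ← rl_def] at main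
  -- lengths
  have hmax : j + (max i j - j) = max i j := by omega
  have hA : rl (V hO (max i j) δ (by omega)) N = ((max i j - j : ℕ) : ℕ∞) := by
    have := rl_A hO j δ (max i j - j) (by omega) (by omega)
    rw [V_congr hO hmax rfl] at this
    exact this
  have hD : rl (V hO (j + i) (δ + i) (by omega)) N = ((2 * i : ℕ) : ℕ∞) :=
    rl_diag hO hδ j δ i hj (by omega)
  have hadd := rl_add (A := V hO (j + i) (δ + i) (by omega))
    (B := V hO (max i j) δ (by omega)) (C := N)
    (V_anti hO (by omega) (by omega)) (V_anti hO (by omega) le_rfl)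
  rw [← main] at hadd
  rw [hD, hA] at hadd
  have h2 : ((2 * i : ℕ) : ℕ∞) = ((2 * min i j : ℕ) : ℕ∞) + ((max i j - j : ℕ) : ℕ∞) +
      ((max i j - j : ℕ) : ℕ∞) := by
    have : 2 * i = 2 * min i j + (max i j - j) + (max i j - j) := by omega
    exact_mod_cast this
  rw [h2] at hadd
  have h3 := ENat.add_left_injective_of_ne_top (ENat.natCast_ne_top _) hadd
  exact (ENat.add_left_injective_of_ne_top (ENat.natCast_ne_top _) h3).symm

/-- S19532 -/
theorem s19532 (k : Type u) [Field k] (δ : ℕ) (hδ : 1 ≤ δ)
    (O : Subalgebra k (PowerSeries k × PowerSeries k))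
    (hO : ∀ f : (PowerSeries k × PowerSeries k), f ∈ O ↔
      (δ : ℕ∞) ≤ PowerSeries.order (f.1 - f.2)) (i j : ℕ) (hi : i ≤ δ) (hj : j ≤ δ) :
    Module.length ↥O (Abelian.Ext (ModuleCat.of ↥O ↥(Submodule.span ↥O ({((PowerSeries.X : PowerSeries k) ^ i, (PowerSeries.X : PowerSeries k) ^ i), ((PowerSeries.X : PowerSeries k) ^ δ, 0)} : Set (PowerSeries k × PowerSeries k)))) (ModuleCat.of ↥O ↥(Submodule.span ↥O ({((PowerSeries.X : PowerSeries k) ^ j, (PowerSeries.X : PowerSeries k) ^ j), ((PowerSeries.X : PowerSeries k) ^ δ, 0)} : Set (PowerSeries k × PowerSeries k)))) 1) = ((2 * min i j : ℕ) : ℕ∞) := by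
  rw [span_eq_V hO i hi, span_eq_V hO j hj]
  exact core hO hδ i j hi hj

end Groth.Agent.Helper7.TwoBr
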