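import Mathlib
import Groth.Prelude.Def_HopfRep
import Groth.Prelude.Def_Lie2
import Groth.Prelude.Def_LieHopf
import Groth.Agent.Helper7.UF5
import Groth.Agent.Helper7.FGK19

/-! The Lie algebra of a unipotent group in characteristic `p` is `p`-nilpotent. -/

set_option autoImplicit false
universe u

open TensorProduct

namespace Groth.Agent.Helper7.UnipFilt

open Groth.Agent.Helper7.Comodule Groth.Agent.Helper2.ComodGen Groth.Agent.Helper2.SocleFilt
  Groth.Agent.Helper7.FGK

section PLie

variable {k : Type u} [Field k] {A : Type u} [CommRing A] [HopfAlgebra k A]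

lemma convPow_eq (l : A →ₗ[k] k) (n : ℕ) :
    LieHopf.convPow l n = ((WithConv.toConv l) ^ n).ofConv := by
  induction n with
  | zero =>
    rw [pow_zero]
    show (Bialgebra.counitAlgHom k A).toLinearMap = (1 : WithConv (A →ₗ[k] k)).ofConv
    rw [LinearMap.convOne_def, WithConv.ofConv_toConv]
    ext a
    simp
  | succ n ih =>
    rw [pow_succ]
    show LieHopf.conv (LieHopf.convPow l n) l = _
    rw [ih]
    rfl

lemma convPow_mem_JP (l : A →ₗ[k] k) (hl : l 1 = 0) (n : ℕ) : LieHopf.convPow l n ∈ JP k A n := by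
  induction n with
  | zero => trivial
  | succ n ih => exact Submodule.subset_span ⟨_, ih, l, hl, rfl⟩

lemma isDer_convPow_pow (p : ℕ) [Fact p.Prime] [CharP k p] {l : A →ₗ[k] k} (hl : IsDer l) (n : ℕ) :
    IsDer (LieHopf.convPow l (p ^ n)) := by
  induction n with
  | zero =>
    rw [pow_zero, convPow_eq, pow_one]
    exact hl
  | succ n ih =>
    rw [convPow_eq] at ih ⊢
    rw [pow_succ, pow_mul]
    have := isDer_conv_pow_p p ih
    rwa [WithConv.toConv_ofConv] at this

theorem exists_convPow_eq_zero (p : ℕ) [Fact p.Prime] [CharP k p] [Algebra.FiniteType k A]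
    (hU : HopfRep.IsUnipotent k A) (l : A →ₗ[k] k) (hl : IsDer l) :
    ∃ n : ℕ, 0 < n ∧ LieHopf.convPow l (p ^ n) = 0 := by
  classical
  obtain ⟨S, hS⟩ := (Algebra.FiniteType.out : (⊤ : Subalgebra k A).FG)
  choose r hr using fun a : A => exists_mem_Z_of_isUnipotent hU a
  set N := S.sup r with hN
  refine ⟨N + 1, Nat.succ_pos N, ?_⟩
  have hp : N ≤ p ^ (N + 1) := by
    have h2 : 2 ≤ p := (Fact.out : p.Prime).two_le
    calc N ≤ N + 1 := Nat.le_succ N
      _ ≤ 2 ^ (N + 1) := Nat.lt_two_pow_self.le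
      _ ≤ p ^ (N + 1) := Nat.pow_le_pow_left h2 _
  set d := LieHopf.convPow l (p ^ (N + 1)) with hd
  have hder : IsDer d := isDer_convPow_pow p hl (N + 1)
  have hdJ : d ∈ JP k A (p ^ (N + 1)) := convPow_mem_JP l hl.map_one _
  have hdS : ∀ s ∈ S, d s = 0 := by
    intro s hs
    have h1 : s ∈ P k A (p ^ (N + 1)) :=
      P_mono (le_trans (Finset.le_sup (f := r) hs) hp) (Z_le_P _ (hr s))
    exact mem_perp.1 h1 d hdJ
  refine LinearMap.ext fun a => ?_
  have ha : a ∈ Algebra.adjoin k (S : Set A) := by rw [hS]; trivial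
  rw [LinearMap.zero_apply]
  induction ha using Algebra.adjoin_induction with
  | mem x hx => exact hdS x hx
  | algebraMap c =>
    rw [Algebra.algebraMap_eq_smul_one, map_smul, hder.map_one, smul_zero]
  | add x y _ _ hx hy => rw [map_add, hx, hy, add_zero]
  | mul x y _ _ hx hy => rw [hder x y, hx, hy, mul_zero, mul_zero, add_zero]

end PLie

end Groth.Agent.Helper7.UnipFilt
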