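import Groth.Agent.Helper7.UHRing

set_option autoImplicit false
universe u
open CategoryTheory Limits AlgebraicGeometry

namespace Groth.Agent.Helper7.UHRing

open Groth.Agent.Helper7.UHStep Groth.Agent.Helper6.EtaSN Groth.Agent.Helper6.EtaSN2

theorem universallyClosed_iff {R S : CommRingCat.{u}} (f : R ⟶ S) :
    UniversallyClosed (Spec.map f) ↔ f.hom.IsIntegral := by
  rw [← IsIntegralHom.SpecMap_iff]
  constructor
  · intro h
    exact IsIntegralHom.iff_universallyClosed_and_isAffineHom.mpr ⟨h, inferInstance⟩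
  · intro h
    infer_instance

theorem universallyInjective_iff {R S : CommRingCat.{u}} (f : R ⟶ S) :
    UniversallyInjective (Spec.map f) ↔
      ∀ (K : Type u) [Field K] (h₁ h₂ : S →+* K), h₁.comp f.hom = h₂.comp f.hom → h₁ = h₂ :=
  Groth.Agent.Helper6.EtaWN.universallyInjective_SpecMap_iff f.hom

theorem isUH_iff' {R S : CommRingCat.{u}} (f : R ⟶ S) :
    IsUH f.hom ↔ FlatMor.IsUnivHomeo (Spec.map f) := isUH_iff f.hom

theorem resTriv_iff' {R S : CommRingCat.{u}} (f : R ⟶ S) :
    ResTriv f.hom ↔ ∀ x : Spec S, Function.Surjective ((Spec.map f).residueFieldMap x) :=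
  resTriv_iff f.hom

section Colim

variable (A : CommRingCat.{u}) {J : Type u} [SmallCategory J] [IsFiltered J] (F : J ⥤ Under A)
  (c : Limits.Cocone F) (hc : Limits.IsColimit c)

include hc

theorem colim_exists_rep (b : c.pt.right) :
    ∃ (j : J) (y : (F.obj j).right), (c.ι.app j).right.hom y = b := by
  have h2 := isColimitOfPreserves (Under.forget A) hc
  obtain ⟨j, y, hy⟩ := Concrete.isColimit_exists_rep (F ⋙ Under.forget A) h2 b
  exact ⟨j, y, hy⟩

theorem colim_zero_exact {j : J} (y : (F.obj j).right) (hy : (c.ι.app j).right.hom y = 0) :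
    ∃ (k : J) (f : j ⟶ k), (F.map f).right.hom y = 0 := by
  have h2 := isColimitOfPreserves (Under.forget A) hc
  have h : (ConcreteCategory.hom (((Under.forget A).mapCocone c).ι.app j)) y =
      (ConcreteCategory.hom (((Under.forget A).mapCocone c).ι.app j)) (0 : (F.obj j).right) :=
    hy.trans (map_zero (c.ι.app j).right.hom).symm
  obtain ⟨k, f, g, hfg⟩ :=
    Concrete.isColimit_exists_of_rep_eq (F ⋙ Under.forget A) h2 y 0 h
  refine ⟨k, f, ?_⟩
  exact hfg.trans (map_zero (F.map g).right.hom)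

omit hc in
theorem colim_comm (j : J) (a : A) :
    (c.ι.app j).right.hom ((F.obj j).hom.hom a) = c.pt.hom.hom a := by
  have := Under.w (c.ι.app j)
  have h2 := congrArg (fun m => m.hom a) this
  exact h2

omit hc in
theorem colim_map_comm {j k : J} (f : j ⟶ k) (a : A) :
    (F.map f).right.hom ((F.obj j).hom.hom a) = (F.obj k).hom.hom a := by
  have := Under.w (F.map f)
  have h2 := congrArg (fun m => m.hom a) this
  exact h2

theorem colim_isIntegral (h : ∀ j, (F.obj j).hom.hom.IsIntegral) : c.pt.hom.hom.IsIntegral := by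
  intro b
  obtain ⟨j, y, rfl⟩ := colim_exists_rep A F c hc b
  have h1 := RingHom.IsIntegralElem.map (h j y) (c.ι.app j).right.hom
  have h2 : (c.ι.app j).right.hom.comp (F.obj j).hom.hom = c.pt.hom.hom := by
    ext a
    exact colim_comm A F c j a
  rw [h2] at h1
  exact h1

theorem colim_UI
    (h : ∀ j, ∀ (K : Type u) [Field K] (h₁ h₂ : (F.obj j).right →+* K),
      h₁.comp (F.obj j).hom.hom = h₂.comp (F.obj j).hom.hom → h₁ = h₂) :
    ∀ (K : Type u) [Field K] (h₁ h₂ : c.pt.right →+* K),
      h₁.comp c.pt.hom.hom = h₂.comp c.pt.hom.hom → h₁ = h₂ := by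
  intro K _ h₁ h₂ heq
  ext b
  obtain ⟨j, y, rfl⟩ := colim_exists_rep A F c hc b
  have := h j K (h₁.comp (c.ι.app j).right.hom) (h₂.comp (c.ι.app j).right.hom) (by
    ext a
    simp only [RingHom.comp_apply]
    rw [colim_comm A F c j a]
    exact RingHom.congr_fun heq a)
  exact RingHom.congr_fun this y

theorem colim_nil (h : ∀ j, ∀ a : A, (F.obj j).hom.hom a = 0 → IsNilpotent a) :
    ∀ a : A, c.pt.hom.hom a = 0 → IsNilpotent a := by
  intro a ha
  obtain ⟨j⟩ : Nonempty J := IsFiltered.nonempty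
  rw [← colim_comm A F c j a] at ha
  obtain ⟨k, f, hk⟩ := colim_zero_exact A F c hc _ ha
  rw [colim_map_comm] at hk
  exact h k a hk

theorem colim_isUH (h : ∀ j, IsUH (F.obj j).hom.hom) : IsUH c.pt.hom.hom :=
  ⟨colim_isIntegral A F c hc (fun j => (h j).1), colim_UI A F c hc (fun j => (h j).2.1),
    colim_nil A F c hc (fun j => (h j).2.2)⟩

theorem colim_resTriv (h : ∀ j, ResTriv (F.obj j).hom.hom) : ResTriv c.pt.hom.hom := by
  intro Q hQ b
  obtain ⟨j, y, rfl⟩ := colim_exists_rep A F c hc b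
  have hQj : (Q.comap (c.ι.app j).right.hom).IsPrime := Ideal.comap_isPrime _ Q
  obtain ⟨a, t, ht, hat⟩ := h j (Q.comap (c.ι.app j).right.hom) y
  refine ⟨a, t, ?_, ?_⟩
  · intro h'
    apply ht
    rw [Ideal.mem_comap, Ideal.mem_comap, colim_comm]
    exact h'
  · rw [Ideal.mem_comap, map_sub, map_mul, colim_comm, colim_comm] at hat
    exact hat

theorem s7405 :
    ((∀ j, FlatMor.IsUnivHomeo (Spec.map (F.obj j).hom)) → FlatMor.IsUnivHomeo (Spec.map c.pt.hom)) ∧
    ((∀ j, FlatMor.IsUnivHomeo (Spec.map (F.obj j).hom) ∧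
        ∀ x : Spec (F.obj j).right, Function.Surjective ((Spec.map (F.obj j).hom).residueFieldMap x)) →
      FlatMor.IsUnivHomeo (Spec.map c.pt.hom) ∧
        ∀ x : Spec c.pt.right, Function.Surjective ((Spec.map c.pt.hom).residueFieldMap x)) ∧
    ((∀ j, UniversallyClosed (Spec.map (F.obj j).hom)) → UniversallyClosed (Spec.map c.pt.hom)) ∧
    ((∀ j, UniversallyClosed (Spec.map (F.obj j).hom) ∧ UniversallyInjective (Spec.map (F.obj j).hom)) →
      UniversallyClosed (Spec.map c.pt.hom) ∧ UniversallyInjective (Spec.map c.pt.hom)) := by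
  refine ⟨?_, ?_, ?_, ?_⟩
  · intro h
    exact (isUH_iff' _).1 (colim_isUH A F c hc (fun j => (isUH_iff' _).2 (h j)))
  · intro h
    exact ⟨(isUH_iff' _).1 (colim_isUH A F c hc (fun j => (isUH_iff' _).2 (h j).1)),
      (resTriv_iff' _).1 (colim_resTriv A F c hc (fun j => (resTriv_iff' _).2 (h j).2))⟩
  · intro h
    exact (universallyClosed_iff _).2
      (colim_isIntegral A F c hc (fun j => (universallyClosed_iff _).1 (h j)))
  · intro h
    exact ⟨(universallyClosed_iff _).2
        (colim_isIntegral A F c hc (fun j => (universallyClosed_iff _).1 (h j).1)),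
      (universallyInjective_iff _).2
        (colim_UI A F c hc (fun j => (universallyInjective_iff _).1 (h j).2))⟩

end Colim

end Groth.Agent.Helper7.UHRing
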