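import Groth.Agent.Helper7.UHFactor

set_option autoImplicit false
universe u
open CategoryTheory Limits

namespace Groth.Agent.Helper7.ColimEl

attribute [local instance] IsFiltered.isConnected

/-- Recognition of filtered colimits of `A`-algebras elementwise. -/
theorem isColimit_under_of_elementwise {A : CommRingCat.{u}} {J : Type u} [SmallCategory J]
    [IsFiltered J] (F : J ⥤ Under A) (c : Cocone F)
    (hsurj : ∀ x : c.pt.right, ∃ (j : J) (y : (F.obj j).right), (c.ι.app j).right y = x)
    (hinj : ∀ (j : J) (y y' : (F.obj j).right), (c.ι.app j).right y = (c.ι.app j).right y' →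
      ∃ (k : J) (f : j ⟶ k), (F.map f).right y = (F.map f).right y') :
    Nonempty (IsColimit c) := by
  have h1 : IsColimit ((forget CommRingCat).mapCocone ((Under.forget A).mapCocone c)) := by
    apply Types.FilteredColimit.isColimitOf'
    · intro x
      obtain ⟨j, y, hy⟩ := hsurj x
      exact ⟨j, y, hy.symm⟩
    · intro j x y h
      exact hinj j x y h
  have : ReflectsColimit (F ⋙ Under.forget A) (forget CommRingCat) :=
    reflectsColimit_of_reflectsIsomorphisms _ _
  have h2 : IsColimit ((Under.forget A).mapCocone c) :=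
    isColimitOfReflects (forget CommRingCat) h1
  exact ⟨isColimitOfReflects (Under.forget A) h2⟩

section Sub

variable {A B : Type u} [CommRing A] [CommRing B] [Algebra A B]

/-- A subalgebra as an object under `A`. -/
noncomputable def subObj (C : Subalgebra A B) : Under (CommRingCat.of A) :=
  Under.mk (CommRingCat.ofHom (algebraMap A C))

/-- Inclusions of subalgebras. -/
noncomputable def subMap {C C' : Subalgebra A B} (h : C ≤ C') : subObj C ⟶ subObj C' :=
  Under.homMk (CommRingCat.ofHom (Subalgebra.inclusion h).toRingHom) (by ext a; rfl)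

/-- The diagram of a set of subalgebras. -/
noncomputable def subFunctor (𝒮 : Set (Subalgebra A B)) : ↥𝒮 ⥤ Under (CommRingCat.of A) where
  obj C := subObj C.1
  map f := subMap (leOfHom f)
  map_id C := by ext x; rfl
  map_comp f g := by ext x; rfl

/-- The cocone of a set of subalgebras. -/
noncomputable def subCocone (𝒮 : Set (Subalgebra A B)) : Cocone (subFunctor 𝒮) where
  pt := Under.mk (CommRingCat.ofHom (algebraMap A B))
  ι :=
    { app := fun C => Under.homMk (CommRingCat.ofHom C.1.val.toRingHom) (by ext a; rfl)
      naturality := fun C C' f => by ext x; rfl }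

/-- A directed union of subalgebras is a filtered colimit. -/
theorem nonempty_colimitPresentation_sub (𝒮 : Set (Subalgebra A B)) [IsDirected ↥𝒮 (· ≤ ·)]
    [Nonempty ↥𝒮] (hcov : ∀ b : B, ∃ C ∈ 𝒮, b ∈ C) :
    ∃ pres : ColimitPresentation ↥𝒮 (Under.mk (CommRingCat.ofHom (algebraMap A B))),
      ∀ C : ↥𝒮, pres.diag.obj C = subObj C.1 := by
  obtain ⟨hc⟩ := isColimit_under_of_elementwise (subFunctor 𝒮) (subCocone 𝒮)
    (by
      intro x
      obtain ⟨C, hC, hx⟩ := hcov x
      exact ⟨⟨C, hC⟩, ⟨x, hx⟩, rfl⟩)
    (by
      intro C y y' h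
      refine ⟨C, 𝟙 C, ?_⟩
      have : y = y' := Subtype.ext h
      rw [this])
  exact ⟨⟨subFunctor 𝒮, (subCocone 𝒮).ι, hc⟩, fun C => rfl⟩

end Sub

section Quot

variable {A E C : Type u} [CommRing A] [CommRing E] [CommRing C] (ε : A →+* E) (v : E →+* C)
  (γ : A →+* C) (hγ : v.comp ε = γ)

/-- The ideal generated by a finite set of kernel elements. -/
def quotIdeal (T : Finset (RingHom.ker v)) : Ideal E :=
  Ideal.span (Subtype.val '' (T : Set (RingHom.ker v)))

theorem quotIdeal_mono {T T' : Finset (RingHom.ker v)} (h : T ≤ T') :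
    quotIdeal v T ≤ quotIdeal v T' :=
  Ideal.span_mono (Set.image_mono (Finset.coe_subset.2 h))

theorem quotIdeal_le (T : Finset (RingHom.ker v)) : quotIdeal v T ≤ RingHom.ker v := by
  rw [quotIdeal, Ideal.span_le]
  rintro _ ⟨z, -, rfl⟩
  exact z.2

theorem quotIdeal_fg (T : Finset (RingHom.ker v)) : (quotIdeal v T).FG :=
  Submodule.fg_span ((Finset.finite_toSet T).image _)

/-- The quotient objects. -/
noncomputable def quotObj (T : Finset (RingHom.ker v)) : Under (CommRingCat.of A) :=
  Under.mk (CommRingCat.ofHom ((Ideal.Quotient.mk (quotIdeal v T)).comp ε))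

/-- Transition maps. -/
noncomputable def quotMap {T T' : Finset (RingHom.ker v)} (h : T ≤ T') :
    quotObj ε v T ⟶ quotObj ε v T' :=
  Under.homMk (CommRingCat.ofHom (Ideal.Quotient.factor (quotIdeal_mono v h))) (by ext a; rfl)

/-- The diagram of quotients. -/
noncomputable def quotFunctor : Finset (RingHom.ker v) ⥤ Under (CommRingCat.of A) where
  obj T := quotObj ε v T
  map f := quotMap ε v (leOfHom f)
  map_id T := by
    ext x
    obtain ⟨e, rfl⟩ := Ideal.Quotient.mk_surjective x
    rfl
  map_comp f g := by
    ext x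
    obtain ⟨e, rfl⟩ := Ideal.Quotient.mk_surjective x
    rfl

include hγ in
/-- The cocone of quotients. -/
noncomputable def quotCocone : Cocone (quotFunctor ε v) where
  pt := Under.mk (CommRingCat.ofHom γ)
  ι :=
    { app := fun T => Under.homMk
        (CommRingCat.ofHom (Ideal.Quotient.lift (quotIdeal v T) v (fun z hz => quotIdeal_le v T hz)))
        (by
          ext a
          exact RingHom.congr_fun hγ a)
      naturality := fun T T' f => by
        ext x
        obtain ⟨e, rfl⟩ := Ideal.Quotient.mk_surjective x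
        rfl }

include hγ in
/-- A quotient by a surjection is the filtered colimit of the quotients by finitely generated
subideals of the kernel. -/
theorem nonempty_colimitPresentation_quot (hv : Function.Surjective v) :
    ∃ pres : ColimitPresentation (Finset (RingHom.ker v)) (Under.mk (CommRingCat.ofHom γ)),
      ∀ T, pres.diag.obj T = quotObj ε v T := by
  classical
  obtain ⟨hc⟩ := isColimit_under_of_elementwise (quotFunctor ε v) (quotCocone ε v γ hγ)
    (by
      intro x
      obtain ⟨e, he⟩ := hv x
      exact ⟨∅, Ideal.Quotient.mk _ e, he⟩)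
    (by
      intro T y y' h
      obtain ⟨e, rfl⟩ := Ideal.Quotient.mk_surjective y
      obtain ⟨e', rfl⟩ := Ideal.Quotient.mk_surjective y'
      have h' : v e = v e' := h
      have hmem : e - e' ∈ RingHom.ker v := by
        rw [RingHom.mem_ker, map_sub, h', sub_self]
      refine ⟨insert ⟨e - e', hmem⟩ T, homOfLE (Finset.subset_insert _ _), ?_⟩
      change Ideal.Quotient.mk _ e = Ideal.Quotient.mk _ e'
      rw [Ideal.Quotient.eq]
      apply Ideal.subset_span
      exact ⟨⟨e - e', hmem⟩, by simp, rfl⟩)
  exact ⟨⟨quotFunctor ε v, (quotCocone ε v γ hγ).ι, hc⟩, fun T => rfl⟩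

end Quot

end Groth.Agent.Helper7.ColimEl
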