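import Groth.Agent.Helper7.UHRing

set_option autoImplicit false
universe u
open AlgebraicGeometry CategoryTheory MorphismProperty Polynomial

namespace Groth.Agent.Helper7.UHRing

open Groth.Agent.Helper7.UHTower

section Gen

variable {A B : Type u} [CommRing A] [CommRing B] [Algebra A B]

theorem towerClosure_eq_top_of_singleton (P : StepPred A B) (t : B) (ht : P.S ⊥ t)
    (hgen : Algebra.adjoin A {t} = ⊤) : towerClosure P = ⊤ := by
  have hT : IsTower P [t] := by
    intro n hn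
    have hn0 : n = 0 := by simpa using hn
    subst hn0
    exact P.mono bot_le _ ht
  rw [eq_top_iff, ← hgen]
  intro b hb
  refine ⟨[t], hT, ?_⟩
  convert hb using 2
  ext x
  simp

theorem isUH_of_towerClosure_eq_top (h : towerClosure (sqCubeOrPrime A B) = ⊤)
    (hnil : ∀ a : A, algebraMap A B a = 0 → IsNilpotent a) : IsUH (algebraMap A B) := by
  refine ⟨algebraMap_isIntegral_iff.2 (isIntegral_of_towerClosure_eq_top h), ?_, hnil⟩
  intro K _ h₁ h₂ heq
  exact ringHom_ext_of_towerClosure_eq_top h h₁ h₂ heq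

theorem resTriv_of_towerClosure_eq_top (h : towerClosure (sqCube A B) = ⊤) :
    ResTriv (algebraMap A B) := by
  rw [resTriv_iff_map_surjective]
  intro Q _
  exact residue_surjective_of_towerClosure_eq_top h Q

theorem sqCube_le_sqCubeOrPrime (h : towerClosure (sqCube A B) = ⊤) :
    towerClosure (sqCubeOrPrime A B) = ⊤ := by
  rw [eq_top_iff, ← h]
  rintro b ⟨l, hl, hb⟩
  exact ⟨l, isTower_of_imp (fun D b h => Or.inl h) hl, hb⟩

end Gen

section Elem

variable (A : Type u) [CommRing A]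

theorem adjoin_mk_X (I : Ideal A[X]) :
    Algebra.adjoin A {(Ideal.Quotient.mk I X : A[X] ⧸ I)} = ⊤ := by
  have h1 : Algebra.adjoin A {(Ideal.Quotient.mk I X : A[X] ⧸ I)} =
      (Algebra.adjoin A {(X : A[X])}).map (Ideal.Quotient.mkₐ A I) := by
    rw [AlgHom.map_adjoin, Set.image_singleton]
    rfl
  rw [h1, Polynomial.adjoin_X, Algebra.map_top, AlgHom.range_eq_top]
  exact Ideal.Quotient.mkₐ_surjective A I

/-- kernel elements die in every field receiving the quotient. -/
theorem isNilpotent_of_points (I : Ideal A[X])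
    (hpt : ∀ (𝔭 : Ideal A) [𝔭.IsPrime], ∃ (K : Type u) (_ : Field K) (f : 𝔭.ResidueField →+* K)
      (τ : K), ∀ g ∈ I, eval₂ (f.comp (algebraMap A 𝔭.ResidueField)) τ g = 0)
    (a : A) (ha : algebraMap A (A[X] ⧸ I) a = 0) : IsNilpotent a := by
  rw [← mem_nilradical, nilradical_eq_sInf, Ideal.mem_sInf]
  intro 𝔭 h𝔭
  have : 𝔭.IsPrime := h𝔭
  obtain ⟨K, _, f, τ, hτ⟩ := hpt 𝔭
  have hC : C a ∈ I := by
    rw [← Ideal.Quotient.eq_zero_iff_mem]
    exact ha
  have := hτ _ hC
  rw [eval₂_C, RingHom.comp_apply] at this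
  have h2 := (map_eq_zero f).1 this
  rwa [Ideal.algebraMap_residueField_eq_zero] at h2

variable {A}

theorem sqCube_ext (x y : A) (h : x ^ 3 = y ^ 2) :
    IsUH (algebraMap A (A[X] ⧸ Ideal.span ({X ^ 2 - C x, X ^ 3 - C y} : Set A[X]))) ∧
      ResTriv (algebraMap A (A[X] ⧸ Ideal.span ({X ^ 2 - C x, X ^ 3 - C y} : Set A[X]))) := by
  set I := Ideal.span ({X ^ 2 - C x, X ^ 3 - C y} : Set A[X]) with hI
  have htop : towerClosure (sqCube A (A[X] ⧸ I)) = ⊤ := by
    apply towerClosure_eq_top_of_singleton _ (Ideal.Quotient.mk I X) _ (adjoin_mk_X A I)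
    have e2 : (Ideal.Quotient.mk I X : A[X] ⧸ I) ^ 2 = algebraMap A (A[X] ⧸ I) x := by
      rw [← map_pow]
      exact Ideal.Quotient.eq.2 (Ideal.subset_span (by simp))
    have e3 : (Ideal.Quotient.mk I X : A[X] ⧸ I) ^ 3 = algebraMap A (A[X] ⧸ I) y := by
      rw [← map_pow]
      exact Ideal.Quotient.eq.2 (Ideal.subset_span (by simp))
    constructor
    · rw [e2]; exact Subalgebra.algebraMap_mem _ _
    · rw [e3]; exact Subalgebra.algebraMap_mem _ _
  refine ⟨isUH_of_towerClosure_eq_top (sqCube_le_sqCubeOrPrime htop) ?_,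
    resTriv_of_towerClosure_eq_top htop⟩
  apply isNilpotent_of_points
  intro 𝔭 _
  refine ⟨𝔭.ResidueField, inferInstance, RingHom.id _, ?_⟩
  set x' := algebraMap A 𝔭.ResidueField x with hx'
  set y' := algebraMap A 𝔭.ResidueField y with hy'
  have h' : x' ^ 3 = y' ^ 2 := by rw [hx', hy', ← map_pow, ← map_pow, h]
  obtain ⟨τ, h2, h3⟩ : ∃ τ : 𝔭.ResidueField, τ ^ 2 = x' ∧ τ ^ 3 = y' := by
    by_cases hx0 : x' = 0
    · refine ⟨0, by rw [hx0]; ring, ?_⟩
      have : y' ^ 2 = 0 := by rw [← h', hx0]; ring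
      rw [(pow_eq_zero_iff (by norm_num)).1 this]; ring
    · have hy0 : y' ≠ 0 := by
        intro hy0
        have : x' ^ 3 = 0 := by rw [h', hy0]; ring
        exact hx0 ((pow_eq_zero_iff (by norm_num)).1 this)
      refine ⟨y' / x', ?_, ?_⟩
      · rw [div_pow, ← h']
        field_simp
      · rw [div_pow, h']
        field_simp
  refine ⟨τ, ?_⟩
  intro g hg
  have hle : I ≤ RingHom.ker (eval₂RingHom ((RingHom.id _).comp (algebraMap A 𝔭.ResidueField)) τ) := by
    rw [hI, Ideal.span_le]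
    rintro g (rfl | rfl)
    · simp only [SetLike.mem_coe, RingHom.mem_ker, coe_eval₂RingHom, eval₂_sub, eval₂_X_pow,
        eval₂_C, RingHom.comp_apply, RingHom.id_apply]
      rw [h2, sub_self]
    · simp only [SetLike.mem_coe, RingHom.mem_ker, coe_eval₂RingHom, eval₂_sub, eval₂_X_pow,
        eval₂_C, RingHom.comp_apply, RingHom.id_apply]
      rw [h3, sub_self]
  exact hle hg

theorem prime_ext (p : ℕ) (hp : p.Prime) (x y : A) (h : (p : A) ^ p * x = y ^ p) :
    IsUH (algebraMap A (A[X] ⧸ Ideal.span ({X ^ p - C x, C (p : A) * X - C y} : Set A[X]))) := by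
  set I := Ideal.span ({X ^ p - C x, C (p : A) * X - C y} : Set A[X]) with hI
  have htop : towerClosure (sqCubeOrPrime A (A[X] ⧸ I)) = ⊤ := by
    apply towerClosure_eq_top_of_singleton _ (Ideal.Quotient.mk I X) _ (adjoin_mk_X A I)
    have e2 : ((p : ℕ) : A[X] ⧸ I) * (Ideal.Quotient.mk I X : A[X] ⧸ I) =
        algebraMap A (A[X] ⧸ I) y := by
      have : ((p : ℕ) : A[X] ⧸ I) = Ideal.Quotient.mk I (C (p : A)) := by
        rw [map_natCast, map_natCast]
      rw [this, ← map_mul]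
      exact Ideal.Quotient.eq.2 (Ideal.subset_span (by simp))
    have e3 : (Ideal.Quotient.mk I X : A[X] ⧸ I) ^ p = algebraMap A (A[X] ⧸ I) x := by
      rw [← map_pow]
      exact Ideal.Quotient.eq.2 (Ideal.subset_span (by simp))
    refine Or.inr ⟨p, hp, ?_, ?_⟩
    · rw [e2]; exact Subalgebra.algebraMap_mem _ _
    · rw [e3]; exact Subalgebra.algebraMap_mem _ _
  refine isUH_of_towerClosure_eq_top htop ?_
  apply isNilpotent_of_points
  intro 𝔭 _
  refine ⟨AlgebraicClosure 𝔭.ResidueField, inferInstance,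
    algebraMap 𝔭.ResidueField (AlgebraicClosure 𝔭.ResidueField), ?_⟩
  set ι := (algebraMap 𝔭.ResidueField (AlgebraicClosure 𝔭.ResidueField)).comp
    (algebraMap A 𝔭.ResidueField) with hι
  set x' := ι x with hx'
  set y' := ι y with hy'
  have h' : ((p : ℕ) : AlgebraicClosure 𝔭.ResidueField) ^ p * x' = y' ^ p := by
    rw [hx', hy', ← map_pow, ← h, map_mul, map_pow, map_natCast]
  obtain ⟨τ, h2, h3⟩ : ∃ τ : AlgebraicClosure 𝔭.ResidueField, τ ^ p = x' ∧
      ((p : ℕ) : AlgebraicClosure 𝔭.ResidueField) * τ = y' := by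
    by_cases hp0 : ((p : ℕ) : AlgebraicClosure 𝔭.ResidueField) = 0
    · obtain ⟨τ, hτ⟩ := IsAlgClosed.exists_pow_nat_eq x' hp.pos
      refine ⟨τ, hτ, ?_⟩
      have : y' ^ p = 0 := by rw [← h', hp0, zero_pow hp.ne_zero, zero_mul]
      rw [hp0, zero_mul, (pow_eq_zero_iff hp.ne_zero).1 this]
    · refine ⟨y' / p, ?_, ?_⟩
      · rw [div_pow, ← h']
        field_simp
      · field_simp
  refine ⟨τ, ?_⟩
  intro g hg
  have hle : I ≤ RingHom.ker (eval₂RingHom ι τ) := by
    rw [hI, Ideal.span_le]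
    rintro g (rfl | rfl)
    · simp only [SetLike.mem_coe, RingHom.mem_ker, coe_eval₂RingHom, eval₂_sub, eval₂_X_pow,
        eval₂_C]
      rw [h2, sub_self]
    · simp only [SetLike.mem_coe, RingHom.mem_ker, coe_eval₂RingHom, eval₂_sub, eval₂_mul,
        eval₂_X, eval₂_C]
      rw [map_natCast, h3, sub_self]
  exact hle hg

end Elem

end Groth.Agent.Helper7.UHRing
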