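import Groth.Agent.Helper7.UHElem

set_option autoImplicit false
universe u
open Polynomial

namespace Groth.Agent.Helper7.UHRing

open Groth.Agent.Helper7.UHTower

/-- A finitely presented ring-level universal homeomorphism over `A` mapping to `B`. -/
structure Fac {A B : Type u} [CommRing A] [CommRing B] (φ : A →+* B) where
  E : Type u
  [inst : CommRing E]
  ε : A →+* E
  v : E →+* B
  fp : ε.FinitePresentation
  uh : IsUH ε
  comm : v.comp ε = φ

attribute [instance] Fac.inst

variable {A B : Type u} [CommRing A] [CommRing B] {φ : A →+* B}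

/-- The trivial factorization. -/
def Fac.base (φ : A →+* B) : Fac φ where
  E := A
  ε := RingHom.id A
  v := φ
  fp := RingHom.FinitePresentation.id A
  uh := IsUH.of_surjective (fun a => ⟨a, rfl⟩) (fun a ha => by
    rw [RingHom.id_apply] at ha; rw [ha]; exact IsNilpotent.zero)
  comm := RingHom.comp_id φ

theorem Fac.isUH_v (hφ : IsUH φ) (F : Fac φ) : IsUH F.v :=
  IsUH.of_comp F.uh (by rw [F.comm]; exact hφ)

/-- Quotient by finitely many elements of the kernel. -/
theorem Fac.exists_quot (hφ : IsUH φ) (F : Fac φ) (s : Finset F.E) (hs : ∀ z ∈ s, F.v z = 0) :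
    ∃ (F' : Fac φ) (π : F.E →+* F'.E), F'.v.comp π = F.v ∧ π.comp F.ε = F'.ε ∧
      Function.Surjective π ∧ ∀ z ∈ s, π z = 0 := by
  set J : Ideal F.E := Ideal.span (s : Set F.E) with hJ
  have hJle : J ≤ RingHom.ker F.v := by
    rw [hJ, Ideal.span_le]
    intro z hz
    exact hs z hz
  have hker : RingHom.ker (Ideal.Quotient.mk J) = J := Ideal.mk_ker
  have hπUH : IsUH (Ideal.Quotient.mk J) := by
    apply IsUH.of_surjective Ideal.Quotient.mk_surjective
    intro z hz
    rw [Ideal.Quotient.eq_zero_iff_mem] at hz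
    exact (F.isUH_v hφ).2.2 z (hJle hz)
  refine ⟨{ E := F.E ⧸ J
            ε := (Ideal.Quotient.mk J).comp F.ε
            v := Ideal.Quotient.lift J F.v (fun z hz => hJle hz)
            fp := F.fp.comp_surjective Ideal.Quotient.mk_surjective (by
              rw [hker]; exact Submodule.fg_span s.finite_toSet)
            uh := F.uh.comp hπUH
            comm := by
              rw [← RingHom.comp_assoc, Ideal.Quotient.lift_comp_mk, F.comm] },
    Ideal.Quotient.mk J, ?_, rfl, Ideal.Quotient.mk_surjective, ?_⟩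
  · exact Ideal.Quotient.lift_comp_mk J F.v _
  · intro z hz
    rw [Ideal.Quotient.eq_zero_iff_mem]
    exact Ideal.subset_span hz

/-- Polynomial quotient extension, general form. -/
theorem Fac.exists_ext (F : Fac φ) (I : Ideal F.E[X]) (hI : I.FG)
    (hUH : IsUH (algebraMap F.E (F.E[X] ⧸ I))) (b : B)
    (hb : ∀ g ∈ I, eval₂RingHom F.v b g = 0) :
    ∃ (F' : Fac φ) (π : F.E →+* F'.E), F'.v.comp π = F.v ∧ π.comp F.ε = F'.ε ∧
      b ∈ F'.v.range ∧ ∀ e' : F'.E, ∃ g : F.E[X], F'.v e' = eval₂ F.v b g := by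
  have hfp : Algebra.FinitePresentation F.E (F.E[X] ⧸ I) :=
    Algebra.FinitePresentation.quotient hI
  have key : ∀ e : F.E, algebraMap F.E (F.E[X] ⧸ I) e = Ideal.Quotient.mk I (C e) := fun e => rfl
  refine ⟨{ E := F.E[X] ⧸ I
            ε := (algebraMap F.E (F.E[X] ⧸ I)).comp F.ε
            v := Ideal.Quotient.lift I (eval₂RingHom F.v b) hb
            fp := (RingHom.finitePresentation_algebraMap.2 hfp).comp F.fp
            uh := F.uh.comp hUH
            comm := ?_ },
    algebraMap F.E (F.E[X] ⧸ I), ?_, rfl, ?_, ?_⟩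
  · ext a
    rw [← RingHom.congr_fun F.comm a]
    simp only [RingHom.comp_apply]
    rw [key, Ideal.Quotient.lift_mk, coe_eval₂RingHom, eval₂_C]
  · ext e
    simp only [RingHom.comp_apply]
    rw [key, Ideal.Quotient.lift_mk, coe_eval₂RingHom, eval₂_C]
  · refine ⟨Ideal.Quotient.mk I X, ?_⟩
    rw [Ideal.Quotient.lift_mk, coe_eval₂RingHom, eval₂_X]
  · intro e'
    obtain ⟨g, rfl⟩ := Ideal.Quotient.mk_surjective e'
    exact ⟨g, by rw [Ideal.Quotient.lift_mk, coe_eval₂RingHom]⟩

theorem Fac.exists_extSq (F : Fac φ) (x y : F.E) (h : x ^ 3 = y ^ 2) (b : B)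
    (hb2 : b ^ 2 = F.v x) (hb3 : b ^ 3 = F.v y) :
    ∃ (F' : Fac φ) (π : F.E →+* F'.E), F'.v.comp π = F.v ∧ π.comp F.ε = F'.ε ∧
      b ∈ F'.v.range ∧ ∀ e' : F'.E, ∃ g : F.E[X], F'.v e' = eval₂ F.v b g := by
  apply F.exists_ext (Ideal.span ({X ^ 2 - C x, X ^ 3 - C y} : Set F.E[X]))
    (Submodule.fg_span (Set.toFinite _)) (sqCube_ext x y h).1 b
  intro g hg
  have hle : Ideal.span ({X ^ 2 - C x, X ^ 3 - C y} : Set F.E[X]) ≤
      RingHom.ker (eval₂RingHom F.v b) := by
    rw [Ideal.span_le]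
    rintro g (rfl | rfl)
    · simp only [SetLike.mem_coe, RingHom.mem_ker, coe_eval₂RingHom, eval₂_sub, eval₂_X_pow,
        eval₂_C]
      rw [hb2, sub_self]
    · simp only [SetLike.mem_coe, RingHom.mem_ker, coe_eval₂RingHom, eval₂_sub, eval₂_X_pow,
        eval₂_C]
      rw [hb3, sub_self]
  exact hle hg

theorem Fac.exists_extPrime (F : Fac φ) (p : ℕ) (hp : p.Prime) (x y : F.E)
    (h : (p : F.E) ^ p * x = y ^ p) (b : B)
    (hb2 : (p : B) * b = F.v y) (hb3 : b ^ p = F.v x) :
    ∃ (F' : Fac φ) (π : F.E →+* F'.E), F'.v.comp π = F.v ∧ π.comp F.ε = F'.ε ∧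
      b ∈ F'.v.range ∧ ∀ e' : F'.E, ∃ g : F.E[X], F'.v e' = eval₂ F.v b g := by
  apply F.exists_ext (Ideal.span ({X ^ p - C x, C (p : F.E) * X - C y} : Set F.E[X]))
    (Submodule.fg_span (Set.toFinite _)) (prime_ext p hp x y h) b
  intro g hg
  have hle : Ideal.span ({X ^ p - C x, C (p : F.E) * X - C y} : Set F.E[X]) ≤
      RingHom.ker (eval₂RingHom F.v b) := by
    rw [Ideal.span_le]
    rintro g (rfl | rfl)
    · simp only [SetLike.mem_coe, RingHom.mem_ker, coe_eval₂RingHom, eval₂_sub, eval₂_X_pow,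
        eval₂_C]
      rw [hb3, sub_self]
    · simp only [SetLike.mem_coe, RingHom.mem_ker, coe_eval₂RingHom, eval₂_sub, eval₂_mul,
        eval₂_X, eval₂_C]
      rw [map_natCast, hb2, sub_self]
  exact hle hg

section Tower

variable {A B : Type u} [CommRing A] [CommRing B] [Algebra A B]

theorem isTower_of_append (P : StepPred A B) {l l' : List B} (h : IsTower P (l ++ l')) :
    IsTower P l := by
  intro n hn
  have hn' : n < (l ++ l').length := by rw [List.length_append]; omega
  have e1 : (l ++ l').take n = l.take n := by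
    rw [List.take_append_of_le_length hn.le]
  have e2 : (l ++ l')[n] = l[n] := List.getElem_append_left hn
  have := h n hn'
  rw [e1, e2] at this
  exact this

theorem step_of_concat (P : StepPred A B) {l : List B} {b : B} (h : IsTower P (l ++ [b])) :
    P.S (Algebra.adjoin A {x | x ∈ l}) b := by
  have hn' : l.length < (l ++ [b]).length := by simp
  have e1 : (l ++ [b]).take l.length = l := by simp
  have e2 : (l ++ [b])[l.length] = b := by simp
  have := h l.length hn'
  rw [e1, e2] at this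
  exact this

theorem Fac.mem_range_of_mem_adjoin (F : Fac (algebraMap A B)) (S : Set B)
    (hS : ∀ x ∈ S, x ∈ F.v.range) {b : B} (hb : b ∈ Algebra.adjoin A S) : b ∈ F.v.range := by
  induction hb using Algebra.adjoin_induction with
  | mem x hx => exact hS x hx
  | algebraMap a => exact ⟨F.ε a, RingHom.congr_fun F.comm a⟩
  | add x y _ _ hx hy => exact F.v.range.add_mem hx hy
  | mul x y _ _ hx hy => exact F.v.range.mul_mem hx hy

theorem exists_fac_of_tower (hφ : IsUH (algebraMap A B)) (l : List B)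
    (hl : IsTower (sqCubeOrPrime A B) l) :
    ∃ F : Fac (algebraMap A B), (∀ x ∈ l, x ∈ F.v.range) ∧
      ∀ e : F.E, F.v e ∈ Algebra.adjoin A {x | x ∈ l} := by
  induction l using List.reverseRecOn with
  | nil =>
    refine ⟨Fac.base _, by simp, fun e => ?_⟩
    exact Subalgebra.algebraMap_mem (Algebra.adjoin A {x | x ∈ ([] : List B)}) (e : A)
  | append_singleton l b ih =>
    have hl' : IsTower (sqCubeOrPrime A B) l := isTower_of_append _ hl
    have hb := step_of_concat _ hl
    obtain ⟨F, hF, hFr⟩ := ih hl'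
    have hF' : ∀ x ∈ {x | x ∈ l}, x ∈ F.v.range := fun x hx => hF x hx
    have hmono : Algebra.adjoin A {x | x ∈ l} ≤ Algebra.adjoin A {x | x ∈ l ++ [b]} :=
      Algebra.adjoin_mono (fun x hx => List.mem_append_left _ hx)
    have hbmem : b ∈ Algebra.adjoin A {x | x ∈ l ++ [b]} :=
      Algebra.subset_adjoin (by simp)
    have hfin : ∀ (F' : Fac (algebraMap A B)) (π : F.E →+* F'.E), Function.Surjective π →
        F'.v.comp π = F.v → ∀ (F'' : Fac (algebraMap A B)),
        (∀ e' : F''.E, ∃ g : F'.E[X], F''.v e' = eval₂ F'.v b g) →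
        ∀ e : F''.E, F''.v e ∈ Algebra.adjoin A {x | x ∈ l ++ [b]} := by
      intro F' π hsurj hv F'' hg e
      obtain ⟨g, hg⟩ := hg e
      rw [hg, eval₂_eq_sum_range]
      refine Subalgebra.sum_mem _ fun i _ => Subalgebra.mul_mem _ ?_ (Subalgebra.pow_mem _ hbmem i)
      obtain ⟨e0, he0⟩ := hsurj (g.coeff i)
      rw [← he0, ← RingHom.comp_apply, hv]
      exact hmono (hFr e0)
    rcases hb with ⟨h2, h3⟩ | ⟨p, hp, h2, h3⟩
    · obtain ⟨x₀, hx₀⟩ := F.mem_range_of_mem_adjoin _ hF' h2
      obtain ⟨y₀, hy₀⟩ := F.mem_range_of_mem_adjoin _ hF' h3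
      obtain ⟨F', π, hv, hε, hsurj, hz⟩ := F.exists_quot hφ {x₀ ^ 3 - y₀ ^ 2} (by
        intro z hz
        rw [Finset.mem_singleton] at hz
        rw [hz, map_sub, map_pow, map_pow, hx₀, hy₀]
        ring)
      have h : (π x₀) ^ 3 = (π y₀) ^ 2 := by
        have := hz _ (Finset.mem_singleton_self _)
        rw [map_sub, map_pow, map_pow, sub_eq_zero] at this
        exact this
      have hvx : ∀ e, F'.v (π e) = F.v e := fun e => RingHom.congr_fun hv e
      obtain ⟨F'', π', hv', hε', hb, hg⟩ := F'.exists_extSq (π x₀) (π y₀) h b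
        (by rw [hvx, hx₀]) (by rw [hvx, hy₀])
      have hvx' : ∀ e, F''.v (π' e) = F'.v e := fun e => RingHom.congr_fun hv' e
      refine ⟨F'', ?_, hfin F' π hsurj hv F'' hg⟩
      intro x hx
      rw [List.mem_append, List.mem_singleton] at hx
      rcases hx with hx | rfl
      · obtain ⟨e, he⟩ := hF x hx
        exact ⟨π' (π e), by rw [hvx', hvx, he]⟩
      · exact hb
    · obtain ⟨y₀, hy₀⟩ := F.mem_range_of_mem_adjoin _ hF' h2
      obtain ⟨x₀, hx₀⟩ := F.mem_range_of_mem_adjoin _ hF' h3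
      obtain ⟨F', π, hv, hε, hsurj, hz⟩ := F.exists_quot hφ {(p : F.E) ^ p * x₀ - y₀ ^ p} (by
        intro z hz
        rw [Finset.mem_singleton] at hz
        rw [hz, map_sub, map_mul, map_pow, map_pow, map_natCast, hx₀, hy₀]
        ring)
      have h : (p : F'.E) ^ p * (π x₀) = (π y₀) ^ p := by
        have := hz _ (Finset.mem_singleton_self _)
        rw [map_sub, map_mul, map_pow, map_pow, map_natCast, sub_eq_zero] at this
        exact this
      have hvx : ∀ e, F'.v (π e) = F.v e := fun e => RingHom.congr_fun hv e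
      obtain ⟨F'', π', hv', hε', hb, hg⟩ := F'.exists_extPrime p hp (π x₀) (π y₀) h b
        (by rw [hvx, hy₀]) (by rw [hvx, hx₀])
      have hvx' : ∀ e, F''.v (π' e) = F'.v e := fun e => RingHom.congr_fun hv' e
      refine ⟨F'', ?_, hfin F' π hsurj hv F'' hg⟩
      intro x hx
      rw [List.mem_append, List.mem_singleton] at hx
      rcases hx with hx | rfl
      · obtain ⟨e, he⟩ := hF x hx
        exact ⟨π' (π e), by rw [hvx', hvx, he]⟩
      · exact hb

/-- The factorization property. -/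
theorem exists_factor (hφ : IsUH (algebraMap A B)) {D : Type u} [CommRing D] (δ : A →+* D)
    (hD : δ.FinitePresentation) (ψ : D →+* B) (hψ : ψ.comp δ = algebraMap A B) :
    ∃ (F : Fac (algebraMap A B)) (w : D →+* F.E), w.comp δ = F.ε ∧ F.v.comp w = ψ := by
  classical
  letI := δ.toAlgebra
  have hD' : Algebra.FinitePresentation A D := hD
  obtain ⟨n, f, hf, hker⟩ := hD'.out
  have htop : towerClosure (sqCubeOrPrime A B) = ⊤ :=
    towerClosure_eq_top_of_isUnivHomeo ((isUH_iff _).1 hφ)
  obtain ⟨l, hl, hE⟩ := exists_tower_of_finset (sqCubeOrPrime A B)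
    (Finset.univ.image (fun k : Fin n => ψ (f (MvPolynomial.X k))))
    (fun e _ => by rw [htop]; trivial)
  obtain ⟨F, hF, -⟩ := exists_fac_of_tower hφ l hl
  have hF' : ∀ x ∈ {x | x ∈ l}, x ∈ F.v.range := fun x hx => hF x hx
  have hk : ∀ k : Fin n, ∃ e : F.E, F.v e = ψ (f (MvPolynomial.X k)) := by
    intro k
    apply F.mem_range_of_mem_adjoin _ hF'
    apply hE
    rw [Finset.mem_coe, Finset.mem_image]
    exact ⟨k, Finset.mem_univ _, rfl⟩
  choose e he using hk
  let g : MvPolynomial (Fin n) A →+* F.E := MvPolynomial.eval₂Hom F.ε e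
  have hδ : ∀ a : A, f (MvPolynomial.C a) = δ a := fun a => f.commutes a
  have hvg : F.v.comp g = ψ.comp f.toRingHom := by
    apply MvPolynomial.ringHom_ext
    · intro a
      simp only [RingHom.comp_apply, g, MvPolynomial.coe_eval₂Hom, MvPolynomial.eval₂_C,
        AlgHom.toRingHom_eq_coe, RingHom.coe_coe]
      rw [hδ]
      exact (RingHom.congr_fun F.comm a).trans (RingHom.congr_fun hψ a).symm
    · intro k
      simp only [RingHom.comp_apply, g, MvPolynomial.coe_eval₂Hom, MvPolynomial.eval₂_X,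
        AlgHom.toRingHom_eq_coe, RingHom.coe_coe]
      exact he k
  obtain ⟨s, hs⟩ := hker
  obtain ⟨F', π, hv, hε, hsurj, hz⟩ := F.exists_quot hφ (s.image g) (by
    intro z hz
    rw [Finset.mem_image] at hz
    obtain ⟨r, hr, rfl⟩ := hz
    have h1 := RingHom.congr_fun hvg r
    rw [RingHom.comp_apply] at h1
    rw [h1, RingHom.comp_apply]
    have : r ∈ RingHom.ker f.toRingHom := by rw [← hs]; exact Ideal.subset_span hr
    rw [RingHom.mem_ker] at this
    rw [this, map_zero])
  have hle : RingHom.ker f.toRingHom ≤ RingHom.ker (π.comp g) := by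
    rw [← hs, Ideal.span_le]
    intro r hr
    rw [SetLike.mem_coe, RingHom.mem_ker, RingHom.comp_apply]
    exact hz _ (Finset.mem_image_of_mem g hr)
  let w : D →+* F'.E := f.toRingHom.liftOfSurjective hf ⟨π.comp g, hle⟩
  have hw : ∀ r, w (f r) = π (g r) := fun r =>
    RingHom.liftOfSurjective_comp_apply f.toRingHom hf ⟨π.comp g, hle⟩ r
  refine ⟨F', w, ?_, ?_⟩
  · ext a
    rw [RingHom.comp_apply, ← hδ, hw, ← hε, RingHom.comp_apply]
    simp only [g, MvPolynomial.coe_eval₂Hom, MvPolynomial.eval₂_C]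
  · ext d
    obtain ⟨r, rfl⟩ := hf d
    rw [RingHom.comp_apply, hw]
    have h1 := RingHom.congr_fun hv (g r)
    rw [RingHom.comp_apply] at h1
    rw [h1]
    exact RingHom.congr_fun hvg r

end Tower

end Groth.Agent.Helper7.UHRing
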