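import Groth.Agent.Helper7.UHImg

set_option autoImplicit false
universe u
open AlgebraicGeometry CategoryTheory Limits

namespace Groth.Agent.Helper7.UHImg

/-- A scheme-theoretically dominant morphism is an epimorphism towards separated targets. -/
theorem hom_ext_of_isSchemeTheoreticallyDominant {W Z X S : Scheme.{u}} (k : W ⟶ Z)
    [IsSchemeTheoreticallyDominant k] (s : X ⟶ S) [IsSeparated s] (a b : Z ⟶ X)
    (hs : a ≫ s = b ≫ s) (hk : k ≫ a = k ≫ b) : a = b := by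
  let Z' : Over S := Over.mk (a ≫ s)
  let X' : Over S := Over.mk s
  let W' : Over S := Over.mk (k ≫ a ≫ s)
  let a' : Z' ⟶ X' := Over.homMk a
  let b' : Z' ⟶ X' := Over.homMk b hs.symm
  let k' : W' ⟶ Z' := Over.homMk k
  have : IsSeparated X'.hom := ‹_›
  let l : W' ⟶ equalizer a' b' := equalizer.lift k' (by ext1; exact hk)
  have hfac : l.left ≫ (equalizer.ι a' b').left = k := by
    rw [← Over.comp_left, equalizer.lift_ι]; rfl
  have hker : (equalizer.ι a' b').left.ker = ⊥ := by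
    rw [← le_bot_iff, ← k.ker_eq_bot, ← hfac]
    exact Scheme.Hom.le_ker_comp _ _
  have := IsClosedImmersion.isIso_iff_ker_eq_bot.2 hker
  rw [← cancel_epi (equalizer.ι a' b').left]
  exact congr($(equalizer.condition a' b').left)

open HTop in
/-- Residue field isomorphisms descend along a surjection of the source. -/
theorem residueFieldsIso_of_comp {X' X Y : Scheme.{u}} (h : X' ⟶ X) (π : X ⟶ Y) [Surjective h]
    (H : ResidueFieldsIso (h ≫ π)) : ResidueFieldsIso π := by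
  intro y
  obtain ⟨x, rfl⟩ := h.surjective y
  have h1 : IsIso (π.residueFieldMap (h x) ≫ h.residueFieldMap x) := by
    rw [← Scheme.residueFieldMap_comp]; exact H x
  haveI : Mono (h.residueFieldMap x) :=
    ConcreteCategory.mono_of_injective _ (h.residueFieldMap x).hom.injective
  haveI : IsSplitEpi (h.residueFieldMap x) :=
    ⟨⟨⟨inv (π.residueFieldMap (h x) ≫ h.residueFieldMap x) ≫ π.residueFieldMap (h x),
      by rw [Category.assoc, IsIso.inv_hom_id]⟩⟩⟩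
  haveI : IsIso (h.residueFieldMap x) := isIso_of_mono_of_isSplitEpi _
  exact IsIso.of_isIso_comp_right (π.residueFieldMap (h x)) (h.residueFieldMap x)

open HTop in
theorem s13833 {S X T T' : Scheme.{u}} [IsNoetherian S] [IsNoetherian T] [S.IsSeparated]
    [X.IsSeparated] [T.IsSeparated] [T'.IsSeparated] (fX : X ⟶ S) [LocallyOfFiniteType fX]
    (fT : T ⟶ S) (ν : T' ⟶ T) (hν : HTop.IsSeminormalization ν) :
    (∀ g : T' ⟶ X, g ≫ fX = ν ≫ fT →
      ∃ (T₁ : Scheme.{u}) (π : T₁ ⟶ T) (_ : IsFinite π) (_ : FlatMor.IsUnivHomeo π)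
        (_ : HTop.ResidueFieldsIso π) (g₁ : T₁ ⟶ X) (h : T' ⟶ T₁),
        h ≫ π = ν ∧ g₁ ≫ fX = π ≫ fT ∧ h ≫ g₁ = g) ∧
    (∀ (T₁ T₂ : Scheme.{u}) (π₁ : T₁ ⟶ T) (π₂ : T₂ ⟶ T) [IsFinite π₁] [IsFinite π₂],
      FlatMor.IsUnivHomeo π₁ → FlatMor.IsUnivHomeo π₂ →
      HTop.ResidueFieldsIso π₁ → HTop.ResidueFieldsIso π₂ →
      ∀ (g₁ : T₁ ⟶ X) (g₂ : T₂ ⟶ X) (h₁ : T' ⟶ T₁) (h₂ : T' ⟶ T₂),
        g₁ ≫ fX = π₁ ≫ fT → g₂ ≫ fX = π₂ ≫ fT → h₁ ≫ π₁ = ν → h₂ ≫ π₂ = ν → h₁ ≫ g₁ = h₂ ≫ g₂ →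
        ∃ (T₃ : Scheme.{u}) (π₃ : T₃ ⟶ T) (_ : IsFinite π₃) (_ : FlatMor.IsUnivHomeo π₃)
          (_ : HTop.ResidueFieldsIso π₃) (a₁ : T₃ ⟶ T₁) (a₂ : T₃ ⟶ T₂),
          a₁ ≫ π₁ = π₃ ∧ a₂ ≫ π₂ = π₃ ∧ a₁ ≫ g₁ = a₂ ≫ g₂) := by
  constructor
  · intro g hg
    let φ : T' ⟶ pullback fX fT := pullback.lift g ν hg
    have hφ : φ ≫ pullback.snd fX fT = ν := pullback.lift_snd _ _ _
    obtain ⟨hfin, hU, hsurj, -⟩ := image_finite_univHomeo ν hν.1.1 (pullback.snd fX fT) φ hφ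
    have hcomp : φ.toImage ≫ φ.imageι ≫ pullback.snd fX fT = ν := by
      rw [Scheme.Hom.toImage_imageι_assoc, hφ]
    refine ⟨φ.image, φ.imageι ≫ pullback.snd fX fT, hfin, hU,
      residueFieldsIso_of_comp φ.toImage _ (hcomp ▸ hν.1.2), φ.imageι ≫ pullback.fst fX fT,
      φ.toImage, hcomp, ?_, ?_⟩
    · rw [Category.assoc, Category.assoc, pullback.condition]
    · rw [Scheme.Hom.toImage_imageι_assoc]; exact pullback.lift_fst _ _ _
  · intro T₁ T₂ π₁ π₂ _ _ hπ₁ hπ₂ _ _ g₁ g₂ h₁ h₂ hg₁ hg₂ hh₁ hh₂ hgg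
    let ψ : T' ⟶ pullback π₁ π₂ := pullback.lift h₁ h₂ (hh₁.trans hh₂.symm)
    have hψ : ψ ≫ (pullback.fst π₁ π₂ ≫ π₁) = ν := by
      rw [pullback.lift_fst_assoc, hh₁]
    obtain ⟨hfin, hU, hsurj, hqc⟩ :=
      image_finite_univHomeo ν hν.1.1 (pullback.fst π₁ π₂ ≫ π₁) ψ hψ
    have hcomp : ψ.toImage ≫ ψ.imageι ≫ pullback.fst π₁ π₂ ≫ π₁ = ν := by
      rw [Scheme.Hom.toImage_imageι_assoc, hψ]
    haveI := isSchemeTheoreticallyDominant_toImage ψ
    refine ⟨ψ.image, ψ.imageι ≫ pullback.fst π₁ π₂ ≫ π₁, hfin, hU,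
      residueFieldsIso_of_comp ψ.toImage _ (hcomp ▸ hν.1.2),
      ψ.imageι ≫ pullback.fst π₁ π₂, ψ.imageι ≫ pullback.snd π₁ π₂, ?_, ?_, ?_⟩
    · rw [Category.assoc]
    · rw [Category.assoc, pullback.condition]
    · refine hom_ext_of_isSchemeTheoreticallyDominant ψ.toImage fX _ _ ?_ ?_
      · simp only [Category.assoc]
        rw [hg₁, hg₂, pullback.condition_assoc]
      · simp only [Category.assoc]
        rw [Scheme.Hom.toImage_imageι_assoc, Scheme.Hom.toImage_imageι_assoc,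
          pullback.lift_fst_assoc, pullback.lift_snd_assoc, hgg]

end Groth.Agent.Helper7.UHImg
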