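import Groth.Agent.Helper7.UHColim

set_option autoImplicit false
universe u
open CategoryTheory Limits AlgebraicGeometry

namespace Groth.Agent.Helper7.UHRing

open Groth.Agent.Helper7.ColimEl Groth.Agent.Helper7.UHTower

/-- Finitely presented universal homeomorphisms under `A`. -/
def PUH (A : Type u) [CommRing A] : ObjectProperty (Under (CommRingCat.of A)) :=
  fun S => S.hom.hom.FinitePresentation ∧ FlatMor.IsUnivHomeo (Spec.map S.hom)

/-- ... with trivial residue field extensions. -/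
def PUHres (A : Type u) [CommRing A] : ObjectProperty (Under (CommRingCat.of A)) :=
  fun S => S.hom.hom.FinitePresentation ∧ FlatMor.IsUnivHomeo (Spec.map S.hom) ∧
    ∀ x : Spec S.right, Function.Surjective ((Spec.map S.hom).residueFieldMap x)

theorem PUH_le (A : Type u) [CommRing A] :
    PUH A ≤ ObjectProperty.isFinitelyPresentable.{u} (Under (CommRingCat.of A)) :=
  fun S hS => CommRingCat.isFinitelyPresentable_under _ S hS.1

theorem PUHres_le (A : Type u) [CommRing A] :
    PUHres A ≤ ObjectProperty.isFinitelyPresentable.{u} (Under (CommRingCat.of A)) :=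
  fun S hS => CommRingCat.isFinitelyPresentable_under _ S hS.1

variable {A B : Type u} [CommRing A] [CommRing B] [Algebra A B]

theorem ind_of_isUH (hφ : IsUH (algebraMap A B))
    (Q : ObjectProperty (Under (CommRingCat.of A)))
    (hQ : Q ≤ ObjectProperty.isFinitelyPresentable.{u} (Under (CommRingCat.of A)))
    (hQmem : ∀ (E : Type u) [CommRing E] (ε : A →+* E) (w : E →+* B), ε.FinitePresentation →
      IsUH ε → w.comp ε = algebraMap A B → Q (Under.mk (CommRingCat.ofHom ε))) :
    ObjectProperty.ind.{u} Q (Under.mk (CommRingCat.ofHom (algebraMap A B))) := by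
  rw [← ObjectProperty.ind_ind hQ]
  let 𝒮 : Set (Subalgebra A B) :=
    {C | ∃ l, IsTower (sqCubeOrPrime A B) l ∧ C = Algebra.adjoin A {x | x ∈ l}}
  haveI : Nonempty ↥𝒮 := ⟨⟨_, [], isTower_nil _, rfl⟩⟩
  haveI : IsDirected ↥𝒮 (· ≤ ·) := by
    constructor
    rintro ⟨_, l, hl, rfl⟩ ⟨_, l', hl', rfl⟩
    refine ⟨⟨_, l ++ l', isTower_append _ hl hl', rfl⟩, ?_, ?_⟩
    · exact Algebra.adjoin_mono (fun x hx => List.mem_append_left _ hx)
    · exact Algebra.adjoin_mono (fun x hx => List.mem_append_right _ hx)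
  have htop := towerClosure_eq_top_of_isUnivHomeo ((isUH_iff _).1 hφ)
  obtain ⟨pres, hpres⟩ := nonempty_colimitPresentation_sub 𝒮 (fun b => by
    have hb : b ∈ towerClosure (sqCubeOrPrime A B) := by rw [htop]; trivial
    obtain ⟨l, hl, hb⟩ := hb
    exact ⟨_, ⟨l, hl, rfl⟩, hb⟩)
  refine ⟨↥𝒮, inferInstance, inferInstance, pres, fun C => ?_⟩
  rw [hpres]
  obtain ⟨_, l, hl, rfl⟩ := C
  obtain ⟨F, hF, hFr⟩ := exists_fac_of_tower hφ l hl
  have hF' : ∀ x ∈ {x | x ∈ l}, x ∈ F.v.range := fun x hx => hF x hx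
  let vC : F.E →+* (Algebra.adjoin A {x | x ∈ l}) :=
    F.v.codRestrict (Algebra.adjoin A {x | x ∈ l}) hFr
  have hvC : Function.Surjective vC := by
    intro c
    obtain ⟨e, he⟩ := F.mem_range_of_mem_adjoin _ hF' c.2
    exact ⟨e, Subtype.ext he⟩
  have hγ : vC.comp F.ε = algebraMap A (Algebra.adjoin A {x | x ∈ l}) := by
    ext a
    exact RingHom.congr_fun F.comm a
  obtain ⟨pres2, hpres2⟩ := nonempty_colimitPresentation_quot F.ε vC _ hγ hvC
  refine ⟨Finset (RingHom.ker vC), inferInstance, inferInstance, pres2, fun T => ?_⟩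
  rw [hpres2]
  have hker : quotIdeal vC T ≤ RingHom.ker F.v := by
    intro z hz
    have := quotIdeal_le vC T hz
    rw [RingHom.mem_ker] at this ⊢
    exact congrArg Subtype.val this
  apply hQmem _ _ (Ideal.Quotient.lift (quotIdeal vC T) F.v (fun z hz => hker hz))
  · exact F.fp.comp_surjective Ideal.Quotient.mk_surjective (by
      rw [Ideal.mk_ker]; exact quotIdeal_fg vC T)
  · apply F.uh.comp
    apply IsUH.of_surjective Ideal.Quotient.mk_surjective
    intro z hz
    rw [Ideal.Quotient.eq_zero_iff_mem] at hz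
    exact (F.isUH_v hφ).2.2 z (hker hz)
  · rw [← RingHom.comp_assoc, Ideal.Quotient.lift_comp_mk, F.comm]

omit [Algebra A B] in
theorem s7443 (φ : A →+* B)
    (hφ : FlatMor.IsUnivHomeo (Spec.map (CommRingCat.ofHom φ))) :
    ∃ (J : Type u) (_ : SmallCategory J) (_ : IsFiltered J) (F : J ⥤ Under (CommRingCat.of A))
      (c : Limits.Cocone F) (_ : Limits.IsColimit c),
      (∀ j, (F.obj j).hom.hom.FinitePresentation ∧ FlatMor.IsUnivHomeo (Spec.map (F.obj j).hom)) ∧
      Nonempty (c.pt ≅ Under.mk (CommRingCat.ofHom φ)) := by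
  letI := φ.toAlgebra
  have h := ind_of_isUH (A := A) (B := B) ((isUH_iff φ).2 hφ) (PUH A) (PUH_le A)
    (fun E _ ε w hfp huh _ => ⟨hfp, (isUH_iff ε).1 huh⟩)
  obtain ⟨J, hJ1, hJ2, pres, hp⟩ := h
  exact ⟨J, hJ1, hJ2, pres.diag, Cocone.mk _ pres.ι, pres.isColimit, hp, ⟨Iso.refl _⟩⟩

omit [Algebra A B] in
theorem s7444 (φ : A →+* B) (hφ : FlatMor.IsUnivHomeo (Spec.map (CommRingCat.ofHom φ)))
    (hres : ∀ x : Spec (CommRingCat.of B),
      Function.Surjective ((Spec.map (CommRingCat.ofHom φ)).residueFieldMap x)) :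
    ∃ (J : Type u) (_ : SmallCategory J) (_ : IsFiltered J) (F : J ⥤ Under (CommRingCat.of A))
      (c : Limits.Cocone F) (_ : Limits.IsColimit c),
      (∀ j, (F.obj j).hom.hom.FinitePresentation ∧ FlatMor.IsUnivHomeo (Spec.map (F.obj j).hom) ∧
        ∀ x : Spec (F.obj j).right,
          Function.Surjective ((Spec.map (F.obj j).hom).residueFieldMap x)) ∧
      Nonempty (c.pt ≅ Under.mk (CommRingCat.ofHom φ)) := by
  letI := φ.toAlgebra
  have hφ' : IsUH φ := (isUH_iff φ).2 hφ
  have hres' : ResTriv φ := (resTriv_iff φ).2 hres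
  have h := ind_of_isUH (A := A) (B := B) hφ' (PUHres A) (PUHres_le A)
    (fun E _ ε w hfp huh hw => by
      refine ⟨hfp, (isUH_iff ε).1 huh, ?_⟩
      have hw' : w.comp ε = φ := hw
      have hwUH : IsUH w := IsUH.of_comp huh (by rw [hw']; exact hφ')
      exact (resTriv_iff ε).1
        (ResTriv.of_comp (ψ := w) hwUH.comap_bijective.2 (by rw [hw']; exact hres')))
  obtain ⟨J, hJ1, hJ2, pres, hp⟩ := h
  exact ⟨J, hJ1, hJ2, pres.diag, Cocone.mk _ pres.ι, pres.isColimit, hp, ⟨Iso.refl _⟩⟩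

end Groth.Agent.Helper7.UHRing
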