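import Groth.Agent.Helper7.UHTower2

set_option autoImplicit false
universe u
open AlgebraicGeometry CategoryTheory MorphismProperty

namespace Groth.Agent.Helper7.UHRing

open Groth.Agent.Helper7.UHStep Groth.Agent.Helper6.EtaSN Groth.Agent.Helper6.EtaSN2

variable {A B C : Type u} [CommRing A] [CommRing B] [CommRing C]

/-- Ring-level universal homeomorphisms. -/
def IsUH (φ : A →+* B) : Prop :=
  φ.IsIntegral ∧
    (∀ (K : Type u) [Field K] (h₁ h₂ : B →+* K), h₁.comp φ = h₂.comp φ → h₁ = h₂) ∧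
    ∀ a : A, φ a = 0 → IsNilpotent a

theorem isUH_iff (φ : A →+* B) :
    IsUH φ ↔ FlatMor.IsUnivHomeo (Spec.map (CommRingCat.ofHom φ)) := by
  constructor
  · rintro ⟨hint, hUI, hnil⟩
    haveI : IsIntegralHom (Spec.map (CommRingCat.ofHom φ)) := IsIntegralHom.SpecMap_iff.mpr hint
    haveI : UniversallyInjective (Spec.map (CommRingCat.ofHom φ)) :=
      (Groth.Agent.Helper6.EtaWN.universallyInjective_SpecMap_iff _).2 hUI
    haveI : Surjective (Spec.map (CommRingCat.ofHom φ)) := by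
      constructor
      intro 𝔭
      let _ := φ.toAlgebra
      have hint' : Algebra.IsIntegral A B := ⟨hint⟩
      have h𝔭 : 𝔭.asIdeal.IsPrime := 𝔭.2
      obtain ⟨Q, -, hQ, hQ'⟩ := Ideal.exists_ideal_over_prime_of_isIntegral 𝔭.asIdeal (⊥ : Ideal B)
        (by
          intro a ha
          rw [Ideal.mem_comap, Ideal.mem_bot] at ha
          obtain ⟨n, hn⟩ := hnil a ha
          exact h𝔭.mem_of_pow_mem n (hn ▸ 𝔭.asIdeal.zero_mem))
      exact ⟨⟨Q, hQ⟩, PrimeSpectrum.ext hQ'⟩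
    exact isUnivHomeo_of _
  · intro hU
    refine ⟨isIntegral_of_isUnivHomeo φ hU, ?_, isNilpotent_of_mem_ker_of_isUnivHomeo φ hU⟩
    exact (Groth.Agent.Helper6.EtaWN.universallyInjective_SpecMap_iff _).1
      (universallyInjective_of_isUnivHomeo hU)

theorem IsUH.comap_bijective {φ : A →+* B} (h : IsUH φ) :
    Function.Bijective (PrimeSpectrum.comap φ) :=
  (of_isUnivHomeo_SpecMap' φ ((isUH_iff φ).1 h)).1

theorem IsUH.comp {φ : A →+* B} {ψ : B →+* C} (hφ : IsUH φ) (hψ : IsUH ψ) : IsUH (ψ.comp φ) := by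
  refine ⟨hφ.1.trans _ _ hψ.1, ?_, ?_⟩
  · intro K _ h₁ h₂ h
    apply hψ.2.1
    apply hφ.2.1
    rw [RingHom.comp_assoc, RingHom.comp_assoc]
    exact h
  · intro a ha
    obtain ⟨n, hn⟩ := hψ.2.2 (φ a) ha
    obtain ⟨m, hm⟩ := hφ.2.2 (a ^ n) (by rw [map_pow, hn])
    exact ⟨n * m, by rw [pow_mul, hm]⟩

theorem IsUH.of_surjective {φ : A →+* B} (hs : Function.Surjective φ)
    (hnil : ∀ a : A, φ a = 0 → IsNilpotent a) : IsUH φ := by
  refine ⟨φ.isIntegral_of_surjective hs, ?_, hnil⟩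
  intro K _ h₁ h₂ h
  ext b
  obtain ⟨a, rfl⟩ := hs b
  exact RingHom.congr_fun h a

/-- Cancellation. -/
theorem IsUH.of_comp {φ : A →+* B} {ψ : B →+* C} (hφ : IsUH φ) (hψφ : IsUH (ψ.comp φ)) :
    IsUH ψ := by
  refine ⟨RingHom.IsIntegral.tower_top φ ψ hψφ.1, ?_, ?_⟩
  · intro K _ h₁ h₂ h
    apply hψφ.2.1
    rw [← RingHom.comp_assoc, ← RingHom.comp_assoc, h]
  · intro b hb
    rw [← mem_nilradical, nilradical_eq_sInf, Ideal.mem_sInf]
    intro Q hQ
    have hQ' : Q.IsPrime := hQ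
    obtain ⟨Q', hQ'eq⟩ := hψφ.comap_bijective.2 (PrimeSpectrum.comap φ ⟨Q, hQ⟩)
    have h1 : PrimeSpectrum.comap φ (PrimeSpectrum.comap ψ Q') = PrimeSpectrum.comap φ ⟨Q, hQ⟩ := by
      rw [← hQ'eq]
      rfl
    have h2 := hφ.comap_bijective.1 h1
    have h3 : Q = Q'.asIdeal.comap ψ := by
      have := congrArg PrimeSpectrum.asIdeal h2
      exact this.symm
    rw [h3, Ideal.mem_comap, hb]
    exact Q'.asIdeal.zero_mem

/-- Trivial residue field extensions, elementwise. -/
def ResTriv (φ : A →+* B) : Prop :=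
  ∀ (Q : Ideal B) [Q.IsPrime] (b : B), ∃ a t : A, t ∉ Q.comap φ ∧ φ t * b - φ a ∈ Q

theorem resTriv_iff_map_surjective (φ : A →+* B) :
    ResTriv φ ↔ ∀ (Q : Ideal B) [Q.IsPrime],
      Function.Surjective (Ideal.ResidueField.map (Q.comap φ) Q φ rfl) := by
  constructor
  · intro h Q _ z
    obtain ⟨b, s, hs, hz⟩ := exists_div_eq Q z
    obtain ⟨a, t, ht, hat⟩ := h Q b
    obtain ⟨a', t', ht', hat'⟩ := h Q s
    have key : ∀ (a t : A) (b : B), φ t * b - φ a ∈ Q →
        Ideal.ResidueField.map (Q.comap φ) Q φ rfl (algebraMap A _ t) *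
          algebraMap B Q.ResidueField b =
        Ideal.ResidueField.map (Q.comap φ) Q φ rfl (algebraMap A _ a) := by
      intro a t b hat
      rw [Ideal.ResidueField.map_algebraMap, Ideal.ResidueField.map_algebraMap, ← map_mul,
        ← sub_eq_zero, ← map_sub, Ideal.algebraMap_residueField_eq_zero]
      exact hat
    have e1 := key a t b hat
    have e2 := key a' t' s hat'
    have ht0 : algebraMap A (Q.comap φ).ResidueField t ≠ 0 := by
      rw [Ne, Ideal.algebraMap_residueField_eq_zero]; exact ht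
    have ht0' : algebraMap A (Q.comap φ).ResidueField t' ≠ 0 := by
      rw [Ne, Ideal.algebraMap_residueField_eq_zero]; exact ht'
    have hs0 : algebraMap B Q.ResidueField s ≠ 0 := by
      rw [Ne, Ideal.algebraMap_residueField_eq_zero]; exact hs
    generalize Ideal.ResidueField.map (Q.comap φ) Q φ rfl = ρ at e1 e2 ⊢
    generalize algebraMap A (Q.comap φ).ResidueField t = T at e1 ht0
    generalize algebraMap A (Q.comap φ).ResidueField t' = T' at e2 ht0'
    generalize algebraMap A (Q.comap φ).ResidueField a = a1 at e1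
    generalize algebraMap A (Q.comap φ).ResidueField a' = a1' at e2
    generalize algebraMap B Q.ResidueField b = b1 at e1 hz
    generalize algebraMap B Q.ResidueField s = s1 at e2 hz hs0
    have hρt : ρ T ≠ 0 := (map_ne_zero ρ).2 ht0
    have hρt' : ρ T' ≠ 0 := (map_ne_zero ρ).2 ht0'
    have ha0' : ρ a1' ≠ 0 := by
      rw [← e2]; exact mul_ne_zero hρt' hs0
    refine ⟨(a1 / T) / (a1' / T'), ?_⟩
    rw [map_div₀, map_div₀, map_div₀, ← e1, ← e2]
    have : z = b1 / s1 := by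
      rw [← hz]; field_simp
    rw [this]
    field_simp
  · intro h Q _ b
    obtain ⟨ℓ, n, a, t, hℓ, ht, hmem⟩ := exists_of_surjective φ Q (h Q) b
    rcases hℓ with rfl | ⟨-, hF, -⟩
    · exact ⟨a, t, ht, by simpa using hmem⟩
    · exact hF.elim

theorem resTriv_iff (φ : A →+* B) :
    ResTriv φ ↔ ∀ x : Spec (CommRingCat.of B),
      Function.Surjective ((Spec.map (CommRingCat.ofHom φ)).residueFieldMap x) := by
  rw [resTriv_iff_map_surjective]
  constructor
  · intro h x
    have hx : x.asIdeal.IsPrime := x.2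
    exact (Groth.Agent.Helper7.UHTower.residueFieldMap_surjective_iff φ x.asIdeal).2 (h x.asIdeal)
  · intro h Q hQ
    exact (Groth.Agent.Helper7.UHTower.residueFieldMap_surjective_iff φ Q).1 (h ⟨Q, hQ⟩)

/-- Trivial residue extensions descend along a map with surjective `Spec`. -/
theorem ResTriv.of_comp {φ : A →+* B} {ψ : B →+* C}
    (hs : Function.Surjective (PrimeSpectrum.comap ψ)) (h : ResTriv (ψ.comp φ)) : ResTriv φ := by
  intro Q hQ b
  obtain ⟨Q', hQ'⟩ := hs ⟨Q, hQ⟩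
  have hQeq : Q = Q'.asIdeal.comap ψ := by
    have := congrArg PrimeSpectrum.asIdeal hQ'
    exact this.symm
  have : Q'.asIdeal.IsPrime := Q'.2
  obtain ⟨a, t, ht, hat⟩ := h Q'.asIdeal (ψ b)
  refine ⟨a, t, ?_, ?_⟩
  · intro h'
    apply ht
    rw [hQeq] at h'
    exact h'
  · rw [hQeq, Ideal.mem_comap, map_sub, map_mul]
    exact hat

end Groth.Agent.Helper7.UHRing
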