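import Mathlib

set_option autoImplicit false
universe u

namespace Groth.Agent.Helper7.UHStep

/-- If `g ∉ R` but `g^n, g^(n+1) ∈ R`, some power `b` of `g` has `b ∉ R`, `b^2, b^3 ∈ R`. -/
theorem exists_sq_cube' {B : Type*} [CommRing B] (R : Subring B) {g : B} (hg : g ∉ R) {n : ℕ}
    (h1 : g ^ n ∈ R) (h2 : g ^ (n + 1) ∈ R) : ∃ b, b ∉ R ∧ b ^ 2 ∈ R ∧ b ^ 3 ∈ R := by
  have hn2 : 2 ≤ n := by
    by_contra h
    push Not at h
    interval_cases n
    · apply hg; simpa using h2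
    · apply hg; simpa using h1
  have hbig : ∀ m, n * n ≤ m → g ^ m ∈ R := by
    intro m hm
    have hnpos : 0 < n := by omega
    have hdiv : n ≤ m / n := by
      rw [Nat.le_div_iff_mul_le hnpos]; exact hm
    have hr : m % n < n := Nat.mod_lt _ hnpos
    have : m = (m / n - m % n) * n + (m % n) * (n + 1) := by
      have h3 := Nat.div_add_mod m n
      have h4 : m % n ≤ m / n := by omega
      zify [h4]
      have : (m : ℤ) = n * (m / n : ℕ) + (m % n : ℕ) := by exact_mod_cast h3.symm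
      push_cast at this ⊢
      linarith [this]
    rw [this, pow_add, mul_comm _ n, mul_comm _ (n + 1), pow_mul, pow_mul]
    exact R.mul_mem (R.pow_mem h1 _) (R.pow_mem h2 _)
  classical
  let S : Finset ℕ := (Finset.range (n * n)).filter (fun m => g ^ m ∉ R)
  have h1S : 1 ∈ S := by
    simp only [S, Finset.mem_filter, Finset.mem_range, pow_one]
    exact ⟨by nlinarith, hg⟩
  have hSne : S.Nonempty := ⟨1, h1S⟩
  let k := S.max' hSne
  have hkS : k ∈ S := S.max'_mem hSne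
  have hk1 : 1 ≤ k := S.le_max' 1 h1S
  have hkR : g ^ k ∉ R := (Finset.mem_filter.1 hkS).2
  have hgt : ∀ m, k < m → g ^ m ∈ R := by
    intro m hm
    by_cases hmn : n * n ≤ m
    · exact hbig m hmn
    · by_contra hmR
      have : m ∈ S := by
        simp only [S, Finset.mem_filter, Finset.mem_range]
        exact ⟨by omega, hmR⟩
      have := S.le_max' m this
      omega
  refine ⟨g ^ k, hkR, ?_, ?_⟩
  · rw [← pow_mul]; exact hgt _ (by omega)
  · rw [← pow_mul]; exact hgt _ (by omega)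


section Finite

variable (A B : Type*) [CommRing A] [CommRing B] [Algebra A B]

/-- The conductor of `B` into (the image of) `A`. -/
def conductor : Ideal A where
  carrier := {a | ∀ b : B, algebraMap A B a * b ∈ (algebraMap A B).range}
  add_mem' := by
    intro a a' ha ha' b
    rw [map_add, add_mul]
    exact Subring.add_mem _ (ha b) (ha' b)
  zero_mem' := by
    intro b
    simp
  smul_mem' := by
    intro c a ha b
    rw [smul_eq_mul, map_mul, mul_assoc]
    exact Subring.mul_mem _ ⟨c, rfl⟩ (ha b)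

variable {A B}

theorem mem_conductor {a : A} :
    a ∈ conductor A B ↔ ∀ b : B, algebraMap A B a * b ∈ (algebraMap A B).range := Iff.rfl

theorem map_conductor_mul_mem {x : B} (hx : x ∈ (conductor A B).map (algebraMap A B)) (b : B) :
    x * b ∈ (algebraMap A B).range := by
  induction hx using Submodule.span_induction generalizing b with
  | mem x hx =>
    obtain ⟨a, ha, rfl⟩ := hx
    exact ha b
  | zero => simp
  | add x y _ _ hx hy => rw [add_mul]; exact Subring.add_mem _ (hx b) (hy b)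
  | smul c x _ hx =>
    rw [smul_eq_mul, mul_comm c x, mul_assoc]
    exact hx (c * b)

theorem finite_step (hinj : Function.Injective (algebraMap A B))
    (hns : ¬ Function.Surjective (algebraMap A B)) [Module.Finite A B]
    (hcomap : ∀ (q q' : Ideal B) [q.IsPrime] [q'.IsPrime],
      q.comap (algebraMap A B) = q'.comap (algebraMap A B) → q = q')
    (Pℓ : ℕ → Prop)
    (hPI : ∀ (q : Ideal B) [q.IsPrime] (b : B), ∃ (ℓ n : ℕ) (a t : A),
      (ℓ = 1 ∨ (ℓ.Prime ∧ Pℓ ℓ ∧ (ℓ : B) ∈ q)) ∧ t ∉ q.comap (algebraMap A B) ∧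
        algebraMap A B t * b ^ (ℓ ^ n) - algebraMap A B a ∈ q) :
    (∃ b : B, b ∉ (algebraMap A B).range ∧ b ^ 2 ∈ (algebraMap A B).range ∧
        b ^ 3 ∈ (algebraMap A B).range) ∨
      ∃ (ℓ : ℕ) (b : B), ℓ.Prime ∧ Pℓ ℓ ∧ b ∉ (algebraMap A B).range ∧
        (ℓ : B) * b ∈ (algebraMap A B).range ∧ b ^ ℓ ∈ (algebraMap A B).range := by
  classical
  by_contra hcon
  rw [not_or] at hcon
  obtain ⟨hc1, hc2⟩ := hcon
  set R := (algebraMap A B).range with hR
  set I := conductor A B with hI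
  have hRalg : ∀ a : A, algebraMap A B a ∈ R := fun a => ⟨a, rfl⟩
  have hItop : I ≠ ⊤ := by
    intro h
    apply hns
    intro b
    have h1 : (1 : A) ∈ I := by rw [h]; trivial
    have := h1 b
    rw [map_one, one_mul] at this
    exact this
  obtain ⟨𝔭, h𝔭⟩ := Ideal.nonempty_minimalPrimes hItop
  have h𝔭prime : 𝔭.IsPrime := h𝔭.1.1
  have hI𝔭 : I ≤ 𝔭 := h𝔭.1.2
  have hker : RingHom.ker (algebraMap A B) ≤ 𝔭 := by
    rw [(RingHom.injective_iff_ker_eq_bot _).1 hinj]; exact bot_le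
  obtain ⟨q, -, hqprime, hq𝔭⟩ := Ideal.exists_ideal_over_prime_of_isIntegral 𝔭 (⊥ : Ideal B)
    (by rw [← RingHom.ker_eq_comap_bot]; exact hker)
  -- Claim 1
  have claim1 : ∀ f ∈ q, ∃ s, s ∉ 𝔭 ∧ ∃ n : ℕ,
      algebraMap A B s * f ^ (n + 1) ∈ I.map (algebraMap A B) := by
    intro f hf
    by_contra hno
    push Not at hno
    let T : Submonoid B :=
      { carrier := {x | ∃ s, s ∉ 𝔭 ∧ ∃ n : ℕ, x = algebraMap A B s * f ^ n}
        one_mem' := ⟨1, by rw [← Ideal.eq_top_iff_one]; exact h𝔭prime.ne_top, 0, by simp⟩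
        mul_mem' := by
          rintro x y ⟨s, hs, n, rfl⟩ ⟨s', hs', n', rfl⟩
          refine ⟨s * s', fun h => (h𝔭prime.mem_or_mem h).elim hs hs', n + n', ?_⟩
          rw [map_mul, pow_add]; ring }
    have hdisj : Disjoint ((I.map (algebraMap A B) : Ideal B) : Set B) (T : Set B) := by
      rw [Set.disjoint_left]
      rintro x hx ⟨s, hs, n, rfl⟩
      apply hno s hs n
      rw [pow_succ, ← mul_assoc]
      exact Ideal.mul_mem_right _ _ hx
    obtain ⟨Q, hQprime, hIQ, hQT⟩ := Ideal.exists_le_prime_disjoint _ T hdisj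
    have h1 : I ≤ Q.comap (algebraMap A B) := Ideal.map_le_iff_le_comap.1 hIQ
    have h2 : Q.comap (algebraMap A B) ≤ 𝔭 := by
      intro s hs
      by_contra hs𝔭
      rw [Set.disjoint_left] at hQT
      exact hQT (Ideal.mem_comap.1 hs) ⟨s, hs𝔭, 0, by simp⟩
    have h3 : 𝔭 ≤ Q.comap (algebraMap A B) := h𝔭.2 ⟨inferInstance, h1⟩ h2
    have h4 : Q = q := hcomap Q q ((le_antisymm h2 h3).trans hq𝔭.symm)
    rw [Set.disjoint_left] at hQT
    exact hQT (h4 ▸ hf) ⟨1, by rw [← Ideal.eq_top_iff_one]; exact h𝔭prime.ne_top, 1, by simp⟩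
  -- Claim (*)
  have star : ∀ f ∈ q, ∃ s, s ∉ 𝔭 ∧ algebraMap A B s * f ∈ R := by
    intro f hf
    obtain ⟨s, hs, n, hx⟩ := claim1 f hf
    refine ⟨s, hs, ?_⟩
    by_contra hg
    have e1 : (algebraMap A B s * f) ^ (n + 1) ∈ R := by
      have := map_conductor_mul_mem hx (algebraMap A B (s ^ n))
      convert this using 1
      rw [map_pow, mul_pow, pow_succ (algebraMap A B s)]; ring
    have e2 : (algebraMap A B s * f) ^ (n + 1 + 1) ∈ R := by
      have := map_conductor_mul_mem hx (algebraMap A B (s ^ (n + 1)) * f)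
      convert this using 1
      rw [map_pow, mul_pow, pow_succ (algebraMap A B s) (n + 1), pow_succ f (n + 1)]; ring
    exact hc1 (exists_sq_cube' R hg e1 e2)
  -- Claim 3
  have hgood : ∃ b1 : B, ∀ u, u ∉ 𝔭 → algebraMap A B u * b1 ∉ R := by
    by_contra hall
    push Not at hall
    choose u hu huR using hall
    obtain ⟨G, hG⟩ := (Module.Finite.fg_top : (⊤ : Submodule A B).FG)
    have hprod : ∏ b ∈ G, u b ∉ 𝔭 := by
      intro h
      obtain ⟨b, -, hb⟩ := (h𝔭prime.prod_mem_iff).1 h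
      exact hu b hb
    have hmem : ∏ b ∈ G, u b ∈ I := by
      intro b
      have hb : b ∈ Submodule.span A (G : Set B) := by rw [hG]; trivial
      induction hb using Submodule.span_induction with
      | mem x hx =>
        rw [← Finset.mul_prod_erase G u hx, map_mul, mul_comm (algebraMap A B (u x)), mul_assoc]
        exact R.mul_mem (hRalg _) (huR x)
      | zero => simp
      | add x y _ _ hx hy => rw [mul_add]; exact R.add_mem hx hy
      | smul c x _ hx =>
        rw [Algebra.smul_def, mul_left_comm]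
        exact R.mul_mem (hRalg _) hx
    exact hprod (hI𝔭 hmem)
  obtain ⟨b1, hb1⟩ := hgood
  obtain ⟨ℓ, n, a, t, hℓ, ht, hmem⟩ := hPI q b1
  rw [hq𝔭] at ht
  have hP : ∃ n : ℕ, ∃ u, u ∉ 𝔭 ∧ algebraMap A B u * b1 ^ (ℓ ^ n) ∈ R := by
    obtain ⟨s, hs, hsR⟩ := star _ hmem
    refine ⟨n, s * t, fun h => (h𝔭prime.mem_or_mem h).elim hs ht, ?_⟩
    have : algebraMap A B (s * t) * b1 ^ (ℓ ^ n) =
        algebraMap A B s * (algebraMap A B t * b1 ^ ℓ ^ n - algebraMap A B a) +
          algebraMap A B (s * a) := by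
      rw [map_mul, map_mul]; ring
    rw [this]
    exact R.add_mem hsR (hRalg _)
  rcases hℓ with hℓ1 | ⟨hℓp, hPℓ, hℓq⟩
  · obtain ⟨m, u, hu, huR⟩ := hP
    rw [hℓ1, one_pow, pow_one] at huR
    exact hb1 u hu huR
  · let m := Nat.find hP
    have hm : ∃ u, u ∉ 𝔭 ∧ algebraMap A B u * b1 ^ (ℓ ^ m) ∈ R := Nat.find_spec hP
    have hm0 : m ≠ 0 := by
      intro h0
      obtain ⟨u, hu, huR⟩ := hm
      rw [h0, pow_zero, pow_one] at huR
      exact hb1 u hu huR
    obtain ⟨m', hm'⟩ := Nat.exists_eq_succ_of_ne_zero hm0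
    have hmin : ¬ ∃ u, u ∉ 𝔭 ∧ algebraMap A B u * b1 ^ (ℓ ^ m') ∈ R :=
      Nat.find_min hP (by omega)
    push Not at hmin
    obtain ⟨u, hu, huR⟩ := hm
    rw [hm', pow_succ, pow_mul] at huR
    set b2 := b1 ^ (ℓ ^ m') with hb2
    have hℓb2 : (ℓ : B) * b2 ∈ q := Ideal.mul_mem_right _ _ hℓq
    obtain ⟨s', hs', hs'R⟩ := star _ hℓb2
    have hus' : u * s' ∉ 𝔭 := fun h => (h𝔭prime.mem_or_mem h).elim hu hs'
    refine hc2 ⟨ℓ, algebraMap A B (u * s') * b2, hℓp, hPℓ, hmin _ hus', ?_, ?_⟩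
    · have : (ℓ : B) * (algebraMap A B (u * s') * b2) =
          algebraMap A B u * (algebraMap A B s' * ((ℓ : B) * b2)) := by
        rw [map_mul]; ring
      rw [this]
      exact R.mul_mem (hRalg _) hs'R
    · have hℓ1 : 1 ≤ ℓ := hℓp.one_lt.le
      have : (algebraMap A B (u * s') * b2) ^ ℓ =
          algebraMap A B (u ^ (ℓ - 1) * s' ^ ℓ) * (algebraMap A B u * b2 ^ ℓ) := by
        rw [mul_pow, ← map_pow, mul_pow]
        conv_lhs => rw [← Nat.sub_add_cancel hℓ1, pow_succ u]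
        rw [Nat.sub_add_cancel hℓ1]
        simp only [map_mul, map_pow]
        ring
      rw [this]
      exact R.mul_mem (hRalg _) huR

end Finite

section Integral

variable {A B : Type*} [CommRing A] [CommRing B] [Algebra A B]

theorem integral_step (hinj : Function.Injective (algebraMap A B))
    (hns : ¬ Function.Surjective (algebraMap A B)) [Algebra.IsIntegral A B]
    (hcomap : ∀ (q q' : Ideal B) [q.IsPrime] [q'.IsPrime],
      q.comap (algebraMap A B) = q'.comap (algebraMap A B) → q = q')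
    (Pℓ : ℕ → Prop)
    (hPI : ∀ (q : Ideal B) [q.IsPrime] (b : B), ∃ (ℓ n : ℕ) (a t : A),
      (ℓ = 1 ∨ (ℓ.Prime ∧ Pℓ ℓ ∧ (ℓ : B) ∈ q)) ∧ t ∉ q.comap (algebraMap A B) ∧
        algebraMap A B t * b ^ (ℓ ^ n) - algebraMap A B a ∈ q) :
    (∃ b : B, b ∉ (algebraMap A B).range ∧ b ^ 2 ∈ (algebraMap A B).range ∧
        b ^ 3 ∈ (algebraMap A B).range) ∨
      ∃ (ℓ : ℕ) (b : B), ℓ.Prime ∧ Pℓ ℓ ∧ b ∉ (algebraMap A B).range ∧
        (ℓ : B) * b ∈ (algebraMap A B).range ∧ b ^ ℓ ∈ (algebraMap A B).range := by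
  classical
  have hns' : ∃ b0 : B, b0 ∉ (algebraMap A B).range := by
    by_contra h
    push Not at h
    exact hns fun b => h b
  obtain ⟨b0, hb0⟩ := hns'
  let C : Subalgebra A B := Algebra.adjoin A {b0}
  have hfin : Module.Finite A C :=
    Module.Finite.iff_fg.2 (Algebra.IsIntegral.isIntegral b0).fg_adjoin_singleton
  have hval : ∀ a : A, ((algebraMap A C a : C) : B) = algebraMap A B a := fun a => rfl
  have hinjC : Function.Injective (algebraMap A C) := by
    intro a a' h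
    apply hinj
    rw [← hval, ← hval, h]
  have hnsC : ¬ Function.Surjective (algebraMap A C) := by
    intro h
    obtain ⟨a, ha⟩ := h ⟨b0, Algebra.subset_adjoin rfl⟩
    apply hb0
    exact ⟨a, by rw [← hval, ha]⟩
  have hintCB : Algebra.IsIntegral C B := Algebra.IsIntegral.tower_top (R := A)
  have hkerC : RingHom.ker (algebraMap C B) = ⊥ :=
    (RingHom.injective_iff_ker_eq_bot _).1 Subtype.val_injective
  have hlift : ∀ (q : Ideal C) [q.IsPrime], ∃ Q : Ideal B, Q.IsPrime ∧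
      Q.comap (algebraMap C B) = q := by
    intro q _
    obtain ⟨Q, -, hQ, hQq⟩ := Ideal.exists_ideal_over_prime_of_isIntegral q (⊥ : Ideal B)
      (by rw [← RingHom.ker_eq_comap_bot, hkerC]; exact bot_le)
    exact ⟨Q, hQ, hQq⟩
  have hcc : ∀ Q : Ideal B, (Q.comap (algebraMap C B)).comap (algebraMap A C) =
      Q.comap (algebraMap A B) := by
    intro Q
    rw [Ideal.comap_comap]
    rfl
  have hcomapC : ∀ (q q' : Ideal C) [q.IsPrime] [q'.IsPrime],
      q.comap (algebraMap A C) = q'.comap (algebraMap A C) → q = q' := by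
    intro q q' _ _ h
    obtain ⟨Q, hQ, hQq⟩ := hlift q
    obtain ⟨Q', hQ', hQq'⟩ := hlift q'
    have : Q = Q' := by
      apply hcomap
      rw [← hcc, ← hcc, hQq, hQq', h]
    rw [← hQq, ← hQq', this]
  have hPIC : ∀ (q : Ideal C) [q.IsPrime] (c : C), ∃ (ℓ n : ℕ) (a t : A),
      (ℓ = 1 ∨ (ℓ.Prime ∧ Pℓ ℓ ∧ (ℓ : C) ∈ q)) ∧ t ∉ q.comap (algebraMap A C) ∧
        algebraMap A C t * c ^ (ℓ ^ n) - algebraMap A C a ∈ q := by
    intro q _ c
    obtain ⟨Q, hQ, hQq⟩ := hlift q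
    obtain ⟨ℓ, n, a, t, hℓ, ht, hmem⟩ := hPI Q (c : B)
    refine ⟨ℓ, n, a, t, ?_, ?_, ?_⟩
    · rcases hℓ with h1 | ⟨h1, h2, h3⟩
      · exact Or.inl h1
      · refine Or.inr ⟨h1, h2, ?_⟩
        rw [← hQq, Ideal.mem_comap]
        simpa using h3
    · rw [← hQq, hcc]
      exact ht
    · rw [← hQq, Ideal.mem_comap]
      simpa using hmem
  rcases finite_step hinjC hnsC hcomapC Pℓ hPIC with ⟨c, hc, hc2, hc3⟩ | ⟨ℓ, c, hℓ, hPℓ, hc, hc2, hc3⟩
  · left
    refine ⟨(c : B), ?_, ?_, ?_⟩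
    · rintro ⟨a, ha⟩
      exact hc ⟨a, Subtype.ext ha⟩
    · obtain ⟨a, ha⟩ := hc2
      exact ⟨a, by rw [← hval, ha]; rfl⟩
    · obtain ⟨a, ha⟩ := hc3
      exact ⟨a, by rw [← hval, ha]; rfl⟩
  · right
    refine ⟨ℓ, (c : B), hℓ, hPℓ, ?_, ?_, ?_⟩
    · rintro ⟨a, ha⟩
      exact hc ⟨a, Subtype.ext ha⟩
    · obtain ⟨a, ha⟩ := hc2
      exact ⟨a, by rw [← hval, ha]; simp⟩
    · obtain ⟨a, ha⟩ := hc3
      exact ⟨a, by rw [← hval, ha]; rfl⟩

end Integral

end Groth.Agent.Helper7.UHStep
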