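import Groth.Agent.Helper7.UHStep2
import Groth.Agent.Helper6.EtaSN2

set_option autoImplicit false
universe u
open AlgebraicGeometry CategoryTheory MorphismProperty

namespace Groth.Agent.Helper7.UHStep

open Groth.Agent.Helper6.EtaSN Groth.Agent.Helper6.EtaSN2

theorem isIntegral_of_isUnivHomeo {A B : Type u} [CommRing A] [CommRing B] (φ : A →+* B)
    (h1 : FlatMor.IsUnivHomeo (Spec.map (CommRingCat.ofHom φ))) : φ.IsIntegral := by
  have huc : UniversallyClosed (Spec.map (CommRingCat.ofHom φ)) :=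
    ⟨fun X' Y' i₁ i₂ f' H => (h1 i₁ i₂ f' H).isClosedMap⟩
  have : IsIntegralHom (Spec.map (CommRingCat.ofHom φ)) :=
    IsIntegralHom.iff_universallyClosed_and_isAffineHom.mpr ⟨huc, inferInstance⟩
  exact IsIntegralHom.SpecMap_iff.mp this

/-- Elements of the residue field of a prime are fractions. -/
theorem exists_div_eq {A : Type*} [CommRing A] (𝔭 : Ideal A) [𝔭.IsPrime] (y : 𝔭.ResidueField) :
    ∃ a t : A, t ∉ 𝔭 ∧ y * algebraMap A 𝔭.ResidueField t = algebraMap A 𝔭.ResidueField a := by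
  obtain ⟨x, s, hs, rfl⟩ := IsFractionRing.div_surjective (A := A ⧸ 𝔭) y
  obtain ⟨a, rfl⟩ := Ideal.Quotient.mk_surjective x
  obtain ⟨t, rfl⟩ := Ideal.Quotient.mk_surjective s
  have ht : t ∉ 𝔭 := by
    intro h
    have : Ideal.Quotient.mk 𝔭 t = 0 := Ideal.Quotient.eq_zero_iff_mem.2 h
    rw [this] at hs
    exact zero_notMem_nonZeroDivisors hs
  refine ⟨a, t, ht, ?_⟩
  have h1 : algebraMap (A ⧸ 𝔭) 𝔭.ResidueField (Ideal.Quotient.mk 𝔭 t) =
      algebraMap A 𝔭.ResidueField t := (IsScalarTower.algebraMap_apply A (A ⧸ 𝔭) _ t).symm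
  have h2 : algebraMap (A ⧸ 𝔭) 𝔭.ResidueField (Ideal.Quotient.mk 𝔭 a) =
      algebraMap A 𝔭.ResidueField a := (IsScalarTower.algebraMap_apply A (A ⧸ 𝔭) _ a).symm
  rw [h1, h2]
  have hne : algebraMap A 𝔭.ResidueField t ≠ 0 := by
    rw [Ne, Ideal.algebraMap_residueField_eq_zero]
    exact ht
  field_simp

theorem exists_of_isPurelyInseparable {A B : Type u} [CommRing A] [CommRing B] (φ : A →+* B)
    (Q : Ideal B) [Q.IsPrime]
    (hρ : (Ideal.ResidueField.map (Q.comap φ) Q φ rfl).IsPurelyInseparable) (b : B) :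
    ∃ (ℓ n : ℕ) (a t : A), (ℓ = 1 ∨ (ℓ.Prime ∧ True ∧ (ℓ : B) ∈ Q)) ∧ t ∉ Q.comap φ ∧
      φ t * b ^ (ℓ ^ n) - φ a ∈ Q := by
  set 𝔭 := Q.comap φ with h𝔭
  set ρ := Ideal.ResidueField.map 𝔭 Q φ rfl with hρdef
  obtain ⟨ℓ, hexp⟩ : ∃ ℓ, ExpChar 𝔭.ResidueField ℓ := ⟨ringExpChar 𝔭.ResidueField, inferInstance⟩
  unfold RingHom.IsPurelyInseparable at hρ
  let _ := ρ.toAlgebra
  obtain ⟨n, y, hy⟩ := IsPurelyInseparable.pow_mem 𝔭.ResidueField ℓ (algebraMap B Q.ResidueField b)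
  obtain ⟨a, t, ht, hat⟩ := exists_div_eq 𝔭 y
  refine ⟨ℓ, n, a, t, ?_, ht, ?_⟩
  · rcases expChar_is_prime_or_one 𝔭.ResidueField ℓ with hprime | h1
    · refine Or.inr ⟨hprime, trivial, ?_⟩
      rw [← Ideal.algebraMap_residueField_eq_zero, map_natCast]
      have hchar : CharP 𝔭.ResidueField ℓ := by
        cases hexp with
        | zero => exact absurd hprime Nat.not_prime_one
        | prime hp => infer_instance
      have h0 : ((ℓ : ℕ) : 𝔭.ResidueField) = 0 := CharP.cast_eq_zero _ _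
      have := congrArg ρ h0
      rw [map_natCast, map_zero] at this
      exact this
    · exact Or.inl h1
  · rw [← Ideal.algebraMap_residueField_eq_zero, map_sub, map_mul, map_pow, sub_eq_zero]
    have hy' : ρ y = algebraMap B Q.ResidueField b ^ ℓ ^ n := hy
    rw [← hy', ← Ideal.ResidueField.map_algebraMap 𝔭 Q φ rfl t,
      ← Ideal.ResidueField.map_algebraMap 𝔭 Q φ rfl a, ← hat, map_mul, mul_comm]

theorem exists_of_surjective {A B : Type u} [CommRing A] [CommRing B] (φ : A →+* B)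
    (Q : Ideal B) [Q.IsPrime]
    (hρ : Function.Surjective (Ideal.ResidueField.map (Q.comap φ) Q φ rfl)) (b : B) :
    ∃ (ℓ n : ℕ) (a t : A), (ℓ = 1 ∨ (ℓ.Prime ∧ False ∧ (ℓ : B) ∈ Q)) ∧ t ∉ Q.comap φ ∧
      φ t * b ^ (ℓ ^ n) - φ a ∈ Q := by
  set 𝔭 := Q.comap φ with h𝔭
  obtain ⟨y, hy⟩ := hρ (algebraMap B Q.ResidueField b)
  obtain ⟨a, t, ht, hat⟩ := exists_div_eq 𝔭 y
  refine ⟨1, 0, a, t, Or.inl rfl, ht, ?_⟩
  rw [pow_zero, pow_one, ← Ideal.algebraMap_residueField_eq_zero, map_sub, map_mul, sub_eq_zero,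
    ← hy, ← Ideal.ResidueField.map_algebraMap 𝔭 Q φ rfl t,
    ← Ideal.ResidueField.map_algebraMap 𝔭 Q φ rfl a, ← hat, map_mul, mul_comm]

theorem step_of_isUnivHomeo {A B : Type u} [CommRing A] [CommRing B]
    (φ : A →+* B) (hinj : Function.Injective φ) (hns : ¬ Function.Surjective φ)
    (hU : FlatMor.IsUnivHomeo (Spec.map (CommRingCat.ofHom φ))) :
    (∃ b : B, b ∉ φ.range ∧ b ^ 2 ∈ φ.range ∧ b ^ 3 ∈ φ.range) ∨
      ∃ (p : ℕ) (b : B), p.Prime ∧ b ∉ φ.range ∧ (p : B) * b ∈ φ.range ∧ b ^ p ∈ φ.range := by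
  let _ := φ.toAlgebra
  have hint : Algebra.IsIntegral A B := ⟨isIntegral_of_isUnivHomeo φ hU⟩
  obtain ⟨hbij, hres⟩ := of_isUnivHomeo_SpecMap' φ hU
  have hcomap : ∀ (q q' : Ideal B) [q.IsPrime] [q'.IsPrime],
      q.comap (algebraMap A B) = q'.comap (algebraMap A B) → q = q' := by
    intro q q' hq hq' h
    have := hbij.1 (a₁ := ⟨q, hq⟩) (a₂ := ⟨q', hq'⟩) (PrimeSpectrum.ext h)
    exact congrArg PrimeSpectrum.asIdeal this
  have hPI : ∀ (q : Ideal B) [q.IsPrime] (b : B), ∃ (ℓ n : ℕ) (a t : A),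
      (ℓ = 1 ∨ (ℓ.Prime ∧ True ∧ (ℓ : B) ∈ q)) ∧ t ∉ q.comap (algebraMap A B) ∧
        algebraMap A B t * b ^ (ℓ ^ n) - algebraMap A B a ∈ q := by
    intro q hq b
    exact exists_of_isPurelyInseparable φ q (hres ⟨q, hq⟩) b
  rcases integral_step hinj hns hcomap (fun _ => True) hPI with h | ⟨ℓ, b, h1, -, h2, h3, h4⟩
  · exact Or.inl h
  · exact Or.inr ⟨ℓ, b, h1, h2, h3, h4⟩

set_option backward.isDefEq.respectTransparency.types false in
theorem step_of_isUnivHomeo_of_residue {A B : Type u} [CommRing A] [CommRing B]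
    (φ : A →+* B) (hinj : Function.Injective φ) (hns : ¬ Function.Surjective φ)
    (hU : FlatMor.IsUnivHomeo (Spec.map (CommRingCat.ofHom φ)))
    (hres : ∀ x : Spec (CommRingCat.of B),
      Function.Surjective ((Spec.map (CommRingCat.ofHom φ)).residueFieldMap x)) :
    ∃ b : B, b ∉ φ.range ∧ b ^ 2 ∈ φ.range ∧ b ^ 3 ∈ φ.range := by
  let _ := φ.toAlgebra
  have hint : Algebra.IsIntegral A B := ⟨isIntegral_of_isUnivHomeo φ hU⟩
  obtain ⟨hbij, -⟩ := of_isUnivHomeo_SpecMap' φ hU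
  have hcomap : ∀ (q q' : Ideal B) [q.IsPrime] [q'.IsPrime],
      q.comap (algebraMap A B) = q'.comap (algebraMap A B) → q = q' := by
    intro q q' hq hq' h
    have := hbij.1 (a₁ := ⟨q, hq⟩) (a₂ := ⟨q', hq'⟩) (PrimeSpectrum.ext h)
    exact congrArg PrimeSpectrum.asIdeal this
  have hPI : ∀ (q : Ideal B) [q.IsPrime] (b : B), ∃ (ℓ n : ℕ) (a t : A),
      (ℓ = 1 ∨ (ℓ.Prime ∧ False ∧ (ℓ : B) ∈ q)) ∧ t ∉ q.comap (algebraMap A B) ∧
        algebraMap A B t * b ^ (ℓ ^ n) - algebraMap A B a ∈ q := by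
    intro q hq b
    refine exists_of_surjective φ q ?_ b
    have hθ := residueFieldMap_conj φ ⟨q, hq⟩
    have hθ' : ∀ z, Ideal.ResidueField.map (q.comap φ) q φ rfl z =
        ((Scheme.Spec.residueFieldIso (.of A) ((Spec.map (CommRingCat.ofHom φ)) ⟨q, hq⟩)).inv ≫
          (Spec.map (CommRingCat.ofHom φ)).residueFieldMap ⟨q, hq⟩ ≫
            (Scheme.Spec.residueFieldIso (.of B) ⟨q, hq⟩).hom).hom z := by
      intro z
      rw [hθ]
      rfl
    intro z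
    obtain ⟨z1, hz1⟩ := ((ConcreteCategory.isIso_iff_bijective
      (Scheme.Spec.residueFieldIso (.of B) ⟨q, hq⟩).hom).mp inferInstance).2 z
    obtain ⟨z2, hz2⟩ := hres ⟨q, hq⟩ z1
    obtain ⟨z3, hz3⟩ := ((ConcreteCategory.isIso_iff_bijective
      (Scheme.Spec.residueFieldIso (.of A) ((Spec.map (CommRingCat.ofHom φ)) ⟨q, hq⟩)).inv).mp
        inferInstance).2 z2
    refine ⟨z3, ?_⟩
    rw [hθ']
    simp only [CommRingCat.hom_comp, RingHom.comp_apply]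
    erw [hz3, hz2, hz1]
  rcases integral_step hinj hns hcomap (fun _ => False) hPI with h | ⟨ℓ, b, -, h0, -⟩
  · exact h
  · exact h0.elim

end Groth.Agent.Helper7.UHStep
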