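import Mathlib

set_option autoImplicit false
universe u

namespace Groth.Agent.Helper7.UHTower

variable {A B : Type*} [CommRing A] [CommRing B] [Algebra A B]

/-- A step predicate, monotone in the subalgebra. -/
structure StepPred (A B : Type*) [CommRing A] [CommRing B] [Algebra A B] where
  S : Subalgebra A B → B → Prop
  mono : ∀ {C C' : Subalgebra A B}, C ≤ C' → ∀ b, S C b → S C' b

/-- The sq-cube step. -/
def sqCube (A B : Type*) [CommRing A] [CommRing B] [Algebra A B] : StepPred A B where
  S C b := b ^ 2 ∈ C ∧ b ^ 3 ∈ C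
  mono h _ hb := ⟨h hb.1, h hb.2⟩

/-- The sq-cube or prime step. -/
def sqCubeOrPrime (A B : Type*) [CommRing A] [CommRing B] [Algebra A B] : StepPred A B where
  S C b := (b ^ 2 ∈ C ∧ b ^ 3 ∈ C) ∨ ∃ p : ℕ, p.Prime ∧ (p : B) * b ∈ C ∧ b ^ p ∈ C
  mono h _ hb := by
    rcases hb with hb | ⟨p, hp, h1, h2⟩
    · exact Or.inl ⟨h hb.1, h hb.2⟩
    · exact Or.inr ⟨p, hp, h h1, h h2⟩

variable (P : StepPred A B)

/-- Towers of steps. -/
def IsTower (l : List B) : Prop :=
  ∀ (n : ℕ) (h : n < l.length), P.S (Algebra.adjoin A {b | b ∈ l.take n}) (l[n])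

theorem isTower_nil : IsTower P ([] : List B) := by
  intro n h
  simp at h

theorem isTower_append {l₁ l₂ : List B} (h₁ : IsTower P l₁) (h₂ : IsTower P l₂) :
    IsTower P (l₁ ++ l₂) := by
  intro n h
  by_cases hn : n < l₁.length
  · have e1 : (l₁ ++ l₂).take n = l₁.take n := by
      rw [List.take_append_of_le_length hn.le]
    have e2 : (l₁ ++ l₂)[n] = l₁[n] := List.getElem_append_left hn
    rw [e1, e2]
    exact h₁ n hn
  · push Not at hn
    have hm : n - l₁.length < l₂.length := by
      rw [List.length_append] at h; omega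
    have e2 : (l₁ ++ l₂)[n] = l₂[n - l₁.length] := List.getElem_append_right hn
    rw [e2]
    refine P.mono ?_ _ (h₂ (n - l₁.length) hm)
    apply Algebra.adjoin_mono
    intro b hb
    simp only [Set.mem_setOf_eq] at hb ⊢
    rw [List.take_append]
    exact List.mem_append_right _ hb

theorem isTower_concat {l : List B} (h : IsTower P l) {b : B}
    (hb : P.S (Algebra.adjoin A {x | x ∈ l}) b) : IsTower P (l ++ [b]) := by
  intro n hn
  by_cases hn' : n < l.length
  · have e1 : (l ++ [b]).take n = l.take n := by
      rw [List.take_append_of_le_length hn'.le]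
    have e2 : (l ++ [b])[n] = l[n] := List.getElem_append_left hn'
    rw [e1, e2]
    exact h n hn'
  · push Not at hn'
    have hnl : n = l.length := by
      rw [List.length_append, List.length_singleton] at hn; omega
    subst hnl
    have e1 : (l ++ [b]).take l.length = l := by simp
    have e2 : (l ++ [b])[l.length] = b := by simp
    rw [e1, e2]
    exact hb

/-- The union of all tower algebras. -/
def towerClosure : Subalgebra A B where
  carrier := {b | ∃ l : List B, IsTower P l ∧ b ∈ Algebra.adjoin A {x | x ∈ l}}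
  mul_mem' := by
    rintro b b' ⟨l, hl, hb⟩ ⟨l', hl', hb'⟩
    refine ⟨l ++ l', isTower_append P hl hl', ?_⟩
    refine Subalgebra.mul_mem _ ?_ ?_
    · exact Algebra.adjoin_mono (fun x hx => List.mem_append_left _ hx) hb
    · exact Algebra.adjoin_mono (fun x hx => List.mem_append_right _ hx) hb'
  add_mem' := by
    rintro b b' ⟨l, hl, hb⟩ ⟨l', hl', hb'⟩
    refine ⟨l ++ l', isTower_append P hl hl', ?_⟩
    refine Subalgebra.add_mem _ ?_ ?_
    · exact Algebra.adjoin_mono (fun x hx => List.mem_append_left _ hx) hb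
    · exact Algebra.adjoin_mono (fun x hx => List.mem_append_right _ hx) hb'
  algebraMap_mem' := by
    intro a
    exact ⟨[], isTower_nil P, Subalgebra.algebraMap_mem _ a⟩

theorem mem_towerClosure {b : B} :
    b ∈ towerClosure P ↔ ∃ l : List B, IsTower P l ∧ b ∈ Algebra.adjoin A {x | x ∈ l} := Iff.rfl

/-- Finitely many elements of the tower closure lie in one tower algebra. -/
theorem exists_tower_of_finset (E : Finset B) (hE : ∀ e ∈ E, e ∈ towerClosure P) :
    ∃ l : List B, IsTower P l ∧ (↑E : Set B) ⊆ Algebra.adjoin A {x | x ∈ l} := by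
  classical
  induction E using Finset.induction_on with
  | empty => exact ⟨[], isTower_nil P, by simp⟩
  | insert e E _ ih =>
    obtain ⟨l, hl, hlE⟩ := ih (fun x hx => hE x (Finset.mem_insert_of_mem hx))
    obtain ⟨l', hl', he⟩ := hE e (Finset.mem_insert_self e E)
    refine ⟨l ++ l', isTower_append P hl hl', ?_⟩
    intro x hx
    rw [Finset.coe_insert, Set.mem_insert_iff] at hx
    rcases hx with rfl | hx
    · exact Algebra.adjoin_mono (fun x hx => List.mem_append_right _ hx) he
    · exact Algebra.adjoin_mono (fun x hx => List.mem_append_left _ hx) (hlE hx)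

/-- The set of earlier entries, in the form of the statements. -/
theorem prev_eq (l : List B) (i : Fin l.length) :
    {b : B | ∃ j : Fin l.length, j < i ∧ b = l.get j} = {b | b ∈ l.take i} := by
  ext b
  simp only [Set.mem_setOf_eq, List.mem_take_iff_getElem]
  constructor
  · rintro ⟨j, hj, rfl⟩
    exact ⟨j, by simp only [lt_min_iff]; exact ⟨hj, j.2⟩, rfl⟩
  · rintro ⟨j, hj, rfl⟩
    rw [lt_min_iff] at hj
    exact ⟨⟨j, hj.2⟩, hj.1, rfl⟩

theorem isTower_iff (l : List B) :
    IsTower P l ↔ ∀ i : Fin l.length,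
      P.S (Algebra.adjoin A {b : B | ∃ j : Fin l.length, j < i ∧ b = l.get j}) (l.get i) := by
  constructor
  · intro h i
    rw [prev_eq]
    exact h i i.2
  · intro h n hn
    have := h ⟨n, hn⟩
    rw [prev_eq] at this
    exact this

end Groth.Agent.Helper7.UHTower
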