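import Groth.Agent.Helper7.UHTower
import Groth.Agent.Helper7.UHStep4
import Groth.Agent.Helper5.UnivHomeo1
import Groth.Agent.Helper6.EtaWN

set_option autoImplicit false
universe u
open AlgebraicGeometry CategoryTheory MorphismProperty

namespace Groth.Agent.Helper7.UHTower

section Alg

variable {A B : Type*} [CommRing A] [CommRing B] [Algebra A B] (P : StepPred A B)

/-- Induction principle along towers. -/
theorem adjoin_le_of_tower {l : List B} (hl : IsTower P l) (C : Subalgebra A B)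
    (hC : ∀ (D : Subalgebra A B) (b : B), D ≤ C → P.S D b → b ∈ C) :
    Algebra.adjoin A {x | x ∈ l} ≤ C := by
  have key : ∀ n, n ≤ l.length → ∀ x ∈ l.take n, x ∈ C := by
    intro n
    induction n with
    | zero => intro _ x hx; simp at hx
    | succ n ih =>
      intro hn x hx
      have hn' : n < l.length := hn
      rw [List.take_succ_eq_append_getElem hn', List.mem_append, List.mem_singleton] at hx
      rcases hx with hx | rfl
      · exact ih hn'.le x hx
      · apply hC _ _ _ (hl n hn')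
        exact Algebra.adjoin_le (fun x hx => ih hn'.le x hx)
  apply Algebra.adjoin_le
  intro x hx
  apply key l.length le_rfl
  rwa [List.take_length]

theorem towerClosure_le (C : Subalgebra A B)
    (hC : ∀ (D : Subalgebra A B) (b : B), D ≤ C → P.S D b → b ∈ C) :
    towerClosure P ≤ C := by
  rintro b ⟨l, hl, hb⟩
  exact adjoin_le_of_tower P hl C hC hb

theorem mem_towerClosure_of_step {l : List B} (hl : IsTower P l) {b : B}
    (hb : P.S (Algebra.adjoin A {x | x ∈ l}) b) : b ∈ towerClosure P :=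
  ⟨l ++ [b], isTower_concat P hl hb, Algebra.subset_adjoin (by simp)⟩

theorem isTower_of_imp {P P' : StepPred A B} (h : ∀ D b, P.S D b → P'.S D b) {l : List B}
    (hl : IsTower P l) : IsTower P' l :=
  fun n hn => h _ _ (hl n hn)

theorem towerClosure_eq_top_iff :
    towerClosure P = ⊤ ↔
      ∀ E : Finset B, ∃ l : List B, (↑E : Set B) ⊆ Algebra.adjoin A {b : B | b ∈ l} ∧
        ∀ i : Fin l.length,
          P.S (Algebra.adjoin A {b : B | ∃ j : Fin l.length, j < i ∧ b = l.get j}) (l.get i) := by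
  constructor
  · intro h E
    obtain ⟨l, hl, hE⟩ := exists_tower_of_finset P E (fun e _ => by rw [h]; trivial)
    exact ⟨l, hE, (isTower_iff P l).1 hl⟩
  · intro h
    rw [eq_top_iff]
    intro b _
    obtain ⟨l, hE, hl⟩ := h {b}
    exact ⟨l, (isTower_iff P l).2 hl, hE (by simp)⟩

theorem sqCube_closed {b : B} (h2 : b ^ 2 ∈ towerClosure (sqCube A B))
    (h3 : b ^ 3 ∈ towerClosure (sqCube A B)) : b ∈ towerClosure (sqCube A B) := by
  obtain ⟨l₁, hl₁, hb₁⟩ := h2
  obtain ⟨l₂, hl₂, hb₂⟩ := h3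
  refine mem_towerClosure_of_step _ (isTower_append _ hl₁ hl₂) ⟨?_, ?_⟩
  · exact Algebra.adjoin_mono (fun x hx => List.mem_append_left _ hx) hb₁
  · exact Algebra.adjoin_mono (fun x hx => List.mem_append_right _ hx) hb₂

theorem sqCubeOrPrime_closed {b : B} (h2 : b ^ 2 ∈ towerClosure (sqCubeOrPrime A B))
    (h3 : b ^ 3 ∈ towerClosure (sqCubeOrPrime A B)) : b ∈ towerClosure (sqCubeOrPrime A B) := by
  obtain ⟨l₁, hl₁, hb₁⟩ := h2
  obtain ⟨l₂, hl₂, hb₂⟩ := h3
  refine mem_towerClosure_of_step _ (isTower_append _ hl₁ hl₂) (Or.inl ⟨?_, ?_⟩)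
  · exact Algebra.adjoin_mono (fun x hx => List.mem_append_left _ hx) hb₁
  · exact Algebra.adjoin_mono (fun x hx => List.mem_append_right _ hx) hb₂

theorem sqCubeOrPrime_closed' {b : B} {p : ℕ} (hp : p.Prime)
    (h2 : (p : B) * b ∈ towerClosure (sqCubeOrPrime A B))
    (h3 : b ^ p ∈ towerClosure (sqCubeOrPrime A B)) : b ∈ towerClosure (sqCubeOrPrime A B) := by
  obtain ⟨l₁, hl₁, hb₁⟩ := h2
  obtain ⟨l₂, hl₂, hb₂⟩ := h3
  refine mem_towerClosure_of_step _ (isTower_append _ hl₁ hl₂) (Or.inr ⟨p, hp, ?_, ?_⟩)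
  · exact Algebra.adjoin_mono (fun x hx => List.mem_append_left _ hx) hb₁
  · exact Algebra.adjoin_mono (fun x hx => List.mem_append_right _ hx) hb₂

open Groth.Agent.Helper7.UHStep in
/-- A subalgebra closed under the elementary steps is everything. -/
theorem subalgebra_eq_top [Algebra.IsIntegral A B] (C : Subalgebra A B)
    (hcomap : ∀ (q q' : Ideal B) [q.IsPrime] [q'.IsPrime],
      q.comap (algebraMap A B) = q'.comap (algebraMap A B) → q = q')
    (Pℓ : ℕ → Prop)
    (hPI : ∀ (q : Ideal B) [q.IsPrime] (b : B), ∃ (ℓ n : ℕ) (a t : A),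
      (ℓ = 1 ∨ (ℓ.Prime ∧ Pℓ ℓ ∧ (ℓ : B) ∈ q)) ∧ t ∉ q.comap (algebraMap A B) ∧
        algebraMap A B t * b ^ (ℓ ^ n) - algebraMap A B a ∈ q)
    (h23 : ∀ b : B, b ^ 2 ∈ C → b ^ 3 ∈ C → b ∈ C)
    (hℓ : ∀ (ℓ : ℕ) (b : B), ℓ.Prime → Pℓ ℓ → (ℓ : B) * b ∈ C → b ^ ℓ ∈ C → b ∈ C) :
    C = ⊤ := by
  by_contra hne
  have hinjC : Function.Injective (algebraMap C B) := Subtype.val_injective
  have hnsC : ¬ Function.Surjective (algebraMap C B) := by
    intro h
    apply hne
    rw [eq_top_iff]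
    intro b _
    obtain ⟨c, rfl⟩ := h b
    exact c.2
  have hintCB : Algebra.IsIntegral C B := Algebra.IsIntegral.tower_top (R := A)
  have hcc : ∀ Q : Ideal B, (Q.comap (algebraMap C B)).comap (algebraMap A C) =
      Q.comap (algebraMap A B) := by
    intro Q
    rw [Ideal.comap_comap]
    rfl
  have hcomapC : ∀ (q q' : Ideal B) [q.IsPrime] [q'.IsPrime],
      q.comap (algebraMap C B) = q'.comap (algebraMap C B) → q = q' := by
    intro q q' _ _ h
    apply hcomap
    rw [← hcc, ← hcc, h]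
  have hPIC : ∀ (q : Ideal B) [q.IsPrime] (b : B), ∃ (ℓ n : ℕ) (a t : C),
      (ℓ = 1 ∨ (ℓ.Prime ∧ Pℓ ℓ ∧ (ℓ : B) ∈ q)) ∧ t ∉ q.comap (algebraMap C B) ∧
        algebraMap C B t * b ^ (ℓ ^ n) - algebraMap C B a ∈ q := by
    intro q _ b
    obtain ⟨ℓ, n, a, t, hℓ, ht, hmem⟩ := hPI q b
    refine ⟨ℓ, n, algebraMap A C a, algebraMap A C t, hℓ, ?_, hmem⟩
    rw [← hcc] at ht
    exact ht
  have hrange : ∀ b : B, b ∈ (algebraMap C B).range ↔ b ∈ C := by
    intro b
    constructor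
    · rintro ⟨c, rfl⟩; exact c.2
    · intro h; exact ⟨⟨b, h⟩, rfl⟩
  rcases integral_step hinjC hnsC hcomapC Pℓ hPIC with
    ⟨b, hb, hb2, hb3⟩ | ⟨ℓ, b, hℓp, hPℓ, hb, hb2, hb3⟩
  · rw [hrange] at hb hb2 hb3
    exact hb (h23 b hb2 hb3)
  · rw [hrange] at hb hb2 hb3
    exact hb (hℓ ℓ b hℓp hPℓ hb2 hb3)

/-- Integrality along towers. -/
theorem isIntegral_of_towerClosure_eq_top (h : towerClosure (sqCubeOrPrime A B) = ⊤) :
    Algebra.IsIntegral A B := by
  have hle : towerClosure (sqCubeOrPrime A B) ≤ integralClosure A B := by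
    apply towerClosure_le
    intro D b hD hb
    rcases hb with ⟨h2, -⟩ | ⟨p, hp, -, h2⟩
    · exact IsIntegral.of_pow (n := 2) (by norm_num) (hD h2)
    · exact IsIntegral.of_pow hp.pos (hD h2)
  constructor
  intro b
  apply hle
  rw [h]
  trivial

theorem field_sq_cube {K : Type*} [Field K] {x y : K} (h2 : x ^ 2 = y ^ 2) (h3 : x ^ 3 = y ^ 3) :
    x = y := by
  by_cases hx : x = 0
  · subst hx
    have : y ^ 2 = 0 := by rw [← h2]; ring
    exact (pow_eq_zero_iff (by norm_num)).1 this |>.symm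
  · have hx2 : x ^ 2 ≠ 0 := pow_ne_zero 2 hx
    apply mul_right_cancel₀ hx2
    calc x * x ^ 2 = x ^ 3 := by ring
      _ = y ^ 3 := h3
      _ = y * y ^ 2 := by ring
      _ = y * x ^ 2 := by rw [h2]

theorem field_prime {K : Type*} [Field K] {x y : K} {p : ℕ} (hp : p.Prime)
    (h2 : (p : K) * x = (p : K) * y) (h3 : x ^ p = y ^ p) : x = y := by
  by_cases hp0 : (p : K) = 0
  · haveI : Fact p.Prime := ⟨hp⟩
    haveI : CharP K p := (CharP.charP_iff_prime_eq_zero hp).2 hp0
    exact frobenius_inj K p h3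
  · exact mul_left_cancel₀ hp0 h2

/-- Homomorphisms to a field are determined on `A`. -/
theorem ringHom_ext_of_towerClosure_eq_top (h : towerClosure (sqCubeOrPrime A B) = ⊤)
    {K : Type*} [Field K] (h₁ h₂ : B →+* K)
    (heq : h₁.comp (algebraMap A B) = h₂.comp (algebraMap A B)) : h₁ = h₂ := by
  let C : Subalgebra A B :=
    { (RingHom.eqLocus h₁ h₂).toSubsemiring with
      algebraMap_mem' := fun a => RingHom.congr_fun heq a }
  have hmem : ∀ b, b ∈ C ↔ h₁ b = h₂ b := fun b => Iff.rfl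
  have hle : towerClosure (sqCubeOrPrime A B) ≤ C := by
    apply towerClosure_le
    intro D b hD hb
    rw [hmem]
    rcases hb with ⟨h2, h3⟩ | ⟨p, hp, h2, h3⟩
    · have e2 := (hmem _).1 (hD h2)
      have e3 := (hmem _).1 (hD h3)
      rw [map_pow, map_pow] at e2 e3
      exact field_sq_cube e2 e3
    · have e2 := (hmem _).1 (hD h2)
      have e3 := (hmem _).1 (hD h3)
      rw [map_mul, map_mul, map_natCast, map_natCast] at e2
      rw [map_pow, map_pow] at e3
      exact field_prime hp e2 e3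
  ext b
  rw [← hmem]
  apply hle
  rw [h]
  trivial

/-- Residue fields along sq-cube towers. -/
theorem residue_surjective_of_towerClosure_eq_top (h : towerClosure (sqCube A B) = ⊤)
    (Q : Ideal B) [Q.IsPrime] :
    Function.Surjective
      (Ideal.ResidueField.map (Q.comap (algebraMap A B)) Q (algebraMap A B) rfl) := by
  set 𝔭 := Q.comap (algebraMap A B) with h𝔭
  set ρ := Ideal.ResidueField.map 𝔭 Q (algebraMap A B) rfl with hρ
  let C : Subalgebra A B :=
    { (ρ.range.toSubsemiring).comap (algebraMap B Q.ResidueField) with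
      algebraMap_mem' := fun a => ⟨algebraMap A 𝔭.ResidueField a,
        Ideal.ResidueField.map_algebraMap 𝔭 Q (algebraMap A B) rfl a⟩ }
  have hmem : ∀ b, b ∈ C ↔ ∃ u, ρ u = algebraMap B Q.ResidueField b := fun b => Iff.rfl
  have hle : towerClosure (sqCube A B) ≤ C := by
    apply towerClosure_le
    intro D b hD hb
    obtain ⟨h2, h3⟩ := hb
    obtain ⟨u, hu⟩ := (hmem _).1 (hD h2)
    obtain ⟨v, hv⟩ := (hmem _).1 (hD h3)
    rw [hmem]
    by_cases hb0 : algebraMap B Q.ResidueField b = 0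
    · exact ⟨0, by rw [map_zero, hb0]⟩
    · refine ⟨v / u, ?_⟩
      rw [map_div₀, hu, hv, map_pow, map_pow]
      field_simp
  have hall : ∀ b, ∃ u, ρ u = algebraMap B Q.ResidueField b := by
    intro b
    rw [← hmem]
    apply hle
    rw [h]
    trivial
  intro z
  obtain ⟨b, s, hs, hz⟩ := Groth.Agent.Helper7.UHStep.exists_div_eq Q z
  obtain ⟨u, hu⟩ := hall b
  obtain ⟨v, hv⟩ := hall s
  have hs0 : algebraMap B Q.ResidueField s ≠ 0 := by
    rw [Ne, Ideal.algebraMap_residueField_eq_zero]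
    exact hs
  refine ⟨u / v, ?_⟩
  rw [map_div₀, hu, hv, ← hz]
  field_simp

end Alg

section Sch

variable {A B : Type u} [CommRing A] [CommRing B] [Algebra A B]

open Groth.Agent.Helper7.UHStep Groth.Agent.Helper6.EtaSN Groth.Agent.Helper6.EtaSN2

theorem isUnivHomeo_of_towerClosure_eq_top (hinj : Function.Injective (algebraMap A B))
    (h : towerClosure (sqCubeOrPrime A B) = ⊤) :
    FlatMor.IsUnivHomeo (Spec.map (CommRingCat.ofHom (algebraMap A B))) := by
  have hint := isIntegral_of_towerClosure_eq_top h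
  have hint' : (algebraMap A B).IsIntegral := algebraMap_isIntegral_iff.2 hint
  haveI : IsIntegralHom (Spec.map (CommRingCat.ofHom (algebraMap A B))) :=
    IsIntegralHom.SpecMap_iff.mpr hint'
  haveI : UniversallyInjective (Spec.map (CommRingCat.ofHom (algebraMap A B))) :=
    (Groth.Agent.Helper6.EtaWN.universallyInjective_SpecMap_iff _).2
      (fun K _ h₁ h₂ heq => ringHom_ext_of_towerClosure_eq_top h h₁ h₂ heq)
  haveI : Surjective (Spec.map (CommRingCat.ofHom (algebraMap A B))) :=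
    ⟨hint'.comap_surjective hinj⟩
  exact isUnivHomeo_of _

theorem hcomap_of_isUnivHomeo
    (hU : FlatMor.IsUnivHomeo (Spec.map (CommRingCat.ofHom (algebraMap A B)))) :
    ∀ (q q' : Ideal B) [q.IsPrime] [q'.IsPrime],
      q.comap (algebraMap A B) = q'.comap (algebraMap A B) → q = q' := by
  obtain ⟨hbij, -⟩ := of_isUnivHomeo_SpecMap' (algebraMap A B) hU
  intro q q' hq hq' h
  have := hbij.1 (a₁ := ⟨q, hq⟩) (a₂ := ⟨q', hq'⟩) (PrimeSpectrum.ext h)
  exact congrArg PrimeSpectrum.asIdeal this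

theorem towerClosure_eq_top_of_isUnivHomeo
    (hU : FlatMor.IsUnivHomeo (Spec.map (CommRingCat.ofHom (algebraMap A B)))) :
    towerClosure (sqCubeOrPrime A B) = ⊤ := by
  have hint : Algebra.IsIntegral A B := ⟨isIntegral_of_isUnivHomeo _ hU⟩
  obtain ⟨hbij, hres⟩ := of_isUnivHomeo_SpecMap' (algebraMap A B) hU
  have hPI : ∀ (q : Ideal B) [q.IsPrime] (b : B), ∃ (ℓ n : ℕ) (a t : A),
      (ℓ = 1 ∨ (ℓ.Prime ∧ True ∧ (ℓ : B) ∈ q)) ∧ t ∉ q.comap (algebraMap A B) ∧
        algebraMap A B t * b ^ (ℓ ^ n) - algebraMap A B a ∈ q := by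
    intro q hq b
    exact exists_of_isPurelyInseparable (algebraMap A B) q (hres ⟨q, hq⟩) b
  exact subalgebra_eq_top _ (hcomap_of_isUnivHomeo hU) (fun _ => True) hPI
    (fun b => sqCubeOrPrime_closed) (fun ℓ b hℓ _ => sqCubeOrPrime_closed' hℓ)

omit [Algebra A B] in
set_option backward.isDefEq.respectTransparency.types false in
theorem residueFieldMap_surjective_iff (φ : A →+* B) (q : Ideal B) [hq : q.IsPrime] :
    Function.Surjective ((Spec.map (CommRingCat.ofHom φ)).residueFieldMap ⟨q, hq⟩) ↔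
      Function.Surjective (Ideal.ResidueField.map (q.comap φ) q φ rfl) := by
  have hθ := residueFieldMap_conj φ ⟨q, hq⟩
  have hθ' : ∀ z, Ideal.ResidueField.map (q.comap φ) q φ rfl z =
      ((Scheme.Spec.residueFieldIso (.of A) ((Spec.map (CommRingCat.ofHom φ)) ⟨q, hq⟩)).inv ≫
        (Spec.map (CommRingCat.ofHom φ)).residueFieldMap ⟨q, hq⟩ ≫
          (Scheme.Spec.residueFieldIso (.of B) ⟨q, hq⟩).hom).hom z := by
    intro z
    rw [hθ]
    rfl
  have e1 := (ConcreteCategory.isIso_iff_bijective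
    (Scheme.Spec.residueFieldIso (.of B) ⟨q, hq⟩).hom).mp inferInstance
  have e2 := (ConcreteCategory.isIso_iff_bijective
    (Scheme.Spec.residueFieldIso (.of A) ((Spec.map (CommRingCat.ofHom φ)) ⟨q, hq⟩)).inv).mp
      inferInstance
  constructor
  · intro hres z
    obtain ⟨z1, hz1⟩ := e1.2 z
    obtain ⟨z2, hz2⟩ := hres z1
    obtain ⟨z3, hz3⟩ := e2.2 z2
    refine ⟨z3, ?_⟩
    rw [hθ']
    simp only [CommRingCat.hom_comp, RingHom.comp_apply]
    erw [hz3, hz2, hz1]
  · intro hres w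
    obtain ⟨y, hy⟩ := hres ((Scheme.Spec.residueFieldIso (.of B) ⟨q, hq⟩).hom w)
    refine ⟨(Scheme.Spec.residueFieldIso (.of A)
      ((Spec.map (CommRingCat.ofHom φ)) ⟨q, hq⟩)).inv y, ?_⟩
    apply e1.1
    rw [hθ'] at hy
    simp only [CommRingCat.hom_comp, RingHom.comp_apply] at hy
    exact hy

theorem s7401 (hinj : Function.Injective (algebraMap A B)) :
    FlatMor.IsUnivHomeo (Spec.map (CommRingCat.ofHom (algebraMap A B))) ↔
    ∀ E : Finset B, ∃ l : List B, (↑E : Set B) ⊆ Algebra.adjoin A {b : B | b ∈ l} ∧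
      ∀ i : Fin l.length,
        (l.get i ^ 2 ∈ Algebra.adjoin A {b : B | ∃ j : Fin l.length, j < i ∧ b = l.get j} ∧
          l.get i ^ 3 ∈ Algebra.adjoin A {b : B | ∃ j : Fin l.length, j < i ∧ b = l.get j}) ∨
        ∃ p : ℕ, p.Prime ∧ (p : B) * l.get i ∈ Algebra.adjoin A {b : B | ∃ j : Fin l.length, j < i ∧ b = l.get j} ∧
          l.get i ^ p ∈ Algebra.adjoin A {b : B | ∃ j : Fin l.length, j < i ∧ b = l.get j} := by
  refine Iff.trans ?_ (towerClosure_eq_top_iff (sqCubeOrPrime A B))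
  exact ⟨towerClosure_eq_top_of_isUnivHomeo, isUnivHomeo_of_towerClosure_eq_top hinj⟩

theorem s7400 (hinj : Function.Injective (algebraMap A B)) :
    (FlatMor.IsUnivHomeo (Spec.map (CommRingCat.ofHom (algebraMap A B))) ∧
      ∀ x : Spec (CommRingCat.of B),
        Function.Surjective ((Spec.map (CommRingCat.ofHom (algebraMap A B))).residueFieldMap x)) ↔
    ∀ E : Finset B, ∃ l : List B, (↑E : Set B) ⊆ Algebra.adjoin A {b : B | b ∈ l} ∧
      ∀ i : Fin l.length, l.get i ^ 2 ∈ Algebra.adjoin A {b : B | ∃ j : Fin l.length, j < i ∧ b = l.get j} ∧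
        l.get i ^ 3 ∈ Algebra.adjoin A {b : B | ∃ j : Fin l.length, j < i ∧ b = l.get j} := by
  refine Iff.trans ?_ (towerClosure_eq_top_iff (sqCube A B))
  constructor
  · rintro ⟨hU, hres⟩
    have hint : Algebra.IsIntegral A B := ⟨isIntegral_of_isUnivHomeo _ hU⟩
    have hPI : ∀ (q : Ideal B) [q.IsPrime] (b : B), ∃ (ℓ n : ℕ) (a t : A),
        (ℓ = 1 ∨ (ℓ.Prime ∧ False ∧ (ℓ : B) ∈ q)) ∧ t ∉ q.comap (algebraMap A B) ∧
          algebraMap A B t * b ^ (ℓ ^ n) - algebraMap A B a ∈ q := by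
      intro q hq b
      exact exists_of_surjective (algebraMap A B) q
        ((residueFieldMap_surjective_iff _ q).1 (hres ⟨q, hq⟩)) b
    exact subalgebra_eq_top _ (hcomap_of_isUnivHomeo hU) (fun _ => False) hPI
      (fun b => sqCube_closed) (fun _ _ _ h => h.elim)
  · intro h
    have h' : towerClosure (sqCubeOrPrime A B) = ⊤ := by
      rw [eq_top_iff, ← h]
      rintro b ⟨l, hl, hb⟩
      exact ⟨l, isTower_of_imp (fun D b h => Or.inl h) hl, hb⟩
    refine ⟨isUnivHomeo_of_towerClosure_eq_top hinj h', fun x => ?_⟩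
    have hx : x.asIdeal.IsPrime := x.2
    exact (residueFieldMap_surjective_iff (algebraMap A B) x.asIdeal).2
      (residue_surjective_of_towerClosure_eq_top h x.asIdeal)

end Sch

end Groth.Agent.Helper7.UHTower
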