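import Mathlib
import Groth.Agent.Helper7.Kap5

namespace Groth.Agent.Helper7.UInj

open TensorProduct

universe u

theorem result0448 {R M N : Type u} [CommRing R] [IsLocalRing R] [AddCommGroup M] [Module R M]
    [Module.Projective R M]
    [AddCommGroup N] [Module R N] [Module.Flat R N] (u : M →ₗ[R] N)
    (h : Function.Injective (LinearMap.lTensor (IsLocalRing.ResidueField R) u)) :
    ∀ (Q : Type u) [AddCommGroup Q] [Module R Q], Function.Injective (LinearMap.rTensor Q u) := by
  classical
  intro Q _ _
  have hfree : Module.Free R M := Groth.Agent.Helper7.Kap.result0582 R M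
  let b := Module.Free.chooseBasis R M
  -- express any tensor in terms of the basis
  have hex : ∀ z : M ⊗[R] Q, ∃ q : Module.Free.ChooseBasisIndex R M →₀ Q,
      z = q.sum (fun j x => b j ⊗ₜ[R] x) := by
    intro z
    induction z using TensorProduct.induction_on with
    | zero => exact ⟨0, by simp⟩
    | tmul m x =>
      refine ⟨(b.repr m).mapRange (fun r => r • x) (zero_smul _ _), ?_⟩
      rw [Finsupp.sum_mapRange_index (by simp)]
      conv_lhs => rw [← b.linearCombination_repr m, Finsupp.linearCombination_apply, Finsupp.sum,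
        TensorProduct.sum_tmul]
      simp [Finsupp.sum, TensorProduct.smul_tmul]
    | add z₁ z₂ h₁ h₂ =>
      obtain ⟨q₁, rfl⟩ := h₁
      obtain ⟨q₂, rfl⟩ := h₂
      refine ⟨q₁ + q₂, ?_⟩
      rw [Finsupp.sum_add_index'] <;> simp [TensorProduct.tmul_add]
  rw [injective_iff_map_eq_zero]
  intro z hz
  obtain ⟨q, rfl⟩ := hex z
  -- the finite index type
  set ι := ↥q.support with hι
  have hz' : ∑ j : ι, q j ⊗ₜ[R] u (b j) = (0 : Q ⊗[R] N) := by
    have h1 : (TensorProduct.comm R N Q) ((LinearMap.rTensor Q u) (q.sum fun j x => b j ⊗ₜ[R] x)) = 0 := by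
      rw [hz, map_zero]
    rw [Finsupp.sum, map_sum, map_sum] at h1
    simp only [LinearMap.rTensor_tmul, TensorProduct.comm_tmul] at h1
    rw [← h1]
    exact Finset.sum_coe_sort q.support (fun j => q j ⊗ₜ[R] u (b j))
  have hflat : Function.Injective
      (LinearMap.rTensor N (Submodule.span R (Set.range fun j : ι => q j)).subtype) :=
    Module.Flat.rTensor_preserves_injective_linearMap _ Subtype.val_injective
  obtain ⟨k, a, y, hay, ham⟩ :=
    TensorProduct.vanishesTrivially_of_sum_tmul_eq_zero_of_rTensor_injective R hflat hz'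
  have hay : ∀ i : ι, u (b i) = ∑ j, a i j • y j := hay
  have ham : ∀ j : Fin k, ∑ i : ι, a i j • q i = 0 := ham
  -- the linear maps
  let E : (ι → R) →ₗ[R] M := Fintype.linearCombination R (fun j : ι => b j)
  let l : (ι → R) →ₗ[R] (Fin k → R) := Fintype.linearCombination R a
  let Y : (Fin k → R) →ₗ[R] N := Fintype.linearCombination R y
  let E' : M →ₗ[R] (ι → R) := LinearMap.pi (fun j => (Finsupp.lapply j.1) ∘ₗ b.repr.toLinearMap)
  have hfac : u ∘ₗ E = Y ∘ₗ l := by
    apply LinearMap.pi_ext
    intro j r
    simp only [LinearMap.comp_apply, E, l, Y, Fintype.linearCombination_apply_single, map_smul]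
    rw [hay j, Fintype.linearCombination_apply]
  have hE'E : E' ∘ₗ E = LinearMap.id := by
    apply LinearMap.pi_ext
    intro j r
    ext j'
    simp only [LinearMap.comp_apply, E, E', Fintype.linearCombination_apply_single, map_smul,
      LinearMap.pi_apply, Finsupp.lapply_apply, LinearEquiv.coe_coe, Module.Basis.repr_self,
      LinearMap.id_apply, smul_eq_mul]
    rw [Finsupp.single_apply, Pi.single_apply]
    by_cases hjj : j = j'
    · subst hjj; simp
    · rw [if_neg (fun h => hjj (Subtype.ext h)), if_neg (fun h => hjj h.symm)]; simp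
  have hEinj : Function.Injective (E.lTensor (IsLocalRing.ResidueField R)) := by
    have : E'.lTensor (IsLocalRing.ResidueField R) ∘ₗ E.lTensor (IsLocalRing.ResidueField R)
        = LinearMap.id := by
      rw [← LinearMap.lTensor_comp, hE'E, LinearMap.lTensor_id]
    exact Function.HasLeftInverse.injective ⟨_, LinearMap.congr_fun this⟩
  have hlinj : Function.Injective (l.lTensor (IsLocalRing.ResidueField R)) := by
    have h1 : Function.Injective ((u ∘ₗ E).lTensor (IsLocalRing.ResidueField R)) := by
      rw [LinearMap.lTensor_comp]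
      exact h.comp hEinj
    rw [hfac, LinearMap.lTensor_comp] at h1
    exact Function.Injective.of_comp h1
  obtain ⟨l', hl'⟩ := (IsLocalRing.split_injective_iff_lTensor_residueField_injective l).2 hlinj
  -- the lifted tensor
  let z' : (ι → R) ⊗[R] Q := ∑ j : ι, (Pi.single j (1 : R) : ι → R) ⊗ₜ[R] q j
  have hz'E : (E.rTensor Q) z' = q.sum fun j x => b j ⊗ₜ[R] x := by
    simp only [z', map_sum, LinearMap.rTensor_tmul, E, Fintype.linearCombination_apply_single,
      one_smul]
    rw [Finsupp.sum]
    exact Finset.sum_coe_sort q.support (fun j => b j ⊗ₜ[R] q j)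
  have hz'l : (l.rTensor Q) z' = 0 := by
    simp only [z', map_sum, LinearMap.rTensor_tmul, l, Fintype.linearCombination_apply_single,
      one_smul]
    have h1 : ∀ j : ι, a j ⊗ₜ[R] q j
        = ∑ i : Fin k, (Pi.single i (1 : R) : Fin k → R) ⊗ₜ[R] (a j i • q j) := by
      intro j
      conv_lhs => rw [← Finset.univ_sum_single (a j), TensorProduct.sum_tmul]
      apply Finset.sum_congr rfl
      intro i _
      rw [← TensorProduct.smul_tmul]
      congr 1
      ext i'
      simp [Pi.single_apply]
    simp_rw [h1]
    rw [Finset.sum_comm]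
    apply Finset.sum_eq_zero
    intro i _
    rw [← TensorProduct.tmul_sum, ham i, TensorProduct.tmul_zero]
  have hz'0 : z' = 0 := by
    have : (l'.rTensor Q) ((l.rTensor Q) z') = z' := by
      rw [← LinearMap.comp_apply, ← LinearMap.rTensor_comp, hl', LinearMap.rTensor_id,
        LinearMap.id_apply]
    rw [← this, hz'l, map_zero]
  rw [← hz'E, hz'0, map_zero]

end Groth.Agent.Helper7.UInj
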