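import Mathlib
import Groth.Agent.Helper3.GalCohLib

set_option autoImplicit false
set_option linter.style.haveILetI false
set_option linter.unusedSectionVars false

/-!
# Group cohomology: vanishing for uniquely divisible modules and a bijectivity criterion
-/

namespace Groth.Agent.Helper7.UnitCoh

open CategoryTheory CategoryTheory.Limits groupCohomology

universe u

section general

variable {k G : Type u} [CommRing k] [Group G]

/-- if the kernel of a short exact sequence has vanishing cohomology in degrees `n`, `n + 1`, the map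
on `Hⁿ` of the quotient map is bijective. -/
theorem bijective_of_shortExact {X : ShortComplex (Rep k G)} (hX : X.ShortExact) (n : ℕ)
    (h1 : IsZero (groupCohomology X.X₁ n)) (h2 : IsZero (groupCohomology X.X₁ (n + 1))) :
    Function.Bijective ((groupCohomology.functor k G n).map X.g).hom := by
  constructor
  · have hm : Mono (mapShortComplex₂ X n).g :=
      (mapShortComplex₂_exact hX n).mono_g (h1.eq_of_src _ _)
    exact (ModuleCat.mono_iff_injective _).mp hm
  · have he : Epi (mapShortComplex₃ hX (rfl : n + 1 = n + 1)).f :=
      (mapShortComplex₃_exact hX rfl).epi_f (h2.eq_of_tgt _ _)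
    exact (ModuleCat.epi_iff_surjective _).mp he

theorem exists_of_g_eq_zero {X : ShortComplex (Rep k G)} (hX : X.ShortExact) (y : X.X₂.V)
    (hy : X.g.hom y = 0) : ∃ x : X.X₁.V, X.f.hom x = y := by
  have hrk : LinearMap.range X.f.hom.toLinearMap = LinearMap.ker X.g.hom.toLinearMap :=
    (hX.exact.map (forget₂ (Rep k G) (ModuleCat k))).moduleCat_range_eq_ker
  have : y ∈ LinearMap.ker X.g.hom.toLinearMap := hy
  rw [← hrk] at this
  exact this

theorem g_f_eq_zero {X : ShortComplex (Rep k G)} (hX : X.ShortExact) (x : X.X₁.V) :
    X.g.hom (X.f.hom x) = 0 := by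
  have hrk : LinearMap.range X.f.hom.toLinearMap = LinearMap.ker X.g.hom.toLinearMap :=
    (hX.exact.map (forget₂ (Rep k G) (ModuleCat k))).moduleCat_range_eq_ker
  have : X.f.hom x ∈ LinearMap.ker X.g.hom.toLinearMap := by
    rw [← hrk]
    exact ⟨x, rfl⟩
  exact this

end general

section vanish

variable {k G : Type u} [CommRing k] [Group G] [Fintype G]

/-- cohomology in positive degrees of a module on which `|G|` acts bijectively vanishes. -/
theorem isZero_of_card_smul_bijective (A : Rep k G)
    (h : Function.Bijective (fun a : A.V => (Fintype.card G) • a)) (n : ℕ) :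
    IsZero (groupCohomology A (n + 1)) := by
  let φ : A ⟶ A := Groth.Agent.Helper3.GalCohLib.η A ≫ Groth.Agent.Helper3.GalCohLib.tr A (A.ρ 1)
  have hφ : ∀ a : A.V, φ.hom a = (Fintype.card G) • a := by
    intro a
    rw [Groth.Agent.Helper3.GalCohLib.η_tr]
    have : ∀ g : G, A.ρ g⁻¹ (A.ρ 1 (A.ρ g a)) = a := by
      intro g
      rw [← Module.End.mul_apply, ← Module.End.mul_apply, ← map_mul, ← map_mul]
      simp
    simp only [this, Finset.sum_const, Finset.card_univ]
  have h0 : (groupCohomology.functor k G (n + 1)).map φ = 0 :=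
    Groth.Agent.Helper3.GalCohLib.map_eq_zero_of_norm A (A.ρ 1) φ
      (Groth.Agent.Helper3.GalCohLib.η_tr A _) n
  have hb : Function.Bijective φ.hom.toLinearMap := by
    have : (φ.hom.toLinearMap : A.V → A.V) = fun a : A.V => (Fintype.card G) • a := by
      funext a
      exact hφ a
    rw [this]
    exact h
  let e := LinearEquiv.ofBijective φ.hom.toLinearMap hb
  have he : ∀ a, e a = φ.hom a := fun a => rfl
  let ψ : A ⟶ A := Rep.ofHom ⟨e.symm.toLinearMap, fun g => by
    ext a
    apply e.injective
    simp only [LinearMap.coe_comp, LinearEquiv.coe_coe, Function.comp_apply,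
      LinearEquiv.apply_symm_apply]
    have h1 := LinearMap.congr_fun (φ.hom.isIntertwining' g) (e.symm a)
    simp only [LinearMap.coe_comp, Function.comp_apply] at h1
    have h2 : e (A.ρ g (e.symm a)) = A.ρ g (e (e.symm a)) := h1
    rw [h2, LinearEquiv.apply_symm_apply]⟩
  have hψ : φ ≫ ψ = 𝟙 A := by
    apply Rep.hom_ext
    apply Representation.IntertwiningMap.ext
    apply LinearMap.ext
    intro a
    show e.symm (e a) = a
    exact e.symm_apply_apply a
  rw [IsZero.iff_id_eq_zero]
  calc 𝟙 (groupCohomology A (n + 1))
      = (groupCohomology.functor k G (n + 1)).map (𝟙 A) :=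
        ((groupCohomology.functor k G (n + 1)).map_id A).symm
    _ = (groupCohomology.functor k G (n + 1)).map (φ ≫ ψ) := by rw [hψ]
    _ = (groupCohomology.functor k G (n + 1)).map φ ≫
        (groupCohomology.functor k G (n + 1)).map ψ := Functor.map_comp _ _ _
    _ = 0 := by rw [h0, zero_comp]

end vanish

end Groth.Agent.Helper7.UnitCoh
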