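import Mathlib
import Groth.Agent.Helper7.UnitCohA

set_option autoImplicit false
set_option linter.style.haveILetI false
set_option linter.unusedSectionVars false

attribute [local instance] Units.mulDistribMulActionRight

namespace Groth.Agent.Helper7.UnitCoh

open IsLocalRing Polynomial CategoryTheory CategoryTheory.Limits

section hensel

variable {R : Type*} [CommRing R]

theorem exists_root [HenselianLocalRing R] (N : ℕ) (hN0 : 0 < N) (hN : IsUnit ((N : ℕ) : R)) (u : R)
    (hu : u - 1 ∈ maximalIdeal R) : ∃ v : R, v ^ N = u ∧ v - 1 ∈ maximalIdeal R := by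
  have h1 : (X ^ N - C u : R[X]).eval 1 ∈ maximalIdeal R := by
    have : (X ^ N - C u : R[X]).eval 1 = -(u - 1) := by simp
    rw [this]
    exact neg_mem hu
  have h2 : IsUnit ((derivative (X ^ N - C u : R[X])).eval 1) := by
    have : (derivative (X ^ N - C u : R[X])).eval 1 = (N : R) := by
      rw [derivative_sub, derivative_C, sub_zero, derivative_X_pow, eval_mul, eval_pow, eval_X,
        one_pow, mul_one, eval_C]
    rw [this]
    exact hN
  obtain ⟨a, ha, ha1⟩ := HenselianLocalRing.is_henselian (X ^ N - C u : R[X])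
    (monic_X_pow_sub_C u hN0.ne') 1 h1 h2
  refine ⟨a, ?_, ha1⟩
  have : a ^ N - u = 0 := by simpa [IsRoot] using ha
  exact sub_eq_zero.mp this

theorem eq_one_of_pow_eq_one [IsLocalRing R] (N : ℕ) (hN : IsUnit ((N : ℕ) : R)) (c : R)
    (hc : c - 1 ∈ maximalIdeal R) (h : c ^ N = 1) : c = 1 := by
  have hsum : (∑ i ∈ Finset.range N, c ^ i) * (c - 1) = c ^ N - 1 := geom_sum_mul c N
  have hmem : (∑ i ∈ Finset.range N, c ^ i) - (N : R) ∈ maximalIdeal R := by
    have : (∑ i ∈ Finset.range N, c ^ i) - (N : R) = ∑ i ∈ Finset.range N, (c ^ i - 1) := by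
      simp [Finset.sum_sub_distrib]
    rw [this]
    refine Ideal.sum_mem _ fun i _ => ?_
    rw [← geom_sum_mul c i]
    exact Ideal.mul_mem_left _ _ hc
  have hunit : IsUnit (∑ i ∈ Finset.range N, c ^ i) := by
    by_contra hnu
    have h1 : (∑ i ∈ Finset.range N, c ^ i) ∈ maximalIdeal R := hnu
    have h2 : (N : R) ∈ maximalIdeal R := by
      have := Ideal.sub_mem _ h1 hmem
      simpa using this
    exact h2 hN
  rw [h, sub_self] at hsum
  exact sub_eq_zero.mp ((hunit.mul_right_eq_zero).mp hsum)

end hensel

theorem main (R : Type) [CommRing R] [HenselianLocalRing R] (p : ℕ)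
    [CharP (IsLocalRing.ResidueField R) p]
    (G : Type) [Group G] [Finite G] [MulSemiringAction G R] (hp : ¬ p ∣ Nat.card G)
    (φ : Rep.ofMulDistribMulAction G Rˣ ⟶
      Rep.ofMulDistribMulAction G (IsLocalRing.ResidueField R)ˣ)
    (hφ : ∀ x : Rˣ, Additive.toMul (φ.hom (Additive.ofMul x)) =
      Units.map (IsLocalRing.residue R).toMonoidHom x)
    (n : ℕ) (hn : 1 ≤ n) :
    Function.Bijective ((groupCohomology.functor ℤ G n).map φ).hom := by
  letI : Fintype G := Fintype.ofFinite G
  have hcard : Nat.card G = Fintype.card G := Nat.card_eq_fintype_card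
  have hN0 : 0 < Fintype.card G := Fintype.card_pos
  have hNk : ((Fintype.card G : ℕ) : IsLocalRing.ResidueField R) ≠ 0 := by
    rw [Ne, CharP.cast_eq_zero_iff (IsLocalRing.ResidueField R) p, ← hcard]
    exact hp
  have hNR : IsUnit ((Fintype.card G : ℕ) : R) := by
    rw [← IsLocalRing.residue_ne_zero_iff_isUnit, map_natCast]
    exact hNk
  -- residue of a unit in the kernel
  have hres : ∀ u : Rˣ, φ.hom (Additive.ofMul u) = 0 → (u : R) - 1 ∈ maximalIdeal R := by
    intro u hu
    have h1 := hφ u
    rw [hu] at h1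
    have h2 : (Units.map (IsLocalRing.residue R).toMonoidHom u : (IsLocalRing.ResidueField R)ˣ) = 1 :=
      h1.symm
    have h3 : IsLocalRing.residue R (u : R) = 1 := by
      have := congrArg Units.val h2
      simpa using this
    rw [← IsLocalRing.residue_eq_zero_iff, map_sub, h3, map_one, sub_self]
  have hres' : ∀ u : Rˣ, (u : R) - 1 ∈ maximalIdeal R → φ.hom (Additive.ofMul u) = 0 := by
    intro u hu
    have h3 : IsLocalRing.residue R (u : R) = 1 := by
      rw [← IsLocalRing.residue_eq_zero_iff, map_sub, map_one] at hu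
      exact sub_eq_zero.mp hu
    have h1 := hφ u
    have h2 : (Units.map (IsLocalRing.residue R).toMonoidHom u : (IsLocalRing.ResidueField R)ˣ) = 1 := by
      apply Units.ext
      simpa using h3
    rw [h2] at h1
    exact h1
  -- the short exact sequence
  have hsurj : Function.Surjective φ.hom := by
    intro y
    obtain ⟨r, hr⟩ := IsLocalRing.residue_surjective ((Additive.toMul y : (IsLocalRing.ResidueField R)ˣ) : IsLocalRing.ResidueField R)
    have hru : IsUnit r := by
      rw [← IsLocalRing.residue_ne_zero_iff_isUnit, hr]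
      exact Units.ne_zero _
    refine ⟨Additive.ofMul hru.unit, ?_⟩
    have h1 := hφ hru.unit
    have h2 : (Units.map (IsLocalRing.residue R).toMonoidHom hru.unit : (IsLocalRing.ResidueField R)ˣ) =
        Additive.toMul y := by
      apply Units.ext
      show IsLocalRing.residue R (hru.unit : R) = _
      rw [IsUnit.unit_spec]
      exact hr
    rw [h2] at h1
    exact h1
  let X : ShortComplex (Rep ℤ G) := ShortComplex.mk (kernel.ι φ) φ (kernel.condition φ)
  have hX : X.ShortExact :=
    { exact := ShortComplex.exact_kernel φ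
      mono_f := inferInstanceAs (Mono (kernel.ι φ))
      epi_g := (Rep.epi_iff_surjective φ).mpr hsurj }
  have hinj : Function.Injective (kernel.ι φ).hom :=
    (Rep.mono_iff_injective _).mp inferInstance
  have hker : ∀ a : X.X₁.V, φ.hom ((kernel.ι φ).hom a) = 0 := by
    intro a
    exact g_f_eq_zero hX a
  have hbij : Function.Bijective (fun a : X.X₁.V => (Fintype.card G) • a) := by
    constructor
    · have h0 : ∀ a : X.X₁.V, (Fintype.card G) • a = 0 → a = 0 := by
        intro a ha
        apply hinj
        rw [map_zero]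
        obtain ⟨u, hu⟩ : ∃ u : Rˣ, (kernel.ι φ).hom a = Additive.ofMul u := ⟨_, rfl⟩
        have hk := hker a
        rw [hu] at hk ⊢
        have h1 : (kernel.ι φ).hom ((Fintype.card G) • a) =
            (Fintype.card G) • (kernel.ι φ).hom a := map_nsmul _ _ _
        rw [ha, map_zero, hu] at h1
        have h2 : u ^ (Fintype.card G) = 1 := h1.symm
        have h3 : (u : R) = 1 := by
          apply eq_one_of_pow_eq_one (Fintype.card G) hNR _ (hres u hk)
          rw [← Units.val_pow_eq_pow_val, h2, Units.val_one]
        have h4 : u = 1 := Units.ext h3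
        rw [h4]
        rfl
      intro a b hab
      have : (Fintype.card G) • (a - b) = 0 := by
        rw [smul_sub]
        exact sub_eq_zero.mpr hab
      exact sub_eq_zero.mp (h0 _ this)
    · intro a
      obtain ⟨u, hu⟩ : ∃ u : Rˣ, (kernel.ι φ).hom a = Additive.ofMul u := ⟨_, rfl⟩
      have hk := hker a
      rw [hu] at hk
      obtain ⟨v, hv, hv1⟩ := exists_root (Fintype.card G) hN0 hNR (u : R) (hres u hk)
      have hvu : IsUnit v := by
        have : IsUnit (v ^ Fintype.card G) := by
          rw [hv]
          exact Units.isUnit _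
        exact (isUnit_pow_iff hN0.ne').mp this
      have hv1' : ((hvu.unit : Rˣ) : R) - 1 ∈ maximalIdeal R := by
        rw [IsUnit.unit_spec]
        exact hv1
      obtain ⟨b, hb⟩ := exists_of_g_eq_zero hX (Additive.ofMul hvu.unit : Additive Rˣ)
        (hres' hvu.unit hv1')
      refine ⟨b, ?_⟩
      apply hinj
      show (kernel.ι φ).hom ((Fintype.card G) • b) = (kernel.ι φ).hom a
      have hb' : (kernel.ι φ).hom b = Additive.ofMul hvu.unit := hb
      rw [map_nsmul, hb', hu]
      have h5 : hvu.unit ^ (Fintype.card G) = u := by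
        apply Units.ext
        rw [Units.val_pow_eq_pow_val, IsUnit.unit_spec]
        exact hv
      show Additive.ofMul (hvu.unit ^ (Fintype.card G)) = _
      rw [h5]
  obtain ⟨m, rfl⟩ : ∃ m, n = m + 1 := ⟨n - 1, by omega⟩
  exact bijective_of_shortExact hX (m + 1)
    (isZero_of_card_smul_bijective X.X₁ hbij m)
    (isZero_of_card_smul_bijective X.X₁ hbij (m + 1))

end Groth.Agent.Helper7.UnitCoh
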