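import Mathlib
import Groth.Agent.Helper7.UnitComp
import Groth.Agent.Helper3.HensLocal

set_option autoImplicit false
universe u v w
open TensorProduct Polynomial

namespace Groth.Agent.Helper7.UnitComp

lemma henselianLocalRing_of_ringEquiv {S T : Type*} [CommRing S] [CommRing T] (e : S ≃+* T)
    [hS : HenselianLocalRing S] : HenselianLocalRing T := by
  have hT : IsLocalRing T := e.isLocalRing
  have hmem : ∀ t : T, t ∈ IsLocalRing.maximalIdeal T ↔ e.symm t ∈ IsLocalRing.maximalIdeal S := by
    intro t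
    rw [IsLocalRing.mem_maximalIdeal, IsLocalRing.mem_maximalIdeal, mem_nonunits_iff,
      mem_nonunits_iff]
    exact not_congr (MulEquiv.isUnit_map (e.symm : T ≃* S)).symm
  refine { is_henselian := ?_ }
  intro f hf a₀ h1 h2
  have hev : ∀ (g : T[X]) (t : T), (g.map e.symm.toRingHom).eval (e.symm t) = e.symm (g.eval t) := by
    intro g t
    rw [Polynomial.eval_map]
    exact (Polynomial.hom_eval₂ g (RingHom.id T) e.symm.toRingHom t).symm ▸ by simp
  obtain ⟨b, hb1, hb2⟩ := hS.is_henselian (f.map e.symm.toRingHom) (hf.map _) (e.symm a₀)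
    (by rw [hev]; exact (hmem _).1 h1)
    (by rw [Polynomial.derivative_map, hev]; exact (MulEquiv.isUnit_map (e.symm : T ≃* S)).2 h2)
  refine ⟨e b, ?_, ?_⟩
  · have := hev f (e b)
    rw [e.symm_apply_apply] at this
    rw [Polynomial.IsRoot] at hb1 ⊢
    rw [hb1] at this
    exact (e.symm.map_eq_zero_iff).1 this.symm
  · rw [hmem, map_sub, e.symm_apply_apply]
    exact hb2


/-- Universe-polymorphic version of `Helper3.HensLocal.finite_local`. -/
theorem finite_local' (R : Type u) [CommRing R] [HenselianLocalRing R]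
    (S : Type v) [CommRing S] [IsLocalRing S] [Algebra R S] [Module.Finite R S] :
    HenselianLocalRing S := by
  let R' := ULift.{v} R
  let S' := ULift.{u} S
  let eR : R' ≃+* R := ULift.ringEquiv
  let eS : S' ≃+* S := ULift.ringEquiv
  have hR' : HenselianLocalRing R' := henselianLocalRing_of_ringEquiv eR.symm
  have hS' : IsLocalRing S' := eS.symm.isLocalRing
  let _ : Algebra R' S' := ULift.algebra' R S'
  have hfin : Module.Finite R' S' := by
    apply Module.Finite.of_equiv_equiv eR.symm eS.symm
    ext r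
    rfl
  have := Groth.Agent.Helper3.HensLocal.finite_local R' S'
  exact henselianLocalRing_of_ringEquiv eS


section Hopf

variable {R : Type u} [CommRing R] {A : Type v} [CommRing A] [HopfAlgebra R A] {e : A}

lemma finite_quot [Module.Finite R A] : Module.Finite R (A ⧸ I0 e) :=
  Module.Finite.of_surjective (Ideal.Quotient.mkₐ R (I0 e)).toLinearMap
    Ideal.Quotient.mk_surjective

/-- `A ⧸ (1 - e)` is a retract of `A`, hence flat when `A` is. -/
lemma flat_quot [Module.Flat R A] (he : IsIdempotentElem e) : Module.Flat R (A ⧸ I0 e) := by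
  let i : (A ⧸ I0 e) →ₗ[R] A :=
    Submodule.liftQ ((I0 e).restrictScalars R) (LinearMap.mulLeft R e) (by
      intro a ha
      obtain ⟨b, rfl⟩ := Ideal.mem_span_singleton'.1 ha
      have h : e * e = e := he
      simp only [LinearMap.mem_ker, LinearMap.mulLeft_apply]
      rw [mul_comm b, ← mul_assoc, mul_sub, mul_one, h, sub_self, zero_mul])
  apply Module.Flat.of_retract i (Ideal.Quotient.mkₐ R (I0 e)).toLinearMap
  ext x
  obtain ⟨a, rfl⟩ := Ideal.Quotient.mk_surjective x
  change Ideal.Quotient.mk (I0 e) (e * a) = Ideal.Quotient.mk (I0 e) a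
  rw [map_mul, mk_e, one_mul]

lemma residue_surjective [Module.Finite R A] [IsLocalRing (A ⧸ I0 e)]
    (hε : Bialgebra.counitAlgHom R A e = 1) :
    Function.Surjective (⇑(IsLocalRing.residue (A ⧸ I0 e)) ∘ ⇑(algebraMap R (A ⧸ I0 e))) := by
  have hfin : Module.Finite R (A ⧸ I0 e) := finite_quot
  intro y
  obtain ⟨x, rfl⟩ := IsLocalRing.residue_surjective y
  refine ⟨epsBar hε x, ?_⟩
  have h0 : epsBar hε (x - algebraMap R _ (epsBar hε x)) = 0 := by simp
  have h1 := map_mem_jacobson (AlgHom.id R (A ⧸ I0 e)) (epsBar hε) h0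
  rw [IsLocalRing.jacobson_eq_maximalIdeal _ bot_ne_top] at h1
  have h2 : IsLocalRing.residue (A ⧸ I0 e) (x - algebraMap R _ (epsBar hε x)) = 0 :=
    (IsLocalRing.residue_eq_zero_iff _).2 h1
  rw [map_sub, sub_eq_zero] at h2
  exact h2.symm

end Hopf

end Groth.Agent.Helper7.UnitComp
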