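import Mathlib

namespace Groth.Agent.Helper7.UnitPow

universe u

open IsLocalRing

variable (R : Type u) [CommRing R] [IsLocalRing R] (p : ℕ)

theorem exists_root (hperf : ∀ a : ResidueField R, ∃ b : ResidueField R, b ^ p = a) (n : ℕ)
    (a : ResidueField R) : ∃ b : ResidueField R, b ^ (p ^ n) = a := by
  induction n generalizing a with
  | zero => exact ⟨a, by simp⟩
  | succ n ih =>
    obtain ⟨c, hc⟩ := hperf a
    obtain ⟨b, hb⟩ := ih c
    exact ⟨b, by rw [pow_succ, pow_mul, hb, hc]⟩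

theorem main (hp : p.Prime)
    (hpm : (p : R) ∈ maximalIdeal R)
    (hperf : ∀ a : ResidueField R, ∃ b : ResidueField R, b ^ p = a)
    (n : ℕ) :
    (∀ u : Rˣ, ∃ v : Rˣ, ∃ x ∈ maximalIdeal R, (u : R) = (v : R) ^ (p ^ n) * (1 + x)) ∧
    (∀ x ∈ maximalIdeal R, (∃ v : Rˣ, (v : R) ^ (p ^ n) = 1 + x) →
      ∃ y ∈ maximalIdeal R, (1 + y) ^ (p ^ n) = 1 + x) := by
  constructor
  · intro u
    obtain ⟨b, hb⟩ := exists_root R p hperf n (residue R u)
    obtain ⟨v0, rfl⟩ := residue_surjective b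
    have hv0 : IsUnit v0 := by
      by_contra hnu
      have : residue R v0 = 0 := (residue_eq_zero_iff v0).mpr ((mem_maximalIdeal v0).mpr hnu)
      rw [this, zero_pow (pow_ne_zero n hp.ne_zero)] at hb
      have hu : (u : R) ∈ maximalIdeal R := (residue_eq_zero_iff _).mp hb.symm
      exact (mem_maximalIdeal _).mp hu u.isUnit
    obtain ⟨v, rfl⟩ := hv0
    refine ⟨v, (↑(v⁻¹) : R) ^ (p ^ n) * u - 1, ?_, ?_⟩
    · rw [← residue_eq_zero_iff, map_sub, map_mul, map_pow, map_one, ← hb, ← mul_pow, ← map_mul,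
        Units.inv_mul, map_one, one_pow, sub_self]
    · have : (v : R) ^ (p ^ n) * ((↑(v⁻¹) : R) ^ (p ^ n) * u) = u := by
        rw [← mul_assoc, ← mul_pow, Units.mul_inv, one_pow, one_mul]
      rw [add_sub_cancel, this]
  · rintro x hx ⟨v, hv⟩
    haveI : CharP (ResidueField R) p := by
      rw [CharP.charP_iff_prime_eq_zero hp]
      have := (residue_eq_zero_iff _).mpr hpm
      simpa using this
    haveI : Fact p.Prime := ⟨hp⟩
    refine ⟨(v : R) - 1, ?_, by rw [add_sub_cancel, hv]⟩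
    rw [← residue_eq_zero_iff, map_sub, map_one]
    have h1 : (residue R v - 1) ^ (p ^ n) = 0 := by
      rw [sub_pow_char_pow, one_pow, ← map_pow, hv, map_add, map_one,
        (residue_eq_zero_iff x).mpr hx, add_zero, sub_self]
    exact pow_eq_zero_iff (pow_ne_zero n hp.ne_zero) |>.mp h1

end Groth.Agent.Helper7.UnitPow
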