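import Mathlib
import Groth.Agent.S2463
import Groth.Agent.Helper7.AugDer

set_option linter.style.haveILetI false
set_option linter.unusedSectionVars false
set_option autoImplicit false

universe u

namespace Groth.Agent.Helper7.UnitSm

open TensorProduct KaehlerDifferential


section tensorZero

variable {A : Type u} [CommRing A] (𝔞 : Ideal A) (κ : Type u) [AddCommGroup κ] [Module A κ]
  (hκ : ∀ i ∈ 𝔞, ∀ c : κ, i • c = 0) {M : Type u} [AddCommGroup M] [Module A M]

include hκ in
theorem tmul_eq_zero_of_mem_smul (c : κ) (m : M) (hm : m ∈ 𝔞 • (⊤ : Submodule A M)) :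
    c ⊗ₜ[A] m = 0 := by
  refine Submodule.smul_induction_on hm ?_ ?_
  · intro i hi n _
    rw [← smul_tmul, hκ i hi, zero_tmul]
  · intro x y hx hy
    rw [tmul_add, hx, hy, add_zero]

end tensorZero

section main

variable {R A : Type u} [CommRing R] [CommRing A] [Algebra R A] (ε : A →ₐ[R] R) (J : Ideal A)
  (hJI : J ≤ I ε)

/-- the natural map `J/J² → I/I²` -/
noncomputable def q2 : J.Cotangent →ₗ[A] (I ε).Cotangent :=
  Ideal.mapCotangent J (I ε) (AlgHom.id A A) hJI

theorem q2_toCotangent (x : J) :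
    q2 ε J hJI (J.toCotangent x) = (I ε).toCotangent ⟨x.1, hJI x.2⟩ := rfl

/-- the image of `J/J²` in `I/I²` -/
noncomputable def X : Submodule A (I ε).Cotangent := LinearMap.range (q2 ε J hJI)

theorem smul_cotangent_eq_zero (i : A) (hi : i ∈ I ε) (y : (I ε).Cotangent) : i • y = 0 := by
  obtain ⟨x, rfl⟩ := Ideal.toCotangent_surjective _ y
  rw [← map_smul, Ideal.toCotangent_eq_zero, pow_two]
  exact Ideal.mul_mem_mul hi x.2

theorem smul_eq_eps_smul (a : A) (y : (I ε).Cotangent) : a • y = ε a • y := by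
  have h := smul_cotangent_eq_zero ε _ (sub_mem_I ε a) y
  rw [sub_smul, sub_eq_zero, algebraMap_smul] at h
  exact h

theorem smul_eq_eps_smul_quot (a : A) (z : (I ε).Cotangent ⧸ X ε J hJI) : a • z = ε a • z := by
  obtain ⟨y, rfl⟩ := Submodule.Quotient.mk_surjective _ z
  rw [← Submodule.Quotient.mk_smul, ← Submodule.Quotient.mk_smul, smul_eq_eps_smul]

/-- the comparison `I/(J+I²) → (I/I²)/X` -/
noncomputable def psi :
    (↥(I ε) ⧸ Submodule.comap (I ε).subtype (J ⊔ I ε ^ 2)) →ₗ[A] (I ε).Cotangent ⧸ X ε J hJI :=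
  Submodule.liftQ _ ((X ε J hJI).mkQ.comp (I ε).toCotangent) (by
    intro x hx
    rw [Submodule.mem_comap] at hx
    obtain ⟨j, hj, w, hw, hjw⟩ := Submodule.mem_sup.mp hx
    rw [LinearMap.mem_ker, LinearMap.comp_apply, Submodule.mkQ_apply, Submodule.Quotient.mk_eq_zero]
    refine ⟨J.toCotangent ⟨j, hj⟩, ?_⟩
    rw [q2_toCotangent, Ideal.toCotangent_eq]
    have : ((⟨j, hJI hj⟩ : I ε) : A) - (x : A) = -w := by
      change j - (I ε).subtype x = -w
      rw [← hjw]; ring
    rw [this]
    exact Ideal.neg_mem_iff _ |>.mpr hw)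

theorem psi_mk (x : I ε) :
    psi ε J hJI (Submodule.Quotient.mk x) = Submodule.Quotient.mk ((I ε).toCotangent x) := rfl

theorem psi_bijective : Function.Bijective (psi ε J hJI) := by
  constructor
  · rw [injective_iff_map_eq_zero]
    intro z hz
    obtain ⟨x, rfl⟩ := Submodule.Quotient.mk_surjective _ z
    rw [psi_mk, Submodule.Quotient.mk_eq_zero] at hz
    obtain ⟨w, hw⟩ := hz
    obtain ⟨j, rfl⟩ := Ideal.toCotangent_surjective _ w
    rw [q2_toCotangent, Ideal.toCotangent_eq] at hw
    rw [Submodule.Quotient.mk_eq_zero, Submodule.mem_comap]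
    have : (I ε).subtype x = (j : A) + (-(((⟨j.1, hJI j.2⟩ : I ε) : A) - (x : A))) := by
      change (x : A) = _
      ring
    rw [this]
    exact Submodule.add_mem _ (Submodule.mem_sup_left j.2)
      (Submodule.mem_sup_right (Ideal.neg_mem_iff _ |>.mpr hw))
  · intro z
    obtain ⟨y, rfl⟩ := Submodule.Quotient.mk_surjective _ z
    obtain ⟨x, rfl⟩ := Ideal.toCotangent_surjective _ y
    exact ⟨Submodule.Quotient.mk x, rfl⟩

variable (hproj : Module.Projective R (↥(I ε) ⧸ Submodule.comap (I ε).subtype (J ⊔ I ε ^ 2)))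

include hproj in
theorem exists_retraction :
    ∃ ρ : (I ε).Cotangent →ₗ[A] X ε J hJI, ρ.comp (X ε J hJI).subtype = LinearMap.id := by
  haveI : Module.Projective R ((I ε).Cotangent ⧸ X ε J hJI) :=
    Module.Projective.of_equiv
      ((LinearEquiv.ofBijective (psi ε J hJI) (psi_bijective ε J hJI)).restrictScalars R)
  obtain ⟨s, hs⟩ := Module.projective_lifting_property
    ((X ε J hJI).mkQ.restrictScalars R) LinearMap.id (Submodule.mkQ_surjective _)
  have hs' : ∀ z, (X ε J hJI).mkQ (s z) = z := fun z => LinearMap.congr_fun hs z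
  let sA : ((I ε).Cotangent ⧸ X ε J hJI) →ₗ[A] (I ε).Cotangent :=
    { toFun := s
      map_add' := s.map_add
      map_smul' := fun a z => by
        rw [RingHom.id_apply, smul_eq_eps_smul_quot, smul_eq_eps_smul, s.map_smul] }
  refine ⟨LinearMap.codRestrict (X ε J hJI) (LinearMap.id - sA.comp (X ε J hJI).mkQ) ?_, ?_⟩
  · intro y
    rw [← Submodule.Quotient.mk_eq_zero, LinearMap.sub_apply, Submodule.Quotient.mk_sub]
    change (X ε J hJI).mkQ y - (X ε J hJI).mkQ (s ((X ε J hJI).mkQ y)) = 0
    rw [hs', sub_self]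
  · apply LinearMap.ext
    intro x
    apply Subtype.ext
    change (x : (I ε).Cotangent) - s ((X ε J hJI).mkQ (x : (I ε).Cotangent)) = x
    have : (X ε J hJI).mkQ (x : (I ε).Cotangent) = 0 := by
      rw [Submodule.mkQ_apply, Submodule.Quotient.mk_eq_zero]; exact x.2
    rw [this, map_zero, sub_zero]

end main

section final

variable {R A C : Type u} [CommRing R] [CommRing A] [CommRing C] [Algebra R A] [Algebra A C]
  [Algebra R C] [IsScalarTower R A C] (hsurj : Function.Surjective (algebraMap A C))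
  (ε : A →ₐ[R] R) (hJI : RingHom.ker (algebraMap A C) ≤ I ε)

/-- the ring map `C → A/I` -/
noncomputable def facRing : C →+* A ⧸ I ε :=
  (Ideal.Quotient.factor hJI).comp (RingHom.quotientKerEquivOfSurjective hsurj).symm.toRingHom

theorem facRing_algebraMap (a : A) :
    facRing hsurj ε hJI (algebraMap A C a) = Ideal.Quotient.mk (I ε) a := by
  unfold facRing
  rw [RingHom.comp_apply]
  change Ideal.Quotient.factor hJI ((RingHom.quotientKerEquivOfSurjective hsurj).symm
    (algebraMap A C a)) = _
  rw [RingHom.quotientKerEquivOfSurjective_symm_apply, Ideal.Quotient.factor_mk]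

/-- the `A`-linear map `C → A/I` -/
noncomputable def fac : C →ₗ[A] A ⧸ I ε where
  toFun := facRing hsurj ε hJI
  map_add' := map_add _
  map_smul' a c := by
    rw [RingHom.id_apply, Algebra.smul_def, map_mul, facRing_algebraMap, Algebra.smul_def]
    rfl

theorem fac_one : fac hsurj ε hJI 1 = 1 := map_one (facRing hsurj ε hJI)

/-- the retraction-type map `C ⊗ Ω → I/I²` -/
noncomputable def rmap : C ⊗[A] Ω[A⁄R] →ₗ[A] (I ε).Cotangent :=
  ((LinearMap.liftBaseChange (A ⧸ I ε) (der ε).liftKaehlerDifferential).restrictScalars A).comp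
    (LinearMap.rTensor Ω[A⁄R] (fac hsurj ε hJI))

theorem rmap_comp :
    (rmap hsurj ε hJI).comp (kerCotangentToTensor R A C) = q2 ε _ hJI := by
  apply LinearMap.ext
  intro z
  obtain ⟨x, rfl⟩ := Ideal.toCotangent_surjective _ z
  rw [LinearMap.comp_apply, kerCotangentToTensor_toCotangent, q2_toCotangent]
  unfold rmap
  rw [LinearMap.comp_apply, LinearMap.rTensor_tmul, fac_one, LinearMap.restrictScalars_apply,
    LinearMap.liftBaseChange_tmul, one_smul, Derivation.liftKaehlerDifferential_comp_D,
    der_apply_of_mem ε x.1 (hJI x.2)]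

variable (κ : Type u) [AddCommGroup κ] [Module A κ] (hκ : ∀ i ∈ I ε, ∀ c : κ, i • c = 0)
  (h2 : RingHom.ker (algebraMap A C) ⊓ I ε ^ 2 = I ε * RingHom.ker (algebraMap A C))
  (hproj : Module.Projective R
    (↥(I ε) ⧸ Submodule.comap (I ε).subtype (RingHom.ker (algebraMap A C) ⊔ I ε ^ 2)))

include hκ h2 in
theorem lTensor_rangeRestrict_injective :
    Function.Injective (LinearMap.lTensor κ (q2 ε _ hJI).rangeRestrict) := by
  rw [injective_iff_map_eq_zero]
  intro z hz
  have hex := lTensor_exact κ (LinearMap.exact_subtype_ker_map (q2 ε _ hJI).rangeRestrict)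
    (LinearMap.surjective_rangeRestrict _)
  obtain ⟨w, rfl⟩ := (hex z).mp hz
  have hzero : ∀ w : κ ⊗[A] LinearMap.ker (q2 ε _ hJI).rangeRestrict,
      LinearMap.lTensor κ (LinearMap.ker (q2 ε _ hJI).rangeRestrict).subtype w = 0 := by
    intro w
    induction w using TensorProduct.induction_on with
    | zero => rw [map_zero]
    | tmul c k =>
      rw [LinearMap.lTensor_tmul]
      apply tmul_eq_zero_of_mem_smul (I ε) κ hκ
      obtain ⟨k, hk⟩ := k
      obtain ⟨x, rfl⟩ := Ideal.toCotangent_surjective _ k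
      rw [LinearMap.mem_ker] at hk
      have hk' : q2 ε _ hJI ((RingHom.ker (algebraMap A C)).toCotangent x) = 0 :=
        congrArg Subtype.val hk
      rw [q2_toCotangent, Ideal.toCotangent_eq_zero] at hk'
      have hx : (x : A) ∈ I ε * RingHom.ker (algebraMap A C) := by
        rw [← h2]; exact ⟨x.2, hk'⟩
      have hx' : x ∈ I ε • (⊤ : Submodule A (RingHom.ker (algebraMap A C))) := by
        rw [Submodule.mem_smul_top_iff]
        exact hx
      change (RingHom.ker (algebraMap A C)).toCotangent x ∈ _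
      refine Submodule.smul_induction_on hx' ?_ ?_
      · intro i hi n _
        rw [map_smul]
        exact Submodule.smul_mem_smul hi Submodule.mem_top
      · intro u v hu hv
        rw [map_add]
        exact Submodule.add_mem _ hu hv
    | add u v hu hv => rw [map_add, hu, hv, add_zero]
  exact hzero w

include hproj in
theorem lTensor_subtype_injective :
    Function.Injective (LinearMap.lTensor κ (X ε _ hJI).subtype) := by
  obtain ⟨ρ, hρ⟩ := exists_retraction ε _ hJI hproj
  have : (LinearMap.lTensor κ ρ).comp (LinearMap.lTensor κ (X ε _ hJI).subtype) = LinearMap.id := by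
    rw [← LinearMap.lTensor_comp, hρ, LinearMap.lTensor_id]
  exact Function.LeftInverse.injective (g := LinearMap.lTensor κ ρ)
    (fun z => LinearMap.congr_fun this z)

include hsurj hJI hκ h2 hproj in
theorem lTensor_kerCotangentToTensor_injective :
    Function.Injective (LinearMap.lTensor κ (kerCotangentToTensor R A C)) := by
  have h1 : LinearMap.lTensor κ (q2 ε _ hJI) =
      (LinearMap.lTensor κ (X ε _ hJI).subtype).comp
        (LinearMap.lTensor κ (q2 ε _ hJI).rangeRestrict) := by
    rw [← LinearMap.lTensor_comp]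
    rfl
  have h3 : Function.Injective (LinearMap.lTensor κ (q2 ε _ hJI)) := by
    rw [h1]
    exact (lTensor_subtype_injective ε hJI κ hproj).comp
      (lTensor_rangeRestrict_injective ε hJI κ hκ h2)
  rw [← rmap_comp hsurj ε hJI, LinearMap.lTensor_comp] at h3
  exact Function.Injective.of_comp h3

end final

section statement

theorem main_generic {R A C : Type u} [CommRing R] [CommRing A] [CommRing C] [Algebra R A]
    [Algebra A C] [Algebra R C] [IsScalarTower R A C] [Algebra.Smooth R A]
    (hsurj : Function.Surjective (algebraMap A C)) (ε : A →ₐ[R] R) (J : Ideal A)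
    (hker : RingHom.ker (algebraMap A C) = J) (hJI : J ≤ RingHom.ker ε)
    (h1 : J.FG) (h2 : J ⊓ RingHom.ker ε ^ 2 = RingHom.ker ε * J)
    (h3 : Module.Projective R
      (↥(RingHom.ker ε) ⧸ Submodule.comap (RingHom.ker ε).subtype (J ⊔ RingHom.ker ε ^ 2)))
    (P : Ideal C) [P.IsPrime] (hP : (RingHom.ker ε).map (algebraMap A C) ≤ P) :
    Algebra.IsSmoothAt R P := by
  subst hker
  haveI : Module.Finite A (RingHom.ker (algebraMap A C)).Cotangent := by
    haveI : Module.Finite A ↥(RingHom.ker (algebraMap A C)) := Module.Finite.iff_fg.mpr h1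
    exact Module.Finite.of_surjective _ (Ideal.toCotangent_surjective _)
  have htfae := (Groth.Agent.S2463.result (A := R) (B := A) (C := C) hsurj P).out 0 1
  change Algebra.FormallySmooth R (Localization.AtPrime P)
  rw [htfae]
  have hκ : ∀ i ∈ I ε, ∀ c : P.ResidueField, i • c = 0 := by
    intro i hi c
    rw [Algebra.smul_def, IsScalarTower.algebraMap_apply A C P.ResidueField,
      Ideal.algebraMap_residueField_eq_zero.mpr (hP (Ideal.mem_map_of_mem _ hi)), zero_mul]
  exact lTensor_kerCotangentToTensor_injective hsurj ε hJI P.ResidueField hκ h2 h3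

theorem main (R A : Type u) [CommRing R] [CommRing A] [Algebra R A]
    [Algebra.Smooth R A] (ε : A →ₐ[R] R) (J : Ideal A) (hJI : J ≤ RingHom.ker ε)
    (h1 : J.FG)
    (h2 : J ⊓ RingHom.ker ε ^ 2 = RingHom.ker ε * J)
    (h3 : Module.Finite R (↥(RingHom.ker ε) ⧸ Submodule.comap (RingHom.ker ε).subtype (J ⊔ RingHom.ker ε ^ 2)) ∧
      Module.Projective R (↥(RingHom.ker ε) ⧸ Submodule.comap (RingHom.ker ε).subtype (J ⊔ RingHom.ker ε ^ 2)))
    (P : Ideal (A ⧸ J)) [P.IsPrime] (hP : (RingHom.ker ε).map (Ideal.Quotient.mk J) ≤ P) :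
    Algebra.IsSmoothAt R P :=
  main_generic (C := A ⧸ J) Ideal.Quotient.mk_surjective ε J Ideal.mk_ker hJI h1 h2 h3.2 P hP

end statement

end Groth.Agent.Helper7.UnitSm
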