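import Mathlib
import Groth.Prelude.Def_W4stkdualitygroupp2Univ
import Groth.Agent.Helper7.JacEt

set_option autoImplicit false
set_option linter.style.haveILetI false
set_option linter.unusedSectionVars false

namespace Groth.Agent.Helper7.UnivEt

open MvPolynomial Synt Algebra

variable (n d : ℕ)

/-- the index of the monomial `x_i` -/
def idxX (hd : 1 ≤ d) (i : Fin n) : UnivIdx n d :=
  ⟨fun k => if k = i then ⟨1, by omega⟩ else ⟨0, by omega⟩, by
    have : ∀ k : Fin n, ((if k = i then (⟨1, by omega⟩ : Fin (d + 1)) else ⟨0, by omega⟩ : Fin (d + 1)) : ℕ)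
        = if k = i then 1 else 0 := by
      intro k; split_ifs <;> rfl
    simp only [this]
    rw [Finset.sum_ite_eq' Finset.univ i]
    simpa using hd⟩

theorem exponent_idxX (hd : 1 ≤ d) (i : Fin n) :
    (idxX n d hd i).exponent = Finsupp.single i 1 := by
  ext k
  unfold UnivIdx.exponent idxX
  simp only [Finsupp.equivFunOnFinite_symm_apply_apply, Finsupp.single_apply]
  by_cases h : k = i
  · simp [h]
  · have : ¬ i = k := fun h' => h h'.symm
    simp [h, this]

theorem exponent_injective : Function.Injective (UnivIdx.exponent (n := n) (d := d)) := by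
  intro E E' h
  apply Subtype.ext
  funext k
  have := DFunLike.congr_fun h k
  unfold UnivIdx.exponent at this
  simp only [Finsupp.equivFunOnFinite_symm_apply_apply] at this
  exact Fin.ext this

/-- the specialization `a_{i,E} ↦ [E = e_i]` -/
noncomputable def ψ : UnivBase n d →+* ℤ :=
  (MvPolynomial.eval (fun p : Fin n × UnivIdx n d =>
    if p.2.exponent = Finsupp.single p.1 1 then (1 : ℤ) else 0))

theorem map_univPoly (hd : 1 ≤ d) (i : Fin n) :
    MvPolynomial.map (ψ n d) (univPoly n d i) = X i := by
  unfold univPoly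
  rw [map_sum]
  rw [Finset.sum_eq_single (idxX n d hd i)]
  · rw [MvPolynomial.map_monomial, exponent_idxX]
    unfold ψ
    rw [MvPolynomial.eval_X]
    simp only [exponent_idxX, if_true]
    rfl
  · intro E _ hE
    rw [MvPolynomial.map_monomial]
    unfold ψ
    rw [MvPolynomial.eval_X]
    have : ¬ E.exponent = Finsupp.single i 1 := by
      intro h
      apply hE
      apply exponent_injective
      rw [h, exponent_idxX]
    simp only [this, if_false]
    exact MvPolynomial.monomial_zero
  · intro h
    exact absurd (Finset.mem_univ _) h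

/-- the ring map to `ℚ` -/
noncomputable def Φ : MvPolynomial (Fin n) (UnivBase n d) →+* ℚ :=
  (MvPolynomial.eval₂Hom (Int.castRingHom ℚ) (fun _ : Fin n => (0 : ℚ))).comp
    (MvPolynomial.map (ψ n d))

theorem Φ_univPoly (hd : 1 ≤ d) (i : Fin n) : Φ n d (univPoly n d i) = 0 := by
  unfold Φ
  rw [RingHom.comp_apply, map_univPoly n d hd]
  simp

theorem Φ_pderiv (hd : 1 ≤ d) (i j : Fin n) :
    Φ n d (pderiv j (univPoly n d i)) = if i = j then 1 else 0 := by
  unfold Φ
  rw [RingHom.comp_apply, ← MvPolynomial.pderiv_map, map_univPoly n d hd, pderiv_X]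
  by_cases h : i = j
  · subst h
    simp
  · have : ¬ j = i := fun h' => h h'.symm
    simp [Pi.single_apply, h, this]

end Groth.Agent.Helper7.UnivEt
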