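import Mathlib
import Groth.Prelude.Def_W4stkdualitygroupp2Univ
import Groth.Agent.Helper7.JacEt
import Groth.Agent.Helper7.UnivEt

set_option autoImplicit false
set_option linter.style.haveILetI false
set_option linter.unusedSectionVars false

namespace Groth.Agent.Helper7.UnivEt

open MvPolynomial Synt Algebra

variable (n d : ℕ)

/-- The quotient ring underlying `UnivAlg`. -/
abbrev Q : Type := MvPolynomial (Fin n) (UnivBase n d) ⧸ univIdeal n d

/-- the naive presentation -/
noncomputable def pres : PreSubmersivePresentation (UnivBase n d) (Q n d) (Fin n) (Fin n) :=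
  PreSubmersivePresentation.naive (v := univPoly n d) id Function.injective_id

theorem pres_dimension : (pres n d).dimension = 0 := by
  simp [Algebra.Presentation.dimension]

/-- the map `Q → ℚ` -/
noncomputable def φ (hd : 1 ≤ d) : Q n d →+* ℚ :=
  Ideal.Quotient.lift (univIdeal n d) (Φ n d) (by
    intro a ha
    have hle : univIdeal n d ≤ RingHom.ker (Φ n d) := by
      unfold univIdeal
      rw [Ideal.span_le]
      rintro _ ⟨i, rfl⟩
      exact Φ_univPoly n d hd i
    exact hle ha)

theorem φ_jacobian (hd : 1 ≤ d) : φ n d hd (pres n d).jacobian = 1 := by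
  classical
  rw [PreSubmersivePresentation.jacobian_eq_jacobiMatrix_det]
  have h1 : algebraMap (pres n d).Ring (Q n d) (pres n d).jacobiMatrix.det =
      Ideal.Quotient.mk (univIdeal n d) (pres n d).jacobiMatrix.det := rfl
  rw [h1]
  unfold φ
  rw [Ideal.Quotient.lift_mk, RingHom.map_det]
  have : (Φ n d).mapMatrix (pres n d).jacobiMatrix = 1 := by
    ext i j
    rw [RingHom.mapMatrix_apply, Matrix.map_apply]
    unfold pres
    rw [PreSubmersivePresentation.jacobiMatrix_naive, Φ_pderiv n d hd]
    simp [Matrix.one_apply, eq_comm]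
  rw [this, Matrix.det_one]

/-- identification with `UnivAlg` -/
noncomputable def eqv : Q n d ≃ₐ[UnivBase n d] UnivAlg n d := AlgEquiv.refl

/-- the presentation of `UnivAlg` -/
noncomputable def pres' : PreSubmersivePresentation (UnivBase n d) (UnivAlg n d) (Fin n) (Fin n) :=
  (pres n d).ofAlgEquiv (eqv n d)

theorem pres'_dimension : (pres' n d).dimension = 0 := by
  simp [Algebra.Presentation.dimension]

/-- the map `UnivAlg → ℚ` -/
noncomputable def φ' (hd : 1 ≤ d) : UnivAlg n d →+* ℚ :=
  (φ n d hd).comp (eqv n d).symm.toRingEquiv.toRingHom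

theorem φ'_jacobian (hd : 1 ≤ d) : φ' n d hd (pres' n d).jacobian = 1 := by
  unfold pres' φ'
  rw [PreSubmersivePresentation.jacobian_ofAlgEquiv, RingHom.comp_apply]
  have : (eqv n d).symm.toRingEquiv.toRingHom ((eqv n d) (pres n d).jacobian) = (pres n d).jacobian :=
    (eqv n d).symm_apply_apply _
  rw [this, φ_jacobian]

theorem s8973 (hd : 1 ≤ d) :
    ∃ q : PrimeSpectrum (Synt.UnivAlg n d), Algebra.QuasiFiniteAt (Synt.UnivBase n d) q.asIdeal ∧
      Algebra.IsEtaleAt (Synt.UnivBase n d) q.asIdeal := by
  haveI : (RingHom.ker (φ' n d hd)).IsPrime := RingHom.ker_isPrime _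
  let q : PrimeSpectrum (UnivAlg n d) := ⟨RingHom.ker (φ' n d hd), inferInstance⟩
  haveI het : Algebra.Etale (UnivBase n d) (Localization.Away (pres' n d).jacobian) :=
    Groth.Agent.Helper7.JacEt.etale_away (pres' n d) (pres'_dimension n d)
  have hsub := (Algebra.basicOpen_subset_etaleLocus_iff (R := UnivBase n d) (A := UnivAlg n d)
    (f := (pres' n d).jacobian)).2 inferInstance
  have hq : q ∈ (PrimeSpectrum.basicOpen (pres' n d).jacobian : Set (PrimeSpectrum (UnivAlg n d))) := by
    show (pres' n d).jacobian ∉ RingHom.ker (φ' n d hd)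
    rw [RingHom.mem_ker, φ'_jacobian]
    exact one_ne_zero
  have hetq : Algebra.IsEtaleAt (UnivBase n d) q.asIdeal := hsub hq
  refine ⟨q, ?_, hetq⟩
  haveI : Algebra.FormallyEtale (UnivBase n d) (Localization.AtPrime q.asIdeal) := hetq
  haveI : Algebra.FiniteType (UnivBase n d) (UnivAlg n d) :=
    Algebra.FiniteType.of_surjective (UnivAlg.mk n d) Ideal.Quotient.mk_surjective
  haveI : Algebra.EssFiniteType (UnivBase n d) (Localization.AtPrime q.asIdeal) :=
    Algebra.EssFiniteType.comp (UnivBase n d) (UnivAlg n d) _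
  show Algebra.QuasiFinite (UnivBase n d) (Localization.AtPrime q.asIdeal)
  infer_instance

end Groth.Agent.Helper7.UnivEt
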