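import Mathlib
import Groth.Prelude.Def_W4stkdualitygroupp2Univ
import Groth.Agent.Helper7.UnivEt2

set_option autoImplicit false
set_option linter.style.haveILetI false
set_option linter.unusedSectionVars false

namespace Groth.Agent.Helper7.UnivEt

open MvPolynomial Synt Algebra

variable (n d : ℕ)

/-- the zero exponent -/
def E0 : UnivIdx n d := ⟨fun _ => 0, by simp⟩

theorem exponent_E0 : (E0 n d).exponent = 0 := by
  ext k
  unfold UnivIdx.exponent E0
  simp

/-- the remaining coefficient variables -/
abbrev I' : Type := {p : Fin n × UnivIdx n d // p.2 ≠ E0 n d}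

/-- the target polynomial ring -/
abbrev T : Type := MvPolynomial (Fin n) (MvPolynomial (I' n d) ℤ)

/-- the non-constant terms of `f_i` in `T` -/
noncomputable def r (i : Fin n) (E : UnivIdx n d) : T n d :=
  if h : E ≠ E0 n d then monomial E.exponent (X ⟨(i, E), h⟩) else 0

noncomputable def rest (i : Fin n) : T n d := ∑ E : UnivIdx n d, r n d i E

theorem r_E0 (i : Fin n) : r n d i (E0 n d) = 0 := by
  unfold r
  simp

/-- images of the coefficient variables -/
noncomputable def a₀ (p : Fin n × UnivIdx n d) : T n d :=
  if h : p.2 ≠ E0 n d then C (X ⟨p, h⟩) else - rest n d p.1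

noncomputable def α₀ : UnivBase n d →+* T n d :=
  MvPolynomial.eval₂Hom (Int.castRingHom (T n d)) (a₀ n d)

noncomputable def α : MvPolynomial (Fin n) (UnivBase n d) →+* T n d :=
  MvPolynomial.eval₂Hom (α₀ n d) X

theorem α_monomial (i : Fin n) (E : UnivIdx n d) :
    α n d (monomial E.exponent (X (i, E))) =
      r n d i E + if E = E0 n d then - rest n d i else 0 := by
  unfold α
  rw [MvPolynomial.coe_eval₂Hom, MvPolynomial.eval₂_monomial]
  unfold α₀
  rw [MvPolynomial.coe_eval₂Hom, MvPolynomial.eval₂_X]
  unfold a₀ r
  by_cases h : E = E0 n d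
  · subst h
    simp [exponent_E0]
  · simp only [ne_eq, h, not_false_eq_true, dite_true, if_false, add_zero]
    rw [MvPolynomial.monomial_eq]

theorem α_univPoly (i : Fin n) : α n d (univPoly n d i) = 0 := by
  unfold univPoly
  rw [map_sum]
  simp only [α_monomial]
  rw [Finset.sum_add_distrib, Finset.sum_ite_eq' Finset.univ (E0 n d)]
  simp [rest]

end Groth.Agent.Helper7.UnivEt
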