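import Mathlib
import Groth.Prelude.Def_W4stkdualitygroupp2Univ
import Groth.Agent.Helper7.UnivReg

set_option autoImplicit false
set_option linter.style.haveILetI false
set_option linter.unusedSectionVars false

namespace Groth.Agent.Helper7.UnivEt

open MvPolynomial Synt Algebra

variable (n d : ℕ)

/-- the induced map on the quotient -/
noncomputable def αbar : Q n d →+* T n d :=
  Ideal.Quotient.lift (univIdeal n d) (α n d) (by
    intro a ha
    have hle : univIdeal n d ≤ RingHom.ker (α n d) := by
      unfold univIdeal
      rw [Ideal.span_le]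
      rintro _ ⟨i, rfl⟩
      exact α_univPoly n d i
    exact hle ha)

noncomputable def β₀ : MvPolynomial (I' n d) ℤ →+* Q n d :=
  MvPolynomial.eval₂Hom (Int.castRingHom (Q n d))
    (fun p => Ideal.Quotient.mk (univIdeal n d) (C (X p.1)))

noncomputable def β : T n d →+* Q n d :=
  MvPolynomial.eval₂Hom (β₀ n d) (fun j => Ideal.Quotient.mk (univIdeal n d) (X j))

theorem β_r (i : Fin n) (E : UnivIdx n d) (h : E ≠ E0 n d) :
    β n d (r n d i E) = Ideal.Quotient.mk (univIdeal n d) (monomial E.exponent (X (i, E))) := by
  unfold r β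
  simp only [ne_eq, h, not_false_eq_true, dite_true]
  rw [MvPolynomial.coe_eval₂Hom, MvPolynomial.eval₂_monomial]
  unfold β₀
  rw [MvPolynomial.coe_eval₂Hom, MvPolynomial.eval₂_X]
  rw [MvPolynomial.monomial_eq (s := E.exponent) (a := (X (i, E) : UnivBase n d)), map_mul, map_finsuppProd]
  simp only [map_pow]

theorem β_rest (i : Fin n) :
    β n d (rest n d i) = - Ideal.Quotient.mk (univIdeal n d) (C (X (i, E0 n d))) := by
  have h0 : Ideal.Quotient.mk (univIdeal n d) (univPoly n d i) = 0 :=
    Ideal.Quotient.eq_zero_iff_mem.2 (Ideal.subset_span ⟨i, rfl⟩)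
  unfold univPoly at h0
  rw [map_sum, ← Finset.add_sum_erase Finset.univ _ (Finset.mem_univ (E0 n d)), exponent_E0] at h0
  have h1 : β n d (rest n d i) = ∑ E ∈ Finset.univ.erase (E0 n d),
      Ideal.Quotient.mk (univIdeal n d) (monomial E.exponent (X (i, E))) := by
    unfold rest
    rw [map_sum, ← Finset.add_sum_erase Finset.univ _ (Finset.mem_univ (E0 n d)), r_E0, map_zero,
      zero_add]
    refine Finset.sum_congr rfl fun E hE => ?_
    exact β_r n d i E (Finset.ne_of_mem_erase hE)
  rw [h1]
  have h2 : (monomial 0 (X (i, E0 n d)) : MvPolynomial (Fin n) (UnivBase n d)) = C (X (i, E0 n d)) := rfl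
  rw [h2] at h0
  exact eq_neg_of_add_eq_zero_right h0

theorem β_αbar : (β n d).comp (αbar n d) = RingHom.id _ := by
  apply Ideal.Quotient.ringHom_ext
  apply MvPolynomial.ringHom_ext
  · intro a
    -- both sides are ring homs in `a`
    have : ((β n d).comp (αbar n d)).comp ((Ideal.Quotient.mk (univIdeal n d)).comp C) =
        ((RingHom.id _).comp (Ideal.Quotient.mk (univIdeal n d))).comp C := by
      apply MvPolynomial.ringHom_ext
      · intro z
        simp
      · intro p
        simp only [RingHom.comp_apply, RingHom.id_apply]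
        unfold αbar
        rw [Ideal.Quotient.lift_mk]
        unfold α
        rw [MvPolynomial.coe_eval₂Hom, MvPolynomial.eval₂_C]
        unfold α₀
        rw [MvPolynomial.coe_eval₂Hom, MvPolynomial.eval₂_X]
        unfold a₀
        by_cases h : p.2 = E0 n d
        · simp only [ne_eq, h, not_true_eq_false, dite_false, map_neg]
          rw [β_rest, neg_neg]
          rcases p with ⟨i, E⟩
          simp only at h
          subst h
          rfl
        · simp only [ne_eq, h, not_false_eq_true, dite_true]
          unfold β
          rw [MvPolynomial.coe_eval₂Hom, MvPolynomial.eval₂_C]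
          unfold β₀
          rw [MvPolynomial.coe_eval₂Hom, MvPolynomial.eval₂_X]
    exact RingHom.congr_fun this a
  · intro j
    simp only [RingHom.comp_apply, RingHom.id_apply]
    unfold αbar
    rw [Ideal.Quotient.lift_mk]
    unfold α
    rw [MvPolynomial.coe_eval₂Hom, MvPolynomial.eval₂_X]
    unfold β
    rw [MvPolynomial.coe_eval₂Hom, MvPolynomial.eval₂_X]

theorem αbar_β : (αbar n d).comp (β n d) = RingHom.id _ := by
  apply MvPolynomial.ringHom_ext
  · intro a
    have : ((αbar n d).comp (β n d)).comp C = (RingHom.id _).comp C := by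
      apply MvPolynomial.ringHom_ext
      · intro z
        simp
      · intro p
        simp only [RingHom.comp_apply, RingHom.id_apply]
        unfold β
        rw [MvPolynomial.coe_eval₂Hom, MvPolynomial.eval₂_C]
        unfold β₀
        rw [MvPolynomial.coe_eval₂Hom, MvPolynomial.eval₂_X]
        unfold αbar
        rw [Ideal.Quotient.lift_mk]
        unfold α
        rw [MvPolynomial.coe_eval₂Hom, MvPolynomial.eval₂_C]
        unfold α₀
        rw [MvPolynomial.coe_eval₂Hom, MvPolynomial.eval₂_X]
        unfold a₀
        have h := p.2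
        simp only [ne_eq, h, not_false_eq_true, dite_true]
    exact RingHom.congr_fun this a
  · intro j
    simp only [RingHom.comp_apply, RingHom.id_apply]
    unfold β
    rw [MvPolynomial.coe_eval₂Hom, MvPolynomial.eval₂_X]
    unfold αbar
    rw [Ideal.Quotient.lift_mk]
    unfold α
    rw [MvPolynomial.coe_eval₂Hom, MvPolynomial.eval₂_X]

/-- the universal algebra is a polynomial ring over `ℤ` -/
noncomputable def equivT : UnivAlg n d ≃+* T n d :=
  (eqv n d).symm.toRingEquiv.trans
    (RingEquiv.ofRingHom (αbar n d) (β n d) (αbar_β n d) (β_αbar n d))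

theorem s8972 : IsDomain (Synt.UnivAlg n d) ∧
    ∀ q : PrimeSpectrum (Synt.UnivAlg n d), IsRegularLocalRing (Localization.AtPrime q.asIdeal) := by
  haveI : IsRegularRing ℤ := inferInstance
  haveI : IsRegularRing (MvPolynomial (I' n d) ℤ) := inferInstance
  haveI : IsRegularRing (T n d) := inferInstance
  haveI hreg : IsRegularRing (UnivAlg n d) := IsRegularRing.of_ringEquiv (equivT n d).symm
  refine ⟨(equivT n d).toMulEquiv.isDomain (T n d), fun q => ?_⟩
  exact IsRegularRing.isRegularLocalRing_localization q.asIdeal

end Groth.Agent.Helper7.UnivEt
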