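import Mathlib

set_option autoImplicit false

/-!
# Dense extensions of valuation rings: approximation lemmas
-/

namespace Groth.Agent.Helper7.VDense

section Approx

variable {A K A' K' : Type*} [CommRing A] [IsDomain A] [ValuationRing A] [Field K] [Algebra A K]
  [IsFractionRing A K]
  [CommRing A'] [IsDomain A'] [ValuationRing A'] [Field K'] [Algebra A' K'] [IsFractionRing A' K']
  [Algebra A A'] [Algebra K K'] [Algebra A K'] [IsScalarTower A A' K'] [IsScalarTower A K K']

/-- density implies `K' = K + A'` -/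
theorem exists_approx
    (hdense : ∀ a' b' : A', b' ≠ 0 → ∃ a : A, b' ∣ a' - algebraMap A A' a) (c : K') :
    ∃ (κ : K) (r : A'), c = algebraMap K K' κ + algebraMap A' K' r := by
  rcases ValuationRing.isInteger_or_isInteger A' c with ⟨r, hr⟩ | ⟨d', hd'⟩
  · exact ⟨0, r, by rw [map_zero, zero_add, hr]⟩
  · by_cases hc : c = 0
    · exact ⟨0, 0, by rw [map_zero, map_zero, zero_add, hc]⟩
    have hd'ne : d' ≠ 0 := by
      rintro rfl
      rw [map_zero] at hd'
      exact hc (inv_eq_zero.1 hd'.symm)
    have hD'ne : algebraMap A' K' d' ≠ 0 := by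
      rw [hd']
      exact inv_ne_zero hc
    by_cases hu : IsUnit d'
    · obtain ⟨u, rfl⟩ := hu
      refine ⟨0, ((u⁻¹ : A'ˣ) : A'), ?_⟩
      rw [map_zero, zero_add]
      have h1 : algebraMap A' K' (u : A') * algebraMap A' K' ((u⁻¹ : A'ˣ) : A') = 1 := by
        rw [← map_mul, Units.mul_inv, map_one]
      have h2 : c = (algebraMap A' K' (u : A'))⁻¹ := by rw [hd', inv_inv]
      rw [h2]
      exact (eq_inv_of_mul_eq_one_right h1).symm
    · obtain ⟨d, s, hs⟩ := hdense d' (d' ^ 2) (pow_ne_zero _ hd'ne)
      -- `algebraMap d = d' (1 - d' s)`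
      have hd : algebraMap A A' d = d' * (1 - d' * s) := by
        have : algebraMap A A' d = d' - d' ^ 2 * s := by rw [← hs]; ring
        rw [this]; ring
      have hunit : IsUnit (1 - d' * s) := by
        apply IsLocalRing.isUnit_one_sub_self_of_mem_nonunits
        exact fun h => hu (isUnit_of_mul_isUnit_left h)
      obtain ⟨u, hu'⟩ := hunit
      refine ⟨(algebraMap A K d)⁻¹, -(s * ((u⁻¹ : A'ˣ) : A')), ?_⟩
      have hUW : algebraMap A' K' (u : A') * algebraMap A' K' ((u⁻¹ : A'ˣ) : A') = 1 := by
        rw [← map_mul, Units.mul_inv, map_one]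
      have hU : algebraMap A' K' (u : A') = 1 - algebraMap A' K' d' * algebraMap A' K' s := by
        rw [hu', map_sub, map_one, map_mul]
      have hdK : algebraMap K K' (algebraMap A K d) =
          algebraMap A' K' d' * algebraMap A' K' (u : A') := by
        rw [← IsScalarTower.algebraMap_apply A K K', IsScalarTower.algebraMap_apply A A' K', hd,
          map_mul, hu']
      have hUne : algebraMap A' K' (u : A') ≠ 0 := left_ne_zero_of_mul_eq_one hUW
      have hc' : c = (algebraMap A' K' d')⁻¹ := by rw [hd', inv_inv]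
      rw [map_inv₀, hdK, hc', map_neg, map_mul]
      have hW : algebraMap A' K' ((u⁻¹ : A'ˣ) : A') = (algebraMap A' K' (u : A'))⁻¹ :=
        eq_inv_of_mul_eq_one_right hUW
      rw [hW]
      field_simp
      rw [hU]
      ring

/-- `K ∩ A' = A` when `A'` dominates `A` -/
theorem mem_range_of_mem_range [IsLocalHom (algebraMap A A')] (κ : K) (a' : A')
    (h : algebraMap K K' κ = algebraMap A' K' a') : ∃ a : A, algebraMap A K a = κ := by
  rcases ValuationRing.isInteger_or_isInteger A κ with ⟨a, ha⟩ | ⟨a, ha⟩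
  · exact ⟨a, ha⟩
  · by_cases hκ : κ = 0
    · exact ⟨0, by rw [map_zero, hκ]⟩
    have h1 : algebraMap A' K' (algebraMap A A' a * a') = 1 := by
      rw [map_mul, ← IsScalarTower.algebraMap_apply A A' K', IsScalarTower.algebraMap_apply A K K',
        ha, ← h, ← map_mul, inv_mul_cancel₀ hκ, map_one]
    have h2 : algebraMap A A' a * a' = 1 := by
      apply IsFractionRing.injective A' K'
      rw [h1, map_one]
    have h3 : IsUnit (algebraMap A A' a) := isUnit_iff_exists_inv.2 ⟨a', h2⟩
    have h4 : IsUnit a := isUnit_of_map_unit (algebraMap A A') a h3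
    obtain ⟨u, rfl⟩ := h4
    refine ⟨((u⁻¹ : Aˣ) : A), ?_⟩
    have h5 : algebraMap A K (u : A) * algebraMap A K ((u⁻¹ : Aˣ) : A) = 1 := by
      rw [← map_mul, Units.mul_inv, map_one]
    rw [eq_inv_of_mul_eq_one_right h5, ha, inv_inv]

end Approx

end Groth.Agent.Helper7.VDense
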