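import Mathlib
import Groth.Agent.Helper7.VDenseA

set_option autoImplicit false

/-!
# Integrality descends from `K' ⊗[K] L` to `L` along `A ⊆ A'`
-/

namespace Groth.Agent.Helper7.VDense

open TensorProduct Polynomial

section Int

variable {A K L A' K' : Type*} [CommRing A] [IsDomain A] [ValuationRing A] [Field K] [Algebra A K]
  [IsFractionRing A K] [Field L] [Algebra K L] [Algebra A L] [IsScalarTower A K L]
  [CommRing A'] [IsDomain A'] [ValuationRing A'] [Field K'] [Algebra A' K'] [IsFractionRing A' K']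
  [Algebra A A'] [Algebra K K'] [Algebra A K'] [IsScalarTower A A' K'] [IsScalarTower A K K']

variable (K L A' K') in
/-- the structure map `A' → K' ⊗[K] L` -/
noncomputable def φ₀ : A' →+* K' ⊗[K] L :=
  (Algebra.TensorProduct.includeLeft : K' →ₐ[K] K' ⊗[K] L).toRingHom.comp (algebraMap A' K')

theorem φ₀_apply (r : A') : φ₀ K L A' K' r = algebraMap A' K' r ⊗ₜ[K] (1 : L) := rfl

theorem φ₀_comp :
    (φ₀ K L A' K').comp (algebraMap A A') =
      ((Algebra.TensorProduct.includeRight : L →ₐ[K] K' ⊗[K] L).toRingHom).comp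
        (algebraMap A L) := by
  ext a
  show algebraMap A' K' (algebraMap A A' a) ⊗ₜ[K] (1 : L) = (1 : K') ⊗ₜ[K] algebraMap A L a
  rw [← IsScalarTower.algebraMap_apply A A' K', IsScalarTower.algebraMap_apply A K K',
    IsScalarTower.algebraMap_apply A K L, Algebra.algebraMap_eq_smul_one (A := K'),
    Algebra.algebraMap_eq_smul_one (A := L), TensorProduct.smul_tmul]

/-- `1 ⊗ e` is integral over `A'` when `e` is integral over `A` -/
theorem isIntegralElem_one_tmul {e : L} (he : IsIntegral A e) :
    (φ₀ K L A' K').IsIntegralElem ((1 : K') ⊗ₜ[K] e) := by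
  obtain ⟨P, hP, hPe⟩ := he
  refine ⟨P.map (algebraMap A A'), hP.map _, ?_⟩
  rw [eval₂_map, φ₀_comp]
  have := Polynomial.hom_eval₂ P (algebraMap A L)
    ((Algebra.TensorProduct.includeRight : L →ₐ[K] K' ⊗[K] L).toRingHom) e
  rw [hPe, map_zero] at this
  exact this.symm

/-- descent of integrality -/
theorem isIntegral_of_eval₂_eq_zero [IsLocalHom (algebraMap A A')] [Algebra.IsAlgebraic K L]
    (y : L) (P : A'[X]) (hP : P.Monic)
    (hPy : eval₂ (φ₀ K L A' K') ((1 : K') ⊗ₜ[K] y) P = 0) : IsIntegral A y := by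
  have hyK : IsIntegral K y := Algebra.IsIntegral.isIntegral y
  set μ := minpoly K y with hμ
  have hμmon : μ.Monic := minpoly.monic hyK
  set μ' := μ.map (algebraMap K K') with hμ'
  have hμ'mon : μ'.Monic := hμmon.map _
  set P' := P.map (algebraMap A' K') with hP'
  -- evaluation facts
  have hev1 : aeval ((1 : K') ⊗ₜ[K] y) P' = 0 := by
    rw [hP', aeval_def, eval₂_map]
    exact hPy
  have hev2 : aeval ((1 : K') ⊗ₜ[K] y) μ' = 0 := by
    rw [hμ', aeval_map_algebraMap]
    have := Polynomial.aeval_algHom_apply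
      (Algebra.TensorProduct.includeRight : L →ₐ[K] K' ⊗[K] L) y μ
    rw [minpoly.aeval, map_zero] at this
    exact this
  -- divisibility
  have hdvd : μ' ∣ P' := by
    rw [← modByMonic_eq_zero_iff_dvd hμ'mon]
    set r := P' %ₘ μ' with hr
    have hr0 : aeval ((1 : K') ⊗ₜ[K] y) r = 0 := by
      have h1 := modByMonic_add_div P' μ'
      have h2 := congrArg (aeval ((1 : K') ⊗ₜ[K] y)) h1
      rw [map_add, map_mul, hev2, zero_mul, add_zero, hev1] at h2
      exact h2
    by_contra hrne
    have hdeg : r.natDegree < μ.natDegree := by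
      have h1 := degree_modByMonic_lt P' hμ'mon
      have h2 : μ'.natDegree = μ.natDegree := natDegree_map _
      rw [← h2]
      exact (natDegree_lt_natDegree_iff hrne).2 h1
    have hli := Module.Flat.linearIndependent_one_tmul (S := K') (_root_.linearIndependent_pow
      (K := K) y)
    rw [Fintype.linearIndependent_iff] at hli
    have hsum : ∑ i : Fin μ.natDegree, r.coeff i • ((1 : K') ⊗ₜ[K] (y ^ (i : ℕ))) = 0 := by
      rw [← hr0]
      conv_rhs => rw [as_sum_range' r μ.natDegree hdeg]
      rw [map_sum, ← Fin.sum_univ_eq_sum_range (fun i => aeval ((1 : K') ⊗ₜ[K] y)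
        (monomial i (r.coeff i)))]
      apply Finset.sum_congr rfl
      intro i _
      rw [aeval_monomial, Algebra.TensorProduct.tmul_pow, one_pow, Algebra.smul_def]
    have hc := hli (fun i => r.coeff i) hsum
    apply hrne
    ext j
    rw [coeff_zero]
    by_cases hj : j < μ.natDegree
    · exact hc ⟨j, hj⟩
    · exact coeff_eq_zero_of_natDegree_lt (lt_of_lt_of_le hdeg (not_lt.1 hj))
  -- Gauss lemma
  obtain ⟨g', hg'⟩ := IsIntegrallyClosed.eq_map_mul_C_of_dvd K' hP hdvd
  rw [hμ'mon.leadingCoeff, C_1, mul_one] at hg'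
  -- coefficients descend to `A`
  have hlifts : μ ∈ lifts (algebraMap A K) := by
    rw [lifts_iff_coeff_lifts]
    intro j
    have h1 : algebraMap K K' (μ.coeff j) = algebraMap A' K' (g'.coeff j) := by
      rw [← coeff_map, ← coeff_map, hg']
    obtain ⟨a, ha⟩ := mem_range_of_mem_range (A := A) (A' := A') (μ.coeff j) (g'.coeff j) h1
    exact ⟨a, ha⟩
  obtain ⟨q, hq, -, hqmon⟩ := lifts_and_natDegree_eq_and_monic hlifts hμmon
  refine ⟨q, hqmon, ?_⟩
  rw [IsScalarTower.algebraMap_eq A K L, ← eval₂_map, hq]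
  exact minpoly.aeval K y

end Int

end Groth.Agent.Helper7.VDense
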