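import Mathlib
import Groth.Agent.Helper7.VDenseB

set_option autoImplicit false

/-!
# Integral closure of a dense extension of valuation rings in `(K' ⊗[K] L)_red`
-/

namespace Groth.Agent.Helper7.VDense

open TensorProduct Polynomial

section Main

variable {A K L A' K' : Type*} [CommRing A] [IsDomain A] [ValuationRing A] [Field K] [Algebra A K]
  [IsFractionRing A K] [Field L] [Algebra K L] [Algebra A L] [IsScalarTower A K L]
  [CommRing A'] [IsDomain A'] [ValuationRing A'] [Field K'] [Algebra A' K'] [IsFractionRing A' K']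
  [Algebra A A'] [Algebra K K'] [Algebra A K'] [IsScalarTower A A' K'] [IsScalarTower A K K']

variable (A K L A' K') in
/-- sums of `a' ⊗ l` with `l` integral over `A` -/
def S : AddSubmonoid (K' ⊗[K] L) :=
  AddSubmonoid.closure {z | ∃ (r : A') (e : L), IsIntegral A e ∧ z = algebraMap A' K' r ⊗ₜ[K] e}

theorem isIntegralElem_of_mem_S {s : K' ⊗[K] L} (hs : s ∈ S A K L A' K') :
    (φ₀ K L A' K').IsIntegralElem s := by
  induction hs using AddSubmonoid.closure_induction with
  | mem z hz =>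
    obtain ⟨r, e, he, rfl⟩ := hz
    have h1 : algebraMap A' K' r ⊗ₜ[K] e = φ₀ K L A' K' r * ((1 : K') ⊗ₜ[K] e) := by
      rw [φ₀_apply, Algebra.TensorProduct.tmul_mul_tmul, mul_one, one_mul]
    rw [h1]
    exact RingHom.IsIntegralElem.mul _ (RingHom.isIntegralElem_map _) (isIntegralElem_one_tmul he)
  | zero => exact (φ₀ K L A' K').isIntegralElem_zero
  | add x y _ _ hx hy => exact RingHom.IsIntegralElem.add _ hx hy

theorem exists_fin_of_mem_S {s : K' ⊗[K] L} (hs : s ∈ S A K L A' K') :
    ∃ (n : ℕ) (a : Fin n → A') (l : Fin n → L), (∀ i, IsIntegral A (l i)) ∧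
      s = ∑ i, algebraMap A' K' (a i) ⊗ₜ[K] l i := by
  induction hs using AddSubmonoid.closure_induction with
  | mem z hz =>
    obtain ⟨r, e, he, rfl⟩ := hz
    refine ⟨1, fun _ => r, fun _ => e, fun _ => he, ?_⟩
    rw [Fin.sum_univ_one]
  | zero => exact ⟨0, Fin.elim0, Fin.elim0, fun i => i.elim0, by rw [Fin.sum_univ_zero]⟩
  | add x y _ _ hx hy =>
    obtain ⟨n, a, l, hl, rfl⟩ := hx
    obtain ⟨m, b, l', hl', rfl⟩ := hy
    refine ⟨n + m, Fin.append a b, Fin.append l l', ?_, ?_⟩
    · intro i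
      refine Fin.addCases (fun j => ?_) (fun j => ?_) i
      · rw [Fin.append_left]
        exact hl j
      · rw [Fin.append_right]
        exact hl' j
    · rw [Fin.sum_univ_add]
      congr 1
      · apply Finset.sum_congr rfl
        intro i _
        rw [Fin.append_left, Fin.append_left]
      · apply Finset.sum_congr rfl
        intro i _
        rw [Fin.append_right, Fin.append_right]

theorem exists_decomp [Algebra.IsAlgebraic K L]
    (hdense : ∀ a' b' : A', b' ≠ 0 → ∃ a : A, b' ∣ a' - algebraMap A A' a) (w : K' ⊗[K] L) :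
    ∃ (y : L) (s : K' ⊗[K] L), s ∈ S A K L A' K' ∧ w = (1 : K') ⊗ₜ[K] y + s := by
  induction w using TensorProduct.induction_on with
  | zero => exact ⟨0, 0, zero_mem _, by rw [tmul_zero, add_zero]⟩
  | tmul c l =>
    have hl : IsAlgebraic A l :=
      (IsFractionRing.isAlgebraic_iff A K L).2 (Algebra.IsAlgebraic.isAlgebraic l)
    obtain ⟨a, ha, hint⟩ := IsAlgebraic.exists_integral_multiple hl
    have hα : algebraMap A K a ≠ 0 := by
      intro h
      exact ha ((IsFractionRing.injective A K) (by rw [h, map_zero]))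
    have h1 : l = (algebraMap A K a)⁻¹ • (a • l) := by
      rw [← algebraMap_smul K a l, smul_smul, inv_mul_cancel₀ hα, one_smul]
    obtain ⟨κ, r, hκr⟩ := exists_approx (A := A) (K := K) hdense ((algebraMap A K a)⁻¹ • c)
    refine ⟨κ • (a • l), algebraMap A' K' r ⊗ₜ[K] (a • l),
      AddSubmonoid.subset_closure ⟨r, a • l, hint, rfl⟩, ?_⟩
    conv_lhs => rw [h1]
    rw [← TensorProduct.smul_tmul, hκr, add_tmul, Algebra.algebraMap_eq_smul_one (A := K'),
      TensorProduct.smul_tmul]
  | add x y hx hy =>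
    obtain ⟨y₁, s₁, hs₁, rfl⟩ := hx
    obtain ⟨y₂, s₂, hs₂, rfl⟩ := hy
    refine ⟨y₁ + y₂, s₁ + s₂, add_mem hs₁ hs₂, ?_⟩
    rw [tmul_add]
    abel

/-- the main statement at the level of `K' ⊗[K] L` -/
theorem mem_S_of_isIntegralElem [IsLocalHom (algebraMap A A')] [Algebra.IsAlgebraic K L]
    (hdense : ∀ a' b' : A', b' ≠ 0 → ∃ a : A, b' ∣ a' - algebraMap A A' a) (w : K' ⊗[K] L)
    (hw : (φ₀ K L A' K').IsIntegralElem w) : w ∈ S A K L A' K' := by
  obtain ⟨y, s, hs, rfl⟩ := exists_decomp (A := A) hdense w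
  have h1 : (φ₀ K L A' K').IsIntegralElem ((1 : K') ⊗ₜ[K] y) := by
    have := RingHom.IsIntegralElem.sub _ hw (isIntegralElem_of_mem_S hs)
    rwa [add_sub_cancel_right] at this
  obtain ⟨P, hP, hPy⟩ := h1
  have hy : IsIntegral A y := isIntegral_of_eval₂_eq_zero y P hP hPy
  refine add_mem (AddSubmonoid.subset_closure ⟨1, y, hy, ?_⟩) hs
  rw [map_one]

end Main

end Groth.Agent.Helper7.VDense
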