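import Mathlib
import Groth.Prelude.Def_Versch
import Groth.Prelude.Def_SGA3b
import Groth.Prelude.Def_CartDual2

set_option autoImplicit false
universe u v

namespace Groth.Agent.Helper7.VSa

open TensorProduct WithConv

/-- A finite projective module has a finite "dual basis". -/
theorem exists_dualBasis (R : Type u) [CommRing R] (A : Type v) [AddCommGroup A] [Module R A]
    [Module.Finite R A] [Module.Projective R A] :
    ∃ (n : ℕ) (e : Fin n → A) (f : Fin n → Module.Dual R A), ∀ a : A, a = ∑ i, f i a • e i := by
  obtain ⟨n, π, hπ⟩ := Module.Finite.exists_fin' R A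
  obtain ⟨s, hs⟩ := Module.projective_lifting_property π LinearMap.id hπ
  refine ⟨n, fun i => π (Pi.single i 1), fun i => LinearMap.proj i ∘ₗ s, fun a => ?_⟩
  have h1 : π (s a) = a := by
    have := congrArg (fun F : A →ₗ[R] A => F a) hs
    simpa using this
  conv_lhs => rw [← h1]
  have h2 : s a = ∑ i, (s a i) • (Pi.single i (1 : R) : Fin n → R) := by
    ext j
    simp [Finset.sum_apply, Pi.single_apply]
  conv_lhs => rw [h2]
  rw [map_sum]
  refine Finset.sum_congr rfl fun i _ => ?_
  rw [map_smul]
  rfl

/-- rank-one maps multiply under convolution -/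
theorem smulRight_mul (R : Type u) [CommRing R] (A : Type v) [CommRing A] [Bialgebra R A]
    (f g : CartDual.D R A) (b c : A) :
    (toConv (f.ofConv.smulRight b) : WithConv (A →ₗ[R] A)) * toConv (g.ofConv.smulRight c) =
      toConv ((f * g).ofConv.smulRight (b * c)) := by
  apply WithConv.ofConv_injective
  ext a
  show LinearMap.mul' R A (TensorProduct.map (f.ofConv.smulRight b) (g.ofConv.smulRight c) (Coalgebra.comul a)) =
    (LinearMap.mul' R R (TensorProduct.map f.ofConv g.ofConv (Coalgebra.comul a))) • (b * c)
  generalize (Coalgebra.comul a : A ⊗[R] A) = t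
  induction t using TensorProduct.induction_on with
  | zero => simp
  | tmul x y =>
    simp only [TensorProduct.map_tmul, LinearMap.smulRight_apply, LinearMap.mul'_apply]
    rw [smul_mul_smul_comm]
  | add x y hx hy =>
    simp only [map_add, hx, hy, add_smul]

theorem smulRight_pow' (R : Type u) [CommRing R] (A : Type v) [CommRing A] [Bialgebra R A]
    (f : CartDual.D R A) (b : A) (m : ℕ) :
    (toConv (f.ofConv.smulRight b) : WithConv (A →ₗ[R] A)) ^ (m + 1) =
      toConv ((f ^ (m + 1)).ofConv.smulRight (b ^ (m + 1))) := by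
  induction m with
  | zero => simp
  | succ m ih =>
    rw [pow_succ, ih, smulRight_mul R A, ← pow_succ, ← pow_succ]

theorem algebraMap_injective (R : Type u) [CommRing R] (A : Type v) [CommRing A] [Bialgebra R A] :
    Function.Injective (algebraMap R A) := by
  intro r s h
  have := congrArg (Bialgebra.counitAlgHom R A) h
  simpa using this

theorem charPW (R : Type u) [CommRing R] (A : Type v) [CommRing A] [Bialgebra R A] (p : ℕ)
    [CharP R p] [Coalgebra.IsCocomm R A] :
    CharP (WithConv (A →ₗ[R] A)) p := by
  apply charP_of_injective_algebraMap (R := R) _ p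
  intro c c' h
  have h1 := congrArg (fun F : WithConv (A →ₗ[R] A) => F 1) h
  simp only [LinearMap.convAlgebraMap_apply] at h1
  have h2 : (Coalgebra.counit (1 : A) : R) = 1 := Bialgebra.counit_one
  rw [h2, map_one, ← Algebra.algebraMap_eq_smul_one, ← Algebra.algebraMap_eq_smul_one] at h1
  exact algebraMap_injective R A h1

/-- Key expansion of the `p`-th power map through a dual basis. -/
theorem powConv_expand (R : Type u) [CommRing R] (A : Type u) [CommRing A] [HopfAlgebra R A] (p : ℕ)
    [Fact p.Prime] [CharP R p] [Coalgebra.IsCocomm R A]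
    {d : ℕ} (e : Fin d → A) (f : Fin d → Module.Dual R A) (hef : ∀ a : A, a = ∑ i, f i a • e i) (a : A) :
    (SGA3b.powConv R A p) a =
      ∑ j, ((toConv (f j) : CartDual.D R A) ^ p) a • (e j) ^ p := by
  have := charPW R A p
  have hpos : 0 < p := (Fact.out : p.Prime).pos
  obtain ⟨m, hm⟩ : ∃ m, p = m + 1 := ⟨p - 1, by omega⟩
  have h1 : (toConv (LinearMap.id : A →ₗ[R] A) : WithConv (A →ₗ[R] A)) =
      ∑ j, toConv ((f j).smulRight (e j)) := by
    apply WithConv.ofConv_injective
    ext b
    rw [WithConv.ofConv_sum]
    simp only [LinearMap.id_apply, LinearMap.coe_sum, Finset.sum_apply,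
      LinearMap.smulRight_apply]
    exact hef b
  have h2 : (toConv (SGA3b.powConv R A p).toLinearMap : WithConv (A →ₗ[R] A)) =
      (toConv (LinearMap.id : A →ₗ[R] A)) ^ p := by
    have := AlgHom.toLinearMap_convPow (toConv (AlgHom.id R A)) p
    exact this
  have h3 : (toConv (LinearMap.id : A →ₗ[R] A) : WithConv (A →ₗ[R] A)) ^ p =
      ∑ j, toConv (((toConv (f j) : CartDual.D R A) ^ p).ofConv.smulRight ((e j) ^ p)) := by
    rw [h1, sum_pow_char]
    refine Finset.sum_congr rfl fun j _ => ?_
    conv_lhs => rw [hm]
    conv_rhs => rw [hm]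
    exact smulRight_pow' R A (toConv (f j)) (e j) m
  have h4 := congrArg (fun F : WithConv (A →ₗ[R] A) => F a) (h2.trans h3)
  simp only at h4
  rw [WithConv.ofConv_sum] at h4
  simpa using h4

end Groth.Agent.Helper7.VSa
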