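import Mathlib
import Groth.Agent.Helper7.VSb

set_option autoImplicit false
universe u v

namespace Groth.Agent.Helper7.VSc

open TensorProduct WithConv Groth.Agent.Helper7

theorem relFrob_tmul (p : ℕ) [Fact p.Prime] (R : Type u) [CommRing R] [CharP R p]
    (B : Type v) [CommRing B] [Algebra R B] [CharP B p] (b : B) (t : FrobAlg.Twist p R) :
    FrobAlg.relFrob p R B (b ⊗ₜ t) = b ^ p * algebraMap R B ((FrobAlg.toTwist p R).symm t) := by
  simp [FrobAlg.relFrob, FrobAlg.frobHom, FrobAlg.inclHom, Algebra.TensorProduct.lift_tmul]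
  rfl

variable (p : ℕ) [Fact p.Prime] (R : Type u) [CommRing R] [CharP R p]
  (A : Type u) [CommRing A] [HopfAlgebra R A] [Coalgebra.IsCocomm R A]
  [Module.Finite R A] [Module.Projective R A] [CharP A p]

theorem relFrob_v (v : A →+* FrobAlg.BaseChange p R A) (hv : Versch.IsVerschiebung p R A v) (a : A) :
    FrobAlg.relFrob p R A (v a) = SGA3b.powConv R A p a := by
  obtain ⟨d, e, f, hef⟩ := VSa.exists_dualBasis R A
  rw [VSb.v_apply p R A v hv e f hef a, VSa.powConv_expand R A p e f hef a, map_sum]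
  refine Finset.sum_congr rfl fun j _ => ?_
  rw [relFrob_tmul, RingEquiv.symm_apply_apply, mul_comm, ← Algebra.smul_def]

end Groth.Agent.Helper7.VSc
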