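import Mathlib
import Groth.Agent.Helper7.VSc

set_option autoImplicit false
universe u v

namespace Groth.Agent.Helper7.VSd

open TensorProduct WithConv Groth.Agent.Helper7

variable (R : Type u) [CommRing R] (S : Type u) [CommRing S] [Algebra R S]
  (A : Type u) [CommRing A] [HopfAlgebra R A]

/-- Base change is multiplicative for the convolution product. -/
theorem baseChange_convMul (g h : WithConv (A →ₗ[R] A)) :
    (toConv (g.ofConv.baseChange S) : WithConv ((S ⊗[R] A) →ₗ[S] (S ⊗[R] A))) *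
        toConv (h.ofConv.baseChange S) = toConv ((g * h).ofConv.baseChange S) := by
  apply WithConv.ofConv_injective
  ext a
  simp only [AlgebraTensorModule.curry_apply,
    curry_apply]
  show (toConv (LinearMap.baseChange S g.ofConv) * toConv (LinearMap.baseChange S h.ofConv) :
      WithConv ((S ⊗[R] A) →ₗ[S] (S ⊗[R] A))) (1 ⊗ₜ[R] a) =
    (LinearMap.baseChange S (g * h).ofConv) (1 ⊗ₜ[R] a)
  rw [LinearMap.convMul_apply, LinearMap.baseChange_tmul, LinearMap.convMul_apply,
    TensorProduct.comul_tmul, CommSemiring.comul_apply]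
  generalize (Coalgebra.comul a : A ⊗[R] A) = t
  induction t using TensorProduct.induction_on with
  | zero => simp
  | tmul x y =>
    simp
  | add x y hx hy =>
    simp only [map_add, hx, hy, tmul_add]

end Groth.Agent.Helper7.VSd

namespace Groth.Agent.Helper7.VSd

open TensorProduct WithConv Groth.Agent.Helper7

variable (R : Type u) [CommRing R] (S : Type u) [CommRing S] [Algebra R S]
  (A : Type u) [CommRing A] [HopfAlgebra R A]

theorem baseChange_convOne :
    (1 : WithConv ((S ⊗[R] A) →ₗ[S] (S ⊗[R] A))) =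
      toConv ((1 : WithConv (A →ₗ[R] A)).ofConv.baseChange S) := by
  apply WithConv.ofConv_injective
  ext a
  simp only [AlgebraTensorModule.curry_apply, curry_apply]
  show (1 : WithConv ((S ⊗[R] A) →ₗ[S] (S ⊗[R] A))) (1 ⊗ₜ[R] a) =
    (LinearMap.baseChange S (1 : WithConv (A →ₗ[R] A)).ofConv) (1 ⊗ₜ[R] a)
  rw [LinearMap.baseChange_tmul]
  simp [LinearMap.convOne_def, Algebra.algebraMap_eq_smul_one]
  rw [Algebra.TensorProduct.one_def]

theorem baseChange_convPow (g : WithConv (A →ₗ[R] A)) (n : ℕ) :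
    (toConv (g.ofConv.baseChange S) : WithConv ((S ⊗[R] A) →ₗ[S] (S ⊗[R] A))) ^ n =
      toConv ((g ^ n).ofConv.baseChange S) := by
  induction n with
  | zero => rw [pow_zero, pow_zero, baseChange_convOne]
  | succ n ih => rw [pow_succ, ih, baseChange_convMul, ← pow_succ]

theorem powConv_baseChange (n : ℕ) (s : S) (a : A) :
    SGA3b.powConv S (S ⊗[R] A) n (s ⊗ₜ[R] a) = s ⊗ₜ[R] SGA3b.powConv R A n a := by
  have h2 : (toConv (SGA3b.powConv S (S ⊗[R] A) n).toLinearMap :
      WithConv ((S ⊗[R] A) →ₗ[S] (S ⊗[R] A))) = (toConv (LinearMap.id)) ^ n :=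
    AlgHom.toLinearMap_convPow (toConv (AlgHom.id S (S ⊗[R] A))) n
  have h3 : (toConv (SGA3b.powConv R A n).toLinearMap : WithConv (A →ₗ[R] A)) =
      (toConv (LinearMap.id : A →ₗ[R] A)) ^ n :=
    AlgHom.toLinearMap_convPow (toConv (AlgHom.id R A)) n
  have h4 : (toConv (LinearMap.id : (S ⊗[R] A) →ₗ[S] (S ⊗[R] A))) =
      toConv ((toConv (LinearMap.id : A →ₗ[R] A)).ofConv.baseChange S) := by
    rw [WithConv.ofConv_toConv, LinearMap.baseChange_id]
  rw [h4, baseChange_convPow, ← h3] at h2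
  have h5 := congrArg (fun F : WithConv ((S ⊗[R] A) →ₗ[S] (S ⊗[R] A)) => F.ofConv (s ⊗ₜ[R] a)) h2
  simpa using h5

end Groth.Agent.Helper7.VSd
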