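import Mathlib
import Groth.Agent.Helper7.VSd

set_option autoImplicit false
universe u v

namespace Groth.Agent.Helper7.VSe

open TensorProduct WithConv Groth.Agent.Helper7

variable (p : ℕ) [Fact p.Prime] (R : Type u) [CommRing R] [CharP R p]
  (A : Type u) [CommRing A] [HopfAlgebra R A] [Coalgebra.IsCocomm R A]

omit [Coalgebra.IsCocomm R A] in
/-- Evaluation of a convolution power at `1`. -/
theorem pow_apply_one (x : CartDual.D R A) (n : ℕ) : (x ^ n) 1 = (x 1) ^ n := by
  induction n with
  | zero => simp [LinearMap.convOne_apply]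
  | succ n ih =>
    rw [pow_succ, pow_succ, ← ih]
    have := CartDual.counit_mul' R A (x ^ n) x
    simpa [CartDual.counit_apply] using this

omit [Coalgebra.IsCocomm R A] in
theorem includeRight_injective :
    Function.Injective (fun s : FrobAlg.Twist p R => (1 : A) ⊗ₜ[R] s) := by
  intro s s' h
  have := congrArg (Versch.evTw p R A (1 : CartDual.D R A)) h
  simpa [Versch.evTw_tmul, LinearMap.convOne_apply] using this

omit [Coalgebra.IsCocomm R A] in
theorem charP_baseChange : CharP (FrobAlg.BaseChange p R A) p := by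
  apply charP_of_injective_algebraMap (R := FrobAlg.Twist p R) _ p
  intro s s' h
  exact includeRight_injective p R A h

variable [Module.Finite R A] [Module.Projective R A]

/-- The Verschiebung on scalars. -/
theorem v_algebraMap (v : A →+* FrobAlg.BaseChange p R A) (hv : Versch.IsVerschiebung p R A v) (r : R) :
    v (algebraMap R A r) = (1 : A) ⊗ₜ[R] FrobAlg.toTwist p R r := by
  rw [Versch.isVerschiebung_iff] at hv
  apply Versch.evTw_injective p R A
  intro x
  rw [hv, Versch.evTw_tmul', Algebra.algebraMap_eq_smul_one, CartDual.coe_apply, map_smul,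
    ← CartDual.coe_apply, pow_apply_one, smul_eq_mul, map_mul, mul_comm]

/-- The `p`-th power of the Verschiebung. -/
theorem v_pow (v : A →+* FrobAlg.BaseChange p R A) (hv : Versch.IsVerschiebung p R A v) (a : A) :
    (v a) ^ p = (SGA3b.powConv R A p a) ⊗ₜ[R] (1 : FrobAlg.Twist p R) := by
  have := charP_baseChange p R A
  obtain ⟨d, e, f, hef⟩ := VSa.exists_dualBasis R A
  rw [VSb.v_apply p R A v hv e f hef a, VSa.powConv_expand R A p e f hef a, sum_pow_char,
    TensorProduct.sum_tmul]
  refine Finset.sum_congr rfl fun j _ => ?_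
  rw [Algebra.TensorProduct.tmul_pow, ← map_pow, ← FrobAlg.algebraMap_twist,
    Algebra.algebraMap_eq_smul_one, TensorProduct.tmul_smul, TensorProduct.smul_tmul']

theorem v_relFrob [CharP A p] (v : A →+* FrobAlg.BaseChange p R A) (hv : Versch.IsVerschiebung p R A v)
    (a : A) (s : FrobAlg.Twist p R) :
    v (FrobAlg.relFrob p R A (a ⊗ₜ[R] s)) = (SGA3b.powConv R A p a) ⊗ₜ[R] s := by
  rw [VSc.relFrob_tmul, map_mul, map_pow, v_pow p R A v hv, v_algebraMap p R A v hv,
    RingEquiv.apply_symm_apply, Algebra.TensorProduct.tmul_mul_tmul, mul_one, one_mul]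

end Groth.Agent.Helper7.VSe
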