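import Mathlib
import Groth.Agent.Helper7.VSe

set_option autoImplicit false
universe u v

namespace Groth.Agent.Helper7.VSf

open TensorProduct WithConv Groth.Agent.Helper7

/-- Convolution powers of a linear form evaluate multiplicatively on group-like elements. -/
theorem pow_apply_groupLike (R : Type u) [CommRing R] (A : Type v) [CommRing A] [Bialgebra R A]
    (x : CartDual.D R A) {a : A} (ha : IsGroupLikeElem R a) (n : ℕ) : (x ^ n) a = (x a) ^ n := by
  induction n with
  | zero =>
    rw [pow_zero, pow_zero, LinearMap.convOne_apply, ha.counit_eq_one]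
    simp
  | succ n ih =>
    rw [pow_succ, pow_succ, ← ih, LinearMap.convMul_apply, ha.comul_eq_tmul_self]
    simp

theorem v_single (p : ℕ) [Fact p.Prime] (R : Type u) [CommRing R] [CharP R p]
    (v : MonoidAlgebra R (Multiplicative (ZMod p)) →+* FrobAlg.BaseChange p R (MonoidAlgebra R (Multiplicative (ZMod p))))
    (hv : Versch.IsVerschiebung p R (MonoidAlgebra R (Multiplicative (ZMod p))) v)
    (g : Multiplicative (ZMod p)) (c : R) :
    v (MonoidAlgebra.single g c) = MonoidAlgebra.single g (1 : R) ⊗ₜ[R] FrobAlg.toTwist p R c := by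
  rw [Versch.isVerschiebung_iff] at hv
  apply Versch.evTw_injective p R _
  intro x
  have hs : (MonoidAlgebra.single g c : MonoidAlgebra R (Multiplicative (ZMod p))) =
      c • MonoidAlgebra.single g (1 : R) := by
    rw [MonoidAlgebra.smul_single, smul_eq_mul, mul_one]
  rw [hv, Versch.evTw_tmul', hs, CartDual.coe_apply, map_smul, ← CartDual.coe_apply,
    pow_apply_groupLike R _ x (MonoidAlgebra.isGroupLikeElem_single_one g), smul_eq_mul, map_mul, mul_comm]

end Groth.Agent.Helper7.VSf
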