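import Mathlib
import Groth.Agent.Helper7.VSf

set_option autoImplicit false
universe u v

namespace Groth.Agent.Helper7.VSg

open TensorProduct WithConv Groth.Agent.Helper7

/-- Reflexivity: every linear form on the dual is an evaluation. -/
theorem exists_eval_eq (R : Type u) [CommRing R] (A : Type v) [CommRing A] [Bialgebra R A]
    [Module.Finite R A] [Module.Projective R A] (x : CartDual.D R (CartDual.D R A)) :
    ∃ a : A, CartDual.eval R A a = x := by
  let y : Module.Dual R (Module.Dual R A) := x.ofConv ∘ₗ (CartDual.toDual R A).symm.toLinearMap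
  obtain ⟨a, ha⟩ := (Module.bijective_dual_eval R A).2 y
  refine ⟨a, ?_⟩
  apply WithConv.ofConv_injective
  ext b
  have h1 := congrArg (fun F : Module.Dual R (Module.Dual R A) => F (CartDual.toDual R A b)) ha
  simp only [Module.Dual.eval_apply, y] at h1
  show CartDual.eval R A a b = x b
  rw [CartDual.eval_apply, CartDual.coe_apply, CartDual.coe_apply]
  simpa using h1

variable (p : ℕ) [Fact p.Prime] (R : Type u) [CommRing R] [CharP R p]

local notation "AA" => MonoidAlgebra R (Multiplicative (ZMod p))

theorem pow_p_eq (a : AA) : a ^ p = algebraMap R AA ((Coalgebra.counit (R := R) a) ^ p) := by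
  have hch : CharP AA p := charP_of_injective_algebraMap (VSa.algebraMap_injective R AA) p
  induction a using MonoidAlgebra.induction_on with
  | of g =>
    have h1 : (MonoidAlgebra.of R (Multiplicative (ZMod p)) g) ^ p = 1 := by
      rw [← map_pow]
      have : g ^ p = 1 := by
        have : p • (Multiplicative.toAdd g) = 0 := by
          rw [nsmul_eq_mul]; simp
        rw [← ofAdd_toAdd g, ← ofAdd_nsmul, this, ofAdd_zero]
      rw [this, map_one]
    rw [h1]
    simp [MonoidAlgebra.of_apply, MonoidAlgebra.one_def]
  | add a b ha hb =>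
    rw [add_pow_char, ha, hb, map_add, add_pow_char, map_add]
  | smul r a ha =>
    rw [smul_pow, ha, map_smul, smul_eq_mul, mul_pow, map_mul, Algebra.smul_def]

end Groth.Agent.Helper7.VSg

namespace Groth.Agent.Helper7.VSg

open TensorProduct WithConv Groth.Agent.Helper7

variable (p : ℕ) [Fact p.Prime] (R : Type u) [CommRing R] [CharP R p]

local notation "AA" => MonoidAlgebra R (Multiplicative (ZMod p))

theorem v_dual (v : CartDual.D R AA →+* FrobAlg.BaseChange p R (CartDual.D R AA))
    (hv : Versch.IsVerschiebung p R (CartDual.D R AA) v) (b : CartDual.D R AA) :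
    v b = (1 : CartDual.D R AA) ⊗ₜ[R] FrobAlg.toTwist p R (Coalgebra.counit (R := R) b) := by
  rw [Versch.isVerschiebung_iff] at hv
  apply Versch.evTw_injective p R (CartDual.D R AA)
  intro x
  obtain ⟨a, rfl⟩ := exists_eval_eq R AA x
  rw [hv, Versch.evTw_tmul', ← map_pow, CartDual.eval_apply, CartDual.eval_apply, pow_p_eq,
    Algebra.algebraMap_eq_smul_one, CartDual.coe_apply, map_smul, ← CartDual.coe_apply,
    CartDual.coalgebra_counit_apply, LinearMap.convOne_apply, smul_eq_mul, map_mul]
  simp

end Groth.Agent.Helper7.VSg
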