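import Mathlib
import Groth.Agent.Helper7.VSg

set_option autoImplicit false
universe u v

namespace Groth.Agent.Helper7.VSh

open TensorProduct WithConv Groth.Agent.Helper7

section Gen

variable (p : ℕ) [Fact p.Prime] (R : Type u) [CommRing R] [CharP R p]
  (A : Type v) [CommRing A] [HopfAlgebra R A] [Coalgebra.IsCocomm R A]

/-- Expansion of the `p`-th convolution power of a linear form through a dual basis
(universe-generic version). -/
theorem form_pow_expand {d : ℕ} (e : Fin d → A) (f : Fin d → Module.Dual R A)
    (hef : ∀ a : A, a = ∑ i, f i a • e i) (x : CartDual.D R A) :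
    x ^ p = ∑ j, (x (e j)) ^ p • (toConv (f j) : CartDual.D R A) ^ p := by
  have hx : x = ∑ j, (x (e j)) • (toConv (f j) : CartDual.D R A) := by
    apply WithConv.ofConv_injective
    ext a
    rw [WithConv.ofConv_sum]
    simp only [LinearMap.coe_sum, Finset.sum_apply, WithConv.ofConv_smul, LinearMap.smul_apply,
      smul_eq_mul]
    conv_lhs => rw [hef a]
    rw [map_sum]
    refine Finset.sum_congr rfl fun j _ => ?_
    rw [map_smul, smul_eq_mul, mul_comm]
  conv_lhs => rw [hx]
  rw [sum_pow_char]
  refine Finset.sum_congr rfl fun j _ => ?_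
  rw [smul_pow]

variable [Module.Finite R A] [Module.Projective R A]

/-- Explicit formula for the Verschiebung through a dual basis (universe-generic version). -/
theorem v_apply (v : A →+* FrobAlg.BaseChange p R A) (hv : Versch.IsVerschiebung p R A v)
    {d : ℕ} (e : Fin d → A) (f : Fin d → Module.Dual R A)
    (hef : ∀ a : A, a = ∑ i, f i a • e i) (a : A) :
    v a = ∑ j, e j ⊗ₜ[R] FrobAlg.toTwist p R (((toConv (f j) : CartDual.D R A) ^ p) a) := by
  rw [Versch.isVerschiebung_iff] at hv
  apply Versch.evTw_injective p R A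
  intro x
  rw [hv a x, map_sum]
  simp only [Versch.evTw_tmul']
  rw [form_pow_expand p R A e f hef x]
  rw [CartDual.coe_apply, WithConv.ofConv_sum, LinearMap.sum_apply, map_sum]
  refine Finset.sum_congr rfl fun j _ => ?_
  rw [WithConv.ofConv_smul, LinearMap.smul_apply, smul_eq_mul, map_mul]

omit [Coalgebra.IsCocomm R A] [Module.Finite R A] [Module.Projective R A] in
/-- Every element of the twist is a combination of `e j ⊗ t`. -/
theorem exists_repr {d : ℕ} (e : Fin d → A) (f : Fin d → Module.Dual R A)
    (hef : ∀ a : A, a = ∑ i, f i a • e i) (z : A ⊗[R] FrobAlg.Twist p R) :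
    ∃ t : Fin d → FrobAlg.Twist p R, z = ∑ j, e j ⊗ₜ[R] t j := by
  induction z using TensorProduct.induction_on with
  | zero => exact ⟨fun _ => 0, by simp⟩
  | tmul a s =>
    refine ⟨fun j => f j a • s, ?_⟩
    conv_lhs => rw [hef a]
    rw [TensorProduct.sum_tmul]
    refine Finset.sum_congr rfl fun j _ => ?_
    rw [TensorProduct.smul_tmul]
  | add x y hx hy =>
    obtain ⟨t, rfl⟩ := hx
    obtain ⟨t', rfl⟩ := hy
    refine ⟨fun j => t j + t' j, ?_⟩
    rw [← Finset.sum_add_distrib]
    refine Finset.sum_congr rfl fun j _ => ?_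
    rw [TensorProduct.tmul_add]

end Gen

end Groth.Agent.Helper7.VSh
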