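import Mathlib
import Groth.Agent.Helper7.VSh

set_option autoImplicit false
universe u v

namespace Groth.Agent.Helper7.VSi

open TensorProduct WithConv Groth.Agent.Helper7

variable (p : ℕ) [Fact p.Prime] (k : Type u) [Field k] [CharP k p]
  (A : Type v) [CommRing A] [HopfAlgebra k A] [Coalgebra.IsCocomm k A] [FiniteDimensional k A]

/-- p-th powers span the dual when the Verschiebung is injective. -/
theorem span_pow_eq_top (v : A →+* FrobAlg.BaseChange p k A) (hv : Versch.IsVerschiebung p k A v)
    (hinj : Function.Injective v) :
    Submodule.span k (Set.range fun x : CartDual.D k A => x ^ p) = ⊤ := by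
  by_contra hne
  have hlt : Submodule.span k (Set.range fun x : CartDual.D k A => x ^ p) < ⊤ := lt_top_iff_ne_top.2 hne
  obtain ⟨f, hf0, hfle⟩ := Submodule.exists_le_ker_of_lt_top _ hlt
  let g : Module.Dual k (Module.Dual k A) := f ∘ₗ (CartDual.toDual k A).symm.toLinearMap
  let a : A := (Module.evalEquiv k A).symm g
  have ha : ∀ x : CartDual.D k A, x a = f x := by
    intro x
    have h1 : (Module.evalEquiv k A) a = g := LinearEquiv.apply_symm_apply _ _
    have h2 := congrArg (fun F => F (CartDual.toDual k A x)) h1
    simp only [Module.evalEquiv_apply, Module.Dual.eval_apply] at h2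
    simpa [g, CartDual.coe_apply] using h2
  have hva : v a = v 0 := by
    rw [Versch.isVerschiebung_iff] at hv
    apply Versch.evTw_injective p k A
    intro x
    rw [hv a x, hv 0 x, ha]
    have : f (x ^ p) = 0 := hfle (Submodule.subset_span ⟨x, rfl⟩)
    rw [this]
    simp
  have ha0 : a = 0 := hinj hva
  apply hf0
  ext x
  rw [← ha x, ha0]
  simp

/-- If p-th powers span the dual, the Verschiebung is bijective. -/
theorem bijective_of_span_pow (v : A →+* FrobAlg.BaseChange p k A) (hv : Versch.IsVerschiebung p k A v)
    (hP : Submodule.span k (Set.range fun x : CartDual.D k A => x ^ p) = ⊤) :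
    Function.Bijective v := by
  let d := Module.finrank k A
  let e : Module.Basis (Fin d) k A := Module.finBasis k A
  let f : Fin d → Module.Dual k A := fun j => e.coord j
  have hef : ∀ a : A, a = ∑ i, f i a • e i := fun a => (e.sum_repr a).symm
  let g : Fin d → CartDual.D k A := fun j => (toConv (f j) : CartDual.D k A) ^ p
  have hspan : ⊤ ≤ Submodule.span k (Set.range g) := by
    rw [← hP, Submodule.span_le]
    rintro _ ⟨x, rfl⟩
    show x ^ p ∈ _
    rw [VSh.form_pow_expand p k A e f hef x]
    refine Submodule.sum_mem _ fun j _ => ?_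
    exact Submodule.smul_mem _ _ (Submodule.subset_span ⟨j, rfl⟩)
  -- the linear map Φ
  let Φ : A →ₗ[k] (Fin d → k) := LinearMap.pi fun j => (g j).ofConv
  have hΦ : ∀ a j, Φ a j = g j a := fun a j => rfl
  have hΦinj : Function.Injective Φ := by
    rw [← LinearMap.ker_eq_bot, LinearMap.ker_eq_bot']
    intro a ha
    have h0 : ∀ x : CartDual.D k A, x a = 0 := by
      intro x
      have hx : x ∈ Submodule.span k (Set.range g) := hspan trivial
      induction hx using Submodule.span_induction with
      | mem y hy =>
        obtain ⟨j, rfl⟩ := hy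
        have := congrFun ha j
        rw [hΦ] at this
        exact this
      | zero => rfl
      | add y z _ _ hy hz =>
        rw [CartDual.coe_apply, WithConv.ofConv_add, LinearMap.add_apply, ← CartDual.coe_apply,
          ← CartDual.coe_apply, hy, hz, add_zero]
      | smul c y _ hy =>
        rw [CartDual.coe_apply, WithConv.ofConv_smul, LinearMap.smul_apply, ← CartDual.coe_apply, hy,
          smul_zero]
    apply (Module.forall_dual_apply_eq_zero_iff k a).1
    intro φ
    exact h0 (toConv φ)
  have hΦsurj : Function.Surjective Φ := by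
    apply (LinearMap.injective_iff_surjective_of_finrank_eq_finrank _).1 hΦinj
    rw [Module.finrank_fintype_fun_eq_card, Fintype.card_fin]
  have hv' := hv
  rw [Versch.isVerschiebung_iff] at hv'
  constructor
  · intro a a' h
    apply hΦinj
    ext j
    rw [hΦ, hΦ]
    have h1 := hv' a (toConv (f j))
    have h2 := hv' a' (toConv (f j))
    rw [h] at h1
    rw [h1] at h2
    exact (FrobAlg.toTwist p k).injective h2
  · intro z
    obtain ⟨t, rfl⟩ := VSh.exists_repr p k A e f hef z
    obtain ⟨a, ha⟩ := hΦsurj fun j => (FrobAlg.toTwist p k).symm (t j)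
    refine ⟨a, ?_⟩
    rw [VSh.v_apply p k A v hv e f hef a]
    refine Finset.sum_congr rfl fun j _ => ?_
    have := congrFun ha j
    rw [hΦ] at this
    show e j ⊗ₜ[k] FrobAlg.toTwist p k (g j a) = _
    rw [this, RingEquiv.apply_symm_apply]

end Groth.Agent.Helper7.VSi
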