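import Mathlib
import Groth.Agent.Helper7.VSi

set_option autoImplicit false
universe u v

namespace Groth.Agent.Helper7.VSj

open TensorProduct Groth.Agent.Helper7

variable (p : ℕ) [Fact p.Prime] (k : Type u) [Field k] [CharP k p]
  (B : Type v) [CommRing B] [Algebra k B] [CharP B p]

omit [Fact p.Prime] [CharP k p] in
/-- If `p`-th powers span a finite `k`-algebra `B`, then `B` is étale. -/
theorem etale_of_span_pow [Module.Finite k B]
    (hP : Submodule.span k (Set.range fun x : B => x ^ p) = ⊤) : Algebra.Etale k B := by
  have hD : ∀ b : B, KaehlerDifferential.D k B b = 0 := by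
    intro b
    have hb : b ∈ Submodule.span k (Set.range fun x : B => x ^ p) := by rw [hP]; trivial
    induction hb using Submodule.span_induction with
    | mem y hy =>
      obtain ⟨x, rfl⟩ := hy
      show KaehlerDifferential.D k B (x ^ p) = 0
      rw [Derivation.leibniz_pow]
      have : (p : B) = 0 := CharP.cast_eq_zero B p
      rw [← Nat.cast_smul_eq_nsmul B p, this, zero_smul]
    | zero => simp
    | add y z _ _ hy hz => rw [map_add, hy, hz, add_zero]
    | smul c y _ hy => rw [Derivation.map_smul, hy, smul_zero]
  have hsub : Subsingleton (Ω[B⁄k]) := by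
    rw [← Submodule.subsingleton_iff B, ← subsingleton_iff_bot_eq_top,
      ← KaehlerDifferential.span_range_derivation k B, eq_comm, Submodule.span_eq_bot]
    rintro _ ⟨b, rfl⟩
    exact hD b
  have hU : Algebra.FormallyUnramified k B := ⟨hsub⟩
  have hE : Algebra.FormallyEtale k B := Algebra.FormallyEtale.of_formallyUnramified_of_field k B
  have hft : Algebra.FiniteType k B := inferInstance
  exact ⟨hE, Algebra.FinitePresentation.of_finiteType.mp hft⟩

omit [CharP B p] in
/-- In a finite étale algebra over a field of characteristic `p`, the `p`-th powers span. -/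
theorem span_pow_of_etale [Algebra.Etale k B] :
    Submodule.span k (Set.range fun x : B => x ^ p) = ⊤ := by
  classical
  obtain ⟨I, hI, L, hL, hA, e, hsep⟩ := (Algebra.Etale.iff_exists_algEquiv_prod k B).1 inferInstance
  have : Fintype I := Fintype.ofFinite I
  have hp0 : p ≠ 0 := (Fact.out : p.Prime).ne_zero
  -- the statement for the product
  have hprod : Submodule.span k (Set.range fun x : (Π i, L i) => x ^ p) = ⊤ := by
    rw [eq_top_iff]
    intro y _
    have hy : y = ∑ i, (Pi.single i (y i) : Π i, L i) := by
      ext j
      simp [Finset.sum_apply]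
    rw [hy]
    refine Submodule.sum_mem _ fun i _ => ?_
    have hsepi := (hsep i).2
    have : ExpChar k p := ExpChar.prime (Fact.out : p.Prime)
    have hLi : Submodule.span k (Set.range fun x : L i => x ^ p) = ⊤ := by
      have := Field.span_map_pow_expChar_pow_eq_top_of_isSeparable (F := k) (E := L i) p 1
        (v := fun x : L i => x) (by rw [eq_top_iff]; intro z _; exact Submodule.subset_span ⟨z, rfl⟩)
      simpa using this
    have hyi : y i ∈ Submodule.span k (Set.range fun x : L i => x ^ p) := by rw [hLi]; trivial
    generalize y i = w at hyi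
    induction hyi using Submodule.span_induction with
    | mem z hz =>
      obtain ⟨x, rfl⟩ := hz
      refine Submodule.subset_span ⟨Pi.single i x, ?_⟩
      show (Pi.single i x : Π i, L i) ^ p = Pi.single i (x ^ p)
      ext j
      by_cases hj : j = i
      · subst hj; simp
      · simp [hj, hp0]
    | zero => simp
    | add a b _ _ ha hb => rw [Pi.single_add]; exact Submodule.add_mem _ ha hb
    | smul c a _ ha =>
      have : (Pi.single i (c • a) : Π i, L i) = c • Pi.single i a := by
        ext j
        by_cases hj : j = i
        · subst hj; simp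
        · simp [hj]
      rw [this]
      exact Submodule.smul_mem _ _ ha
  rw [eq_top_iff]
  intro b _
  have hb : e b ∈ Submodule.span k (Set.range fun x : (Π i, L i) => x ^ p) := by rw [hprod]; trivial
  have hmap : ∀ z : (Π i, L i), z ∈ Submodule.span k (Set.range fun x : (Π i, L i) => x ^ p) →
      e.symm z ∈ Submodule.span k (Set.range fun x : B => x ^ p) := by
    intro z hz
    induction hz using Submodule.span_induction with
    | mem w hw =>
      obtain ⟨x, rfl⟩ := hw
      refine Submodule.subset_span ⟨e.symm x, ?_⟩
      show (e.symm x) ^ p = e.symm (x ^ p)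
      rw [map_pow]
    | zero => simp
    | add a b _ _ ha hb => rw [map_add]; exact Submodule.add_mem _ ha hb
    | smul c a _ ha => rw [map_smul]; exact Submodule.smul_mem _ _ ha
  have := hmap _ hb
  rwa [AlgEquiv.symm_apply_apply] at this

end Groth.Agent.Helper7.VSj
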