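import Mathlib

/-! # Flatness descends along (essentially finite type) unramified ring maps

If `S` is a formally unramified `A`-algebra essentially of finite type, every `S`-module which is
flat over `A` is flat over `S`.  -/

open TensorProduct

namespace Groth.Agent.Helper7.ValEt

universe u v

section
variable {A : Type*} {S : Type*} {M : Type*} [CommRing A] [CommRing S] [Algebra A S]
  [AddCommGroup M] [Module A M] [Module S M] [IsScalarTower A S M]

/-- `s ⊗ m ↦ s • m`, as an `S`-linear map `S ⊗[A] M → M`. -/
noncomputable def actMap : S ⊗[A] M →ₗ[S] M :=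
  TensorProduct.AlgebraTensorModule.lift
    { toFun := fun s => (LinearMap.lsmul S M s).restrictScalars A
      map_add' := fun s t => by ext m; simp [add_smul]
      map_smul' := fun s t => by ext m; simp [mul_smul] }

@[simp] lemma actMap_tmul (s : S) (m : M) : actMap (A := A) (s ⊗ₜ[A] m) = s • m := by
  simp [actMap]

/-- `(s₁ ⊗ s₂, m) ↦ s₁ ⊗ s₂ • m`. -/
noncomputable def theta (m : M) : S ⊗[A] S →ₗ[S] S ⊗[A] M :=
  TensorProduct.AlgebraTensorModule.map (LinearMap.id : S →ₗ[S] S)
    ((LinearMap.toSpanSingleton S M m).restrictScalars A)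

@[simp] lemma theta_tmul (m : M) (s t : S) :
    theta (A := A) m (s ⊗ₜ[A] t) = s ⊗ₜ[A] (t • m) := by
  simp [theta]

lemma theta_add (m m' : M) (z : S ⊗[A] S) :
    theta (A := A) (m + m') z = theta m z + theta m' z := by
  induction z using TensorProduct.induction_on with
  | zero => simp
  | tmul s t => simp [smul_add, tmul_add]
  | add x y hx hy => simp only [map_add, hx, hy]; abel

lemma theta_mul_right (m : M) (z : S ⊗[A] S) (s : S) :
    theta (A := A) m (z * (1 ⊗ₜ[A] s)) = theta (s • m) z := by
  induction z using TensorProduct.induction_on with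
  | zero => simp
  | tmul a b => simp [mul_smul]
  | add x y hx hy => simp only [add_mul, map_add, hx, hy]

lemma theta_mul_left (m : M) (z : S ⊗[A] S) (s : S) :
    theta (A := A) m ((s ⊗ₜ[A] 1) * z) = s • theta m z := by
  induction z using TensorProduct.induction_on with
  | zero => simp
  | tmul a b => simp [TensorProduct.smul_tmul']
  | add x y hx hy => simp only [mul_add, map_add, hx, hy, smul_add]

lemma actMap_theta (m : M) (z : S ⊗[A] S) :
    actMap (A := A) (theta m z) = (Algebra.TensorProduct.lmul' A (S := S) z) • m := by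
  induction z using TensorProduct.induction_on with
  | zero => simp
  | tmul a b => simp [mul_smul]
  | add x y hx hy => simp only [map_add, hx, hy, add_smul]

end

/-- **Flatness descends along unramified maps.** If `S` is a formally unramified `A`-algebra
essentially of finite type, then an `S`-module that is flat over `A` is flat over `S`. -/
theorem flat_of_flat_base (A : Type u) (S : Type u) (M : Type v) [CommRing A] [CommRing S]
    [Algebra A S]
    [Algebra.EssFiniteType A S] [Algebra.FormallyUnramified A S]
    [AddCommGroup M] [Module A M] [Module S M] [IsScalarTower A S M] [Module.Flat A M] :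
    Module.Flat S M := by
  obtain ⟨e, he, hsp⟩ : ∃ e, IsIdempotentElem e ∧ KaehlerDifferential.ideal A S = S ⊗[A] S ∙ e :=
    (Ideal.isIdempotentElem_iff_of_fg _ (KaehlerDifferential.ideal_fg A S)).mp <|
      (Ideal.cotangent_subsingleton_iff _).mp <| inferInstanceAs <| Subsingleton Ω[S⁄A]
  have hemem : e ∈ KaehlerDifferential.ideal A S := by
    rw [hsp]; exact Ideal.mem_span_singleton_self e
  have hmu : Algebra.TensorProduct.lmul' A (S := S) e = 0 := by
    simpa [KaehlerDifferential.ideal, RingHom.mem_ker] using hemem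
  -- the key relation `(s ⊗ 1 - 1 ⊗ s) (1 - e) = 0`
  have key : ∀ s : S, (s ⊗ₜ[A] (1 : S)) * (1 - e) = (1 - e) * ((1 : S) ⊗ₜ[A] s) := by
    intro s
    have h1 : (s ⊗ₜ[A] (1 : S)) - (1 : S) ⊗ₜ[A] s ∈ KaehlerDifferential.ideal A S := by
      simp [KaehlerDifferential.ideal, RingHom.mem_ker]
    rw [hsp, Ideal.mem_span_singleton'] at h1
    obtain ⟨c, hc⟩ := h1
    have h2 : ((s ⊗ₜ[A] (1 : S)) - (1 : S) ⊗ₜ[A] s) * (1 - e) = 0 := by
      rw [← hc, mul_assoc, mul_sub, mul_one, he.eq, sub_self, mul_zero]
    have h3 : (s ⊗ₜ[A] (1 : S)) * (1 - e) - ((1 : S) ⊗ₜ[A] s) * (1 - e) = 0 := by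
      rw [← sub_mul]; exact h2
    rw [sub_eq_zero] at h3
    rw [h3, mul_comm]
  -- `M` is a retract of the flat `S`-module `S ⊗[A] M`
  let i : M →ₗ[S] S ⊗[A] M :=
    { toFun := fun m => theta (A := A) m (1 - e)
      map_add' := fun m m' => theta_add m m' _
      map_smul' := fun s m => by
        simp only [RingHom.id_apply]
        rw [← theta_mul_right, ← key, theta_mul_left] }
  refine Module.Flat.of_retract (R := S) (M := S ⊗[A] M) i (actMap (A := A)) ?_
  ext m
  simp only [LinearMap.coe_comp, Function.comp_apply, LinearMap.id_coe, id_eq]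
  change actMap (A := A) (theta (A := A) m (1 - e)) = m
  rw [actMap_theta, map_sub, map_one, hmu, sub_zero, one_smul]

end Groth.Agent.Helper7.ValEt
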