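import Mathlib
import Groth.Agent.Helper7.ValEtA

/-! # Local rings all of whose finitely generated ideals are flat are valuation rings -/

open TensorProduct

namespace Groth.Agent.Helper7.ValEt

universe u v

/-- In a local ring a finitely generated flat ideal is principal, generated by zero or by a
regular element. -/
theorem principal_of_flat {C : Type*} [CommRing C] [IsLocalRing C] (J : Ideal C) (hJ : J.FG)
    [Module.Flat C J] :
    ∃ g : C, J = Ideal.span {g} ∧ (g = 0 ∨ ∀ c : C, c * g = 0 → c = 0) := by
  haveI : Module.Finite C J := Module.Finite.iff_fg.mpr hJ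
  haveI : Module.Free C J := Module.free_of_flat_of_isLocalRing
  let b := Module.Free.chooseBasis C J
  have hsub : ∀ i j : Module.Free.ChooseBasisIndex C J, i = j := by
    intro i j
    by_contra hij
    have hrel : ((b j : J) : C) • b i = ((b i : J) : C) • b j := by
      apply Subtype.ext
      simp [mul_comm]
    have h2 := congrArg (fun z => b.repr z i) hrel
    simp only [map_smul, Module.Basis.repr_self, Finsupp.smul_apply, Finsupp.single_eq_same,
      smul_eq_mul, mul_one] at h2
    rw [Finsupp.single_eq_of_ne (by exact hij), mul_zero] at h2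
    have h3 : b j = 0 := Subtype.ext h2
    exact b.ne_zero j h3
  by_cases hne : Nonempty (Module.Free.ChooseBasisIndex C J)
  · obtain ⟨i⟩ := hne
    refine ⟨((b i : J) : C), ?_, Or.inr ?_⟩
    · apply le_antisymm
      · intro x hx
        have hx' : (⟨x, hx⟩ : J) = b.repr ⟨x, hx⟩ i • b i := by
          conv_lhs => rw [← b.linearCombination_repr ⟨x, hx⟩]
          rw [Finsupp.linearCombination_apply, Finsupp.sum]
          rw [Finset.sum_eq_single i]
          · intro j _ hj; exact absurd (hsub j i) hj
          · intro hi; simp [Finsupp.notMem_support_iff.mp hi]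
        have hx'' := congrArg (fun z : J => (z : C)) hx'
        simp only [Submodule.coe_smul, smul_eq_mul] at hx''
        rw [Ideal.mem_span_singleton']
        exact ⟨_, hx''.symm⟩
      · rw [Ideal.span_singleton_le_iff_mem]
        exact (b i).2
    · intro c hc
      have h1 : c • b i = 0 := by
        apply Subtype.ext
        simpa using hc
      have h2 := congrArg (fun z => b.repr z i) h1
      simpa using h2
  · refine ⟨0, ?_, Or.inl rfl⟩
    haveI : IsEmpty (Module.Free.ChooseBasisIndex C J) := not_nonempty_iff.mp hne
    haveI : Subsingleton J := b.repr.toEquiv.subsingleton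
    rw [Ideal.span_singleton_zero]  -- J = ⊥
    rw [eq_bot_iff]
    intro x hx
    have : (⟨x, hx⟩ : J) = 0 := Subsingleton.elim _ _
    simpa using congrArg (fun z : J => (z : C)) this

/-- A local ring in which every finitely generated ideal is flat is a domain and a valuation
ring. -/
theorem isDomain_and_valuationRing_of_flat_ideals (C : Type*) [CommRing C] [IsLocalRing C]
    (h : ∀ J : Ideal C, J.FG → Module.Flat C J) :
    IsDomain C ∧ (∀ _ : IsDomain C, ValuationRing C) := by
  have hreg : ∀ x : C, x ≠ 0 → ∀ y : C, x * y = 0 → y = 0 := by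
    intro x hx y hxy
    haveI := h (Ideal.span {x}) ⟨{x}, by simp⟩
    obtain ⟨g, hg, hg'⟩ := principal_of_flat (Ideal.span {x}) ⟨{x}, by simp⟩
    have hxg : x ∈ Ideal.span {g} := hg ▸ Ideal.mem_span_singleton_self x
    have hgx : g ∈ Ideal.span {x} := hg.symm ▸ Ideal.mem_span_singleton_self g
    rw [Ideal.mem_span_singleton'] at hxg hgx
    obtain ⟨c, hc⟩ := hxg
    obtain ⟨d, hd⟩ := hgx
    rcases hg' with h0 | hreg
    · exfalso; apply hx; rw [← hc, h0, mul_zero]
    · -- c * g * y = 0
      have h1 : (c * y) * g = 0 := by
        have : c * g * y = 0 := by rw [hc]; exact hxy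
        rw [← this]; ring
      have h2 : c * y = 0 := hreg _ h1
      have h3 : (1 - d * c) * g = 0 := by
        have : d * (c * g) = g := by rw [hc]; exact hd
        calc (1 - d * c) * g = g - d * (c * g) := by ring
          _ = 0 := by rw [this, sub_self]
      have h4 : 1 - d * c = 0 := hreg _ h3
      have h5 : d * c = 1 := by
        have := sub_eq_zero.mp h4
        exact this.symm
      calc y = (d * c) * y := by rw [h5, one_mul]
        _ = d * (c * y) := by ring
        _ = 0 := by rw [h2, mul_zero]
  have hdom : IsDomain C := by
    haveI : NoZeroDivisors C := ⟨fun {a b} hab => by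
      by_cases ha : a = 0
      · exact Or.inl ha
      · exact Or.inr (hreg a ha b hab)⟩
    exact NoZeroDivisors.to_isDomain C
  refine ⟨hdom, fun _ => ?_⟩
  rw [ValuationRing.iff_local_bezout_domain]
  refine ⟨inferInstance, ⟨fun I hI => ?_⟩⟩
  haveI := h I hI
  obtain ⟨g, hg, -⟩ := principal_of_flat I hI
  exact ⟨⟨g, hg⟩⟩

/-- **Etale-local extensions of valuation rings are valuation rings.** If `A` is a valuation
ring and `S` is a flat local `A`-algebra which is formally unramified and essentially of finite
type, then `S` is a valuation ring. -/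
theorem isDomain_and_valuationRing_of_unramified (A : Type u) (S : Type u) [CommRing A]
    [IsDomain A] [ValuationRing A] [CommRing S] [Algebra A S] [IsLocalRing S]
    [Module.Flat A S] [Algebra.EssFiniteType A S] [Algebra.FormallyUnramified A S] :
    IsDomain S ∧ (∀ _ : IsDomain S, ValuationRing S) := by
  apply isDomain_and_valuationRing_of_flat_ideals
  intro J _
  haveI : Module.Flat A J := by
    rw [Module.Flat.flat_iff_torsion_eq_bot_of_isBezout]
    rw [eq_bot_iff]
    rintro ⟨x, hx⟩ ⟨⟨r, hr⟩, h⟩
    have h1 : r • x = 0 := by
      have := congrArg (fun z : J => (z : S)) h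
      simpa using this
    have h2 : x ∈ Submodule.torsion A S := ⟨⟨r, hr⟩, h1⟩
    rw [Module.Flat.torsion_eq_bot] at h2
    have h3 : x = 0 := by simpa using h2
    simp [h3]
  exact flat_of_flat_base A S J

end Groth.Agent.Helper7.ValEt
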