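import Mathlib
import Groth.Agent.Helper7.ValEtB

/-! # Etale-local extensions of valuation rings are weakly unramified -/

open TensorProduct

namespace Groth.Agent.Helper7.ValEt

universe u v

/-- **Descent of a principal ideal.** If `C` is flat over `A`, `x ∈ C` and `x ⊗ 1` is a multiple
of `1 ⊗ x` in `C ⊗[A] C`, then `x` lies in the extension of the ideal `xC ∩ A` of `A`. -/
theorem mem_map_comap_of_tmul_mem {A C : Type*} [CommRing A] [CommRing C] [Algebra A C]
    [Module.Flat A C] (x : C)
    (h : x ⊗ₜ[A] (1 : C) ∈ Ideal.span {(1 : C) ⊗ₜ[A] x}) :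
    x ∈ ((Ideal.span {x}).comap (algebraMap A C)).map (algebraMap A C) := by
  set I : Ideal A := (Ideal.span {x}).comap (algebraMap A C) with hI
  -- the injection `A ⧸ I → C ⧸ (x)`
  let q : C →ₗ[A] C ⧸ Ideal.span {x} := (Submodule.mkQ (Ideal.span {x})).restrictScalars A
  let f0 : A →ₗ[A] C ⧸ Ideal.span {x} := q ∘ₗ Algebra.linearMap A C
  have hker : LinearMap.ker f0 = I := by
    ext a
    simp only [LinearMap.mem_ker, f0, q, LinearMap.coe_comp, Function.comp_apply,
      Algebra.linearMap_apply, LinearMap.coe_restrictScalars, Submodule.mkQ_apply,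
      Submodule.Quotient.mk_eq_zero, hI, Ideal.mem_comap]
  let f : A ⧸ I →ₗ[A] C ⧸ Ideal.span {x} := Submodule.liftQ I f0 hker.ge
  have hf : Function.Injective f := by
    rw [← LinearMap.ker_eq_bot]
    exact Submodule.ker_liftQ_eq_bot _ _ _ hker.le
  have hinj := Module.Flat.lTensor_preserves_injective_linearMap (M := C) f hf
  -- the map `C ⊗ C → C ⊗ C/(x)`
  let g : C ⊗[A] C →ₗ[A] C ⊗[A] (C ⧸ Ideal.span {x}) := q.lTensor C
  have hg0 : ∀ d : C ⊗[A] C, g (d * ((1 : C) ⊗ₜ[A] x)) = 0 := by
    intro d
    induction d using TensorProduct.induction_on with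
    | zero => simp
    | tmul a b =>
      simp only [Algebra.TensorProduct.tmul_mul_tmul, mul_one, g, LinearMap.lTensor_tmul, q,
        LinearMap.coe_restrictScalars, Submodule.mkQ_apply]
      have : (Submodule.Quotient.mk (b * x) : C ⧸ Ideal.span {x}) = 0 := by
        rw [Submodule.Quotient.mk_eq_zero]
        exact Ideal.mul_mem_left _ _ (Ideal.mem_span_singleton_self x)
      rw [this, tmul_zero]
    | add a b ha hb => rw [add_mul, map_add, ha, hb, add_zero]
  have hg1 : g (x ⊗ₜ[A] (1 : C)) = 0 := by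
    rw [Ideal.mem_span_singleton'] at h
    obtain ⟨d, hd⟩ := h
    rw [← hd]; exact hg0 d
  have ht : f.lTensor C (x ⊗ₜ[A] (1 : A ⧸ I)) = 0 := by
    rw [LinearMap.lTensor_tmul]
    have : f (1 : A ⧸ I) = q 1 := by
      change f (Submodule.Quotient.mk (1 : A)) = _
      simp only [f, Submodule.liftQ_apply, f0, LinearMap.coe_comp, Function.comp_apply,
        Algebra.linearMap_apply, map_one]
    rw [this]
    exact hg1
  have ht0 : x ⊗ₜ[A] (1 : A ⧸ I) = 0 := hinj (by rw [ht, map_zero])
  have h2 := congrArg (TensorProduct.tensorQuotEquivQuotSMul C I) ht0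
  rw [map_zero] at h2
  have h3 : (1 : A ⧸ I) = Ideal.Quotient.mk I 1 := rfl
  rw [h3, TensorProduct.tensorQuotEquivQuotSMul_tmul_mk, one_smul,
    Submodule.Quotient.mk_eq_zero, Ideal.smul_top_eq_map] at h2
  exact h2

/-- In a valuation ring `A`, an element of an extended ideal `I C` is a multiple of a single
element of `I`. -/
theorem exists_eq_mul_of_mem_map {A C : Type*} [CommRing A] [IsDomain A] [ValuationRing A]
    [CommRing C] [Algebra A C] (I : Ideal A) (y : C) (hy : y ∈ I.map (algebraMap A C)) :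
    ∃ a ∈ I, ∃ c : C, y = algebraMap A C a * c := by
  induction hy using Submodule.span_induction with
  | mem y hy =>
    obtain ⟨a, ha, rfl⟩ := hy
    exact ⟨a, ha, 1, (mul_one _).symm⟩
  | zero => exact ⟨0, I.zero_mem, 0, by simp⟩
  | add y z _ _ hy hz =>
    obtain ⟨a, ha, c, rfl⟩ := hy
    obtain ⟨a', ha', c', rfl⟩ := hz
    rcases ValuationRing.dvd_total a a' with ⟨t, rfl⟩ | ⟨t, rfl⟩
    · exact ⟨a, ha, c + algebraMap A C t * c', by rw [map_mul]; ring⟩
    · exact ⟨a', ha', algebraMap A C t * c + c', by rw [map_mul]; ring⟩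
  | smul r y _ hy =>
    obtain ⟨a, ha, c, rfl⟩ := hy
    exact ⟨a, ha, r * c, by rw [smul_eq_mul]; ring⟩

/-- In a ring with total divisibility a nonempty finite family has a member dividing all the
others. -/
theorem exists_dvd_all {C : Type*} [CommRing C] [IsDomain C] [ValuationRing C] {ι : Type*}
    (s : Finset ι) (hs : s.Nonempty) (t : ι → C) : ∃ i ∈ s, ∀ j ∈ s, t i ∣ t j := by
  induction hs using Finset.Nonempty.cons_induction with
  | singleton a => exact ⟨a, by simp, by simp⟩
  | cons a s ha hs ih =>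
    obtain ⟨i, his, hi⟩ := ih
    rcases ValuationRing.dvd_total (t i) (t a) with h | h
    · refine ⟨i, by simp [his], ?_⟩
      intro j hj
      rw [Finset.mem_cons] at hj
      rcases hj with rfl | hj
      · exact h
      · exact hi j hj
    · refine ⟨a, by simp, ?_⟩
      intro j hj
      rw [Finset.mem_cons] at hj
      rcases hj with rfl | hj
      · exact dvd_rfl
      · exact h.trans (hi j hj)

/-- A nonzero element `x` of a valuation ring `C`, algebraic over a subring `A`, has a power which
is a unit times an element of the fraction field of `A`: `b x ^ e = u a`. -/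
theorem exists_pow_rel {A C : Type*} [CommRing A] [CommRing C] [IsDomain C] [ValuationRing C]
    [Algebra A C] (hinj : Function.Injective (algebraMap A C)) (x : C) (hx : x ≠ 0)
    (halg : IsAlgebraic A x) :
    ∃ (a b : A) (e : ℕ) (u : Cˣ), b ≠ 0 ∧ 0 < e ∧
      algebraMap A C b * x ^ e = u * algebraMap A C a := by
  obtain ⟨p, hp0, hp⟩ := halg
  rw [Polynomial.aeval_eq_sum_range] at hp
  set t : ℕ → C := fun i => algebraMap A C (p.coeff i) * x ^ i with ht
  have hsupp : p.support.Nonempty := by
    rw [Finset.nonempty_iff_ne_empty, Ne, Polynomial.support_eq_empty]; exact hp0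
  have hsum : ∑ i ∈ p.support, t i = 0 := by
    rw [← hp]
    have h1 : ∀ i, t i = p.coeff i • x ^ i := fun i => by simp [t, Algebra.smul_def]
    simp only [h1]
    apply Finset.sum_subset
    · intro i hi
      rw [Finset.mem_range, Nat.lt_succ_iff]
      exact Polynomial.le_natDegree_of_mem_supp i hi
    · intro i _ hi
      rw [Polynomial.notMem_support_iff] at hi
      simp [hi]
  have htne : ∀ i ∈ p.support, t i ≠ 0 := by
    intro i hi
    rw [Polynomial.mem_support_iff] at hi
    exact mul_ne_zero (fun h => hi (hinj (by rw [h, map_zero]))) (pow_ne_zero _ hx)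
  obtain ⟨i0, hi0, hdvd⟩ := exists_dvd_all p.support hsupp t
  choose! c hc using hdvd
  -- `∑ c i = 0`
  have hsum' : t i0 * ∑ i ∈ p.support, c i = 0 := by
    rw [Finset.mul_sum, ← hsum]
    exact Finset.sum_congr rfl fun i hi => (hc i hi).symm
  have hsum'' : ∑ i ∈ p.support, c i = 0 := by
    rcases mul_eq_zero.mp hsum' with h | h
    · exact absurd h (htne i0 hi0)
    · exact h
  have hc0 : c i0 = 1 := by
    have := hc i0 hi0
    have h2 : t i0 * 1 = t i0 * c i0 := by rw [mul_one]; exact this
    exact (mul_left_cancel₀ (htne i0 hi0) h2).symm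
  -- some other `c j` is a unit
  have hex : ∃ j ∈ p.support, j ≠ i0 ∧ IsUnit (c j) := by
    by_contra hcon
    push Not at hcon
    have h1 : ∑ i ∈ p.support.erase i0, c i ∈ IsLocalRing.maximalIdeal C := by
      apply Ideal.sum_mem
      intro i hi
      rw [Finset.mem_erase] at hi
      exact hcon i hi.2 hi.1
    rw [← Finset.add_sum_erase _ _ hi0, hc0] at hsum''
    have h2 : (1 : C) ∈ IsLocalRing.maximalIdeal C := by
      have : (1 : C) = - ∑ i ∈ p.support.erase i0, c i := by
        rw [eq_neg_iff_add_eq_zero]; exact hsum''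
      rw [this]; exact Ideal.neg_mem_iff _ |>.mpr h1
    exact (Ideal.ne_top_iff_one _).mp (IsLocalRing.maximalIdeal.isMaximal C).ne_top h2
  obtain ⟨j, hj, hji, hju⟩ := hex
  have hrel := hc j hj
  simp only [t] at hrel
  have hcj : p.coeff j ≠ 0 := Polynomial.mem_support_iff.mp hj
  have hci : p.coeff i0 ≠ 0 := Polynomial.mem_support_iff.mp hi0
  rcases lt_or_gt_of_ne hji with hlt | hgt
  · -- j < i0
    refine ⟨p.coeff j, p.coeff i0, i0 - j, hju.unit⁻¹, hci, by omega, ?_⟩
    have hpow : x ^ i0 = x ^ j * x ^ (i0 - j) := by rw [← pow_add]; congr 1; omega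
    rw [hpow] at hrel
    have h1 : x ^ j * (algebraMap A C (p.coeff j)) =
        x ^ j * (algebraMap A C (p.coeff i0) * x ^ (i0 - j) * c j) := by
      rw [mul_comm, hrel]; ring
    have h2 := mul_left_cancel₀ (pow_ne_zero j hx) h1
    rw [h2]
    have : (hju.unit⁻¹ : Cˣ) * c j = 1 := by
      have := hju.unit.inv_mul
      simpa using this
    calc algebraMap A C (p.coeff i0) * x ^ (i0 - j)
        = algebraMap A C (p.coeff i0) * x ^ (i0 - j) * ((hju.unit⁻¹ : Cˣ) * c j) := by
          rw [this, mul_one]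
      _ = _ := by ring
  · -- i0 < j
    refine ⟨p.coeff i0, p.coeff j, j - i0, hju.unit, hcj, by omega, ?_⟩
    have hpow : x ^ j = x ^ i0 * x ^ (j - i0) := by rw [← pow_add]; congr 1; omega
    rw [hpow] at hrel
    have h1 : x ^ i0 * (algebraMap A C (p.coeff j) * x ^ (j - i0)) =
        x ^ i0 * (c j * algebraMap A C (p.coeff i0)) := by
      calc x ^ i0 * (algebraMap A C (p.coeff j) * x ^ (j - i0))
          = algebraMap A C (p.coeff j) * (x ^ i0 * x ^ (j - i0)) := by ring
        _ = algebraMap A C (p.coeff i0) * x ^ i0 * c j := hrel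
        _ = _ := by ring
    exact mul_left_cancel₀ (pow_ne_zero i0 hx) h1

end Groth.Agent.Helper7.ValEt
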