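import Mathlib
import Groth.Agent.Helper7.ValEtC

/-! # Etale-local extensions of valuation rings: weak unramifiedness -/

open TensorProduct

namespace Groth.Agent.Helper7.ValEt

universe u v

/-- Elements of a flat, essentially finite type, formally unramified algebra over a domain are
algebraic. -/
theorem isAlgebraic_of_unramified (A : Type u) (C : Type u) [CommRing A] [IsDomain A]
    [CommRing C] [Algebra A C] [Module.Flat A C] [Algebra.EssFiniteType A C]
    [Algebra.FormallyUnramified A C] (x : C) : IsAlgebraic A x := by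
  let K := FractionRing A
  haveI : Module.Finite K (K ⊗[A] C) := Algebra.FormallyUnramified.finite_of_free K (K ⊗[A] C)
  haveI : Algebra.IsIntegral K (K ⊗[A] C) := inferInstance
  have h1 : IsAlgebraic K ((1 : K) ⊗ₜ[A] x) :=
    (Algebra.IsIntegral.isIntegral (R := K) ((1 : K) ⊗ₜ[A] x)).isAlgebraic
  have h2 : IsAlgebraic A ((1 : K) ⊗ₜ[A] x) :=
    (IsFractionRing.isAlgebraic_iff A K (K ⊗[A] C)).mpr h1
  obtain ⟨p, hp0, hp⟩ := h2
  refine ⟨p, hp0, ?_⟩
  have h3 : (Algebra.TensorProduct.includeRight : C →ₐ[A] K ⊗[A] C) x = (1 : K) ⊗ₜ[A] x := rfl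
  rw [← h3, Polynomial.aeval_algHom_apply] at hp
  have hinj : Function.Injective (Algebra.TensorProduct.includeRight : C →ₐ[A] K ⊗[A] C) :=
    Algebra.TensorProduct.includeRight_injective (IsFractionRing.injective A K)
  exact hinj (by rw [hp, map_zero])

/-- **Etale-local extensions of valuation rings are weakly unramified.** -/
theorem exists_unit_mul_of_unramified (A : Type u) (C : Type u) [CommRing A]
    [IsDomain A] [ValuationRing A] [CommRing C] [Algebra A C] [IsLocalRing C]
    [Module.Flat A C] [Algebra.EssFiniteType A C] [Algebra.FormallyUnramified A C]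
    (x : C) (hx : x ≠ 0) : ∃ (a : A) (u : Cˣ), x = u * algebraMap A C a := by
  obtain ⟨hdomC, hvalC⟩ := isDomain_and_valuationRing_of_unramified A C
  haveI := hdomC
  haveI := hvalC hdomC
  have hinjAC : Function.Injective (algebraMap A C) := by
    rw [injective_iff_map_eq_zero]
    intro a ha
    by_contra ha0
    have h1 : (1 : C) ∈ Submodule.torsion A C :=
      ⟨⟨a, mem_nonZeroDivisors_of_ne_zero ha0⟩, by
        change a • (1 : C) = 0
        rw [Algebra.smul_def, mul_one]; exact ha⟩
    rw [Module.Flat.torsion_eq_bot] at h1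
    exact one_ne_zero ((Submodule.mem_bot A).mp h1)
  obtain ⟨a, b, e, u, hb, he, hrel⟩ :=
    exists_pow_rel hinjAC x hx (isAlgebraic_of_unramified A C x)
  -- the ring `D = C ⊗ C`
  let D := C ⊗[A] C
  haveI : Algebra.EssFiniteType A D := Algebra.EssFiniteType.comp A C D
  haveI : Algebra.FormallyUnramified A D := Algebra.FormallyUnramified.comp A C D
  haveI : Module.Flat A D := inferInstance
  set x1 : D := x ⊗ₜ[A] (1 : C) with hx1
  set x2 : D := (1 : C) ⊗ₜ[A] x with hx2
  have hrel1 : algebraMap A D b * x1 ^ e = ((u : C) ⊗ₜ[A] (1 : C)) * algebraMap A D a := by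
    have := congrArg (Algebra.TensorProduct.includeLeft : C →ₐ[A] C ⊗[A] C) hrel
    rw [map_mul, map_pow, map_mul, AlgHom.commutes, AlgHom.commutes] at this
    exact this
  have hrel2 : algebraMap A D b * x2 ^ e = ((1 : C) ⊗ₜ[A] (u : C)) * algebraMap A D a := by
    have := congrArg (Algebra.TensorProduct.includeRight : C →ₐ[A] C ⊗[A] C) hrel
    rw [map_mul, map_pow, map_mul, AlgHom.commutes, AlgHom.commutes] at this
    exact this
  have hu1 : IsUnit ((u : C) ⊗ₜ[A] (1 : C) : D) :=
    (u.isUnit.map (Algebra.TensorProduct.includeLeft : C →ₐ[A] C ⊗[A] C))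
  have hu2 : IsUnit ((1 : C) ⊗ₜ[A] (u : C) : D) :=
    (u.isUnit.map (Algebra.TensorProduct.includeRight : C →ₐ[A] C ⊗[A] C))
  -- `x1`, `x2` are regular in `D`
  have hmulx : Function.Injective (LinearMap.mulLeft A x) := by
    intro y z hyz
    exact mul_left_cancel₀ hx hyz
  have hreg1 : ∀ d : D, x1 * d = 0 → d = 0 := by
    have hid : ∀ d : D, (LinearMap.mulLeft A x).rTensor C d = x1 * d := by
      intro d
      induction d using TensorProduct.induction_on with
      | zero => simp
      | tmul y z =>
        simp only [x1, LinearMap.rTensor_tmul, LinearMap.mulLeft_apply]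
        exact (by rw [Algebra.TensorProduct.tmul_mul_tmul, one_mul] :
          (x * y) ⊗ₜ[A] z = ((x ⊗ₜ[A] (1 : C)) * (y ⊗ₜ[A] z) : C ⊗[A] C))
      | add y z hy hz => rw [map_add, mul_add, hy, hz]
    intro d hd
    have := Module.Flat.rTensor_preserves_injective_linearMap (M := C) _ hmulx
    apply this
    rw [map_zero, hid, hd]
  have hreg2 : ∀ d : D, x2 * d = 0 → d = 0 := by
    have hid : ∀ d : D, (LinearMap.mulLeft A x).lTensor C d = x2 * d := by
      intro d
      induction d using TensorProduct.induction_on with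
      | zero => simp
      | tmul y z =>
        simp only [x2, LinearMap.lTensor_tmul, LinearMap.mulLeft_apply]
        exact (by rw [Algebra.TensorProduct.tmul_mul_tmul, one_mul] :
          y ⊗ₜ[A] (x * z) = (((1 : C) ⊗ₜ[A] x) * (y ⊗ₜ[A] z) : C ⊗[A] C))
      | add y z hy hz => rw [map_add, mul_add, hy, hz]
    intro d hd
    have := Module.Flat.lTensor_preserves_injective_linearMap (M := C) _ hmulx
    apply this
    rw [map_zero, hid, hd]
  -- local comparison
  have hloc : ∀ (P : Ideal D) (_ : P.IsMaximal), ∀ y1 y2 : D,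
      (∀ d : D, y1 * d = 0 → d = 0) → ∀ v1 v2 : D, IsUnit v1 → IsUnit v2 →
      algebraMap A D b * y1 ^ e = v1 * algebraMap A D a →
      algebraMap A D b * y2 ^ e = v2 * algebraMap A D a →
      algebraMap D (Localization.AtPrime P) y1 ∣ algebraMap D (Localization.AtPrime P) y2 →
      algebraMap D (Localization.AtPrime P) y2 ∣ algebraMap D (Localization.AtPrime P) y1 := by
    intro P hP y1 y2 hy1 v1 v2 hv1 hv2 hr1 hr2 hdvd
    haveI : Module.Flat A (Localization.AtPrime P) :=
      Module.Flat.trans A D (Localization.AtPrime P)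
    obtain ⟨hdomP, hvalP⟩ := isDomain_and_valuationRing_of_unramified A (Localization.AtPrime P)
    haveI := hdomP
    set φ := algebraMap D (Localization.AtPrime P) with hφ
    obtain ⟨z, hz⟩ := hdvd
    have hY1 : φ y1 ≠ 0 := by
      intro h0
      rw [hφ, IsLocalization.map_eq_zero_iff P.primeCompl] at h0
      obtain ⟨s, hs⟩ := h0
      have : (s : D) = 0 := hy1 _ (by rw [mul_comm]; exact hs)
      exact s.2 (this ▸ P.zero_mem)
    have hβ : φ (algebraMap A D b) ≠ 0 := by
      intro h0
      have h1 : (1 : Localization.AtPrime P) ∈ Submodule.torsion A (Localization.AtPrime P) :=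
        ⟨⟨b, mem_nonZeroDivisors_of_ne_zero hb⟩, by
          change b • (1 : Localization.AtPrime P) = 0
          rw [Algebra.smul_def, mul_one, IsScalarTower.algebraMap_apply A D]; exact h0⟩
      rw [Module.Flat.torsion_eq_bot] at h1
      exact one_ne_zero ((Submodule.mem_bot A).mp h1)
    have e1 := congrArg φ hr1
    have e2 := congrArg φ hr2
    simp only [map_mul, map_pow] at e1 e2
    rw [hz, mul_pow] at e2
    -- `φ v2 * (β Y1^e) = φ v1 * (β Y1^e z^e)`
    have e3 : φ (algebraMap A D b) * φ y1 ^ e * (φ v1 * z ^ e) =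
        φ (algebraMap A D b) * φ y1 ^ e * φ v2 := by
      calc φ (algebraMap A D b) * φ y1 ^ e * (φ v1 * z ^ e)
          = φ v1 * (φ (algebraMap A D b) * (φ y1 ^ e * z ^ e)) := by ring
        _ = φ v1 * (φ v2 * φ (algebraMap A D a)) := by rw [e2]
        _ = φ v2 * (φ v1 * φ (algebraMap A D a)) := by ring
        _ = φ v2 * (φ (algebraMap A D b) * φ y1 ^ e) := by rw [e1]
        _ = _ := by ring
    have e4 := mul_left_cancel₀ (mul_ne_zero hβ (pow_ne_zero e hY1)) e3
    have hze : IsUnit (z ^ e) := by
      have h1 : IsUnit (φ v1 * z ^ e) := e4 ▸ hv2.map φ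
      exact isUnit_of_mul_isUnit_right h1
    have hzu : IsUnit z := (isUnit_pow_iff he.ne').mp hze
    obtain ⟨w, hw⟩ := hzu
    refine ⟨(w⁻¹ : (Localization.AtPrime P)ˣ), ?_⟩
    rw [hz, ← hw, mul_assoc, Units.mul_inv, mul_one]
  have hmem : x1 ∈ Ideal.span {x2} := by
    apply Ideal.mem_of_localization_maximal
    intro P hP
    rw [Ideal.map_span, Set.image_singleton, Ideal.mem_span_singleton]
    haveI : Module.Flat A (Localization.AtPrime P) :=
      Module.Flat.trans A D (Localization.AtPrime P)
    obtain ⟨hdomP, hvalP⟩ := isDomain_and_valuationRing_of_unramified A (Localization.AtPrime P)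
    haveI := hdomP
    haveI := hvalP hdomP
    rcases ValuationRing.dvd_total (algebraMap D (Localization.AtPrime P) x2)
      (algebraMap D (Localization.AtPrime P) x1) with h | h
    · exact h
    · exact hloc P hP x1 x2 hreg1 _ _ hu1 hu2 hrel1 hrel2 h
  have hx' := mem_map_comap_of_tmul_mem x hmem
  obtain ⟨a0, ha0, c, hc⟩ := exists_eq_mul_of_mem_map _ x hx'
  rw [Ideal.mem_comap, Ideal.mem_span_singleton'] at ha0
  obtain ⟨d, hd⟩ := ha0
  have h1 : x * (d * c) = x * 1 := by
    calc x * (d * c) = (d * x) * c := by ring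
      _ = x := by rw [hd, ← hc]
      _ = x * 1 := (mul_one x).symm
  have h2 : d * c = 1 := mul_left_cancel₀ hx h1
  have hcu : IsUnit c := IsUnit.of_mul_eq_one d (by rw [mul_comm]; exact h2)
  exact ⟨a0, hcu.unit, by rw [hc, mul_comm]; rfl⟩

end Groth.Agent.Helper7.ValEt
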