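import Mathlib
import Groth.Agent.Helper7.ValEtD
import Groth.Agent.Helper1.HensStrictTransfer
import Groth.Agent.Helper1.HensIsHens

/-! # (Strict) henselizations of valuation rings -/

open TensorProduct Groth.Agent.Helper1.Hens

namespace Groth.Agent.Helper7.ValEt

universe u

section
variable (A : Type u) [CommRing A] [IsDomain A] [ValuationRing A] (Ω : Type u) [Field Ω]
  [Algebra A Ω]

lemma idxL_domain (i : Idx A Ω) : IsDomain i.L :=
  (isDomain_and_valuationRing_of_unramified A i.L).1

lemma exists_common {z w : Hens A Ω} : ∃ (k : Idx A Ω) (x y : k.L),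
    Hens.of k x = z ∧ Hens.of k y = w := by
  obtain ⟨i, x, rfl⟩ := Hens.exists_of z
  obtain ⟨j, y, rfl⟩ := Hens.exists_of w
  obtain ⟨k, hik, hjk⟩ := exists_ge_ge i j
  exact ⟨k, Idx.trans hik x, Idx.trans hjk y, Hens.of_trans hik x, Hens.of_trans hjk y⟩

/-- The direct limit `Hens A Ω` of the local rings of pointed étale algebras over a valuation
ring `A` is a valuation ring with the same value group. -/
theorem hens_valuationRing :
    IsDomain (Hens A Ω) ∧ (∀ _ : IsDomain (Hens A Ω), ValuationRing (Hens A Ω)) ∧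
      ∀ s : Hens A Ω, s ≠ 0 → ∃ (a : A) (u : (Hens A Ω)ˣ), s = u * algebraMap A (Hens A Ω) a := by
  have hdom : IsDomain (Hens A Ω) := by
    haveI : NoZeroDivisors (Hens A Ω) := ⟨fun {z w} hzw => by
      obtain ⟨k, x, y, rfl, rfl⟩ := exists_common A Ω (z := z) (w := w)
      rw [← map_mul] at hzw
      obtain ⟨l, hkl, h0⟩ := Hens.of_eq_zero hzw
      haveI := idxL_domain A Ω l
      rw [map_mul] at h0
      rcases mul_eq_zero.mp h0 with h | h
      · left; rw [← Hens.of_trans hkl, h, map_zero]
      · right; rw [← Hens.of_trans hkl, h, map_zero]⟩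
    exact NoZeroDivisors.to_isDomain _
  refine ⟨hdom, fun _ => ?_, ?_⟩
  · rw [ValuationRing.iff_dvd_total]
    refine ⟨fun z w => ?_⟩
    obtain ⟨k, x, y, rfl, rfl⟩ := exists_common A Ω (z := z) (w := w)
    obtain ⟨hd, hv⟩ := isDomain_and_valuationRing_of_unramified A k.L
    haveI := hd
    haveI := hv hd
    rcases ValuationRing.dvd_total x y with h | h
    · exact Or.inl (map_dvd (Hens.of k) h)
    · exact Or.inr (map_dvd (Hens.of k) h)
  · intro s hs
    obtain ⟨i, x, rfl⟩ := Hens.exists_of s
    have hx : x ≠ 0 := fun h => hs (by rw [h, map_zero])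
    obtain ⟨a, u, hu⟩ := exists_unit_mul_of_unramified A i.L x hx
    refine ⟨a, Units.map (Hens.of i).toMonoidHom u, ?_⟩
    rw [hu, map_mul, Hens.algebraMap_eq i a]
    rfl

end

/-- **The henselization and the strict henselization of a valuation ring** are valuation rings
with the same value group. -/
theorem henselization_valuationRing (A S : Type u) [CommRing A] [IsDomain A] [ValuationRing A]
    [CommRing S] [IsLocalRing S] [Algebra A S] [IsLocalHom (algebraMap A S)]
    (h : Hensel.IsHenselization A S ∨ Hensel.IsStrictHenselization A S) :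
    IsDomain S ∧ (∀ _ : IsDomain S, ValuationRing S) ∧ Function.Injective (algebraMap A S) ∧
      ∀ s : S, s ≠ 0 → ∃ (a : A) (u : Sˣ), s = u * algebraMap A S a := by
  -- reduce to `Hens A Ω`
  suffices hmain : ∀ (Ω : Type u) [Field Ω] [Algebra A Ω] (e : S ≃ₐ[A] Hens A Ω),
      IsDomain S ∧ (∀ _ : IsDomain S, ValuationRing S) ∧ Function.Injective (algebraMap A S) ∧
      ∀ s : S, s ≠ 0 → ∃ (a : A) (u : Sˣ), s = u * algebraMap A S a by
    rcases h with h | h
    · haveI := h
      exact hmain _ (equivOfIsHenselization S)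
    · haveI := h
      exact hmain _ (equivOfIsStrictHenselization A S)
  intro Ω _ _ e
  obtain ⟨hd, hv, hu⟩ := hens_valuationRing A Ω
  have hdS : IsDomain S := e.toRingEquiv.toMulEquiv.isDomain _
  refine ⟨hdS, fun _ => ?_, ?_, ?_⟩
  · haveI := hd
    haveI := hv hd
    rw [ValuationRing.iff_dvd_total]
    refine ⟨fun z w => ?_⟩
    rcases ValuationRing.dvd_total (e z) (e w) with h | h
    · left
      have := map_dvd e.symm h
      simpa using this
    · right
      have := map_dvd e.symm h
      simpa using this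
  · rw [injective_iff_map_eq_zero]
    intro a ha
    have h1 : algebraMap A (Hens A Ω) a = 0 := by
      rw [← e.commutes, ha, map_zero]
    by_contra ha0
    haveI := hd
    obtain ⟨a', u, hu'⟩ := hu 1 one_ne_zero
    -- `1 = u * a'`; multiply by `a`
    have h2 : (1 : Hens A Ω) ∈ Submodule.torsion A (Hens A Ω) :=
      ⟨⟨a, mem_nonZeroDivisors_of_ne_zero ha0⟩, by
        change a • (1 : Hens A Ω) = 0
        rw [Algebra.smul_def, mul_one]; exact h1⟩
    rw [Module.Flat.torsion_eq_bot] at h2
    exact one_ne_zero ((Submodule.mem_bot A).mp h2)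
  · intro s hs
    have hes : e s ≠ 0 := fun h0 => hs (by
      have := congrArg e.symm h0
      simpa using this)
    obtain ⟨a, u, hu'⟩ := hu (e s) hes
    refine ⟨a, Units.map e.symm.toAlgHom.toRingHom.toMonoidHom u, ?_⟩
    have := congrArg e.symm hu'
    rw [e.symm_apply_apply, map_mul, e.symm.commutes] at this
    rw [this]
    rfl

end Groth.Agent.Helper7.ValEt
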