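import Mathlib
import Groth.Agent.Helper7.ValEtD

/-! # The Gauss valuation ring `V[X]_{𝔪 V[X]}` -/

open TensorProduct MvPolynomial

namespace Groth.Agent.Helper7.ValEt

universe u

/-- **Gauss.** For a valuation ring `V`, every nonzero element of the localization of
`V[X₁, …, Xₙ]` at the extension of the maximal ideal of `V` is a unit times a constant. -/
theorem gauss_exists_unit_mul (V : Type*) [CommRing V] [IsDomain V] [ValuationRing V]
    (σ : Type*) (W : Type*) [CommRing W] [Algebra (MvPolynomial σ V) W]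
    (q : Ideal (MvPolynomial σ V)) [q.IsPrime]
    (hq : q = (IsLocalRing.maximalIdeal V).map (C : V →+* MvPolynomial σ V))
    [IsLocalization.AtPrime W q] (w : W) (hw : w ≠ 0) :
    ∃ (v : V) (u : Wˣ), w = u * algebraMap (MvPolynomial σ V) W (C v) := by
  classical
  obtain ⟨g, s, rfl⟩ := IsLocalization.exists_mk'_eq q.primeCompl w
  have hg : g ≠ 0 := by
    rintro rfl
    exact hw (IsLocalization.mk'_zero _)
  have hsupp : g.support.Nonempty := by
    rw [Finset.nonempty_iff_ne_empty, Ne, MvPolynomial.support_eq_empty]; exact hg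
  obtain ⟨m0, hm0, hdvd⟩ := exists_dvd_all g.support hsupp (fun m => coeff m g)
  choose! d hd using hdvd
  have hc0 : coeff m0 g ≠ 0 := MvPolynomial.mem_support_iff.mp hm0
  set g0 : MvPolynomial σ V := ∑ m ∈ g.support, monomial m (d m) with hg0
  have hcoeff : ∀ m, coeff m g0 = if m ∈ g.support then d m else 0 := by
    intro m
    rw [hg0, MvPolynomial.coeff_sum]
    simp only [MvPolynomial.coeff_monomial]
    rw [Finset.sum_ite_eq' g.support m]
  have hgg0 : g = C (coeff m0 g) * g0 := by
    ext m
    rw [MvPolynomial.coeff_C_mul, hcoeff]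
    by_cases hm : m ∈ g.support
    · rw [if_pos hm]; exact hd m hm
    · rw [if_neg hm, mul_zero]; exact MvPolynomial.notMem_support_iff.mp hm
  have hd0 : d m0 = 1 := by
    have h1 := hd m0 hm0
    have h2 : coeff m0 g * 1 = coeff m0 g * d m0 := by rw [mul_one]; exact h1
    exact (mul_left_cancel₀ hc0 h2).symm
  have hg0q : g0 ∈ q.primeCompl := by
    intro hmem
    rw [SetLike.mem_coe, hq, MvPolynomial.mem_map_C_iff] at hmem
    have := hmem m0
    rw [hcoeff, if_pos hm0, hd0] at this
    exact (Ideal.ne_top_iff_one _).mp (IsLocalRing.maximalIdeal.isMaximal V).ne_top this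
  have hu : IsUnit (IsLocalization.mk' W g0 s) :=
    (IsLocalization.AtPrime.isUnit_mk'_iff W q g0 s).mpr hg0q
  refine ⟨coeff m0 g, hu.unit, ?_⟩
  rw [IsUnit.unit_spec, mul_comm, IsLocalization.mul_mk'_eq_mk'_of_mul, ← hgg0]

end Groth.Agent.Helper7.ValEt
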