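import Mathlib
import Groth.Agent.Helper7.ValEtF

/-! # Local rings of smooth algebras over a valuation ring at generic points of the special fibre -/

open TensorProduct MvPolynomial IsLocalRing

namespace Groth.Agent.Helper7.ValEt

universe u

/-- Abstract form: a local domain `T` that is flat, essentially of finite type and formally
unramified over `V[X₁, …, Xₙ]` and whose maximal ideal contracts to `𝔪 V[X]` is a valuation ring with
the same value group as `V`. -/
theorem valuationRing_of_unramified_over_mvPolynomial (V : Type u) [CommRing V] [IsDomain V]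
    [ValuationRing V] (n : ℕ) (T : Type u) [CommRing T] [IsLocalRing T] [IsDomain T]
    [Algebra V T] [Algebra (MvPolynomial (Fin n) V) T] [IsScalarTower V (MvPolynomial (Fin n) V) T]
    [Module.Flat (MvPolynomial (Fin n) V) T] [Algebra.EssFiniteType (MvPolynomial (Fin n) V) T]
    [Algebra.FormallyUnramified (MvPolynomial (Fin n) V) T]
    (hq : (maximalIdeal T).comap (algebraMap (MvPolynomial (Fin n) V) T) =
      (maximalIdeal V).map (C : V →+* MvPolynomial (Fin n) V)) :
    ValuationRing T ∧ ∀ x : T, x ≠ 0 → ∃ (v : V) (w : Tˣ), x = algebraMap V T v * w := by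
  set P := MvPolynomial (Fin n) V with hP
  set q : Ideal P := (maximalIdeal T).comap (algebraMap P T) with hqdef
  haveI : q.IsPrime := Ideal.comap_isPrime _ _
  let W := Localization.AtPrime q
  have hunits : ∀ y : q.primeCompl, IsUnit (algebraMap P T y) := by
    intro y
    by_contra hy
    exact y.2 ((mem_maximalIdeal _).mpr hy)
  letI : Algebra W T := (IsLocalization.lift (M := q.primeCompl) (g := algebraMap P T)
    hunits).toAlgebra
  haveI : IsScalarTower P W T :=
    IsScalarTower.of_algebraMap_eq (fun x => (IsLocalization.lift_eq hunits x).symm)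
  haveI : Module.Flat W T := (Module.flat_iff_of_isLocalization W q.primeCompl T).mpr inferInstance
  haveI : Algebra.EssFiniteType W T := Algebra.EssFiniteType.of_comp P W T
  haveI : Algebra.FormallyUnramified W T := Algebra.FormallyUnramified.of_restrictScalars P W T
  haveI : IsDomain W := IsLocalization.isDomain_localization q.primeCompl_le_nonZeroDivisors
  -- `W` is a valuation ring
  have hWunit : ∀ w : W, w ≠ 0 → ∃ (v : V) (u : Wˣ), w = u * algebraMap P W (C v) :=
    fun w hw => gauss_exists_unit_mul V (Fin n) W q hq w hw
  haveI : ValuationRing W := by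
    rw [ValuationRing.iff_dvd_total]
    refine ⟨fun a b => ?_⟩
    by_cases ha : a = 0
    · right; rw [ha]; exact dvd_zero b
    by_cases hb : b = 0
    · left; rw [hb]; exact dvd_zero a
    obtain ⟨v, u, rfl⟩ := hWunit a ha
    obtain ⟨v', u', rfl⟩ := hWunit b hb
    rcases ValuationRing.dvd_total v v' with h | h
    · left
      exact (Units.mul_left_dvd).mpr (Dvd.dvd.mul_left (map_dvd _ (map_dvd _ h)) _)
    · right
      exact (Units.mul_left_dvd).mpr (Dvd.dvd.mul_left (map_dvd _ (map_dvd _ h)) _)
  obtain ⟨hd, hv⟩ := isDomain_and_valuationRing_of_unramified W T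
  refine ⟨hv inferInstance, fun x hx => ?_⟩
  obtain ⟨w, u, hu⟩ := exists_unit_mul_of_unramified W T x hx
  have hw : w ≠ 0 := by
    rintro rfl
    apply hx; rw [hu, map_zero, mul_zero]
  obtain ⟨v, u', rfl⟩ := hWunit w hw
  refine ⟨v, u * Units.map (algebraMap W T).toMonoidHom u', ?_⟩
  rw [hu, map_mul, ← IsScalarTower.algebraMap_apply P W T,
    IsScalarTower.algebraMap_apply V P T v]
  simp only [Units.val_mul, Units.coe_map, RingHom.toMonoidHom_eq_coe, MonoidHom.coe_coe]
  rw [MvPolynomial.algebraMap_eq]
  ring

end Groth.Agent.Helper7.ValEt
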