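import Mathlib
import Groth.Agent.Helper7.ValEtG

/-! # Local rings of smooth algebras over a valuation ring at generic points of the special fibre -/

open TensorProduct MvPolynomial IsLocalRing

namespace Groth.Agent.Helper7.ValEt

universe u

lemma isPrime_map_C_maximalIdeal (V : Type*) [CommRing V] [IsLocalRing V] (σ : Type*) :
    ((maximalIdeal V).map (C : V →+* MvPolynomial σ V)).IsPrime := by
  have h := MvPolynomial.ker_map (σ := σ) (residue V)
  rw [IsLocalRing.ker_residue] at h
  rw [← h]
  exact RingHom.ker_isPrime _

/-- **Generic points of the special fibre of a smooth algebra over a valuation ring.** -/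
theorem valuationRing_localization_of_smooth
    (V : Type u) [CommRing V] [IsDomain V] [ValuationRing V]
    (A : Type u) [CommRing A] [IsDomain A] [Algebra V A] [Algebra.Smooth V A]
    (p : Ideal A) [p.IsPrime]
    (hp : p ∈ ((maximalIdeal V).map (algebraMap V A)).minimalPrimes) :
    ValuationRing (Localization.AtPrime p) ∧
      Function.Injective (algebraMap V (Localization.AtPrime p)) ∧
      IsLocalHom (algebraMap V (Localization.AtPrime p)) ∧
      ∀ x : Localization.AtPrime p, x ≠ 0 →
        ∃ (v : V) (w : (Localization.AtPrime p)ˣ),
          x = algebraMap V (Localization.AtPrime p) v * w := by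
  set T := Localization.AtPrime p with hT
  have hmp : (maximalIdeal V).map (algebraMap V A) ≤ p := hp.1.2
  haveI : Algebra.FormallySmooth A T := Algebra.FormallySmooth.of_isLocalization p.primeCompl
  haveI : Algebra.IsSmoothAt V p := Algebra.FormallySmooth.comp V A T
  obtain ⟨f, hfp, n, algPS, hST, hse⟩ :=
    Algebra.IsSmoothAt.exists_isStandardEtale_mvPolynomial (R := V) (S := A) (p := p)
  set S := Localization.Away f with hS
  set P := MvPolynomial (Fin n) V with hP
  letI : Algebra P S := algPS
  haveI : IsScalarTower V P S := hST
  haveI : Algebra.IsStandardEtale P S := hse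
  haveI : Algebra.Etale P S := inferInstance
  have hunitsf : ∀ y : Submonoid.powers f, IsUnit (algebraMap A T y) := by
    rintro ⟨_, k, rfl⟩
    rw [map_pow]
    exact IsUnit.pow _ ((IsLocalization.AtPrime.isUnit_to_map_iff T p f).mpr hfp)
  letI : Algebra S T := (IsLocalization.lift (M := Submonoid.powers f) (g := algebraMap A T)
    hunitsf).toAlgebra
  haveI : IsScalarTower A S T :=
    IsScalarTower.of_algebraMap_eq (fun x => (IsLocalization.lift_eq hunitsf x).symm)
  have hle : Submonoid.powers f ≤ p.primeCompl := by
    rintro _ ⟨k, rfl⟩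
    exact fun h => hfp (Ideal.IsPrime.mem_of_pow_mem inferInstance k h)
  haveI : IsLocalization ((p.primeCompl).map (algebraMap A S)) T :=
    IsLocalization.isLocalization_of_submonoid_le S T (Submonoid.powers f) p.primeCompl hle
  letI : Algebra P T := ((algebraMap S T).comp (algebraMap P S)).toAlgebra
  haveI : IsScalarTower P S T := IsScalarTower.of_algebraMap_eq (fun _ => rfl)
  haveI : IsScalarTower V P T := by
    apply IsScalarTower.of_algebraMap_eq
    intro v
    change algebraMap V T v = algebraMap S T (algebraMap P S (algebraMap V P v))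
    rw [← IsScalarTower.algebraMap_apply V P S, IsScalarTower.algebraMap_apply V A S,
      ← IsScalarTower.algebraMap_apply A S T, ← IsScalarTower.algebraMap_apply V A T]
  haveI : Module.Flat S T := IsLocalization.flat T ((p.primeCompl).map (algebraMap A S))
  haveI : Module.Flat P S := inferInstance
  haveI : Module.Flat P T := Module.Flat.trans P S T
  haveI : Algebra.EssFiniteType S T :=
    Algebra.EssFiniteType.of_isLocalization T ((p.primeCompl).map (algebraMap A S))
  haveI : Algebra.EssFiniteType P T := Algebra.EssFiniteType.comp P S T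
  haveI : Algebra.FormallyUnramified S T :=
    Algebra.FormallyUnramified.of_isLocalization ((p.primeCompl).map (algebraMap A S))
  haveI : Algebra.FormallyUnramified P T := Algebra.FormallyUnramified.comp P S T
  have hVT : ∀ v : V, algebraMap P T (C v) = algebraMap A T (algebraMap V A v) := by
    intro v
    rw [← MvPolynomial.algebraMap_eq, ← IsScalarTower.algebraMap_apply V P T,
      IsScalarTower.algebraMap_apply V A T]
  have hmT : ∀ v ∈ maximalIdeal V, algebraMap A T (algebraMap V A v) ∈ maximalIdeal T := by
    intro v hv
    rw [IsLocalization.AtPrime.to_map_mem_maximal_iff T p]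
    exact hmp (Ideal.mem_map_of_mem _ hv)
  -- the contraction of the maximal ideal
  have hq : (maximalIdeal T).comap (algebraMap P T) =
      (maximalIdeal V).map (C : V →+* MvPolynomial (Fin n) V) := by
    haveI hmPprime := isPrime_map_C_maximalIdeal V (Fin n)
    have hle1 : (maximalIdeal V).map (C : V →+* MvPolynomial (Fin n) V) ≤
        (maximalIdeal T).comap (algebraMap P T) := by
      rw [Ideal.map_le_iff_le_comap]
      intro v hv
      rw [Ideal.mem_comap, Ideal.mem_comap, hVT]
      exact hmT v hv
    haveI : ((maximalIdeal T).comap (algebraMap P T)).IsPrime := Ideal.comap_isPrime _ _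
    haveI : (maximalIdeal T).LiesOver ((maximalIdeal T).comap (algebraMap P T)) := ⟨rfl⟩
    obtain ⟨Q', hQ'M, hQ'prime, hQ'over⟩ :=
      Ideal.exists_ideal_le_liesOver_of_le
        (p := (maximalIdeal V).map (C : V →+* MvPolynomial (Fin n) V))
        (q := (maximalIdeal T).comap (algebraMap P T)) (maximalIdeal T) hle1
    haveI := hQ'prime
    have hcomapM : (maximalIdeal T).comap (algebraMap A T) = p :=
      IsLocalization.AtPrime.under_maximalIdeal T p
    have h1 : Q'.comap (algebraMap A T) ≤ p := (Ideal.comap_mono hQ'M).trans hcomapM.le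
    have h2 : (maximalIdeal V).map (algebraMap V A) ≤ Q'.comap (algebraMap A T) := by
      rw [Ideal.map_le_iff_le_comap]
      intro v hv
      rw [Ideal.mem_comap, Ideal.mem_comap, ← hVT]
      have : C v ∈ Q'.under P := by
        rw [← hQ'over.over]; exact Ideal.mem_map_of_mem _ hv
      exact this
    have h3 : p ≤ Q'.comap (algebraMap A T) := hp.2 ⟨Ideal.comap_isPrime _ _, h2⟩ h1
    have h4 : Q'.under A = (maximalIdeal T).under A :=
      (le_antisymm h1 h3).trans hcomapM.symm
    have h5 : Q' = maximalIdeal T := by
      have e1 := IsLocalization.map_under p.primeCompl T Q'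
      have e2 := IsLocalization.map_under p.primeCompl T (maximalIdeal T)
      rw [← e1, ← e2, h4]
    rw [hQ'over.over, h5]
  obtain ⟨hval, hunit⟩ := valuationRing_of_unramified_over_mvPolynomial V n T hq
  refine ⟨hval, ?_, ?_, hunit⟩
  · haveI : Module.Flat V A := inferInstance
    haveI : Module.Flat V T := Module.Flat.trans V A T
    rw [injective_iff_map_eq_zero]
    intro a ha
    by_contra ha0
    have h1 : (1 : T) ∈ Submodule.torsion V T :=
      ⟨⟨a, mem_nonZeroDivisors_of_ne_zero ha0⟩, by
        change a • (1 : T) = 0
        rw [Algebra.smul_def, mul_one]; exact ha⟩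
    rw [Module.Flat.torsion_eq_bot] at h1
    exact one_ne_zero ((Submodule.mem_bot V).mp h1)
  · constructor
    intro a ha
    by_contra hna
    have h1 : a ∈ maximalIdeal V := (mem_maximalIdeal a).mpr hna
    have h2 := hmT a h1
    rw [← IsScalarTower.algebraMap_apply V A T] at h2
    exact (mem_maximalIdeal _).mp h2 ha

end Groth.Agent.Helper7.ValEt
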