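import Mathlib
import Groth.Agent.Helper6.GrGen

set_option autoImplicit false

namespace Groth.Agent.Helper7.Ver6

open DirectSum Groth.Agent.Helper6

universe u

theorem main (k : Type u) [Field k] (R : Type u) [CommRing R] [Algebra k R]
    (ℛ : ℕ → Submodule k R) [GradedAlgebra ℛ]
    (hgen : Algebra.adjoin k ((ℛ 1 : Set R) ∪ (ℛ 2 : Set R) ∪ (ℛ 3 : Set R)) = ⊤)
    [Module.Finite k (ℛ 1)] [Module.Finite k (ℛ 2)] [Module.Finite k (ℛ 3)]
    (e : ℕ) (he : 5 * Module.finrank k (ℛ 1) + 4 * Module.finrank k (ℛ 2) + 3 * Module.finrank k (ℛ 3) ≤ e)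
    (m : ℕ) :
    ℛ (m * (6 * e)) = ℛ (6 * e) ^ m := by
  classical
  set d1 := Module.finrank k (ℛ 1) with hd1
  set d2 := Module.finrank k (ℛ 2) with hd2
  set d3 := Module.finrank k (ℛ 3) with hd3
  let b1 := Module.finBasis k (ℛ 1)
  let b2 := Module.finBasis k (ℛ 2)
  let b3 := Module.finBasis k (ℛ 3)
  let ι := (Fin d1 ⊕ Fin d2) ⊕ Fin d3
  let s := Fintype.card ι
  have hs : s = d1 + d2 + d3 := by simp [s, ι]
  let eq : Fin s ≃ ι := (Fintype.equivFin ι).symm
  let g : ι → R := Sum.elim (Sum.elim (fun i => (b1 i : R)) (fun i => (b2 i : R))) (fun i => (b3 i : R))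
  let dg : ι → ℕ := Sum.elim (Sum.elim (fun _ => 1) (fun _ => 2)) (fun _ => 3)
  let f : Fin s → R := g ∘ eq
  let deg : Fin s → ℕ := dg ∘ eq
  have hdg6 : ∀ i, dg i ∣ 6 := by
    rintro ((i | i) | i) <;> simp [dg] <;> norm_num
  have hdgpos : ∀ i, 0 < dg i := by
    rintro ((i | i) | i) <;> simp [dg]
  have hg : ∀ i, g i ∈ ℛ (dg i) := by
    rintro ((i | i) | i) <;> simp [g, dg]
  have hdeg : ∀ i, 0 < deg i := fun i => hdgpos _
  have hf : ∀ i, f i ∈ ℛ (deg i) := fun i => hg _
  have hL6 : Finset.univ.lcm deg ∣ 6 := Finset.lcm_dvd (fun i _ => hdg6 _)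
  -- generation
  have hrange : Set.range f = Set.range g := by
    simp only [f]
    exact eq.surjective.range_comp g
  have hsp : ∀ (n : ℕ) [Module.Finite k (ℛ n)] (x : R), x ∈ ℛ n →
      x ∈ Submodule.span k (Set.range (fun i => ((Module.finBasis k (ℛ n)) i : R))) := by
    intro n _ x hx
    have h1 : (⟨x, hx⟩ : ℛ n) ∈ Submodule.span k (Set.range (Module.finBasis k (ℛ n))) := by
      rw [Module.Basis.span_eq]; trivial
    have h2 := Submodule.mem_map_of_mem (f := (ℛ n).subtype) h1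
    rw [Submodule.map_span, ← Set.range_comp] at h2
    exact h2
  have hgenf : Algebra.adjoin k (Set.range f) = ⊤ := by
    rw [eq_top_iff, ← hgen, hrange]
    apply Algebra.adjoin_le
    have hspan_le : ∀ (S : Set R), S ⊆ Set.range g →
        (Submodule.span k S : Set R) ⊆ Algebra.adjoin k (Set.range g) := by
      intro S hS x hx
      have : Submodule.span k S ≤ Subalgebra.toSubmodule (Algebra.adjoin k (Set.range g)) := by
        rw [Submodule.span_le]
        exact hS.trans Algebra.subset_adjoin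
      exact this hx
    rintro x ((hx | hx) | hx)
    · refine hspan_le _ ?_ (hsp 1 x hx)
      rintro _ ⟨i, rfl⟩
      exact ⟨Sum.inl (Sum.inl i), rfl⟩
    · refine hspan_le _ ?_ (hsp 2 x hx)
      rintro _ ⟨i, rfl⟩
      exact ⟨Sum.inl (Sum.inr i), rfl⟩
    · refine hspan_le _ ?_ (hsp 3 x hx)
      rintro _ ⟨i, rfl⟩
      exact ⟨Sum.inr i, rfl⟩
  obtain ⟨c, hc⟩ := hL6
  have hcpos : 0 < c := by
    rcases Nat.eq_zero_or_pos c with h | h
    · subst h; simp at hc
    · exact h
  have ha : s - 1 ≤ e * c := by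
    have : e ≤ e * c := Nat.le_mul_of_pos_right _ hcpos
    omega
  have := GrGen.veronese ℛ f deg hdeg hf hgenf (e * c) ha m
  have h6 : e * c * Finset.univ.lcm deg = 6 * e := by
    rw [mul_assoc, mul_comm c, ← hc, mul_comm]
  rwa [h6] at this

end Groth.Agent.Helper7.Ver6
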