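import Mathlib

set_option autoImplicit false
universe u

namespace Groth.Agent.Helper7.VerDehom

open HomogeneousLocalization

variable {R A : Type u} [CommRing R] [CommRing A] [Algebra R A] (𝒜 : ℕ → Submodule R A) [GradedAlgebra 𝒜]
    {B : Type u} [CommRing B] [Algebra R B] (ℬ : ℕ → Submodule R B) [GradedAlgebra ℬ]
    (d : ℕ) (φ : B →ₐ[R] A)
    (hdeg : ∀ n : ℕ, Submodule.map φ.toLinearMap (ℬ n) = 𝒜 (n * d)) (f' : B) (hf' : f' ∈ ℬ 1)

include hdeg in
lemma phi_mem {n : ℕ} {x : B} (hx : x ∈ ℬ n) : φ x ∈ 𝒜 (n • d) := by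
  rw [smul_eq_mul, ← hdeg n]
  exact ⟨x, hx, rfl⟩

include hdeg hf' in
lemma hf : φ f' ∈ 𝒜 d := by
  have := phi_mem 𝒜 ℬ d φ hdeg hf'
  simpa using this

/-- the piece maps -/
noncomputable def g (n : ℕ) : ℬ n →+ Away 𝒜 (φ f') where
  toFun x := Away.mk 𝒜 (hf 𝒜 ℬ d φ hdeg f' hf') n (φ x) (phi_mem 𝒜 ℬ d φ hdeg x.2)
  map_zero' := by
    apply val_injective
    simp [Away.val_mk, Localization.mk_zero]
  map_add' x y := by
    apply val_injective
    simp [Away.val_mk, val_add, Localization.add_mk_self]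

noncomputable def ψ : B →+* Away 𝒜 (φ f') :=
  (DirectSum.toSemiring (g 𝒜 ℬ d φ hdeg f' hf')
    (by
      apply val_injective
      simp [g, Away.val_mk, val_one, Localization.mk_one])
    (by
      intro i j ai aj
      apply val_injective
      simp only [g, AddMonoidHom.coe_mk, ZeroHom.coe_mk, Away.val_mk, val_mul, Localization.mk_mul]
      congr 1
      · simp [SetLike.coe_gMul]
      · ext; simp [pow_add])).comp (DirectSum.decomposeRingEquiv ℬ).toRingHom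

lemma ψ_of_mem {n : ℕ} {x : B} (hx : x ∈ ℬ n) :
    ψ 𝒜 ℬ d φ hdeg f' hf' x =
      Away.mk 𝒜 (hf 𝒜 ℬ d φ hdeg f' hf') n (φ x) (phi_mem 𝒜 ℬ d φ hdeg hx) := by
  simp only [ψ, RingHom.coe_comp, Function.comp_apply, RingEquiv.toRingHom_eq_coe, RingHom.coe_coe]
  show DirectSum.toSemiring _ _ _ (DirectSum.decompose ℬ x) = _
  rw [DirectSum.decompose_of_mem ℬ hx, DirectSum.toSemiring_of]
  rfl

lemma ψ_f' : ψ 𝒜 ℬ d φ hdeg f' hf' f' = 1 := by
  rw [ψ_of_mem 𝒜 ℬ d φ hdeg f' hf' hf']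
  apply val_injective
  rw [Away.val_mk, val_one]
  have : (⟨φ f' ^ 1, by use 1⟩ : Submonoid.powers (φ f')) = ⟨φ f', Submonoid.mem_powers _⟩ := by
    ext; simp
  rw [this]
  exact Localization.mk_self (⟨φ f', Submonoid.mem_powers _⟩ : Submonoid.powers (φ f'))

/-- key additive description -/
lemma exists_rep (x : B) : ∃ (M : ℕ) (y : B),
    Ideal.Quotient.mk (Ideal.span {f' - 1}) y = Ideal.Quotient.mk (Ideal.span {f' - 1}) x ∧
    (ψ 𝒜 ℬ d φ hdeg f' hf' x).val = Localization.mk (φ y) ⟨φ f' ^ M, by use M⟩ := by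
  have hq : Ideal.Quotient.mk (Ideal.span {f' - 1}) f' = 1 := by
    rw [← sub_eq_zero, ← map_one (Ideal.Quotient.mk (Ideal.span {f' - 1})), ← map_sub,
      Ideal.Quotient.eq_zero_iff_mem]
    exact Ideal.subset_span rfl
  induction x using DirectSum.Decomposition.inductionOn ℬ with
  | zero => exact ⟨0, 0, rfl, by simp [val_zero, Localization.mk_zero]⟩
  | @homogeneous n m =>
    refine ⟨n, m, rfl, ?_⟩
    rw [ψ_of_mem 𝒜 ℬ d φ hdeg f' hf' m.2, Away.val_mk]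
  | add x₁ x₂ h₁ h₂ =>
    obtain ⟨M₁, y₁, hy₁, hv₁⟩ := h₁
    obtain ⟨M₂, y₂, hy₂, hv₂⟩ := h₂
    refine ⟨M₁ + M₂, y₁ * f' ^ M₂ + y₂ * f' ^ M₁, ?_, ?_⟩
    · simp [map_add, map_mul, map_pow, hq, hy₁, hy₂]
    · rw [map_add, val_add, hv₁, hv₂, Localization.add_mk, Localization.mk_eq_mk_iff,
        Localization.r_iff_exists]
      refine ⟨1, ?_⟩
      simp only [OneMemClass.coe_one, one_mul, Submonoid.coe_mul, map_add, map_mul, map_pow]
      ring

include hdeg hf' in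
theorem main (hφ : Function.Injective φ) :
    ∃ e : HomogeneousLocalization.Away 𝒜 (φ f') ≃+* B ⧸ Ideal.span {f' - 1},
      ∀ (n : ℕ) (x : B), x ∈ ℬ n →
        (e.symm (Ideal.Quotient.mk (Ideal.span {f' - 1}) x)).val =
          Localization.mk (φ x) ⟨φ f' ^ n, pow_mem (Submonoid.mem_powers (φ f')) n⟩ := by
  have hq : Ideal.Quotient.mk (Ideal.span {f' - 1}) f' = 1 := by
    rw [← sub_eq_zero, ← map_one (Ideal.Quotient.mk (Ideal.span {f' - 1})), ← map_sub,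
      Ideal.Quotient.eq_zero_iff_mem]
    exact Ideal.subset_span rfl
  let Ψ := ψ 𝒜 ℬ d φ hdeg f' hf'
  have hker : ∀ a ∈ Ideal.span {f' - 1}, Ψ a = 0 := by
    intro a ha
    obtain ⟨c, rfl⟩ := Ideal.mem_span_singleton'.1 ha
    simp [Ψ, map_mul, map_sub, ψ_f']
  let Ψ' : B ⧸ Ideal.span {f' - 1} →+* Away 𝒜 (φ f') := Ideal.Quotient.lift _ Ψ hker
  have hbij : Function.Bijective Ψ' := by
    constructor
    · rw [injective_iff_map_eq_zero]
      intro q hq0
      obtain ⟨x, rfl⟩ := Ideal.Quotient.mk_surjective q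
      have hx0 : Ψ x = 0 := by simpa [Ψ'] using hq0
      obtain ⟨M, y, hy, hv⟩ := exists_rep 𝒜 ℬ d φ hdeg f' hf' x
      rw [hx0, val_zero] at hv
      have := hv.symm
      rw [Localization.mk_eq_mk', IsLocalization.mk'_eq_zero_iff] at this
      obtain ⟨⟨c, N, rfl⟩, hc⟩ := this
      have h0 : φ (f' ^ N * y) = 0 := by simpa [map_mul, map_pow] using hc
      have h1 : f' ^ N * y = 0 := hφ (by rw [h0, map_zero])
      rw [← hy]
      have := congrArg (Ideal.Quotient.mk (Ideal.span {f' - 1})) h1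
      simpa [map_mul, map_pow, hq] using this
    · intro z
      obtain ⟨n, a, ha, rfl⟩ := Away.mk_surjective 𝒜 (hf 𝒜 ℬ d φ hdeg f' hf') z
      have ha' : a ∈ Submodule.map φ.toLinearMap (ℬ n) := by
        rw [hdeg n]; simpa [smul_eq_mul] using ha
      obtain ⟨x, hx, rfl⟩ := ha'
      refine ⟨Ideal.Quotient.mk _ x, ?_⟩
      show Ψ x = _
      exact ψ_of_mem 𝒜 ℬ d φ hdeg f' hf' hx
  refine ⟨(RingEquiv.ofBijective Ψ' hbij).symm, ?_⟩
  intro n x hx
  rw [RingEquiv.symm_symm]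
  show (Ψ x).val = _
  rw [show Ψ x = _ from ψ_of_mem 𝒜 ℬ d φ hdeg f' hf' hx, Away.val_mk]

end Groth.Agent.Helper7.VerDehom
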