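import Mathlib
import Groth.Prelude.Def_GrLC
import Groth.Prelude.Def_GrLC2
import Groth.Prelude.Def_CAlg
import Groth.Prelude.Def_Wider
import Groth.Agent.Helper7.VerGor9
import Groth.Agent.Helper7.HilbMono3
import Groth.Agent.S0341
import Groth.Agent.S5155

/-!
# The Veronese subring of a standard graded Gorenstein ring is Gorenstein only if `q ∣ a(R)` (helper7)
-/

set_option autoImplicit false
set_option linter.unusedSectionVars false
set_option linter.style.haveILetI false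

namespace Groth.Agent.Helper7.VerGor

open DirectSum IsLocalRing CategoryTheory Abelian Groth.Agent.Helper1 Groth.Agent.Helper6.GrMod
  Groth.Agent.Helper7.GrVer Groth.Agent.Helper7.GrGor Groth.Agent.Helper7.BassNum

universe u

/-- the type of a Gorenstein local ring is one -/
theorem length_ext_gor {A : Type u} [CommRing A] [hG : LocCoh.IsGorensteinLocalRing A] (n : ℕ)
    (hn : ringKrullDim A = n) :
    Module.length A (Ext (ModuleCat.of A (A ⧸ maximalIdeal A)) (ModuleCat.of A A) n) = 1 := by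
  haveI : LocCoh.IsCohenMacaulayLocalRing A := Groth.Agent.S0341.result A
  obtain ⟨g, hg⟩ := Groth.Agent.S11665.result A n hn
  obtain ⟨-, -, hsimple⟩ := (Groth.Agent.S5155.result A (LocCoh.H (maximalIdeal A) n A)).1 ⟨g, hg⟩
  obtain ⟨e1⟩ := GorTop.nonempty_ext_equiv_hom (maximalIdeal A) n (ModuleCat.of A A)
    (fun j hj => (LDual.isZero_lc_of_cm n hn j hj).injective)
    (ModuleCat.of A (A ⧸ maximalIdeal A)) Canon.isTors_residueField
  rw [e1.length_eq]
  exact Module.length_eq_one_iff.2 hsimple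

section GorType

variable {R : Type u} [CommRing R] [hG : LocCoh.IsGorensteinRing R] (m : Ideal R) [hmax : m.IsMaximal]
  (n : ℕ) (hdim : ringKrullDim (Localization.AtPrime m) = n)

include hdim in
/-- the type of a Gorenstein ring at a maximal ideal is one -/
theorem bassNum_gor : GrLC.bassNum m R n = 1 := by
  haveI := hG.isGorensteinLocalRing_localization m
  let α₀ : LocalizedModule m.primeCompl R ≃ₗ[R] Localization.AtPrime m :=
    IsLocalizedModule.iso m.primeCompl (Algebra.linearMap R (Localization.AtPrime m))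
  let α : LocalizedModule m.primeCompl R ≃ₗ[Localization.AtPrime m] Localization.AtPrime m :=
    LinearEquiv.extendScalarsOfIsLocalization m.primeCompl (Localization.AtPrime m) α₀
  unfold GrLC.bassNum
  rw [bassNumLocal_congr α n]
  unfold GrLC.bassNumLocal
  exact length_ext_gor n hdim

end GorType

section Only

variable {R R' : Type u} [CommRing R] [CommRing R'] [hG : LocCoh.IsGorensteinRing R]
  {𝒜 : ℤ → AddSubgroup R} [GradedRing 𝒜]
  {𝒜' : ℤ → AddSubgroup R'} [GradedRing 𝒜'] (D : VData 𝒜 𝒜')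
  (hpos : ∀ n : ℤ, n < 0 → 𝒜 n = ⊥) (h0 : IsField (GrLC.deg0 𝒜))
  (m : HomogeneousIdeal 𝒜) (hm : GrLC.IsStarLocal 𝒜 m)
  (hmsp : m.toIdeal = Ideal.span (⋃ n ∈ Set.Ioi (0 : ℤ), (𝒜 n : Set R)))
  (hstd : Ideal.span (⋃ n ∈ Set.Ioi (0 : ℤ), (𝒜 n : Set R)) =
    Ideal.span ((𝒜 1 : AddSubgroup R) : Set R))
  (hR1 : 2 ≤ Module.finrank (GrLC.deg0 𝒜) (GrLC.comp 𝒜 𝒜 1))
  (n : ℕ) (hn : ringKrullDim R = n) (h1 : 1 ≤ n) (I : GrLC.StarInjRes 𝒜 𝒜) (a : ℤ)
  (ha : GrLC.endDeg (I.Hgr m n) = ((a : WithTop ℤ) : WithBot (WithTop ℤ)))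

include hpos h0 hm hmsp hstd hR1 hn h1 ha in
/-- **if the Veronese subring is Gorenstein then `q ∣ a(R)`** -/
theorem dvd_of_gorenstein_ver [hG' : LocCoh.IsGorensteinRing R'] : (D.q : ℤ) ∣ a := by
  classical
  haveI hN : IsNoetherianRing R := inferInstance
  haveI : IsNoetherianRing R' := inferInstance
  have hpos' := hpos_ver D hpos
  have h0' := h0_ver D h0
  letI := h0'.toField
  haveI hArt' : IsArtinianRing (GrLC.deg0 𝒜') := inferInstance
  have hm' : GrLC.IsStarLocal 𝒜' (irrel 𝒜') := isStarLocal_irr 𝒜' hpos' h0'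
  haveI hmax' : (irrel 𝒜').toIdeal.IsMaximal :=
    Groth.Agent.Helper7.GrStarLoc.isMaximal 𝒜' hpos' (irrel 𝒜') hm'.1
  have hn' : ringKrullDim R' = n := (ringKrullDim_ver D).trans hn
  have hht' : (irrel 𝒜').toIdeal.height = n :=
    Groth.Agent.Helper7.GrHt.height_eq_dim 𝒜' hpos' (irrel 𝒜') hm' n hn'
  have hdimA' : ringKrullDim (Localization.AtPrime (irrel 𝒜').toIdeal) = n := by
    rw [IsLocalization.AtPrime.ringKrullDim_eq_height (irrel 𝒜').toIdeal
      (Localization.AtPrime (irrel 𝒜').toIdeal), hht']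
    rfl
  have hqpos : (0 : ℤ) < (D.q : ℤ) := D.qpos
  set ρ : ℤ := a % (D.q : ℤ) with hρ
  have hρ0 : 0 ≤ ρ := Int.emod_nonneg a hqpos.ne'
  have hρq : ρ < (D.q : ℤ) := Int.emod_lt_of_pos a hqpos
  have hs : (a / (D.q : ℤ)) * (D.q : ℤ) = a - ρ := by
    have := Int.emod_add_mul_ediv a (D.q : ℤ)
    rw [hρ]; linarith [mul_comm (a / (D.q : ℤ)) (D.q : ℤ)]
  obtain ⟨hN', hR', ⟨ε, hε, hε0, hspan⟩, hvan, htop⟩ := ring_side 𝒜 hpos h0 m hm n hn I a ha
  have hb := bassNum_ver D hpos h0 m hmsp hstd n I a hN' hR' ε hε hε0 hspan htop hvan (irrel 𝒜')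
    (irrel_toIdeal 𝒜') ρ hρ0 hρq (a / (D.q : ℤ)) hs
  rw [bassNum_gor (irrel 𝒜').toIdeal n hdimA'] at hb
  have hfr : Module.finrank (GrLC.deg0 𝒜) (GrLC.comp 𝒜 𝒜 ρ) = 1 := by exact_mod_cast hb.symm
  -- monotonicity of the Hilbert function
  haveI : LocCoh.IsCohenMacaulayRing R :=
    { toIsNoetherian := hN
      isCohenMacaulayLocalRing_localization := fun p _ => by
        haveI := hG.isGorensteinLocalRing_localization p
        exact Groth.Agent.S0341.result _ }
  have hdim1 : (1 : WithBot ℕ∞) ≤ ringKrullDim R := by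
    rw [hn]; exact_mod_cast h1
  have hmono : ∀ k : ℕ, Module.finrank (GrLC.deg0 𝒜) (GrLC.comp 𝒜 𝒜 1) ≤
      Module.finrank (GrLC.deg0 𝒜) (GrLC.comp 𝒜 𝒜 (1 + (k : ℤ))) := by
    intro k
    induction k with
    | zero => simp
    | succ k ih =>
      refine ih.trans ?_
      have := Groth.Agent.Helper7.HilbMono.finrank_comp_le hpos h0 hstd hdim1 (1 + (k : ℤ))
      have e : (1 : ℤ) + ((k + 1 : ℕ) : ℤ) = 1 + (k : ℤ) + 1 := by push_cast; ring
      rw [e]
      exact this
  have hρ00 : ρ = 0 := by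
    by_contra hne
    have hρ1 : 1 ≤ ρ := by omega
    have := hmono (ρ - 1).toNat
    have e : (1 : ℤ) + ((ρ - 1).toNat : ℤ) = ρ := by
      rw [Int.toNat_of_nonneg (by omega)]; ring
    rw [e, hfr] at this
    omega
  exact Int.dvd_of_emod_eq_zero hρ00

end Only

end Groth.Agent.Helper7.VerGor
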