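import Mathlib
import Groth.Prelude.Def_W4sga3xxiRoot
import Groth.Agent.Helper2.RootD13b
import Groth.Agent.Helper2.RootD3
set_option autoImplicit false
open Set RootPairing Module RootD
open scoped Pointwise
open Groth.Agent.Helper2

namespace Groth.Agent.Helper7.WDa

section regular
variable {ι M N : Type*} [AddCommGroup M] [AddCommGroup N]

/-- a weight pairing positively with all coroots of a "positive system" (abstract form, usable for
both `P` and `P.flip`) -/
theorem exists_regular (P : RootPairing ι ℤ M N) [Finite ι] (S : Set ι)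
    (hcov : ∀ i, i ∈ S ∨ P.reflectionPerm i i ∈ S) (hdis : ∀ i ∈ S, P.reflectionPerm i i ∉ S)
    (hN : ∀ j ∈ S, - P.root j ∉ natSpan P S) : ∃ m : M, ∀ j ∈ S, 0 < P.coroot' j m := by
  classical
  have := Fintype.ofFinite ι
  set A : Finset ι := S.toFinset with hA
  have hAmem : ∀ k, k ∈ A ↔ k ∈ S := fun k => by rw [hA, Set.mem_toFinset]
  refine ⟨∑ k ∈ A, P.root k, ?_⟩
  intro j hj
  set m : M := ∑ k ∈ A, P.root k with hm
  set σ := P.reflectionPerm j with hσ
  set B : Finset ι := A.map σ.toEmbedding with hB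
  have hrefl : P.reflection j m = ∑ k ∈ B, P.root k := by
    rw [hB, Finset.sum_map, hm, map_sum]
    refine Finset.sum_congr rfl fun k _ => ?_
    rw [Equiv.coe_toEmbedding, hσ, P.root_reflectionPerm]
  have h1 : P.coroot' j m • P.root j = m - P.reflection j m := by
    rw [P.reflection_apply]; abel
  have h2 : m - P.reflection j m = ∑ k ∈ A \ B, P.root k - ∑ k ∈ B \ A, P.root k := by
    rw [hrefl, hm, Finset.sum_sdiff_sub_sum_sdiff]
  have h3 : - ∑ k ∈ B \ A, P.root k ∈ natSpan P S := by
    rw [← Finset.sum_neg_distrib]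
    refine AddSubmonoid.sum_mem _ fun k hk => ?_
    rw [Finset.mem_sdiff, hAmem] at hk
    rw [← RD.root_neg]
    exact RD1.root_mem_natSpan P ((hcov k).resolve_left hk.2)
  have hjA : j ∈ A \ B := by
    rw [Finset.mem_sdiff, hAmem, hB, Finset.mem_map]
    refine ⟨hj, ?_⟩
    rintro ⟨k, hk, hkj⟩
    rw [hAmem] at hk
    rw [Equiv.coe_toEmbedding] at hkj
    have : k = P.reflectionPerm j j := by
      have h' := congrArg σ hkj
      rw [hσ, P.reflectionPerm_self] at h'
      exact h'
    rw [this] at hk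
    exact hdis j hj hk
  have h4 : ∑ k ∈ (A \ B).erase j, P.root k ∈ natSpan P S := by
    refine AddSubmonoid.sum_mem _ fun k hk => ?_
    have := (Finset.mem_sdiff.mp (Finset.mem_of_mem_erase hk)).1
    exact RD1.root_mem_natSpan P ((hAmem k).mp this)
  by_contra hn
  push Not at hn
  apply hN j hj
  have h5 : - P.root j = (-(P.coroot' j m)).toNat • P.root j + (∑ k ∈ (A \ B).erase j, P.root k
      + - ∑ k ∈ B \ A, P.root k) := by
    have e1 : ((-(P.coroot' j m)).toNat : ℤ) = -(P.coroot' j m) := Int.toNat_of_nonneg (by omega)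
    rw [← natCast_zsmul, e1, neg_smul, h1, h2, ← Finset.add_sum_erase _ _ hjA]
    abel
  rw [h5]
  exact add_mem (AddSubmonoid.nsmul_mem _ (RD1.root_mem_natSpan P hj) _) (add_mem h4 h3)

variable (P : RootPairing ι ℤ M N) [Finite ι] {S : Set ι} (hS : IsPosSys P S)

omit [Finite ι] in
include hS in
theorem neg_root_notMem (j : ι) (hj : j ∈ S) : - P.root j ∉ natSpan P S := by
  intro h
  rw [← RD.root_neg] at h
  refine hS.disjoint hj (hS.sat 1 one_pos ?_)
  rwa [one_smul]

include hS in
/-- a regular dominant weight -/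
theorem exists_regular_weight : ∃ m : M, ∀ j ∈ S, 0 < P.coroot' j m :=
  exists_regular P S hS.cover (fun _ hi => hS.disjoint hi) (neg_root_notMem P hS)

include hS in
/-- a regular dominant coweight -/
theorem exists_regular_coweight : ∃ y : N, ∀ j ∈ S, 0 < P.root' j y := by
  obtain ⟨m, hm⟩ := exists_regular_weight P hS
  refine exists_regular P.flip S hS.cover (fun _ hi => hS.disjoint hi) ?_
  intro j hj h
  -- pair with `m`
  have key : ∀ y ∈ natSpan P.flip S, 0 ≤ P.toLinearMap m y := by
    intro y hy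
    refine AddSubmonoid.closure_induction ?_ ?_ ?_ hy
    · rintro _ ⟨k, hk, rfl⟩
      exact (hm k hk).le
    · simp
    · intro a b _ _ ha hb
      rw [map_add]; exact add_nonneg ha hb
  have h1 := key _ h
  have h2 : P.toLinearMap m (-(P.flip.root j)) = - P.coroot' j m := by
    rw [map_neg]; rfl
  rw [h2] at h1
  have := hm j hj
  omega

end regular

section induction
variable {ι M N : Type*} [AddCommGroup M] [AddCommGroup N] {P : RootPairing ι ℤ M N}
variable {Δ : Set ι} (hΔ : IsSimpleSys P Δ)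

include hΔ in
/-- counting lemma: passing from `g` to `g s_i` decreases the number of bad positive roots -/
theorem ncard_lt [Finite ι] {i : ι} (hi : i ∈ Δ) (B B' : Set ι)
    (hBB' : ∀ k, k ∈ B' ↔ P.reflectionPerm i k ∈ B) (hiB : i ∈ B)
    (hprop : ∀ k ∈ posOf P Δ, ∀ c : ℤ, 0 ≤ c → P.root k = c • P.root i → k ∉ B') :
    (posOf P Δ ∩ B').ncard < (posOf P Δ ∩ B).ncard := by
  have hpos := RD2.posOf_isPosSys hΔ
  have hipos : i ∈ posOf P Δ := RD2.subset_posOf hi
  have himg : (P.reflectionPerm i) '' (posOf P Δ ∩ B') ⊆ (posOf P Δ ∩ B) \ {i} := by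
    rintro _ ⟨k, ⟨hk, hkB'⟩, rfl⟩
    have hk0 := (RD2.mem_posOf_iff hΔ k).mp hk
    by_cases h : ∃ a, a ≠ i ∧ RD2.coef hΔ k a ≠ 0
    · obtain ⟨a, ha, hka⟩ := h
      refine ⟨⟨RD2.reflection_mem_posOf hΔ hi hk ha hka, (hBB' k).mp hkB'⟩, ?_⟩
      rw [Set.mem_singleton_iff]
      intro heq
      have hk' : k = P.reflectionPerm i i := by
        have h' := congrArg (P.reflectionPerm i) heq
        rw [P.reflectionPerm_self] at h'
        exact h'
      rw [hk'] at hk
      exact hpos.disjoint hipos hk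
    · exfalso
      push Not at h
      exact hprop k hk _ (hk0 i) (RD2.root_eq_smul_of_forall hΔ h) hkB'
  have hss : (posOf P Δ ∩ B) \ {i} ⊂ posOf P Δ ∩ B := by
    refine ⟨Set.sdiff_subset, fun h => ?_⟩
    exact (h ⟨hipos, hiB⟩).2 rfl
  calc (posOf P Δ ∩ B').ncard = ((P.reflectionPerm i) '' (posOf P Δ ∩ B')).ncard :=
        (Set.ncard_image_of_injective _ (P.reflectionPerm i).injective).symm
    _ ≤ ((posOf P Δ ∩ B) \ {i}).ncard := Set.ncard_le_ncard himg (Set.toFinite _)
    _ < (posOf P Δ ∩ B).ncard := Set.ncard_lt_ncard hss (Set.toFinite _)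

/-- the set of positive roots made negative by `g` -/
def inv (P : RootPairing ι ℤ M N) (Δ : Set ι) (g : P.Aut) : Set ι := {k | g • k ∉ posOf P Δ}

include hΔ in
theorem inv_ncard_lt [Finite ι] (g : P.Aut) {i : ι} (hi : i ∈ Δ) (hgi : g • i ∉ posOf P Δ) :
    (posOf P Δ ∩ inv P Δ (g * Equiv.reflection P i)).ncard < (posOf P Δ ∩ inv P Δ g).ncard := by
  have hpos := RD2.posOf_isPosSys hΔ
  refine ncard_lt hΔ hi _ _ ?_ hgi ?_
  · intro k
    show (g * Equiv.reflection P i) • k ∉ posOf P Δ ↔ g • (P.reflectionPerm i k) ∉ posOf P Δ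
    rw [mul_smul]; rfl
  · intro k _ c hc hkc hk
    apply hk
    -- `(g s_i) k = c • (-(g i))`
    have hneg : P.reflectionPerm (g • i) (g • i) ∈ posOf P Δ := (hpos.cover _).resolve_left hgi
    apply hpos.sat 1 one_pos
    have e : Equiv.reflection P i • P.root i = - P.root i := P.reflection_apply_self i
    have e2 : (g * Equiv.reflection P i) • P.root k =
        c • P.root (P.reflectionPerm (g • i) (g • i)) := by
      rw [mul_smul, hkc, smul_comm (Equiv.reflection P i) c (P.root i), e, smul_comm g c,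
        smul_neg, RD.root_neg, RD3.root_smul]
    rw [one_smul, RD3.root_smul, e2]
    have : c • P.root (P.reflectionPerm (g • i) (g • i)) =
        c.toNat • P.root (P.reflectionPerm (g • i) (g • i)) := by
      rw [← natCast_zsmul, Int.toNat_of_nonneg hc]
    rw [this]
    exact AddSubmonoid.nsmul_mem _ (RD1.root_mem_natSpan P hneg) _

include hΔ in
/-- an element of the Weyl group keeping all simple roots positive is trivial -/
theorem eq_one_of_simple_pos [Finite ι] {g : P.Aut} (hg : g ∈ P.weylGroup)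
    (h : ∀ i ∈ Δ, g • i ∈ posOf P Δ) : g = 1 := by
  have h1 : g • Δ ⊆ posOf P Δ := by
    rintro _ ⟨i, hi, rfl⟩
    exact h i hi
  have h2 : posOf P (g • Δ) ⊆ posOf P Δ := by
    intro k hk
    exact RD2.natSpan_posOf_le P Δ (RD1.natSpan_mono P h1 hk)
  have h3 : posOf P (g • Δ) = posOf P Δ :=
    RD2.posSys_eq_of_subset (RD2.posOf_isPosSys (RD3.simpleSys_smul P g hΔ))
      (RD2.posOf_isPosSys hΔ) h2
  have h4 : g • Δ = Δ := RD3.simpleSys_eq_of_posOf_eq P (RD3.simpleSys_smul P g hΔ) hΔ h3
  exact RD13b.eq_one_of_smul_eq hΔ hg h4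

include hΔ in
/-- induction principle on the Weyl group: if `g` makes the simple root `i` negative then
`g = (g s_i) s_i` with `g s_i` shorter. -/
theorem weyl_induction [Finite ι] (Q : P.Aut → Prop) (h1 : Q 1)
    (hstep : ∀ g ∈ P.weylGroup, ∀ i ∈ Δ, g • i ∉ posOf P Δ → Q (g * Equiv.reflection P i) → Q g) :
    ∀ g ∈ P.weylGroup, Q g := by
  have key : ∀ n : ℕ, ∀ g ∈ P.weylGroup, (posOf P Δ ∩ inv P Δ g).ncard = n → Q g := by
    intro n
    induction n using Nat.strong_induction_on with
    | _ n ih =>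
      intro g hg hn
      by_cases h : ∀ i ∈ Δ, g • i ∈ posOf P Δ
      · rw [eq_one_of_simple_pos hΔ hg h]; exact h1
      · push Not at h
        obtain ⟨i, hi, hgi⟩ := h
        have hlt := inv_ncard_lt hΔ g hi hgi
        rw [hn] at hlt
        exact hstep g hg i hi hgi
          (ih _ hlt _ (mul_mem hg (P.reflection_mem_weylGroup i)) rfl)
  intro g hg
  exact key _ g hg rfl

end induction

end Groth.Agent.Helper7.WDa
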