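import Mathlib
import Groth.Prelude.Def_W4sga3xxiRoot
import Groth.Agent.Helper7.WDa
import Groth.Agent.S5452
set_option autoImplicit false
open Set RootPairing Module RootD
open scoped Pointwise
open Groth.Agent.Helper2

namespace Groth.Agent.Helper7.WDb

variable {ι M N : Type*} [AddCommGroup M] [AddCommGroup N] (P : RootPairing ι ℤ M N)
variable {Γ : Type*} [AddCommGroup Γ] [LinearOrder Γ] [IsOrderedAddMonoid Γ]

omit [AddCommGroup M] [AddCommGroup N] in
theorem nonneg_of_zsmul_nonneg {n : ℤ} (hn : 0 < n) {a : Γ} (h : 0 ≤ n • a) : 0 ≤ a := by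
  have := (zsmul_le_zsmul_iff_right (a := (0 : Γ)) (b := a) hn).mp
  rw [smul_zero] at this
  exact this h

theorem finite_weylGroup [Finite ι] : Finite P.weylGroup :=
  Finite.of_injective _ (Groth.Agent.S5452.result P)

omit [LinearOrder Γ] [IsOrderedAddMonoid Γ] in
theorem f_reflection (f : M →+ Γ) (g : P.Aut) (i : ι) (m : M) :
    f ((g * Equiv.reflection P i) • m) = f (g • m) - P.coroot' i m • f (g • P.root i) := by
  have e : Equiv.reflection P i • m = m - P.coroot' i m • P.root i := P.reflection_apply i m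
  rw [mul_smul, e, smul_sub, map_sub, smul_comm g, map_zsmul]

variable {S : Set ι} (hS : IsPosSys P S)

include hS in
/-- existence of a dominant conjugate of a functional -/
theorem exists_dominant [Finite ι] (f : M →+ Γ) :
    ∃ g : P.Aut, g ∈ P.weylGroup ∧ ∀ i ∈ S, 0 ≤ f (g • P.root i) := by
  obtain ⟨ρ, hρ⟩ := WDa.exists_regular_weight P hS
  have := finite_weylGroup P
  obtain ⟨g₀, hmax⟩ := Finite.exists_max (fun g : P.weylGroup => f ((g : P.Aut) • ρ))
  refine ⟨g₀, g₀.2, fun i hi => ?_⟩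
  have h := hmax ⟨(g₀ : P.Aut) * Equiv.reflection P i,
    mul_mem g₀.2 (P.reflection_mem_weylGroup i)⟩
  simp only at h
  rw [f_reflection] at h
  have h1 : 0 ≤ P.coroot' i ρ • f ((g₀ : P.Aut) • P.root i) := by
    have := sub_le_self_iff (f ((g₀ : P.Aut) • ρ)) |>.mp h
    exact this
  exact nonneg_of_zsmul_nonneg (hρ i hi) h1

include hS in
/-- uniqueness: a dominant functional with a dominant conjugate equals that conjugate -/
theorem eq_of_dominant [Finite ι] (f : M →+ Γ) (hf : ∀ i ∈ S, 0 ≤ f (P.root i)) :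
    ∀ g ∈ P.weylGroup, (∀ i ∈ S, 0 ≤ f (g • P.root i)) → ∀ m, f (g • m) = f m := by
  obtain ⟨Δ, hΔ, hΔS, rfl⟩ := RD3.exists_simpleSys_subset P hS
  refine WDa.weyl_induction hΔ
    (fun g => (∀ i ∈ posOf P Δ, 0 ≤ f (g • P.root i)) → ∀ m, f (g • m) = f m) ?_ ?_
  · intro _ m
    rw [one_smul]
  · intro g _ i hi hgi ih hfg m
    have hj₀ : P.reflectionPerm (g • i) (g • i) ∈ posOf P Δ := (hS.cover _).resolve_left hgi
    have h1 := hf _ hj₀
    rw [RD.root_neg, RD3.root_smul, map_neg] at h1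
    have h2 := hfg i (hΔS hi)
    have h0 : f (g • P.root i) = 0 := le_antisymm (neg_nonneg.mp h1) h2
    have key : ∀ m, f ((g * Equiv.reflection P i) • m) = f (g • m) := by
      intro m
      rw [f_reflection, h0, smul_zero, sub_zero]
    rw [← key]
    exact ih (fun k hk => by rw [key]; exact hfg k hk) m

include hS in
/-- strong dominance: `f - f ∘ g` is a non-negative combination of positive coroots -/
theorem exists_coeffs [Fintype ι] (f : M →+ Γ) (hf : ∀ i ∈ S, 0 ≤ f (P.root i)) :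
    ∀ g ∈ P.weylGroup, ∃ c : ι → Γ, (∀ i, 0 ≤ c i) ∧ (∀ i, i ∉ S → c i = 0) ∧
      ∀ m, f m - f (g • m) = ∑ i, P.coroot' i m • c i := by
  classical
  obtain ⟨Δ, hΔ, hΔS, rfl⟩ := RD3.exists_simpleSys_subset P hS
  refine WDa.weyl_induction hΔ
    (fun g => ∃ c : ι → Γ, (∀ i, 0 ≤ c i) ∧ (∀ i, i ∉ posOf P Δ → c i = 0) ∧
      ∀ m, f m - f (g • m) = ∑ i, P.coroot' i m • c i) ?_ ?_
  · refine ⟨0, fun _ => le_rfl, fun _ _ => rfl, fun m => ?_⟩
    simp
  · rintro g _ i hi hgi ⟨c', hc'0, hc'S, hc'⟩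
    have hj₀ : P.reflectionPerm (g • i) (g • i) ∈ posOf P Δ := (hS.cover _).resolve_left hgi
    have h1 := hf _ hj₀
    rw [RD.root_neg, RD3.root_smul, map_neg] at h1
    refine ⟨c' + Pi.single i (- f (g • P.root i)), ?_, ?_, ?_⟩
    · intro k
      rw [Pi.add_apply]
      refine add_nonneg (hc'0 k) ?_
      by_cases hk : k = i
      · subst hk; rw [Pi.single_eq_same]; exact h1
      · rw [Pi.single_eq_of_ne hk]
    · intro k hk
      have hki : k ≠ i := by rintro rfl; exact hk (hΔS hi)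
      rw [Pi.add_apply, hc'S k hk, Pi.single_eq_of_ne hki, add_zero]
    · intro m
      have e := hc' m
      rw [f_reflection] at e
      simp only [Pi.add_apply, smul_add, Finset.sum_add_distrib]
      rw [← e]
      have : ∑ k, P.coroot' k m • (Pi.single i (- f (g • P.root i)) : ι → Γ) k =
          P.coroot' i m • (- f (g • P.root i)) := by
        rw [Finset.sum_eq_single i]
        · rw [Pi.single_eq_same]
        · intro k _ hk
          rw [Pi.single_eq_of_ne hk, smul_zero]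
        · intro h; exact absurd (Finset.mem_univ i) h
      rw [this, smul_neg]
      abel

omit [LinearOrder Γ] [IsOrderedAddMonoid Γ] in
theorem f_reflection_one (f : M →+ Γ) (i : ι) (m : M) :
    f (Equiv.reflection P i • m) = f m - P.coroot' i m • f (P.root i) := by
  have := f_reflection P f 1 i m
  rwa [one_mul, one_smul, one_smul] at this

include hS in
/-- weak dominance implies dominance -/
theorem dominant_of_weak [Finite ι] (f : M →+ Γ)
    (h : ∀ g : P.Aut, g ∈ P.weylGroup → ∀ m : M, (∀ i ∈ S, 0 ≤ P.coroot' i m) → f (g • m) ≤ f m) :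
    ∀ i ∈ S, 0 ≤ f (P.root i) := by
  obtain ⟨ρ, hρ⟩ := WDa.exists_regular_weight P hS
  intro i hi
  have h1 := h _ (P.reflection_mem_weylGroup i) ρ (fun j hj => (hρ j hj).le)
  rw [f_reflection_one] at h1
  exact nonneg_of_zsmul_nonneg (hρ i hi) (sub_le_self_iff _ |>.mp h1)

omit [AddCommGroup M] [AddCommGroup N] in
theorem sum_nonneg_of_coeffs [Fintype ι] {S : Set ι} (c : ι → Γ) (hc0 : ∀ i, 0 ≤ c i)
    (hcS : ∀ i, i ∉ S → c i = 0) (n : ι → ℤ) (hn : ∀ i ∈ S, 0 ≤ n i) :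
    0 ≤ ∑ i, n i • c i := by
  refine Finset.sum_nonneg fun i _ => ?_
  by_cases hi : i ∈ S
  · exact zsmul_nonneg (hc0 i) (hn i hi)
  · rw [hcS i hi, smul_zero]

include hS in
/-- dominance implies weak dominance -/
theorem weak_of_dominant [Finite ι] (f : M →+ Γ) (hf : ∀ i ∈ S, 0 ≤ f (P.root i))
    (g : P.Aut) (hg : g ∈ P.weylGroup) (m : M) (hm : ∀ i ∈ S, 0 ≤ P.coroot' i m) :
    f (g • m) ≤ f m := by
  have := Fintype.ofFinite ι
  obtain ⟨c, hc0, hcS, hc⟩ := exists_coeffs P hS f hf g hg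
  have h1 := sum_nonneg_of_coeffs c hc0 hcS (fun i => P.coroot' i m) hm
  rw [← hc m] at h1
  exact sub_nonneg.mp h1

include hS in
/-- every weight has a dominant conjugate -/
theorem exists_dominant_weight [Finite ι] (m : M) :
    ∃ g : P.Aut, g ∈ P.weylGroup ∧ ∀ j ∈ S, 0 ≤ P.coroot' j (g • m) := by
  obtain ⟨y, hy⟩ := WDa.exists_regular_coweight P hS
  have := finite_weylGroup P
  obtain ⟨g₀, hmax⟩ := Finite.exists_max (fun g : P.weylGroup => P.toLinearMap ((g : P.Aut) • m) y)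
  refine ⟨g₀, g₀.2, fun j hj => ?_⟩
  have h := hmax ⟨Equiv.reflection P j * (g₀ : P.Aut),
    mul_mem (P.reflection_mem_weylGroup j) g₀.2⟩
  simp only at h
  have e : (Equiv.reflection P j * (g₀ : P.Aut)) • m =
      (g₀ : P.Aut) • m - P.coroot' j ((g₀ : P.Aut) • m) • P.root j := by
    rw [mul_smul]; exact P.reflection_apply j _
  have e2 : P.toLinearMap (P.coroot' j ((g₀ : P.Aut) • m) • P.root j) y =
      P.coroot' j ((g₀ : P.Aut) • m) * P.root' j y := by
    rw [LinearMap.map_smul, LinearMap.smul_apply, smul_eq_mul]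
  rw [e, map_sub, LinearMap.sub_apply, e2] at h
  have h1 : 0 ≤ P.coroot' j ((g₀ : P.Aut) • m) * P.root' j y := by
    have := sub_le_self_iff (P.toLinearMap ((g₀ : P.Aut) • m) y) |>.mp h
    exact this
  exact nonneg_of_mul_nonneg_left h1 (hy j hj)

include hS in
theorem s19155 [Finite ι] (f : M →+ Γ) :
    (∃ g : P.Aut, g ∈ P.weylGroup ∧ ∀ i ∈ S, 0 ≤ f (RootPairing.Equiv.weightHom P g (P.root i))) ∧
    (∀ g : P.Aut, g ∈ P.weylGroup → (∀ i ∈ S, 0 ≤ f (P.root i)) →
      (∀ i ∈ S, 0 ≤ f (RootPairing.Equiv.weightHom P g (P.root i))) →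
      ∀ m : M, f (RootPairing.Equiv.weightHom P g m) = f m) :=
  ⟨exists_dominant P hS f, fun g hg hf hfg m => eq_of_dominant P hS f hf g hg hfg m⟩

include hS in
theorem s19156 [Fintype ι] (f : M →+ Γ) :
    ((∀ i ∈ S, 0 ≤ f (P.root i)) ↔
      ∀ g : P.Aut, g ∈ P.weylGroup → ∃ c : ι → Γ, (∀ i, 0 ≤ c i) ∧ (∀ i, i ∉ S → c i = 0) ∧
        ∀ m : M, f m - f (RootPairing.Equiv.weightHom P g m) = ∑ i, (P.coroot' i m) • c i) ∧
    ((∀ i ∈ S, 0 ≤ f (P.root i)) ↔
      ∀ g : P.Aut, g ∈ P.weylGroup → ∀ m : M, (∀ i ∈ S, 0 ≤ P.coroot' i m) →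
        f (RootPairing.Equiv.weightHom P g m) ≤ f m) := by
  refine ⟨⟨fun hf g hg => exists_coeffs P hS f hf g hg, fun h => ?_⟩,
    ⟨fun hf g hg m hm => weak_of_dominant P hS f hf g hg m hm, fun h => dominant_of_weak P hS f h⟩⟩
  apply dominant_of_weak P hS f
  intro g hg m hm
  obtain ⟨c, hc0, hcS, hc⟩ := h g hg
  have h1 := sum_nonneg_of_coeffs c hc0 hcS (fun i => P.coroot' i m) hm
  rw [← hc m] at h1
  exact sub_nonneg.mp h1

include hS in
theorem s19161 [Finite ι] (f₁ f₂ : M →+ Γ)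
    (hf₁ : ∀ i ∈ S, 0 ≤ f₁ (P.root i)) (hf₂ : ∀ i ∈ S, 0 ≤ f₂ (P.root i)) :
    (∀ m : M, (∀ i ∈ S, 0 ≤ P.coroot' i m) → f₁ m ≤ f₂ m) ↔
    ∀ (X : Finset M) (hX : X.Nonempty), (∀ g : P.Aut, g ∈ P.weylGroup → ∀ m ∈ X,
        RootPairing.Equiv.weightHom P g m ∈ X) →
      X.sup' hX f₁ ≤ X.sup' hX f₂ := by
  classical
  constructor
  · intro hle X hX hstab
    obtain ⟨x₁, hx₁, hsup⟩ := Finset.exists_mem_eq_sup' hX f₁
    obtain ⟨g, hg, hdom⟩ := exists_dominant_weight P hS x₁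
    have hmX : g • x₁ ∈ X := hstab g hg x₁ hx₁
    have h1 : f₁ x₁ ≤ f₁ (g • x₁) := by
      have := weak_of_dominant P hS f₁ hf₁ g⁻¹ (inv_mem hg) (g • x₁) hdom
      rwa [inv_smul_smul] at this
    calc X.sup' hX f₁ = f₁ x₁ := hsup
      _ ≤ f₁ (g • x₁) := h1
      _ ≤ f₂ (g • x₁) := hle _ hdom
      _ ≤ X.sup' hX f₂ := Finset.le_sup' f₂ hmX
  · intro h m hm
    have := finite_weylGroup P
    have := Fintype.ofFinite P.weylGroup
    set X : Finset M := Finset.image (fun g : P.weylGroup => (g : P.Aut) • m) Finset.univ with hXdef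
    have hmX : m ∈ X := by
      rw [hXdef, Finset.mem_image]
      exact ⟨1, Finset.mem_univ _, one_smul _ _⟩
    have hX : X.Nonempty := ⟨m, hmX⟩
    have hstab : ∀ g : P.Aut, g ∈ P.weylGroup → ∀ x ∈ X,
        RootPairing.Equiv.weightHom P g x ∈ X := by
      intro g hg x hx
      rw [hXdef, Finset.mem_image] at hx ⊢
      obtain ⟨g', _, rfl⟩ := hx
      exact ⟨⟨g, hg⟩ * g', Finset.mem_univ _, mul_smul _ _ _⟩
    have h1 := h X hX hstab
    have h2 : X.sup' hX f₂ ≤ f₂ m := by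
      apply Finset.sup'_le
      intro x hx
      rw [hXdef, Finset.mem_image] at hx
      obtain ⟨g', _, rfl⟩ := hx
      exact weak_of_dominant P hS f₂ hf₂ g' g'.2 m hm
    exact (Finset.le_sup' f₁ hmX).trans (h1.trans h2)

end Groth.Agent.Helper7.WDb
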