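import Mathlib

set_option autoImplicit false
set_option linter.unusedSectionVars false
set_option linter.unusedVariables false

namespace Groth.Agent.Helper7.WQ

open PowerSeries

universe u
variable {k : Type u} [Field k]

/-- a power series divisible by every power of `X` vanishes -/
lemma eq_zero_of_forall_X_pow_dvd (a : PowerSeries k) (h : ∀ n : ℕ, (X : PowerSeries k) ^ n ∣ a) :
    a = 0 := by
  ext i
  have := (X_pow_dvd_iff.mp (h (i + 1))) i (Nat.lt_succ_self i)
  simpa using this

lemma X_pow_succ_dvd_of (a : PowerSeries k) (M : ℕ) (h : (X : PowerSeries k) ^ M ∣ a)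
    (h0 : coeff M a = 0) : (X : PowerSeries k) ^ (M + 1) ∣ a := by
  rw [X_pow_dvd_iff] at h ⊢
  intro i hi
  rcases Nat.lt_succ_iff_lt_or_eq.mp hi with h1 | h1
  · exact h i h1
  · rw [h1]; exact h0

lemma coeff_X_pow_mul_self (j : ℕ) (b : PowerSeries k) :
    coeff j ((X : PowerSeries k) ^ j * b) = coeff 0 b := by
  have := coeff_X_pow_mul b j 0
  simpa using this

variable (σ : PowerSeries k ≃ₐ[k] PowerSeries k)

lemma sigma_C (c : k) : σ (C c) = C c := by
  have := σ.commutes c
  rwa [PowerSeries.algebraMap_apply, Algebra.algebraMap_self, RingHom.id_apply] at this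

lemma X_dvd_sigma_X : (X : PowerSeries k) ∣ σ X := by
  rw [X_dvd_iff]
  by_contra h
  have h1 : IsUnit (σ (X : PowerSeries k)) := by
    rw [isUnit_iff_constantCoeff]
    exact isUnit_iff_ne_zero.mpr h
  have h2 : IsUnit (X : PowerSeries k) := by
    have := h1.map σ.symm
    simpa using this
  rw [isUnit_iff_constantCoeff] at h2
  simp at h2

lemma X_pow_dvd_sigma (j : ℕ) (a : PowerSeries k) (h : (X : PowerSeries k) ^ j ∣ a) :
    (X : PowerSeries k) ^ j ∣ σ a := by
  obtain ⟨b, rfl⟩ := h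
  rw [map_mul, map_pow]
  exact Dvd.dvd.mul_right (pow_dvd_pow_of_dvd (X_dvd_sigma_X σ) j) _

lemma coeff_zero_sigma (a : PowerSeries k) : coeff 0 (σ a) = coeff 0 a := by
  conv_lhs => rw [eq_X_mul_shift_add_const a]
  rw [map_add, map_mul, sigma_C, map_add]
  obtain ⟨c, hc⟩ := X_dvd_sigma_X σ
  rw [hc, mul_assoc]
  simp

/-- the operator `σ - 1` -/
noncomputable def Nop : Module.End k (PowerSeries k) := σ.toLinearMap - 1

@[simp] lemma Nop_apply (a : PowerSeries k) : Nop σ a = σ a - a := by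
  simp [Nop]

section L

variable {σ}
variable {m : ℕ} {w : PowerSeries k} (hw : σ X = X + X ^ (m + 1) * w)

include hw

lemma sigma_X_eq : σ (X : PowerSeries k) = X * (1 + X ^ m * w) := by
  rw [hw]; ring

/-- `σ b - b` is divisible by `X^(m+1)`. -/
lemma X_pow_dvd_Nop_aux (t : ℕ) : ∀ b : PowerSeries k,
    (X : PowerSeries k) ^ (min (m + 1) t) ∣ σ b - b := by
  induction t with
  | zero => intro b; simp
  | succ t ih =>
    intro b
    set b' : PowerSeries k := PowerSeries.mk fun p => coeff (p + 1) b with hb'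
    have hb : b = X * b' + C (constantCoeff b) := eq_X_mul_shift_add_const b
    have h1 : σ b - b = X ^ (m + 1) * w * σ b' + X * (σ b' - b') := by
      conv_lhs => rw [hb]
      rw [map_add, map_mul, sigma_C, hw]; ring
    rw [h1]
    apply dvd_add
    · rw [mul_assoc]
      exact Dvd.dvd.mul_right (pow_dvd_pow _ (min_le_left _ _)) _
    · obtain ⟨c, hc⟩ := ih b'
      rw [hc, ← mul_assoc, ← pow_succ']
      exact Dvd.dvd.mul_right (pow_dvd_pow _ (by omega)) _

lemma X_pow_dvd_Nop (b : PowerSeries k) : (X : PowerSeries k) ^ (m + 1) ∣ σ b - b := by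
  have := X_pow_dvd_Nop_aux hw (m + 1) b
  rwa [min_self] at this

/-- **Main lemma**: leading behaviour of `σ - 1`. -/
lemma main_L (hm : 1 ≤ m) (j : ℕ) (a : PowerSeries k) (ha : (X : PowerSeries k) ^ j ∣ a) :
    (X : PowerSeries k) ^ (j + m) ∣ σ a - a ∧
      coeff (j + m) (σ a - a) = (j : k) * coeff 0 w * coeff j a := by
  obtain ⟨b, rfl⟩ := ha
  obtain ⟨m', rfl⟩ : ∃ m', m = m' + 1 := ⟨m - 1, by omega⟩
  set ε : PowerSeries k := X ^ (m' + 1) * w with hε
  obtain ⟨K, hK⟩ := Polynomial.powAddExpansion (1 : PowerSeries k) ε j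
  have h1 : σ (X ^ j * b) - X ^ j * b =
      X ^ j * ((σ b - b) + ((j : PowerSeries k) * ε + K * ε ^ 2) * σ b) := by
    rw [map_mul, map_pow, sigma_X_eq hw, mul_pow, hK]
    simp only [one_pow, mul_one]
    ring
  obtain ⟨c1, hc1⟩ := X_pow_dvd_Nop hw b
  have h2 : (σ b - b) + ((j : PowerSeries k) * ε + K * ε ^ 2) * σ b =
      X ^ (m' + 1) * ((j : PowerSeries k) * w * σ b + X * (c1 + X ^ m' * (K * w ^ 2 * σ b))) := by
    rw [hc1, hε]
    ring
  constructor
  · rw [h1, h2, ← mul_assoc, ← pow_add]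
    exact Dvd.intro _ rfl
  · rw [h1, h2, ← mul_assoc, ← pow_add, coeff_X_pow_mul_self, coeff_X_pow_mul_self]
    rw [map_add, coeff_zero_X_mul, add_zero]
    have hj : (j : PowerSeries k) = C (j : k) := by simp
    rw [hj, mul_assoc, coeff_C_mul]
    rw [coeff_zero_eq_constantCoeff_apply, map_mul, ← coeff_zero_eq_constantCoeff_apply,
      ← coeff_zero_eq_constantCoeff_apply, coeff_zero_sigma]
    ring

end L

end Groth.Agent.Helper7.WQ
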