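import Mathlib
import Groth.Agent.Helper7.WQ1

set_option autoImplicit false
set_option linter.unusedSectionVars false
set_option linter.unusedVariables false

namespace Groth.Agent.Helper7.WQ

open PowerSeries

universe u
variable {k : Type u} [Field k]
variable (σ : PowerSeries k ≃ₐ[k] PowerSeries k)

/-- extraction of the shape of `σ X` from the order hypothesis -/
lemma exists_w (m : ℕ) (hm : (σ X - X : PowerSeries k).order = ((m + 1 : ℕ) : ℕ∞)) :
    ∃ w : PowerSeries k, σ X = X + X ^ (m + 1) * w ∧ coeff 0 w ≠ 0 := by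
  set φ : PowerSeries k := σ X - X with hφ
  have hne : φ ≠ 0 := by
    intro h
    rw [h, order_zero] at hm
    exact absurd hm.symm (ENat.natCast_ne_top _)
  have hto : φ.order.toNat = m + 1 := by rw [hm]; rfl
  refine ⟨divXPowOrder φ, ?_, ?_⟩
  · have := X_pow_order_mul_divXPowOrder (f := φ)
    rw [hto] at this
    rw [this, hφ]; ring
  · rw [coeff_zero_eq_constantCoeff_apply, constantCoeff_divXPowOrder, hto]
    have := coeff_order hne
    rwa [hto] at this

lemma pow_apply_eq_iterate (i : ℕ) (a : PowerSeries k) : (σ ^ i) a = (⇑σ)^[i] a := by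
  induction i generalizing a with
  | zero => simp
  | succ i ih =>
    rw [pow_succ, AlgEquiv.mul_apply, ih, Function.iterate_succ_apply]

variable {p : ℕ} [Fact p.Prime] [CharP k p]

instance : CharP (Module.End k (PowerSeries k)) p := by
  apply charP_of_injective_algebraMap (R := k)
  intro c c' h
  have := LinearMap.congr_fun h (1 : PowerSeries k)
  simp only [Module.algebraMap_end_apply] at this
  have h2 := congrArg (coeff 0) this
  simpa using h2

lemma toLinearMap_pow (i : ℕ) : (σ.toLinearMap : Module.End k (PowerSeries k)) ^ i =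
    (σ ^ i).toLinearMap := by
  ext1 a
  rw [Module.End.pow_apply]
  simp only [AlgEquiv.toLinearMap_apply]
  exact (pow_apply_eq_iterate σ i a).symm

lemma Nop_pow_p (hσp : σ ^ p = 1) : (Nop σ) ^ p = 0 := by
  unfold Nop
  rw [sub_pow_char_of_commute (p := p) (h := Commute.one_right _), one_pow, toLinearMap_pow, hσp]
  ext1 a
  simp

/-- the break is at least one -/
lemma one_le_m (hσp : σ ^ p = 1) (m : ℕ) (w : PowerSeries k)
    (hw : σ X = X + X ^ (m + 1) * w) (hd : coeff 0 w ≠ 0) : 1 ≤ m := by
  by_contra hcon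
  have hm0 : m = 0 := by omega
  subst hm0
  set ζ : k := 1 + coeff 0 w with hζ
  have h1 : ∀ a : PowerSeries k, X ∣ a → coeff 1 (σ a) = ζ * coeff 1 a := by
    rintro a ⟨b, rfl⟩
    rw [map_mul, hw]
    have : (X + X ^ (0 + 1) * w) * σ b = X * ((1 + w) * σ b) := by ring
    rw [this, coeff_succ_X_mul, coeff_succ_X_mul, coeff_zero_eq_constantCoeff_apply, map_mul,
      ← coeff_zero_eq_constantCoeff_apply, ← coeff_zero_eq_constantCoeff_apply, coeff_zero_sigma,
      map_add, hζ]
    simp
  have h2 : ∀ i : ℕ, X ∣ (σ ^ i) X ∧ coeff 1 ((σ ^ i) (X : PowerSeries k)) = ζ ^ i := by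
    intro i
    induction i with
    | zero => simp
    | succ i ih =>
      have e : (σ ^ (i + 1)) (X : PowerSeries k) = σ ((σ ^ i) X) := by
        rw [pow_succ', AlgEquiv.mul_apply]
      rw [e]
      refine ⟨?_, ?_⟩
      · have := X_pow_dvd_sigma σ 1 _ (by simpa using ih.1)
        simpa using this
      · rw [h1 _ ih.1, ih.2, pow_succ']
  have h3 := (h2 p).2
  rw [hσp] at h3
  simp only [AlgEquiv.one_apply, coeff_one_X] at h3
  have h4 : (ζ - 1) ^ p = 0 := by
    rw [sub_pow_char, one_pow, ← h3, sub_self]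
  have h5 : ζ - 1 = 0 := pow_eq_zero_iff (Fact.out : p.Prime).ne_zero |>.mp h4
  apply hd
  rw [hζ] at h5
  simpa using h5

end Groth.Agent.Helper7.WQ
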