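import Mathlib
import Groth.Agent.Helper7.WQ2

set_option autoImplicit false
set_option linter.unusedSectionVars false
set_option linter.unusedVariables false

namespace Groth.Agent.Helper7.WQ

open PowerSeries

universe u
variable {k : Type u} [Field k]
variable {σ : PowerSeries k ≃ₐ[k] PowerSeries k}
variable {p : ℕ} [Fact p.Prime] [CharP k p]
variable {m : ℕ} {w : PowerSeries k}

lemma natCast_ne_zero_of_not_dvd (j : ℕ) (hj : ¬ p ∣ j) : (j : k) ≠ 0 := by
  intro h
  exact hj ((CharP.cast_eq_zero_iff k p j).mp h)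

/-- the backward direction of S19996 -/
lemma backward (hw : σ X = X + X ^ (m + 1) * w) (hd : coeff 0 w ≠ 0) (hm1 : 1 ≤ m)
    (s a : PowerSeries k) (hs : s.order = 1) (ha : σ a = a) (hsa : σ s = s + a) :
    p ∣ m + 1 := by
  have hs0 : s ≠ 0 := by
    intro h; rw [h, order_zero] at hs; exact absurd hs (by simp)
  have hto : s.order.toNat = 1 := by rw [hs]; rfl
  have hXs : (X : PowerSeries k) ^ 1 ∣ s := by
    have := X_pow_order_dvd (φ := s); rwa [hto] at this
  have hc1 : coeff 1 s ≠ 0 := by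
    have := coeff_order hs0; rwa [hto] at this
  have hNa : σ s - s = a := by rw [hsa]; ring
  obtain ⟨h1, h2⟩ := main_L hw hm1 1 s hXs
  rw [hNa] at h1 h2
  by_contra hcon
  obtain ⟨_, h4⟩ := main_L hw hm1 (1 + m) a h1
  rw [ha, sub_self, map_zero, h2] at h4
  have : ((1 + m : ℕ) : k) ≠ 0 :=
    natCast_ne_zero_of_not_dvd (p := p) (1 + m) (by rwa [add_comm])
  have h5 := mul_ne_zero (mul_ne_zero this hd)
    (mul_ne_zero (mul_ne_zero (by simp : ((1 : ℕ) : k) ≠ 0) hd) hc1)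
  exact h5 h4.symm

/-- if `Nop^(p-1) e = 0`, `X^M ∣ e`, `coeff M e ≠ 0` and `p ∣ m + 1` then `p ∤ M - m`. -/
lemma not_dvd_of_ker (hw : σ X = X + X ^ (m + 1) * w) (hd : coeff 0 w ≠ 0) (hm1 : 1 ≤ m)
    (hpm : p ∣ m + 1) (e : PowerSeries k) (he : ((Nop σ) ^ (p - 1)) e = 0)
    (M : ℕ) (hM : m ≤ M) (hXe : (X : PowerSeries k) ^ M ∣ e) (hc : coeff M e ≠ 0) :
    ¬ p ∣ M - m := by
  intro hdiv
  obtain ⟨r, hr⟩ := hdiv
  have hp : p.Prime := Fact.out
  have hpm' : ¬ p ∣ m := by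
    intro h
    have := (Nat.dvd_add_right h).mp hpm
    exact hp.one_lt.ne' (Nat.dvd_one.mp this)
  have key : ∀ i : ℕ, i ≤ p - 1 → (X : PowerSeries k) ^ (M + i * m) ∣ ((Nop σ) ^ i) e ∧
      coeff (M + i * m) (((Nop σ) ^ i) e) ≠ 0 := by
    intro i
    induction i with
    | zero => intro _; simpa using ⟨hXe, hc⟩
    | succ i ih =>
      intro hi
      obtain ⟨h1, h2⟩ := ih (by omega)
      obtain ⟨h3, h4⟩ := main_L hw hm1 (M + i * m) _ h1
      have e1 : ((Nop σ) ^ (i + 1)) e = σ (((Nop σ) ^ i) e) - ((Nop σ) ^ i) e := by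
        rw [pow_succ', Module.End.mul_apply, Nop_apply]
      have e2 : M + (i + 1) * m = M + i * m + m := by ring
      rw [e1, e2]
      refine ⟨h3, ?_⟩
      rw [h4]
      refine mul_ne_zero (mul_ne_zero ?_ hd) h2
      apply natCast_ne_zero_of_not_dvd (p := p)
      intro hdvd
      have e3 : M + i * m = (i + 1) * m + p * r := by
        have : M = m + p * r := by omega
        rw [this]; ring
      rw [e3] at hdvd
      have h5 : p ∣ (i + 1) * m := (Nat.dvd_add_left (Dvd.intro _ rfl)).mp hdvd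
      rcases hp.dvd_mul.mp h5 with h6 | h6
      · exact Nat.not_dvd_of_pos_of_lt (Nat.succ_pos i) (by omega) h6
      · exact hpm' h6
  have := (key (p - 1) le_rfl).2
  rw [he] at this
  simp at this

/-- one approximation step -/
lemma step (hw : σ X = X + X ^ (m + 1) * w) (hd : coeff 0 w ≠ 0) (hm1 : 1 ≤ m)
    (hpm : p ∣ m + 1) (M : ℕ) (hM : m + 2 ≤ M) (e : PowerSeries k)
    (he : ((Nop σ) ^ (p - 1)) e = 0) (hXe : (X : PowerSeries k) ^ M ∣ e) :
    ∃ y : PowerSeries k, (X : PowerSeries k) ^ (M - m) ∣ y ∧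
      (X : PowerSeries k) ^ (M + 1) ∣ e - Nop σ y := by
  by_cases hc : coeff M e = 0
  · exact ⟨0, dvd_zero _, by simpa using X_pow_succ_dvd_of e M hXe hc⟩
  · have hnd := not_dvd_of_ker hw hd hm1 hpm e he M (by omega) hXe hc
    have hne : ((M - m : ℕ) : k) ≠ 0 := natCast_ne_zero_of_not_dvd (p := p) _ hnd
    set c : k := coeff M e / (((M - m : ℕ) : k) * coeff 0 w) with hcdef
    refine ⟨C c * X ^ (M - m), Dvd.intro_left _ rfl, ?_⟩
    obtain ⟨h1, h2⟩ := main_L hw hm1 (M - m) (C c * X ^ (M - m)) (Dvd.intro_left _ rfl)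
    have e1 : M - m + m = M := by omega
    rw [e1] at h1 h2
    apply X_pow_succ_dvd_of
    · rw [Nop_apply]; exact dvd_sub hXe h1
    · rw [Nop_apply, map_sub, h2, coeff_C_mul, coeff_X_pow_self, mul_one, hcdef]
      field_simp
      ring

end Groth.Agent.Helper7.WQ
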