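import Mathlib
import Groth.Agent.Helper7.WQ3

set_option autoImplicit false
set_option linter.unusedSectionVars false
set_option linter.unusedVariables false

namespace Groth.Agent.Helper7.WQ

open PowerSeries

universe u
variable {k : Type u} [Field k]
variable {σ : PowerSeries k ≃ₐ[k] PowerSeries k}
variable {p : ℕ} [Fact p.Prime] [CharP k p]
variable {m : ℕ} {w : PowerSeries k}

lemma Nop_pow_pred_Nop (hσp : σ ^ p = 1) (x : PowerSeries k) :
    ((Nop σ) ^ (p - 1)) (Nop σ x) = 0 := by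
  have hp : p.Prime := Fact.out
  have : (Nop σ) ^ (p - 1) * Nop σ = (Nop σ) ^ p := by
    rw [← pow_succ]; congr 1; have := hp.one_lt; omega
  rw [← Module.End.mul_apply, this, Nop_pow_p σ hσp]
  rfl

/-- surjectivity of `σ - 1` onto the relevant part of the kernel of the trace. -/
lemma surj (hσp : σ ^ p = 1) (hw : σ X = X + X ^ (m + 1) * w) (hd : coeff 0 w ≠ 0) (hm1 : 1 ≤ m)
    (hpm : p ∣ m + 1) (e : PowerSeries k) (he : ((Nop σ) ^ (p - 1)) e = 0)
    (hXe : (X : PowerSeries k) ^ (m + 2) ∣ e) :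
    ∃ x : PowerSeries k, (X : PowerSeries k) ^ 2 ∣ x ∧ Nop σ x = e := by
  have stepk : ∀ (j : ℕ) (x : PowerSeries k), (X : PowerSeries k) ^ 2 ∣ x →
      (X : PowerSeries k) ^ (m + 2 + j) ∣ e - Nop σ x →
      ∃ x' : PowerSeries k, (X : PowerSeries k) ^ 2 ∣ x' ∧
        (X : PowerSeries k) ^ (m + 2 + (j + 1)) ∣ e - Nop σ x' ∧
        (X : PowerSeries k) ^ (j + 2) ∣ x' - x := by
    intro j x hx2 hxe
    have he' : ((Nop σ) ^ (p - 1)) (e - Nop σ x) = 0 := by
      rw [map_sub, he, Nop_pow_pred_Nop hσp, sub_zero]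
    obtain ⟨y, hy1, hy2⟩ := step hw hd hm1 hpm (m + 2 + j) (by omega) _ he' hxe
    have e1 : m + 2 + j - m = j + 2 := by omega
    rw [e1] at hy1
    refine ⟨x + y, dvd_add hx2 (dvd_trans (pow_dvd_pow _ (by omega)) hy1), ?_, ?_⟩
    · have : e - Nop σ (x + y) = e - Nop σ x - Nop σ y := by rw [map_add]; ring
      rw [this]; exact hy2
    · simpa using hy1
  let T : ℕ → Type u := fun j => {x : PowerSeries k // (X : PowerSeries k) ^ 2 ∣ x ∧
      (X : PowerSeries k) ^ (m + 2 + j) ∣ e - Nop σ x}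
  let xs : (j : ℕ) → T j := fun j => Nat.rec (motive := T)
    ⟨0, dvd_zero _, by simpa using hXe⟩
    (fun j x => ⟨Classical.choose (stepk j x.1 x.2.1 x.2.2),
      (Classical.choose_spec (stepk j x.1 x.2.1 x.2.2)).1,
      (Classical.choose_spec (stepk j x.1 x.2.1 x.2.2)).2.1⟩) j
  have hdiff : ∀ j, (X : PowerSeries k) ^ (j + 2) ∣ (xs (j + 1)).1 - (xs j).1 := fun j =>
    (Classical.choose_spec (stepk j (xs j).1 (xs j).2.1 (xs j).2.2)).2.2
  have tele : ∀ a b, a ≤ b → (X : PowerSeries k) ^ (a + 2) ∣ (xs b).1 - (xs a).1 := by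
    intro a b hab
    induction b, hab using Nat.le_induction with
    | base => simp
    | succ b hab ih =>
      have : (xs (b + 1)).1 - (xs a).1 = ((xs (b + 1)).1 - (xs b).1) + ((xs b).1 - (xs a).1) := by
        ring
      rw [this]
      exact dvd_add (dvd_trans (pow_dvd_pow _ (by omega)) (hdiff b)) ih
  set x : PowerSeries k := PowerSeries.mk fun i => coeff i (xs i).1 with hxdef
  have hx : ∀ j, (X : PowerSeries k) ^ (j + 2) ∣ x - (xs j).1 := by
    intro j
    rw [X_pow_dvd_iff]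
    intro i hi
    rw [map_sub, hxdef, coeff_mk]
    by_cases hij : i ≤ j
    · have := (X_pow_dvd_iff.mp (tele i j hij)) i (by omega)
      rw [map_sub] at this
      rw [sub_eq_zero] at this ⊢
      exact this.symm
    · have := (X_pow_dvd_iff.mp (tele j i (by omega))) i (by omega)
      rwa [map_sub] at this
  have hall : ∀ n, (X : PowerSeries k) ^ n ∣ e - Nop σ x := by
    intro n
    have h1 : e - Nop σ x = (e - Nop σ (xs n).1) - Nop σ (x - (xs n).1) := by
      rw [map_sub]; ring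
    rw [h1]
    apply dvd_sub
    · exact dvd_trans (pow_dvd_pow _ (by omega)) (xs n).2.2
    · have := (main_L hw hm1 (n + 2) _ (hx n)).1
      rw [Nop_apply]
      exact dvd_trans (pow_dvd_pow _ (by omega)) this
  refine ⟨x, ?_, ?_⟩
  · have : x = (x - (xs 0).1) + (xs 0).1 := by ring
    rw [this]
    exact dvd_add (by simpa using hx 0) (xs 0).2.1
  · have := eq_zero_of_forall_X_pow_dvd _ hall
    exact (sub_eq_zero.mp this).symm

lemma order_aut_X (τ : PowerSeries k ≃ₐ[k] PowerSeries k) :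
    (τ (X : PowerSeries k)).order = 1 := by
  have h0 : coeff 0 (τ (X : PowerSeries k)) = 0 := by
    rw [coeff_zero_sigma]; simp
  have h1 : coeff 1 (τ (X : PowerSeries k)) ≠ 0 := by
    intro h
    have h2 : (X : PowerSeries k) ^ 2 ∣ τ X := by
      rw [X_pow_dvd_iff]
      intro i hi
      interval_cases i
      · exact h0
      · exact h
    have h3 := X_pow_dvd_sigma τ.symm 2 _ h2
    rw [AlgEquiv.symm_apply_apply, X_pow_dvd_iff] at h3
    have := h3 1 (by omega)
    simp at this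
  have : (τ (X : PowerSeries k)).order = ((1 : ℕ) : ℕ∞) := by
    rw [order_eq_nat]
    refine ⟨h1, fun i hi => ?_⟩
    interval_cases i
    exact h0
  simpa using this

/-- the norm of `X` -/
noncomputable def nrm (σ : PowerSeries k ≃ₐ[k] PowerSeries k) (p : ℕ) : PowerSeries k :=
  ∏ i ∈ Finset.range p, (σ ^ i) X

lemma sigma_nrm (hσp : σ ^ p = 1) : σ (nrm σ p) = nrm σ p := by
  unfold nrm
  rw [map_prod]
  have h1 : ∀ i, σ ((σ ^ i) (X : PowerSeries k)) = (σ ^ (i + 1)) X := by
    intro i; rw [pow_succ', AlgEquiv.mul_apply]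
  simp only [h1]
  have h2 := Finset.prod_range_succ' (fun i => (σ ^ i) (X : PowerSeries k)) p
  have h3 := Finset.prod_range_succ (fun i => (σ ^ i) (X : PowerSeries k)) p
  rw [h3, hσp] at h2
  simp only [pow_zero, AlgEquiv.one_apply] at h2
  exact (mul_right_cancel₀ X_ne_zero h2).symm

lemma order_nrm : (nrm σ p).order = (p : ℕ∞) := by
  unfold nrm
  rw [order_prod, Finset.sum_congr rfl (fun i _ => order_aut_X (σ ^ i))]
  simp

theorem forward (hσp : σ ^ p = 1) (hw : σ X = X + X ^ (m + 1) * w) (hd : coeff 0 w ≠ 0)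
    (hm1 : 1 ≤ m) (hpm : p ∣ m + 1) :
    ∃ s a : PowerSeries k, s.order = 1 ∧ σ a = a ∧ σ s = s + a := by
  have hp : p.Prime := Fact.out
  obtain ⟨q, hq⟩ := hpm
  set t := nrm σ p with ht
  have hσt : σ t = t := sigma_nrm hσp
  have hord : (t ^ q).order = ((m + 1 : ℕ) : ℕ∞) := by
    rw [order_pow, order_nrm, hq]
    simp [mul_comm]
  have hne : t ^ q ≠ 0 := by
    intro h; rw [h, order_zero] at hord; exact absurd hord.symm (ENat.natCast_ne_top _)
  have hto : (t ^ q).order.toNat = m + 1 := by rw [hord]; rfl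
  have hXt : (X : PowerSeries k) ^ (m + 1) ∣ t ^ q := by
    have := X_pow_order_dvd (φ := t ^ q); rwa [hto] at this
  have hτ0 : coeff (m + 1) (t ^ q) ≠ 0 := by
    have := coeff_order hne; rwa [hto] at this
  set b : PowerSeries k := C (coeff 0 w / coeff (m + 1) (t ^ q)) * t ^ q with hb
  have hσb : σ b = b := by
    rw [hb, map_mul, sigma_C]
    congr 1
    rw [map_pow σ t q, hσt]
  have hNX : Nop σ X = X ^ (m + 1) * w := by rw [Nop_apply, hw]; ring
  set e0 : PowerSeries k := Nop σ X - b with he0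
  have hXe0 : (X : PowerSeries k) ^ (m + 2) ∣ e0 := by
    apply X_pow_succ_dvd_of
    · rw [he0, hNX]
      exact dvd_sub (Dvd.intro _ rfl) (Dvd.dvd.mul_left hXt _)
    · rw [he0, hNX, map_sub, coeff_X_pow_mul_self, hb, coeff_C_mul]
      field_simp
      ring
  have hNb : Nop σ b = 0 := by rw [Nop_apply, hσb, sub_self]
  have he0k : ((Nop σ) ^ (p - 1)) e0 = 0 := by
    rw [he0, map_sub, Nop_pow_pred_Nop hσp, zero_sub, neg_eq_zero]
    have : (Nop σ) ^ (p - 1) = (Nop σ) ^ (p - 2) * Nop σ := by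
      rw [← pow_succ]; congr 1; have := hp.two_le; omega
    rw [this, Module.End.mul_apply, hNb, map_zero]
  obtain ⟨x, hx2, hxe⟩ := surj hσp hw hd hm1 ⟨q, hq⟩ e0 he0k hXe0
  refine ⟨X - x, b, ?_, hσb, ?_⟩
  · have hx0 : coeff 0 x = 0 := (X_pow_dvd_iff.mp hx2) 0 (by omega)
    have hx1 : coeff 1 x = 0 := (X_pow_dvd_iff.mp hx2) 1 (by omega)
    have : (X - x : PowerSeries k).order = ((1 : ℕ) : ℕ∞) := by
      rw [order_eq_nat]
      refine ⟨by rw [map_sub, hx1]; simp, fun i hi => ?_⟩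
      interval_cases i
      rw [map_sub, hx0]; simp
    simpa using this
  · have h1 : σ (X - x) - (X - x) = Nop σ X - Nop σ x := by
      rw [Nop_apply, Nop_apply, map_sub]; ring
    rw [hxe, he0] at h1
    have : σ (X - x) = (X - x) + (σ (X - x) - (X - x)) := by ring
    rw [this, h1]; ring

theorem main_19996 (σ : PowerSeries k ≃ₐ[k] PowerSeries k) (hσp : σ ^ p = 1)
    (m : ℕ) (hm : (σ X - X : PowerSeries k).order = ((m + 1 : ℕ) : ℕ∞)) :
    p ∣ m + 1 ↔ ∃ s a : PowerSeries k, s.order = 1 ∧ σ a = a ∧ σ s = s + a := by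
  obtain ⟨w, hw, hd⟩ := exists_w σ m hm
  have hm1 := one_le_m σ hσp m w hw hd
  constructor
  · exact forward hσp hw hd hm1
  · rintro ⟨s, a, hs, ha, hsa⟩
    exact backward hw hd hm1 s a hs ha hsa

end Groth.Agent.Helper7.WQ
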