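import Mathlib
import Groth.Agent.Helper7.WQ4

set_option autoImplicit false
set_option linter.unusedSectionVars false
set_option linter.unusedVariables false

namespace Groth.Agent.Helper7.WQ

open PowerSeries

universe u
variable {k : Type u} [Field k]
variable {σ : PowerSeries k ≃ₐ[k] PowerSeries k}
variable {p : ℕ} [Fact p.Prime] [CharP k p]
variable {m : ℕ} {w : PowerSeries k}

lemma order_le_order_aut (τ : PowerSeries k ≃ₐ[k] PowerSeries k) (a : PowerSeries k) :
    a.order ≤ (τ a).order := by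
  apply le_order
  intro i hi
  have h1 : (X : PowerSeries k) ^ (i + 1) ∣ a := by
    rw [X_pow_dvd_iff]
    intro i' hi'
    apply coeff_of_lt_order
    refine lt_of_le_of_lt ?_ hi
    exact_mod_cast Nat.lt_succ_iff.mp hi'
  exact (X_pow_dvd_iff.mp (X_pow_dvd_sigma τ _ _ h1)) i (Nat.lt_succ_self i)

lemma order_aut (τ : PowerSeries k ≃ₐ[k] PowerSeries k) (a : PowerSeries k) :
    (τ a).order = a.order := by
  apply le_antisymm
  · have := order_le_order_aut τ.symm (τ a)
    rwa [AlgEquiv.symm_apply_apply] at this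
  · exact order_le_order_aut τ a

lemma coeff_add_mul_of_dvd (i j : ℕ) (φ ψ : PowerSeries k) (hφ : (X : PowerSeries k) ^ i ∣ φ)
    (hψ : (X : PowerSeries k) ^ j ∣ ψ) :
    (X : PowerSeries k) ^ (i + j) ∣ φ * ψ ∧ coeff (i + j) (φ * ψ) = coeff i φ * coeff j ψ := by
  obtain ⟨φ', rfl⟩ := hφ
  obtain ⟨ψ', rfl⟩ := hψ
  have : X ^ i * φ' * (X ^ j * ψ') = X ^ (i + j) * (φ' * ψ') := by ring
  rw [this]
  refine ⟨Dvd.intro _ rfl, ?_⟩
  rw [coeff_X_pow_mul_self, coeff_X_pow_mul_self, coeff_X_pow_mul_self,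
    coeff_zero_eq_constantCoeff_apply, map_mul, coeff_zero_eq_constantCoeff_apply,
    coeff_zero_eq_constantCoeff_apply]

lemma dvd_and_coeff_of_order {a : PowerSeries k} {j : ℕ} (h : a.order = (j : ℕ∞)) :
    (X : PowerSeries k) ^ j ∣ a ∧ coeff j a ≠ 0 := by
  have hne : a ≠ 0 := by
    intro h0; rw [h0, order_zero] at h; exact absurd h.symm (ENat.natCast_ne_top _)
  have hto : a.order.toNat = j := by rw [h]; rfl
  constructor
  · have := X_pow_order_dvd (φ := a); rwa [hto] at this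
  · have := coeff_order hne; rwa [hto] at this

/-- the twisted Wronskian `σ a · b - a · σ b` -/
lemma order_wronskian (hw : σ X = X + X ^ (m + 1) * w) (hd : coeff 0 w ≠ 0) (hm1 : 1 ≤ m)
    (a b : PowerSeries k) (j l : ℕ) (ha : a.order = (j : ℕ∞)) (hb : b.order = (l : ℕ∞))
    (hjl : ((j : k) - (l : k)) ≠ 0) :
    (σ a * b - a * σ b).order = ((j + l + m : ℕ) : ℕ∞) := by
  obtain ⟨ha1, ha2⟩ := dvd_and_coeff_of_order ha
  obtain ⟨hb1, hb2⟩ := dvd_and_coeff_of_order hb
  obtain ⟨hNa1, hNa2⟩ := main_L hw hm1 j a ha1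
  obtain ⟨hNb1, hNb2⟩ := main_L hw hm1 l b hb1
  have e : σ a * b - a * σ b = (σ a - a) * b - a * (σ b - b) := by ring
  obtain ⟨h1, h2⟩ := coeff_add_mul_of_dvd (j + m) l _ _ hNa1 hb1
  obtain ⟨h3, h4⟩ := coeff_add_mul_of_dvd j (l + m) _ _ ha1 hNb1
  have e1 : j + m + l = j + l + m := by ring
  have e2 : j + (l + m) = j + l + m := by ring
  rw [e1] at h1 h2
  rw [e2] at h3 h4
  rw [e, order_eq_nat]
  constructor
  · rw [map_sub, h2, h4, hNa2, hNb2]
    have : (j : k) * coeff 0 w * coeff j a * coeff l b - coeff j a * ((l : k) * coeff 0 w * coeff l b)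
        = ((j : k) - (l : k)) * coeff 0 w * coeff j a * coeff l b := by ring
    rw [this]
    exact mul_ne_zero (mul_ne_zero (mul_ne_zero hjl hd) ha2) hb2
  · intro i hi
    exact (X_pow_dvd_iff.mp (dvd_sub h1 h3)) i hi

end Groth.Agent.Helper7.WQ
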