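import Mathlib
import Groth.Agent.Helper7.WQ5

set_option autoImplicit false
set_option linter.unusedSectionVars false
set_option linter.unusedVariables false

namespace Groth.Agent.Helper7.WQ

open PowerSeries

universe u
variable {k : Type u} [Field k]
variable {σ : PowerSeries k ≃ₐ[k] PowerSeries k}
variable {p : ℕ} [Fact p.Prime] [CharP k p]

instance instCharPPowerSeries : CharP (PowerSeries k) p :=
  charP_of_injective_algebraMap (R := k) (A := PowerSeries k)
    (by
      intro c c' h
      rw [PowerSeries.algebraMap_apply, PowerSeries.algebraMap_apply] at h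
      simpa using congrArg (coeff 0) h) p

lemma wr_rel {R : Type*} [CommRing R] [CharP R p] (a b a' b' x f : R) (P1 : ℕ) (hP : p = P1 + 1)
    (E1 : (a ^ p - a * b ^ P1) * x = f * b ^ p)
    (E2 : (a' ^ p - a' * b' ^ P1) * x = f * b' ^ p) :
    (a' * b - a * b') ^ p * x = (b * b') ^ P1 * (a' * b - a * b') * x := by
  have hb : b ^ p = b ^ P1 * b := by rw [hP, pow_succ]
  have hb' : b' ^ p = b' ^ P1 * b' := by rw [hP, pow_succ]
  rw [sub_pow_char, mul_pow, mul_pow, mul_pow]
  rw [hb] at E1 ⊢
  rw [hb'] at E2 ⊢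
  linear_combination (b ^ P1 * b) * E2 - (b' ^ P1 * b') * E1

theorem main_15813 (σ : PowerSeries k ≃ₐ[k] PowerSeries k) (hσp : σ ^ p = 1)
    (m : ℕ) (hm : (σ X - X : PowerSeries k).order = ((m + 1 : ℕ) : ℕ∞))
    (f : PowerSeries k) (hfσ : σ f = f) (hf0 : constantCoeff f ≠ 0)
    (μ : ℕ) (hμ : 0 < μ) (hpμ : ¬ p ∣ μ)
    (z : FractionRing (PowerSeries k))
    (hz : z ^ p - z = algebraMap (PowerSeries k) (FractionRing (PowerSeries k)) f /
      algebraMap (PowerSeries k) (FractionRing (PowerSeries k))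
        (∏ i ∈ Finset.range p, (σ ^ i) X) ^ μ) :
    μ = m := by
  obtain ⟨w, hw, hd⟩ := exists_w σ m hm
  have hm1 := one_le_m σ hσp m w hw hd
  have hp : p.Prime := Fact.out
  obtain ⟨P1, hP1⟩ : ∃ P1, p = P1 + 1 := ⟨p - 1, by have := hp.one_lt; omega⟩
  set ι := algebraMap (PowerSeries k) (FractionRing (PowerSeries k)) with hι
  have hinj : Function.Injective ι := IsFractionRing.injective _ _
  have hP1pos : 0 < P1 := by have := hp.one_lt; omega
  obtain ⟨a, b, hb, hzab⟩ := IsFractionRing.div_surjective (A := PowerSeries k) z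
  rw [← hzab] at hz
  have hb0 : b ≠ 0 := nonZeroDivisors.ne_zero hb
  have hιb : ι b ≠ 0 := by
    intro h; exact hb0 (hinj (by rw [h, map_zero]))
  set x : PowerSeries k := nrm σ p with hx
  have hxdef : (∏ i ∈ Finset.range p, (σ ^ i) X) = x := rfl
  rw [hxdef] at hz
  have hxord : x.order = (p : ℕ∞) := order_nrm
  have hx0 : x ≠ 0 := by
    intro h; rw [h, order_zero] at hxord; exact absurd hxord.symm (ENat.natCast_ne_top _)
  have hιx : ι x ≠ 0 := by
    intro h; exact hx0 (hinj (by rw [h, map_zero]))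
  -- the equation in the power series ring
  have E1 : (a ^ p - a * b ^ P1) * x ^ μ = f * b ^ p := by
    apply hinj
    simp only [map_mul, map_sub, map_pow]
    have hbp : ι b ^ p = ι b ^ P1 * ι b := by rw [hP1, pow_succ]
    have h1 : (ι a / ι b) ^ p - ι a / ι b = (ι a ^ p - ι a * ι b ^ P1) / ι b ^ p := by
      rw [eq_div_iff (pow_ne_zero _ hιb), sub_mul, div_pow, div_mul_cancel₀ _ (pow_ne_zero _ hιb)]
      congr 1
      rw [hbp]
      field_simp
    rw [h1, div_eq_div_iff (pow_ne_zero _ hιb) (pow_ne_zero _ hιx)] at hz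
    exact hz
  have E2 : ((σ a) ^ p - σ a * (σ b) ^ P1) * x ^ μ = f * (σ b) ^ p := by
    have := congrArg σ E1
    simp only [map_mul, map_sub, map_pow, hfσ] at this
    rwa [hx, sigma_nrm hσp] at this
  have hf_ord : f.order = 0 :=
    order_zero_of_unit (isUnit_iff_constantCoeff.mpr (isUnit_iff_ne_zero.mpr hf0))
  have hf_ne : f ≠ 0 := by
    intro h; rw [h] at hf0; simp at hf0
  have ha0 : a ≠ 0 := by
    intro h
    rw [h, zero_pow hp.ne_zero, zero_mul, sub_zero, zero_mul] at E1
    exact (mul_ne_zero hf_ne (pow_ne_zero _ hb0)) E1.symm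
  obtain ⟨j, hj⟩ : ∃ j : ℕ, a.order = (j : ℕ∞) := ⟨a.order.toNat, (coe_toNat_order ha0).symm⟩
  obtain ⟨l, hl⟩ : ∃ l : ℕ, b.order = (l : ℕ∞) := ⟨b.order.toNat, (coe_toNat_order hb0).symm⟩
  -- orders in E1
  have hE1ord : (a ^ p - a * b ^ P1).order + ((μ * p : ℕ) : ℕ∞) = ((p * l : ℕ) : ℕ∞) := by
    have := congrArg order E1
    rw [order_mul, order_mul, order_pow, order_pow, hxord, hl, hf_ord, zero_add] at this
    push_cast
    simpa [nsmul_eq_mul] using this
  have hap : (a ^ p).order = ((p * j : ℕ) : ℕ∞) := by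
    rw [order_pow, hj]; push_cast; simp [nsmul_eq_mul]
  have habp : (-(a * b ^ P1)).order = ((j + P1 * l : ℕ) : ℕ∞) := by
    rw [order_neg, order_mul, order_pow, hj, hl]; push_cast; simp [nsmul_eq_mul]
  have hl_eq : l = j + μ := by
    rcases lt_or_ge j l with hjl | hjl
    · have hne : (a ^ p).order ≠ (-(a * b ^ P1)).order := by
        rw [hap, habp]
        intro h
        have h' : p * j = j + P1 * l := by exact_mod_cast h
        have : P1 * j < P1 * l := Nat.mul_lt_mul_of_pos_left hjl (by omega)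
        rw [hP1] at h'
        nlinarith
      have hD : (a ^ p - a * b ^ P1).order = ((p * j : ℕ) : ℕ∞) := by
        rw [sub_eq_add_neg, order_add_of_order_ne _ _ hne, hap, habp]
        have : p * j ≤ j + P1 * l := by
          rw [hP1]
          have : P1 * j ≤ P1 * l := Nat.mul_le_mul_left _ hjl.le
          nlinarith
        rw [min_eq_left]
        exact_mod_cast this
      rw [hD] at hE1ord
      have h' : p * j + μ * p = p * l := by exact_mod_cast hE1ord
      have : p * (j + μ) = p * l := by rw [← h']; ring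
      exact (Nat.eq_of_mul_eq_mul_left hp.pos this).symm
    · exfalso
      have h1 : ((p * l : ℕ) : ℕ∞) ≤ (a ^ p - a * b ^ P1).order := by
        rw [sub_eq_add_neg]
        refine le_trans ?_ (min_order_le_order_add _ _)
        rw [hap, habp]
        apply le_min
        · exact_mod_cast Nat.mul_le_mul_left _ hjl
        · have : p * l ≤ j + P1 * l := by rw [hP1]; nlinarith
          exact_mod_cast this
      have h2 : ((p * l : ℕ) : ℕ∞) + ((μ * p : ℕ) : ℕ∞) ≤ ((p * l : ℕ) : ℕ∞) := by
        calc ((p * l : ℕ) : ℕ∞) + ((μ * p : ℕ) : ℕ∞)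
            ≤ (a ^ p - a * b ^ P1).order + ((μ * p : ℕ) : ℕ∞) := by gcongr
          _ = _ := hE1ord
      have h3 : p * l + μ * p ≤ p * l := by exact_mod_cast h2
      have : 0 < μ * p := Nat.mul_pos hμ hp.pos
      omega
  -- the Wronskian
  have hjl : ((j : k) - (l : k)) ≠ 0 := by
    rw [hl_eq]; push_cast
    have := natCast_ne_zero_of_not_dvd (k := k) (p := p) μ hpμ
    intro h
    apply this
    linear_combination -h
  have hWord := order_wronskian hw hd hm1 a b j l hj hl hjl
  set W := σ a * b - a * σ b with hW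
  have hW0 : W ≠ 0 := by
    intro h; rw [h, order_zero] at hWord; exact absurd hWord.symm (ENat.natCast_ne_top _)
  have hrel := wr_rel (p := p) a b (σ a) (σ b) (x ^ μ) f P1 hP1 E1 E2
  have hrel' : W ^ p = (b * σ b) ^ P1 * W := mul_right_cancel₀ (pow_ne_zero _ hx0) hrel
  have hord := congrArg order hrel'
  rw [order_pow, order_mul, order_pow, order_mul, order_aut, hWord, hl] at hord
  have h' : p * (j + l + m) = P1 * (l + l) + (j + l + m) := by
    have : ((p * (j + l + m) : ℕ) : ℕ∞) = ((P1 * (l + l) + (j + l + m) : ℕ) : ℕ∞) := by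
      push_cast
      simp only [nsmul_eq_mul] at hord
      push_cast at hord
      rw [hord]
    exact_mod_cast this
  rw [hP1] at h'
  have h'' : P1 * (j + l + m) = P1 * (l + l) := by nlinarith
  have := Nat.eq_of_mul_eq_mul_left hP1pos h''
  omega

end Groth.Agent.Helper7.WQ
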