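import Mathlib

/-!
# Weierstrass equations: tangent-vector test for membership in the square of a prime
-/

set_option autoImplicit false

namespace Groth.Agent.Helper7.WReg2
open Polynomial

universe u v

variable {R : Type u} [CommRing R] {D : Type v} [CommRing D]
  (W : WeierstrassCurve.Affine R) (ρ : Polynomial (Polynomial R) →+* D)

/-- the structure map `R → D` -/
noncomputable def phi : R →+* D := ρ.comp ((C : Polynomial R →+* _).comp C)

/-- image of `x` -/
noncomputable def xb : D := ρ (C X)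

/-- image of `y` -/
noncomputable def yb : D := ρ X

theorem rho_eq : ρ = eval₂RingHom (eval₂RingHom (phi ρ) (xb ρ)) (yb ρ) := by
  apply Polynomial.ringHom_ext'
  · apply Polynomial.ringHom_ext'
    · ext a
      simp [phi]
    · simp [xb]
  · simp [yb]

theorem rho_polynomial :
    ρ W.polynomial = yb ρ ^ 2 + phi ρ W.a₁ * xb ρ * yb ρ + phi ρ W.a₃ * yb ρ -
      (xb ρ ^ 3 + phi ρ W.a₂ * xb ρ ^ 2 + phi ρ W.a₄ * xb ρ + phi ρ W.a₆) := by
  simp only [WeierstrassCurve.Affine.polynomial, map_sub, map_add, map_mul, map_pow]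
  simp only [phi, xb, yb, RingHom.comp_apply]
  ring

/-- the tangent-vector homomorphism -/
noncomputable def tau (u v : D) : Polynomial (Polynomial R) →+* TrivSqZeroExt D D :=
  eval₂RingHom (eval₂RingHom ((TrivSqZeroExt.inlHom D D).comp (phi ρ))
    (TrivSqZeroExt.inl (xb ρ) + TrivSqZeroExt.inr u))
    (TrivSqZeroExt.inl (yb ρ) + TrivSqZeroExt.inr v)

theorem fst_tau (u v : D) (p : Polynomial (Polynomial R)) :
    (tau ρ u v p).fst = ρ p := by
  have : (TrivSqZeroExt.fstHom D D D : TrivSqZeroExt D D →+* D).comp (tau ρ u v) = ρ := by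
    apply Polynomial.ringHom_ext'
    · apply Polynomial.ringHom_ext'
      · ext a
        simp [tau, phi]
      · simp [tau, xb]
    · simp [tau, yb]
  exact congrArg (fun f : Polynomial (Polynomial R) →+* D => f p) this

theorem snd_tau_polynomial (u v : D) :
    (tau ρ u v W.polynomial).snd =
      u * (-(phi ρ W.a₁ * yb ρ - (3 * xb ρ ^ 2 + 2 * phi ρ W.a₂ * xb ρ + phi ρ W.a₄))) * (-1) +
      v * (2 * yb ρ + phi ρ W.a₁ * xb ρ + phi ρ W.a₃) := by
  simp only [WeierstrassCurve.Affine.polynomial, tau, map_sub, map_add, map_mul,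
    coe_eval₂RingHom, eval₂_C, eval₂_X, pow_succ, pow_zero, one_mul, RingHom.comp_apply,
    TrivSqZeroExt.inlHom_apply]
  simp only [TrivSqZeroExt.snd_sub, TrivSqZeroExt.snd_add, TrivSqZeroExt.snd_mul,
    TrivSqZeroExt.fst_add, TrivSqZeroExt.fst_mul, TrivSqZeroExt.fst_inl, TrivSqZeroExt.snd_inl,
    TrivSqZeroExt.fst_inr, TrivSqZeroExt.snd_inr, smul_eq_mul, MulOpposite.smul_eq_mul_unop,
    MulOpposite.unop_op, add_zero, zero_add]
  ring


/-- `tau` kills the square of the kernel of `ρ`. -/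
theorem tau_sq_eq_zero (u v : D) (q : Ideal (Polynomial (Polynomial R)))
    (hq : ∀ p ∈ q, ρ p = 0) {p : Polynomial (Polynomial R)} (hp : p ∈ q ^ 2) :
    tau ρ u v p = 0 := by
  rw [pow_two] at hp
  refine Submodule.mul_induction_on hp ?_ ?_
  · intro a ha b hb
    rw [map_mul]
    ext
    · simp [TrivSqZeroExt.fst_mul, fst_tau, hq a ha]
    · simp [TrivSqZeroExt.snd_mul, fst_tau, hq a ha, hq b hb]
  · intro a b ha hb
    rw [map_add, ha, hb, add_zero]

variable [IsDomain D]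

/-- the tangent test: if `s f ∈ q^2` with `ρ s ≠ 0`, all directional derivatives vanish. -/
theorem deriv_eq_zero (q : Ideal (Polynomial (Polynomial R)))
    (hq : ∀ p ∈ q, ρ p = 0) (hf : ρ W.polynomial = 0) (s : Polynomial (Polynomial R))
    (hs : ρ s ≠ 0) (hsf : s * W.polynomial ∈ q ^ 2) (u v : D) :
    (tau ρ u v W.polynomial).snd = 0 := by
  have h := tau_sq_eq_zero ρ u v q hq hsf
  rw [map_mul] at h
  have h2 := congrArg TrivSqZeroExt.snd h
  simp only [TrivSqZeroExt.snd_mul, fst_tau, hf, TrivSqZeroExt.snd_zero, smul_eq_mul,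
    MulOpposite.smul_eq_mul_unop, MulOpposite.unop_op, mul_zero, add_zero] at h2
  exact (mul_eq_zero.mp h2).resolve_left hs

theorem partials_eq_zero (q : Ideal (Polynomial (Polynomial R)))
    (hq : ∀ p ∈ q, ρ p = 0) (hf : ρ W.polynomial = 0) (s : Polynomial (Polynomial R))
    (hs : ρ s ≠ 0) (hsf : s * W.polynomial ∈ q ^ 2) :
    phi ρ W.a₁ * yb ρ - (3 * xb ρ ^ 2 + 2 * phi ρ W.a₂ * xb ρ + phi ρ W.a₄) = 0 ∧
      2 * yb ρ + phi ρ W.a₁ * xb ρ + phi ρ W.a₃ = 0 := by
  have h1 := deriv_eq_zero W ρ q hq hf s hs hsf 1 0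
  have h2 := deriv_eq_zero W ρ q hq hf s hs hsf 0 1
  rw [snd_tau_polynomial] at h1 h2
  constructor
  · linear_combination h1
  · linear_combination h2

/-- Under the tangent test, the discriminant dies in `D`. -/
theorem phi_Δ_eq_zero (q : Ideal (Polynomial (Polynomial R)))
    (hq : ∀ p ∈ q, ρ p = 0) (hf : ρ W.polynomial = 0) (s : Polynomial (Polynomial R))
    (hs : ρ s ≠ 0) (hsf : s * W.polynomial ∈ q ^ 2) : phi ρ W.Δ = 0 := by
  obtain ⟨h1, h2⟩ := partials_eq_zero W ρ q hq hf s hs hsf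
  by_contra hΔ
  have hΔ' : (W.map (phi ρ)).toAffine.Δ ≠ 0 := by
    rw [WeierstrassCurve.map_Δ]; exact hΔ
  have heq : (W.map (phi ρ)).toAffine.Equation (xb ρ) (yb ρ) := by
    rw [WeierstrassCurve.Affine.equation_iff']
    simp only [WeierstrassCurve.map_a₁, WeierstrassCurve.map_a₂, WeierstrassCurve.map_a₃,
      WeierstrassCurve.map_a₄, WeierstrassCurve.map_a₆]
    rw [← rho_polynomial]; exact hf
  have hns := ((W.map (phi ρ)).toAffine.equation_iff_nonsingular_of_Δ_ne_zero hΔ').mp heq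
  rw [WeierstrassCurve.Affine.nonsingular_iff'] at hns
  simp only [WeierstrassCurve.map_a₁, WeierstrassCurve.map_a₂, WeierstrassCurve.map_a₃,
    WeierstrassCurve.map_a₄] at hns
  rcases hns.2 with h | h
  · exact h h1
  · exact h h2

/-- In a domain, the only singular point of `y² + a₁xy = x³ + a₂x²` is the origin. -/
theorem origin_of_singular (a₁ a₂ x y : D)
    (e1 : y ^ 2 + a₁ * x * y = x ^ 3 + a₂ * x ^ 2)
    (e2 : a₁ * y - (3 * x ^ 2 + 2 * a₂ * x) = 0)
    (e3 : 2 * y + a₁ * x = 0) : x = 0 ∧ y = 0 := by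
  have hx : x = 0 := by
    by_contra hx
    have k1 : x ^ 2 * (4 * x + (a₁ ^ 2 + 4 * a₂)) = 0 := by
      linear_combination (-4 : D) * e1 + (2 * y + a₁ * x) * e3 - 0 * e2
    have k2 : x * (6 * x + (a₁ ^ 2 + 4 * a₂)) = 0 := by
      linear_combination (-2 : D) * e2 + a₁ * e3
    have k1' : 4 * x + (a₁ ^ 2 + 4 * a₂) = 0 :=
      (mul_eq_zero.mp k1).resolve_left (pow_ne_zero 2 hx)
    have k2' : 6 * x + (a₁ ^ 2 + 4 * a₂) = 0 := (mul_eq_zero.mp k2).resolve_left hx
    have k3 : (2 : D) * x = 0 := by linear_combination k2' - k1'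
    have h2 : (2 : D) = 0 := (mul_eq_zero.mp k3).resolve_right hx
    have ha : a₁ ^ 2 = 0 := by linear_combination k1' - (2 * x + 2 * a₂) * h2
    have ha1 : a₁ = 0 := pow_eq_zero_iff (two_ne_zero) |>.mp ha
    have k4 : x ^ 2 = 0 := by
      linear_combination (-1 : D) * e2 + y * ha1 - (x ^ 2 + a₂ * x) * h2
    exact hx (pow_eq_zero_iff (two_ne_zero) |>.mp k4)
  refine ⟨hx, ?_⟩
  have : y ^ 2 = 0 := by rw [hx] at e1; linear_combination e1
  exact pow_eq_zero_iff (two_ne_zero) |>.mp this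

end Groth.Agent.Helper7.WReg2
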