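import Mathlib
import Groth.Agent.Helper7.WReg1
import Groth.Agent.Helper7.WReg2

/-!
# Regularity of the affine Weierstrass model over a DVR with `a₃, a₄, a₆ ∈ m`, `a₆ ∉ m²`
-/

set_option autoImplicit false
set_option linter.overlappingInstances false

namespace Groth.Agent.Helper7.WReg3
open Polynomial IsLocalRing Groth.Agent.Helper7

universe u

variable {R : Type u} [CommRing R] (W : WeierstrassCurve.Affine R)

/-- evaluation at the origin -/
noncomputable def ev0 : Polynomial (Polynomial R) →+* R :=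
  (evalRingHom (0 : R)).comp (evalRingHom (0 : Polynomial R))

theorem ev0_polynomial : ev0 W.polynomial = -W.a₆ := by
  simp [ev0, WeierstrassCurve.Affine.polynomial]

theorem rho_eq_phi_ev0 {D : Type u} [CommRing D] (ρ : Polynomial (Polynomial R) →+* D)
    (hx : WReg2.xb ρ = 0) (hy : WReg2.yb ρ = 0) : ρ = (WReg2.phi ρ).comp ev0 := by
  apply Polynomial.ringHom_ext'
  · apply Polynomial.ringHom_ext'
    · ext a
      simp [WReg2.phi, ev0]
    · simpa [ev0, WReg2.xb] using hx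
  · simpa [ev0, WReg2.yb] using hy

variable [IsLocalRing R]

/-- At the origin of the special fibre, `s f ∈ q²` forces `a₆ ∈ m²` (abstract quotient map). -/
theorem not_mul_mem_sq_of_origin' {D : Type u} [CommRing D] [Nontrivial D]
    (ρ : Polynomial (Polynomial R) →+* D) (q : Ideal (Polynomial (Polynomial R)))
    (hq : ∀ p, ρ p = 0 ↔ p ∈ q)
    (hm : ∀ r ∈ maximalIdeal R, (C (C r) : Polynomial (Polynomial R)) ∈ q)
    (hx : (C X : Polynomial (Polynomial R)) ∈ q) (hy : (X : Polynomial (Polynomial R)) ∈ q)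
    (h6' : W.a₆ ∉ maximalIdeal R ^ 2) (s : Polynomial (Polynomial R)) (hs : s ∉ q) :
    s * W.polynomial ∉ q ^ 2 := by
  intro hsf
  have hxb : WReg2.xb ρ = 0 := (hq _).2 hx
  have hyb : WReg2.yb ρ = 0 := (hq _).2 hy
  have hfac := rho_eq_phi_ev0 ρ hxb hyb
  have hfac' : ∀ p, ρ p = WReg2.phi ρ (ev0 p) := fun p => by
    conv_lhs => rw [hfac]
    rfl
  have hphi : ∀ r ∈ maximalIdeal R, WReg2.phi ρ r = 0 := fun r hr => (hq _).2 (hm r hr)
  -- `ev0` maps `q` into the maximal ideal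
  have h1 : ∀ p ∈ q, ev0 p ∈ maximalIdeal R := by
    intro p hp
    by_contra hnot
    have hu : IsUnit (ev0 p) := by
      by_contra hnu
      exact hnot ((mem_maximalIdeal _).2 hnu)
    have hu' : IsUnit (WReg2.phi ρ (ev0 p)) := hu.map _
    rw [← hfac', (hq p).2 hp] at hu'
    exact not_isUnit_zero hu'
  have h2 : (q ^ 2).map (ev0 (R := R)) ≤ maximalIdeal R ^ 2 := by
    rw [Ideal.map_pow]
    apply Ideal.pow_right_mono
    rw [Ideal.map_le_iff_le_comap]
    intro p hp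
    exact h1 p hp
  have h3 : ev0 (s * W.polynomial) ∈ maximalIdeal R ^ 2 := h2 (Ideal.mem_map_of_mem _ hsf)
  rw [map_mul, ev0_polynomial] at h3
  have hu : IsUnit (ev0 s) := by
    by_contra hnu
    have : ev0 s ∈ maximalIdeal R := (mem_maximalIdeal _).2 hnu
    have h0 : ρ s = 0 := by rw [hfac', hphi _ this]
    exact hs ((hq s).1 h0)
  obtain ⟨t, ht⟩ := hu
  apply h6'
  have : W.a₆ = -(↑t⁻¹ * (ev0 s * -W.a₆)) := by
    rw [← ht]
    simp
  rw [this]
  exact Ideal.neg_mem_iff _ |>.2 (Ideal.mul_mem_left _ _ h3)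


theorem not_mul_mem_sq_of_origin (q : Ideal (Polynomial (Polynomial R))) [hqp : q.IsPrime]
    (hm : ∀ r ∈ maximalIdeal R, (C (C r) : Polynomial (Polynomial R)) ∈ q)
    (hx : (C X : Polynomial (Polynomial R)) ∈ q) (hy : (X : Polynomial (Polynomial R)) ∈ q)
    (h6' : W.a₆ ∉ maximalIdeal R ^ 2) (s : Polynomial (Polynomial R)) (hs : s ∉ q) :
    s * W.polynomial ∉ q ^ 2 :=
  not_mul_mem_sq_of_origin' (D := Polynomial (Polynomial R) ⧸ q) W (Ideal.Quotient.mk q) q
    (fun _ => Ideal.Quotient.eq_zero_iff_mem) hm hx hy h6' s hs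

/-- If `s f ∈ q²` with `s ∉ q`, the prime `q` is the origin of the special fibre. -/
theorem origin_of_mul_mem_sq' [IsDomain R] [IsDiscreteValuationRing R]
    {D : Type u} [CommRing D] [IsDomain D]
    (ρ : Polynomial (Polynomial R) →+* D) (q : Ideal (Polynomial (Polynomial R)))
    (hq : ∀ p, ρ p = 0 ↔ p ∈ q) (hΔ : W.Δ ≠ 0)
    (h3 : W.a₃ ∈ maximalIdeal R) (h4 : W.a₄ ∈ maximalIdeal R) (h6 : W.a₆ ∈ maximalIdeal R)
    (hf : W.polynomial ∈ q) (s : Polynomial (Polynomial R)) (hs : s ∉ q)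
    (hsf : s * W.polynomial ∈ q ^ 2) :
    (∀ r ∈ maximalIdeal R, (C (C r) : Polynomial (Polynomial R)) ∈ q) ∧
      (C X : Polynomial (Polynomial R)) ∈ q ∧ (X : Polynomial (Polynomial R)) ∈ q := by
  have hq' : ∀ p ∈ q, ρ p = 0 := fun p hp => (hq p).2 hp
  have hf' : ρ W.polynomial = 0 := hq' _ hf
  have hs' : ρ s ≠ 0 := fun h => hs ((hq s).1 h)
  have hΔ0 := WReg2.phi_Δ_eq_zero W ρ q hq' hf' s hs' hsf
  obtain ⟨e2, e3⟩ := WReg2.partials_eq_zero W ρ q hq' hf' s hs' hsf
  -- the kernel of `phi` is the maximal ideal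
  have hker : RingHom.ker (WReg2.phi ρ) = maximalIdeal R := by
    have hprime : (RingHom.ker (WReg2.phi ρ)).IsPrime := RingHom.ker_isPrime _
    have hne : RingHom.ker (WReg2.phi ρ) ≠ ⊥ := by
      intro h
      have : W.Δ ∈ RingHom.ker (WReg2.phi ρ) := (RingHom.mem_ker).2 hΔ0
      rw [h] at this
      exact hΔ this
    have hmax : (RingHom.ker (WReg2.phi ρ)).IsMaximal := hprime.isMaximal hne
    exact IsLocalRing.eq_maximalIdeal hmax
  have hphi : ∀ r ∈ maximalIdeal R, WReg2.phi ρ r = 0 := fun r hr => by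
    rw [← hker] at hr; exact (RingHom.mem_ker).1 hr
  have e1 := WReg2.rho_polynomial W ρ
  rw [hf', hphi _ h3, hphi _ h4, hphi _ h6] at e1
  rw [hphi _ h4] at e2
  rw [hphi _ h3] at e3
  obtain ⟨hx, hy⟩ := WReg2.origin_of_singular (WReg2.phi ρ W.a₁) (WReg2.phi ρ W.a₂)
    (WReg2.xb ρ) (WReg2.yb ρ) (by linear_combination -e1) (by linear_combination e2)
    (by linear_combination e3)
  exact ⟨fun r hr => (hq _).1 (hphi r hr), (hq _).1 hx, (hq _).1 hy⟩

theorem not_mul_mem_sq [IsDomain R] [IsDiscreteValuationRing R]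
    (hΔ : W.Δ ≠ 0)
    (h3 : W.a₃ ∈ maximalIdeal R) (h4 : W.a₄ ∈ maximalIdeal R) (h6 : W.a₆ ∈ maximalIdeal R)
    (h6' : W.a₆ ∉ maximalIdeal R ^ 2)
    (q : Ideal (Polynomial (Polynomial R))) [hqp : q.IsPrime]
    (hf : W.polynomial ∈ q) (s : Polynomial (Polynomial R)) (hs : s ∉ q) :
    s * W.polynomial ∉ q ^ 2 := by
  intro hsf
  obtain ⟨hm, hx, hy⟩ := origin_of_mul_mem_sq' (D := Polynomial (Polynomial R) ⧸ q) W
    (Ideal.Quotient.mk q) q (fun _ => Ideal.Quotient.eq_zero_iff_mem) hΔ h3 h4 h6 hf s hs hsf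
  exact not_mul_mem_sq_of_origin W q hm hx hy h6' s hs hsf

omit [IsLocalRing R] in
theorem ker_mk : RingHom.ker (AdjoinRoot.mk W.polynomial) = Ideal.span {W.polynomial} := by
  ext g
  rw [RingHom.mem_ker, AdjoinRoot.mk_eq_zero, Ideal.mem_span_singleton]

/-- S11104: the affine Weierstrass model is regular. -/
theorem main [IsDomain R] [IsDiscreteValuationRing R] (hΔ : W.Δ ≠ 0)
    (h3 : W.a₃ ∈ maximalIdeal R) (h4 : W.a₄ ∈ maximalIdeal R) (h6 : W.a₆ ∈ maximalIdeal R)
    (h6' : W.a₆ ∉ maximalIdeal R ^ 2)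
    (P : Ideal W.CoordinateRing) [hPp : P.IsPrime] :
    IsRegularLocalRing (Localization.AtPrime P) := by
  refine WReg1.isRegularLocalRing_of_surjective (AdjoinRoot.mk W.polynomial)
    AdjoinRoot.mk_surjective W.polynomial (ker_mk W) P ?_
  intro s hs
  refine not_mul_mem_sq W hΔ h3 h4 h6 h6' _ ?_ s hs
  rw [Ideal.mem_comap, AdjoinRoot.mk_self]
  exact P.zero_mem

/-- S11097: regularity at the origin of the special fibre. -/
theorem main_origin [IsDomain R] [IsDiscreteValuationRing R]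
    (h6' : W.a₆ ∉ maximalIdeal R ^ 2)
    (P : Ideal W.CoordinateRing) [hPp : P.IsPrime]
    (hP : ∀ r ∈ maximalIdeal R, algebraMap R W.CoordinateRing r ∈ P)
    (hx : WeierstrassCurve.Affine.CoordinateRing.mk W (C X) ∈ P)
    (hy : WeierstrassCurve.Affine.CoordinateRing.mk W X ∈ P) :
    IsRegularLocalRing (Localization.AtPrime P) := by
  refine WReg1.isRegularLocalRing_of_surjective (AdjoinRoot.mk W.polynomial)
    AdjoinRoot.mk_surjective W.polynomial (ker_mk W) P ?_
  intro s hs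
  refine not_mul_mem_sq_of_origin W _ ?_ hx hy h6' s hs
  intro r hr
  exact hP r hr

end Groth.Agent.Helper7.WReg3
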