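import Groth.Agent.Helper7.UHRing

set_option autoImplicit false
universe u
open AlgebraicGeometry CategoryTheory TensorProduct

namespace Groth.Agent.Helper7.WSub

open Groth.Agent.Helper7.UHRing

/-- Extension of a homomorphism to a field along an injective integral extension, after enlarging
the field to its algebraic closure. -/
theorem exists_extend {D B K : Type u} [CommRing D] [CommRing B] [Field K] [Algebra D B]
    (hinj : Function.Injective (algebraMap D B)) [Algebra.IsIntegral D B] (h : D →+* K) :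
    ∃ h' : B →+* AlgebraicClosure K,
      h'.comp (algebraMap D B) = (algebraMap K (AlgebraicClosure K)).comp h := by
  haveI h𝔭 : (RingHom.ker h).IsPrime := RingHom.ker_isPrime h
  obtain ⟨𝔮, -, h𝔮, hover⟩ := Ideal.exists_ideal_over_prime_of_isIntegral (RingHom.ker h)
    (⊥ : Ideal B) (by
    intro a ha
    rw [Ideal.mem_comap, Ideal.mem_bot] at ha
    have : a = 0 := hinj (by rw [ha, map_zero])
    rw [this]; exact (RingHom.ker h).zero_mem)
  haveI := h𝔮
  haveI : (𝔮.comap (algebraMap D B)).IsPrime := Ideal.comap_isPrime _ _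
  let f : D ⧸ (𝔮.comap (algebraMap D B)) →+* B ⧸ 𝔮 :=
    Ideal.quotientMap 𝔮 (algebraMap D B) le_rfl
  have hf : Function.Injective f := Ideal.quotientMap_injective
  have hfi : f.IsIntegral :=
    RingHom.IsIntegral.quotient (algebraMap D B) Algebra.IsIntegral.isIntegral
  have hmem : ∀ a, a ∈ 𝔮.comap (algebraMap D B) ↔ h a = 0 := by
    intro a
    rw [hover]
    exact RingHom.mem_ker
  let g : D ⧸ (𝔮.comap (algebraMap D B)) →+* AlgebraicClosure K :=
    Ideal.Quotient.lift _ ((algebraMap K (AlgebraicClosure K)).comp h)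
      (fun a ha => by
        rw [RingHom.comp_apply, (hmem a).1 ha, map_zero])
  have hg : Function.Injective g := by
    rw [injective_iff_map_eq_zero]
    intro x hx
    obtain ⟨a, rfl⟩ := Ideal.Quotient.mk_surjective x
    have h1 : algebraMap K (AlgebraicClosure K) (h a) = 0 := hx
    have h2 : h a = 0 := (map_eq_zero_iff _ (algebraMap K (AlgebraicClosure K)).injective).1 h1
    exact Ideal.Quotient.eq_zero_iff_mem.2 ((hmem a).2 h2)
  letI := f.toAlgebra
  letI := g.toAlgebra
  haveI : IsDomain (D ⧸ (𝔮.comap (algebraMap D B))) := Ideal.Quotient.isDomain _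
  haveI : IsDomain (B ⧸ 𝔮) := Ideal.Quotient.isDomain _
  haveI : Module.IsTorsionFree (D ⧸ (𝔮.comap (algebraMap D B))) (B ⧸ 𝔮) :=
    Module.isTorsionFree_iff_algebraMap_injective.2 hf
  haveI : Module.IsTorsionFree (D ⧸ (𝔮.comap (algebraMap D B))) (AlgebraicClosure K) :=
    Module.isTorsionFree_iff_algebraMap_injective.2 hg
  haveI : Algebra.IsIntegral (D ⧸ (𝔮.comap (algebraMap D B))) (B ⧸ 𝔮) := ⟨hfi⟩
  haveI : Algebra.IsAlgebraic (D ⧸ (𝔮.comap (algebraMap D B))) (B ⧸ 𝔮) :=
    Algebra.IsIntegral.isAlgebraic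
  let l : B ⧸ 𝔮 →ₐ[D ⧸ (𝔮.comap (algebraMap D B))] AlgebraicClosure K := IsAlgClosed.lift
  refine ⟨l.toRingHom.comp (Ideal.Quotient.mk 𝔮), ?_⟩
  ext d
  have h1 : l (f (Ideal.Quotient.mk _ d)) = g (Ideal.Quotient.mk _ d) := l.commutes _
  exact h1

variable {A B : Type u} [CommRing A] [CommRing B] [Algebra A B]

theorem isNilpotent_of_mem (C : Subalgebra A B) (hC : IsUH (algebraMap A C)) (b : B) (hb : b ∈ C) :
    IsNilpotent (b ⊗ₜ[A] (1 : B) - (1 : B) ⊗ₜ[A] b) := by
  let c : C := ⟨b, hb⟩
  have hz : IsNilpotent (c ⊗ₜ[A] (1 : C) - (1 : C) ⊗ₜ[A] c) := by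
    rw [nilpotent_iff_mem_prime]
    intro P hP
    let i₁ : C →+* P.ResidueField :=
      (algebraMap (C ⊗[A] C) P.ResidueField).comp Algebra.TensorProduct.includeLeftRingHom
    let i₂ : C →+* P.ResidueField :=
      (algebraMap (C ⊗[A] C) P.ResidueField).comp
        (Algebra.TensorProduct.includeRight : C →ₐ[A] C ⊗[A] C).toRingHom
    have h12 : i₁ = i₂ := by
      apply hC.2.1
      ext a
      have hten : (algebraMap A C a) ⊗ₜ[A] (1 : C) = (1 : C) ⊗ₜ[A] (algebraMap A C a) := by
        rw [Algebra.algebraMap_eq_smul_one, TensorProduct.smul_tmul]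
      exact congrArg (algebraMap (C ⊗[A] C) P.ResidueField) hten
    rw [← Ideal.algebraMap_residueField_eq_zero, map_sub, sub_eq_zero]
    exact RingHom.congr_fun h12 c
  have := hz.map (Algebra.TensorProduct.map C.val C.val)
  simpa [c] using this

theorem mem_of_isNilpotent (hinj : Function.Injective (algebraMap A B)) [Algebra.IsIntegral A B]
    (b : B) (hb : IsNilpotent (b ⊗ₜ[A] (1 : B) - (1 : B) ⊗ₜ[A] b)) :
    IsUH (algebraMap A (Algebra.adjoin A {b})) := by
  let D := Algebra.adjoin A {b}
  have hbD : b ∈ D := Algebra.subset_adjoin (Set.mem_singleton b)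
  refine ⟨?_, ?_, ?_⟩
  · intro x
    have : IsIntegral A (D.val x) := Algebra.IsIntegral.isIntegral _
    exact (isIntegral_algHom_iff D.val Subtype.val_injective).1 this
  · intro K _ h₁ h₂ h12
    haveI : Algebra.IsIntegral D B := Algebra.IsIntegral.tower_top (R := A)
    obtain ⟨e₁, he₁⟩ := exists_extend (D := D) (B := B) Subtype.val_injective h₁
    obtain ⟨e₂, he₂⟩ := exists_extend (D := D) (B := B) Subtype.val_injective h₂
    have hA : e₁.comp (algebraMap A B) = e₂.comp (algebraMap A B) := by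
      ext a
      have h1 := RingHom.congr_fun he₁ (algebraMap A D a)
      have h2 := RingHom.congr_fun he₂ (algebraMap A D a)
      have h3 := RingHom.congr_fun h12 a
      simp only [RingHom.comp_apply] at h1 h2 h3 ⊢
      have h4 : algebraMap D B (algebraMap A D a) = algebraMap A B a := rfl
      rw [h4] at h1 h2
      rw [h1, h2, h3]
    letI : Algebra A (AlgebraicClosure K) := (e₁.comp (algebraMap A B)).toAlgebra
    let E₁ : B →ₐ[A] AlgebraicClosure K := { e₁ with commutes' := fun a => rfl }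
    let E₂ : B →ₐ[A] AlgebraicClosure K :=
      { e₂ with commutes' := fun a => (RingHom.congr_fun hA a).symm }
    have hn := hb.map (Algebra.TensorProduct.productMap E₁ E₂)
    rw [map_sub, Algebra.TensorProduct.productMap_apply_tmul,
      Algebra.TensorProduct.productMap_apply_tmul, map_one, map_one, mul_one, one_mul] at hn
    have h0 : e₁ b = e₂ b := sub_eq_zero.1 hn.eq_zero
    have hb' : h₁ ⟨b, hbD⟩ = h₂ ⟨b, hbD⟩ := by
      have h1 := RingHom.congr_fun he₁ ⟨b, hbD⟩
      have h2 := RingHom.congr_fun he₂ ⟨b, hbD⟩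
      simp only [RingHom.comp_apply] at h1 h2
      have h4 : algebraMap D B ⟨b, hbD⟩ = b := rfl
      rw [h4] at h1 h2
      apply (algebraMap K (AlgebraicClosure K)).injective
      rw [← h1, ← h2, h0]
    ext ⟨x, hx⟩
    induction hx using Algebra.adjoin_induction with
    | mem y hy =>
      have : y = b := hy
      subst this
      exact hb'
    | algebraMap a => exact RingHom.congr_fun h12 a
    | add y z hy hz ihy ihz =>
      have : (⟨y + z, D.add_mem hy hz⟩ : D) = ⟨y, hy⟩ + ⟨z, hz⟩ := rfl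
      rw [this, map_add, map_add, ihy, ihz]
    | mul y z hy hz ihy ihz =>
      have : (⟨y * z, D.mul_mem hy hz⟩ : D) = ⟨y, hy⟩ * ⟨z, hz⟩ := rfl
      rw [this, map_mul, map_mul, ihy, ihz]
  · intro a ha
    have h1 : algebraMap A B a = 0 := congrArg Subtype.val ha
    have : a = 0 := hinj (by rw [h1, map_zero])
    rw [this]; exact IsNilpotent.zero

theorem s14795 (hinj : Function.Injective (algebraMap A B)) [Algebra.IsIntegral A B]
    (C : Subalgebra A B) (hC : FlatMor.IsUnivHomeo (Spec.map (CommRingCat.ofHom (algebraMap A C))))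
    (hmax : ∀ D : Subalgebra A B,
      FlatMor.IsUnivHomeo (Spec.map (CommRingCat.ofHom (algebraMap A D))) → D ≤ C) (b : B) :
    b ∈ C ↔ IsNilpotent (b ⊗ₜ[A] (1 : B) - (1 : B) ⊗ₜ[A] b) := by
  constructor
  · intro hb
    exact isNilpotent_of_mem C ((isUH_iff _).2 hC) b hb
  · intro hb
    exact hmax _ ((isUH_iff _).1 (mem_of_isNilpotent hinj b hb))
      (Algebra.subset_adjoin (Set.mem_singleton b))

end Groth.Agent.Helper7.WSub
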