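import Mathlib

set_option autoImplicit false
universe u

namespace Groth.Agent.Helper7.WVa

open WittVector Finset

variable {p : ℕ} [hp : Fact p.Prime] {R : Type u} [CommRing R]

/-- explicit formula for ghost components -/
theorem ghost_eq (n : ℕ) (x : WittVector p R) :
    ghostComponent n x = ∑ i ∈ range (n + 1), (p : R) ^ i * x.coeff i ^ p ^ (n - i) := by
  rw [ghostComponent_apply, wittPolynomial_eq_sum_C_mul_X_pow]
  simp [map_sum]

theorem ghost_eq' (n : ℕ) (x : WittVector p R) :
    ghostComponent n x = (∑ i ∈ range n, (p : R) ^ i * x.coeff i ^ p ^ (n - i)) +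
      (p : R) ^ n * x.coeff n := by
  rw [ghost_eq, Finset.sum_range_succ]
  simp

omit hp in
theorem pow_cancel (hR : ∀ y : R, (p : R) * y = 0 → y = 0) (n : ℕ) (y : R)
    (h : (p : R) ^ n * y = 0) : y = 0 := by
  induction n with
  | zero => simpa using h
  | succ n ih =>
    apply ih
    apply hR
    rw [← mul_assoc, ← pow_succ']
    exact h

/-- ghost components vanish for `n < m` implies coefficients vanish for `i < m` (no `p`-torsion) -/
theorem coeff_eq_zero_of_ghost (hR : ∀ y : R, (p : R) * y = 0 → y = 0) (m : ℕ)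
    (y : WittVector p R) (h : ∀ n < m, ghostComponent n y = 0) : ∀ i < m, y.coeff i = 0 := by
  intro i
  induction i using Nat.strong_induction_on with
  | _ n ih =>
    intro hn
    have h1 := h n hn
    rw [ghost_eq'] at h1
    have h2 : ∑ i ∈ range n, (p : R) ^ i * y.coeff i ^ p ^ (n - i) = 0 := by
      apply Finset.sum_eq_zero
      intro i hi
      rw [Finset.mem_range] at hi
      rw [ih i hi (hi.trans hn), zero_pow, mul_zero]
      exact (pow_pos hp.out.pos _).ne'
    rw [h2, zero_add] at h1
    exact pow_cancel hR n _ h1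

theorem ghost_eq_zero_of_coeff (m : ℕ) (y : WittVector p R) (h : ∀ i < m, y.coeff i = 0) :
    ∀ n < m, ghostComponent n y = 0 := by
  intro n hn
  rw [ghost_eq]
  apply Finset.sum_eq_zero
  intro i hi
  rw [Finset.mem_range] at hi
  rw [h i (by omega), zero_pow, mul_zero]
  exact (pow_pos hp.out.pos _).ne'

theorem ghost_mem_of_coeff (I : Ideal R) (m : ℕ) (y : WittVector p R) (h : ∀ i < m, y.coeff i ∈ I) :
    ∀ n < m, ghostComponent n y ∈ I := by
  intro n hn
  rw [ghost_eq]
  apply Ideal.sum_mem
  intro i hi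
  rw [Finset.mem_range] at hi
  apply Ideal.mul_mem_left
  apply Ideal.pow_mem_of_mem _ (h i (by omega))
  exact pow_pos hp.out.pos _

theorem le_pow_sub_one (k : ℕ) : k ≤ p ^ k - 1 := by
  have h2 : 2 ≤ p := hp.out.two_le
  have : k < p ^ k := Nat.lt_pow_self h2
  omega

/-- quantitative version -/
theorem coeff_mem_of_ghost (hR : ∀ y : R, (p : R) * y = 0 → y = 0) (m s : ℕ)
    (y : WittVector p R) (h : ∀ n < m, ghostComponent n y ∈ Ideal.span {(p : R) ^ (s + n)}) :
    ∀ i < m, y.coeff i ∈ Ideal.span {(p : R) ^ s} := by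
  rcases Nat.eq_zero_or_pos s with rfl | hs
  · intro i _
    simp
  intro i
  induction i using Nat.strong_induction_on with
  | _ n ih =>
    intro hn
    have h1 := h n hn
    rw [ghost_eq'] at h1
    have h2 : ∑ i ∈ range n, (p : R) ^ i * y.coeff i ^ p ^ (n - i) ∈
        Ideal.span {(p : R) ^ (s + n)} := by
      apply Ideal.sum_mem
      intro i hi
      rw [Finset.mem_range] at hi
      have h3 := ih i hi (hi.trans hn)
      rw [Ideal.mem_span_singleton'] at h3
      obtain ⟨c, hc⟩ := h3
      rw [Ideal.mem_span_singleton']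
      have h4 : s + n ≤ i + s * p ^ (n - i) := by
        have h5 := le_pow_sub_one (p := p) (n - i)
        have h6 : 1 ≤ p ^ (n - i) := Nat.one_le_pow _ _ hp.out.pos
        have h7 : s * (n - i) ≤ s * (p ^ (n - i) - 1) := Nat.mul_le_mul_left _ h5
        have h8 : s * (p ^ (n - i) - 1) = s * p ^ (n - i) - s := by
          rw [Nat.mul_sub, mul_one]
        have h9 : n - i ≤ s * (n - i) := Nat.le_mul_of_pos_left _ hs
        have h10 : s ≤ s * p ^ (n - i) := Nat.le_mul_of_pos_right _ (by omega)
        omega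
      obtain ⟨d, hd⟩ := Nat.exists_eq_add_of_le h4
      refine ⟨(p : R) ^ d * c ^ p ^ (n - i), ?_⟩
      rw [← hc, mul_pow, ← pow_mul]
      have h5 : (p : R) ^ i * (c ^ p ^ (n - i) * (p : R) ^ (s * p ^ (n - i))) =
          c ^ p ^ (n - i) * (p : R) ^ (i + s * p ^ (n - i)) := by ring
      rw [h5, hd]
      ring
    have h3 := (Ideal.add_mem_iff_right _ h2).mp h1
    rw [Ideal.mem_span_singleton'] at h3
    obtain ⟨c, hc⟩ := h3
    have h4 : (p : R) ^ n * (y.coeff n - (p : R) ^ s * c) = 0 := by
      rw [mul_sub, ← hc]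
      ring
    have h5 := pow_cancel hR n _ h4
    rw [sub_eq_zero] at h5
    rw [h5]
    exact Ideal.mul_mem_right _ _ (Ideal.mem_span_singleton_self _)

end Groth.Agent.Helper7.WVa
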