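import Mathlib
import Groth.Agent.Helper7.WVa

set_option autoImplicit false
universe u

namespace Groth.Agent.Helper7.WVb

open WittVector Finset Groth.Agent.Helper7

variable {p : ℕ} [hp : Fact p.Prime] {R : Type u} [CommRing R]

/-- Witt vectors whose first `m` coefficients lie in `p^s R` -/
noncomputable def J (p : ℕ) [Fact p.Prime] (R : Type u) [CommRing R] (m s : ℕ) :
    Ideal (WittVector p R) :=
  RingHom.ker ((WittVector.truncate (p := p) m).comp
    (WittVector.map (p := p) (Ideal.Quotient.mk (Ideal.span {(p : R) ^ s}))))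

theorem mem_J (m s : ℕ) (y : WittVector p R) :
    y ∈ J p R m s ↔ ∀ i < m, y.coeff i ∈ Ideal.span {(p : R) ^ s} := by
  unfold J
  rw [RingHom.mem_ker, RingHom.comp_apply, ← RingHom.mem_ker, mem_ker_truncate]
  simp only [map_coeff, Ideal.Quotient.eq_zero_iff_mem]

theorem sub_mem_J (m s : ℕ) (y y' : WittVector p R) :
    y - y' ∈ J p R m s ↔ ∀ i < m, y.coeff i - y'.coeff i ∈ Ideal.span {(p : R) ^ s} := by
  unfold J
  rw [RingHom.mem_ker, map_sub, sub_eq_zero, RingHom.comp_apply, RingHom.comp_apply,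
    TruncatedWittVector.ext_iff]
  simp only [coeff_truncate, map_coeff]
  rw [Fin.forall_iff]
  simp only [Ideal.Quotient.eq]

theorem J_mono (m : ℕ) {s t : ℕ} (h : s ≤ t) : J p R m t ≤ J p R m s := by
  intro y hy
  rw [mem_J] at hy ⊢
  intro i hi
  have := hy i hi
  rw [Ideal.mem_span_singleton] at this ⊢
  exact (pow_dvd_pow _ h).trans this

/-- Lemma C -/
theorem mem_J_of_pow_mul (hR : ∀ y : R, (p : R) * y = 0 → y = 0) (m s u : ℕ)
    (y : WittVector p R) (h : (p : WittVector p R) ^ u * y ∈ J p R m (s + u + m)) :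
    y ∈ J p R m s := by
  rw [mem_J] at h ⊢
  apply WVa.coeff_mem_of_ghost hR
  intro n hn
  have h1 := WVa.ghost_mem_of_coeff _ m _ h n hn
  rw [map_mul, map_pow, map_natCast, Ideal.mem_span_singleton'] at h1
  obtain ⟨c, hc⟩ := h1
  have h2 : (p : R) ^ u * (ghostComponent n y - (p : R) ^ (s + m) * c) = 0 := by
    rw [mul_sub, ← hc]
    ring
  have h3 := WVa.pow_cancel hR u _ h2
  rw [sub_eq_zero] at h3
  rw [h3, Ideal.mem_span_singleton]
  exact Dvd.dvd.mul_right (pow_dvd_pow _ (by omega)) _

theorem main (hR : ∀ y : R, (p : R) * y = 0 → y = 0) [IsAdicComplete (Ideal.span {(p : R)}) R]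
    (a : WittVector p R) (m u : ℕ)
    (h : ∀ s : ℕ, ∃ z : WittVector p R, (p : WittVector p R) ^ u * z - a ∈ J p R m s) :
    ∃ x : WittVector p R, ∀ i < m, ((p : WittVector p R) ^ u * x - a).coeff i = 0 := by
  choose z hz using h
  set z' : ℕ → WittVector p R := fun s => z (s + u + m) with hz'
  have h1 : ∀ s t, s ≤ t → z' s - z' t ∈ J p R m s := by
    intro s t hst
    apply mem_J_of_pow_mul hR m s u
    have h2 : (p : WittVector p R) ^ u * (z' s - z' t) =
        ((p : WittVector p R) ^ u * z (s + u + m) - a) - ((p : WittVector p R) ^ u * z (t + u + m) - a) := by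
      rw [hz']; ring
    rw [h2]
    exact Ideal.sub_mem _ (hz _) (J_mono m (by omega) (hz _))
  have hI : ∀ n : ℕ, (Ideal.span {(p : R)} ^ n • ⊤ : Submodule R R) = Ideal.span {(p : R) ^ n} := by
    intro n
    rw [smul_eq_mul, Ideal.mul_top, Ideal.span_singleton_pow]
  have h2 : ∀ i : ℕ, i < m → ∃ L : R, ∀ s, (z' s).coeff i - L ∈ Ideal.span {(p : R) ^ s} := by
    intro i hi
    obtain ⟨L, hL⟩ := IsPrecomplete.prec (I := Ideal.span {(p : R)}) inferInstance
      (f := fun s => (z' s).coeff i) (by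
        intro s t hst
        rw [SModEq.sub_mem, hI]
        exact (sub_mem_J m s _ _).mp (h1 s t hst) i hi)
    refine ⟨L, fun s => ?_⟩
    have := hL s
    rw [SModEq.sub_mem, hI] at this
    exact this
  let xc : ℕ → R := fun i => if hi : i < m then (h2 i hi).choose else 0
  have hxc : ∀ i (hi : i < m) s, (z' s).coeff i - xc i ∈ Ideal.span {(p : R) ^ s} := by
    intro i hi s
    simp only [xc, dif_pos hi]
    exact (h2 i hi).choose_spec s
  refine ⟨WittVector.mk p xc, ?_⟩
  have h3 : ∀ s, (p : WittVector p R) ^ u * WittVector.mk p xc - a ∈ J p R m s := by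
    intro s
    have h4 : (p : WittVector p R) ^ u * WittVector.mk p xc - a =
        ((p : WittVector p R) ^ u * z (s + u + m) - a) - (p : WittVector p R) ^ u * (z' s - WittVector.mk p xc) := by
      rw [hz']; ring
    rw [h4]
    refine Ideal.sub_mem _ (J_mono m (by omega) (hz _)) (Ideal.mul_mem_left _ _ ?_)
    rw [sub_mem_J]
    intro i hi
    exact hxc i hi s
  intro i hi
  apply IsHausdorff.haus (I := Ideal.span {(p : R)}) inferInstance
  intro s
  rw [SModEq.sub_mem, hI, sub_zero]
  exact (mem_J m s _).mp (h3 s) i hi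

end Groth.Agent.Helper7.WVb
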