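import Mathlib
import Groth.Agent.Helper7.WVb

set_option autoImplicit false
universe u

namespace Groth.Agent.Helper7.WVc

open WittVector Finset Groth.Agent.Helper7

variable {p : ℕ} [hp : Fact p.Prime] {R : Type u} [CommRing R]

omit hp in
theorem coeff_init' (n i : ℕ) (x : WittVector p R) :
    (init n x).coeff i = if i < n then x.coeff i else 0 := by
  classical
  simp only [init, select, coeff_mk]
  split_ifs <;> rfl

omit hp in
theorem coeff_tail' (n i : ℕ) (x : WittVector p R) :
    (tail n x).coeff i = if n ≤ i then x.coeff i else 0 := by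
  classical
  simp only [tail, select, coeff_mk]
  split_ifs <;> rfl

theorem sup_eq_J (m s : ℕ) :
    RingHom.ker (WittVector.truncate (p := p) (R := R) m) ⊔
      RingHom.ker (WittVector.map (p := p) (Ideal.Quotient.mk (Ideal.span {(p : R) ^ s}))) =
    WVb.J p R m s := by
  apply le_antisymm
  · apply sup_le
    · intro y hy
      rw [mem_ker_truncate] at hy
      rw [WVb.mem_J]
      intro i hi
      rw [hy i hi]
      exact Ideal.zero_mem _
    · intro y hy
      rw [RingHom.mem_ker] at hy
      rw [WVb.mem_J]
      intro i _
      have := congrArg (fun w => w.coeff i) hy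
      simp only [map_coeff, zero_coeff] at this
      exact Ideal.Quotient.eq_zero_iff_mem.mp this
  · intro y hy
    rw [WVb.mem_J] at hy
    rw [← init_add_tail y m, add_comm]
    apply Submodule.add_mem_sup
    · rw [mem_ker_truncate]
      intro i hi
      rw [coeff_tail', if_neg (by omega)]
    · rw [RingHom.mem_ker]
      ext i
      rw [map_coeff, zero_coeff, coeff_init']
      split_ifs with h
      · exact Ideal.Quotient.eq_zero_iff_mem.mpr (hy i h)
      · exact map_zero _

/-- Lemma D -/
theorem mem_ker_truncate_of_pow_mul (hR : ∀ y : R, (p : R) * y = 0 → y = 0) (r u : ℕ)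
    (y : WittVector p R)
    (h : (p : WittVector p R) ^ u * y ∈ RingHom.ker (WittVector.truncate (p := p) (R := R) r)) :
    y ∈ RingHom.ker (WittVector.truncate (p := p) (R := R) r) := by
  rw [mem_ker_truncate] at h ⊢
  apply WVa.coeff_eq_zero_of_ghost hR
  intro n hn
  have h1 := WVa.ghost_eq_zero_of_coeff r _ h n hn
  rw [map_mul, map_pow, map_natCast] at h1
  exact WVa.pow_cancel hR u _ h1

theorem main (hR : ∀ y : R, (p : R) * y = 0 → y = 0) [IsAdicComplete (Ideal.span {(p : R)}) R]
    (u : ℕ) :
    (⨅ r : ℕ, ⨅ s : ℕ,
        Ideal.span {(p : WittVector p R) ^ u} ⊔ RingHom.ker (WittVector.truncate (p := p) (R := R) r) ⊔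
          RingHom.ker (WittVector.map (p := p) (Ideal.Quotient.mk (Ideal.span {(p : R) ^ s})))) =
      Ideal.span {(p : WittVector p R) ^ u} := by
  apply le_antisymm
  · intro a ha
    simp only [Ideal.mem_iInf, sup_assoc, sup_eq_J] at ha
    have h1 : ∀ r : ℕ, ∃ x : WittVector p R,
        (p : WittVector p R) ^ u * x - a ∈ RingHom.ker (WittVector.truncate (p := p) (R := R) r) := by
      intro r
      have h2 : ∀ s : ℕ, ∃ z : WittVector p R, (p : WittVector p R) ^ u * z - a ∈ WVb.J p R r s := by
        intro s
        have h3 := ha r s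
        rw [Submodule.mem_sup] at h3
        obtain ⟨b, hb, c, hc, hbc⟩ := h3
        rw [Ideal.mem_span_singleton'] at hb
        obtain ⟨z, rfl⟩ := hb
        refine ⟨z, ?_⟩
        have : (p : WittVector p R) ^ u * z - a = -c := by
          rw [← hbc]; ring
        rw [this]
        exact Ideal.neg_mem_iff _ |>.mpr hc
      obtain ⟨x, hx⟩ := WVb.main hR a r u h2
      exact ⟨x, (mem_ker_truncate r _).mpr hx⟩
    choose x hx using h1
    have h2 : ∀ r r', r ≤ r' → x r' - x r ∈ RingHom.ker (WittVector.truncate (p := p) (R := R) r) := by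
      intro r r' hrr
      apply mem_ker_truncate_of_pow_mul hR r u
      have h3 : (p : WittVector p R) ^ u * (x r' - x r) =
          ((p : WittVector p R) ^ u * x r' - a) - ((p : WittVector p R) ^ u * x r - a) := by ring
      rw [h3]
      refine Ideal.sub_mem _ ?_ (hx r)
      have := hx r'
      rw [mem_ker_truncate] at this ⊢
      intro i hi
      exact this i (by omega)
    have h3 : ∀ r r', r ≤ r' → ∀ i < r, (x r').coeff i = (x r).coeff i := by
      intro r r' hrr i hi
      have h4 := h2 r r' hrr
      rw [RingHom.mem_ker, map_sub, sub_eq_zero, TruncatedWittVector.ext_iff] at h4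
      have := h4 ⟨i, hi⟩
      simpa only [coeff_truncate] using this
    set X : WittVector p R := WittVector.mk p (fun i => (x (i + 1)).coeff i) with hX
    have h4 : ∀ r, X - x r ∈ RingHom.ker (WittVector.truncate (p := p) (R := R) r) := by
      intro r
      rw [RingHom.mem_ker, map_sub, sub_eq_zero, TruncatedWittVector.ext_iff]
      intro i
      rw [coeff_truncate, coeff_truncate, hX, coeff_mk]
      exact (h3 (i + 1) r (by omega) i (by omega)).symm
    have h5 : (p : WittVector p R) ^ u * X - a = 0 := by
      have h6 : (p : WittVector p R) ^ u * X - a ∈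
          ⨅ i : ℕ, RingHom.ker (WittVector.truncate (p := p) (R := R) i) := by
        rw [Ideal.mem_iInf]
        intro r
        have h7 : (p : WittVector p R) ^ u * X - a =
            (p : WittVector p R) ^ u * (X - x r) + ((p : WittVector p R) ^ u * x r - a) := by ring
        rw [h7]
        exact Ideal.add_mem _ (Ideal.mul_mem_left _ _ (h4 r)) (hx r)
      rw [TruncatedWittVector.iInf_ker_truncate] at h6
      exact h6
    rw [sub_eq_zero] at h5
    rw [← h5]
    exact Ideal.mul_mem_right _ _ (Ideal.mem_span_singleton_self _)
  · refine le_iInf fun r => le_iInf fun s => ?_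
    exact le_sup_left.trans le_sup_left

end Groth.Agent.Helper7.WVc
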