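import Groth.Agent.Helper7.WiebeC

/-!
# Wiebe's theorem, part D: the annihilator of the diagonal (helper7)
-/

set_option autoImplicit false

namespace Groth.Agent.Helper7.Wiebe

universe u
open TensorProduct

/-- abstract form: annihilators in a quotient -/
theorem annihilator_map_eq_span {T S : Type*} [CommRing T] [CommRing S] (π : T →+* S)
    (hπ : Function.Surjective π) (G : Ideal T) (Δ : T)
    (h1 : ∀ x : T, (∀ y ∈ G, x * y ∈ RingHom.ker π) → x ∈ RingHom.ker π ⊔ Ideal.span {Δ})
    (h2 : ∀ y ∈ G, Δ * y ∈ RingHom.ker π) :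
    Submodule.annihilator (G.map π) = Ideal.span {π Δ} := by
  apply le_antisymm
  · intro t ht
    obtain ⟨x, rfl⟩ := hπ t
    rw [Submodule.mem_annihilator] at ht
    have hx : ∀ y ∈ G, x * y ∈ RingHom.ker π := by
      intro y hy
      rw [RingHom.mem_ker, map_mul]
      have := ht (π y) (Ideal.mem_map_of_mem π hy)
      simpa using this
    have := h1 x hx
    rw [Submodule.mem_sup] at this
    obtain ⟨a, ha, b, hb, rfl⟩ := this
    rw [Ideal.mem_span_singleton'] at hb
    obtain ⟨r, rfl⟩ := hb
    rw [map_add, RingHom.mem_ker.mp ha, zero_add, map_mul]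
    exact Ideal.mul_mem_left _ _ (Ideal.mem_span_singleton_self _)
  · rw [Ideal.span_singleton_le_iff_mem, Submodule.mem_annihilator]
    intro s hs
    rw [Ideal.mem_map_iff_of_surjective π hπ] at hs
    obtain ⟨y, hy, rfl⟩ := hs
    rw [smul_eq_mul, ← map_mul]
    exact RingHom.mem_ker.mp (h2 y hy)

/-- Cramer: `det C • g` lies in the ideal generated by `C g` -/
theorem det_mul_mem {T : Type*} [CommRing T] {n : ℕ} (F g : Fin n → T)
    (C : Matrix (Fin n) (Fin n) T) (hC : ∀ i, F i = ∑ j, C i j * g j) (j : Fin n) :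
    C.det * g j ∈ Ideal.span (Set.range F) := by
  classical
  have h : C.det * g j = ∑ i, C.adjugate j i * F i := by
    have h1 : ∀ i, C.adjugate j i * F i = ∑ k, C.adjugate j i * C i k * g k := by
      intro i
      rw [hC i, Finset.mul_sum]
      exact Finset.sum_congr rfl fun k _ => by ring
    simp only [h1]
    rw [Finset.sum_comm]
    have h2 : ∀ k, ∑ i, C.adjugate j i * C i k * g k = (C.adjugate * C) j k * g k := by
      intro k
      rw [Matrix.mul_apply, Finset.sum_mul]
    simp only [h2, Matrix.adjugate_mul, Matrix.smul_apply, Matrix.one_apply, smul_eq_mul]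
    simp
  rw [h]
  exact Ideal.sum_mem _ fun i _ => Ideal.mul_mem_left _ _ (Ideal.subset_span ⟨i, rfl⟩)

/-- **Tate's lemma on the annihilator of the diagonal** -/
theorem annihilator_diagonal_eq_span_det {A P : Type u} [CommRing A] [CommRing P] [Algebra A P]
    {n : ℕ} (f : Fin n → P) (hf : LCI.IsKoszulRegularSeq P (List.ofFn f))
    [Module.Flat A (P ⧸ Ideal.span (Set.range f))]
    (g : Fin n → P ⊗[A] (P ⧸ Ideal.span (Set.range f)))
    (hgker : Ideal.span (Set.range g) = RingHom.ker (Algebra.TensorProduct.productMap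
      (Ideal.Quotient.mkₐ A (Ideal.span (Set.range f))) (AlgHom.id A (P ⧸ Ideal.span (Set.range f)))))
    (c : Matrix (Fin n) (Fin n) (P ⊗[A] (P ⧸ Ideal.span (Set.range f))))
    (hc : ∀ i, f i ⊗ₜ[A] (1 : P ⧸ Ideal.span (Set.range f)) = ∑ j, c i j * g j) :
    Submodule.annihilator (RingHom.ker
        (Algebra.TensorProduct.lmul' (S := P ⧸ Ideal.span (Set.range f)) A)) =
      Ideal.span {Algebra.TensorProduct.map (Ideal.Quotient.mkₐ A (Ideal.span (Set.range f)))
        (AlgHom.id A (P ⧸ Ideal.span (Set.range f))) (Matrix.det c)} := by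
  classical
  let I : Ideal P := Ideal.span (Set.range f)
  let B := P ⧸ I
  let T := P ⊗[A] B
  let πa : T →ₐ[A] B ⊗[A] B := Algebra.TensorProduct.map (Ideal.Quotient.mkₐ A I) (AlgHom.id A B)
  let π : T →+* B ⊗[A] B := πa.toRingHom
  have hπ : Function.Surjective π :=
    Algebra.TensorProduct.map_surjective _ _ (Ideal.Quotient.mkₐ_surjective A I)
      Function.surjective_id
  let F : Fin n → T := fun i => f i ⊗ₜ[A] (1 : B)
  -- the kernel of `π`
  have hker : RingHom.ker π = Ideal.span (Set.range F) := by
    have h1 := Algebra.TensorProduct.rTensor_ker (R := A) (C := B) (Ideal.Quotient.mkₐ A I)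
      (Ideal.Quotient.mkₐ_surjective A I)
    have h2 : RingHom.ker π = RingHom.ker (Algebra.TensorProduct.map (Ideal.Quotient.mkₐ A I)
      (AlgHom.id A B)) := rfl
    have hk : RingHom.ker (Ideal.Quotient.mkₐ A I) = I := by
      ext x
      rw [RingHom.mem_ker, Ideal.Quotient.mkₐ_eq_mk, Ideal.Quotient.eq_zero_iff_mem]
    rw [h2, h1, hk, Ideal.map_span]
    congr 1
    ext t
    simp only [Set.mem_image, Set.mem_range, exists_exists_eq_and, F]
    rfl
  -- Koszul regularity of `F`
  have hF : LCI.IsKoszulRegularSeq T (List.ofFn F) := by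
    have h := Groth.Agent.Lead.KoszulFunC.isKoszulRegularSeq_of_flat (A := P) (B := T)
      (List.ofFn f) hf
    have e : (List.ofFn f).map (algebraMap P T) = List.ofFn F := by
      rw [List.map_ofFn]
      rfl
    rwa [e] at h
  -- the kernel of the multiplication
  have hG : RingHom.ker (Algebra.TensorProduct.lmul' (S := B) A) =
      (Ideal.span (Set.range g)).map π := by
    rw [hgker, Algebra.TensorProduct.productMap_eq_comp_map]
    have : RingHom.ker ((Algebra.TensorProduct.lmul' (S := B) A).comp πa) =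
        (RingHom.ker (Algebra.TensorProduct.lmul' (S := B) A)).comap π := by
      ext t
      simp only [RingHom.mem_ker, Ideal.mem_comap]
      rfl
    rw [this, Ideal.map_comap_of_surjective π hπ]
  have key := annihilator_map_eq_span π hπ (Ideal.span (Set.range g)) c.det ?_ ?_
  · rw [hG]
    exact key
  · intro x hx
    rw [hker] at hx ⊢
    exact wiebe_kreg F g c hF hc x fun j => hx (g j) (Ideal.subset_span ⟨j, rfl⟩)
  · intro y hy
    rw [hker]
    refine Submodule.span_induction ?_ ?_ ?_ ?_ hy
    · rintro _ ⟨j, rfl⟩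
      exact det_mul_mem F g c hc j
    · simp
    · intro a b _ _ ha hb
      rw [mul_add]
      exact Ideal.add_mem _ ha hb
    · intro a b _ hb
      rw [smul_eq_mul, mul_left_comm]
      exact Ideal.mul_mem_left _ _ hb

end Groth.Agent.Helper7.Wiebe
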