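import Mathlib
import Groth.Prelude.Def_CAlg
import Groth.Agent.Helper7.WiebeD
import Groth.Agent.Helper7.ArtGor

/-!
# Watanabe's theorem, abstract local step (helper7)

A local ring `R` with an `R`-linear retraction from a ring `T` in which a system of parameters
`θ = a x` of `R` is regular, `x` generating a maximal ideal, and `det a` coming from `R`:
then `R/(θ)` has a simple socle generated by `det a`.
-/

set_option autoImplicit false
set_option linter.unusedSectionVars false
universe u

namespace Groth.Agent.Helper7.Wat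

open IsLocalRing RingTheory.Sequence

section RegOn

variable {S : Type u} [CommRing S]

theorem regOn_of_forall (l : List S) : ∀ (K : Ideal S),
    (∀ (i : ℕ) (hi : i < l.length) (t : S), l[i] * t ∈ K ⊔ Ideal.ofList (l.take i) →
      t ∈ K ⊔ Ideal.ofList (l.take i)) → Wiebe.RegOn K l := by
  induction l with
  | nil => intro K _; trivial
  | cons r rs ih =>
    intro K h
    refine ⟨fun t ht => ?_, ih _ fun i hi t ht => ?_⟩
    · have := h 0 (by simp) t (by simpa using ht)
      simpa using this
    · have h1 := h (i + 1) (by simpa using hi) t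
      have e : K ⊔ Ideal.ofList ((r :: rs).take (i + 1)) =
          K ⊔ Ideal.span {r} ⊔ Ideal.ofList (rs.take i) := by
        rw [List.take_succ_cons, Ideal.ofList_cons, sup_assoc]
      rw [e] at h1
      exact h1 (by simpa using ht)

theorem regOn_of_isWeaklyRegular (l : List S) (h : IsWeaklyRegular S l) : Wiebe.RegOn ⊥ l := by
  apply regOn_of_forall
  intro i hi t ht
  rw [bot_sup_eq] at ht ⊢
  have h1 := (isWeaklyRegular_iff S l).1 h i hi
  have h2 : (Ideal.ofList (l.take i) • (⊤ : Submodule S S)) = Ideal.ofList (l.take i) := by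
    rw [smul_eq_mul, Ideal.mul_top]
  have h3 : l[i] • (Submodule.Quotient.mk t : S ⧸ (Ideal.ofList (l.take i) • (⊤ : Submodule S S))) =
      l[i] • (0 : S ⧸ (Ideal.ofList (l.take i) • (⊤ : Submodule S S))) := by
    rw [smul_zero, ← Submodule.Quotient.mk_smul, Submodule.Quotient.mk_eq_zero, h2, smul_eq_mul]
    exact ht
  have h4 := h1 h3
  rw [Submodule.Quotient.mk_eq_zero, h2] at h4
  exact h4

end RegOn

section Main

variable {R : Type u} [CommRing R] [IsLocalRing R] [IsNoetherianRing R]
  {T : Type u} [CommRing T] [Algebra R T]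
  (ϱ : T →ₗ[R] R) (hϱ : ∀ r : R, ϱ (algebraMap R T r) = r)
  {n : ℕ} (x : Fin n → T) (θ : Fin n → R) (a : Matrix (Fin n) (Fin n) T)
  (hθ : ∀ i, algebraMap R T (θ i) = ∑ j, a i j * x j)
  (δ : R) (hδ : algebraMap R T δ = a.det)
  (hreg : IsWeaklyRegular T (List.ofFn fun i => algebraMap R T (θ i)))
  (hNmax : (Ideal.span (Set.range x)).IsMaximal)
  (hNm : ∀ r ∈ maximalIdeal R, algebraMap R T r ∈ Ideal.span (Set.range x))
  (hprim : ∃ M : ℕ, (Ideal.span (Set.range x)) ^ M ≤
    Ideal.span (Set.range fun i => algebraMap R T (θ i)))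
  (hθm : ∀ i, θ i ∈ maximalIdeal R)

include hϱ in
/-- contraction of the extended parameter ideal -/
theorem mem_of_map_mem (r : R)
    (h : algebraMap R T r ∈ Ideal.span (Set.range fun i => algebraMap R T (θ i))) :
    r ∈ Ideal.span (Set.range θ) := by
  classical
  obtain ⟨c, hc⟩ := (Ideal.mem_span_range_iff_exists_fun).1 h
  have h1 : r = ∑ i, ϱ (c i) * θ i := by
    have := congrArg ϱ hc
    rw [hϱ, map_sum] at this
    rw [← this]
    refine Finset.sum_congr rfl fun i _ => ?_
    rw [mul_comm, ← Algebra.smul_def, map_smul, smul_eq_mul, mul_comm]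
  rw [h1]
  exact Ideal.sum_mem _ fun i _ => Ideal.mul_mem_left _ _ (Ideal.subset_span ⟨i, rfl⟩)

theorem map_mem (t : T) (h : t ∈ Ideal.span (Set.range fun i => algebraMap R T (θ i))) :
    ϱ t ∈ Ideal.span (Set.range θ) := by
  classical
  obtain ⟨c, hc⟩ := (Ideal.mem_span_range_iff_exists_fun).1 h
  rw [← hc, map_sum]
  refine Ideal.sum_mem _ fun i _ => ?_
  rw [mul_comm, ← Algebra.smul_def, map_smul, smul_eq_mul]
  exact Ideal.mul_mem_right _ _ (Ideal.subset_span ⟨i, rfl⟩)

include hθ in
theorem det_mul_mem' (t : T) (ht : t ∈ Ideal.span (Set.range x)) :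
    a.det * t ∈ Ideal.span (Set.range fun i => algebraMap R T (θ i)) := by
  induction ht using Submodule.span_induction with
  | mem t ht =>
    obtain ⟨j, rfl⟩ := ht
    exact Wiebe.det_mul_mem (fun i => algebraMap R T (θ i)) x a hθ j
  | zero => simp
  | add s t _ _ hs ht => rw [mul_add]; exact Ideal.add_mem _ hs ht
  | smul c t _ ht =>
    rw [smul_eq_mul, mul_left_comm]
    exact Ideal.mul_mem_left _ _ ht

include hNm hθm in
theorem theta_le : Ideal.span (Set.range fun i => algebraMap R T (θ i)) ≤
    Ideal.span (Set.range x) := by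
  rw [Ideal.span_le]
  rintro _ ⟨i, rfl⟩
  exact hNm _ (hθm i)

include hprim in
/-- socle elements below any element outside the parameter ideal -/
theorem exists_socle_mul (Y : T)
    (hY : Y ∉ Ideal.span (Set.range fun i => algebraMap R T (θ i))) :
    ∃ s : T, s * Y ∉ Ideal.span (Set.range fun i => algebraMap R T (θ i)) ∧
      ∀ t ∈ Ideal.span (Set.range x),
        t * (s * Y) ∈ Ideal.span (Set.range fun i => algebraMap R T (θ i)) := by
  classical
  obtain ⟨M, hM⟩ := hprim
  set N := Ideal.span (Set.range x) with hN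
  set I := Ideal.span (Set.range fun i => algebraMap R T (θ i)) with hI
  -- `P j` : `N^j Y ⊆ I`
  let P : ℕ → Prop := fun j => ∀ s ∈ N ^ j, s * Y ∈ I
  have hPM : P M := fun s hs => Ideal.mul_mem_right _ _ (hM hs)
  have hP0 : ¬ P 0 := by
    intro h
    apply hY
    have := h 1 (by rw [pow_zero, Ideal.one_eq_top]; trivial)
    rwa [one_mul] at this
  have hex : ∃ j, P j := ⟨M, hPM⟩
  set j₀ := Nat.find hex with hj₀
  have hj₀pos : j₀ ≠ 0 := by
    intro h0
    apply hP0
    have := Nat.find_spec hex
    rwa [← hj₀, h0] at this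
  obtain ⟨j, hj⟩ : ∃ j, j₀ = j + 1 := ⟨j₀ - 1, by omega⟩
  have hnot : ¬ P j := Nat.find_min hex (by omega)
  have hyes : P (j + 1) := by
    have := Nat.find_spec hex
    rwa [← hj₀, hj] at this
  simp only [P, not_forall] at hnot
  obtain ⟨s, hs, hsY⟩ := hnot
  refine ⟨s, hsY, fun t ht => ?_⟩
  rw [← mul_assoc]
  apply hyes
  rw [pow_succ, mul_comm]
  exact Ideal.mul_mem_mul ht hs

include hθ hreg hNm hprim hθm hNmax in
theorem det_notMem : a.det ∉ Ideal.span (Set.range fun i => algebraMap R T (θ i)) := by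
  classical
  intro hdet
  have h1 : (1 : T) ∉ Ideal.span (Set.range fun i => algebraMap R T (θ i)) := by
    intro h
    have := theta_le x θ hNm hθm h
    exact hNmax.ne_top ((Ideal.eq_top_iff_one _).2 this)
  obtain ⟨s, hs, hsoc⟩ := exists_socle_mul x θ hprim 1 h1
  apply hs
  have hreg' : Wiebe.RegOn ⊥ (List.ofFn fun i => ∑ j, a i j * x j) := by
    have : (fun i => ∑ j, a i j * x j) = fun i => algebraMap R T (θ i) := funext fun i => (hθ i).symm
    rw [this]
    exact regOn_of_isWeaklyRegular _ hreg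
  have hrange : (Set.range fun i => ∑ j, a i j * x j) =
      Set.range fun i => algebraMap R T (θ i) := by
    congr 1
    exact funext fun i => (hθ i).symm
  have h2 := Wiebe.wiebe_reg x a hreg' (s * 1) (fun j => by
    rw [hrange, mul_comm]
    exact hsoc _ (Ideal.subset_span ⟨j, rfl⟩))
  rw [hrange] at h2
  obtain ⟨u, hu, v, hv, huv⟩ := Submodule.mem_sup.1 h2
  rw [← huv]
  refine Ideal.add_mem _ hu ?_
  obtain ⟨c, rfl⟩ := Ideal.mem_span_singleton'.1 hv
  exact Ideal.mul_mem_left _ _ hdet

end Main

end Groth.Agent.Helper7.Wat
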