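import Mathlib
import Groth.Prelude.Def_CAlg
import Groth.Agent.Helper7.WatA
import Groth.Agent.Helper7.SegGorD
import Groth.Agent.Helper6.Rees3
import Groth.Agent.Helper3.GorFlatD

/-!
# Watanabe's theorem, abstract local step II (helper7)
-/

set_option autoImplicit false
set_option linter.unusedSectionVars false
universe u

namespace Groth.Agent.Helper7.Wat

open IsLocalRing RingTheory.Sequence

section Main

variable {R : Type u} [CommRing R] [IsLocalRing R] [IsNoetherianRing R]
  {T : Type u} [CommRing T] [Algebra R T]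
  (ϱ : T →ₗ[R] R) (hϱ : ∀ r : R, ϱ (algebraMap R T r) = r)
  {n : ℕ} (x : Fin n → T) (θ : Fin n → R) (a : Matrix (Fin n) (Fin n) T)
  (hθ : ∀ i, algebraMap R T (θ i) = ∑ j, a i j * x j)
  (δ : R) (hδ : algebraMap R T δ = a.det)
  (hreg : IsWeaklyRegular T (List.ofFn fun i => algebraMap R T (θ i)))
  (hNmax : (Ideal.span (Set.range x)).IsMaximal)
  (hNm : ∀ r ∈ maximalIdeal R, algebraMap R T r ∈ Ideal.span (Set.range x))
  (hprim : ∃ M : ℕ, (Ideal.span (Set.range x)) ^ M ≤
    Ideal.span (Set.range fun i => algebraMap R T (θ i)))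
  (hθm : ∀ i, θ i ∈ maximalIdeal R)

theorem map_span_eq : (Ideal.span (Set.range θ)).map (algebraMap R T) =
    Ideal.span (Set.range fun i => algebraMap R T (θ i)) := by
  rw [Ideal.map_span]
  congr 1
  ext t
  simp

include hϱ hθ hδ hreg hNmax hNm hprim hθm in
theorem delta_notMem : δ ∉ Ideal.span (Set.range θ) := by
  intro h
  apply det_notMem x θ a hθ hreg hNmax hNm hprim hθm
  rw [← hδ, ← map_span_eq]
  exact Ideal.mem_map_of_mem _ h

include hϱ hθ hδ hNm in
theorem maximal_mul_delta (r : R) (hr : r ∈ maximalIdeal R) :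
    r * δ ∈ Ideal.span (Set.range θ) := by
  apply mem_of_map_mem ϱ hϱ θ
  rw [map_mul, hδ, mul_comm]
  exact det_mul_mem' x θ a hθ _ (hNm r hr)

include hϱ hθ hδ hreg hNmax hNm hprim hθm in
theorem exists_mul_delta (y : R)
    (hy : ∀ r ∈ maximalIdeal R, r * y ∈ Ideal.span (Set.range θ)) :
    ∃ c : R, y - c * δ ∈ Ideal.span (Set.range θ) := by
  classical
  by_cases hyI : y ∈ Ideal.span (Set.range θ)
  · exact ⟨0, by simpa using hyI⟩
  have hY : algebraMap R T y ∉ Ideal.span (Set.range fun i => algebraMap R T (θ i)) :=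
    fun h => hyI (mem_of_map_mem ϱ hϱ θ y h)
  obtain ⟨s, hs, hsoc⟩ := exists_socle_mul x θ hprim _ hY
  have hreg' : Wiebe.RegOn ⊥ (List.ofFn fun i => ∑ j, a i j * x j) := by
    have : (fun i => ∑ j, a i j * x j) = fun i => algebraMap R T (θ i) :=
      funext fun i => (hθ i).symm
    rw [this]
    exact regOn_of_isWeaklyRegular _ hreg
  have hrange : (Set.range fun i => ∑ j, a i j * x j) =
      Set.range fun i => algebraMap R T (θ i) := by
    congr 1
    exact funext fun i => (hθ i).symm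
  have h2 := Wiebe.wiebe_reg x a hreg' (s * algebraMap R T y) (fun j => by
    rw [hrange, mul_comm]
    exact hsoc _ (Ideal.subset_span ⟨j, rfl⟩))
  rw [hrange] at h2
  obtain ⟨u, hu, v, hv, huv⟩ := Submodule.mem_sup.1 h2
  obtain ⟨c, rfl⟩ := Ideal.mem_span_singleton'.1 hv
  -- `c ∉ N`
  have hcN : c ∉ Ideal.span (Set.range x) := by
    intro hc
    apply hs
    rw [← huv]
    refine Ideal.add_mem _ hu ?_
    rw [mul_comm]
    exact det_mul_mem' x θ a hθ c hc
  obtain ⟨c', i, hi, hci⟩ := hNmax.exists_inv hcN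
  -- `det a - c' s Y ∈ I_T`
  have hkey : a.det - (c' * s) * algebraMap R T y ∈
      Ideal.span (Set.range fun i => algebraMap R T (θ i)) := by
    have e : a.det - (c' * s) * algebraMap R T y = i * a.det - c' * u := by
      have h3 : s * algebraMap R T y = u + c * a.det := huv.symm
      calc a.det - (c' * s) * algebraMap R T y
          = (c' * c + i) * a.det - c' * (s * algebraMap R T y) := by rw [hci]; ring
        _ = i * a.det - c' * u := by rw [h3]; ring
    rw [e]
    refine Ideal.sub_mem _ ?_ (Ideal.mul_mem_left _ _ hu)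
    rw [mul_comm]
    exact det_mul_mem' x θ a hθ i hi
  have hϱkey := map_mem ϱ θ _ hkey
  have e2 : ϱ (a.det - (c' * s) * algebraMap R T y) = δ - y * ϱ (c' * s) := by
    rw [map_sub, ← hδ, hϱ, mul_comm, ← Algebra.smul_def, map_smul, smul_eq_mul]
  rw [e2] at hϱkey
  set v := ϱ (c' * s) with hv
  have hvunit : IsUnit v := by
    by_contra hnu
    have hvm : v ∈ maximalIdeal R := (mem_maximalIdeal v).2 hnu
    have h4 := hy v hvm
    apply delta_notMem ϱ hϱ x θ a hθ δ hδ hreg hNmax hNm hprim hθm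
    have : δ = (δ - y * v) + v * y := by ring
    rw [this]
    exact Ideal.add_mem _ hϱkey h4
  obtain ⟨w, hw⟩ := hvunit.exists_left_inv
  refine ⟨w, ?_⟩
  have : y - w * δ = -(w * (δ - y * v)) + (1 - w * v) * y := by ring
  rw [this, hw, sub_self, zero_mul, add_zero]
  exact Ideal.neg_mem_iff _ |>.2 (Ideal.mul_mem_left _ _ hϱkey)

include hϱ hNm hprim in
theorem maximal_pow_le : ∃ M : ℕ, maximalIdeal R ^ M ≤ Ideal.span (Set.range θ) := by
  obtain ⟨M, hM⟩ := hprim
  refine ⟨M, fun r hr => ?_⟩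
  apply mem_of_map_mem ϱ hϱ θ
  apply hM
  have h1 : (maximalIdeal R).map (algebraMap R T) ≤ Ideal.span (Set.range x) := by
    rw [Ideal.map_le_iff_le_comap]
    exact fun r hr => hNm r hr
  have h2 : algebraMap R T r ∈ ((maximalIdeal R) ^ M).map (algebraMap R T) :=
    Ideal.mem_map_of_mem _ hr
  rw [Ideal.map_pow] at h2
  exact Ideal.pow_right_mono h1 M h2

include hϱ hθ hδ hreg hNmax hNm hprim hθm in
/-- the quotient of `R` by the parameter ideal is Gorenstein -/
theorem gorLocal_quot :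
    LocCoh.IsGorensteinLocalRing (R ⧸ Ideal.span (Set.range θ)) := by
  have hle : Ideal.span (Set.range θ) ≤ maximalIdeal R := by
    rw [Ideal.span_le]
    rintro _ ⟨i, rfl⟩
    exact hθm i
  haveI := Groth.Agent.Helper3.GorFlatD.isLocalRing_quot _ hle
  have hmax := Groth.Agent.Helper3.GorFlatD.map_mk_maximalIdeal (Ideal.span (Set.range θ))
  have hnil : IsNilpotent (maximalIdeal (R ⧸ Ideal.span (Set.range θ))) := by
    obtain ⟨M, hM⟩ := maximal_pow_le ϱ hϱ x θ hNm hprim
    refine ⟨M, ?_⟩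
    rw [← hmax, ← Ideal.map_pow, Ideal.zero_eq_bot, Ideal.map_eq_bot_iff_le_ker, Ideal.mk_ker]
    exact hM
  refine Groth.Agent.Helper7.ArtGor.gorLocal_of_simple_socle _ hnil
    (Ideal.Quotient.mk _ δ) ?_ ?_ ?_
  · rw [Ne, Ideal.Quotient.eq_zero_iff_mem]
    exact delta_notMem ϱ hϱ x θ a hθ δ hδ hreg hNmax hNm hprim hθm
  · intro b hb
    rw [← hmax] at hb
    obtain ⟨r, hr, rfl⟩ := (Ideal.mem_map_iff_of_surjective _ Ideal.Quotient.mk_surjective).1 hb
    rw [← map_mul, Ideal.Quotient.eq_zero_iff_mem]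
    exact maximal_mul_delta ϱ hϱ x θ a hθ δ hδ hNm r hr
  · intro y hy
    obtain ⟨y, rfl⟩ := Ideal.Quotient.mk_surjective y
    have hy' : ∀ r ∈ maximalIdeal R, r * y ∈ Ideal.span (Set.range θ) := by
      intro r hr
      have := hy (Ideal.Quotient.mk _ r) (by
        rw [← hmax]; exact Ideal.mem_map_of_mem _ hr)
      rwa [← map_mul, Ideal.Quotient.eq_zero_iff_mem] at this
    obtain ⟨c, hc⟩ := exists_mul_delta ϱ hϱ x θ a hθ δ hδ hreg hNmax hNm hprim hθm y hy'
    refine ⟨Ideal.Quotient.mk _ c, ?_⟩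
    rw [← map_mul, ← sub_eq_zero, ← map_sub, Ideal.Quotient.eq_zero_iff_mem]
    exact hc

end Main

end Groth.Agent.Helper7.Wat
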