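import Mathlib
import Groth.Prelude.Def_CAlg
import Groth.Agent.Helper7.WatB

/-!
# Watanabe's theorem, abstract local step III (helper7)
-/

set_option autoImplicit false
set_option linter.unusedSectionVars false
universe u

namespace Groth.Agent.Helper7.Wat

open IsLocalRing RingTheory.Sequence Pointwise

section Retract

variable {R : Type u} [CommRing R] {T : Type u} [CommRing T] [Algebra R T]
  (ϱ : T →ₗ[R] R) (hϱ : ∀ r : R, ϱ (algebraMap R T r) = r)

theorem map_mul_mem_of_mem_map (J : Ideal R) (t : T) (ht : t ∈ J.map (algebraMap R T)) :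
    ∀ c : T, ϱ (c * t) ∈ J := by
  rw [Ideal.map] at ht
  induction ht using Submodule.span_induction with
  | mem t ht =>
    obtain ⟨r, hr, rfl⟩ := ht
    intro c
    rw [mul_comm, ← Algebra.smul_def, map_smul, smul_eq_mul]
    exact J.mul_mem_right _ hr
  | zero => intro c; simp
  | add s t _ _ hs ht => intro c; rw [mul_add, map_add]; exact J.add_mem (hs c) (ht c)
  | smul d t _ ht =>
    intro c
    rw [smul_eq_mul, ← mul_assoc]
    exact ht (c * d)

include hϱ in
theorem mem_of_algebraMap_mem_map (J : Ideal R) (r : R)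
    (h : algebraMap R T r ∈ J.map (algebraMap R T)) : r ∈ J := by
  have := map_mul_mem_of_mem_map ϱ J _ h 1
  rwa [one_mul, hϱ] at this

include hϱ in
/-- regular sequences descend along a linear retraction -/
theorem isWeaklyRegular_of_retract (l : List R)
    (h : IsWeaklyRegular T (l.map (algebraMap R T))) : IsWeaklyRegular R l := by
  rw [isWeaklyRegular_iff] at h ⊢
  intro i hi
  have h1 := h i (by rw [List.length_map]; exact hi)
  rw [isSMulRegular_iff_right_eq_zero_of_smul] at h1 ⊢
  intro q hq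
  obtain ⟨r, rfl⟩ := Submodule.Quotient.mk_surjective _ q
  rw [← Submodule.Quotient.mk_smul, Submodule.Quotient.mk_eq_zero, smul_eq_mul, Ideal.mul_top,
    smul_eq_mul] at hq
  rw [Submodule.Quotient.mk_eq_zero, smul_eq_mul, Ideal.mul_top]
  have e1 : Ideal.ofList ((l.map (algebraMap R T)).take i) =
      (Ideal.ofList (l.take i)).map (algebraMap R T) := by
    rw [← List.map_take, Ideal.map_ofList]
  have h2 := h1 (Submodule.Quotient.mk (algebraMap R T r)) (by
    rw [← Submodule.Quotient.mk_smul, Submodule.Quotient.mk_eq_zero, smul_eq_mul, Ideal.mul_top,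
      smul_eq_mul, e1, List.getElem_map, ← map_mul]
    exact Ideal.mem_map_of_mem _ hq)
  rw [Submodule.Quotient.mk_eq_zero, smul_eq_mul, Ideal.mul_top, e1] at h2
  exact mem_of_algebraMap_mem_map ϱ hϱ _ r h2

end Retract

section Lift

open Groth.Agent.Helper7.SegGor Groth.Agent.Helper3.GorFlatD

theorem smul_top_eq_span' {R : Type u} [CommRing R] (a : R) :
    (a • (⊤ : Submodule R R)) = Ideal.span {a} := by
  ext x
  rw [Submodule.mem_smul_pointwise_iff_exists, Ideal.mem_span_singleton']
  constructor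
  · rintro ⟨y, -, rfl⟩
    exact ⟨y, by rw [smul_eq_mul, mul_comm]⟩
  · rintro ⟨y, rfl⟩
    exact ⟨y, Submodule.mem_top, by rw [smul_eq_mul, mul_comm]⟩

/-- a Noetherian local ring whose quotient by a regular sequence in the maximal ideal is
Gorenstein is Gorenstein -/
theorem gorLocal_of_quot_of_isWeaklyRegular : ∀ (n : ℕ) (R : Type u) [CommRing R] [IsLocalRing R]
    [IsNoetherianRing R] (l : List R), l.length = n →
    IsWeaklyRegular R l → (∀ x ∈ l, x ∈ maximalIdeal R) →
    LocCoh.IsGorensteinLocalRing (R ⧸ Ideal.ofList l) → LocCoh.IsGorensteinLocalRing R := by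
  intro n
  induction n with
  | zero =>
    intro R _ _ _ l hl _ _ hG
    have hl' : l = [] := List.length_eq_zero_iff.1 hl
    subst hl'
    have h0 : (⊥ : Ideal R) = Ideal.ofList [] := Ideal.ofList_nil.symm
    exact gorLocal_of_ringEquiv
      ((RingEquiv.quotientBot R).symm.trans (Ideal.quotEquivOfEq h0)).symm hG
  | succ n ih =>
    intro R _ _ _ l hl hreg hmem hG
    obtain ⟨a, l', rfl⟩ : ∃ a l', l = a :: l' := by
      cases l with
      | nil => simp at hl
      | cons a l' => exact ⟨a, l', rfl⟩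
    have hlen : l'.length = n := by simpa using hl
    obtain ⟨hareg, hl'reg⟩ := (isWeaklyRegular_cons_iff R a l').1 hreg
    have ha : a ∈ maximalIdeal R := hmem a List.mem_cons_self
    have hI : Ideal.span {a} ≤ maximalIdeal R := (Ideal.span_singleton_le_iff_mem _).mpr ha
    haveI := isLocalRing_quot (Ideal.span {a}) hI
    let e₀ : QuotSMulTop a R ≃ₗ[R] (R ⧸ Ideal.span {a}) :=
      Submodule.quotEquivOfEq _ _ (smul_top_eq_span' a)
    have h2 : IsWeaklyRegular (R ⧸ Ideal.span {a}) l' := (e₀.isWeaklyRegular_congr l').1 hl'reg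
    have h3 : IsWeaklyRegular (R ⧸ Ideal.span {a})
        (l'.map (algebraMap R (R ⧸ Ideal.span {a}))) :=
      (isWeaklyRegular_map_algebraMap_iff (R ⧸ Ideal.span {a}) (R ⧸ Ideal.span {a}) l').2 h2
    have hmem' : ∀ x ∈ l'.map (algebraMap R (R ⧸ Ideal.span {a})),
        x ∈ maximalIdeal (R ⧸ Ideal.span {a}) := by
      intro x hx
      obtain ⟨y, hy, rfl⟩ := List.mem_map.1 hx
      rw [← map_mk_maximalIdeal (Ideal.span {a})]
      exact Ideal.mem_map_of_mem _ (hmem y (List.mem_cons_of_mem _ hy))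
    have h4 : Ideal.ofList (l'.map (algebraMap R (R ⧸ Ideal.span {a}))) =
        (Ideal.ofList l').map (Ideal.Quotient.mk (Ideal.span {a})) := by
      rw [Ideal.map_ofList]
      rfl
    have h5 : Ideal.span {a} ⊔ Ideal.ofList l' = Ideal.ofList (a :: l') :=
      (Ideal.ofList_cons a l').symm
    have hG' : LocCoh.IsGorensteinLocalRing
        ((R ⧸ Ideal.span {a}) ⧸ Ideal.ofList (l'.map (algebraMap R (R ⧸ Ideal.span {a})))) :=
      gorLocal_of_ringEquiv (((Ideal.quotEquivOfEq h4).trans
        (DoubleQuot.quotQuotEquivQuotSup (Ideal.span {a}) (Ideal.ofList l'))).trans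
        (Ideal.quotEquivOfEq h5)).symm hG
    have hR' : LocCoh.IsGorensteinLocalRing (R ⧸ Ideal.span {a}) :=
      ih (R ⧸ Ideal.span {a}) _ (by rw [List.length_map]; exact hlen) h3 hmem' hG'
    exact (Groth.Agent.Helper6.Rees.main R a ha hareg).2 hR'

end Lift

section Final

variable {R : Type u} [CommRing R] [IsLocalRing R] [IsNoetherianRing R]
  {T : Type u} [CommRing T] [Algebra R T]
  (ϱ : T →ₗ[R] R) (hϱ : ∀ r : R, ϱ (algebraMap R T r) = r)
  {n : ℕ} (x : Fin n → T) (θ : Fin n → R) (a : Matrix (Fin n) (Fin n) T)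
  (hθ : ∀ i, algebraMap R T (θ i) = ∑ j, a i j * x j)
  (δ : R) (hδ : algebraMap R T δ = a.det)
  (hreg : IsWeaklyRegular T (List.ofFn fun i => algebraMap R T (θ i)))
  (hNmax : (Ideal.span (Set.range x)).IsMaximal)
  (hNm : ∀ r ∈ maximalIdeal R, algebraMap R T r ∈ Ideal.span (Set.range x))
  (hprim : ∃ M : ℕ, (Ideal.span (Set.range x)) ^ M ≤
    Ideal.span (Set.range fun i => algebraMap R T (θ i)))
  (hθm : ∀ i, θ i ∈ maximalIdeal R)

include hϱ hθ hδ hreg hNmax hNm hprim hθm in
/-- **abstract Watanabe**: `R` is Gorenstein -/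
theorem gorLocal_of_retract : LocCoh.IsGorensteinLocalRing R := by
  have hof : Ideal.ofList (List.ofFn θ) = Ideal.span (Set.range θ) := Wiebe.ofList_ofFn θ
  have hregR : IsWeaklyRegular R (List.ofFn θ) := by
    apply isWeaklyRegular_of_retract ϱ hϱ
    rw [List.map_ofFn]
    exact hreg
  refine gorLocal_of_quot_of_isWeaklyRegular n R (List.ofFn θ) List.length_ofFn hregR ?_ ?_
  · intro y hy
    rw [List.mem_ofFn] at hy
    obtain ⟨i, rfl⟩ := hy
    exact hθm i
  · rw [hof]
    exact gorLocal_quot ϱ hϱ x θ a hθ δ hδ hreg hNmax hNm hprim hθm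

end Final

end Groth.Agent.Helper7.Wat
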