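import Mathlib

/-!
# Watanabe's theorem: invariant theory of a finite linear group (helper7)
-/

set_option autoImplicit false
set_option linter.unusedSectionVars false
universe u

namespace Groth.Agent.Helper7.Wat

open MvPolynomial

section Inv

variable {k : Type u} [Field k] {n : ℕ}
  {G : Type u} [Group G] [Fintype G] (hG : IsUnit ((Fintype.card G : ℕ) : k))
  (ρ : G →* Matrix.GeneralLinearGroup (Fin n) k)
  (hdet : ∀ g : G, Matrix.det ((ρ g : Matrix (Fin n) (Fin n) k)) = 1)
  [MulSemiringAction G (MvPolynomial (Fin n) k)]
  (hC : ∀ (g : G) (c : k), g • (MvPolynomial.C c : MvPolynomial (Fin n) k) = MvPolynomial.C c)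
  (hX : ∀ (g : G) (i : Fin n), g • (MvPolynomial.X i : MvPolynomial (Fin n) k) =
    ∑ j : Fin n, (ρ g : Matrix (Fin n) (Fin n) k) j i • (MvPolynomial.X j : MvPolynomial (Fin n) k))
  {A : Type u} [CommRing A] [Algebra A (MvPolynomial (Fin n) k)]
  [SMulCommClass G A (MvPolynomial (Fin n) k)] [Algebra.IsInvariant A (MvPolynomial (Fin n) k) G]
  [FaithfulSMul A (MvPolynomial (Fin n) k)]

local notation "S" => MvPolynomial (Fin n) k

theorem smul_algebraMap' (g : G) (a : A) : g • algebraMap A S a = algebraMap A S a := by
  rw [Algebra.algebraMap_eq_smul_one, smul_comm, smul_one]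

theorem exists_of_invariant (s : S) (h : ∀ g : G, g • s = s) : ∃ a : A, algebraMap A S a = s :=
  Algebra.IsInvariant.isInvariant s h

/-- the averaging operator -/
noncomputable def avg (s : S) : S := C (((Fintype.card G : ℕ) : k)⁻¹) * ∑ g : G, g • s

include hC in
theorem smul_avg (h : G) (s : S) : h • avg (G := G) s = avg (G := G) s := by
  unfold avg
  rw [smul_mul', hC, Finset.smul_sum]
  congr 1
  simp only [smul_smul]
  exact Fintype.sum_bijective (fun g => h * g) (Group.mulLeft_bijective h) _ _ (fun g => rfl)

include hG in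
theorem avg_of_invariant (s : S) (h : ∀ g : G, g • s = s) : avg (G := G) s = s := by
  unfold avg
  simp only [h, Finset.sum_const, Finset.card_univ, nsmul_eq_mul]
  rw [← mul_assoc]
  have : (C (((Fintype.card G : ℕ) : k)⁻¹) : S) * ((Fintype.card G : ℕ) : S) = 1 := by
    have h1 : ((Fintype.card G : ℕ) : S) = C ((Fintype.card G : ℕ) : k) := by simp
    rw [h1, ← C_mul, inv_mul_cancel₀ hG.ne_zero, C_1]
  rw [this, one_mul]

theorem avg_add (s t : S) : avg (G := G) (s + t) = avg (G := G) s + avg (G := G) t := by
  unfold avg
  simp only [smul_add, Finset.sum_add_distrib, mul_add]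

theorem avg_algebraMap_mul (a : A) (s : S) :
    avg (G := G) (algebraMap A S a * s) = algebraMap A S a * avg (G := G) s := by
  unfold avg
  simp only [smul_mul', smul_algebraMap', ← Finset.mul_sum]
  ring

include hC in
theorem exists_avg (s : S) : ∃ a : A, algebraMap A S a = avg (G := G) s :=
  exists_of_invariant _ (fun g => smul_avg hC g s)

/-- the Reynolds operator -/
noncomputable def rey : S →ₗ[A] A where
  toFun s := (exists_avg (A := A) hC s).choose
  map_add' s t := by
    apply FaithfulSMul.algebraMap_injective A S
    rw [map_add, (exists_avg (A := A) hC s).choose_spec, (exists_avg (A := A) hC t).choose_spec,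
      (exists_avg (A := A) hC (s + t)).choose_spec, avg_add]
  map_smul' a s := by
    apply FaithfulSMul.algebraMap_injective A S
    rw [RingHom.id_apply, smul_eq_mul, map_mul, (exists_avg (A := A) hC s).choose_spec,
      (exists_avg (A := A) hC (a • s)).choose_spec, Algebra.smul_def, avg_algebraMap_mul]

theorem algebraMap_rey (s : S) : algebraMap A S (rey (A := A) hC s) = avg (G := G) s :=
  (exists_avg (A := A) hC s).choose_spec

include hG in
theorem rey_algebraMap (a : A) : rey (A := A) hC (algebraMap A S a) = a := by
  apply FaithfulSMul.algebraMap_injective A S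
  rw [algebraMap_rey, avg_of_invariant hG _ (fun g => smul_algebraMap' g a)]

end Inv

end Groth.Agent.Helper7.Wat
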