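import Mathlib
import Groth.Agent.Helper7.WatD

/-!
# Watanabe's theorem: the averaged transition matrix (helper7)
-/

set_option autoImplicit false
set_option linter.unusedSectionVars false
universe u

namespace Groth.Agent.Helper7.Wat

open MvPolynomial Matrix

section Mat

variable {k : Type u} [Field k] {n : ℕ}
  {G : Type u} [Group G] [Fintype G] (hG : IsUnit ((Fintype.card G : ℕ) : k))
  (ρ : G →* Matrix.GeneralLinearGroup (Fin n) k)
  (hdet : ∀ g : G, Matrix.det ((ρ g : Matrix (Fin n) (Fin n) k)) = 1)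
  [MulSemiringAction G (MvPolynomial (Fin n) k)]
  (hC : ∀ (g : G) (c : k), g • (MvPolynomial.C c : MvPolynomial (Fin n) k) = MvPolynomial.C c)
  (hX : ∀ (g : G) (i : Fin n), g • (MvPolynomial.X i : MvPolynomial (Fin n) k) =
    ∑ j : Fin n, (ρ g : Matrix (Fin n) (Fin n) k) j i • (MvPolynomial.X j : MvPolynomial (Fin n) k))

local notation "S" => MvPolynomial (Fin n) k

/-- the ring automorphism given by `g` -/
noncomputable abbrev sig (g : G) : S →+* S := MulSemiringAction.toRingHom G S g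

/-- the constant matrix `ρ(g)ᵀ` -/
noncomputable def Pg (g : G) : Matrix (Fin n) (Fin n) S :=
  ((ρ g : Matrix (Fin n) (Fin n) k)ᵀ).map C

/-- the `g`-twist of a transition matrix -/
noncomputable def bg (b : Matrix (Fin n) (Fin n) S) (g : G) : Matrix (Fin n) (Fin n) S :=
  (b.map (sig g)) * Pg ρ g

theorem Pg_mul (g h : G) : Pg ρ g * Pg ρ h = Pg ρ (h * g) := by
  unfold Pg
  rw [← Matrix.map_mul, ← Matrix.transpose_mul, map_mul]
  rfl

include hC in
theorem Pg_map (g h : G) : (Pg ρ g).map (sig h) = Pg ρ g := by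
  refine Matrix.ext fun i j => ?_
  simp only [Pg, Matrix.map_apply]
  exact hC h _

include hdet in
theorem det_Pg (g : G) : (Pg ρ g).det = 1 := by
  unfold Pg
  have := RingHom.map_det (C : k →+* S) ((ρ g : Matrix (Fin n) (Fin n) k)ᵀ)
  rw [RingHom.mapMatrix_apply] at this
  rw [← this, Matrix.det_transpose, hdet, map_one]

include hX in
theorem bg_mulVec (b : Matrix (Fin n) (Fin n) S) (θ : Fin n → S) (hθ : ∀ (g : G) i, g • θ i = θ i)
    (hb : ∀ i, θ i = ∑ j, b i j * X j) (g : G) (i : Fin n) :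
    ∑ l, bg ρ b g i l * X l = θ i := by
  have h1 : ∀ l, bg ρ b g i l = ∑ j, sig g (b i j) * C ((ρ g : Matrix (Fin n) (Fin n) k) l j) := by
    intro l
    simp [bg, Pg, Matrix.mul_apply]
  simp only [h1, Finset.sum_mul]
  rw [Finset.sum_comm]
  have h2 : ∀ j, ∑ l, sig g (b i j) * C ((ρ g : Matrix (Fin n) (Fin n) k) l j) * X l =
      sig g (b i j) * sig g (X j) := by
    intro j
    have : sig g (X j : S) = ∑ l, (ρ g : Matrix (Fin n) (Fin n) k) l j • (X l : S) := hX g j
    rw [this, Finset.mul_sum]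
    refine Finset.sum_congr rfl fun l _ => ?_
    rw [MvPolynomial.smul_eq_C_mul, mul_assoc]
  simp only [h2]
  rw [← hθ g i, hb i]
  change _ = sig g _
  rw [map_sum]
  simp only [map_mul]

/-- the averaged transition matrix -/
noncomputable def avgMat (b : Matrix (Fin n) (Fin n) S) : Matrix (Fin n) (Fin n) S :=
  (C (((Fintype.card G : ℕ) : k)⁻¹) : S) • ∑ g : G, bg ρ b g

include hG hX in
theorem avgMat_mulVec (b : Matrix (Fin n) (Fin n) S) (θ : Fin n → S)
    (hθ : ∀ (g : G) i, g • θ i = θ i)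
    (hb : ∀ i, θ i = ∑ j, b i j * X j) (i : Fin n) :
    ∑ l, avgMat ρ b i l * X l = θ i := by
  have h1 : ∀ l, avgMat ρ b i l = C (((Fintype.card G : ℕ) : k)⁻¹) * ∑ g : G, bg ρ b g i l := by
    intro l
    simp [avgMat, Matrix.sum_apply]
  simp only [h1, mul_assoc, Finset.sum_mul, ← Finset.mul_sum]
  rw [Finset.sum_comm]
  simp only [bg_mulVec ρ hX b θ hθ hb, Finset.sum_const, Finset.card_univ, nsmul_eq_mul]
  rw [← mul_assoc]
  have : (C (((Fintype.card G : ℕ) : k)⁻¹) : S) * ((Fintype.card G : ℕ) : S) = 1 := by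
    have h1 : ((Fintype.card G : ℕ) : S) = C ((Fintype.card G : ℕ) : k) := by simp
    rw [h1, ← C_mul, inv_mul_cancel₀ hG.ne_zero, C_1]
  rw [this, one_mul]

include hC in
theorem bg_map_mul (b : Matrix (Fin n) (Fin n) S) (g h : G) :
    (bg ρ b g).map (sig h) * Pg ρ h = bg ρ b (h * g) := by
  unfold bg
  rw [Matrix.map_mul, Pg_map ρ hC, Matrix.mul_assoc, Pg_mul, Matrix.map_map]
  congr 2
  ext s
  simp [mul_smul]

include hC in
theorem avgMat_map_mul (b : Matrix (Fin n) (Fin n) S) (h : G) :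
    (avgMat ρ b).map (sig h) * Pg ρ h = avgMat ρ b := by
  have h1 : (avgMat ρ b).map (sig h) =
      (C (((Fintype.card G : ℕ) : k)⁻¹) : S) • ∑ g : G, (bg ρ b g).map (sig h) := by
    refine Matrix.ext fun i j => ?_
    simp only [avgMat, Matrix.map_apply, Matrix.smul_apply, Matrix.sum_apply, smul_eq_mul, map_mul,
      map_sum]
    congr 1
    exact hC h _
  rw [h1, Matrix.smul_mul, Finset.sum_mul]
  simp only [bg_map_mul ρ hC]
  unfold avgMat
  congr 1
  exact Fintype.sum_bijective (fun g => h * g) (Group.mulLeft_bijective h) _ _ (fun g => rfl)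

include hC hdet in
theorem smul_det_avgMat (b : Matrix (Fin n) (Fin n) S) (h : G) :
    h • (avgMat ρ b).det = (avgMat ρ b).det := by
  have h1 := congrArg Matrix.det (avgMat_map_mul ρ hC b h)
  rw [Matrix.det_mul, det_Pg ρ hdet, mul_one] at h1
  have h2 := RingHom.map_det (sig h) (avgMat ρ b)
  rw [RingHom.mapMatrix_apply] at h2
  rw [← h2] at h1
  exact h1

end Mat

section Exists

variable {k : Type u} [Field k] {n : ℕ}
  {G : Type u} [Group G] [Fintype G] (hG : IsUnit ((Fintype.card G : ℕ) : k))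
  (ρ : G →* Matrix.GeneralLinearGroup (Fin n) k)
  (hdet : ∀ g : G, Matrix.det ((ρ g : Matrix (Fin n) (Fin n) k)) = 1)
  [MulSemiringAction G (MvPolynomial (Fin n) k)]
  (hC : ∀ (g : G) (c : k), g • (MvPolynomial.C c : MvPolynomial (Fin n) k) = MvPolynomial.C c)
  (hX : ∀ (g : G) (i : Fin n), g • (MvPolynomial.X i : MvPolynomial (Fin n) k) =
    ∑ j : Fin n, (ρ g : Matrix (Fin n) (Fin n) k) j i • (MvPolynomial.X j : MvPolynomial (Fin n) k))
  {A : Type u} [CommRing A] [Algebra A (MvPolynomial (Fin n) k)]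
  [SMulCommClass G A (MvPolynomial (Fin n) k)] [Algebra.IsInvariant A (MvPolynomial (Fin n) k) G]
  [FaithfulSMul A (MvPolynomial (Fin n) k)]

local notation "S" => MvPolynomial (Fin n) k

include hG hdet hC hX in
/-- an invariant transition matrix with invariant determinant -/
theorem exists_matrix (θ : Fin n → A)
    (hθ : ∀ i, algebraMap A S (θ i) ∈ Ideal.span (Set.range (X : Fin n → S))) :
    ∃ (a : Matrix (Fin n) (Fin n) S) (δ : A),
      (∀ i, algebraMap A S (θ i) = ∑ j, a i j * X j) ∧ algebraMap A S δ = a.det := by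
  classical
  have h1 : ∀ i, ∃ c : Fin n → S, ∑ j, c j * X j = algebraMap A S (θ i) :=
    fun i => (Ideal.mem_span_range_iff_exists_fun).1 (hθ i)
  choose c hc using h1
  let b : Matrix (Fin n) (Fin n) S := Matrix.of c
  obtain ⟨δ, hδ⟩ := exists_of_invariant (A := A) (avgMat ρ b).det
    (fun g => smul_det_avgMat ρ hdet hC b g)
  refine ⟨avgMat ρ b, δ, fun i => ?_, hδ⟩
  exact (avgMat_mulVec hG ρ hX b (fun i => algebraMap A S (θ i))
    (fun g i => smul_algebraMap' g (θ i)) (fun i => (hc i).symm) i).symm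

end Exists

end Groth.Agent.Helper7.Wat
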