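import Mathlib
import Groth.Agent.Helper7.WatE
import Groth.Agent.Helper3.EN1

/-!
# Watanabe's theorem: the ring of invariants (helper7)
-/

set_option autoImplicit false
set_option linter.unusedSectionVars false
universe u

namespace Groth.Agent.Helper7.Wat

open MvPolynomial

section Ring

variable {k : Type u} [Field k] {n : ℕ}
  {G : Type u} [Group G] [Fintype G] (hG : IsUnit ((Fintype.card G : ℕ) : k))
  (ρ : G →* Matrix.GeneralLinearGroup (Fin n) k)
  (hdet : ∀ g : G, Matrix.det ((ρ g : Matrix (Fin n) (Fin n) k)) = 1)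
  [MulSemiringAction G (MvPolynomial (Fin n) k)]
  (hC : ∀ (g : G) (c : k), g • (MvPolynomial.C c : MvPolynomial (Fin n) k) = MvPolynomial.C c)
  (hX : ∀ (g : G) (i : Fin n), g • (MvPolynomial.X i : MvPolynomial (Fin n) k) =
    ∑ j : Fin n, (ρ g : Matrix (Fin n) (Fin n) k) j i • (MvPolynomial.X j : MvPolynomial (Fin n) k))
  (A : Type u) [CommRing A] [Algebra A (MvPolynomial (Fin n) k)]
  [SMulCommClass G A (MvPolynomial (Fin n) k)] [Algebra.IsInvariant A (MvPolynomial (Fin n) k) G]
  [FaithfulSMul A (MvPolynomial (Fin n) k)]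

local notation "S" => MvPolynomial (Fin n) k

/-- the ideal of the origin -/
noncomputable abbrev Q0 (k : Type u) [Field k] (n : ℕ) : Ideal (MvPolynomial (Fin n) k) :=
  idealOfVars (Fin n) k

theorem mem_Q0_iff (p : S) : p ∈ Q0 k n ↔ constantCoeff p = 0 := by
  have h := mem_pow_idealOfVars_iff' (σ := Fin n) (R := k) 1 p
  rw [pow_one] at h
  rw [h]
  constructor
  · intro h0
    exact h0 0 (by simp)
  · intro h0 x hx
    have : x = 0 := by
      ext i
      have h1 : x i ≤ x.degree := Finsupp.le_degree i x
      have : x.degree = 0 := by omega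
      simp only [Finsupp.coe_zero, Pi.zero_apply]
      omega
    rw [this]
    exact h0

theorem Q0_eq_ker : Q0 k n = RingHom.ker (constantCoeff : S →+* k) := by
  ext p
  rw [mem_Q0_iff, RingHom.mem_ker]

instance Q0_isMaximal : (Q0 k n).IsMaximal := by
  rw [Q0_eq_ker]
  exact RingHom.ker_isMaximal_of_surjective _ (fun c => ⟨C c, by simp⟩)

include hX in
theorem smul_mem_Q0 (g : G) (s : S) (hs : s ∈ Q0 k n) : g • s ∈ Q0 k n := by
  induction hs using Submodule.span_induction with
  | mem s hs =>
    obtain ⟨j, rfl⟩ := hs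
    rw [hX]
    exact Ideal.sum_mem _ fun l _ =>
      Submodule.smul_of_tower_mem _ _ (Ideal.subset_span ⟨l, rfl⟩)
  | zero => simp
  | add s t _ _ hs ht => rw [smul_add]; exact Ideal.add_mem _ hs ht
  | smul c t _ ht =>
    rw [smul_eq_mul, smul_mul']
    exact Ideal.mul_mem_left _ _ ht

include hX in
theorem smul_mem_Q0_iff (g : G) (s : S) : g • s ∈ Q0 k n ↔ s ∈ Q0 k n := by
  refine ⟨fun h => ?_, smul_mem_Q0 ρ hX g s⟩
  have := smul_mem_Q0 ρ hX g⁻¹ _ h
  rwa [inv_smul_smul] at this

/-- the maximal ideal of the ring of invariants -/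
noncomputable abbrev mA : Ideal A := (Q0 k n).comap (algebraMap A S)

include hC in
theorem isIntegral_inv : Algebra.IsIntegral A S := Algebra.IsInvariant.isIntegral A S G

include hC in
theorem mA_isMaximal : (mA (k := k) (n := n) A).IsMaximal := by
  haveI := isIntegral_inv hC A
  exact Ideal.isMaximal_comap_of_isIntegral_of_isMaximal (Q0 k n)

include hC in
theorem adjoin_X_eq_top : Algebra.adjoin A (Set.range (X : Fin n → S)) = ⊤ := by
  rw [eq_top_iff]
  rintro p -
  induction p using MvPolynomial.induction_on with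
  | C c =>
    obtain ⟨a, ha⟩ := exists_of_invariant (A := A) (G := G) (C c : S) (fun g => hC g c)
    rw [← ha]
    exact Subalgebra.algebraMap_mem _ a
  | add p q hp hq => exact Subalgebra.add_mem _ hp hq
  | mul_X p i hp => exact Subalgebra.mul_mem _ hp (Algebra.subset_adjoin ⟨i, rfl⟩)

include hC in
theorem finiteType_inv : Algebra.FiniteType A S := by
  classical
  exact ⟨⟨Finset.univ.image X, by
    rw [Finset.coe_image, Finset.coe_univ, Set.image_univ]
    exact adjoin_X_eq_top (G := G) hC A⟩⟩

include hC in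
theorem finite_inv : Module.Finite A S := by
  haveI := isIntegral_inv hC A
  haveI := finiteType_inv (G := G) hC A
  exact Algebra.IsIntegral.finite

include hC in
theorem isNoetherianRing_inv : IsNoetherianRing A := by
  haveI := finite_inv (G := G) hC A
  exact Groth.Agent.Helper3.EakinNagata.isNoetherianRing_of_finite_injective A S
    (FaithfulSMul.algebraMap_injective A S)

include hX in
/-- the norm argument: every element outside the origin divides an invariant outside `mA` -/
theorem exists_dvd_of_notMem (u : S) (hu : u ∉ Q0 k n) :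
    ∃ a : A, a ∉ mA (k := k) (n := n) A ∧ u ∣ algebraMap A S a := by
  obtain ⟨a, ha⟩ := exists_of_invariant (A := A) (G := G) (∏ g : G, g • u) (fun h => by
    rw [Finset.smul_prod']
    simp only [smul_smul]
    exact Fintype.prod_bijective (fun g => h * g) (Group.mulLeft_bijective h) _ _ (fun g => rfl))
  refine ⟨a, ?_, ?_⟩
  · intro hmem
    have h1 : algebraMap A S a ∈ Q0 k n := hmem
    rw [ha, Ideal.IsPrime.prod_mem_iff] at h1
    obtain ⟨g, -, hg⟩ := h1
    exact hu ((smul_mem_Q0_iff ρ hX g u).1 hg)
  · rw [ha]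
    have : u = (1 : G) • u := (one_smul G u).symm
    conv_lhs => rw [this]
    exact Finset.dvd_prod_of_mem (fun g : G => g • u) (Finset.mem_univ 1)

end Ring

end Groth.Agent.Helper7.Wat
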