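import Mathlib
import Groth.Prelude.Def_CAlg
import Groth.Agent.Helper7.WatC
import Groth.Agent.Helper7.WatF
import Groth.Agent.Helper5.FtDim
import Groth.Agent.Helper5.RegLoc1
import Groth.Agent.S0341
import Groth.Agent.S0342

/-!
# Watanabe's theorem: the local ring of the invariants at the origin is Gorenstein (helper7)
-/

set_option autoImplicit false
set_option linter.unusedSectionVars false
set_option linter.style.haveILetI false
universe u

namespace Groth.Agent.Helper7.Wat

open MvPolynomial IsLocalRing RingTheory.Sequence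

section dim
variable {R S : Type*} [CommRing R] [CommRing S] [Algebra R S] [Algebra.IsIntegral R S]

theorem ringKrullDim_le_of_isIntegral''' : ringKrullDim S ≤ ringKrullDim R := by
  apply Order.krullDim_le_of_strictMono (PrimeSpectrum.comap (algebraMap R S))
  intro P Q hPQ
  have h : P.asIdeal < Q.asIdeal := hPQ
  have := Ideal.IsIntegral.comap_lt_comap (R := R) h
  exact this

theorem ringKrullDim_eq_of_isIntegral_of_injective'''
    (hinj : Function.Injective (algebraMap R S)) : ringKrullDim S = ringKrullDim R := by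
  refine le_antisymm ringKrullDim_le_of_isIntegral''' ?_
  have : FaithfulSMul R S := (faithfulSMul_iff_algebraMap_injective R S).mpr hinj
  apply iSup_le
  intro l
  obtain ⟨⟨P, hP, hPover⟩⟩ := Ideal.nonempty_primesOver (S := S) l.head.asIdeal
  obtain ⟨L, hlen, -, -⟩ := Ideal.exists_ltSeries_of_hasGoingUp l P
  rw [← hlen]
  exact Order.LTSeries.length_le_krullDim L

end dim

theorem krullDimLE_zero_quot {T : Type*} [CommRing T] [IsLocalRing T] (I : Ideal T)
    (h : ∀ P : Ideal T, P.IsPrime → I ≤ P → P = maximalIdeal T) :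
    Ring.KrullDimLE 0 (T ⧸ I) := by
  refine Ring.KrullDimLE.mk₀ fun P' hP' => ?_
  haveI := hP'
  have h1 := h (P'.comap (Ideal.Quotient.mk I)) inferInstance (by
    intro y hy
    rw [Ideal.mem_comap, Ideal.Quotient.eq_zero_iff_mem.2 hy]
    exact zero_mem _)
  have h2 := Ideal.map_eq_top_or_isMaximal_of_surjective (Ideal.Quotient.mk I)
    Ideal.Quotient.mk_surjective (h1 ▸ IsLocalRing.maximalIdeal.isMaximal _ :
      (P'.comap (Ideal.Quotient.mk I)).IsMaximal)
  rw [Ideal.map_comap_of_surjective _ Ideal.Quotient.mk_surjective] at h2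
  exact h2.resolve_left hP'.ne_top

section Local

variable {k : Type u} [Field k] {n : ℕ}
  {G : Type u} [Group G] [Fintype G] (hG : IsUnit ((Fintype.card G : ℕ) : k))
  (ρ : G →* Matrix.GeneralLinearGroup (Fin n) k)
  (hdet : ∀ g : G, Matrix.det ((ρ g : Matrix (Fin n) (Fin n) k)) = 1)
  [MulSemiringAction G (MvPolynomial (Fin n) k)]
  (hC : ∀ (g : G) (c : k), g • (MvPolynomial.C c : MvPolynomial (Fin n) k) = MvPolynomial.C c)
  (hX : ∀ (g : G) (i : Fin n), g • (MvPolynomial.X i : MvPolynomial (Fin n) k) =
    ∑ j : Fin n, (ρ g : Matrix (Fin n) (Fin n) k) j i • (MvPolynomial.X j : MvPolynomial (Fin n) k))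
  (A : Type u) [CommRing A] [Algebra A (MvPolynomial (Fin n) k)]
  [SMulCommClass G A (MvPolynomial (Fin n) k)] [Algebra.IsInvariant A (MvPolynomial (Fin n) k) G]
  [FaithfulSMul A (MvPolynomial (Fin n) k)]

local notation "S" => MvPolynomial (Fin n) k

/-- the localisation of the polynomial ring at the invariants outside `mA` -/
noncomputable abbrev TA : Type u :=
  Localization (Algebra.algebraMapSubmonoid S (mA (k := k) (n := n) A).primeCompl)

include hX in
theorem isLocalization_TA : IsLocalization.AtPrime (TA (k := k) (n := n) A) (Q0 k n) := by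
  refine IsLocalization.of_le_of_exists_dvd
    (Algebra.algebraMapSubmonoid S (mA (k := k) (n := n) A).primeCompl) _ ?_ ?_
  · rintro _ ⟨a, ha, rfl⟩
    exact ha
  · intro u hu
    obtain ⟨a, ha, hdvd⟩ := exists_dvd_of_notMem ρ hX A u hu
    exact ⟨_, ⟨a, ha, rfl⟩, hdvd⟩


include hX in
theorem isLocalRing_TA : IsLocalRing (TA (k := k) (n := n) A) := by
  haveI := isLocalization_TA ρ hX A
  exact IsLocalization.AtPrime.isLocalRing (TA (k := k) (n := n) A) (Q0 k n)

include hX in
theorem isRegularLocalRing_TA : IsRegularLocalRing (TA (k := k) (n := n) A) := by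
  haveI := isLocalization_TA ρ hX A
  exact IsRegularLocalRing.of_ringEquiv
    (IsLocalization.algEquiv (Q0 k n).primeCompl (Localization.AtPrime (Q0 k n))
      (TA (k := k) (n := n) A)).toRingEquiv

include hX in
theorem ringKrullDim_TA : ringKrullDim (TA (k := k) (n := n) A) = n := by
  haveI := isLocalization_TA ρ hX A
  rw [IsLocalization.AtPrime.ringKrullDim_eq_height (Q0 k n) (TA (k := k) (n := n) A),
    Groth.Agent.Helper5.FtDim.height_of_isMaximal_mvPolynomial k n (Q0 k n) inferInstance]
  rfl

include hX in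
theorem maximalIdeal_TA :
    haveI := isLocalRing_TA ρ hX A
    maximalIdeal (TA (k := k) (n := n) A) =
      Ideal.span (Set.range fun j : Fin n => algebraMap S (TA (k := k) (n := n) A) (X j)) := by
  haveI := isLocalization_TA ρ hX A
  haveI := isLocalRing_TA ρ hX A
  rw [← IsLocalization.AtPrime.map_eq_maximalIdeal (Q0 k n) (TA (k := k) (n := n) A)]
  unfold Q0
  rw [MvPolynomial.idealOfVars, Ideal.map_span, ← Set.range_comp]
  rfl


section Main

variable [hp : (mA (k := k) (n := n) A).IsPrime]

/-- the local ring of the invariants at the origin -/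
noncomputable abbrev RA : Type u := Localization.AtPrime (mA (k := k) (n := n) A)

/-- the localised Reynolds operator -/
noncomputable def reyLoc : TA (k := k) (n := n) A →ₗ[RA (k := k) (n := n) A] RA (k := k) (n := n) A :=
  IsLocalizedModule.mapExtendScalars (mA (k := k) (n := n) A).primeCompl
    (IsScalarTower.toAlgHom A S (TA (k := k) (n := n) A)).toLinearMap
    (Algebra.linearMap A (RA (k := k) (n := n) A)) (RA (k := k) (n := n) A) (rey (A := A) hC)

include hG in
theorem reyLoc_algebraMap (r : RA (k := k) (n := n) A) :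
    reyLoc hC A (algebraMap _ (TA (k := k) (n := n) A) r) = r := by
  have h1 : reyLoc hC A (1 : TA (k := k) (n := n) A) = 1 := by
    have : (1 : TA (k := k) (n := n) A) =
        (IsScalarTower.toAlgHom A S (TA (k := k) (n := n) A)).toLinearMap (algebraMap A S 1) := by
      simp
    rw [this, reyLoc, IsLocalizedModule.mapExtendScalars_apply_apply, IsLocalizedModule.map_apply,
      rey_algebraMap hG hC]
    simp
  rw [Algebra.algebraMap_eq_smul_one, map_smul, h1, smul_eq_mul, mul_one]


include hX in
/-- a prime of `T` containing a system of parameters of `A` at the origin is the maximal ideal -/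
theorem prime_eq_maximalIdeal (θ₀ : Fin n → A)
    (hmin : mA (k := k) (n := n) A ∈ (Ideal.span (Set.range θ₀)).minimalPrimes)
    (P : Ideal (TA (k := k) (n := n) A)) [P.IsPrime] [Module.Finite A S]
    (hP : ∀ i, algebraMap A (TA (k := k) (n := n) A) (θ₀ i) ∈ P) :
    haveI := isLocalRing_TA ρ hX A
    P = maximalIdeal (TA (k := k) (n := n) A) := by
  haveI := isLocalRing_TA ρ hX A
  have hle : Ideal.span (Set.range θ₀) ≤ P.comap (algebraMap A (TA (k := k) (n := n) A)) := by
    rw [Ideal.span_le]
    rintro _ ⟨i, rfl⟩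
    exact hP i
  have hle2 : P.comap (algebraMap A (TA (k := k) (n := n) A)) ≤ mA (k := k) (n := n) A := by
    intro a ha
    by_contra hna
    have hu : IsUnit (algebraMap S (TA (k := k) (n := n) A) (algebraMap A S a)) :=
      IsLocalization.map_units (TA (k := k) (n := n) A)
        (⟨algebraMap A S a, a, hna, rfl⟩ :
          Algebra.algebraMapSubmonoid S (mA (k := k) (n := n) A).primeCompl)
    rw [← IsScalarTower.algebraMap_apply] at hu
    exact (Ideal.IsPrime.ne_top ‹P.IsPrime›) (Ideal.eq_top_of_isUnit_mem _ ha hu)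
  have hle3 : mA (k := k) (n := n) A ≤ P.comap (algebraMap A (TA (k := k) (n := n) A)) :=
    hmin.2 ⟨inferInstance, hle⟩ hle2
  have hle4 : maximalIdeal (RA (k := k) (n := n) A) ≤
      P.comap (algebraMap (RA (k := k) (n := n) A) (TA (k := k) (n := n) A)) := by
    rw [← Localization.AtPrime.map_eq_maximalIdeal, Ideal.map_le_iff_le_comap, Ideal.comap_comap,
      ← IsScalarTower.algebraMap_eq]
    exact hle3
  have hmax : (P.comap (algebraMap (RA (k := k) (n := n) A) (TA (k := k) (n := n) A))).IsMaximal := by
    have := (IsLocalRing.maximalIdeal.isMaximal (RA (k := k) (n := n) A)).eq_of_le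
      (Ideal.IsPrime.ne_top inferInstance) hle4
    rw [← this]
    infer_instance
  have hPmax : P.IsMaximal :=
    Ideal.isMaximal_of_isIntegral_of_isMaximal_comap (R := RA (k := k) (n := n) A) P hmax
  exact IsLocalRing.eq_maximalIdeal hPmax


include hG hdet hC hX in
/-- **Watanabe, local form**: the local ring of the invariants at the origin is Gorenstein -/
theorem gorLocal_RA : LocCoh.IsGorensteinLocalRing (RA (k := k) (n := n) A) := by
  classical
  haveI hNoeA : IsNoetherianRing A := isNoetherianRing_inv (G := G) hC A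
  haveI hfin : Module.Finite A S := finite_inv (G := G) hC A
  haveI hlocT := isLocalization_TA ρ hX A
  haveI hLT : IsLocalRing (TA (k := k) (n := n) A) := isLocalRing_TA ρ hX A
  haveI hregT : IsRegularLocalRing (TA (k := k) (n := n) A) := isRegularLocalRing_TA ρ hX A
  haveI hGorT : LocCoh.IsGorensteinLocalRing (TA (k := k) (n := n) A) :=
    Groth.Agent.S0342.result (TA (k := k) (n := n) A)
  have hCMT : LocCoh.IsCohenMacaulayLocalRing (TA (k := k) (n := n) A) :=
    Groth.Agent.S0341.result (TA (k := k) (n := n) A)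
  -- injectivity
  have hinj : Function.Injective
      (algebraMap (RA (k := k) (n := n) A) (TA (k := k) (n := n) A)) := fun r r' h => by
    rw [← reyLoc_algebraMap hG hC A r, h, reyLoc_algebraMap hG hC A r']
  -- dimension
  have hdimR : ringKrullDim (RA (k := k) (n := n) A) = n := by
    rw [← ringKrullDim_eq_of_isIntegral_of_injective''' hinj, ringKrullDim_TA ρ hX A]
  have hht : (mA (k := k) (n := n) A).height = n := by
    have := IsLocalization.AtPrime.ringKrullDim_eq_height (mA (k := k) (n := n) A)
      (RA (k := k) (n := n) A)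
    rw [hdimR] at this
    exact_mod_cast this.symm
  obtain ⟨s, hmin, hcard⟩ :=
    Ideal.exists_finset_card_eq_height_of_isNoetherianRing (mA (k := k) (n := n) A)
  rw [hht] at hcard
  have hcard' : s.card = n := by exact_mod_cast hcard
  let e : Fin n ≃ s := (Finset.equivFinOfCardEq hcard').symm
  let θ₀ : Fin n → A := fun i => (e i : A)
  have hrange : Set.range θ₀ = (s : Set A) := by
    ext y
    constructor
    · rintro ⟨i, rfl⟩
      exact (e i).2
    · intro hy
      exact ⟨e.symm ⟨y, hy⟩, by simp [θ₀]⟩
  have hmin' : mA (k := k) (n := n) A ∈ (Ideal.span (Set.range θ₀)).minimalPrimes := by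
    rw [hrange]; exact hmin
  have hθ₀mem : ∀ i, θ₀ i ∈ mA (k := k) (n := n) A := fun i =>
    hmin'.1.2 (Ideal.subset_span ⟨i, rfl⟩)
  -- the matrix
  obtain ⟨a₀, δ₀, ha₀, hδ₀⟩ := exists_matrix hG ρ hdet hC hX θ₀ (fun i => hθ₀mem i)
  -- the data over the local rings
  let x : Fin n → TA (k := k) (n := n) A := fun j => algebraMap S _ (X j)
  let θ : Fin n → RA (k := k) (n := n) A := fun i => algebraMap A _ (θ₀ i)
  have hθT : ∀ i, algebraMap (RA (k := k) (n := n) A) (TA (k := k) (n := n) A) (θ i) =
      algebraMap A (TA (k := k) (n := n) A) (θ₀ i) := fun i =>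
    (IsScalarTower.algebraMap_apply A (RA (k := k) (n := n) A) (TA (k := k) (n := n) A) _).symm
  have hmT : maximalIdeal (TA (k := k) (n := n) A) = Ideal.span (Set.range x) :=
    maximalIdeal_TA ρ hX A
  -- the ideal generated by the parameters
  have hrad : maximalIdeal (TA (k := k) (n := n) A) ≤
      (Ideal.span (Set.range fun i =>
        algebraMap (RA (k := k) (n := n) A) (TA (k := k) (n := n) A) (θ i))).radical := by
    rw [Ideal.radical_eq_sInf]
    refine le_sInf ?_
    rintro P ⟨hPle, hPprime⟩
    haveI := hPprime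
    have := prime_eq_maximalIdeal ρ hX A θ₀ hmin' P (fun i => by
      rw [← hθT i]
      exact hPle (Ideal.subset_span ⟨i, rfl⟩))
    rw [this]
  have hprim : ∃ M : ℕ, (Ideal.span (Set.range x)) ^ M ≤
      Ideal.span (Set.range fun i =>
        algebraMap (RA (k := k) (n := n) A) (TA (k := k) (n := n) A) (θ i)) := by
    rw [← hmT]
    exact Ideal.exists_pow_le_of_le_radical_of_fg hrad (IsNoetherian.noetherian _)
  -- regularity
  have hreg : IsRegular (TA (k := k) (n := n) A)
      (List.ofFn fun i => algebraMap (RA (k := k) (n := n) A) (TA (k := k) (n := n) A) (θ i)) := by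
    rw [Groth.Agent.Helper5.RegLoc.isRegular_iff_dim (TA (k := k) (n := n) A) hCMT]
    · rw [List.length_ofFn, ringKrullDim_TA ρ hX A, Wiebe.ofList_ofFn]
      have h0 : Ring.KrullDimLE 0 ((TA (k := k) (n := n) A) ⧸ Ideal.span (Set.range fun i =>
          algebraMap (RA (k := k) (n := n) A) (TA (k := k) (n := n) A) (θ i))) := by
        refine krullDimLE_zero_quot _ fun P hPprime hPle => ?_
        haveI := hPprime
        exact prime_eq_maximalIdeal ρ hX A θ₀ hmin' P (fun i => by
          rw [← hθT i]
          exact hPle (Ideal.subset_span ⟨i, rfl⟩))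
      have h0' := Ring.krullDimLE_iff.1 h0
      calc _ ≤ (0 : WithBot ℕ∞) + (n : WithBot ℕ∞) := by gcongr; exact_mod_cast h0'
        _ = n := zero_add _
    · intro y hy
      rw [List.mem_ofFn] at hy
      obtain ⟨i, rfl⟩ := hy
      rw [hθT i, IsScalarTower.algebraMap_apply A S, hmT, ha₀ i, map_sum]
      refine Ideal.sum_mem _ fun j _ => ?_
      rw [map_mul]
      exact Ideal.mul_mem_left _ _ (Ideal.subset_span ⟨j, rfl⟩)
  have hmRT : maximalIdeal (RA (k := k) (n := n) A) ≤ (maximalIdeal (TA (k := k) (n := n) A)).comap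
      (algebraMap (RA (k := k) (n := n) A) (TA (k := k) (n := n) A)) := by
    rw [← Localization.AtPrime.map_eq_maximalIdeal, Ideal.map_le_iff_le_comap, Ideal.comap_comap,
      ← IsScalarTower.algebraMap_eq]
    intro a ha
    rw [Ideal.mem_comap, IsScalarTower.algebraMap_apply A S,
      ← IsLocalization.AtPrime.map_eq_maximalIdeal (Q0 k n) (TA (k := k) (n := n) A)]
    exact Ideal.mem_map_of_mem _ ha
  refine gorLocal_of_retract (reyLoc hC A) (reyLoc_algebraMap hG hC A) x θ
    (a₀.map (algebraMap S (TA (k := k) (n := n) A))) ?_ (algebraMap A _ δ₀) ?_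
    hreg.toIsWeaklyRegular ?_ ?_ hprim ?_
  · intro i
    rw [hθT i, IsScalarTower.algebraMap_apply A S, ha₀ i, map_sum]
    refine Finset.sum_congr rfl fun j _ => ?_
    rw [map_mul, Matrix.map_apply]
  · rw [← IsScalarTower.algebraMap_apply A (RA (k := k) (n := n) A) (TA (k := k) (n := n) A),
      IsScalarTower.algebraMap_apply A S (TA (k := k) (n := n) A), hδ₀, RingHom.map_det]
    rfl
  · rw [← hmT]
    exact IsLocalRing.maximalIdeal.isMaximal _
  · intro r hr
    rw [← hmT]
    exact hmRT hr
  · intro i
    exact (IsLocalization.AtPrime.to_map_mem_maximal_iff (RA (k := k) (n := n) A)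
      (mA (k := k) (n := n) A) (θ₀ i)).2 (hθ₀mem i)

end Main

end Local

end Groth.Agent.Helper7.Wat
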