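import Mathlib
import Groth.Prelude.Def_CAlg
import Groth.Prelude.Def_GrLC
import Groth.Agent.Helper6.GrCon
import Groth.Agent.Helper7.VerGor4
import Groth.Agent.Helper7.WatF

/-!
# Watanabe's theorem: the grading on the ring of invariants (helper7)
-/

set_option autoImplicit false
set_option linter.unusedSectionVars false
set_option linter.style.haveILetI false
universe u

namespace Groth.Agent.Helper7.Wat

open MvPolynomial DirectSum

section Grading

variable {k : Type u} [Field k] {n : ℕ}
  {G : Type u} [Group G] [Fintype G]
  (ρ : G →* Matrix.GeneralLinearGroup (Fin n) k)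
  [MulSemiringAction G (MvPolynomial (Fin n) k)]
  (hC : ∀ (g : G) (c : k), g • (MvPolynomial.C c : MvPolynomial (Fin n) k) = MvPolynomial.C c)
  (hX : ∀ (g : G) (i : Fin n), g • (MvPolynomial.X i : MvPolynomial (Fin n) k) =
    ∑ j : Fin n, (ρ g : Matrix (Fin n) (Fin n) k) j i • (MvPolynomial.X j : MvPolynomial (Fin n) k))
  (A : Type u) [CommRing A] [Algebra A (MvPolynomial (Fin n) k)]
  [SMulCommClass G A (MvPolynomial (Fin n) k)] [Algebra.IsInvariant A (MvPolynomial (Fin n) k) G]
  [FaithfulSMul A (MvPolynomial (Fin n) k)]

local notation "S" => MvPolynomial (Fin n) k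

include hC hX in
theorem smul_eq_aeval (g : G) (p : S) :
    g • p = aeval (fun i => ∑ j, (ρ g : Matrix (Fin n) (Fin n) k) j i • (X j : S)) p := by
  have h : MulSemiringAction.toRingHom G S g =
      ((aeval (fun i => ∑ j, (ρ g : Matrix (Fin n) (Fin n) k) j i • (X j : S)) :
        S →ₐ[k] S) : S →+* S) := by
    apply MvPolynomial.ringHom_ext
    · intro c
      simp [hC]
    · intro i
      simp [hX]
  exact RingHom.congr_fun h p

include hC hX in
theorem smul_isHomogeneous (g : G) {p : S} {d : ℕ} (hp : p.IsHomogeneous d) :
    (g • p).IsHomogeneous d := by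
  rw [smul_eq_aeval ρ hC hX]
  have := hp.aeval (n := 1) (fun i => ∑ j, (ρ g : Matrix (Fin n) (Fin n) k) j i • (X j : S))
    (fun i => IsHomogeneous.sum _ _ _ fun j _ => by
      rw [MvPolynomial.smul_eq_C_mul]
      exact (isHomogeneous_X k j).C_mul _)
  rwa [one_mul] at this

include hC hX in
theorem smul_homogeneousComponent (g : G) (d : ℕ) (p : S) :
    g • homogeneousComponent d p = homogeneousComponent d (g • p) := by
  conv_rhs => rw [← sum_homogeneousComponent p, Finset.smul_sum, map_sum]
  have : ∀ i ∈ Finset.range (p.totalDegree + 1),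
      homogeneousComponent d (g • homogeneousComponent i p) =
        if d = i then g • homogeneousComponent i p else 0 := fun i _ =>
    homogeneousComponent_of_mem
      (smul_isHomogeneous ρ hC hX g (homogeneousComponent_isHomogeneous i p))
  rw [Finset.sum_congr rfl this, Finset.sum_ite_eq]
  split_ifs with h
  · rfl
  · rw [homogeneousComponent_eq_zero, smul_zero]
    rw [Finset.mem_range] at h
    omega

include hC hX in
theorem exists_comp (d : ℕ) (a : A) :
    ∃ b : A, algebraMap A S b = homogeneousComponent d (algebraMap A S a) :=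
  exists_of_invariant (A := A) (G := G) _ (fun g => by
    rw [smul_homogeneousComponent ρ hC hX, smul_algebraMap'])

end Grading

/-- a ring of polynomials closed under homogeneous components and containing the constants -/
class HasComp {k : Type u} [Field k] {n : ℕ} (A : Type u) [CommRing A]
    [Algebra A (MvPolynomial (Fin n) k)] : Prop where
  comp : ∀ (d : ℕ) (a : A), ∃ b : A, algebraMap A (MvPolynomial (Fin n) k) b =
    homogeneousComponent d (algebraMap A (MvPolynomial (Fin n) k) a)
  const : ∀ c : k, ∃ b : A, algebraMap A (MvPolynomial (Fin n) k) b = C c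

section Gr

variable {k : Type u} [Field k] {n : ℕ}
  (A : Type u) [CommRing A] [Algebra A (MvPolynomial (Fin n) k)]
  [FaithfulSMul A (MvPolynomial (Fin n) k)]

local notation "S" => MvPolynomial (Fin n) k

/-- the grading of the ring of invariants -/
def gr (i : ℤ) : AddSubgroup A where
  carrier := {a | ∀ d : ℕ, (d : ℤ) ≠ i → homogeneousComponent d (algebraMap A S a) = 0}
  add_mem' := by
    intro a b ha hb d hd
    rw [map_add, map_add, ha d hd, hb d hd, add_zero]
  zero_mem' := by
    intro d _
    rw [map_zero, map_zero]
  neg_mem' := by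
    intro a ha d hd
    rw [map_neg, map_neg, ha d hd, neg_zero]

theorem mem_gr {i : ℤ} {a : A} : a ∈ gr (k := k) (n := n) A i ↔
    ∀ d : ℕ, (d : ℤ) ≠ i → homogeneousComponent d (algebraMap A S a) = 0 := Iff.rfl

theorem inj : Function.Injective (algebraMap A S) := FaithfulSMul.algebraMap_injective A S

theorem mem_gr_natCast {e : ℕ} {a : A} : a ∈ gr (k := k) (n := n) A (e : ℤ) ↔
    (algebraMap A S a).IsHomogeneous e := by
  constructor
  · intro h
    have h1 : algebraMap A S a = homogeneousComponent e (algebraMap A S a) := by
      conv_lhs => rw [← sum_homogeneousComponent (algebraMap A S a)]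
      by_cases he : e ∈ Finset.range ((algebraMap A S a).totalDegree + 1)
      · rw [Finset.sum_eq_single e]
        · intro b _ hb
          exact h b (by exact_mod_cast hb)
        · intro h'; exact absurd he h'
      · rw [Finset.sum_eq_zero, homogeneousComponent_eq_zero]
        · rw [Finset.mem_range] at he; omega
        · intro b hb
          exact h b (by rintro h'; apply he; rw [← Nat.cast_injective h']; exact hb)
    rw [h1]
    exact homogeneousComponent_isHomogeneous e _
  · intro h d hd
    rw [homogeneousComponent_of_mem h, if_neg]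
    intro h'
    exact hd (by rw [h'])

theorem eq_zero_of_mem_gr_neg {i : ℤ} (hi : i < 0) {a : A} (ha : a ∈ gr (k := k) (n := n) A i) :
    a = 0 := by
  apply inj (k := k) (n := n) A
  rw [map_zero, ← sum_homogeneousComponent (algebraMap A S a)]
  exact Finset.sum_eq_zero fun d _ => ha d (by omega)

variable [hA : HasComp (k := k) (n := n) A]
variable (k n)

/-- the homogeneous component of degree `d : ℕ` -/
noncomputable def compN (d : ℕ) (a : A) : A := (hA.comp d a).choose

theorem algebraMap_compN (d : ℕ) (a : A) :
    algebraMap A S (compN k n A d a) = homogeneousComponent d (algebraMap A S a) :=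
  (hA.comp d a).choose_spec

/-- the homogeneous component of degree `i : ℤ` -/
noncomputable def proj (i : ℤ) (a : A) : A := if 0 ≤ i then compN k n A i.toNat a else 0

theorem proj_of_nonneg {i : ℤ} (hi : 0 ≤ i) (a : A) :
    proj k n A i a = compN k n A i.toNat a := if_pos hi

theorem proj_of_neg {i : ℤ} (hi : ¬ 0 ≤ i) (a : A) : proj k n A i a = 0 := if_neg hi

theorem proj_natCast (d : ℕ) (a : A) : proj k n A (d : ℤ) a = compN k n A d a := by
  rw [proj_of_nonneg k n A (Int.natCast_nonneg d), Int.toNat_natCast]

theorem compN_mem (d : ℕ) (a : A) : compN k n A d a ∈ gr (k := k) (n := n) A (d : ℤ) := by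
  rw [mem_gr_natCast, algebraMap_compN]
  exact homogeneousComponent_isHomogeneous d _

theorem proj_mem (i : ℤ) (a : A) : proj k n A i a ∈ gr (k := k) (n := n) A i := by
  by_cases hi : 0 ≤ i
  · rw [proj_of_nonneg k n A hi]
    have := compN_mem k n A i.toNat a
    rwa [Int.toNat_of_nonneg hi] at this
  · rw [proj_of_neg k n A hi]
    exact zero_mem _

theorem proj_same {i : ℤ} {a : A} (ha : a ∈ gr (k := k) (n := n) A i) : proj k n A i a = a := by
  by_cases hi : 0 ≤ i
  · rw [proj_of_nonneg k n A hi]
    apply inj (k := k) (n := n) A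
    rw [algebraMap_compN]
    lift i to ℕ using hi
    rw [Int.toNat_natCast]
    exact homogeneousComponent_eq_self ((mem_gr_natCast A).1 ha)
  · rw [proj_of_neg k n A hi]
    exact (eq_zero_of_mem_gr_neg A (by omega) ha).symm

theorem proj_ne {i j : ℤ} {a : A} (ha : a ∈ gr (k := k) (n := n) A i) (hij : i ≠ j) :
    proj k n A j a = 0 := by
  by_cases hj : 0 ≤ j
  · rw [proj_of_nonneg k n A hj]
    apply inj (k := k) (n := n) A
    rw [algebraMap_compN, map_zero]
    exact ha j.toNat (by rw [Int.toNat_of_nonneg hj]; exact hij.symm)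
  · exact proj_of_neg k n A hj a

theorem proj_add (j : ℤ) (a b : A) :
    proj k n A j (a + b) = proj k n A j a + proj k n A j b := by
  by_cases hj : 0 ≤ j
  · rw [proj_of_nonneg k n A hj, proj_of_nonneg k n A hj, proj_of_nonneg k n A hj]
    apply inj (k := k) (n := n) A
    rw [map_add, algebraMap_compN, algebraMap_compN, algebraMap_compN, map_add, map_add]
  · rw [proj_of_neg k n A hj, proj_of_neg k n A hj, proj_of_neg k n A hj, add_zero]

theorem sum_proj (a : A) :
    ∑ i ∈ (Finset.range ((algebraMap A S a).totalDegree + 1)).image (Nat.cast : ℕ → ℤ),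
      proj k n A i a = a := by
  rw [Finset.sum_image (fun a _ b _ h => Nat.cast_injective h)]
  apply inj (k := k) (n := n) A
  rw [map_sum]
  simp_rw [proj_natCast, algebraMap_compN]
  exact sum_homogeneousComponent _

instance gradedMonoid : SetLike.GradedMonoid (gr (k := k) (n := n) A) where
  one_mem := by
    have : (1 : A) ∈ gr (k := k) (n := n) A ((0 : ℕ) : ℤ) := by
      rw [mem_gr_natCast, map_one]
      exact isHomogeneous_one _ _
    exact this
  mul_mem := by
    intro i j a b ha hb
    by_cases hi : 0 ≤ i
    · by_cases hj : 0 ≤ j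
      · lift i to ℕ using hi
        lift j to ℕ using hj
        rw [mem_gr_natCast] at ha hb
        have : a * b ∈ gr (k := k) (n := n) A ((i + j : ℕ) : ℤ) := by
          rw [mem_gr_natCast, map_mul]
          exact ha.mul hb
        rwa [Nat.cast_add] at this
      · rw [eq_zero_of_mem_gr_neg A (by omega) hb, mul_zero]
        exact zero_mem _
    · rw [eq_zero_of_mem_gr_neg A (by omega) ha, zero_mul]
      exact zero_mem _

theorem isInternal : DirectSum.IsInternal (gr (k := k) (n := n) A) :=
  Groth.Agent.Helper6.GrCon.isInternal_of_proj (gr (k := k) (n := n) A) (proj k n A)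
    (fun i x => proj_mem k n A i x) (fun i x hx => proj_same k n A hx)
    (fun i j x hx hij => proj_ne k n A hx hij) (fun j x y => proj_add k n A j x y)
    (fun x => ⟨_, sum_proj k n A x⟩)

noncomputable instance decomposition : DirectSum.Decomposition (gr (k := k) (n := n) A) :=
  (isInternal k n A).chooseDecomposition

noncomputable instance gradedRing : GradedRing (gr (k := k) (n := n) A) :=
  { gradedMonoid k n A, decomposition k n A with }


theorem decompose_eq (a : A) (j : ℤ) :
    (decompose (gr (k := k) (n := n) A) a j : A) = proj k n A j a := by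
  classical
  have h := Groth.Agent.Helper6.GrCon.decompose_eq_of_sum (gr (k := k) (n := n) A) (x := a)
    (s := (Finset.range ((algebraMap A S a).totalDegree + 1)).image (Nat.cast : ℕ → ℤ))
    (y := fun i => proj k n A i a)
    (fun i => proj_mem k n A i a) (sum_proj k n A a).symm j
  rw [h]
  split_ifs with hj
  · rfl
  · by_cases hj0 : 0 ≤ j
    · rw [proj_of_nonneg k n A hj0]
      apply inj (k := k) (n := n) A
      rw [algebraMap_compN, map_zero, homogeneousComponent_eq_zero]
      by_contra hlt
      apply hj
      rw [Finset.mem_image]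
      exact ⟨j.toNat, Finset.mem_range.2 (by omega), Int.toNat_of_nonneg hj0⟩
    · rw [proj_of_neg k n A hj0]

theorem hpos : ∀ i : ℤ, i < 0 → gr (k := k) (n := n) A i = ⊥ := by
  intro i hi
  rw [eq_bot_iff]
  intro a ha
  rw [AddSubgroup.mem_bot]
  exact eq_zero_of_mem_gr_neg A hi ha

/-- elements of degree zero are constants -/
theorem algebraMap_of_mem_zero {a : A} (ha : a ∈ gr (k := k) (n := n) A 0) :
    algebraMap A S a = C (constantCoeff (algebraMap A S a)) := by
  have h : (algebraMap A S a).IsHomogeneous 0 := (mem_gr_natCast (e := 0) A).1 ha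
  conv_lhs => rw [← homogeneousComponent_eq_self h, homogeneousComponent_zero]
  rfl

theorem mem_zero_of_algebraMap {a : A} {c : k} (h : algebraMap A S a = C c) :
    a ∈ gr (k := k) (n := n) A 0 := by
  have : a ∈ gr (k := k) (n := n) A ((0 : ℕ) : ℤ) := by
    rw [mem_gr_natCast, h]
    exact isHomogeneous_C _ c
  exact this

theorem h0 : IsField (GrLC.deg0 (gr (k := k) (n := n) A)) := by
  refine ⟨⟨0, 1, fun h => ?_⟩, mul_comm, ?_⟩
  · have h1 : (0 : A) = 1 := congrArg Subtype.val h
    have h2 := congrArg (algebraMap A S) h1
    rw [map_zero, map_one] at h2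
    exact zero_ne_one h2
  · intro a ha
    have hc := algebraMap_of_mem_zero k n A (a := (a : A)) a.2
    have hc0 : constantCoeff (algebraMap A S (a : A)) ≠ 0 := by
      intro h
      apply ha
      apply Subtype.ext
      apply inj (k := k) (n := n) A
      rw [hc, h, map_zero]
      simp
    obtain ⟨b, hb⟩ := hA.const (constantCoeff (algebraMap A S (a : A)))⁻¹
    refine ⟨⟨b, mem_zero_of_algebraMap k n A hb⟩, ?_⟩
    apply Subtype.ext
    show (a : A) * b = 1
    apply inj (k := k) (n := n) A
    rw [map_mul, hb, hc, ← C_mul, map_one]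
    simp only [constantCoeff_C]
    rw [mul_inv_cancel₀ hc0, C_1]

/-- the *maximal ideal: the invariants without constant term -/
theorem mem_irrel_iff (a : A) :
    a ∈ (Groth.Agent.Helper7.VerGor.irrel (gr (k := k) (n := n) A)).toIdeal ↔
      constantCoeff (algebraMap A S a) = 0 := by
  constructor
  · intro ha
    have h := Groth.Agent.Helper7.VerGor.decompose_zero_of_mem_irr (gr (k := k) (n := n) A)
      (hpos k n A) ha
    rw [decompose_eq, proj_of_nonneg k n A le_rfl] at h
    have h2 := congrArg (fun q : A => constantCoeff (algebraMap A S q)) h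
    simp only [algebraMap_compN, Int.toNat_zero, homogeneousComponent_zero, map_zero] at h2
    simp only [constantCoeff_C] at h2
    exact h2
  · intro ha
    apply Groth.Agent.Helper7.VerGor.mem_irr_of_decompose_zero (gr (k := k) (n := n) A) (hpos k n A)
    rw [decompose_eq, proj_of_nonneg k n A le_rfl]
    apply inj (k := k) (n := n) A
    rw [algebraMap_compN, Int.toNat_zero, homogeneousComponent_zero, map_zero]
    have : coeff 0 (algebraMap A S a) = 0 := ha
    rw [this, map_zero]

theorem irrel_eq_mA :
    (Groth.Agent.Helper7.VerGor.irrel (gr (k := k) (n := n) A)).toIdeal =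
      mA (k := k) (n := n) A := by
  ext a
  rw [mem_irrel_iff, Ideal.mem_comap, mem_Q0_iff]

theorem isStarLocal :
    GrLC.IsStarLocal (gr (k := k) (n := n) A)
      (Groth.Agent.Helper7.VerGor.irrel (gr (k := k) (n := n) A)) :=
  Groth.Agent.Helper7.VerGor.isStarLocal_irr (gr (k := k) (n := n) A) (hpos k n A) (h0 k n A)

end Gr

end Groth.Agent.Helper7.Wat
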