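import Mathlib
import Groth.Prelude.Def_CAlg
import Groth.Prelude.Def_GrLC
import Groth.Agent.Helper7.WatG
import Groth.Agent.Helper7.WatH
import Groth.Agent.Helper7.GrGor5

/-!
# Watanabe's theorem: the ring of invariants of a finite subgroup of `SL_n` is Gorenstein (helper7)
-/

set_option autoImplicit false
set_option linter.unusedSectionVars false
set_option linter.style.haveILetI false
universe u

namespace Groth.Agent.Helper7.Wat

open MvPolynomial

section Final

variable {k : Type u} [Field k] {n : ℕ}
  {G : Type u} [Group G] [Fintype G] (hG : IsUnit ((Fintype.card G : ℕ) : k))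
  (ρ : G →* Matrix.GeneralLinearGroup (Fin n) k)
  (hdet : ∀ g : G, Matrix.det ((ρ g : Matrix (Fin n) (Fin n) k)) = 1)
  [MulSemiringAction G (MvPolynomial (Fin n) k)]
  (hC : ∀ (g : G) (c : k), g • (MvPolynomial.C c : MvPolynomial (Fin n) k) = MvPolynomial.C c)
  (hX : ∀ (g : G) (i : Fin n), g • (MvPolynomial.X i : MvPolynomial (Fin n) k) =
    ∑ j : Fin n, (ρ g : Matrix (Fin n) (Fin n) k) j i • (MvPolynomial.X j : MvPolynomial (Fin n) k))
  (A : Type u) [CommRing A] [Algebra A (MvPolynomial (Fin n) k)]
  [SMulCommClass G A (MvPolynomial (Fin n) k)] [Algebra.IsInvariant A (MvPolynomial (Fin n) k) G]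
  [FaithfulSMul A (MvPolynomial (Fin n) k)]

local notation "S" => MvPolynomial (Fin n) k

include hC hX in
theorem hasComp : HasComp (k := k) (n := n) A :=
  ⟨exists_comp ρ hC hX A, fun c =>
    exists_of_invariant (A := A) (G := G) (C c : S) (fun g => hC g c)⟩

include hG hdet hC hX in
/-- **Watanabe's theorem** -/
theorem isGorensteinRing_inv : LocCoh.IsGorensteinRing A := by
  haveI := hasComp ρ hC hX A
  haveI : IsNoetherianRing A := isNoetherianRing_inv (G := G) hC A
  have hmax := mA_isMaximal (G := G) hC A
  have key : ∀ (I : Ideal A) [I.IsPrime], I = mA (k := k) (n := n) A →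
      LocCoh.IsGorensteinLocalRing (Localization.AtPrime I) := by
    intro I _ h
    subst h
    exact gorLocal_RA hG ρ hdet hC hX A
  haveI : (Groth.Agent.Helper7.VerGor.irrel (gr (k := k) (n := n) A)).toIdeal.IsPrime := by
    rw [irrel_eq_mA]
    exact hmax.isPrime
  exact Groth.Agent.Helper7.GrGor.isGorensteinRing_of_local (gr (k := k) (n := n) A)
    (Groth.Agent.Helper7.VerGor.irrel (gr (k := k) (n := n) A)) (isStarLocal k n A)
    (key _ (irrel_eq_mA k n A))

end Final

end Groth.Agent.Helper7.Wat
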