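import Mathlib

/-!
# Generic algebra for the complete-intersection presentation of minimal central orders
-/

namespace Groth.Agent.Helper7.WeilGor

open Submodule

section Span

variable {A : Type*} [CommRing A] (f v : A) (D : ℕ)

/-- the set `{f^i, i < D} ∪ {v^j, 1 ≤ j ≤ D}` -/
def gens : Set A := {x | ∃ i, i < D ∧ x = f ^ i} ∪ {x | ∃ j, 1 ≤ j ∧ j ≤ D ∧ x = v ^ j}

/-- the set `{f^i, i < D} ∪ {v^j, 1 ≤ j < D}` -/
def gens₀ : Set A := {x | ∃ i, i < D ∧ x = f ^ i} ∪ {x | ∃ j, 1 ≤ j ∧ j < D ∧ x = v ^ j}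

theorem gens₀_subset : gens₀ f v D ⊆ gens f v D := by
  rintro x (⟨i, hi, rfl⟩ | ⟨j, h1, h2, rfl⟩)
  · exact Or.inl ⟨i, hi, rfl⟩
  · exact Or.inr ⟨j, h1, h2.le, rfl⟩

variable {f v D}

theorem f_pow_mem {i : ℕ} (hi : i < D) : f ^ i ∈ span ℤ (gens f v D) :=
  subset_span (Or.inl ⟨i, hi, rfl⟩)

theorem v_pow_mem {j : ℕ} (h1 : 1 ≤ j) (h2 : j ≤ D) : v ^ j ∈ span ℤ (gens f v D) :=
  subset_span (Or.inr ⟨j, h1, h2, rfl⟩)

theorem intCast_mul_mem {x : A} (hx : x ∈ span ℤ (gens f v D)) (n : ℤ) :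
    (n : A) * x ∈ span ℤ (gens f v D) := by
  rw [← zsmul_eq_mul]
  exact Submodule.smul_mem _ n hx

variable (q : ℤ) (hD : 0 < D) (hfv : f * v = (q : A))

include hD hfv in
theorem v_mul_mem₀ {x : A} (hx : x ∈ span ℤ (gens₀ f v D)) : v * x ∈ span ℤ (gens f v D) := by
  induction hx using Submodule.span_induction with
  | mem x hx =>
    rcases hx with ⟨i, hi, rfl⟩ | ⟨j, h1, h2, rfl⟩
    · rcases Nat.eq_zero_or_pos i with rfl | hpos
      · rw [pow_zero, mul_one]
        have := v_pow_mem (f := f) (v := v) (D := D) (j := 1) le_rfl hD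
        simpa using this
      · obtain ⟨k, rfl⟩ : ∃ k, i = k + 1 := ⟨i - 1, by omega⟩
        have : v * f ^ (k + 1) = (q : A) * f ^ k := by
          rw [pow_succ, ← hfv]; ring
        rw [this]
        exact intCast_mul_mem (f_pow_mem (by omega)) q
    · have : v * v ^ j = v ^ (j + 1) := by ring
      rw [this]
      exact v_pow_mem (by omega) (by omega)
  | zero => simp
  | add x y _ _ hx hy => rw [mul_add]; exact Submodule.add_mem _ hx hy
  | smul n x _ hx => rw [mul_smul_comm]; exact Submodule.smul_mem _ n hx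

variable (ε : ℤ) (hε : ε * ε = 1) (w : A) (hw : w ∈ span ℤ (gens₀ f v D))
  (hrel : f ^ D + (ε : A) * v ^ D + w = 0)

include hD hw hrel in
theorem f_pow_D_mem : f ^ D ∈ span ℤ (gens f v D) := by
  have h : f ^ D = -((ε : A) * v ^ D) - w := by
    linear_combination hrel
  rw [h]
  refine Submodule.sub_mem _ (Submodule.neg_mem _ (intCast_mul_mem (v_pow_mem hD le_rfl) ε)) ?_
  exact span_mono (gens₀_subset f v D) hw

include hD hfv hε hw hrel in
theorem v_pow_succ_D_mem : v ^ (D + 1) ∈ span ℤ (gens f v D) := by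
  have hε' : (ε : A) * (ε : A) = 1 := by
    rw [← Int.cast_mul, hε, Int.cast_one]
  obtain ⟨k, rfl⟩ : ∃ k, D = k + 1 := ⟨D - 1, by omega⟩
  have h : v ^ (k + 1 + 1) = -((ε : A) * ((q : A) * f ^ k)) - (ε : A) * (v * w) := by
    have h1 : v * f ^ (k + 1) = (q : A) * f ^ k := by
      rw [pow_succ, ← hfv]; ring
    linear_combination (ε : A) * v * hrel - (ε : A) * h1 - v ^ (k + 1 + 1) * hε'
  rw [h]
  refine Submodule.sub_mem _ (Submodule.neg_mem _ (intCast_mul_mem (intCast_mul_mem (f_pow_mem (by omega)) q) ε)) ?_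
  exact intCast_mul_mem (v_mul_mem₀ q hD hfv hw) ε

include hD hfv hw hrel in
theorem f_mul_mem {x : A} (hx : x ∈ span ℤ (gens f v D)) : f * x ∈ span ℤ (gens f v D) := by
  induction hx using Submodule.span_induction with
  | mem x hx =>
    rcases hx with ⟨i, hi, rfl⟩ | ⟨j, h1, h2, rfl⟩
    · have : f * f ^ i = f ^ (i + 1) := by ring
      rw [this]
      rcases Nat.lt_or_ge (i + 1) D with h | h
      · exact f_pow_mem h
      · have : i + 1 = D := by omega
        rw [this]
        exact f_pow_D_mem hD ε w hw hrel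
    · obtain ⟨k, rfl⟩ : ∃ k, j = k + 1 := ⟨j - 1, by omega⟩
      have : f * v ^ (k + 1) = (q : A) * v ^ k := by
        rw [pow_succ, ← hfv]; ring
      rw [this]
      rcases Nat.eq_zero_or_pos k with rfl | hpos
      · rw [pow_zero]
        have := f_pow_mem (f := f) (v := v) (D := D) (i := 0) hD
        rw [pow_zero] at this
        exact intCast_mul_mem this q
      · exact intCast_mul_mem (v_pow_mem hpos (by omega)) q
  | zero => simp
  | add x y _ _ hx hy => rw [mul_add]; exact Submodule.add_mem _ hx hy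
  | smul n x _ hx => rw [mul_smul_comm]; exact Submodule.smul_mem _ n hx

include hD hfv hε hw hrel in
theorem v_mul_mem {x : A} (hx : x ∈ span ℤ (gens f v D)) : v * x ∈ span ℤ (gens f v D) := by
  induction hx using Submodule.span_induction with
  | mem x hx =>
    rcases hx with ⟨i, hi, rfl⟩ | ⟨j, h1, h2, rfl⟩
    · exact v_mul_mem₀ q hD hfv (subset_span (Or.inl ⟨i, hi, rfl⟩))
    · have : v * v ^ j = v ^ (j + 1) := by ring
      rw [this]
      rcases Nat.lt_or_ge j D with h | h
      · exact v_pow_mem (by omega) (by omega)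
      · have : j = D := by omega
        rw [this]
        exact v_pow_succ_D_mem q hD hfv ε hε w hw hrel
  | zero => simp
  | add x y _ _ hx hy => rw [mul_add]; exact Submodule.add_mem _ hx hy
  | smul n x _ hx => rw [mul_smul_comm]; exact Submodule.smul_mem _ n hx

include hD hfv hε hw hrel in
/-- **spanning lemma** -/
theorem span_gens_eq_top (hgen : Algebra.adjoin ℤ ({f, v} : Set A) = ⊤) :
    span ℤ (gens f v D) = ⊤ := by
  rw [eq_top_iff]
  intro a _
  have key : ∀ a ∈ Algebra.adjoin ℤ ({f, v} : Set A), ∀ x ∈ span ℤ (gens f v D),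
      a * x ∈ span ℤ (gens f v D) := by
    intro a ha
    induction ha using Algebra.adjoin_induction with
    | mem a ha =>
      intro x hx
      rcases ha with rfl | rfl
      · exact f_mul_mem q hD hfv ε w hw hrel hx
      · exact v_mul_mem q hD hfv ε hε w hw hrel hx
    | algebraMap n =>
      intro x hx
      rw [algebraMap_int_eq, eq_intCast]
      exact intCast_mul_mem hx n
    | add a b _ _ ha hb =>
      intro x hx
      rw [add_mul]
      exact Submodule.add_mem _ (ha x hx) (hb x hx)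
    | mul a b _ _ ha hb =>
      intro x hx
      rw [mul_assoc]
      exact ha _ (hb x hx)
  have h1 : (1 : A) ∈ span ℤ (gens f v D) := by
    have := f_pow_mem (f := f) (v := v) (D := D) (i := 0) hD
    rwa [pow_zero] at this
  have := key a (by rw [hgen]; trivial) 1 h1
  rwa [mul_one] at this

end Span

section Count

/-- the indexed family `f^i (i < D)`, `v^(j+1) (j < D)` -/
def fam {A : Type*} [CommRing A] (f v : A) (D : ℕ) : Fin D ⊕ Fin D → A :=
  Sum.elim (fun i => f ^ (i : ℕ)) (fun j => v ^ ((j : ℕ) + 1))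

theorem range_fam {A : Type*} [CommRing A] (f v : A) (D : ℕ) :
    Set.range (fam f v D) = gens f v D := by
  ext x
  constructor
  · rintro ⟨i | j, rfl⟩
    · exact Or.inl ⟨i, i.2, rfl⟩
    · exact Or.inr ⟨(j : ℕ) + 1, by omega, by have := j.2; omega, rfl⟩
  · rintro (⟨i, hi, rfl⟩ | ⟨j, h1, h2, rfl⟩)
    · exact ⟨Sum.inl ⟨i, hi⟩, rfl⟩
    · refine ⟨Sum.inr ⟨j - 1, by omega⟩, ?_⟩
      simp only [fam, Sum.elim_inr]
      congr 1
      omega

/-- a surjection from a module spanned by `n` elements onto a free module of rank `≥ n` is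
injective, and the rank is `n` -/
theorem injective_of_span {A R : Type*} [AddCommGroup A] [AddCommGroup R]
    [Module.Free ℤ R] [Module.Finite ℤ R] {ι : Type*} [Fintype ι] (g : ι → A)
    (hg : span ℤ (Set.range g) = ⊤) (ψ : A →ₗ[ℤ] R) (hψ : Function.Surjective ψ)
    (hcard : Fintype.card ι ≤ Module.finrank ℤ R) :
    Function.Injective ψ ∧ Module.finrank ℤ R = Fintype.card ι := by
  have hs : Function.Surjective (Fintype.linearCombination ℤ g) :=
    (span_range_eq_top_iff_surjective_fintypeLinearCombination (R := ℤ) (v := g)).mp hg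
  have hsurj : Function.Surjective (ψ ∘ₗ Fintype.linearCombination ℤ g) := hψ.comp hs
  have hle : Module.finrank ℤ R ≤ Module.finrank ℤ (ι → ℤ) :=
    LinearMap.finrank_le_finrank_of_surjective hsurj
  have hfr : Module.finrank ℤ (ι → ℤ) = Fintype.card ι := Module.finrank_fintype_fun_eq_card ℤ
  have heq : Module.finrank ℤ R = Fintype.card ι := le_antisymm (hfr ▸ hle) hcard
  refine ⟨?_, heq⟩
  obtain ⟨i⟩ : Nonempty ((ι → ℤ) ≃ₗ[ℤ] R) :=
    FiniteDimensional.nonempty_linearEquiv_of_finrank_eq (by rw [hfr, heq])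
  have hinj : Function.Injective (ψ ∘ₗ Fintype.linearCombination ℤ g) :=
    OrzechProperty.injective_of_surjective_of_injective i.toLinearMap _ i.injective hsurj
  intro x y hxy
  obtain ⟨a, rfl⟩ := hs x
  obtain ⟨b, rfl⟩ := hs y
  have : a = b := hinj hxy
  rw [this]

end Count

section Ident

variable {S : Type*} [CommRing S] (f v : S) (D : ℕ) (a : ℕ → ℤ) (ε : ℤ)

/-- the value of the symmetric polynomial `h` at `(f, v)` -/
def hval : S :=
  ∑ m ∈ Finset.range (D + 1), (a (D + m) : S) * f ^ m +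
    (ε : S) * ∑ m ∈ Finset.range D, (a (D + m + 1) : S) * v ^ (m + 1)

theorem map_hval {T : Type*} [CommRing T] (φ : S →+* T) :
    φ (hval f v D a ε) = hval (φ f) (φ v) D a ε := by
  simp only [hval, map_add, map_sum, map_mul, map_pow, map_intCast]

variable {f v}

theorem pow_mul_hval (q : ℤ) (hfv : f * v = (q : S))
    (hsym : ∀ m, m < D → a (D - 1 - m) = ε * a (D + m + 1) * q ^ (m + 1)) :
    f ^ D * hval f v D a ε = ∑ k ∈ Finset.range (2 * D + 1), (a k : S) * f ^ k := by
  have h2 : 2 * D + 1 = D + (D + 1) := by ring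
  rw [h2, Finset.sum_range_add, ← Finset.sum_range_reflect (fun k => (a k : S) * f ^ k) D]
  rw [hval, mul_add, Finset.mul_sum, add_comm]
  congr 1
  · rw [← mul_assoc, mul_comm (f ^ D), mul_assoc, Finset.mul_sum, Finset.mul_sum]
    refine Finset.sum_congr rfl (fun m hm => ?_)
    rw [Finset.mem_range] at hm
    rw [hsym m hm]
    have h3 : f ^ D = f ^ (D - 1 - m) * f ^ (m + 1) := by
      rw [← pow_add]
      congr 1
      omega
    have h4 : f ^ (m + 1) * v ^ (m + 1) = (q : S) ^ (m + 1) := by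
      rw [← mul_pow, hfv]
    push_cast
    rw [h3]
    linear_combination (ε : S) * (a (D + m + 1) : S) * f ^ (D - 1 - m) * h4
  · refine Finset.sum_congr rfl (fun m _ => ?_)
    rw [pow_add]
    ring

theorem hval_decomp (k : ℕ) (ha : a (2 * (k + 1)) = 1) :
    hval f v (k + 1) a ε = f ^ (k + 1) + (ε : S) * v ^ (k + 1) +
      (∑ m ∈ Finset.range (k + 1), (a (k + 1 + m) : S) * f ^ m +
        (ε : S) * ∑ m ∈ Finset.range k, (a (k + 1 + m + 1) : S) * v ^ (m + 1)) := by
  have h1 : k + 1 + (k + 1) = 2 * (k + 1) := by ring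
  have h2 : k + 1 + k + 1 = 2 * (k + 1) := by ring
  rw [hval, Finset.sum_range_succ (fun m => (a (k + 1 + m) : S) * f ^ m) (k + 1),
    Finset.sum_range_succ (fun m => (a (k + 1 + m + 1) : S) * v ^ (m + 1)) k, h1, h2, ha]
  push_cast
  ring

theorem hval_rest_mem (k : ℕ) :
    (∑ m ∈ Finset.range (k + 1), (a (k + 1 + m) : S) * f ^ m +
        (ε : S) * ∑ m ∈ Finset.range k, (a (k + 1 + m + 1) : S) * v ^ (m + 1)) ∈
      span ℤ (gens₀ f v (k + 1)) := by
  refine Submodule.add_mem _ (Submodule.sum_mem _ (fun m hm => ?_)) ?_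
  · rw [Finset.mem_range] at hm
    rw [← zsmul_eq_mul]
    exact Submodule.smul_mem _ _ (subset_span (Or.inl ⟨m, hm, rfl⟩))
  · rw [← zsmul_eq_mul]
    refine Submodule.smul_mem _ _ (Submodule.sum_mem _ (fun m hm => ?_))
    rw [Finset.mem_range] at hm
    rw [← zsmul_eq_mul]
    exact Submodule.smul_mem _ _ (subset_span (Or.inr ⟨m + 1, by omega, by omega, rfl⟩))

/-- if `hval = 0` then the `2D` elements span -/
theorem span_gens_eq_top_of_hval (q : ℤ) (hD : 0 < D) (hfv : f * v = (q : S)) (hε : ε * ε = 1)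
    (ha : a (2 * D) = 1) (hrel : hval f v D a ε = 0)
    (hgen : Algebra.adjoin ℤ ({f, v} : Set S) = ⊤) : span ℤ (gens f v D) = ⊤ := by
  obtain ⟨k, rfl⟩ : ∃ k, D = k + 1 := ⟨D - 1, by omega⟩
  rw [hval_decomp a ε k ha] at hrel
  exact span_gens_eq_top q hD hfv ε hε _ (hval_rest_mem a ε k) hrel hgen

end Ident

end Groth.Agent.Helper7.WeilGor
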