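import Mathlib
import Groth.Prelude.Def_CAlg
import Groth.Agent.S0342
import Groth.Agent.Helper7.GorQuot1
import Groth.Agent.Helper7.SegGorD
import Groth.Agent.Helper3.GorPoly

/-!
# `ℤ[F,V]/(FV - q, h)` is Gorenstein
-/

namespace Groth.Agent.Helper7.WeilGor

open MvPolynomial

/-- `FV - q` -/
noncomputable def rel (q : ℤ) : MvPolynomial (Fin 2) ℤ := X 0 * X 1 - C q

theorem isRelPrime_X_C (q : ℤ) (hq : q ≠ 0) :
    IsRelPrime (X 0 : MvPolynomial (Fin 1) ℤ) (C (-q)) := by
  intro d hd1 hd2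
  obtain ⟨g, hg⟩ := hd2
  have hne : (C (-q) : MvPolynomial (Fin 1) ℤ) ≠ 0 := by
    rw [Ne, C_eq_zero]; omega
  have hd0 : d ≠ 0 := by rintro rfl; rw [zero_mul] at hg; exact hne hg
  have hg0 : g ≠ 0 := by rintro rfl; rw [mul_zero] at hg; exact hne hg
  have hdeg : (d * g).totalDegree = d.totalDegree + g.totalDegree :=
    totalDegree_mul_of_isDomain hd0 hg0
  rw [← hg, totalDegree_C] at hdeg
  have hd : d.totalDegree = 0 := by omega
  rw [totalDegree_eq_zero_iff_eq_C] at hd
  obtain ⟨g', hg'⟩ := hd1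
  rw [hd] at hg' ⊢
  have hc := congrArg (coeff (Finsupp.single 0 1)) hg'
  rw [coeff_C_mul, coeff_X, if_pos rfl] at hc
  exact (isUnit_iff_exists_inv.mpr ⟨_, hc.symm⟩).map C

theorem irreducible_rel (q : ℤ) (hq : q ≠ 0) : Irreducible (rel q) := by
  have h1 : Irreducible (Polynomial.C (X 0 : MvPolynomial (Fin 1) ℤ) * Polynomial.X +
      Polynomial.C (C (-q))) :=
    Polynomial.irreducible_C_mul_X_add_C (X_ne_zero 0) (isRelPrime_X_C q hq)
  have h2 : finSuccEquiv ℤ 1 (rel q) = Polynomial.C (X 0 : MvPolynomial (Fin 1) ℤ) * Polynomial.X +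
      Polynomial.C (C (-q)) := by
    have hX1 : (X 1 : MvPolynomial (Fin 2) ℤ) = X (Fin.succ 0) := rfl
    rw [rel, map_sub, map_mul, finSuccEquiv_X_zero, hX1, finSuccEquiv_X_succ]
    have hC : finSuccEquiv ℤ 1 (C q) = Polynomial.C (C q) := by
      simp
    rw [hC, map_neg, map_neg]
    ring
  rw [← h2] at h1
  exact (MulEquiv.irreducible_iff (finSuccEquiv ℤ 1).toMulEquiv).mp h1

theorem rel_ne_zero (q : ℤ) (hq : q ≠ 0) : rel q ≠ 0 := (irreducible_rel q hq).ne_zero

theorem prime_rel (q : ℤ) (hq : q ≠ 0) : Prime (rel q) := (irreducible_rel q hq).prime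

instance isPrime_span_rel (q : ℤ) [hq : NeZero q] : (Ideal.span {rel q}).IsPrime :=
  (Ideal.span_singleton_prime (rel_ne_zero q hq.out)).mpr (prime_rel q hq.out)

universe u

instance isDomain_ulift_int : IsDomain (ULift.{u} ℤ) :=
  (ULift.ringEquiv : ULift.{u} ℤ ≃+* ℤ).toMulEquiv.isDomain

instance isPrincipalIdealRing_ulift_int : IsPrincipalIdealRing (ULift.{u} ℤ) :=
  IsPrincipalIdealRing.of_surjective (ULift.ringEquiv : ULift.{u} ℤ ≃+* ℤ).symm.toRingHom
    (ULift.ringEquiv : ULift.{u} ℤ ≃+* ℤ).symm.surjective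

instance gorenstein_ulift_int : LocCoh.IsGorensteinRing (ULift.{u} ℤ) :=
  { toIsNoetherian := inferInstance
    isGorensteinLocalRing_localization := fun p hp => by
      haveI : IsRegularLocalRing (Localization.AtPrime p) := inferInstance
      exact Groth.Agent.S0342.result _ }

/-- the quotient of a Gorenstein domain by a prime element and an element outside the prime
ideal is Gorenstein -/
theorem gorenstein_quot_of_prime {B : Type u} [CommRing B] [IsDomain B]
    [hB : LocCoh.IsGorensteinRing B] (r h : B) (hr : Prime r) (hh : h ∉ Ideal.span {r}) :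
    LocCoh.IsGorensteinRing (B ⧸ Ideal.span {r, h}) := by
  have hreg1 : IsSMulRegular B r := by
    intro a b hab
    exact mul_left_cancel₀ hr.ne_zero hab
  haveI hB' : LocCoh.IsGorensteinRing (B ⧸ Ideal.span {r}) :=
    Groth.Agent.Helper7.GorQuot.gorenstein_quotient r hreg1
  haveI : (Ideal.span {r}).IsPrime := (Ideal.span_singleton_prime hr.ne_zero).mpr hr
  have hne : (Ideal.Quotient.mk (Ideal.span {r}) h) ≠ 0 := by
    rw [Ne, Ideal.Quotient.eq_zero_iff_mem]
    exact hh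
  have hreg2 : IsSMulRegular (B ⧸ Ideal.span {r}) (Ideal.Quotient.mk (Ideal.span {r}) h) := by
    intro a b hab
    exact mul_left_cancel₀ hne hab
  haveI hC := Groth.Agent.Helper7.GorQuot.gorenstein_quotient
    (Ideal.Quotient.mk (Ideal.span {r}) h) hreg2
  have e := DoubleQuot.quotQuotEquivQuotSup (Ideal.span {r}) (Ideal.span {h})
  have h1 : (Ideal.span {h}).map (Ideal.Quotient.mk (Ideal.span {r})) =
      Ideal.span {Ideal.Quotient.mk (Ideal.span {r}) h} := by
    rw [Ideal.map_span, Set.image_singleton]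
  have h2 : Ideal.span {r} ⊔ Ideal.span {h} = Ideal.span {r, h} := by
    rw [← Ideal.span_union]
    rfl
  exact Groth.Agent.Helper7.SegGor.gorenstein_of_ringEquiv
    (S := (B ⧸ Ideal.span {r}) ⧸ Ideal.span {Ideal.Quotient.mk (Ideal.span {r}) h})
    (((Ideal.quotEquivOfEq h1).symm.trans e).trans (Ideal.quotEquivOfEq h2))

/-- **a ring (in any universe) isomorphic to `ℤ[F,V]/(FV - q, h)` with `h ∉ (FV - q)` is
Gorenstein** -/
theorem gorenstein_of_equiv_quot {R : Type u} [CommRing R] (q : ℤ) (hq : q ≠ 0)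
    (h : MvPolynomial (Fin 2) ℤ) (hh : h ∉ Ideal.span {rel q})
    (e : (MvPolynomial (Fin 2) ℤ ⧸ Ideal.span {rel q, h}) ≃+* R) : LocCoh.IsGorensteinRing R := by
  let E : MvPolynomial (Fin 2) (ULift.{u} ℤ) ≃+* MvPolynomial (Fin 2) ℤ :=
    MvPolynomial.mapEquiv (Fin 2) (ULift.ringEquiv : ULift.{u} ℤ ≃+* ℤ)
  haveI : LocCoh.IsGorensteinRing (MvPolynomial (ULift.{u} (Fin 2)) (ULift.{u} ℤ)) :=
    Groth.Agent.Helper3.GorPoly.gorenstein_mvPolynomial (ULift.{u} ℤ) (ULift.{u} (Fin 2))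
  haveI : LocCoh.IsGorensteinRing (MvPolynomial (Fin 2) (ULift.{u} ℤ)) :=
    Groth.Agent.Helper7.SegGor.gorenstein_of_ringEquiv
      (MvPolynomial.renameEquiv (ULift.{u} ℤ)
        (Equiv.ulift : ULift.{u} (Fin 2) ≃ Fin 2)).toRingEquiv
  have hr : Prime (E.symm (rel q)) :=
    (MulEquiv.prime_iff E.symm.toMulEquiv).mpr (prime_rel q hq)
  have hh' : E.symm h ∉ Ideal.span {E.symm (rel q)} := by
    intro hmem
    rw [Ideal.mem_span_singleton] at hmem
    apply hh
    rw [Ideal.mem_span_singleton]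
    have := map_dvd E hmem
    simpa using this
  haveI := gorenstein_quot_of_prime (E.symm (rel q)) (E.symm h) hr hh'
  have hI : Ideal.span {rel q, h} =
      (Ideal.span {E.symm (rel q), E.symm h}).map (E : MvPolynomial (Fin 2) (ULift.{u} ℤ) →+*
        MvPolynomial (Fin 2) ℤ) := by
    rw [Ideal.map_span, Set.image_pair]
    simp
  exact Groth.Agent.Helper7.SegGor.gorenstein_of_ringEquiv
    (S := MvPolynomial (Fin 2) (ULift.{u} ℤ) ⧸ Ideal.span {E.symm (rel q), E.symm h})
    ((Ideal.quotientEquiv _ _ E hI).trans e)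

end Groth.Agent.Helper7.WeilGor
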