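import Mathlib

namespace Groth.Agent.Helper7.WeilOrd

open Polynomial IntermediateField

/-- For a Weil `q`-number `x` (all complex roots of its minimal polynomial have absolute value
`√q`), the element `q / x` is again a root of the minimal polynomial of `x`. -/
theorem aeval_div_eq_zero {K : Type*} [Field K] [CharZero K] (x : K) (hint : IsIntegral ℤ x)
    (q : ℕ) (hq : 0 < q)
    (hweil : ∀ z ∈ (minpoly ℤ x).aroots ℂ, ‖z‖ = Real.sqrt (q : ℝ)) :
    aeval ((q : K) / x) (minpoly ℤ x) = 0 := by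
  have hintQ : IsIntegral ℚ x := hint.tower_top
  have hmin : minpoly ℚ x = (minpoly ℤ x).map (algebraMap ℤ ℚ) :=
    minpoly.isIntegrallyClosed_eq_field_fractions' ℚ hint
  have hne : minpoly ℤ x ≠ 0 := minpoly.ne_zero hint
  -- a complex root
  have hdeg : (minpoly ℚ x).degree ≠ 0 := (minpoly.degree_pos hintQ).ne'
  obtain ⟨z, hz⟩ := IsAlgClosed.exists_aeval_eq_zero ℂ (minpoly ℚ x) hdeg
  have hzZ : aeval z (minpoly ℤ x) = 0 := by
    rw [hmin, aeval_map_algebraMap] at hz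
    exact hz
  have hzmem : z ∈ (minpoly ℤ x).aroots ℂ := (mem_aroots).mpr ⟨hne, hzZ⟩
  have hnorm : ‖z‖ = Real.sqrt (q : ℝ) := hweil z hzmem
  have hqpos : (0 : ℝ) < q := by exact_mod_cast hq
  have hz0 : z ≠ 0 := by
    intro h
    rw [h, norm_zero] at hnorm
    exact (Real.sqrt_pos.mpr hqpos).ne hnorm
  have hconj : (q : ℂ) / z = (starRingEnd ℂ) z := by
    rw [div_eq_iff hz0, mul_comm, Complex.mul_conj, Complex.normSq_eq_norm_sq, hnorm,
      Real.sq_sqrt hqpos.le]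
    norm_cast
  have hconj_root : aeval ((q : ℂ) / z) (minpoly ℤ x) = 0 := by
    rw [hconj]
    have h1 : aeval ((starRingEnd ℂ) z) (minpoly ℤ x) = (starRingEnd ℂ) (aeval z (minpoly ℤ x)) := by
      rw [aeval_def, aeval_def, hom_eval₂]
      congr 1
      exact Subsingleton.elim _ _
    rw [h1, hzZ, map_zero]
  -- the embedding ℚ(x) → ℂ with x ↦ z
  have hzmemQ : z ∈ (minpoly ℚ x).aroots ℂ := (mem_aroots).mpr ⟨minpoly.ne_zero hintQ, hz⟩
  set ψ : ℚ⟮x⟯ →ₐ[ℚ] ℂ := (algHomAdjoinIntegralEquiv ℚ hintQ).symm ⟨z, hzmemQ⟩ with hψ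
  have hψgen : ψ (AdjoinSimple.gen ℚ x) = z :=
    algHomAdjoinIntegralEquiv_symm_apply_gen ℚ hintQ ⟨z, hzmemQ⟩
  set y : ℚ⟮x⟯ := (q : ℚ⟮x⟯) / AdjoinSimple.gen ℚ x with hy
  have hψy : ψ y = (q : ℂ) / z := by
    rw [hy, map_div₀, hψgen, map_natCast]
  have hy0 : aeval y (minpoly ℤ x) = 0 := by
    have hinj : Function.Injective ψ := ψ.toRingHom.injective
    have h2 : ψ (aeval y (minpoly ℤ x)) = aeval (ψ y) (minpoly ℤ x) :=
      (aeval_algHom_apply (ψ.restrictScalars ℤ) y (minpoly ℤ x)).symm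
    apply hinj
    rw [map_zero, h2, hψy]
    exact hconj_root
  have hincl : (algebraMap ℚ⟮x⟯ K) y = (q : K) / x := by
    rw [hy, map_div₀, map_natCast, AdjoinSimple.algebraMap_gen]
  rw [← hincl, aeval_algebraMap_apply, hy0, map_zero]

end Groth.Agent.Helper7.WeilOrd
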