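import Mathlib
import Groth.Agent.Helper7.WeilOrdA

namespace Groth.Agent.Helper7.WeilOrd

open Polynomial

universe u

section General

/-- a quotient of `ℤ[X₀, X₁]` in which both variables satisfy monic integer polynomials is a finite
`ℤ`-module -/
theorem finite_quotient_of_monic (I : Ideal (MvPolynomial (Fin 2) ℤ)) (F G : ℤ[X]) (hF : F.Monic)
    (hG : G.Monic) (h0 : aeval (MvPolynomial.X 0 : MvPolynomial (Fin 2) ℤ) F ∈ I)
    (h1 : aeval (MvPolynomial.X 1 : MvPolynomial (Fin 2) ℤ) G ∈ I) :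
    Module.Finite ℤ (MvPolynomial (Fin 2) ℤ ⧸ I) := by
  have hX : ∀ i : Fin 2, IsIntegral ℤ (Ideal.Quotient.mk I (MvPolynomial.X i)) := by
    intro i
    fin_cases i
    · refine ⟨F, hF, ?_⟩
      have := aeval_algHom_apply (Ideal.Quotient.mkₐ ℤ I) (MvPolynomial.X 0) F
      rw [← aeval_def]
      change aeval ((Ideal.Quotient.mkₐ ℤ I) (MvPolynomial.X 0)) F = 0
      rw [this]
      exact Ideal.Quotient.eq_zero_iff_mem.mpr h0
    · refine ⟨G, hG, ?_⟩
      have := aeval_algHom_apply (Ideal.Quotient.mkₐ ℤ I) (MvPolynomial.X 1) G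
      rw [← aeval_def]
      change aeval ((Ideal.Quotient.mkₐ ℤ I) (MvPolynomial.X 1)) G = 0
      rw [this]
      exact Ideal.Quotient.eq_zero_iff_mem.mpr h1
  have hall : ∀ y : MvPolynomial (Fin 2) ℤ, IsIntegral ℤ (Ideal.Quotient.mk I y) := by
    intro y
    induction y using MvPolynomial.induction_on with
    | C a =>
      have : Ideal.Quotient.mk I (MvPolynomial.C a) = algebraMap ℤ _ a := rfl
      rw [this]
      exact isIntegral_algebraMap
    | add p q hp hq =>
      rw [map_add]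
      exact hp.add hq
    | mul_X p i hp =>
      rw [map_mul]
      exact hp.mul (hX i)
  haveI : Algebra.IsIntegral ℤ (MvPolynomial (Fin 2) ℤ ⧸ I) := by
    constructor
    intro x
    obtain ⟨y, rfl⟩ := Ideal.Quotient.mk_surjective x
    exact hall y
  exact Algebra.IsIntegral.finite

/-- Bezout over `ℚ` gives a nonzero integer combination over `ℤ`. -/
theorem exists_int_combination (f g : ℤ[X])
    (h : IsCoprime (f.map (algebraMap ℤ ℚ)) (g.map (algebraMap ℤ ℚ))) :
    ∃ (m : ℤ) (a b : ℤ[X]), m ≠ 0 ∧ a * f + b * g = C m := by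
  obtain ⟨u, v, huv⟩ := h
  obtain ⟨d₁, hd₁, hu⟩ := IsLocalization.integerNormalization_spec (nonZeroDivisors ℤ) u
  obtain ⟨d₂, hd₂, hv⟩ := IsLocalization.integerNormalization_spec (nonZeroDivisors ℤ) v
  have hd₁0 : d₁ ≠ 0 := nonZeroDivisors.ne_zero hd₁
  have hd₂0 : d₂ ≠ 0 := nonZeroDivisors.ne_zero hd₂
  set a := IsLocalization.integerNormalization (nonZeroDivisors ℤ) u
  set b := IsLocalization.integerNormalization (nonZeroDivisors ℤ) v
  refine ⟨d₁ * d₂, C d₂ * a, C d₁ * b, mul_ne_zero hd₁0 hd₂0, ?_⟩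
  apply Polynomial.map_injective (algebraMap ℤ ℚ) (algebraMap ℤ ℚ).injective_int
  simp only [Polynomial.map_add, Polynomial.map_mul, Polynomial.map_C, hu, hv]
  simp only [zsmul_eq_mul, algebraMap_int_eq, eq_intCast, map_mul]
  have : (C (d₂ : ℚ) * ((d₁ : ℚ[X]) * u)) * f.map (Int.castRingHom ℚ) +
      (C (d₁ : ℚ) * ((d₂ : ℚ[X]) * v)) * g.map (Int.castRingHom ℚ) =
      C (d₁ : ℚ) * C (d₂ : ℚ) * (u * f.map (Int.castRingHom ℚ) + v * g.map (Int.castRingHom ℚ)) := by
    have e1 : (d₁ : ℚ[X]) = C (d₁ : ℚ) := by simp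
    have e2 : (d₂ : ℚ[X]) = C (d₂ : ℚ) := by simp
    rw [e1, e2]
    ring
  rw [this]
  have huv' : u * f.map (Int.castRingHom ℚ) + v * g.map (Int.castRingHom ℚ) = 1 := huv
  rw [huv', mul_one]

end General

end Groth.Agent.Helper7.WeilOrd
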