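import Mathlib
import Groth.Agent.Helper7.WeilOrdB
import Groth.Agent.Helper7.MilPicC

namespace Groth.Agent.Helper7.WeilOrd

open Polynomial

universe u

section Family

variable (p e : ℕ) {J : Type} (K : J → Type u) [∀ j, Field (K j)] [∀ j, CharZero (K j)]
  (ϖ : ∀ j, K j)

/-- evaluation at one member of the family -/
noncomputable abbrev ev (j : J) : MvPolynomial (Fin 2) ℤ →ₐ[ℤ] K j :=
  MvPolynomial.aeval ![ϖ j, ((p : K j) ^ e) / ϖ j]

/-- the map to the product -/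
noncomputable abbrev Phi : MvPolynomial (Fin 2) ℤ →ₐ[ℤ] ((j : J) → K j) :=
  MvPolynomial.aeval ![fun j => ϖ j, fun j => ((p : K j) ^ e) / ϖ j]

theorem Phi_apply (x : MvPolynomial (Fin 2) ℤ) (j : J) : Phi p e K ϖ x j = ev p e K ϖ j x := by
  have h : (Pi.evalAlgHom ℤ K j).comp (Phi p e K ϖ) = ev p e K ϖ j := by
    apply MvPolynomial.algHom_ext
    intro i
    fin_cases i <;> simp [Phi, ev]
  exact congrArg (fun f => f x) h

theorem mem_ker_Phi_iff (x : MvPolynomial (Fin 2) ℤ) :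
    x ∈ RingHom.ker (Phi p e K ϖ) ↔ ∀ j, ev p e K ϖ j x = 0 := by
  rw [RingHom.mem_ker]
  constructor
  · intro h j
    rw [← Phi_apply, h]
    rfl
  · intro h
    funext j
    rw [Phi_apply, h j]
    rfl

theorem aeval_X0_mem (F : ℤ[X]) (hF : ∀ j, aeval (ϖ j) F = 0) :
    aeval (MvPolynomial.X 0 : MvPolynomial (Fin 2) ℤ) F ∈ RingHom.ker (Phi p e K ϖ) := by
  rw [mem_ker_Phi_iff]
  intro j
  rw [← aeval_algHom_apply]
  simpa [ev] using hF j

theorem aeval_X1_mem (F : ℤ[X]) (hF : ∀ j, aeval (((p : K j) ^ e) / ϖ j) F = 0) :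
    aeval (MvPolynomial.X 1 : MvPolynomial (Fin 2) ℤ) F ∈ RingHom.ker (Phi p e K ϖ) := by
  rw [mem_ker_Phi_iff]
  intro j
  rw [← aeval_algHom_apply]
  simpa [ev] using hF j

variable [Fact p.Prime] [Fintype J]

include p e in
theorem finite_quot (hint : ∀ j, IsIntegral ℤ (ϖ j))
    (hweil : ∀ j, ∀ z ∈ (minpoly ℤ (ϖ j)).aroots ℂ, ‖z‖ = Real.sqrt ((p : ℝ) ^ e)) :
    Module.Finite ℤ (MvPolynomial (Fin 2) ℤ ⧸ RingHom.ker (Phi p e K ϖ)) := by
  have hmonic : (∏ j, minpoly ℤ (ϖ j)).Monic := monic_prod_of_monic _ _ (fun j _ => minpoly.monic (hint j))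
  refine finite_quotient_of_monic _ (∏ j, minpoly ℤ (ϖ j)) (∏ j, minpoly ℤ (ϖ j)) hmonic hmonic
    (aeval_X0_mem p e K ϖ _ ?_) (aeval_X1_mem p e K ϖ _ ?_)
  · intro j
    rw [map_prod]
    exact Finset.prod_eq_zero (Finset.mem_univ j) (minpoly.aeval ℤ (ϖ j))
  · intro j
    rw [map_prod]
    refine Finset.prod_eq_zero (Finset.mem_univ j) ?_
    have hpos : 0 < p ^ e := pow_pos (Fact.out : p.Prime).pos e
    have h := aeval_div_eq_zero (ϖ j) (hint j) (p ^ e) hpos (by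
      intro z hz
      rw [hweil j z hz]
      push_cast
      rfl)
    rw [Nat.cast_pow] at h
    exact h

omit [Fintype J] in
theorem coprime_minpoly (hint : ∀ j, IsIntegral ℤ (ϖ j))
    (hinj : ∀ i j, minpoly ℤ (ϖ i) = minpoly ℤ (ϖ j) → i = j) (j₁ j₂ : J) (hne : j₁ ≠ j₂) :
    IsCoprime ((minpoly ℤ (ϖ j₁)).map (algebraMap ℤ ℚ)) ((minpoly ℤ (ϖ j₂)).map (algebraMap ℤ ℚ)) := by
  have h1 : Irreducible ((minpoly ℤ (ϖ j₁)).map (algebraMap ℤ ℚ)) := by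
    rw [← minpoly.isIntegrallyClosed_eq_field_fractions' ℚ (hint j₁)]
    exact minpoly.irreducible (hint j₁).tower_top
  have h2 : Irreducible ((minpoly ℤ (ϖ j₂)).map (algebraMap ℤ ℚ)) := by
    rw [← minpoly.isIntegrallyClosed_eq_field_fractions' ℚ (hint j₂)]
    exact minpoly.irreducible (hint j₂).tower_top
  rw [h1.coprime_iff_not_dvd]
  intro hdvd
  have hassoc := h1.associated_of_dvd h2 hdvd
  have heq := eq_of_monic_of_associated ((minpoly.monic (hint j₁)).map _)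
    ((minpoly.monic (hint j₂)).map _) hassoc
  exact hne (hinj j₁ j₂ (Polynomial.map_injective _ (algebraMap ℤ ℚ).injective_int heq))

end Family

section Sub

variable (p e : ℕ) [Fact p.Prime] {J J' : Type} [Fintype J] [Fintype J'] (emb : J' → J)
  (K : J → Type u) [∀ j, Field (K j)] [∀ j, CharZero (K j)] (ϖ : ∀ j, K j)

/-- kernel of the subfamily -/
noncomputable abbrev Iv : Ideal (MvPolynomial (Fin 2) ℤ) :=
  RingHom.ker (Phi p e (fun j' => K (emb j')) (fun j' => ϖ (emb j')))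

/-- kernel of the complementary subfamily -/
noncomputable abbrev Ic : Ideal (MvPolynomial (Fin 2) ℤ) :=
  RingHom.ker (Phi p e (fun j : {j : J // j ∉ Set.range emb} => K j.1) (fun j => ϖ j.1))

omit [Fact p.Prime] [Fintype J] [Fintype J'] in
theorem ker_eq_inf : RingHom.ker (Phi p e K ϖ) = Iv p e emb K ϖ ⊓ Ic p e emb K ϖ := by
  ext x
  rw [Ideal.mem_inf, mem_ker_Phi_iff, mem_ker_Phi_iff, mem_ker_Phi_iff]
  constructor
  · intro h
    exact ⟨fun j' => h (emb j'), fun j => h j.1⟩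
  · rintro ⟨h1, h2⟩ j
    by_cases hj : j ∈ Set.range emb
    · obtain ⟨j', rfl⟩ := hj
      exact h1 j'
    · exact h2 ⟨j, hj⟩

theorem exists_int_mem_sup (hint : ∀ j, IsIntegral ℤ (ϖ j))
    (hinj : ∀ i j, minpoly ℤ (ϖ i) = minpoly ℤ (ϖ j) → i = j) :
    ∃ m : ℤ, m ≠ 0 ∧ (MvPolynomial.C m : MvPolynomial (Fin 2) ℤ) ∈ Iv p e emb K ϖ ⊔ Ic p e emb K ϖ := by
  classical
  letI : Fintype {j : J // j ∉ Set.range emb} := Fintype.ofFinite _
  set f : ℤ[X] := ∏ j' : J', minpoly ℤ (ϖ (emb j')) with hf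
  set g : ℤ[X] := ∏ j : {j : J // j ∉ Set.range emb}, minpoly ℤ (ϖ j.1) with hg
  have hcop : IsCoprime (f.map (algebraMap ℤ ℚ)) (g.map (algebraMap ℤ ℚ)) := by
    rw [hf, hg, Polynomial.map_prod, Polynomial.map_prod]
    refine IsCoprime.prod_left (fun j' _ => IsCoprime.prod_right (fun j _ => ?_))
    refine coprime_minpoly K ϖ hint hinj (emb j') j.1 ?_
    intro h
    exact j.2 ⟨j', h⟩
  obtain ⟨m, a, b, hm, hab⟩ := exists_int_combination f g hcop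
  refine ⟨m, hm, ?_⟩
  have h1 : aeval (MvPolynomial.X 0 : MvPolynomial (Fin 2) ℤ) f ∈ Iv p e emb K ϖ := by
    apply aeval_X0_mem
    intro j'
    rw [hf, map_prod]
    exact Finset.prod_eq_zero (Finset.mem_univ j') (minpoly.aeval ℤ (ϖ (emb j')))
  have h2 : aeval (MvPolynomial.X 0 : MvPolynomial (Fin 2) ℤ) g ∈ Ic p e emb K ϖ := by
    apply aeval_X0_mem
    intro j
    rw [hg, map_prod]
    exact Finset.prod_eq_zero (Finset.mem_univ j) (minpoly.aeval ℤ (ϖ j.1))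
  have h3 := congrArg (aeval (MvPolynomial.X 0 : MvPolynomial (Fin 2) ℤ)) hab
  rw [map_add, map_mul, map_mul, aeval_C] at h3
  have h4 : (algebraMap ℤ (MvPolynomial (Fin 2) ℤ)) m = MvPolynomial.C m := rfl
  rw [← h4, ← h3]
  exact Submodule.add_mem_sup (Ideal.mul_mem_left _ _ h1) (Ideal.mul_mem_left _ _ h2)

theorem pic_subsingleton (hint : ∀ j, IsIntegral ℤ (ϖ j))
    (hweil : ∀ j, ∀ z ∈ (minpoly ℤ (ϖ j)).aroots ℂ, ‖z‖ = Real.sqrt ((p : ℝ) ^ e))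
    (hinj : ∀ i j, minpoly ℤ (ϖ i) = minpoly ℤ (ϖ j) → i = j) :
    Subsingleton (CommRing.Pic (MvPolynomial (Fin 2) ℤ ⧸ (Iv p e emb K ϖ ⊔ Ic p e emb K ϖ))) := by
  haveI : Module.Finite ℤ (MvPolynomial (Fin 2) ℤ ⧸ Iv p e emb K ϖ) :=
    finite_quot p e (fun j' => K (emb j')) (fun j' => ϖ (emb j')) (fun j' => hint (emb j'))
      (fun j' => hweil (emb j'))
  have hle' : Iv p e emb K ϖ ≤ Iv p e emb K ϖ ⊔ Ic p e emb K ϖ := le_sup_left
  haveI : Module.Finite ℤ (MvPolynomial (Fin 2) ℤ ⧸ (Iv p e emb K ϖ ⊔ Ic p e emb K ϖ)) :=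
    Module.Finite.of_surjective
      (Ideal.Quotient.factorₐ ℤ hle').toLinearMap
      (Ideal.Quotient.factor_surjective hle')
  obtain ⟨m, hm, hmem⟩ := exists_int_mem_sup p e emb K ϖ hint hinj
  have htors : Module.IsTorsion ℤ (MvPolynomial (Fin 2) ℤ ⧸ (Iv p e emb K ϖ ⊔ Ic p e emb K ϖ)) := by
    intro x
    refine ⟨⟨m, mem_nonZeroDivisors_of_ne_zero hm⟩, ?_⟩
    change m • x = 0
    have h0 : (Ideal.Quotient.mk (Iv p e emb K ϖ ⊔ Ic p e emb K ϖ)) (MvPolynomial.C m) = 0 :=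
      Ideal.Quotient.eq_zero_iff_mem.mpr hmem
    have h1 : m • x = (Ideal.Quotient.mk (Iv p e emb K ϖ ⊔ Ic p e emb K ϖ)) (MvPolynomial.C m) * x := by
      rw [zsmul_eq_mul]
      congr 1
    rw [h1, h0, zero_mul]
  haveI : Finite (MvPolynomial (Fin 2) ℤ ⧸ (Iv p e emb K ϖ ⊔ Ic p e emb K ϖ)) :=
    Module.finite_of_fg_torsion _ htors
  haveI : Finite (MaximalSpectrum (MvPolynomial (Fin 2) ℤ ⧸ (Iv p e emb K ϖ ⊔ Ic p e emb K ϖ))) :=
    Finite.of_injective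
      (fun m : MaximalSpectrum (MvPolynomial (Fin 2) ℤ ⧸ (Iv p e emb K ϖ ⊔ Ic p e emb K ϖ)) =>
        ((m.asIdeal : Ideal _) : Set (MvPolynomial (Fin 2) ℤ ⧸ (Iv p e emb K ϖ ⊔ Ic p e emb K ϖ))))
      (fun m₁ m₂ h => by
      apply MaximalSpectrum.ext
      exact SetLike.coe_injective h)
  infer_instance

theorem main (hint : ∀ j, IsIntegral ℤ (ϖ j))
    (hweil : ∀ j, ∀ z ∈ (minpoly ℤ (ϖ j)).aroots ℂ, ‖z‖ = Real.sqrt ((p : ℝ) ^ e))
    (hinj : ∀ i j, minpoly ℤ (ϖ i) = minpoly ℤ (ϖ j) → i = j)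
    (hle : RingHom.ker (Phi p e K ϖ) ≤ Iv p e emb K ϖ) :
    Function.Surjective (CommRing.Pic.mapRingHom (Ideal.Quotient.factor hle)) := by
  haveI := pic_subsingleton p e emb K ϖ hint hweil hinj
  exact Groth.Agent.Helper7.MilPic.pic_factor_surjective _ _ (Ic p e emb K ϖ)
    (ker_eq_inf p e emb K ϖ) hle

end Sub

end Groth.Agent.Helper7.WeilOrd
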