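import Mathlib
import Groth.Agent.Helper7.WeilOrdC
import Groth.Agent.Helper7.WeilGorA

/-!
# Weil numbers: the product of the minimal polynomials and its functional equation
-/

namespace Groth.Agent.Helper7.WeilGor

open Polynomial

universe u

/-- integers that are not of absolute value `√r` are not roots of the minimal polynomial of a
Weil number -/
theorem eval_int_ne_zero {K : Type*} [Field K] [CharZero K] (x : K) (hint : IsIntegral ℤ x)
    (r : ℝ) (hr : 0 ≤ r) (hweil : ∀ z ∈ (minpoly ℤ x).aroots ℂ, ‖z‖ = Real.sqrt r)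
    (n : ℤ) (hn : (n : ℝ) ^ 2 ≠ r) : (minpoly ℤ x).eval n ≠ 0 := by
  intro h0
  have hne : minpoly ℤ x ≠ 0 := minpoly.ne_zero hint
  have h1 : aeval ((n : ℤ) : ℂ) (minpoly ℤ x) = 0 := by
    have := aeval_algebraMap_apply ℂ n (minpoly ℤ x)
    rw [coe_aeval_eq_eval, h0, map_zero] at this
    simpa using this
  have h2 := hweil _ (mem_aroots.mpr ⟨hne, h1⟩)
  apply hn
  rw [Complex.norm_intCast] at h2
  rw [← sq_abs, h2, Real.sq_sqrt hr]

section Family

variable {ι : Type} [Fintype ι] (K : ι → Type u) [∀ i, Field (K i)] [∀ i, CharZero (K i)]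
  (π : ∀ i, K i)

/-- the product of the minimal polynomials -/
noncomputable def Pv : ℤ[X] := ∏ i, minpoly ℤ (π i)

variable {K π}

theorem Pv_monic (hint : ∀ i, IsIntegral ℤ (π i)) : (Pv K π).Monic :=
  monic_prod_of_monic _ _ (fun i _ => minpoly.monic (hint i))

theorem Pv_natDegree (hint : ∀ i, IsIntegral ℤ (π i)) :
    (Pv K π).natDegree = ∑ i, (minpoly ℤ (π i)).natDegree :=
  natDegree_prod_of_monic _ _ (fun i _ => minpoly.monic (hint i))

theorem aeval_Pv (i : ι) : aeval (π i) (Pv K π) = 0 := by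
  rw [Pv, map_prod]
  exact Finset.prod_eq_zero (Finset.mem_univ i) (minpoly.aeval ℤ (π i))

/-- **core lemma**: a polynomial of degree `< deg Pv` vanishing at all `π i` is zero -/
theorem eq_zero_of_degree_lt (hint : ∀ i, IsIntegral ℤ (π i))
    (hinj : ∀ i j, minpoly ℤ (π i) = minpoly ℤ (π j) → i = j) (c : ℤ[X])
    (hdeg : c.degree < (Pv K π).natDegree) (hc : ∀ i, aeval (π i) c = 0) : c = 0 := by
  by_contra hne
  have hdvd : ∀ i, (minpoly ℤ (π i)).map (algebraMap ℤ ℚ) ∣ c.map (algebraMap ℤ ℚ) := fun i =>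
    Polynomial.map_dvd _ (minpoly.isIntegrallyClosed_dvd (hint i) (hc i))
  have hcop : Pairwise (Function.onFun IsCoprime
      (fun i => (minpoly ℤ (π i)).map (algebraMap ℤ ℚ))) := fun i j hij =>
    Groth.Agent.Helper7.WeilOrd.coprime_minpoly K π hint hinj i j hij
  have hprod := Fintype.prod_dvd_of_coprime hcop hdvd
  have hmap : (Pv K π).map (algebraMap ℤ ℚ) = ∏ i, (minpoly ℤ (π i)).map (algebraMap ℤ ℚ) := by
    rw [Pv, Polynomial.map_prod]
  rw [← hmap] at hprod
  have hcne : c.map (algebraMap ℤ ℚ) ≠ 0 := by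
    rwa [Ne, Polynomial.map_eq_zero_iff (algebraMap ℤ ℚ).injective_int]
  have h1 := degree_le_of_dvd hprod hcne
  rw [degree_map_eq_of_injective (algebraMap ℤ ℚ).injective_int,
    degree_map_eq_of_injective (algebraMap ℤ ℚ).injective_int,
    degree_eq_natDegree (Pv_monic hint).ne_zero] at h1
  exact absurd (lt_of_le_of_lt h1 hdeg) (lt_irrefl _)

end Family

section Sym

variable {ι : Type} [Fintype ι] {K : ι → Type u} [∀ i, Field (K i)] [∀ i, CharZero (K i)]
  {π : ∀ i, K i}

/-- the `q`-reversal `X^N P(q/X)` of a polynomial -/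
noncomputable def Qrev (P : ℤ[X]) (q : ℤ) (N : ℕ) : ℤ[X] :=
  ∑ k ∈ Finset.range (N + 1), C (P.coeff k * q ^ k) * X ^ (N - k)

theorem Qrev_coeff (P : ℤ[X]) (q : ℤ) (N m : ℕ) :
    (Qrev P q N).coeff m = if m ≤ N then P.coeff (N - m) * q ^ (N - m) else 0 := by
  simp only [Qrev, finsetSum_coeff, coeff_C_mul, coeff_X_pow]
  split_ifs with h
  · rw [Finset.sum_eq_single (N - m)]
    · rw [if_pos (by omega), mul_one]
    · intro k hk hne
      rw [Finset.mem_range] at hk
      rw [if_neg (by omega), mul_zero]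
    · intro hk
      rw [Finset.mem_range] at hk
      omega
  · refine Finset.sum_eq_zero (fun k hk => ?_)
    rw [if_neg (by omega), mul_zero]

theorem aeval_Qrev {L : Type*} [Field L] [Algebra ℤ L] (P : ℤ[X]) (q : ℤ) (N : ℕ)
    (hN : P.natDegree ≤ N) (x : L) (hx : x ≠ 0) :
    aeval x (Qrev P q N) = x ^ N * aeval ((q : L) / x) P := by
  rw [aeval_eq_sum_range' (Nat.lt_succ_of_le hN), Finset.mul_sum, Qrev, map_sum]
  refine Finset.sum_congr rfl (fun k hk => ?_)
  rw [Finset.mem_range] at hk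
  have h1 : x ^ N = x ^ (N - k) * x ^ k := by
    rw [← pow_add]; congr 1; omega
  rw [map_mul, map_pow, aeval_X, aeval_C, h1, div_pow, Algebra.smul_def, eq_intCast, eq_intCast]
  push_cast
  field_simp

variable (hint : ∀ i, IsIntegral ℤ (π i))
  (hinj : ∀ i j, minpoly ℤ (π i) = minpoly ℤ (π j) → i = j)
  (q : ℤ) (hpi : ∀ i, π i ≠ 0) (hroot : ∀ i, aeval ((q : K i) / π i) (Pv K π) = 0)

include hint hinj hpi hroot in
theorem Qrev_eq : Qrev (Pv K π) q (Pv K π).natDegree = C ((Pv K π).coeff 0) * Pv K π := by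
  rw [← sub_eq_zero]
  apply eq_zero_of_degree_lt hint hinj
  · rw [degree_lt_iff_coeff_zero]
    intro m hm
    rw [coeff_sub, coeff_C_mul, Qrev_coeff]
    rcases Nat.lt_or_ge (Pv K π).natDegree m with h | h
    · rw [if_neg (by omega), coeff_eq_zero_of_natDegree_lt h, mul_zero, sub_zero]
    · have : m = (Pv K π).natDegree := le_antisymm h hm
      rw [this, if_pos le_rfl, Nat.sub_self, pow_zero, mul_one, (Pv_monic hint).coeff_natDegree,
        mul_one, sub_self]
  · intro i
    rw [map_sub, aeval_Qrev _ _ _ le_rfl _ (hpi i), hroot i, mul_zero, map_mul, aeval_Pv,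
      mul_zero, sub_zero]

include hint hinj hpi hroot in
/-- the functional equation, coefficientwise -/
theorem coeff_symm (m : ℕ) (hm : m ≤ (Pv K π).natDegree) :
    (Pv K π).coeff ((Pv K π).natDegree - m) * q ^ ((Pv K π).natDegree - m) =
      (Pv K π).coeff 0 * (Pv K π).coeff m := by
  have h := congrArg (fun f => f.coeff m) (Qrev_eq hint hinj q hpi hroot)
  simp only [Qrev_coeff, coeff_C_mul, if_pos hm] at h
  exact h

include hint hinj hpi hroot in
theorem exists_eps (D : ℕ) (hD : (Pv K π).natDegree = 2 * D) (hq : q ≠ 0) :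
    ∃ ε : ℤ, ε * ε = 1 ∧ ∀ m, m < D →
      (Pv K π).coeff (D - 1 - m) = ε * (Pv K π).coeff (D + m + 1) * q ^ (m + 1) := by
  have h0 := coeff_symm hint hinj q hpi hroot 0 (Nat.zero_le _)
  rw [Nat.sub_zero, (Pv_monic hint).coeff_natDegree, one_mul, hD] at h0
  have h1 : ((Pv K π).coeff 0) ^ 2 = (q ^ D) ^ 2 := by
    rw [sq, ← h0]; ring
  have key : ∀ ε : ℤ, ε * ε = 1 → (Pv K π).coeff 0 = ε * q ^ D → ∀ m, m < D →
      (Pv K π).coeff (D - 1 - m) = ε * (Pv K π).coeff (D + m + 1) * q ^ (m + 1) := by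
    intro ε hε ha0 m hm
    have h2 := coeff_symm hint hinj q hpi hroot (D - 1 - m) (by omega)
    have h3 : (Pv K π).natDegree - (D - 1 - m) = D + m + 1 := by omega
    rw [h3, ha0] at h2
    have h4 : q ^ D * ((Pv K π).coeff (D + m + 1) * q ^ (m + 1)) =
        q ^ D * (ε * (Pv K π).coeff (D - 1 - m)) := by
      have : D + m + 1 = D + (m + 1) := by ring
      rw [this, pow_add] at h2
      linear_combination h2
    have h5 := mul_left_cancel₀ (pow_ne_zero D hq) h4
    linear_combination (-ε) * h5 - (Pv K π).coeff (D - 1 - m) * hε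
  rcases sq_eq_sq_iff_eq_or_eq_neg.mp h1 with h | h
  · exact ⟨1, by norm_num, key 1 (by norm_num) (by rw [h, one_mul])⟩
  · exact ⟨-1, by norm_num, key (-1) (by norm_num) (by rw [h]; ring)⟩

end Sym

end Groth.Agent.Helper7.WeilGor
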