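import Mathlib
import Groth.Agent.Helper7.WeilGorB
import Groth.Agent.Helper7.WeilGorC
import Groth.Agent.Helper7.NN3

/-!
# The minimal central order of a family of Weil numbers is a complete intersection
-/

namespace Groth.Agent.Helper7.WeilGor

open Polynomial
open Groth.Agent.Helper7.WeilOrd

universe u

section Main

variable (p e : ℕ) [hp : Fact p.Prime] (he : 0 < e) {ι : Type} [Fintype ι] (K : ι → Type u)
  [∀ i, Field (K i)] [∀ i, CharZero (K i)] (π : ∀ i, K i)
  (hint : ∀ i, IsIntegral ℤ (π i))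
  (hweil : ∀ i, ∀ z ∈ (minpoly ℤ (π i)).aroots ℂ, ‖z‖ = Real.sqrt ((p : ℝ) ^ e))
  (hinj : ∀ i j, minpoly ℤ (π i) = minpoly ℤ (π j) → i = j)

include hp in
theorem q_ne_zero : ((p : ℤ) ^ e) ≠ 0 := pow_ne_zero e (by exact_mod_cast hp.out.ne_zero)

include hp in
theorem q_nonneg : (0 : ℝ) ≤ (p : ℝ) ^ e := by positivity

include hp hint hweil in
theorem pi_ne_zero (i : ι) : π i ≠ 0 := by
  intro h0
  have h1 := eval_int_ne_zero (π i) (hint i) _ (q_nonneg p e) (hweil i) 0 (by
    have : (0 : ℝ) < (p : ℝ) ^ e := by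
      have := hp.out.pos
      positivity
    simp only [Int.cast_zero, ne_eq]
    intro h; rw [← h] at this; norm_num at this)
  apply h1
  have h2 := minpoly.aeval ℤ (π i)
  have h3 := aeval_algebraMap_apply (K i) (0 : ℤ) (minpoly ℤ (π i))
  rw [map_zero, ← h0, h2, coe_aeval_eq_eval, eq_intCast] at h3
  exact_mod_cast h3.symm

include hp he hint hweil in
theorem eval_one_ne_zero : (Pv K π).eval 1 ≠ 0 := by
  rw [Pv, eval_prod]
  refine Finset.prod_ne_zero_iff.mpr (fun i _ => ?_)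
  refine eval_int_ne_zero (π i) (hint i) _ (q_nonneg p e) (hweil i) 1 ?_
  have h2 : 1 < p ^ e := Nat.one_lt_pow he.ne' hp.out.one_lt
  have h3 : (1 : ℝ) < (p : ℝ) ^ e := by exact_mod_cast h2
  simp only [Int.cast_one, one_pow, ne_eq]
  intro h; rw [← h] at h3; exact lt_irrefl _ h3

include hp hint hweil in
theorem root_div (i : ι) : aeval ((((p : ℤ) ^ e : ℤ) : K i) / π i) (Pv K π) = 0 := by
  rw [Pv, map_prod]
  refine Finset.prod_eq_zero (Finset.mem_univ i) ?_
  have hpos : 0 < p ^ e := pow_pos hp.out.pos e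
  have h := aeval_div_eq_zero (π i) (hint i) (p ^ e) hpos (by
    intro z hz
    rw [hweil i z hz]
    push_cast
    rfl)
  rw [Nat.cast_pow] at h
  push_cast
  exact h

end Main

section Pres

variable {ι : Type} [Fintype ι] (K : ι → Type u) [∀ i, Field (K i)] [∀ i, CharZero (K i)]
  (π : ∀ i, K i) (D : ℕ) (ε : ℤ)

/-- the polynomial `h` -/
noncomputable def hpoly : MvPolynomial (Fin 2) ℤ :=
  hval (MvPolynomial.X 0) (MvPolynomial.X 1) D (fun k => (Pv K π).coeff k) ε

theorem pow_mul_map_hpoly {S : Type*} [CommRing S] (φ : MvPolynomial (Fin 2) ℤ →+* S) (q : ℤ)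
    (hfv : φ (MvPolynomial.X 0) * φ (MvPolynomial.X 1) = (q : S))
    (hdeg : (Pv K π).natDegree = 2 * D)
    (hsym : ∀ m, m < D →
      (Pv K π).coeff (D - 1 - m) = ε * (Pv K π).coeff (D + m + 1) * q ^ (m + 1)) :
    φ (MvPolynomial.X 0) ^ D * φ (hpoly K π D ε) = aeval (φ (MvPolynomial.X 0)) (Pv K π) := by
  rw [hpoly, map_hval, pow_mul_hval D _ ε q hfv hsym,
    aeval_eq_sum_range' (n := 2 * D + 1) (by omega)]
  refine Finset.sum_congr rfl (fun k _ => ?_)
  rw [zsmul_eq_mul]

end Pres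

section Final

variable (p e : ℕ) [hp : Fact p.Prime] (he : 0 < e) {ι : Type} [Fintype ι] (K : ι → Type u)
  [∀ i, Field (K i)] [∀ i, CharZero (K i)] (π : ∀ i, K i)
  (hint : ∀ i, IsIntegral ℤ (π i))
  (hweil : ∀ i, ∀ z ∈ (minpoly ℤ (π i)).aroots ℂ, ‖z‖ = Real.sqrt ((p : ℝ) ^ e))
  (hinj : ∀ i j, minpoly ℤ (π i) = minpoly ℤ (π j) → i = j)

include hp hint hweil in
theorem ev_rel (i : ι) : ev p e K π i (rel ((p : ℤ) ^ e)) = 0 := by
  have hpi := pi_ne_zero p e K π hint hweil i
  simp only [ev, rel, map_sub, map_mul, MvPolynomial.aeval_X, MvPolynomial.aeval_C,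
    Matrix.cons_val_zero, Matrix.cons_val_one, eq_intCast]
  push_cast
  field_simp
  simp

include hp hint hweil in
theorem ev_hpoly (i : ι) (D : ℕ) (ε : ℤ) (hdeg : (Pv K π).natDegree = 2 * D)
    (hsym : ∀ m, m < D → (Pv K π).coeff (D - 1 - m) =
      ε * (Pv K π).coeff (D + m + 1) * ((p : ℤ) ^ e) ^ (m + 1)) :
    ev p e K π i (hpoly K π D ε) = 0 := by
  have hpi := pi_ne_zero p e K π hint hweil i
  have hfv : (ev p e K π i).toRingHom (MvPolynomial.X 0) * (ev p e K π i).toRingHom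
      (MvPolynomial.X 1) = (((p : ℤ) ^ e : ℤ) : K i) := by
    simp only [ev, AlgHom.toRingHom_eq_coe, RingHom.coe_coe, MvPolynomial.aeval_X,
      Matrix.cons_val_zero, Matrix.cons_val_one]
    push_cast
    field_simp
  have h1 := pow_mul_map_hpoly K π D ε (ev p e K π i).toRingHom _ hfv hdeg hsym
  have hX0 : (ev p e K π i).toRingHom (MvPolynomial.X 0) = π i := by
    simp [ev]
  rw [hX0, aeval_Pv] at h1
  rcases mul_eq_zero.mp h1 with h2 | h2
  · exact absurd h2 (pow_ne_zero D hpi)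
  · exact h2

include hp he hint hweil hinj in
theorem main [Nonempty ι] (D : ℕ) (hD : ∑ i, (minpoly ℤ (π i)).natDegree = 2 * D) :
    Module.Free ℤ (Phi p e K π).range ∧ Module.finrank ℤ (Phi p e K π).range = 2 * D ∧
      ringKrullDim (Phi p e K π).range = 1 ∧ LocCoh.IsGorensteinRing (Phi p e K π).range := by
  have hq : ((p : ℤ) ^ e) ≠ 0 := q_ne_zero p e
  have hpi := pi_ne_zero p e K π hint hweil
  have hroot := root_div p e K π hint hweil
  have hdeg : (Pv K π).natDegree = 2 * D := by rw [Pv_natDegree hint, hD]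
  obtain ⟨ε, hε, hsym⟩ := exists_eps hint hinj ((p : ℤ) ^ e) hpi hroot D hdeg hq
  have hDpos : 0 < D := by
    obtain ⟨i₀⟩ := ‹Nonempty ι›
    have h1 : 0 < (minpoly ℤ (π i₀)).natDegree := minpoly.natDegree_pos (hint i₀)
    have h2 : (minpoly ℤ (π i₀)).natDegree ≤ ∑ i, (minpoly ℤ (π i)).natDegree :=
      Finset.single_le_sum (f := fun i => (minpoly ℤ (π i)).natDegree)
        (fun _ _ => Nat.zero_le _) (Finset.mem_univ i₀)
    omega
  -- the ideal is contained in the kernel
  have hrel_mem : rel ((p : ℤ) ^ e) ∈ RingHom.ker (Phi p e K π) :=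
    (mem_ker_Phi_iff p e K π _).mpr (fun i => ev_rel p e K π hint hweil i)
  have hh_mem : hpoly K π D ε ∈ RingHom.ker (Phi p e K π) :=
    (mem_ker_Phi_iff p e K π _).mpr (fun i => ev_hpoly p e K π hint hweil i D ε hdeg hsym)
  have hIle : Ideal.span {rel ((p : ℤ) ^ e), hpoly K π D ε} ≤ RingHom.ker (Phi p e K π) := by
    rw [Ideal.span_le]
    rintro x (rfl | rfl)
    · exact hrel_mem
    · exact hh_mem
  -- `h ∉ (rel)`
  have hnot : hpoly K π D ε ∉ Ideal.span {rel ((p : ℤ) ^ e)} := by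
    intro hmem
    let χ : MvPolynomial (Fin 2) ℤ →ₐ[ℤ] ℤ := MvPolynomial.aeval ![(1 : ℤ), (p : ℤ) ^ e]
    have hχrel : χ (rel ((p : ℤ) ^ e)) = 0 := by
      simp [χ, rel]
    have hle : Ideal.span {rel ((p : ℤ) ^ e)} ≤ RingHom.ker χ := by
      rw [Ideal.span_le]
      rintro x rfl
      exact hχrel
    have hχh : χ (hpoly K π D ε) = 0 := hle hmem
    have hfv : χ.toRingHom (MvPolynomial.X 0) * χ.toRingHom (MvPolynomial.X 1) =
        (((p : ℤ) ^ e : ℤ) : ℤ) := by
      simp [χ]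
    have h1 := pow_mul_map_hpoly K π D ε χ.toRingHom _ hfv hdeg hsym
    have hX0 : χ.toRingHom (MvPolynomial.X 0) = 1 := by simp [χ]
    rw [hX0, one_pow, one_mul] at h1
    have h2 : χ.toRingHom (hpoly K π D ε) = 0 := hχh
    rw [h2, coe_aeval_eq_eval] at h1
    exact eval_one_ne_zero p e he K π hint hweil h1.symm
  -- the quotient and the map to the range
  let ψ : (MvPolynomial (Fin 2) ℤ ⧸ Ideal.span {rel ((p : ℤ) ^ e), hpoly K π D ε}) →ₐ[ℤ]
      (Phi p e K π).range :=
    Ideal.Quotient.liftₐ _ (Phi p e K π).rangeRestrict (fun a ha => by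
      apply Subtype.ext
      exact hIle ha)
  have hψsurj : Function.Surjective ψ := by
    intro y
    obtain ⟨x, hx⟩ := (Phi p e K π).rangeRestrict_surjective y
    exact ⟨Ideal.Quotient.mk _ x, by rw [← hx]; rfl⟩
  -- spanning
  have hfv : Ideal.Quotient.mk (Ideal.span {rel ((p : ℤ) ^ e), hpoly K π D ε}) (MvPolynomial.X 0) *
      Ideal.Quotient.mk (Ideal.span {rel ((p : ℤ) ^ e), hpoly K π D ε}) (MvPolynomial.X 1) =
      (((p : ℤ) ^ e : ℤ) : MvPolynomial (Fin 2) ℤ ⧸ Ideal.span {rel ((p : ℤ) ^ e), hpoly K π D ε}) := by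
    rw [← map_mul, ← map_intCast (Ideal.Quotient.mk
      (Ideal.span {rel ((p : ℤ) ^ e), hpoly K π D ε})) ((p : ℤ) ^ e), Ideal.Quotient.eq,
      ← eq_intCast (MvPolynomial.C : ℤ →+* MvPolynomial (Fin 2) ℤ)]
    exact Ideal.subset_span (Or.inl rfl)
  have ha : (Pv K π).coeff (2 * D) = 1 := by
    rw [← hdeg]; exact (Pv_monic hint).coeff_natDegree
  have hrel : hval (Ideal.Quotient.mk (Ideal.span {rel ((p : ℤ) ^ e), hpoly K π D ε})
      (MvPolynomial.X 0)) (Ideal.Quotient.mk (Ideal.span {rel ((p : ℤ) ^ e), hpoly K π D ε})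
      (MvPolynomial.X 1)) D (fun k => (Pv K π).coeff k) ε = 0 := by
    rw [← map_hval, Ideal.Quotient.eq_zero_iff_mem]
    exact Ideal.subset_span (Or.inr rfl)
  have hgen : Algebra.adjoin ℤ ({Ideal.Quotient.mk (Ideal.span {rel ((p : ℤ) ^ e), hpoly K π D ε})
      (MvPolynomial.X 0), Ideal.Quotient.mk (Ideal.span {rel ((p : ℤ) ^ e), hpoly K π D ε})
      (MvPolynomial.X 1)} : Set (MvPolynomial (Fin 2) ℤ ⧸
        Ideal.span {rel ((p : ℤ) ^ e), hpoly K π D ε})) = ⊤ := by
    have h1 : Set.range (MvPolynomial.X : Fin 2 → MvPolynomial (Fin 2) ℤ) =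
        {MvPolynomial.X 0, MvPolynomial.X 1} := by
      ext x
      simp only [Set.mem_range, Fin.exists_fin_two, Set.mem_insert_iff, Set.mem_singleton_iff]
      constructor
      · rintro (h | h)
        · exact Or.inl h.symm
        · exact Or.inr h.symm
      · rintro (h | h)
        · exact Or.inl h.symm
        · exact Or.inr h.symm
    have h2 := MvPolynomial.adjoin_range_X (R := ℤ) (σ := Fin 2)
    rw [h1] at h2
    have h3 := congrArg (Subalgebra.map (Ideal.Quotient.mkₐ ℤ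
      (Ideal.span {rel ((p : ℤ) ^ e), hpoly K π D ε}))) h2
    rw [AlgHom.map_adjoin, Set.image_pair, Algebra.map_top, (AlgHom.range_eq_top _).mpr
      (Ideal.Quotient.mkₐ_surjective ℤ _)] at h3
    exact h3
  have hspan := span_gens_eq_top_of_hval D (fun k => (Pv K π).coeff k) ε ((p : ℤ) ^ e) hDpos hfv hε
    ha hrel hgen
  rw [← range_fam] at hspan
  haveI hfinA : Module.Finite ℤ (MvPolynomial (Fin 2) ℤ ⧸
      Ideal.span {rel ((p : ℤ) ^ e), hpoly K π D ε}) :=
    Module.finite_def.mpr (by rw [← hspan]; exact Submodule.fg_span (Set.finite_range _))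
  haveI hfinR : Module.Finite ℤ (Phi p e K π).range :=
    Module.Finite.of_surjective ψ.toLinearMap hψsurj
  haveI hfree : Module.Free ℤ (Phi p e K π).range := inferInstance
  -- lower bound for the rank
  have hcard : Fintype.card (Fin D ⊕ Fin D) ≤ Module.finrank ℤ (Phi p e K π).range := by
    let L : degreeLT ℤ (2 * D) →ₗ[ℤ] (Phi p e K π).range :=
      ((Phi p e K π).rangeRestrict.toLinearMap ∘ₗ
        (aeval (MvPolynomial.X 0 : MvPolynomial (Fin 2) ℤ)).toLinearMap) ∘ₗ
        (degreeLT ℤ (2 * D)).subtype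
    have hLinj : Function.Injective L := by
      rw [injective_iff_map_eq_zero]
      intro c hc
      have h1 : Phi p e K π (aeval (MvPolynomial.X 0 : MvPolynomial (Fin 2) ℤ) c.1) = 0 :=
        congrArg Subtype.val hc
      have h2 : ∀ i, aeval (π i) c.1 = 0 := by
        intro i
        have h3 := congrFun h1 i
        rw [Phi_apply, ← aeval_algHom_apply] at h3
        simpa [ev] using h3
      have h4 : c.1.degree < (Pv K π).natDegree := by
        rw [hdeg]
        exact_mod_cast mem_degreeLT.mp c.2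
      exact Subtype.ext (eq_zero_of_degree_lt hint hinj c.1 h4 h2)
    have h5 := LinearMap.finrank_le_finrank_of_injective hLinj
    rw [(degreeLTEquiv ℤ (2 * D)).finrank_eq, Module.finrank_fin_fun] at h5
    rw [Fintype.card_sum, Fintype.card_fin]
    omega
  obtain ⟨hψinj, hfr⟩ := injective_of_span (fam _ _ D) hspan ψ.toLinearMap hψsurj hcard
  refine ⟨hfree, ?_, ?_, ?_⟩
  · rw [hfr, Fintype.card_sum, Fintype.card_fin]
    ring
  · haveI : Algebra.IsIntegral ℤ (Phi p e K π).range := Algebra.IsIntegral.of_finite ℤ _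
    have hinjalg : Function.Injective (algebraMap ℤ (Phi p e K π).range) := by
      rw [injective_iff_map_eq_zero]
      intro n hn
      obtain ⟨i₀⟩ := ‹Nonempty ι›
      have h1 : algebraMap ℤ ((i : ι) → K i) n = 0 := congrArg Subtype.val hn
      have h2 := congrFun h1 i₀
      simpa using h2
    rw [Groth.Agent.Helper7.NN.ringKrullDim_eq_of_isIntegral_of_injective hinjalg]
    exact IsPrincipalIdealRing.ringKrullDim_eq_one ℤ Int.not_isField
  · exact gorenstein_of_equiv_quot ((p : ℤ) ^ e) hq (hpoly K π D ε) hnot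
      (RingEquiv.ofBijective ψ ⟨hψinj, hψsurj⟩)

end Final

end Groth.Agent.Helper7.WeilGor
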