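import Mathlib

set_option autoImplicit false
set_option linter.style.haveILetI false
set_option linter.unusedSectionVars false

/-!
# Modules over the Weyl relations: vanishing of the first Koszul cohomology

`M` is a module over a commutative ring `A` with elements `x j` and additive operators `D i`
satisfying `D i (x j • z) = δ_ij z + x j • D i z`.  If `M` is uniquely divisible and every element is
killed by iterated multiplication by the `x j`, every Koszul 1-cocycle is a coboundary.
-/

namespace Groth.Agent.Helper7.WeylTors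

variable {A : Type*} [CommRing A] {M : Type*} [AddCommGroup M] [Module A M] {d : ℕ}
  (x : Fin d → A) (D : Fin d → M →+ M)

/-- the iterated socle filtration with respect to the elements `x j`. -/
def Soc : ℕ → M → Prop
  | 0, z => z = 0
  | n + 1, z => ∀ j, Soc n (x j • z)

/-- the Euler operator `Σ x_i D_i`. -/
def Eul (z : M) : M := ∑ i, x i • D i z

/-- the shifted Euler operator. -/
def L (c : ℤ) (z : M) : M := Eul x D z + c • z

theorem Eul_add (z w : M) : Eul x D (z + w) = Eul x D z + Eul x D w := by
  simp only [Eul, map_add, smul_add, Finset.sum_add_distrib]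

theorem Eul_zero : Eul x D (0 : M) = 0 := by
  simp [Eul]

theorem Eul_neg (z : M) : Eul x D (-z) = - Eul x D z := by
  simp only [Eul, map_neg, smul_neg, Finset.sum_neg_distrib]

theorem Eul_sub (z w : M) : Eul x D (z - w) = Eul x D z - Eul x D w := by
  rw [sub_eq_add_neg, Eul_add, Eul_neg, ← sub_eq_add_neg]

theorem Eul_zsmul (n : ℤ) (z : M) : Eul x D (n • z) = n • Eul x D z := by
  simp only [Eul, map_zsmul, Finset.smul_sum]
  refine Finset.sum_congr rfl fun i _ => ?_
  rw [smul_comm]

theorem L_add (c : ℤ) (z w : M) : L x D c (z + w) = L x D c z + L x D c w := by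
  simp only [L, Eul_add, smul_add]; abel

theorem L_zero (c : ℤ) : L x D c (0 : M) = 0 := by
  simp [L, Eul_zero]

theorem L_sub (c : ℤ) (z w : M) : L x D c (z - w) = L x D c z - L x D c w := by
  simp only [L, Eul_sub, smul_sub]; abel

theorem L_zsmul (c n : ℤ) (z : M) : L x D c (n • z) = n • L x D c z := by
  simp only [L, Eul_zsmul, smul_add]
  rw [smul_comm]

theorem L_comm (a b : ℤ) (z : M) : L x D a (L x D b z) = L x D b (L x D a z) := by
  simp only [L, Eul_add, Eul_zsmul, smul_add]
  rw [smul_comm a b z]; abel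

theorem L_eq_add (a c : ℤ) (z : M) : L x D a z = L x D c z + (a - c) • z := by
  simp only [L, sub_smul]; abel

variable (hD : ∀ i j z, D i (x j • z) = (if i = j then z else 0) + x j • D i z)

include hD in
theorem Eul_smul (j : Fin d) (z : M) : Eul x D (x j • z) = x j • (Eul x D z + z) := by
  simp only [Eul, hD, smul_add, Finset.sum_add_distrib, Finset.smul_sum]
  have h1 : ∑ i, x i • (if i = j then z else 0) = x j • z := by
    simp [smul_ite, Finset.sum_ite_eq']
  rw [h1, add_comm]
  congr 1
  refine Finset.sum_congr rfl fun i _ => ?_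
  rw [smul_comm]

include hD in
theorem L_smul (c : ℤ) (j : Fin d) (z : M) : L x D c (x j • z) = x j • L x D (c + 1) z := by
  simp only [L, Eul_smul x D hD, smul_add, add_smul, one_smul]
  rw [smul_comm c (x j) z]; abel

include hD in
/-- on the socle, the Euler operator is `-d`. -/
theorem L_soc_one (z : M) (hz : ∀ j, x j • z = 0) : L x D (d : ℤ) z = 0 := by
  have h1 : ∀ i, x i • D i z = - z := by
    intro i
    have h := hD i i z
    rw [hz, map_zero, if_pos rfl] at h
    rw [eq_neg_iff_add_eq_zero, add_comm]; exact h.symm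
  simp only [L, Eul, h1, Finset.sum_const, Finset.card_univ, Fintype.card_fin]
  rw [natCast_zsmul]; simp

include hD in
/-- the homotopy identity. -/
theorem smul_homotopy (z : Fin d → M) (hz : ∀ i j, x i • z j = x j • z i) (j : Fin d) :
    x j • (∑ i, D i (z i)) = L x D ((d : ℤ) - 1) (z j) := by
  have h1 : ∀ i, x j • D i (z i) = D i (x i • z j) - (if i = j then z i else 0) := by
    intro i
    have h := hD i j (z i)
    rw [hz i j, h]; abel
  have h2 : ∀ i, D i (x i • z j) = z j + x i • D i (z j) := by
    intro i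
    have h := hD i i (z j)
    rw [if_pos rfl] at h; exact h
  rw [Finset.smul_sum]
  simp only [h1, h2, Finset.sum_sub_distrib, Finset.sum_add_distrib, Finset.sum_const,
    Finset.card_univ, Fintype.card_fin]
  have h3 : ∑ i, (if i = j then z i else 0) = z j := by
    simp [Finset.sum_ite_eq']
  rw [h3, L, Eul, sub_smul, one_smul, natCast_zsmul]; abel

/-- products of consecutive shifted Euler operators. -/
def Pr : ℤ → ℕ → M → M
  | _, 0, z => z
  | a, n + 1, z => L x D a (Pr (a + 1) n z)

theorem Pr_zero' (a : ℤ) (n : ℕ) : Pr x D a n (0 : M) = 0 := by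
  induction n generalizing a with
  | zero => rfl
  | succ n ih => simp only [Pr, ih, L_zero]

theorem Pr_zsmul (a : ℤ) (n : ℕ) (m : ℤ) (z : M) : Pr x D a n (m • z) = m • Pr x D a n z := by
  induction n generalizing a with
  | zero => rfl
  | succ n ih => simp only [Pr, ih, L_zsmul]

theorem L_Pr_comm (c a : ℤ) (n : ℕ) (z : M) : L x D c (Pr x D a n z) = Pr x D a n (L x D c z) := by
  induction n generalizing a with
  | zero => rfl
  | succ n ih => simp only [Pr]; rw [L_comm, ih]

include hD in
theorem Pr_smul (a : ℤ) (n : ℕ) (j : Fin d) (z : M) :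
    Pr x D a n (x j • z) = x j • Pr x D (a + 1) n z := by
  induction n generalizing a with
  | zero => rfl
  | succ n ih => simp only [Pr]; rw [ih, L_smul x D hD]

include hD in
/-- the product `L_d L_{d+1} ⋯ L_{d+n-1}` kills the `n`-th socle. -/
theorem Pr_soc (n : ℕ) (z : M) (hz : Soc x n z) : Pr x D (d : ℤ) n z = 0 := by
  induction n generalizing z with
  | zero => exact hz
  | succ n ih =>
    simp only [Pr]
    apply L_soc_one x D hD
    intro j
    rw [← Pr_smul x D hD]
    exact ih _ (hz j)

variable (htf : ∀ n : ℤ, n ≠ 0 → ∀ z : M, n • z = 0 → z = 0)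
  (hdiv : ∀ n : ℤ, n ≠ 0 → ∀ z : M, ∃ w, n • w = z)

include htf in
theorem L_injective_aux (c : ℤ) (n : ℕ) (a : ℤ) (z : M) (ha : ∀ l : ℕ, l < n → a + l - c ≠ 0)
    (hL : L x D c z = 0) (hP : Pr x D a n z = 0) : z = 0 := by
  induction n generalizing a with
  | zero => exact hP
  | succ n ih =>
    simp only [Pr] at hP
    rw [L_Pr_comm, L_eq_add x D a c, hL, zero_add, Pr_zsmul] at hP
    have h0 : a - c ≠ 0 := by simpa using ha 0 (Nat.succ_pos n)
    have h1 := htf _ h0 _ hP
    refine ih (a + 1) (fun l hl => ?_) h1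
    have := ha (l + 1) (Nat.succ_lt_succ hl)
    push_cast at this
    intro h; apply this; omega

include htf hdiv in
theorem L_surjective_aux (c : ℤ) (n : ℕ) (a : ℤ) (z : M) (ha : ∀ l : ℕ, l < n → a + l - c ≠ 0)
    (hP : Pr x D a n z = 0) : ∃ w, L x D c w = z := by
  induction n generalizing a z with
  | zero => exact ⟨0, by rw [L_zero]; exact hP.symm⟩
  | succ n ih =>
    simp only [Pr] at hP
    rw [L_Pr_comm] at hP
    have h0 : a - c ≠ 0 := by simpa using ha 0 (Nat.succ_pos n)
    obtain ⟨w', hw'⟩ := ih (a + 1) (L x D a z) (fun l hl => by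
      have := ha (l + 1) (Nat.succ_lt_succ hl)
      push_cast at this
      intro h; apply this; omega) hP
    obtain ⟨w'', hw''⟩ := hdiv _ h0 (w' - z)
    refine ⟨w'', ?_⟩
    apply sub_eq_zero.mp
    apply htf _ h0
    rw [smul_sub, ← L_zsmul, hw'', L_sub, hw', L_eq_add x D a c z]; abel

include hD htf hdiv in
/-- **Vanishing of Koszul `H¹`.** -/
theorem exists_primitive (hsoc : ∀ z : M, ∃ n, Soc x n z)
    (z : Fin d → M) (hz : ∀ i j, x i • z j = x j • z i) : ∃ w, ∀ j, x j • w = z j := by
  have hne : ∀ (c : ℤ), c < d → ∀ l : ℕ, (d : ℤ) + l - c ≠ 0 := by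
    intro c hc l; omega
  -- `L_{d-1}` is surjective
  have hsurj : ∀ z : M, ∃ w, L x D ((d : ℤ) - 1) w = z := by
    intro z
    obtain ⟨n, hn⟩ := hsoc z
    exact L_surjective_aux x D htf hdiv _ n d z (fun l _ => hne _ (by omega) l)
      (Pr_soc x D hD n z hn)
  -- `L_{d-2}` is injective
  have hinj : ∀ z : M, L x D ((d : ℤ) - 2) z = 0 → z = 0 := by
    intro z hz0
    obtain ⟨n, hn⟩ := hsoc z
    exact L_injective_aux x D htf _ n d z (fun l _ => hne _ (by omega) l) hz0
      (Pr_soc x D hD n z hn)
  choose z' hz' using fun j => hsurj (z j)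
  have hcoc : ∀ i j, x i • z' j = x j • z' i := by
    intro i j
    apply sub_eq_zero.mp
    apply hinj
    rw [L_sub, L_smul x D hD, L_smul x D hD]
    have : (d : ℤ) - 2 + 1 = d - 1 := by ring
    rw [this, hz', hz', hz i j, sub_self]
  refine ⟨∑ i, D i (z' i), fun j => ?_⟩
  rw [smul_homotopy x D hD z' hcoc, hz']

end Groth.Agent.Helper7.WeylTors
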