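import Mathlib
import Groth.Prelude
import Groth.Agent.Helper7.WeylA
import Groth.Agent.Helper6.Matlis10
import Groth.Agent.Helper5.MvPSIdeal
import Groth.Agent.S0299
import Groth.Agent.S0301
import Groth.Agent.S0302
import Groth.Agent.S0306
import Groth.Agent.S0307

set_option autoImplicit false
set_option linter.style.haveILetI false
set_option linter.unusedSectionVars false

namespace Groth.Agent.Helper7.WeylTors

open IsLocalRing Groth.Agent.Helper6.Matlis

universe u

/-- injectivity transfers along a linear equivalence. -/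
theorem injective_of_linearEquiv {R : Type u} [CommRing R] {M N : Type u} [AddCommGroup M]
    [Module R M] [AddCommGroup N] [Module R N] (e : M ≃ₗ[R] N) [hM : Module.Injective R M] :
    Module.Injective R N := by
  refine ⟨fun X Y _ _ _ _ f hf g => ?_⟩
  obtain ⟨h, hh⟩ := hM.out f hf (e.symm.toLinearMap ∘ₗ g)
  refine ⟨e.toLinearMap ∘ₗ h, fun x => ?_⟩
  simp [hh]

section inj

variable {A : Type u} [CommRing A] [IsLocalRing A] [IsNoetherianRing A] {d : ℕ} (x : Fin d → A)
  (hx : maximalIdeal A = Ideal.span (Set.range x))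
  {M : Type u} [AddCommGroup M] [Module A M] (hM : LocCoh.IsPowerTorsion (maximalIdeal A) M)
  (hK : ∀ z : Fin d → M, (∀ i j, x i • z j = x j • z i) → ∃ w, ∀ j, x j • w = z j)

include hx hM in
theorem soc_exhaust (z : M) : ∃ n, Soc x n z := by
  have key : ∀ n : ℕ, ∀ z : M, (∀ a ∈ maximalIdeal A ^ n, a • z = 0) → Soc x n z := by
    intro n
    induction n with
    | zero =>
      intro z hz
      have := hz 1 (by simp)
      rw [one_smul] at this
      exact this
    | succ n ih =>
      intro z hz j
      apply ih
      intro a ha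
      rw [smul_smul]
      apply hz
      rw [pow_succ]
      refine Ideal.mul_mem_mul ha ?_
      rw [hx]
      exact Ideal.subset_span (Set.mem_range_self j)
  obtain ⟨n, hn⟩ := hM z
  exact ⟨n, key n z hn⟩

include hx hM hK in
/-- a power torsion module over a Noetherian local ring whose first Koszul cohomology on generators
of the maximal ideal vanishes is injective. -/
theorem injective_of_koszul : Module.Injective A M := by
  obtain ⟨E₀, _, _, f, hf⟩ := Groth.Agent.S0299.result A M
  haveI := hf.isInjective
  have hxm : ∀ j, x j ∈ maximalIdeal A := by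
    intro j
    rw [hx]
    exact Ideal.subset_span (Set.mem_range_self j)
  haveI hI₀ : Module.Injective A
      ↥(⨆ n : ℕ, Submodule.torsionBySet A E₀ ((maximalIdeal A ^ n : Ideal A) : Set A)) :=
    Groth.Agent.S0301.result A E₀ hf.isInjective (maximalIdeal A)
  have key : ∀ n : ℕ, ∀ y : E₀, (∀ a ∈ maximalIdeal A ^ n, a • y = 0) →
      y ∈ LinearMap.range f := by
    intro n
    induction n with
    | zero =>
      intro y hy
      have := hy 1 (by simp)
      rw [one_smul] at this
      rw [this]
      exact zero_mem _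
    | succ n ih =>
      intro y hy
      have h1 : ∀ j, x j • y ∈ LinearMap.range f := fun j => ih _ (fun a ha => by
        rw [smul_smul]
        apply hy
        rw [pow_succ]
        exact Ideal.mul_mem_mul ha (hxm j))
      choose z hz using h1
      have hcoc : ∀ i j, x i • z j = x j • z i := by
        intro i j
        apply hf.injective
        rw [map_smul, map_smul, hz, hz, smul_smul, smul_smul, mul_comm]
      obtain ⟨w, hw⟩ := hK z hcoc
      have hs : ∀ a ∈ maximalIdeal A, a • (y - f w) = 0 := by
        intro a ha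
        rw [hx] at ha
        refine Submodule.span_induction (p := fun a _ => a • (y - f w) = 0) ?_ ?_ ?_ ?_ ha
        · rintro _ ⟨j, rfl⟩
          rw [smul_sub, ← map_smul, hw, hz, sub_self]
        · simp
        · intro a b _ _ ha hb
          rw [add_smul, ha, hb, add_zero]
        · intro c a _ ha
          rw [smul_eq_mul, mul_smul, ha, smul_zero]
      by_cases hs0 : y - f w = 0
      · rw [sub_eq_zero.mp hs0]
        exact ⟨w, rfl⟩
      · have hN : Submodule.span A {y - f w} ≠ ⊥ := by
          rw [Ne, Submodule.span_singleton_eq_bot]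
          exact hs0
        have hess := hf.essential _ hN
        obtain ⟨u, hu, hu0⟩ := Submodule.exists_mem_ne_zero_of_ne_bot hess
        obtain ⟨hu1, v, hv⟩ := hu
        obtain ⟨a, rfl⟩ := Submodule.mem_span_singleton.mp hu1
        have ha : IsUnit a := by
          by_contra hna
          exact hu0 (hs a hna)
        obtain ⟨b, hb⟩ := ha.exists_left_inv
        have h2 : y - f w = f (b • v) := by
          rw [map_smul, hv, smul_smul, hb, one_smul]
        have h3 : y = f (b • v + w) := by
          rw [map_add, ← h2]; abel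
        exact ⟨_, h3.symm⟩
  have hle : ∀ z, f z ∈
      (⨆ n : ℕ, Submodule.torsionBySet A E₀ ((maximalIdeal A ^ n : Ideal A) : Set A)) := by
    intro z
    obtain ⟨n, hn⟩ := hM z
    refine Submodule.mem_iSup_of_mem n ?_
    rw [Submodule.mem_torsionBySet_iff]
    rintro ⟨a, ha⟩
    show a • f z = 0
    rw [← map_smul, hn a ha, map_zero]
  have hg : Function.Bijective (f.codRestrict _ hle) := by
    refine ⟨fun a b h => hf.injective (congrArg Subtype.val h), ?_⟩
    rintro ⟨y, hy⟩
    have hdir : Directed (· ≤ ·) (fun n : ℕ =>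
        Submodule.torsionBySet A E₀ ((maximalIdeal A ^ n : Ideal A) : Set A)) := by
      refine Monotone.directed_le ?_
      intro i j hij
      exact Submodule.torsionBySet_le_torsionBySet_of_subset
        (fun a ha => Ideal.pow_le_pow_right hij ha)
    obtain ⟨n, hn⟩ := (Submodule.mem_iSup_of_directed _ hdir).mp hy
    rw [Submodule.mem_torsionBySet_iff] at hn
    obtain ⟨w, hw⟩ := key n y (fun a ha => hn ⟨a, ha⟩)
    exact ⟨w, Subtype.ext hw⟩
  exact injective_of_linearEquiv (LinearEquiv.ofBijective _ hg).symm

end inj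

section assemble

variable {A : Type u} [CommRing A] [IsLocalRing A] [IsNoetherianRing A]
  (E : Type u) [AddCommGroup E] [Module A E] (e : ResidueField A →ₗ[A] E)
  (he : InjHull.IsInjectiveHull e)
  (M : Type u) [AddCommGroup M] [Module A M] [Module.Injective A M]
  (hM : LocCoh.IsPowerTorsion (maximalIdeal A) M)

include he hM in
/-- an injective power torsion module over a Noetherian local ring is a direct sum of copies of the
injective hull of the residue field. -/
theorem equiv_finsupp_hull : ∃ J : Type u, Nonempty (M ≃ₗ[A] (J →₀ E)) := by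
  classical
  obtain ⟨ι, F, hint, hF⟩ := Groth.Agent.S0307.result A M inferInstance
  have hpiece : ∀ i, Nonempty (↥(F i) ≃ₗ[A] E) := by
    intro i
    obtain ⟨hindec, hinj⟩ := hF i
    obtain ⟨p, hp, g, hg⟩ := Groth.Agent.S0306.result A ↥(F i) hindec hinj
    have hpm : p = maximalIdeal A := by
      obtain ⟨n, hn⟩ := hM ((g 1 : F i) : M)
      have hle : maximalIdeal A ^ n ≤ p := by
        intro a ha
        have h1 : a • (g 1) = 0 := Subtype.ext (by simpa using hn a ha)
        rw [← map_smul] at h1
        have h2 := hg.injective (h1.trans (map_zero g).symm)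
        rw [Algebra.smul_def, mul_one] at h2
        exact Ideal.algebraMap_residueField_eq_zero.mp h2
      have hle' : maximalIdeal A ≤ p := hp.le_of_pow_le hle
      exact ((IsLocalRing.maximalIdeal.isMaximal A).eq_of_le hp.ne_top hle').symm
    subst hpm
    let e0 : ResidueField A ≃ₗ[A] (maximalIdeal A).ResidueField :=
      LinearEquiv.ofBijective
        (IsScalarTower.toAlgHom A (A ⧸ maximalIdeal A) (maximalIdeal A).ResidueField).toLinearMap
        (Ideal.bijective_algebraMap_quotient_residueField (maximalIdeal A))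
    have hg' : InjHull.IsInjectiveHull (g ∘ₗ e0.toLinearMap) := isInjectiveHull_comp_equiv g hg e0
    obtain ⟨φ, -⟩ := Groth.Agent.S0302.result A (ResidueField A) ↥(F i) E _ hg' e he
    exact ⟨φ⟩
  let φ : ∀ i, ↥(F i) ≃ₗ[A] E := fun i => (hpiece i).some
  let e1 : (DirectSum ι fun i => ↥(F i)) ≃ₗ[A] M :=
    LinearEquiv.ofBijective (DirectSum.coeLinearMap F) hint
  let e2 : (Π₀ i : ι, ↥(F i)) ≃ₗ[A] (Π₀ _ : ι, E) := DFinsupp.mapRange.linearEquiv φ
  let e3 : (ι →₀ E) ≃ₗ[A] (Π₀ _ : ι, E) := finsuppLequivDFinsupp A
  exact ⟨ι, ⟨e1.symm.trans (e2.trans e3.symm)⟩⟩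

end assemble

section main

open MvPowerSeries

variable (k : Type u) [Field k] [CharZero k] (d : ℕ)

theorem maximalIdeal_eq_span_X :
    maximalIdeal (MvPowerSeries (Fin d) k) =
      Ideal.span (Set.range (X : Fin d → MvPowerSeries (Fin d) k)) := by
  apply le_antisymm
  · intro f hf
    rw [IsLocalRing.mem_maximalIdeal, mem_nonunits_iff, MvPowerSeries.isUnit_iff_constantCoeff,
      isUnit_iff_ne_zero, not_not] at hf
    exact Groth.Agent.Helper5.MvPSIdeal.mem_span_X f hf
  · rw [Ideal.span_le]
    rintro f ⟨i, rfl⟩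
    rw [SetLike.mem_coe, IsLocalRing.mem_maximalIdeal, mem_nonunits_iff,
      MvPowerSeries.isUnit_iff_constantCoeff, MvPowerSeries.constantCoeff_X]
    exact not_isUnit_zero

theorem main (E : Type u) [AddCommGroup E] [Module (MvPowerSeries (Fin d) k) E]
    (e : IsLocalRing.ResidueField (MvPowerSeries (Fin d) k) →ₗ[MvPowerSeries (Fin d) k] E)
    (he : InjHull.IsInjectiveHull e)
    (θ : Fin d → Derivation k (MvPowerSeries (Fin d) k) (MvPowerSeries (Fin d) k))
    (hθ : ∀ i j : Fin d, θ i (MvPowerSeries.X j) = if i = j then 1 else 0)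
    (M : Type u) [AddCommGroup M] [Module (MvPowerSeries (Fin d) k) M]
    (hM : LocCoh.IsPowerTorsion (IsLocalRing.maximalIdeal (MvPowerSeries (Fin d) k)) M)
    (D : Fin d → M →+ M)
    (hD : ∀ (i : Fin d) (f : MvPowerSeries (Fin d) k) (z : M),
      D i (f • z) = θ i f • z + f • D i z) :
    ∃ J : Type u, Nonempty (M ≃ₗ[MvPowerSeries (Fin d) k] (J →₀ E)) := by
  have hx := maximalIdeal_eq_span_X k d
  have hD' : ∀ i j z, D i ((X j : MvPowerSeries (Fin d) k) • z) =
      (if i = j then z else 0) + (X j : MvPowerSeries (Fin d) k) • D i z := by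
    intro i j z
    rw [hD, hθ]
    congr 1
    split_ifs <;> simp
  have hu : ∀ n : ℤ, n ≠ 0 → IsUnit ((n : ℤ) : MvPowerSeries (Fin d) k) := by
    intro n hn
    have h1 : IsUnit ((n : ℤ) : k) := isUnit_iff_ne_zero.mpr (Int.cast_ne_zero.mpr hn)
    simpa using h1.map (algebraMap k (MvPowerSeries (Fin d) k))
  have htf : ∀ n : ℤ, n ≠ 0 → ∀ z : M, n • z = 0 → z = 0 := by
    intro n hn z hz
    obtain ⟨b, hb⟩ := (hu n hn).exists_left_inv
    rw [← Int.cast_smul_eq_zsmul (MvPowerSeries (Fin d) k)] at hz
    calc z = (b * (n : MvPowerSeries (Fin d) k)) • z := by rw [hb, one_smul]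
      _ = 0 := by rw [mul_smul, hz, smul_zero]
  have hdiv : ∀ n : ℤ, n ≠ 0 → ∀ z : M, ∃ w, n • w = z := by
    intro n hn z
    obtain ⟨b, hb⟩ := (hu n hn).exists_right_inv
    refine ⟨b • z, ?_⟩
    rw [← Int.cast_smul_eq_zsmul (MvPowerSeries (Fin d) k), smul_smul, hb, one_smul]
  haveI : Module.Injective (MvPowerSeries (Fin d) k) M :=
    injective_of_koszul X hx hM
      (exists_primitive X D hD' htf hdiv (soc_exhaust X hx hM))
  exact equiv_finsupp_hull E e he M hM

end main

end Groth.Agent.Helper7.WeylTors
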