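import Mathlib

/-!
# Wiebe's theorem, part A: the exterior algebra Koszul complex (helper7)

Basic facts on `ExteriorAlgebra R (Fin n → R)` with the contraction differential.
-/

set_option autoImplicit false

namespace Groth.Agent.Helper7.Wiebe

open ExteriorAlgebra

universe u

section General

variable {R : Type u} [CommRing R] {N N' : Type*} [AddCommGroup N] [Module R N]
  [AddCommGroup N'] [Module R N']

/-- linear maps preserve `I • ⊤` -/
theorem map_mem_smul_top (I : Ideal R) (φ : N →ₗ[R] N') {x : N}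
    (hx : x ∈ I • (⊤ : Submodule R N)) : φ x ∈ I • (⊤ : Submodule R N') := by
  have h : (I • (⊤ : Submodule R N)).map φ ≤ I • (⊤ : Submodule R N') := by
    rw [Submodule.map_smul'']
    exact Submodule.smul_mono le_rfl le_top
  exact h (Submodule.mem_map_of_mem hx)

/-- membership in `I • ⊤` by coordinates in a finite basis -/
theorem mem_smul_top_iff_repr {ι : Type*} [Fintype ι] (b : Module.Basis ι R N) (I : Ideal R)
    (x : N) : x ∈ I • (⊤ : Submodule R N) ↔ ∀ i, b.repr x i ∈ I := by
  constructor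
  · intro hx i
    refine Submodule.smul_induction_on hx ?_ ?_
    · intro r hr m _
      rw [map_smul, Finsupp.smul_apply, smul_eq_mul]
      exact I.mul_mem_right _ hr
    · intro x y hx hy
      rw [map_add, Finsupp.add_apply]
      exact I.add_mem hx hy
  · intro h
    rw [← b.sum_repr x]
    exact Submodule.sum_mem _ fun i _ => Submodule.smul_mem_smul (h i) Submodule.mem_top

/-- a nonzerodivisor modulo `I` is a nonzerodivisor on `N / I N` for free `N` -/
theorem mem_smul_top_of_smul_mem {ι : Type*} [Fintype ι] (b : Module.Basis ι R N) (I : Ideal R)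
    (f : R) (hf : ∀ a, f * a ∈ I → a ∈ I) {x : N} (hx : f • x ∈ I • (⊤ : Submodule R N)) :
    x ∈ I • (⊤ : Submodule R N) := by
  rw [mem_smul_top_iff_repr b] at hx ⊢
  intro i
  apply hf
  have := hx i
  rwa [map_smul, Finsupp.smul_apply, smul_eq_mul] at this

theorem sup_span_smul_top (I : Ideal R) (f : R) {x : N}
    (hx : x ∈ (I ⊔ Ideal.span {f}) • (⊤ : Submodule R N)) :
    ∃ y : N, x - f • y ∈ I • (⊤ : Submodule R N) := by
  rw [Submodule.sup_smul, Submodule.mem_sup] at hx
  obtain ⟨a, ha, b, hb, rfl⟩ := hx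
  rw [Submodule.ideal_span_singleton_smul] at hb
  obtain ⟨y, -, rfl⟩ := (Submodule.mem_smul_pointwise_iff_exists _ _ _).mp hb
  exact ⟨y, by simpa using ha⟩

end General

section Ext

variable {R : Type u} [CommRing R] {M : Type*} [AddCommGroup M] [Module R M]
  (γ : Module.Dual R M)

/-- the Koszul differential: (right) contraction with `γ` -/
noncomputable def dE : ExteriorAlgebra R M →ₗ[R] ExteriorAlgebra R M :=
  LinearMap.flip (CliffordAlgebra.contractRight (Q := (0 : QuadraticForm R M))) γ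

theorem dE_mul_ι (c : M) (ω : ExteriorAlgebra R M) :
    dE γ (ω * ι R c) = γ c • ω - dE γ ω * ι R c :=
  CliffordAlgebra.contractRight_mul_ι γ c ω

theorem dE_dE (ω : ExteriorAlgebra R M) : dE γ (dE γ ω) = 0 :=
  CliffordAlgebra.contractRight_contractRight γ ω

theorem dE_algebraMap (r : R) : dE γ (algebraMap R (ExteriorAlgebra R M) r) = 0 :=
  CliffordAlgebra.contractRight_algebraMap _ γ r

theorem dE_ι (c : M) : dE γ (ι R c) = algebraMap R _ (γ c) :=
  CliffordAlgebra.contractRight_ι _ γ c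

theorem mul_ι_mem {k : ℕ} (c : M) {ω : ExteriorAlgebra R M} (hω : ω ∈ ⋀[R]^k M) :
    ω * ι R c ∈ ⋀[R]^(k + 1) M := by
  show ω * ι R c ∈ LinearMap.range (ι R) ^ (k + 1)
  rw [pow_succ]
  exact Submodule.mul_mem_mul hω (LinearMap.mem_range_self _ c)

theorem dE_mem : ∀ (k : ℕ) {ω : ExteriorAlgebra R M}, ω ∈ ⋀[R]^(k + 1) M →
    dE γ ω ∈ ⋀[R]^k M := by
  intro k
  induction k with
  | zero =>
    intro ω hω
    have hω' : ω ∈ LinearMap.range (ι R (M := M)) := by
      have : ω ∈ LinearMap.range (ι R (M := M)) ^ (0 + 1) := hω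
      rwa [zero_add, pow_one] at this
    obtain ⟨c, rfl⟩ := hω'
    rw [dE_ι]
    show _ ∈ LinearMap.range (ι R (M := M)) ^ 0
    rw [pow_zero, Submodule.mem_one]
    exact ⟨_, rfl⟩
  | succ k ih =>
    intro ω hω
    have hω' : ω ∈ LinearMap.range (ι R (M := M)) ^ (k + 1) * LinearMap.range (ι R (M := M)) := by
      have : ω ∈ LinearMap.range (ι R (M := M)) ^ (k + 1 + 1) := hω
      rwa [pow_succ] at this
    refine Submodule.mul_induction_on hω' ?_ ?_
    · rintro ω' hω' _ ⟨c, rfl⟩
      rw [dE_mul_ι]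
      exact Submodule.sub_mem _ (Submodule.smul_mem _ _ hω') (mul_ι_mem c (ih hω'))
    · intro x y hx hy
      rw [map_add]
      exact Submodule.add_mem _ hx hy

theorem mem_zero_iff (ω : ExteriorAlgebra R M) :
    ω ∈ ⋀[R]^0 M ↔ ∃ r : R, algebraMap R _ r = ω := by
  show ω ∈ LinearMap.range (ι R (M := M)) ^ 0 ↔ _
  rw [pow_zero, Submodule.mem_one]

/-- the projection onto the degree `j` part -/
noncomputable def pE (j : ℕ) : ExteriorAlgebra R M →ₗ[R] ExteriorAlgebra R M :=
  GradedAlgebra.proj (fun i : ℕ => ⋀[R]^i M) j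

theorem pE_mem (j : ℕ) (ω : ExteriorAlgebra R M) : pE j ω ∈ ⋀[R]^j M := by
  unfold pE
  rw [GradedAlgebra.proj_apply]
  exact SetLike.coe_mem _

theorem pE_of_mem {j : ℕ} {ω : ExteriorAlgebra R M} (hω : ω ∈ ⋀[R]^j M) : pE j ω = ω := by
  unfold pE
  rw [GradedAlgebra.proj_apply]
  exact DirectSum.decompose_of_mem_same _ hω

/-- splitting off a multiple of `f` in a fixed degree -/
theorem split_mem (I : Ideal R) (f : R) {j : ℕ} {ω : ExteriorAlgebra R M}
    (hω : ω ∈ ⋀[R]^j M)
    (h : ω ∈ (I ⊔ Ideal.span {f}) • (⊤ : Submodule R (ExteriorAlgebra R M))) :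
    ∃ v ∈ ⋀[R]^j M, ω - f • v ∈ I • (⊤ : Submodule R (ExteriorAlgebra R M)) := by
  obtain ⟨y, hy⟩ := sup_span_smul_top I f h
  refine ⟨pE j y, pE_mem j y, ?_⟩
  have := map_mem_smul_top I (pE (R := R) (M := M) j) hy
  rwa [map_sub, map_smul, pE_of_mem hω] at this

end Ext

section Fin

variable {R : Type u} [CommRing R] {n : ℕ}

/-- the standard basis of the exterior algebra of `R^n` -/
noncomputable def bE (R : Type u) [CommRing R] (n : ℕ) :
    Module.Basis (Finset (Fin n)) R (ExteriorAlgebra R (Fin n → R)) :=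
  (Pi.basisFun R (Fin n)).ExteriorAlgebra

/-- exterior powers above the rank vanish -/
theorem eq_zero_of_mem_of_lt {j : ℕ} (hj : n < j) {ω : ExteriorAlgebra R (Fin n → R)}
    (hω : ω ∈ ⋀[R]^j (Fin n → R)) : ω = 0 := by
  have hE : IsEmpty (Set.powersetCard (Fin n) j) := by
    constructor
    rintro ⟨s, hs⟩
    rw [Set.powersetCard.mem_iff] at hs
    have := Finset.card_le_univ s
    rw [Fintype.card_fin] at this
    omega
  let b := (Pi.basisFun R (Fin n)).exteriorPower (n := j)
  have hsub : Subsingleton (⋀[R]^j (Fin n → R)) := b.repr.toEquiv.subsingleton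
  have := Subsingleton.elim (⟨ω, hω⟩ : ⋀[R]^j (Fin n → R)) 0
  exact congrArg Subtype.val this

/-- the family of alternating maps picking out the top coefficient -/
noncomputable def topFam (R : Type u) [CommRing R] (n : ℕ) :
    ∀ i : ℕ, (Fin n → R) [⋀^Fin i]→ₗ[R] R := fun i =>
  if h : i = n then h ▸ (Matrix.detRowAlternating (R := R) (n := Fin n)) else 0

/-- the top coefficient functional -/
noncomputable def τE (R : Type u) [CommRing R] (n : ℕ) :
    ExteriorAlgebra R (Fin n → R) →ₗ[R] R :=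
  ExteriorAlgebra.liftAlternating (R := R) (M := Fin n → R) (N := R) (topFam R n)

theorem τE_ιMulti (v : Fin n → (Fin n → R)) :
    τE R n (ExteriorAlgebra.ιMulti R n v) = Matrix.det (Matrix.of v) := by
  unfold τE
  rw [ExteriorAlgebra.liftAlternating_apply_ιMulti]
  unfold topFam
  rw [dif_pos rfl]
  rfl

end Fin

end Groth.Agent.Helper7.Wiebe
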