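import Groth.Agent.Helper7.WiebeA

/-!
# Wiebe's theorem, part B: regular sequences (helper7)
-/

set_option autoImplicit false

namespace Groth.Agent.Helper7.Wiebe

open ExteriorAlgebra

universe u

variable {R : Type u} [CommRing R] {n : ℕ}

/-- `rs` is a regular sequence modulo `K` (no non-triviality condition) -/
def RegOn : Ideal R → List R → Prop
  | _, [] => True
  | K, r :: rs => (∀ x, r * x ∈ K → x ∈ K) ∧ RegOn (K ⊔ Ideal.span {r}) rs

/-- iterated right multiplication: `Wr [c₁, …, c_m] z = z ∧ c₁ ∧ ⋯ ∧ c_m` -/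
noncomputable def Wr : List (Fin n → R) →
    (ExteriorAlgebra R (Fin n → R) →ₗ[R] ExteriorAlgebra R (Fin n → R))
  | [] => LinearMap.id
  | c :: cs => (Wr cs) ∘ₗ (LinearMap.mulRight R (ι R c))

@[simp] theorem Wr_nil (z : ExteriorAlgebra R (Fin n → R)) : Wr ([] : List (Fin n → R)) z = z := rfl

@[simp] theorem Wr_cons (c : Fin n → R) (cs : List (Fin n → R))
    (z : ExteriorAlgebra R (Fin n → R)) : Wr (c :: cs) z = Wr cs (z * ι R c) := rfl

theorem Wr_mem (cs : List (Fin n → R)) : ∀ {k : ℕ} {z : ExteriorAlgebra R (Fin n → R)},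
    z ∈ ⋀[R]^k (Fin n → R) → Wr cs z ∈ ⋀[R]^(k + cs.length) (Fin n → R) := by
  induction cs with
  | nil => intro k z hz; simpa using hz
  | cons c cs ih =>
    intro k z hz
    rw [Wr_cons]
    have := ih (mul_ι_mem c hz)
    rwa [List.length_cons, show k + (cs.length + 1) = k + 1 + cs.length by omega]

theorem Wr_eq_prod (cs : List (Fin n → R)) (z : ExteriorAlgebra R (Fin n → R)) :
    Wr cs z = z * ((cs.map (ι R)).prod) := by
  induction cs generalizing z with
  | nil => simp
  | cons c cs ih =>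
    rw [Wr_cons, ih, List.map_cons, List.prod_cons, mul_assoc]

variable (γ : Module.Dual R (Fin n → R))

local notation "E" => ExteriorAlgebra R (Fin n → R)

/-- iterated Leibniz rule, in the form needed -/
theorem Wr_dE_mem (cs : List (Fin n → R)) : ∀ (u : E), Wr cs u = 0 →
    Wr cs (dE γ u) ∈ (Ideal.ofList (cs.map γ)) • (⊤ : Submodule R E) := by
  induction cs with
  | nil =>
    intro u hu
    rw [Wr_nil] at hu
    rw [hu, map_zero, map_zero]
    exact Submodule.zero_mem _
  | cons c cs ih =>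
    intro u hu
    rw [Wr_cons] at hu
    have h1 : dE γ u * ι R c = γ c • u - dE γ (u * ι R c) := by
      rw [dE_mul_ι]; abel
    rw [Wr_cons, h1, map_sub, map_smul, List.map_cons, Ideal.ofList_cons]
    refine Submodule.sub_mem _ ?_ ?_
    · exact Submodule.smul_mem_smul (Ideal.mem_sup_left (Ideal.mem_span_singleton_self _))
        Submodule.mem_top
    · exact Submodule.smul_mono le_sup_right le_rfl (ih _ hu)

theorem claim_a (cs : List (Fin n → R)) : ∀ (I : Ideal R), RegOn I (cs.map γ) →
    ∀ k : ℕ, n < k + 1 + cs.length → ∀ z ∈ ⋀[R]^(k + 1) (Fin n → R),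
      dE γ z ∈ I • (⊤ : Submodule R E) →
      ∃ u ∈ ⋀[R]^(k + 2) (Fin n → R), z - dE γ u ∈ I • (⊤ : Submodule R E) := by
  induction cs with
  | nil =>
    intro I _ k hk z hz _
    have : z = 0 := eq_zero_of_mem_of_lt (by simpa using hk) hz
    exact ⟨0, Submodule.zero_mem _, by simp [this]⟩
  | cons c cs ih =>
    intro I hreg k hk z hz hdz
    obtain ⟨hf, hreg'⟩ := hreg
    -- v = c ∧ z
    have hv : z * ι R c ∈ ⋀[R]^(k + 2) (Fin n → R) := mul_ι_mem c hz
    have hdv : dE γ (z * ι R c) ∈
        (I ⊔ Ideal.span {γ c}) • (⊤ : Submodule R E) := by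
      rw [dE_mul_ι]
      refine Submodule.sub_mem _ ?_ ?_
      · exact Submodule.smul_mem_smul (Ideal.mem_sup_right (Ideal.mem_span_singleton_self _))
          Submodule.mem_top
      · exact Submodule.smul_mono le_sup_left le_rfl
          (map_mem_smul_top I (LinearMap.mulRight R (ι R c)) hdz)
    obtain ⟨u, hu, hvu⟩ := ih (I ⊔ Ideal.span {γ c}) hreg' (k + 1)
      (by simp only [List.length_cons] at hk; omega) _ hv hdv
    have hvu' : z * ι R c - dE γ u ∈ ⋀[R]^(k + 2) (Fin n → R) :=
      Submodule.sub_mem _ hv (dE_mem γ (k + 2) hu)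
    obtain ⟨v', hv', hsplit⟩ := split_mem I (γ c) hvu' hvu
    refine ⟨v', hv', ?_⟩
    -- apply d
    have h2 := map_mem_smul_top I (dE γ) hsplit
    rw [map_sub, map_sub, dE_dE, sub_zero, map_smul, dE_mul_ι] at h2
    have h3 : γ c • (z - dE γ v') ∈ I • (⊤ : Submodule R E) := by
      have h4 : γ c • (z - dE γ v') =
          (γ c • z - dE γ z * ι R c - γ c • dE γ v') + dE γ z * ι R c := by
        rw [smul_sub]; abel
      rw [h4]
      exact Submodule.add_mem _ h2 (map_mem_smul_top I (LinearMap.mulRight R (ι R c)) hdz)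
    exact mem_smul_top_of_smul_mem (bE R n) I (γ c) hf h3

theorem claim_b (cs : List (Fin n → R)) : ∀ (I : Ideal R), RegOn I (cs.map γ) →
    ∀ k : ℕ, k + cs.length = n → ∀ ζ ∈ ⋀[R]^n (Fin n → R),
      dE γ ζ ∈ (I ⊔ Ideal.ofList (cs.map γ)) • (⊤ : Submodule R E) →
      ∃ z ∈ ⋀[R]^k (Fin n → R), dE γ z ∈ I • (⊤ : Submodule R E) ∧
        ζ - Wr cs z ∈ (I ⊔ Ideal.ofList (cs.map γ)) • (⊤ : Submodule R E) := by
  induction cs with
  | nil =>
    intro I _ k hk ζ hζ hd
    simp only [List.length_nil, add_zero] at hk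
    subst hk
    refine ⟨ζ, hζ, ?_, by simp⟩
    simpa using hd
  | cons c cs ih =>
    intro I hreg k hk ζ hζ hd
    have hreg0 := hreg
    obtain ⟨hf, hreg'⟩ := hreg
    have hid : I ⊔ Ideal.ofList ((c :: cs).map γ) =
        (I ⊔ Ideal.span {γ c}) ⊔ Ideal.ofList (cs.map γ) := by
      rw [List.map_cons, Ideal.ofList_cons, sup_assoc]
    rw [hid] at hd ⊢
    simp only [List.length_cons] at hk
    obtain ⟨w, hw, hdw, hζw⟩ := ih (I ⊔ Ideal.span {γ c}) hreg' (k + 1) (by omega) ζ hζ hd
    -- split d w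
    cases k with
    | zero =>
      -- degree zero: `d w` is a scalar
      obtain ⟨z, hz, hsplit⟩ := split_mem I (γ c) (dE_mem γ 0 hw) hdw
      have hdz : dE γ z = 0 := by
        obtain ⟨r, rfl⟩ := (mem_zero_iff z).mp hz
        exact dE_algebraMap γ r
      have hy : w - z * ι R c ∈ ⋀[R]^(0 + 1) (Fin n → R) :=
        Submodule.sub_mem _ hw (mul_ι_mem c hz)
      have hdy : dE γ (w - z * ι R c) ∈ I • (⊤ : Submodule R E) := by
        rw [map_sub, dE_mul_ι, hdz, zero_mul, sub_zero]
        exact hsplit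
      obtain ⟨u, hu, hyu⟩ := claim_a γ (c :: cs) I hreg0 0
        (by simp only [List.length_cons]; omega) _ hy hdy
      refine ⟨z, hz, by rw [hdz]; exact Submodule.zero_mem _, ?_⟩
      have hWu : Wr cs u = 0 := by
        apply eq_zero_of_mem_of_lt (j := 0 + 2 + cs.length) (by omega)
        exact Wr_mem cs hu
      have h5 := Wr_dE_mem γ cs u hWu
      have h6 := map_mem_smul_top I (Wr cs) hyu
      have e : ζ - Wr (c :: cs) z =
          (ζ - Wr cs w) + Wr cs (w - z * ι R c - dE γ u) + Wr cs (dE γ u) := by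
        rw [Wr_cons]; simp only [map_sub]; abel
      rw [e]
      refine Submodule.add_mem _ (Submodule.add_mem _ hζw ?_) ?_
      · exact Submodule.smul_mono (le_sup_of_le_left le_sup_left) le_rfl h6
      · exact Submodule.smul_mono le_sup_right le_rfl h5
    | succ k =>
      obtain ⟨z, hz, hsplit⟩ := split_mem I (γ c) (dE_mem γ (k + 1) hw) hdw
      have hdz : dE γ z ∈ I • (⊤ : Submodule R E) := by
        have h2 := map_mem_smul_top I (dE γ) hsplit
        rw [map_sub, dE_dE, zero_sub, map_smul, neg_mem_iff] at h2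
        exact mem_smul_top_of_smul_mem (bE R n) I (γ c) hf h2
      have hy : w - z * ι R c ∈ ⋀[R]^(k + 1 + 1) (Fin n → R) :=
        Submodule.sub_mem _ hw (mul_ι_mem c hz)
      have hdy : dE γ (w - z * ι R c) ∈ I • (⊤ : Submodule R E) := by
        rw [map_sub, dE_mul_ι]
        have e : dE γ w - (γ c • z - dE γ z * ι R c) =
            (dE γ w - γ c • z) + dE γ z * ι R c := by abel
        rw [e]
        exact Submodule.add_mem _ hsplit (map_mem_smul_top I (LinearMap.mulRight R (ι R c)) hdz)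
      obtain ⟨u, hu, hyu⟩ := claim_a γ (c :: cs) I hreg0 (k + 1)
        (by simp only [List.length_cons]; omega) _ hy hdy
      refine ⟨z, hz, hdz, ?_⟩
      have hWu : Wr cs u = 0 := by
        apply eq_zero_of_mem_of_lt (j := k + 1 + 2 + cs.length) (by omega)
        exact Wr_mem cs hu
      have h5 := Wr_dE_mem γ cs u hWu
      have h6 := map_mem_smul_top I (Wr cs) hyu
      have e : ζ - Wr (c :: cs) z =
          (ζ - Wr cs w) + Wr cs (w - z * ι R c - dE γ u) + Wr cs (dE γ u) := by
        rw [Wr_cons]; simp only [map_sub]; abel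
      rw [e]
      refine Submodule.add_mem _ (Submodule.add_mem _ hζw ?_) ?_
      · exact Submodule.smul_mono (le_sup_of_le_left le_sup_left) le_rfl h6
      · exact Submodule.smul_mono le_sup_right le_rfl h5

/-- the differential has values in the ideal generated by the values of `γ` -/
theorem dE_mem_smul_top (J : Ideal R) (hJ : ∀ c, γ c ∈ J) (ω : E) :
    dE γ ω ∈ J • (⊤ : Submodule R E) := by
  induction ω using CliffordAlgebra.right_induction with
  | algebraMap r => rw [dE_algebraMap]; exact Submodule.zero_mem _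
  | add x y hx hy => rw [map_add]; exact Submodule.add_mem _ hx hy
  | mul_ι c x hx =>
    have := dE_mul_ι γ c x
    rw [this]
    exact Submodule.sub_mem _ (Submodule.smul_mem_smul (hJ c) Submodule.mem_top)
      (map_mem_smul_top J (LinearMap.mulRight R (ι R c)) hx)

omit γ in
theorem smul_mem_smul_top_of_mul (J K : Ideal R) (x : R) (h : ∀ r ∈ J, x * r ∈ K) {ω : E}
    (hω : ω ∈ J • (⊤ : Submodule R E)) : x • ω ∈ K • (⊤ : Submodule R E) := by
  refine Submodule.smul_induction_on hω ?_ ?_
  · intro r hr m _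
    rw [smul_smul]
    exact Submodule.smul_mem_smul (h r hr) Submodule.mem_top
  · intro a b ha hb
    rw [smul_add]
    exact Submodule.add_mem _ ha hb

omit γ in
theorem τE_mem (K : Ideal R) {ω : E} (hω : ω ∈ K • (⊤ : Submodule R E)) : τE R n ω ∈ K := by
  have := map_mem_smul_top K (τE R n) hω
  rwa [smul_eq_mul, Ideal.mul_top] at this

/-- **Wiebe's theorem** (the hard inclusion) for a regular sequence `F = C g`:
`((F) : (g)) ⊆ (F) + (det C)`. -/
theorem wiebe_reg (g : Fin n → R) (C : Matrix (Fin n) (Fin n) R)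
    (hreg : RegOn ⊥ (List.ofFn fun i => ∑ j, C i j * g j)) (x : R)
    (hx : ∀ j, x * g j ∈ Ideal.span (Set.range fun i => ∑ j, C i j * g j)) :
    x ∈ Ideal.span (Set.range fun i => ∑ j, C i j * g j) ⊔ Ideal.span {C.det} := by
  classical
  let F : Fin n → R := fun i => ∑ j, C i j * g j
  let γ : Module.Dual R (Fin n → R) := ∑ j, g j • LinearMap.proj j
  have hγ : ∀ v : Fin n → R, γ v = ∑ j, v j * g j := by
    intro v
    simp only [γ, LinearMap.sum_apply, LinearMap.smul_apply, LinearMap.proj_apply, smul_eq_mul]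
    exact Finset.sum_congr rfl fun j _ => mul_comm _ _
  let cs : List (Fin n → R) := List.ofFn fun i => C i
  have hcs : cs.map γ = List.ofFn F := by
    simp only [cs, List.map_ofFn]
    congr 1
    funext i
    exact hγ (C i)
  have hlen : cs.length = n := List.length_ofFn
  have hof : Ideal.ofList (List.ofFn F) = Ideal.span (Set.range F) := by
    unfold Ideal.ofList
    congr 1
    ext y
    simp [List.mem_ofFn]
  -- the top element
  let etop : E := ExteriorAlgebra.ιMulti R n (fun i => Pi.single i (1 : R))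
  have hetop : etop ∈ ⋀[R]^n (Fin n → R) := ExteriorAlgebra.ιMulti_range R n ⟨_, rfl⟩
  have hτtop : τE R n etop = 1 := by
    rw [τE_ιMulti]
    have : (Matrix.of fun i : Fin n => (Pi.single i (1 : R) : Fin n → R)) = 1 := by
      ext i j
      simp [Matrix.one_apply, Pi.single_apply, eq_comm]
    rw [this, Matrix.det_one]
  have hJ : ∀ c, γ c ∈ Ideal.span (Set.range g) := by
    intro c
    rw [hγ]
    exact Ideal.sum_mem _ fun j _ => Ideal.mul_mem_left _ _ (Ideal.subset_span ⟨j, rfl⟩)
  have hxJ : ∀ r ∈ Ideal.span (Set.range g), x * r ∈ Ideal.span (Set.range F) := by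
    intro r hr
    refine Submodule.span_induction ?_ ?_ ?_ ?_ hr
    · rintro _ ⟨j, rfl⟩; exact hx j
    · simp
    · intro a b _ _ ha hb; rw [mul_add]; exact Ideal.add_mem _ ha hb
    · intro a b _ hb
      rw [smul_eq_mul, mul_left_comm]
      exact Ideal.mul_mem_left _ _ hb
  have hdζ : dE γ (x • etop) ∈
      ((⊥ : Ideal R) ⊔ Ideal.ofList (cs.map γ)) • (⊤ : Submodule R E) := by
    rw [bot_sup_eq, hcs, hof, map_smul]
    exact smul_mem_smul_top_of_mul _ _ x hxJ (dE_mem_smul_top γ _ hJ etop)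
  have hreg' : RegOn ⊥ (cs.map γ) := by rw [hcs]; exact hreg
  obtain ⟨z, hz, -, hζz⟩ := claim_b γ cs ⊥ hreg' 0 (by omega) (x • etop)
    (Submodule.smul_mem _ _ hetop) hdζ
  obtain ⟨y, rfl⟩ := (mem_zero_iff z).mp hz
  rw [bot_sup_eq, hcs, hof, Wr_eq_prod] at hζz
  have hprod : (cs.map (ι R)).prod = ExteriorAlgebra.ιMulti R n (fun i => C i) := by
    rw [ExteriorAlgebra.ιMulti_apply]
    simp only [cs, List.map_ofFn]
    rfl
  have h1 := τE_mem _ hζz
  rw [map_sub, map_smul, hτtop, hprod, Algebra.algebraMap_eq_smul_one, smul_mul_assoc, one_mul,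
    map_smul, τE_ιMulti, smul_eq_mul, smul_eq_mul, mul_one] at h1
  have hC : (Matrix.of fun i => C i) = C := rfl
  rw [hC] at h1
  have : x = (x - y * C.det) + y * C.det := by ring
  rw [this]
  exact Ideal.add_mem _ (Ideal.mem_sup_left h1)
    (Ideal.mem_sup_right (Ideal.mul_mem_left _ _ (Ideal.mem_span_singleton_self _)))

end Groth.Agent.Helper7.Wiebe
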