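import Groth.Agent.Helper7.WiebeB
import Groth.Agent.Helper5.KRegSm4
import Groth.Agent.Lead.KoszulFunC

/-!
# Wiebe's theorem, part C: Koszul-regular sequences (helper7)

Reduction to the regular case via the smooth surjective base change of `Helper5.KRegSm`.
-/

set_option autoImplicit false
set_option linter.style.haveILetI false
set_option linter.unusedSectionVars false
set_option linter.unusedVariables false

namespace Groth.Agent.Helper7.Wiebe

universe u
open Polynomial Groth.Agent.Helper5.KRegSm

/-- the two notions of `RegOn` agree -/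
theorem regOn_iff {S : Type u} [CommRing S] (l : List S) : ∀ K : Ideal S,
    Groth.Agent.Helper5.KRegSm.RegOn K l ↔ RegOn K l := by
  induction l with
  | nil => intro K; exact Iff.rfl
  | cons r rs ih =>
    intro K
    exact and_congr Iff.rfl (ih _)

/-- `Helper5.KRegSm.main_aux` with the length of the new sequence recorded -/
theorem main_aux_len : ∀ (n : ℕ) (A : Type u) [CommRing A] (J : Ideal A) (l : List A), l.length = n →
    LCI.IsKoszulRegularSeq (A ⧸ J) (l.map (Ideal.Quotient.mk J)) →
    ∃ (A' : Type u) (_ : CommRing A') (_ : Algebra A A'), Good A A' ∧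
      ∃ l' : List A', l'.length = n ∧
        Groth.Agent.Helper5.KRegSm.RegOn (J.map (algebraMap A A')) l' ∧
        Ideal.ofList l' ⊔ J.map (algebraMap A A') =
          (Ideal.ofList l).map (algebraMap A A') ⊔ J.map (algebraMap A A')
  | 0, A, _, J, l, hlen, _ => by
    obtain rfl : l = [] := List.length_eq_zero_iff.1 hlen
    exact ⟨A, inferInstance, inferInstance, Good.refl A, [], rfl, trivial, by simp⟩
  | n + 1, A, _, J, l, hlen, hl => by
    obtain ⟨f, t, rfl⟩ : ∃ f t, l = f :: t := by
      cases l with
      | nil => simp at hlen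
      | cons f t => exact ⟨f, t, rfl⟩
    have ht : t.length = n := by simpa using hlen
    have hstep := kreg_step_quot J f t hl
    obtain ⟨B', _, _, hgood, t', hlen', hreg, hideal⟩ :=
      main_aux_len n A[X] (Jnext J (f :: t)) (t.map C) (by simp [ht]) hstep
    letI : Algebra A B' := ((algebraMap A[X] B').comp C).toAlgebra
    haveI : IsScalarTower A A[X] B' := IsScalarTower.of_algebraMap_eq (fun x => rfl)
    have hα : algebraMap A B' = (algebraMap A[X] B').comp C := rfl
    have hJ : J.map (algebraMap A B') = (J.map C).map (algebraMap A[X] B') := by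
      rw [hα, Ideal.map_map]
    have hJn : (Jnext J (f :: t)).map (algebraMap A[X] B') =
        J.map (algebraMap A B') ⊔ Ideal.span {algebraMap A[X] B' (gpoly (f :: t))} := by
      rw [Jnext, Ideal.map_sup, Ideal.map_span, Set.image_singleton, hJ]
    refine ⟨B', inferInstance, inferInstance, Good.trans A A[X] B' (Good.polynomial A) hgood,
      algebraMap A[X] B' (gpoly (f :: t)) :: t', by simp [hlen'], ⟨?_, ?_⟩, ?_⟩
    · intro x hx
      rw [hJ] at hx ⊢
      haveI := hgood.flat
      exact colon_flat (J.map C) (gpoly (f :: t)) (gpoly_colon J (f :: t) (by simp) hl) x hx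
    · rw [← hJn]
      exact hreg
    · rw [hJn] at hideal
      have hT : (Ideal.ofList (t.map C)).map (algebraMap A[X] B') =
          (Ideal.ofList t).map (algebraMap A B') := by
        rw [Groth.Agent.Helper8.RegSeqA.ofList_map, Ideal.map_map, hα]
      rw [hT] at hideal
      have hsub : algebraMap A[X] B' (gpoly (f :: t)) - algebraMap A B' f ∈
          (Ideal.ofList t).map (algebraMap A B') ⊔ J.map (algebraMap A B') := by
        refine Ideal.mem_sup_left ?_
        rw [← hT]
        have h1 := gpoly_sub_mem f t
        have h2 : algebraMap A[X] B' (gpoly (f :: t)) - algebraMap A B' f =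
            algebraMap A[X] B' (gpoly (f :: t) - C f) := by
          rw [map_sub]; rfl
        rw [h2]
        apply Ideal.mem_map_of_mem
        exact h1
      calc Ideal.ofList (algebraMap A[X] B' (gpoly (f :: t)) :: t') ⊔ J.map (algebraMap A B')
          = Ideal.ofList t' ⊔ (J.map (algebraMap A B') ⊔
              Ideal.span {algebraMap A[X] B' (gpoly (f :: t))}) := by
            rw [Ideal.ofList_cons]
            ac_rfl
        _ = (Ideal.ofList t).map (algebraMap A B') ⊔ (J.map (algebraMap A B') ⊔
              Ideal.span {algebraMap A[X] B' (gpoly (f :: t))}) := hideal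
        _ = ((Ideal.ofList t).map (algebraMap A B') ⊔ J.map (algebraMap A B')) ⊔
              Ideal.span {algebraMap A[X] B' (gpoly (f :: t))} := by ac_rfl
        _ = ((Ideal.ofList t).map (algebraMap A B') ⊔ J.map (algebraMap A B')) ⊔
              Ideal.span {algebraMap A B' f} := sup_span_eq _ _ _ hsub
        _ = (Ideal.ofList (f :: t)).map (algebraMap A B') ⊔ J.map (algebraMap A B') := by
            rw [Ideal.ofList_cons, Ideal.map_sup, Ideal.map_span (algebraMap A B') {f},
              Set.image_singleton]
            ac_rfl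

/-- a Koszul-regular sequence becomes, after a faithfully flat base change, an ideal generated by
a regular sequence of the same length -/
theorem exists_regOn (A : Type u) [CommRing A] (l : List A) (hl : LCI.IsKoszulRegularSeq A l) :
    ∃ (A' : Type u) (_ : CommRing A') (_ : Algebra A A'), Module.FaithfullyFlat A A' ∧
      ∃ l' : List A', l'.length = l.length ∧ RegOn ⊥ l' ∧
        Ideal.ofList l' = (Ideal.ofList l).map (algebraMap A A') := by
  have h0 : LCI.IsKoszulRegularSeq (A ⧸ (⊥ : Ideal A)) (l.map (Ideal.Quotient.mk ⊥)) := by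
    have := Groth.Agent.Helper3.KzLoc.kreg_map_ringEquiv (RingEquiv.quotientBot A).symm l hl
    have e : l.map (RingEquiv.quotientBot A).symm = l.map (Ideal.Quotient.mk ⊥) := by
      apply List.map_congr_left
      intro a _
      exact RingEquiv.quotientBot_symm_mk a
    rwa [e] at this
  obtain ⟨A', _, _, hgood, l', hlen, hreg, hideal⟩ := main_aux_len l.length A ⊥ l rfl h0
  haveI := hgood.flat
  refine ⟨A', inferInstance, inferInstance, Module.FaithfullyFlat.of_comap_surjective hgood.surj,
    l', hlen, ?_, ?_⟩
  · rw [Ideal.map_bot] at hreg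
    exact (regOn_iff l' ⊥).mp hreg
  · simpa using hideal

theorem ofList_ofFn {S : Type u} [CommRing S] {n : ℕ} (F : Fin n → S) :
    Ideal.ofList (List.ofFn F) = Ideal.span (Set.range F) := by
  unfold Ideal.ofList
  congr 1
  ext y
  simp [List.mem_ofFn]

/-- **Wiebe's theorem** (the hard inclusion) for a Koszul-regular sequence `F = C g`:
`((F) : (g)) ⊆ (F) + (det C)`. -/
theorem wiebe_kreg {R : Type u} [CommRing R] {n : ℕ} (F g : Fin n → R)
    (C : Matrix (Fin n) (Fin n) R) (hF : LCI.IsKoszulRegularSeq R (List.ofFn F))
    (hC : ∀ i, F i = ∑ j, C i j * g j) (x : R)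
    (hx : ∀ j, x * g j ∈ Ideal.span (Set.range F)) :
    x ∈ Ideal.span (Set.range F) ⊔ Ideal.span {C.det} := by
  classical
  obtain ⟨A', _, _, hff, l', hlen, hreg, hideal⟩ := exists_regOn R (List.ofFn F) hF
  have hlen' : l'.length = n := by rw [hlen, List.length_ofFn]
  let φ : R →+* A' := algebraMap R A'
  let F' : Fin n → A' := fun i => l'.get (Fin.cast hlen'.symm i)
  have hl' : List.ofFn F' = l' := by
    have := List.ofFn_congr hlen' l'.get
    rw [List.ofFn_get] at this
    exact this.symm
  have hspan' : Ideal.span (Set.range F') = (Ideal.span (Set.range F)).map φ := by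
    rw [← ofList_ofFn F', hl', hideal, ofList_ofFn]
  have hmapspan : (Ideal.span (Set.range F)).map φ = Ideal.span (Set.range (φ ∘ F)) := by
    rw [Ideal.map_span, Set.range_comp]
  have hmem : ∀ i, ∃ U : Fin n → A', ∑ k, U k * φ (F k) = F' i := by
    intro i
    have : F' i ∈ Ideal.span (Set.range (φ ∘ F)) := by
      rw [← hmapspan, ← hspan']
      exact Ideal.subset_span ⟨i, rfl⟩
    exact (Ideal.mem_span_range_iff_exists_fun).mp this
  choose U hU using hmem
  let C' : Matrix (Fin n) (Fin n) A' := Matrix.of U * C.map φ
  have hF' : ∀ i, F' i = ∑ j, C' i j * φ (g j) := by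
    intro i
    rw [← hU i]
    simp only [C', Matrix.mul_apply, Matrix.of_apply, Matrix.map_apply]
    have : ∀ k, φ (F k) = ∑ j, φ (C k j) * φ (g j) := by
      intro k
      rw [hC k, map_sum]
      exact Finset.sum_congr rfl fun j _ => map_mul _ _ _
    simp only [this, Finset.mul_sum, Finset.sum_mul]
    rw [Finset.sum_comm]
    exact Finset.sum_congr rfl fun j _ => Finset.sum_congr rfl fun k _ => by ring
  have hfun : (fun i => ∑ j, C' i j * (φ ∘ g) j) = F' := by
    funext i
    exact (hF' i).symm
  have hreg' : RegOn ⊥ (List.ofFn fun i => ∑ j, C' i j * (φ ∘ g) j) := by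
    rw [hfun, hl']
    exact hreg
  have hx' : ∀ j, φ x * (φ ∘ g) j ∈ Ideal.span (Set.range fun i => ∑ j, C' i j * (φ ∘ g) j) := by
    intro j
    rw [hfun, hspan']
    have : φ x * (φ ∘ g) j = φ (x * g j) := by simp
    rw [this]
    exact Ideal.mem_map_of_mem φ (hx j)
  have hmain := wiebe_reg (φ ∘ g) C' hreg' (φ x) hx'
  rw [hfun, hspan'] at hmain
  have hdet : C'.det = (Matrix.of U).det * φ C.det := by
    simp only [C']
    rw [Matrix.det_mul, RingHom.map_det]
    rfl
  have hle : (Ideal.span (Set.range F)).map φ ⊔ Ideal.span {C'.det} ≤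
      (Ideal.span (Set.range F) ⊔ Ideal.span {C.det}).map φ := by
    rw [Ideal.map_sup]
    refine sup_le_sup le_rfl ?_
    rw [Ideal.span_singleton_le_iff_mem, hdet, Ideal.map_span, Set.image_singleton]
    exact Ideal.mul_mem_left _ _ (Ideal.mem_span_singleton_self _)
  have hfinal : φ x ∈ (Ideal.span (Set.range F) ⊔ Ideal.span {C.det}).map φ := hle hmain
  have := Ideal.comap_map_eq_self_of_faithfullyFlat (B := A')
    (Ideal.span (Set.range F) ⊔ Ideal.span {C.det})
  rw [← this]
  exact hfinal

end Groth.Agent.Helper7.Wiebe
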