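import Groth.Agent.Helper7.WiebeD
import Groth.Prelude.Def_Disc

/-!
# The Noether different of `A[x_1..x_n]/(f_1..f_n)` (helper7)
-/

set_option autoImplicit false

namespace Groth.Agent.Helper7.Wiebe

universe u
open TensorProduct

section Diag

variable {A P B : Type u} [CommRing A] [CommRing P] [CommRing B] [Algebra A P] [Algebra A B]
  (φ : P →ₐ[A] B) {n : ℕ} (X : Fin n → P)

/-- evaluation `P ⊗ B → B` -/
noncomputable def evB : P ⊗[A] B →ₐ[A] B :=
  Algebra.TensorProduct.productMap φ (AlgHom.id A B)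

/-- the generators of the diagonal ideal -/
noncomputable def gD (j : Fin n) : P ⊗[A] B :=
  (X j) ⊗ₜ[A] (1 : B) - (1 : P) ⊗ₜ[A] (φ (X j))

theorem evB_tmul (p : P) (b : B) : evB φ (p ⊗ₜ[A] b) = φ p * b := rfl

theorem evB_gD (j : Fin n) : evB φ (gD φ X j) = 0 := by
  unfold gD
  rw [map_sub, evB_tmul, evB_tmul]
  simp

/-- `p ⊗ 1 - 1 ⊗ φ p` lies in the ideal generated by the `gD j` -/
theorem tmul_sub_mem (hX : Algebra.adjoin A (Set.range X) = ⊤) (p : P) :
    p ⊗ₜ[A] (1 : B) - (1 : P) ⊗ₜ[A] (φ p) ∈ Ideal.span (Set.range (gD φ X)) := by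
  have hp : p ∈ Algebra.adjoin A (Set.range X) := by rw [hX]; exact Algebra.mem_top
  induction hp using Algebra.adjoin_induction with
  | mem x hx =>
    obtain ⟨j, rfl⟩ := hx
    exact Ideal.subset_span ⟨j, rfl⟩
  | algebraMap a =>
    have : (algebraMap A P a) ⊗ₜ[A] (1 : B) - (1 : P) ⊗ₜ[A] (φ (algebraMap A P a)) = 0 := by
      rw [AlgHom.commutes, Algebra.algebraMap_eq_smul_one, Algebra.algebraMap_eq_smul_one,
        TensorProduct.smul_tmul, sub_self]
    rw [this]
    exact Ideal.zero_mem _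
  | add p q _ _ hp hq =>
    have : (p + q) ⊗ₜ[A] (1 : B) - (1 : P) ⊗ₜ[A] (φ (p + q)) =
        (p ⊗ₜ[A] (1 : B) - (1 : P) ⊗ₜ[A] (φ p)) +
        (q ⊗ₜ[A] (1 : B) - (1 : P) ⊗ₜ[A] (φ q)) := by
      rw [map_add, TensorProduct.add_tmul, TensorProduct.tmul_add]; abel
    rw [this]
    exact Ideal.add_mem _ hp hq
  | mul p q _ _ hp hq =>
    have : (p * q) ⊗ₜ[A] (1 : B) - (1 : P) ⊗ₜ[A] (φ (p * q)) =
        (p ⊗ₜ[A] (1 : B) - (1 : P) ⊗ₜ[A] (φ p)) * (q ⊗ₜ[A] (1 : B)) +
        ((1 : P) ⊗ₜ[A] (φ p)) * (q ⊗ₜ[A] (1 : B) - (1 : P) ⊗ₜ[A] (φ q)) := by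
      simp only [sub_mul, mul_sub, Algebra.TensorProduct.tmul_mul_tmul, map_mul, mul_one, one_mul]
      abel
    rw [this]
    exact Ideal.add_mem _ (Ideal.mul_mem_right _ _ hp) (Ideal.mul_mem_left _ _ hq)

theorem span_gD_eq_ker (hX : Algebra.adjoin A (Set.range X) = ⊤) :
    Ideal.span (Set.range (gD φ X)) = RingHom.ker (evB φ) := by
  apply le_antisymm
  · rw [Ideal.span_le]
    rintro _ ⟨j, rfl⟩
    exact evB_gD φ X j
  · intro t ht
    rw [RingHom.mem_ker] at ht
    have key : ∀ t : P ⊗[A] B, t - (1 : P) ⊗ₜ[A] (evB φ t) ∈ Ideal.span (Set.range (gD φ X)) := by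
      intro t
      induction t using TensorProduct.induction_on with
      | zero => simp
      | tmul p b =>
        have : p ⊗ₜ[A] b - (1 : P) ⊗ₜ[A] (evB φ (p ⊗ₜ[A] b)) =
            (p ⊗ₜ[A] (1 : B) - (1 : P) ⊗ₜ[A] (φ p)) * ((1 : P) ⊗ₜ[A] b) := by
          rw [evB_tmul, sub_mul, Algebra.TensorProduct.tmul_mul_tmul,
            Algebra.TensorProduct.tmul_mul_tmul, mul_one, one_mul, one_mul]
        rw [this]
        exact Ideal.mul_mem_right _ _ (tmul_sub_mem φ X hX p)
      | add x y hx hy =>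
        have : x + y - (1 : P) ⊗ₜ[A] (evB φ (x + y)) =
            (x - (1 : P) ⊗ₜ[A] (evB φ x)) + (y - (1 : P) ⊗ₜ[A] (evB φ y)) := by
          rw [map_add, TensorProduct.tmul_add]; abel
        rw [this]
        exact Ideal.add_mem _ hx hy
    have := key t
    rwa [ht, TensorProduct.tmul_zero, sub_zero] at this

variable (d : Derivation A P P)

/-- a derivation of `P` followed by evaluation -/
noncomputable def DjB : P ⊗[A] B →ₗ[A] B :=
  (evB φ).toLinearMap ∘ₗ LinearMap.rTensor B (d : P →ₗ[A] P)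

theorem DjB_tmul (p : P) (b : B) : DjB φ d (p ⊗ₜ[A] b) = φ (d p) * b := rfl

theorem DjB_mul (s t : P ⊗[A] B) :
    DjB φ d (s * t) = evB φ s * DjB φ d t + evB φ t * DjB φ d s := by
  induction s using TensorProduct.induction_on with
  | zero => simp
  | tmul p b =>
    induction t using TensorProduct.induction_on with
    | zero => simp
    | tmul q b' =>
      rw [Algebra.TensorProduct.tmul_mul_tmul, DjB_tmul, DjB_tmul, DjB_tmul, evB_tmul, evB_tmul,
        Derivation.leibniz, map_add, smul_eq_mul, smul_eq_mul, map_mul, map_mul]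
      ring
    | add x y hx hy =>
      rw [mul_add, map_add, hx, hy, map_add, map_add]
      ring
  | add x y hx hy =>
    rw [add_mul, map_add, hx, hy, map_add, map_add]
    ring

/-- the coefficients of `p ⊗ 1` in terms of the `gD` evaluate to the partial derivatives -/
theorem evB_coeff (j : Fin n) (hd : ∀ k, d (X k) = if j = k then 1 else 0) (p : P)
    (c : Fin n → P ⊗[A] B) (hc : p ⊗ₜ[A] (1 : B) = ∑ k, c k * gD φ X k) :
    evB φ (c j) = φ (d p) := by
  classical
  have h1 := congrArg (DjB φ d) hc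
  rw [DjB_tmul, mul_one, map_sum] at h1
  rw [h1]
  have hg : ∀ k, DjB φ d (gD φ X k) = if j = k then 1 else 0 := by
    intro k
    unfold gD
    rw [map_sub, DjB_tmul, DjB_tmul, hd, Derivation.map_one_eq_zero, map_zero, zero_mul, sub_zero,
      mul_one]
    split_ifs <;> simp
  have : ∀ k, DjB φ d (c k * gD φ X k) = if j = k then evB φ (c k) else 0 := by
    intro k
    rw [DjB_mul, evB_gD, zero_mul, add_zero, hg]
    split_ifs <;> simp
  simp only [this]
  rw [Finset.sum_ite_eq]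
  simp

end Diag

end Groth.Agent.Helper7.Wiebe
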