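import Groth.Agent.Helper7.WiebeE
import Groth.Agent.S9147
import Groth.Agent.S9254

/-!
# The Noether different of a quasi-finite `A[x_1..x_n]/(f_1..f_n)` (helper7)
-/

set_option autoImplicit false

namespace Groth.Agent.Helper7.Wiebe

universe u
open TensorProduct MvPolynomial

/-- a quasi-finite `A[x_1..x_n]/(f_1..f_n)` is a relative global complete intersection -/
theorem isRelGCI_of_quasiFinite {A : Type u} [CommRing A] {n : ℕ}
    (f : Fin n → MvPolynomial (Fin n) A)
    [Algebra.QuasiFinite A (MvPolynomial (Fin n) A ⧸ Ideal.span (Set.range f))] :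
    Synt.IsRelGCI A n n f := by
  intro p hnt
  refine ⟨le_rfl, ?_⟩
  rw [Nat.sub_self, Nat.cast_zero]
  haveI : Nontrivial (p.asIdeal.Fiber (MvPolynomial (Fin n) A ⧸ Ideal.span (Set.range f))) := hnt
  haveI : IsArtinianRing (p.asIdeal.Fiber (MvPolynomial (Fin n) A ⧸ Ideal.span (Set.range f))) :=
    inferInstance
  have hk : Ring.KrullDimLE 0
      (p.asIdeal.Fiber (MvPolynomial (Fin n) A ⧸ Ideal.span (Set.range f))) :=
    ((isArtinianRing_iff_isNoetherianRing_krullDimLE_zero
      (R := p.asIdeal.Fiber (MvPolynomial (Fin n) A ⧸ Ideal.span (Set.range f)))).mp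
        inferInstance).2
  exact ringKrullDimZero_iff_ringKrullDim_eq_zero.mp hk

/-- the Noether different of `A[x]/(f)` is generated by the Jacobian determinant, when `f` is
Koszul-regular and the quotient is flat -/
theorem noetherDifferent_eq_span_jacobian {A : Type u} [CommRing A] {n : ℕ}
    (f : Fin n → MvPolynomial (Fin n) A)
    (hf : LCI.IsKoszulRegularSeq (MvPolynomial (Fin n) A) (List.ofFn f))
    [Module.Flat A (MvPolynomial (Fin n) A ⧸ Ideal.span (Set.range f))] :
    Disc.noetherDifferent A (MvPolynomial (Fin n) A ⧸ Ideal.span (Set.range f)) =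
      Ideal.span {Ideal.Quotient.mk (Ideal.span (Set.range f))
        (Matrix.det (Matrix.of fun i j => MvPolynomial.pderiv j (f i)))} := by
  classical
  let I : Ideal (MvPolynomial (Fin n) A) := Ideal.span (Set.range f)
  let φ : MvPolynomial (Fin n) A →ₐ[A] (MvPolynomial (Fin n) A ⧸ I) := Ideal.Quotient.mkₐ A I
  let Xv : Fin n → MvPolynomial (Fin n) A := fun j => X j
  have hX : Algebra.adjoin A (Set.range Xv) = ⊤ := MvPolynomial.adjoin_range_X
  let g := gD φ Xv
  have hgker : Ideal.span (Set.range g) = RingHom.ker (evB φ) := span_gD_eq_ker φ Xv hX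
  -- the coefficients
  have hmem : ∀ i, ∃ ci : Fin n → MvPolynomial (Fin n) A ⊗[A] (MvPolynomial (Fin n) A ⧸ I),
      ∑ k, ci k * g k = f i ⊗ₜ[A] (1 : MvPolynomial (Fin n) A ⧸ I) := by
    intro i
    have : f i ⊗ₜ[A] (1 : MvPolynomial (Fin n) A ⧸ I) ∈ Ideal.span (Set.range g) := by
      rw [hgker, RingHom.mem_ker, evB_tmul, mul_one]
      exact Ideal.Quotient.eq_zero_iff_mem.mpr (Ideal.subset_span ⟨i, rfl⟩)
    exact (Ideal.mem_span_range_iff_exists_fun).mp this
  choose c hc using hmem
  have hann := annihilator_diagonal_eq_span_det f hf g hgker (Matrix.of c)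
    (fun i => (hc i).symm)
  unfold Disc.noetherDifferent
  rw [hann, Ideal.map_span, Set.image_singleton]
  congr 2
  -- identify the generator
  have h1 : ∀ t : MvPolynomial (Fin n) A ⊗[A] (MvPolynomial (Fin n) A ⧸ I),
      (Algebra.TensorProduct.lmul' (S := MvPolynomial (Fin n) A ⧸ I) A)
        (Algebra.TensorProduct.map (Ideal.Quotient.mkₐ A I)
          (AlgHom.id A (MvPolynomial (Fin n) A ⧸ I)) t) = evB φ t := by
    intro t
    unfold evB
    rw [Algebra.TensorProduct.productMap_eq_comp_map]
    rfl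
  show (Algebra.TensorProduct.lmul' (S := MvPolynomial (Fin n) A ⧸ I) A)
      (Algebra.TensorProduct.map (Ideal.Quotient.mkₐ A I)
        (AlgHom.id A (MvPolynomial (Fin n) A ⧸ I)) (Matrix.det (Matrix.of c))) = _
  rw [h1, AlgHom.map_det, RingHom.map_det]
  congr 1
  ext i j
  simp only [AlgHom.mapMatrix_apply, Matrix.map_apply, Matrix.of_apply, RingHom.mapMatrix_apply]
  have hd : ∀ k, (pderiv j : Derivation A _ _) (Xv k) = if j = k then 1 else 0 := by
    intro k
    simp only [Xv, pderiv_X, Pi.single_apply]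
    by_cases h : j = k
    · subst h; simp
    · rw [if_neg h, if_neg (Ne.symm h)]
  exact evB_coeff φ Xv (pderiv j) j hd (f i) (c i) (hc i).symm

end Groth.Agent.Helper7.Wiebe
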