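import Groth.Agent.Helper7.WiebeF
import Groth.Agent.Helper1.NoetherDiff

/-!
# The generator of the annihilator of the diagonal and `ω ≅ B` (helper7)
-/

set_option autoImplicit false

namespace Groth.Agent.Helper7.Wiebe

universe u
open TensorProduct MvPolynomial

/-- the annihilator of the diagonal of `A[x]/(f)` is generated by an element multiplying to the
Jacobian determinant -/
theorem exists_annihilator_generator {A : Type u} [CommRing A] {n : ℕ}
    (f : Fin n → MvPolynomial (Fin n) A)
    (hf : LCI.IsKoszulRegularSeq (MvPolynomial (Fin n) A) (List.ofFn f))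
    [Module.Flat A (MvPolynomial (Fin n) A ⧸ Ideal.span (Set.range f))] :
    ∃ ξ : (MvPolynomial (Fin n) A ⧸ Ideal.span (Set.range f)) ⊗[A]
        (MvPolynomial (Fin n) A ⧸ Ideal.span (Set.range f)),
      Submodule.annihilator (RingHom.ker (Algebra.TensorProduct.lmul'
        (S := MvPolynomial (Fin n) A ⧸ Ideal.span (Set.range f)) A)) = Ideal.span {ξ} ∧
      (Algebra.TensorProduct.lmul' (S := MvPolynomial (Fin n) A ⧸ Ideal.span (Set.range f)) A) ξ =
        Ideal.Quotient.mk (Ideal.span (Set.range f))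
          (Matrix.det (Matrix.of fun i j => MvPolynomial.pderiv j (f i))) := by
  classical
  let I : Ideal (MvPolynomial (Fin n) A) := Ideal.span (Set.range f)
  let φ : MvPolynomial (Fin n) A →ₐ[A] (MvPolynomial (Fin n) A ⧸ I) := Ideal.Quotient.mkₐ A I
  let Xv : Fin n → MvPolynomial (Fin n) A := fun j => X j
  have hX : Algebra.adjoin A (Set.range Xv) = ⊤ := MvPolynomial.adjoin_range_X
  let g := gD φ Xv
  have hgker : Ideal.span (Set.range g) = RingHom.ker (evB φ) := span_gD_eq_ker φ Xv hX
  -- the coefficients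
  have hmem : ∀ i, ∃ ci : Fin n → MvPolynomial (Fin n) A ⊗[A] (MvPolynomial (Fin n) A ⧸ I),
      ∑ k, ci k * g k = f i ⊗ₜ[A] (1 : MvPolynomial (Fin n) A ⧸ I) := by
    intro i
    have : f i ⊗ₜ[A] (1 : MvPolynomial (Fin n) A ⧸ I) ∈ Ideal.span (Set.range g) := by
      rw [hgker, RingHom.mem_ker, evB_tmul, mul_one]
      exact Ideal.Quotient.eq_zero_iff_mem.mpr (Ideal.subset_span ⟨i, rfl⟩)
    exact (Ideal.mem_span_range_iff_exists_fun).mp this
  choose c hc using hmem
  have hann := annihilator_diagonal_eq_span_det f hf g hgker (Matrix.of c)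
    (fun i => (hc i).symm)
  refine ⟨_, hann, ?_⟩
  -- identify the generator
  have h1 : ∀ t : MvPolynomial (Fin n) A ⊗[A] (MvPolynomial (Fin n) A ⧸ I),
      (Algebra.TensorProduct.lmul' (S := MvPolynomial (Fin n) A ⧸ I) A)
        (Algebra.TensorProduct.map (Ideal.Quotient.mkₐ A I)
          (AlgHom.id A (MvPolynomial (Fin n) A ⧸ I)) t) = evB φ t := by
    intro t
    unfold evB
    rw [Algebra.TensorProduct.productMap_eq_comp_map]
    rfl
  show (Algebra.TensorProduct.lmul' (S := MvPolynomial (Fin n) A ⧸ I) A)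
      (Algebra.TensorProduct.map (Ideal.Quotient.mkₐ A I)
        (AlgHom.id A (MvPolynomial (Fin n) A ⧸ I)) (Matrix.det (Matrix.of c))) = _
  rw [h1, AlgHom.map_det, RingHom.map_det]
  congr 1
  ext i j
  simp only [AlgHom.mapMatrix_apply, Matrix.map_apply, Matrix.of_apply, RingHom.mapMatrix_apply]
  have hd : ∀ k, (pderiv j : Derivation A _ _) (Xv k) = if j = k then 1 else 0 := by
    intro k
    simp only [Xv, pderiv_X, Pi.single_apply]
    by_cases h : j = k
    · subst h; simp
    · rw [if_neg h, if_neg (Ne.symm h)]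
  exact evB_coeff φ Xv (pderiv j) j hd (f i) (c i) (hc i).symm

section abstract

open Groth.Agent.Helper1.NoetherDiff Groth.Agent.Helper1.TraceEtale

variable {A B : Type u} [CommRing A] [CommRing B] [Algebra A B]


lemma ev_add_left (φ ψ : B →ₗ[A] A) (ξ : B ⊗[A] B) : ev (φ + ψ) ξ = ev φ ξ + ev ψ ξ := by
  unfold ev
  rw [LinearMap.rTensor_add, LinearMap.comp_add, LinearMap.add_apply]

/-- the `B`-linear map `ω → B` attached to an element of the annihilator of the diagonal -/
noncomputable def thetaMap [Module.Finite A B] [Module.Free A B] (ξ : B ⊗[A] B)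
    (hξ : ξ ∈ Submodule.annihilator (RingHom.ker (Algebra.TensorProduct.lmul' (S := B) A))) :
    Disc.Omega A B →ₗ[B] B where
  toFun l := ev l.toLinearMap ξ
  map_add' l l' := by
    rw [Disc.Omega.add_toLinearMap, ev_add_left]
  map_smul' s l := by
    classical
    have := Module.Free.ChooseBasisIndex.fintype A B
    have h := (mem_annihilator_iff_ev (Module.Free.chooseBasis A B) ξ).1 hξ s l.toLinearMap
    rw [RingHom.id_apply, smul_eq_mul, h]
    rfl

theorem thetaMap_apply [Module.Finite A B] [Module.Free A B] (ξ : B ⊗[A] B)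
    (hξ : ξ ∈ Submodule.annihilator (RingHom.ker (Algebra.TensorProduct.lmul' (S := B) A)))
    (l : Disc.Omega A B) : thetaMap ξ hξ l = ev l.toLinearMap ξ := rfl

/-- the trace formula -/
theorem thetaMap_trace [Module.Finite A B] [Module.Free A B] (ξ : B ⊗[A] B)
    (hξ : ξ ∈ Submodule.annihilator (RingHom.ker (Algebra.TensorProduct.lmul' (S := B) A))) :
    thetaMap ξ hξ (Disc.Omega.trace A B) = Algebra.TensorProduct.lmul' (S := B) A ξ := by
  classical
  have := Module.Free.ChooseBasisIndex.fintype A B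
  exact ev_trace (Module.Free.chooseBasis A B) ξ hξ

/-- multiplication by `t` on the annihilator of the diagonal only depends on `μ(t)` -/
theorem mul_eq_of_mem_annihilator (ξ : B ⊗[A] B)
    (hξ : ξ ∈ Submodule.annihilator (RingHom.ker (Algebra.TensorProduct.lmul' (S := B) A)))
    (t : B ⊗[A] B) :
    t * ξ = ((Algebra.TensorProduct.lmul' (S := B) A t) ⊗ₜ[A] (1 : B)) * ξ := by
  have h1 : t - (Algebra.TensorProduct.lmul' (S := B) A t) ⊗ₜ[A] (1 : B) ∈
      RingHom.ker (Algebra.TensorProduct.lmul' (S := B) A) := by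
    rw [RingHom.mem_ker, map_sub, Algebra.TensorProduct.lmul'_apply_tmul, mul_one, sub_self]
  have h2 := Submodule.mem_annihilator.1 hξ _ h1
  rw [smul_eq_mul, mul_comm, sub_mul, sub_eq_zero] at h2
  exact h2

/-- if the annihilator of the diagonal is principal, every `B`-linear `ω → B` is a multiple of
the map attached to the generator -/
theorem exists_smul_thetaMap [Module.Finite A B] [Module.Free A B] (ξ : B ⊗[A] B)
    (hξ : Submodule.annihilator (RingHom.ker (Algebra.TensorProduct.lmul' (S := B) A)) =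
      Ideal.span {ξ}) (Φ : Disc.Omega A B →ₗ[B] B) :
    ∃ s : B, Φ = s • thetaMap ξ (hξ ▸ Ideal.mem_span_singleton_self ξ) := by
  classical
  have := Module.Free.ChooseBasisIndex.fintype A B
  have hξm : ξ ∈ Submodule.annihilator (RingHom.ker (Algebra.TensorProduct.lmul' (S := B) A)) :=
    hξ ▸ Ideal.mem_span_singleton_self ξ
  have h1 := xi_mem (Module.Free.chooseBasis A B) Φ
  rw [hξ, Ideal.mem_span_singleton'] at h1
  obtain ⟨t, ht⟩ := h1
  refine ⟨Algebra.TensorProduct.lmul' (S := B) A t, ?_⟩
  ext l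
  rw [LinearMap.smul_apply]
  calc Φ l = ev l.toLinearMap (xi (Module.Free.chooseBasis A B) Φ) :=
        (ev_xi (Module.Free.chooseBasis A B) Φ l).symm
    _ = ev l.toLinearMap (ξ * ((Algebra.TensorProduct.lmul' (S := B) A t) ⊗ₜ[A] (1 : B))) := by
        rw [← ht, mul_eq_of_mem_annihilator ξ hξm t, mul_comm]
    _ = ev (shift (Algebra.TensorProduct.lmul' (S := B) A t) l.toLinearMap) ξ := ev_mul_left _ _ _
    _ = thetaMap ξ hξm ((Algebra.TensorProduct.lmul' (S := B) A t) • l) := rfl
    _ = (Algebra.TensorProduct.lmul' (S := B) A t) • thetaMap ξ hξm l := map_smul _ _ _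

/-- **`ω ≅ B` with the trace corresponding to `μ(ξ)`**, for `ω` invertible and the annihilator
of the diagonal generated by `ξ` -/
theorem exists_equiv_of_generator [Module.Finite A B] [Module.Free A B]
    [Module.Invertible B (Disc.Omega A B)] (ξ : B ⊗[A] B)
    (hξ : Submodule.annihilator (RingHom.ker (Algebra.TensorProduct.lmul' (S := B) A)) =
      Ideal.span {ξ}) :
    ∃ e : B ≃ₗ[B] Disc.Omega A B,
      e (Algebra.TensorProduct.lmul' (S := B) A ξ) = Disc.Omega.trace A B := by
  classical
  have hξm : ξ ∈ Submodule.annihilator (RingHom.ker (Algebra.TensorProduct.lmul' (S := B) A)) :=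
    hξ ▸ Ideal.mem_span_singleton_self ξ
  let Θ := thetaMap ξ hξm
  -- `Θ` is surjective
  have hsurj : Function.Surjective Θ := by
    have hrange : ∀ t : Module.Dual B (Disc.Omega A B) ⊗[B] Disc.Omega A B,
        contractLeft B (Disc.Omega A B) t ∈ LinearMap.range Θ := by
      intro t
      induction t using TensorProduct.induction_on with
      | zero => rw [map_zero]; exact Submodule.zero_mem _
      | tmul Φ l =>
        obtain ⟨s, hs⟩ := exists_smul_thetaMap ξ hξ Φ
        rw [contractLeft_apply, hs, LinearMap.smul_apply]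
        exact Submodule.smul_mem _ _ ⟨l, rfl⟩
      | add x y hx hy => rw [map_add]; exact Submodule.add_mem _ hx hy
    obtain ⟨t, ht⟩ := (Module.Invertible.bijective (R := B) (M := Disc.Omega A B)).2 1
    have h1 : (1 : B) ∈ LinearMap.range Θ := ht ▸ hrange t
    obtain ⟨l, hl⟩ := h1
    intro b
    exact ⟨b • l, by rw [map_smul, hl, smul_eq_mul, mul_one]⟩
  have hbij : Function.Bijective Θ := Module.Invertible.bijective_of_surjective hsurj
  refine ⟨(LinearEquiv.ofBijective Θ hbij).symm, ?_⟩
  rw [LinearEquiv.symm_apply_eq]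
  exact (thetaMap_trace ξ hξm).symm

end abstract

end Groth.Agent.Helper7.Wiebe
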