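import Mathlib

set_option autoImplicit false
universe u

namespace Groth.Agent.Helper7.WittGhostDvd
open WittVector

theorem result (p : ℕ) [Fact p.Prime] (S : Type u) [CommRing S]
    (hS : ∀ y : S, (p : S) * y = 0 → y = 0) (x : WittVector p S) (m s : ℕ) (hs : 1 ≤ s) :
    (∀ i ≤ m, (p : S) ^ s ∣ x.coeff i) ↔
      (∀ n ≤ m, (p : S) ^ (n + s) ∣ WittVector.ghostComponent n x) := by
  have hgh : ∀ n, ghostComponent n x
      = ∑ i ∈ Finset.range (n + 1), (p : S) ^ i * x.coeff i ^ p ^ (n - i) := by
    intro n; rw [ghostComponent_apply, aeval_wittPolynomial]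
  have hterm : ∀ (a : S) (i k : ℕ), (p : S) ^ s ∣ a →
      (p : S) ^ (i + k + s) ∣ (p : S) ^ i * a ^ p ^ k := by
    intro a i k ha
    have h1 : (p : S) ^ (s * p ^ k) ∣ a ^ p ^ k := by
      rw [pow_mul]; exact pow_dvd_pow_of_dvd ha _
    have h2 : k + s ≤ s * p ^ k := by
      have hk : k + 1 ≤ p ^ k := Nat.lt_pow_self (Fact.out : p.Prime).one_lt
      calc k + s ≤ s * k + s := by nlinarith
        _ = s * (k + 1) := by ring
        _ ≤ s * p ^ k := Nat.mul_le_mul_left s hk
    rw [add_assoc, pow_add]
    exact mul_dvd_mul_left _ ((pow_dvd_pow _ h2).trans h1)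
  have hpn : ∀ n (z : S), (p : S) ^ n * z = 0 → z = 0 := by
    intro n
    induction n with
    | zero => intro z hz; simpa using hz
    | succ n ih => intro z hz; rw [pow_succ, mul_assoc] at hz; exact hS _ (ih _ hz)
  have hcancel : ∀ (n : ℕ) (y : S), (p : S) ^ (n + s) ∣ (p : S) ^ n * y → (p : S) ^ s ∣ y := by
    rintro n y ⟨c, hc⟩
    refine ⟨c, ?_⟩
    have : (p : S) ^ n * (y - (p : S) ^ s * c) = 0 := by rw [mul_sub, hc, pow_add]; ring
    exact sub_eq_zero.mp (hpn n _ this)
  constructor
  · intro h n hn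
    rw [hgh]
    apply Finset.dvd_sum
    intro i hi
    rw [Finset.mem_range] at hi
    have := hterm (x.coeff i) i (n - i) (h i (by omega))
    rwa [show i + (n - i) + s = n + s by omega] at this
  · intro h i
    induction i using Nat.strong_induction_on with
    | _ i ih =>
      intro hi
      have h1 := h i hi
      rw [hgh, Finset.sum_range_succ, Nat.sub_self, pow_zero, pow_one] at h1
      have h2 : (p : S) ^ (i + s) ∣ ∑ j ∈ Finset.range i, (p : S) ^ j * x.coeff j ^ p ^ (i - j) := by
        apply Finset.dvd_sum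
        intro j hj
        rw [Finset.mem_range] at hj
        have := hterm (x.coeff j) j (i - j) (ih j hj (by omega))
        rwa [show j + (i - j) + s = i + s by omega] at this
      exact hcancel i _ ((dvd_add_right h2).mp h1)

end Groth.Agent.Helper7.WittGhostDvd
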