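import Mathlib

/-! p-adic, I-adic and V-adic topologies on Witt vectors when `p` is nilpotent. -/

namespace Groth.Agent.Helper7.WittTop

open WittVector

variable {p : ℕ} [Fact p.Prime] {R : Type*} [CommRing R]

lemma mem_ker_constantCoeff_iff (x : WittVector p R) :
    x ∈ RingHom.ker (constantCoeff : WittVector p R →+* R) ↔ x.coeff 0 = 0 := by
  rw [RingHom.mem_ker]
  rfl

lemma eq_verschiebung_of_coeff_zero (x : WittVector p R) (hx : x.coeff 0 = 0) :
    ∃ y, x = verschiebung y := by
  refine ⟨x.shift 1, ?_⟩
  have := eq_iterate_verschiebung (x := x) (n := 1)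
    (by intro i hi; obtain rfl : i = 0 := by omega
        exact hx)
  simpa using this

lemma verschiebung_mul_verschiebung (x y : WittVector p R) :
    verschiebung x * verschiebung y = (p : WittVector p R) * verschiebung (x * y) := by
  rw [← verschiebung_mul_frobenius, frobenius_verschiebung, ← nsmul_eq_mul, ← map_nsmul,
    nsmul_eq_mul]
  congr 1
  ring

lemma ker_sq_le : (RingHom.ker (constantCoeff : WittVector p R →+* R)) *
      (RingHom.ker (constantCoeff : WittVector p R →+* R)) ≤
    Ideal.span {(p : WittVector p R)} * (RingHom.ker (constantCoeff : WittVector p R →+* R)) := by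
  rw [Ideal.mul_le]
  intro a ha b hb
  obtain ⟨a', rfl⟩ := eq_verschiebung_of_coeff_zero a ((mem_ker_constantCoeff_iff a).1 ha)
  obtain ⟨b', rfl⟩ := eq_verschiebung_of_coeff_zero b ((mem_ker_constantCoeff_iff b).1 hb)
  rw [verschiebung_mul_verschiebung]
  refine Ideal.mul_mem_mul (Ideal.mem_span_singleton_self _) ?_
  rw [mem_ker_constantCoeff_iff]
  exact verschiebung_coeff_zero _

lemma ker_pow_succ_le (n : ℕ) : (RingHom.ker (constantCoeff : WittVector p R →+* R)) ^ (n + 1) ≤
    Ideal.span {(p : WittVector p R)} ^ n *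
      (RingHom.ker (constantCoeff : WittVector p R →+* R)) := by
  induction n with
  | zero => rw [pow_zero, Ideal.one_eq_top, Ideal.top_mul, zero_add, pow_one]
  | succ n ih =>
    calc (RingHom.ker (constantCoeff : WittVector p R →+* R)) ^ (n + 1 + 1)
        = (RingHom.ker (constantCoeff : WittVector p R →+* R)) ^ (n + 1) *
          (RingHom.ker (constantCoeff : WittVector p R →+* R)) := pow_succ _ _
      _ ≤ (Ideal.span {(p : WittVector p R)} ^ n *
          (RingHom.ker (constantCoeff : WittVector p R →+* R))) *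
          (RingHom.ker (constantCoeff : WittVector p R →+* R)) := Ideal.mul_mono_left ih
      _ = Ideal.span {(p : WittVector p R)} ^ n *
          ((RingHom.ker (constantCoeff : WittVector p R →+* R)) *
          (RingHom.ker (constantCoeff : WittVector p R →+* R))) := mul_assoc _ _ _
      _ ≤ Ideal.span {(p : WittVector p R)} ^ n * (Ideal.span {(p : WittVector p R)} *
          (RingHom.ker (constantCoeff : WittVector p R →+* R))) := Ideal.mul_mono_right ker_sq_le
      _ = Ideal.span {(p : WittVector p R)} ^ (n + 1) *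
          (RingHom.ker (constantCoeff : WittVector p R →+* R)) := by
        rw [← mul_assoc, ← pow_succ]

lemma frobenius_iterate_p_pow (k n : ℕ) :
    (frobenius^[n]) ((p : WittVector p R) ^ k) = (p : WittVector p R) ^ k := by
  apply Function.iterate_fixed
  rw [map_pow, map_natCast]

lemma p_pow_mul_mem_ker_truncate (k : ℕ) (hk : (p : R) ^ k = 0) (n : ℕ) (x : WittVector p R)
    (hx : x ∈ RingHom.ker (truncate (p := p) (R := R) n)) :
    (p : WittVector p R) ^ k * x ∈ RingHom.ker (truncate (p := p) (R := R) (n + 1)) := by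
  rw [mem_ker_truncate] at hx ⊢
  have hx' := eq_iterate_verschiebung hx
  rw [hx', mul_comm, iterate_verschiebung_mul_left, frobenius_iterate_p_pow]
  intro i hi
  rcases Nat.lt_succ_iff_lt_or_eq.1 hi with h | rfl
  · exact iterate_verschiebung_coeff_eq_zero _ h
  · have := iterate_verschiebung_coeff (x.shift i * (p : WittVector p R) ^ k) i 0
    rw [zero_add] at this
    rw [this]
    show constantCoeff (x.shift i * (p : WittVector p R) ^ k) = 0
    rw [map_mul, map_pow, map_natCast, hk, mul_zero]

theorem topologies (hp : IsNilpotent (p : R)) :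
    (∀ n : ℕ, ∃ m : ℕ, (RingHom.ker (WittVector.constantCoeff : WittVector p R →+* R)) ^ m ≤
      Ideal.span {(p : WittVector p R)} ^ n) ∧
    (∀ n : ℕ, ∃ m : ℕ, Ideal.span {(p : WittVector p R)} ^ m ≤
      (RingHom.ker (WittVector.constantCoeff : WittVector p R →+* R)) ^ n) ∧
    ∀ n : ℕ, ∃ m : ℕ, Ideal.span {(p : WittVector p R)} ^ m ≤
      RingHom.ker (WittVector.truncate (p := p) (R := R) n) := by
  obtain ⟨k, hk⟩ := hp
  refine ⟨fun n => ⟨n + 1, (ker_pow_succ_le n).trans Ideal.mul_le_left⟩, fun n => ⟨k * n, ?_⟩,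
    fun n => ?_⟩
  · rw [pow_mul]
    refine Ideal.pow_right_mono ?_ n
    rw [Ideal.span_singleton_pow, Ideal.span_singleton_le_iff_mem, RingHom.mem_ker, map_pow,
      map_natCast, hk]
  · induction n with
    | zero =>
      refine ⟨0, fun x _ => ?_⟩
      rw [mem_ker_truncate]
      intro i hi
      omega
    | succ n ih =>
      obtain ⟨m, hm⟩ := ih
      refine ⟨k + m, ?_⟩
      rw [pow_add, Ideal.mul_le]
      intro a ha b hb
      rw [Ideal.span_singleton_pow, Ideal.mem_span_singleton] at ha
      obtain ⟨c, rfl⟩ := ha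
      rw [mul_assoc]
      exact p_pow_mul_mem_ker_truncate k hk n _ (Ideal.mul_mem_left _ c (hm hb))

end Groth.Agent.Helper7.WittTop
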