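import Mathlib

set_option autoImplicit false

namespace Groth.Agent.Helper7.WqMin

open Polynomial

section Abs

variable {S : Type*} [CommRing S] {A : Type*} [CommRing A] [Algebra S A]

theorem taylor_coeff_of_natDegree_le (c : S) (M : ℕ) (f : S[X]) (hf : f.natDegree ≤ M + 1) :
    (taylor c f).coeff M = f.coeff M + ((M + 1 : ℕ) : S) * c * f.coeff (M + 1) := by
  rw [taylor_coeff]
  have h1 : (hasseDeriv M f).natDegree ≤ 1 :=
    (natDegree_hasseDeriv_le f M).trans (by omega)
  rw [eq_X_add_C_of_natDegree_le_one h1]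
  simp only [eval_add, eval_mul, eval_C, eval_X, hasseDeriv_coeff]
  rw [zero_add, Nat.choose_self, Nat.cast_one, one_mul, add_comm 1 M, Nat.choose_succ_self_right]
  ring

theorem natDegree_taylor_sub_le (c : S) (M : ℕ) (f : S[X]) (hf : f.natDegree ≤ M + 1) :
    (taylor c f - f).natDegree ≤ M := by
  rw [natDegree_le_iff_coeff_eq_zero]
  intro N hN
  rw [coeff_sub]
  rcases Nat.lt_or_ge (M + 1) N with h | h
  · rw [coeff_eq_zero_of_natDegree_lt, coeff_eq_zero_of_natDegree_lt, sub_zero]
    · omega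
    · rw [natDegree_taylor]; omega
  · have hN' : N = M + 1 := by omega
    subst hN'
    rw [taylor_coeff]
    have h1 : (hasseDeriv (M + 1) f).natDegree ≤ 0 :=
      (natDegree_hasseDeriv_le f (M + 1)).trans (by omega)
    rw [eq_C_of_natDegree_le_zero h1]
    simp [hasseDeriv_coeff]

theorem aeval_taylor (u : A) (c : S) (f : S[X]) :
    aeval u (taylor c f) = aeval (u + algebraMap S A c) f := by
  rw [taylor_apply, aeval_comp]
  simp

variable (p : ℕ) (hunit : ∀ m : ℕ, 0 < m → m < p → IsUnit ((m : ℕ) : S))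
  (σ : A →ₐ[S] A) (u : A) (c : S) (hσ : σ u = u + algebraMap S A c)

include hσ in
theorem aeval_taylor_sub (f : S[X]) :
    aeval u (taylor c f - f) = σ (aeval u f) - aeval u f := by
  rw [map_sub, aeval_taylor, ← hσ, aeval_algHom_apply]

include hunit hσ in
theorem vanish_top (M : ℕ) (hM : M < p) :
    ∀ g : S[X], g.natDegree ≤ M → aeval u g = 0 →
      ∃ N : ℕ, algebraMap S A (c ^ N * g.coeff M) = 0 := by
  induction M with
  | zero =>
    intro g hg h0
    refine ⟨0, ?_⟩
    rw [eq_C_of_natDegree_le_zero hg] at h0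
    simpa using h0
  | succ M ih =>
    intro g hg h0
    have h1 : aeval u (taylor c g - g) = 0 := by
      rw [aeval_taylor_sub σ u c hσ, h0, map_zero, sub_zero]
    obtain ⟨N, hN⟩ := ih (by omega) _ (natDegree_taylor_sub_le c M g hg) h1
    refine ⟨N + 1, ?_⟩
    rw [coeff_sub, taylor_coeff_of_natDegree_le c M g hg, add_sub_cancel_left] at hN
    obtain ⟨w, hw⟩ := hunit (M + 1) (by omega) hM
    have h2 : c ^ (N + 1) * g.coeff (M + 1) =
        (↑(w⁻¹) : S) * (c ^ N * (((M + 1 : ℕ) : S) * c * g.coeff (M + 1))) := by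
      rw [← hw]
      have : (↑(w⁻¹) : S) * (w : S) = 1 := Units.inv_mul w
      calc c ^ (N + 1) * g.coeff (M + 1) = ((↑(w⁻¹) : S) * (w : S)) * (c ^ (N + 1) * g.coeff (M + 1)) := by
            rw [this, one_mul]
        _ = _ := by ring
    rw [h2, map_mul, hN, mul_zero]

include hunit hσ in
theorem fixed_top (M : ℕ) (hM : M + 1 < p) (f : S[X]) (hf : f.natDegree ≤ M + 1)
    (hfix : σ (aeval u f) = aeval u f) :
    ∃ N : ℕ, algebraMap S A (c ^ N * f.coeff (M + 1)) = 0 := by
  have h1 : aeval u (taylor c f - f) = 0 := by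
    rw [aeval_taylor_sub σ u c hσ, hfix, sub_self]
  obtain ⟨N, hN⟩ := vanish_top p hunit σ u c hσ M (by omega) _ (natDegree_taylor_sub_le c M f hf) h1
  refine ⟨N + 1, ?_⟩
  rw [coeff_sub, taylor_coeff_of_natDegree_le c M f hf, add_sub_cancel_left] at hN
  obtain ⟨w, hw⟩ := hunit (M + 1) (by omega) hM
  have h2 : c ^ (N + 1) * f.coeff (M + 1) =
      (↑(w⁻¹) : S) * (c ^ N * (((M + 1 : ℕ) : S) * c * f.coeff (M + 1))) := by
    rw [← hw]
    have : (↑(w⁻¹) : S) * (w : S) = 1 := Units.inv_mul w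
    calc c ^ (N + 1) * f.coeff (M + 1) = ((↑(w⁻¹) : S) * (w : S)) * (c ^ (N + 1) * f.coeff (M + 1)) := by
          rw [this, one_mul]
      _ = _ := by ring
  rw [h2, map_mul, hN, mul_zero]

include hunit hσ in
theorem fixed_mem (M : ℕ) (hM : M < p) :
    ∀ f : S[X], f.natDegree ≤ M → σ (aeval u f) = aeval u f →
      ∃ (N : ℕ) (s : S), algebraMap S A c ^ N * aeval u f = algebraMap S A s := by
  induction M with
  | zero =>
    intro f hf _
    refine ⟨0, f.coeff 0, ?_⟩
    conv_lhs => rw [eq_C_of_natDegree_le_zero hf]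
    simp
  | succ M ih =>
    intro f hf hfix
    obtain ⟨N, hN⟩ := fixed_top p hunit σ u c hσ M hM f hf hfix
    let f' : S[X] := C (c ^ N) * (f - monomial (M + 1) (f.coeff (M + 1)))
    have hf'deg : f'.natDegree ≤ M := by
      rw [natDegree_le_iff_coeff_eq_zero]
      intro n hn
      show (C (c ^ N) * (f - monomial (M + 1) (f.coeff (M + 1)))).coeff n = 0
      rw [coeff_C_mul, coeff_sub, coeff_monomial]
      rcases Nat.lt_or_ge (M + 1) n with h | h
      · rw [coeff_eq_zero_of_natDegree_lt (by omega), if_neg (by omega), sub_zero, mul_zero]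
      · have : n = M + 1 := by omega
        subst this
        rw [if_pos rfl, sub_self, mul_zero]
    have hf'val : aeval u f' = algebraMap S A c ^ N * aeval u f := by
      show aeval u (C (c ^ N) * (f - monomial (M + 1) (f.coeff (M + 1)))) = _
      rw [map_mul, map_sub, aeval_C, aeval_monomial, mul_sub, ← mul_assoc, ← map_mul, hN,
        zero_mul, sub_zero, map_pow]
    have hf'fix : σ (aeval u f') = aeval u f' := by
      rw [hf'val, map_mul, hfix, map_pow, AlgHom.commutes]
    obtain ⟨N', s, hs⟩ := ih (by omega) f' hf'deg hf'fix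
    refine ⟨N' + N, s, ?_⟩
    rw [← hs, hf'val, pow_add, mul_assoc]

end Abs

end Groth.Agent.Helper7.WqMin
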