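import Mathlib
import Groth.Agent.Helper7.WqMinA

set_option autoImplicit false

namespace Groth.Agent.Helper7.WqAut

open Polynomial Groth.Agent.Helper7.WqMin

section Step

variable {R : Type*} [CommRing R] {A : Type*} [CommRing A] [Algebra R A]

theorem exists_poly_of_mem_adjoin (S' : Subalgebra R A) (u : A) (b : A)
    (hb : b ∈ Algebra.adjoin R ((S' : Set A) ∪ {u})) :
    ∃ f : S'[X], aeval u f = b := by
  induction hb using Algebra.adjoin_induction with
  | mem y hy =>
    rcases hy with hy | hy
    · exact ⟨C ⟨y, hy⟩, by rw [aeval_C]; rfl⟩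
    · rw [Set.mem_singleton_iff] at hy
      subst hy
      exact ⟨X, aeval_X _⟩
  | algebraMap r => exact ⟨C (algebraMap R S' r), by rw [aeval_C]; rfl⟩
  | add y z _ _ hy hz =>
    obtain ⟨f1, h1⟩ := hy
    obtain ⟨f2, h2⟩ := hz
    exact ⟨f1 + f2, by rw [map_add, h1, h2]⟩
  | mul y z _ _ hy hz =>
    obtain ⟨f1, h1⟩ := hy
    obtain ⟨f2, h2⟩ := hz
    exact ⟨f1 * f2, by rw [map_mul, h1, h2]⟩

theorem step [IsDomain R] (htf : ∀ (r : R) (y : A), r ≠ 0 → r • y = 0 → y = 0) (p : ℕ) (hp2 : 2 ≤ p)
    (hunit : ∀ m : ℕ, 0 < m → m < p → IsUnit ((m : ℕ) : R))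
    (S' : Subalgebra R A) (u : A) (a : R) (ha : a ≠ 0) (r1 r0 : R)
    (hrel : u ^ p = algebraMap R A r1 * u + algebraMap R A r0)
    (σ : A ≃ₐ[R] A) (hσS : ∀ s ∈ S', σ s = s) (hσu : σ u = u + algebraMap R A a)
    (b : A) (hb : b ∈ Algebra.adjoin R ((S' : Set A) ∪ {u})) (hfix : σ b = b) : b ∈ S' := by
  classical
  rcases subsingleton_or_nontrivial A with hA | hA
  · rw [Subsingleton.elim b 0]; exact zero_mem _
  let σ' : A →ₐ[S'] A :=
    { (σ : A →ₐ[R] A).toRingHom with
      commutes' := fun r => hσS r.1 r.2 }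
  have hσ'app : ∀ y, σ' y = σ y := fun _ => rfl
  let c : S' := algebraMap R S' a
  have hc : algebraMap S' A c = algebraMap R A a := rfl
  have hσ' : σ' u = u + algebraMap S' A c := by rw [hσ'app, hσu, hc]
  have hunit' : ∀ m : ℕ, 0 < m → m < p → IsUnit ((m : ℕ) : S') := by
    intro m h0 hm
    have := (hunit m h0 hm).map (algebraMap R S')
    rwa [map_natCast] at this
  obtain ⟨f, hf⟩ := exists_poly_of_mem_adjoin S' u b hb
  let g : S'[X] := X ^ p - (C (algebraMap R S' r1) * X + C (algebraMap R S' r0))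
  have hgdeg : (C (algebraMap R S' r1) * X + C (algebraMap R S' r0) : S'[X]).degree
      < ((p : ℕ) : WithBot ℕ) := by
    refine lt_of_le_of_lt (degree_linear_le) ?_
    exact_mod_cast (by omega : 1 < p)
  have hgmonic : g.Monic := monic_X_pow_sub hgdeg
  have hgroot : aeval u g = 0 := by
    show aeval u (X ^ p - (C (algebraMap R S' r1) * X + C (algebraMap R S' r0))) = 0
    rw [map_sub, map_add, map_mul, map_pow, aeval_X, aeval_C, aeval_C, hrel]
    show _ - (algebraMap R A r1 * u + algebraMap R A r0) = 0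
    ring
  have hgne : g ≠ 1 := by
    intro h1
    have h2 : g.coeff p = (1 : S'[X]).coeff p := by rw [h1]
    have h3 : g.coeff p = 1 := by
      show (X ^ p - (C (algebraMap R S' r1) * X + C (algebraMap R S' r0))).coeff p = 1
      rw [coeff_sub, coeff_X_pow, if_pos rfl, coeff_eq_zero_of_degree_lt hgdeg, sub_zero]
    rw [h3, coeff_one, if_neg (by omega)] at h2
    exact one_ne_zero h2
  have hgnat : g.natDegree = p := by
    show (X ^ p - (C (algebraMap R S' r1) * X + C (algebraMap R S' r0))).natDegree = p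
    rw [natDegree_sub_eq_left_of_natDegree_lt, natDegree_X_pow]
    rw [natDegree_X_pow]
    exact lt_of_le_of_lt natDegree_linear_le (by omega)
  -- the key induction: a fixed polynomial value of degree ≤ M < p lies in S'
  have key : ∀ M : ℕ, M < p → ∀ f : S'[X], f.natDegree ≤ M → σ' (aeval u f) = aeval u f →
      aeval u f ∈ S' := by
    intro M
    induction M with
    | zero =>
      intro _ f hf _
      rw [eq_C_of_natDegree_le_zero hf, aeval_C]
      exact (f.coeff 0).2
    | succ M ih =>
      intro hM f hf hfx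
      obtain ⟨N, hN⟩ := fixed_top p hunit' σ' u c hσ' M hM f hf hfx
      have h0 : f.coeff (M + 1) = 0 := by
        rw [map_mul, map_pow, hc, ← map_pow, ← Algebra.smul_def] at hN
        have := htf (a ^ N) _ (pow_ne_zero N ha) hN
        exact Subtype.ext this
      apply ih (by omega) f _ hfx
      rw [natDegree_le_iff_coeff_eq_zero]
      intro n hn
      rcases Nat.lt_or_ge (M + 1) n with h | h
      · exact coeff_eq_zero_of_natDegree_lt (by omega)
      · have : n = M + 1 := by omega
        rw [this, h0]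
  let f' := f %ₘ g
  have hf'deg : f'.natDegree ≤ p - 1 := by
    have := natDegree_modByMonic_lt f hgmonic hgne
    rw [hgnat] at this
    show (f %ₘ g).natDegree ≤ p - 1
    omega
  have hf'val : aeval u f' = b := by
    rw [← hf]
    exact aeval_modByMonic_eq_self_of_root hgroot
  have := key (p - 1) (by omega) f' hf'deg (by rw [hf'val, hσ'app, hfix])
  rwa [hf'val] at this

end Step

end Groth.Agent.Helper7.WqAut
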