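import Mathlib
import Groth.Agent.Helper7.WqKerA

set_option autoImplicit false

namespace Groth.Agent.Helper7.WqKer

open Polynomial

section CharP

theorem add_pow_p {S : Type*} [CommRing S] (p : ℕ) (hp : p.Prime) (hpS : (p : S) = 0) (x y : S) :
    (x + y) ^ p = x ^ p + y ^ p := by
  obtain ⟨r, hr⟩ := exists_add_pow_prime_eq hp x y
  rw [hr, hpS]
  ring

theorem sub_pow_p {S : Type*} [CommRing S] (p : ℕ) (hp : p.Prime) (hpS : (p : S) = 0) (x y : S) :
    (x - y) ^ p = x ^ p - y ^ p := by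
  have := add_pow_p p hp hpS (x - y) y
  rw [sub_add_cancel] at this
  rw [this]
  ring

end CharP

section Ker

variable {R : Type*} [CommRing R] (p : ℕ) {n : ℕ} (a : Fin n → R) (μ : R) (x : Fin n → R)
  (i0 : Fin n)

/-- the defining relations of `A` -/
noncomputable def relA (i : Fin n) : MvPolynomial (Fin n) R :=
  MvPolynomial.X i ^ p - MvPolynomial.C ((μ * a i) ^ (p - 1)) * MvPolynomial.X i
    - MvPolynomial.C (x i)

/-- the ideal of relations of `A` -/
noncomputable def IA : Ideal (MvPolynomial (Fin n) R) := Ideal.span (Set.range (relA p a μ x))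

/-- the ring `A` -/
abbrev AA : Type _ := MvPolynomial (Fin n) R ⧸ IA p a μ x

/-- the generators `u i` -/
noncomputable def uu (i : Fin n) : AA p a μ x := Ideal.Quotient.mk (IA p a μ x) (MvPolynomial.X i)

theorem uu_rel (i : Fin n) :
    uu p a μ x i ^ p = algebraMap R (AA p a μ x) ((μ * a i) ^ (p - 1)) * uu p a μ x i +
      algebraMap R (AA p a μ x) (x i) := by
  have hmem : relA p a μ x i ∈ IA p a μ x := Ideal.subset_span ⟨i, rfl⟩
  have h1 := Ideal.Quotient.eq_zero_iff_mem.mpr hmem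
  unfold relA at h1
  rw [map_sub, map_sub, map_mul, map_pow] at h1
  have h2 : uu p a μ x i ^ p - algebraMap R (AA p a μ x) ((μ * a i) ^ (p - 1)) * uu p a μ x i -
      algebraMap R (AA p a μ x) (x i) = 0 := h1
  linear_combination h2

/-- the index type of the minors -/
abbrev JJ : Type := {j : Fin n // j ≠ i0}

/-- the minor elements -/
noncomputable def zz (j : JJ i0) : AA p a μ x :=
  algebraMap R (AA p a μ x) (a i0) * uu p a μ x j.1 - algebraMap R (AA p a μ x) (a j.1) * uu p a μ x i0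

/-- the relations of the minors -/
noncomputable def relB (j : JJ i0) : MvPolynomial (JJ i0) R :=
  MvPolynomial.X j ^ p - MvPolynomial.C ((μ * a i0 * a j.1) ^ (p - 1)) * MvPolynomial.X j
    - MvPolynomial.C (a i0 ^ p * x j.1 - a j.1 ^ p * x i0)

variable (hp : p.Prime) (hpR : ((p : ℕ) : R) = 0)

include hp hpR in
theorem natCast_AA : ((p : ℕ) : AA p a μ x) = 0 := by
  rw [← map_natCast (algebraMap R (AA p a μ x)), hpR, map_zero]

include hp hpR in
theorem zz_rel (j : JJ i0) : MvPolynomial.aeval (zz p a μ x i0) (relB p a μ x i0 j) = 0 := by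
  unfold relB
  rw [map_sub, map_sub, map_mul, map_pow, MvPolynomial.aeval_X, MvPolynomial.aeval_C,
    MvPolynomial.aeval_C]
  unfold zz
  rw [sub_pow_p p hp (natCast_AA p a μ x hp hpR), mul_pow, mul_pow, uu_rel, uu_rel]
  obtain ⟨q, hq⟩ : ∃ q, p = q + 1 := ⟨p - 1, by have := hp.pos; omega⟩
  subst hq
  simp only [Nat.add_sub_cancel, map_mul, map_pow, map_sub]
  ring

end Ker

section Inj

variable {R : Type*} [CommRing R] (p : ℕ) {n : ℕ} (a : Fin n → R) (μ : R) (x : Fin n → R)
  (i0 : Fin n)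

/-- the one-variable polynomials defining `B` -/
noncomputable def gB (j : JJ i0) : R[X] :=
  X ^ p - (C ((μ * a i0 * a j.1) ^ (p - 1)) * X + C (a i0 ^ p * x j.1 - a j.1 ^ p * x i0))

theorem gB_monic (hp2 : 2 ≤ p) (j : JJ i0) : (gB p a μ x i0 j).Monic := by
  apply monic_X_pow_sub
  refine lt_of_le_of_lt degree_linear_le ?_
  exact_mod_cast (by omega : 1 < p)

theorem aeval_gB (j : JJ i0) :
    Polynomial.aeval (MvPolynomial.X j : MvPolynomial (JJ i0) R) (gB p a μ x i0 j) =
      relB p a μ x i0 j := by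
  unfold gB relB
  rw [map_sub, map_add, map_mul, map_pow, aeval_X, aeval_C, aeval_C]
  show _ - (MvPolynomial.C _ * _ + MvPolynomial.C _) = _
  ring

theorem ciIdeal_gB :
    ciIdeal (gB p a μ x i0) = Ideal.span (Set.range (relB p a μ x i0)) := by
  unfold ciIdeal
  congr 2
  funext j
  exact aeval_gB p a μ x i0 j

/-- the complete intersection ring `B` -/
abbrev BB : Type _ := MvPolynomial (JJ i0) R ⧸ ciIdeal (gB p a μ x i0)

/-- the class of `Z_j` in `B` -/
noncomputable def ZB (j : JJ i0) : BB p a μ x i0 :=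
  Ideal.Quotient.mk (ciIdeal (gB p a μ x i0)) (MvPolynomial.X j)

theorem ZB_rel (j : JJ i0) :
    ZB p a μ x i0 j ^ p =
      algebraMap R (BB p a μ x i0) ((μ * a i0 * a j.1) ^ (p - 1)) * ZB p a μ x i0 j +
        algebraMap R (BB p a μ x i0) (a i0 ^ p * x j.1 - a j.1 ^ p * x i0) := by
  have hmem : relB p a μ x i0 j ∈ ciIdeal (gB p a μ x i0) := by
    rw [ciIdeal_gB]
    exact Ideal.subset_span ⟨j, rfl⟩
  have h1 := Ideal.Quotient.eq_zero_iff_mem.mpr hmem
  unfold relB at h1
  rw [map_sub, map_sub, map_mul, map_pow] at h1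
  have h2 : ZB p a μ x i0 j ^ p -
      algebraMap R (BB p a μ x i0) ((μ * a i0 * a j.1) ^ (p - 1)) * ZB p a μ x i0 j -
      algebraMap R (BB p a μ x i0) (a i0 ^ p * x j.1 - a j.1 ^ p * x i0) = 0 := h1
  linear_combination h2

/-- the polynomial defining `L = B[U]` -/
noncomputable def gL : (BB p a μ x i0)[X] :=
  X ^ p - (C (algebraMap R (BB p a μ x i0) ((μ * a i0) ^ (p - 1))) * X +
    C (algebraMap R (BB p a μ x i0) (x i0)))

theorem gL_monic (hp2 : 2 ≤ p) : (gL p a μ x i0).Monic := by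
  apply monic_X_pow_sub
  refine lt_of_le_of_lt degree_linear_le ?_
  exact_mod_cast (by omega : 1 < p)

theorem gL_natDegree [Nontrivial (BB p a μ x i0)] (hp2 : 2 ≤ p) :
    (gL p a μ x i0).natDegree = p := by
  unfold gL
  rw [natDegree_sub_eq_left_of_natDegree_lt, natDegree_X_pow]
  rw [natDegree_X_pow]
  exact lt_of_le_of_lt natDegree_linear_le (by omega)

/-- the ring `L = B[U]/(U^p - ...)` -/
abbrev LL : Type _ := AdjoinRoot (gL p a μ x i0)

theorem of_injective (hp2 : 2 ≤ p) : Function.Injective (AdjoinRoot.of (gL p a μ x i0)) := by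
  rw [injective_iff_map_eq_zero]
  intro b hb
  rcases subsingleton_or_nontrivial (BB p a μ x i0) with hs | hs
  · exact Subsingleton.elim _ _
  by_contra hne
  rw [AdjoinRoot.of, RingHom.comp_apply, AdjoinRoot.mk_eq_zero] at hb
  refine (gL_monic p a μ x i0 hp2).not_dvd_of_natDegree_lt ?_ ?_ hb
  · rwa [Ne, C_eq_zero]
  · rw [natDegree_C, gL_natDegree p a μ x i0 hp2]
    omega

theorem UL_rel :
    AdjoinRoot.root (gL p a μ x i0) ^ p =
      algebraMap R (LL p a μ x i0) ((μ * a i0) ^ (p - 1)) * AdjoinRoot.root (gL p a μ x i0) +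
        algebraMap R (LL p a μ x i0) (x i0) := by
  have h1 : eval₂ (AdjoinRoot.of (gL p a μ x i0)) (AdjoinRoot.root (gL p a μ x i0))
      (X ^ p - (C (algebraMap R (BB p a μ x i0) ((μ * a i0) ^ (p - 1))) * X +
        C (algebraMap R (BB p a μ x i0) (x i0)))) = 0 := AdjoinRoot.eval₂_root (gL p a μ x i0)
  rw [eval₂_sub, eval₂_add, eval₂_mul, eval₂_pow, eval₂_X, eval₂_C, eval₂_C] at h1
  rw [IsScalarTower.algebraMap_apply R (BB p a μ x i0) (LL p a μ x i0),
    IsScalarTower.algebraMap_apply R (BB p a μ x i0) (LL p a μ x i0)]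
  rw [AdjoinRoot.algebraMap_eq]
  linear_combination h1

end Inj

end Groth.Agent.Helper7.WqKer
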