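import Mathlib
import Groth.Agent.Helper7.WqRegA
import Groth.Agent.Helper7.WqKerB

set_option autoImplicit false

namespace Groth.Agent.Helper7.WqAut

open Polynomial Groth.Agent.Helper7.WqReg Groth.Agent.Helper7.WqKer

section Tau

variable {R : Type*} [CommRing R] (p : ℕ) [hp : Fact p.Prime] [CharP R p] {n : ℕ}
  (a x : Fin n → R)

/-- the Artin–Schreier family ring -/
abbrev AS : Type _ := AC p (fun i => a i ^ (p - 1)) x

/-- the generators -/
noncomputable abbrev uS (i : Fin n) : AS p a x := uC p (fun i => a i ^ (p - 1)) x i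

/-- the prime field inside `R` -/
noncomputable def iota : ZMod p →+* R := ZMod.castHom (dvd_refl p) R

theorem iota_pow (j : ZMod p) : iota (R := R) p j ^ p = iota p j := by
  rw [← map_pow, ZMod.pow_card]

theorem natCast_AS : ((p : ℕ) : AS p a x) = 0 := by
  rw [← map_natCast (algebraMap R (AS p a x)), CharP.cast_eq_zero R p, map_zero]

/-- the images of the generators under `τ ν` -/
noncomputable def tauVal (ν : Fin n → ZMod p) (i : Fin n) : AS p a x :=
  uS p a x i + algebraMap R (AS p a x) (iota p (ν i) * a i)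

theorem tauVal_rel (ν : Fin n → ZMod p) (i : Fin n) :
    tauVal p a x ν i ^ p =
      algebraMap R (AS p a x) (a i ^ (p - 1)) * tauVal p a x ν i +
        algebraMap R (AS p a x) (x i) := by
  unfold tauVal
  rw [add_pow_p p hp.out (natCast_AS p a x), uC_rel, ← map_pow, mul_pow, iota_pow]
  obtain ⟨q, hq⟩ : ∃ q, p = q + 1 := ⟨p - 1, by have := hp.out.pos; omega⟩
  have e : a i ^ p = a i ^ (p - 1) * a i := by
    rw [hq, Nat.add_sub_cancel, pow_succ]
  rw [e]
  simp only [map_mul]
  ring

/-- the map on the polynomial ring -/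
noncomputable def tau' (ν : Fin n → ZMod p) : MvPolynomial (Fin n) R →ₐ[R] AS p a x :=
  MvPolynomial.aeval (tauVal p a x ν)

theorem tau'_rel (ν : Fin n → ZMod p) (i : Fin n) :
    tau' p a x ν (relC p (fun i => a i ^ (p - 1)) x i) = 0 := by
  unfold relC tau'
  rw [map_sub, map_sub, map_mul, map_pow, MvPolynomial.aeval_X, MvPolynomial.aeval_C,
    MvPolynomial.aeval_C, tauVal_rel]
  ring

/-- the endomorphism `τ ν` -/
noncomputable def tauHom (ν : Fin n → ZMod p) : AS p a x →ₐ[R] AS p a x :=
  Ideal.Quotient.liftₐ (IC p (fun i => a i ^ (p - 1)) x) (tau' p a x ν) (by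
    intro f hf
    unfold IC at hf
    induction hf using Submodule.span_induction with
    | mem y hy =>
      obtain ⟨i, rfl⟩ := hy
      exact tau'_rel p a x ν i
    | zero => exact map_zero _
    | add y z _ _ hy hz => rw [map_add, hy, hz, add_zero]
    | smul c y _ hy => rw [smul_eq_mul, map_mul, hy, mul_zero])

theorem tauHom_uS (ν : Fin n → ZMod p) (i : Fin n) :
    tauHom p a x ν (uS p a x i) = tauVal p a x ν i := by
  unfold tauHom uS uC
  rw [← Ideal.Quotient.mkₐ_eq_mk R, Ideal.Quotient.liftₐ_apply]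
  simp [tau']

omit hp [CharP R p] in
theorem algHom_ext_AS {B : Type*} [Semiring B] [Algebra R B] (f g : AS p a x →ₐ[R] B)
    (h : ∀ i, f (uS p a x i) = g (uS p a x i)) : f = g := by
  apply Ideal.Quotient.algHom_ext
  apply MvPolynomial.algHom_ext
  intro i
  exact h i

theorem tauHom_comp (ν ν' : Fin n → ZMod p) :
    (tauHom p a x ν).comp (tauHom p a x ν') = tauHom p a x (ν + ν') := by
  apply algHom_ext_AS
  intro i
  rw [AlgHom.comp_apply, tauHom_uS, tauHom_uS]
  unfold tauVal
  rw [map_add, tauHom_uS, AlgHom.commutes]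
  unfold tauVal
  rw [Pi.add_apply, map_add, add_mul, map_add]
  ring

theorem tauHom_zero : tauHom p a x 0 = AlgHom.id R (AS p a x) := by
  apply algHom_ext_AS
  intro i
  rw [tauHom_uS]
  unfold tauVal
  simp

/-- the automorphism `τ ν` -/
noncomputable def tauEquiv (ν : Fin n → ZMod p) : AS p a x ≃ₐ[R] AS p a x :=
  AlgEquiv.ofAlgHom (tauHom p a x ν) (tauHom p a x (-ν))
    (by rw [tauHom_comp, add_neg_cancel, tauHom_zero])
    (by rw [tauHom_comp, neg_add_cancel, tauHom_zero])

theorem tauEquiv_apply (ν : Fin n → ZMod p) (y : AS p a x) :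
    tauEquiv p a x ν y = tauHom p a x ν y := rfl

theorem tauEquiv_uS (ν : Fin n → ZMod p) (i : Fin n) :
    tauEquiv p a x ν (uS p a x i) = tauVal p a x ν i := tauHom_uS p a x ν i

theorem tauEquiv_add (ν ν' : Fin n → ZMod p) :
    tauEquiv p a x (ν + ν') = tauEquiv p a x ν * tauEquiv p a x ν' := by
  apply AlgEquiv.ext
  intro y
  rw [AlgEquiv.mul_apply, tauEquiv_apply, tauEquiv_apply, tauEquiv_apply, ← tauHom_comp]
  rfl

theorem tauEquiv_zero : tauEquiv p a x 0 = 1 := by
  apply AlgEquiv.ext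
  intro y
  rw [tauEquiv_apply, tauHom_zero]
  rfl

omit hp [CharP R p] in
theorem algEquiv_ext_AS (σ σ' : AS p a x ≃ₐ[R] AS p a x)
    (h : ∀ i, σ (uS p a x i) = σ' (uS p a x i)) : σ = σ' := by
  have := algHom_ext_AS p a x (σ : AS p a x →ₐ[R] AS p a x) (σ' : AS p a x →ₐ[R] AS p a x) h
  apply AlgEquiv.ext
  intro y
  exact congrArg (fun f : AS p a x →ₐ[R] AS p a x => f y) this

end Tau

end Groth.Agent.Helper7.WqAut
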