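import Mathlib
import Groth.Agent.Helper7.WqAutA
import Groth.Agent.Helper7.WqAutB

set_option autoImplicit false

namespace Groth.Agent.Helper7.WqAut

open Polynomial Groth.Agent.Helper7.WqReg Groth.Agent.Helper7.WqKer

section Root

theorem exists_int_of_pow_eq {A : Type*} [CommRing A] [IsDomain A] (p : ℕ) [Fact p.Prime]
    [CharP A p] (w α : A) (hα : α ≠ 0) (h : w ^ p = α ^ (p - 1) * w) :
    ∃ m : ℤ, w = (m : A) * α := by
  let K := FractionRing A
  haveI : CharP K p := charP_of_injective_algebraMap (IsFractionRing.injective A K) p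
  have hαK : algebraMap A K α ≠ 0 := by
    rwa [Ne, map_eq_zero_iff _ (IsFractionRing.injective A K)]
  let t : K := algebraMap A K w / algebraMap A K α
  have ht : t ^ p = t := by
    have h' := congrArg (algebraMap A K) h
    rw [map_pow, map_mul, map_pow] at h'
    have e : algebraMap A K α ^ p = algebraMap A K α ^ (p - 1) * algebraMap A K α := by
      rw [← pow_succ, Nat.sub_add_cancel (Fact.out : p.Prime).pos]
    show (algebraMap A K w / algebraMap A K α) ^ p = algebraMap A K w / algebraMap A K α
    rw [div_pow, h', e, mul_div_mul_left _ _ (pow_ne_zero _ hαK)]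
  have hmem := (Subfield.mem_bot_iff_pow_eq_self K p).mpr ht
  obtain ⟨m, hm⟩ := (mem_bot_iff_intCast p K).mp hmem
  refine ⟨m, ?_⟩
  apply IsFractionRing.injective A K
  rw [map_mul, map_intCast, hm]
  show _ = algebraMap A K w / algebraMap A K α * _
  exact (div_mul_cancel₀ _ hαK).symm

end Root

section Main

variable {R : Type*} [CommRing R] [IsDomain R] (p : ℕ) [hp : Fact p.Prime] [CharP R p] {n : ℕ}
  (a x : Fin n → R)
variable (ha : ∀ i, a i ≠ 0) [hdom : IsDomain (AS p a x)]
  (hinj : Function.Injective (algebraMap R (AS p a x)))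

include ha hinj in
theorem tauEquiv_injective : Function.Injective (tauEquiv p a x) := by
  intro ν ν' h
  funext i
  have h1 : tauVal p a x ν i = tauVal p a x ν' i := by
    rw [← tauEquiv_uS, ← tauEquiv_uS, h]
  unfold tauVal at h1
  have h2 := hinj (add_left_cancel h1)
  have h3 := mul_right_cancel₀ (ha i) h2
  exact (iota (R := R) p).injective h3

include ha hinj in
theorem tauEquiv_surjective : Function.Surjective (tauEquiv p a x) := by
  intro σ
  haveI : CharP (AS p a x) p := charP_of_injective_algebraMap hinj p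
  have key : ∀ i, ∃ m : ℤ, σ (uS p a x i) - uS p a x i =
      (m : AS p a x) * algebraMap R (AS p a x) (a i) := by
    intro i
    apply exists_int_of_pow_eq p
    · rw [Ne, map_eq_zero_iff _ hinj]
      exact ha i
    · rw [sub_pow_p p hp.out (natCast_AS p a x), ← map_pow, uC_rel, map_add, map_mul,
        AlgEquiv.commutes, AlgEquiv.commutes, map_pow]
      ring
  choose m hm using key
  refine ⟨fun i => ((m i : ℤ) : ZMod p), ?_⟩
  apply algEquiv_ext_AS
  intro i
  rw [tauEquiv_uS]
  unfold tauVal
  have := hm i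
  rw [map_mul]
  have e : algebraMap R (AS p a x) (iota p ((m i : ℤ) : ZMod p)) = ((m i : ℤ) : AS p a x) := by
    rw [map_intCast, map_intCast]
  rw [e, ← this]
  ring

theorem hunit_R (m : ℕ) (h0 : 0 < m) (hm : m < p) : IsUnit ((m : ℕ) : R) := by
  have h1 : ((m : ℕ) : ZMod p) ≠ 0 := by
    rw [Ne, ZMod.natCast_eq_zero_iff]
    exact Nat.not_dvd_of_pos_of_lt h0 hm
  have h2 := (IsUnit.mk0 _ h1).map (iota (R := R) p)
  rwa [map_natCast] at h2

/-- the subalgebra generated by the `u_i` with `k ≤ i` -/
noncomputable def Sk (k : ℕ) : Subalgebra R (AS p a x) :=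
  Algebra.adjoin R (uS p a x '' {i : Fin n | k ≤ i.val})

include ha in
theorem fixed_mem_Sk (htf : ∀ (r : R) (y : AS p a x), r ≠ 0 → r • y = 0 → y = 0)
    (b : AS p a x) (hb : ∀ σ : AS p a x ≃ₐ[R] AS p a x, σ b = b) :
    ∀ k : ℕ, k ≤ n → b ∈ Sk p a x k := by
  intro k
  induction k with
  | zero =>
    intro _
    have : Sk p a x 0 = ⊤ := by
      unfold Sk
      have : {i : Fin n | 0 ≤ i.val} = Set.univ := by ext i; simp
      rw [this, Set.image_univ]
      exact adjoin_uC p _ x
    rw [this]; trivial
  | succ k ih =>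
    intro hk
    have hbk := ih (by omega)
    let kk : Fin n := ⟨k, by omega⟩
    let σ := tauEquiv p a x (Pi.single kk 1)
    have hσne : ∀ i, i ≠ kk → σ (uS p a x i) = uS p a x i := by
      intro i hi
      show tauEquiv p a x (Pi.single kk 1) (uS p a x i) = _
      rw [tauEquiv_uS]
      unfold tauVal
      rw [Pi.single_eq_of_ne hi, map_zero, zero_mul, map_zero, add_zero]
    have hσkk : σ (uS p a x kk) = uS p a x kk + algebraMap R (AS p a x) (a kk) := by
      show tauEquiv p a x (Pi.single kk 1) (uS p a x kk) = _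
      rw [tauEquiv_uS]
      unfold tauVal
      rw [Pi.single_eq_same, map_one, one_mul]
    have hσS : ∀ s ∈ Sk p a x (k + 1), σ s = s := by
      intro s hs
      have hle : Sk p a x (k + 1) ≤
          AlgHom.equalizer (σ : AS p a x →ₐ[R] AS p a x) (AlgHom.id R (AS p a x)) := by
        apply Algebra.adjoin_le
        rintro _ ⟨i, hi, rfl⟩
        apply hσne i
        intro h
        rw [h] at hi
        simp only [Set.mem_ofPred_eq, kk] at hi
        omega
      exact hle hs
    have hsub : Sk p a x k ≤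
        Algebra.adjoin R ((Sk p a x (k + 1) : Set (AS p a x)) ∪ {uS p a x kk}) := by
      apply Algebra.adjoin_le
      rintro _ ⟨i, hi, rfl⟩
      by_cases h : i = kk
      · rw [h]
        exact Algebra.subset_adjoin (Or.inr rfl)
      · apply Algebra.subset_adjoin
        left
        apply Algebra.subset_adjoin
        refine ⟨i, ?_, rfl⟩
        have hi' : k ≤ i.val := hi
        have : i.val ≠ k := fun h' => h (Fin.ext h')
        show k + 1 ≤ i.val
        omega
    exact step htf p hp.out.two_le (hunit_R p) (Sk p a x (k + 1)) (uS p a x kk) (a kk) (ha kk)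
      (a kk ^ (p - 1)) (x kk) (uC_rel p _ x kk) σ hσS hσkk b (hsub hbk) (hb σ)

include ha in
theorem fixed_iff (htf : ∀ (r : R) (y : AS p a x), r ≠ 0 → r • y = 0 → y = 0) (b : AS p a x) :
    (∀ σ : AS p a x ≃ₐ[R] AS p a x, σ b = b) ↔ b ∈ Set.range (algebraMap R (AS p a x)) := by
  constructor
  · intro hb
    have h1 := fixed_mem_Sk p a x ha htf b hb n le_rfl
    have h2 : Sk p a x n = ⊥ := by
      unfold Sk
      have : {i : Fin n | n ≤ i.val} = ∅ := by
        ext i
        simp only [Set.mem_ofPred_eq, Set.mem_empty_iff_false, iff_false, not_le]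
        exact i.2
      rw [this, Set.image_empty, Algebra.adjoin_empty]
    rw [h2] at h1
    exact Algebra.mem_bot.mp h1
  · rintro ⟨r, rfl⟩ σ
    exact σ.commutes r

include ha hinj in
theorem card_aut : Nat.card (AS p a x ≃ₐ[R] AS p a x) = p ^ n := by
  rw [← Nat.card_eq_of_bijective (tauEquiv p a x)
    ⟨tauEquiv_injective p a x ha hinj, tauEquiv_surjective p a x ha hinj⟩]
  rw [Nat.card_fun, Nat.card_zmod]
  simp

include ha hinj in
theorem aut_comm (σ τ : AS p a x ≃ₐ[R] AS p a x) : σ * τ = τ * σ := by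
  obtain ⟨ν, rfl⟩ := tauEquiv_surjective p a x ha hinj σ
  obtain ⟨ν', rfl⟩ := tauEquiv_surjective p a x ha hinj τ
  rw [← tauEquiv_add, ← tauEquiv_add, add_comm]

include ha hinj in
theorem aut_pow (σ : AS p a x ≃ₐ[R] AS p a x) : σ ^ p = 1 := by
  obtain ⟨ν, rfl⟩ := tauEquiv_surjective p a x ha hinj σ
  have h : ∀ k : ℕ, tauEquiv p a x ν ^ k = tauEquiv p a x (k • ν) := by
    intro k
    induction k with
    | zero => rw [pow_zero, zero_smul, tauEquiv_zero]
    | succ k ih => rw [pow_succ, ih, ← tauEquiv_add, succ_nsmul]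
  rw [h]
  have : p • ν = 0 := by
    funext i
    simp
  rw [this, tauEquiv_zero]

end Main

end Groth.Agent.Helper7.WqAut
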