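import Mathlib
import Groth.Agent.Helper3.CHR1

set_option autoImplicit false
universe u v w

/-!
# Chase–Harrison–Rosenberg dual elements over a prime of the base, with denominators
-/

namespace Groth.Agent.Helper7.WqGen

open Groth.Agent.Helper3.CHR
open scoped TensorProduct
open Classical

section Dual

variable (B : Type u) (A' : Type v) (Γ : Type w) [CommRing B] [CommRing A'] [Algebra B A']
  [Group Γ] [Finite Γ] [MulSemiringAction Γ A'] [SMulCommClass Γ B A'] [Algebra.IsIntegral B A']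

/-- If no `γ ≠ 1` lies in the inertia group of a prime over `𝔭`, there are an element `s ∉ 𝔭` and a
tensor `t` with `φ(t) = s • δ_1`. -/
theorem exists_delta_over_prime (𝔭 : Ideal B) [𝔭.IsPrime]
    (h : ∀ γ : Γ, γ ≠ 1 → ∀ Q : Ideal A', Q.IsPrime → Q.comap (algebraMap B A') = 𝔭 →
      ∃ b : A', γ • b - b ∉ Q) :
    ∃ s : B, s ∉ 𝔭 ∧ ∃ t : A' ⊗[B] A', ∀ γ : Γ,
      phi B A' Γ t γ = if γ = 1 then algebraMap B A' s else 0 := by
  classical
  cases nonempty_fintype Γ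
  have key : ∀ γ : Γ, γ ≠ 1 → ∃ s : B, s ∉ 𝔭 ∧ ∃ t : A' ⊗[B] A',
      phi B A' Γ t 1 = algebraMap B A' s ∧ phi B A' Γ t γ = 0 := by
    intro γ hγ
    by_contra hcon
    push Not at hcon
    have hle : (J B A' Γ γ).comap (algebraMap B A') ≤ 𝔭 := by
      intro s hs
      by_contra hs𝔭
      obtain ⟨t, ht1, htγ⟩ := hs
      exact hcon s hs𝔭 t ht1 htγ
    obtain ⟨Q, hJQ, hQ, hQ𝔭⟩ := Ideal.exists_ideal_over_prime_of_isIntegral 𝔭 (J B A' Γ γ) hle
    obtain ⟨b, hb⟩ := h γ hγ Q hQ hQ𝔭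
    apply hb
    have h1 := hJQ (sub_smul_mem_J B A' Γ γ b)
    have h2 : γ • b - b = -(b - γ • b) := by ring
    rw [h2]
    exact neg_mem h1
  choose! s hs t ht1 htγ using key
  refine ⟨∏ γ ∈ Finset.univ.erase (1 : Γ), s γ, ?_, ∏ γ ∈ Finset.univ.erase (1 : Γ), t γ,
    fun τ => ?_⟩
  · intro hmem
    obtain ⟨γ, hγ, hγ'⟩ := (Ideal.IsPrime.prod_mem_iff (p := 𝔭)).mp hmem
    exact hs γ (Finset.ne_of_mem_erase hγ) hγ'
  · rw [map_prod, Finset.prod_apply]
    split_ifs with hτ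
    · subst hτ
      rw [map_prod]
      apply Finset.prod_congr rfl
      intro γ hγ
      exact ht1 γ (Finset.ne_of_mem_erase hγ)
    · apply Finset.prod_eq_zero (i := τ) (Finset.mem_erase.mpr ⟨hτ, Finset.mem_univ _⟩)
      exact htγ τ hτ

/-- the same, with explicit dual elements -/
theorem exists_dual_over_prime (𝔭 : Ideal B) [𝔭.IsPrime]
    (h : ∀ γ : Γ, γ ≠ 1 → ∀ Q : Ideal A', Q.IsPrime → Q.comap (algebraMap B A') = 𝔭 →
      ∃ b : A', γ • b - b ∉ Q) :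
    ∃ s : B, s ∉ 𝔭 ∧ ∃ (n : ℕ) (x y : Fin n → A'), ∀ γ : Γ,
      ∑ k, x k * γ • y k = if γ = 1 then algebraMap B A' s else 0 := by
  obtain ⟨s, hs, t, ht⟩ := exists_delta_over_prime B A' Γ 𝔭 h
  obtain ⟨n, x, y, rfl⟩ := TensorProduct.exists_sum_tmul_eq t
  refine ⟨s, hs, n, x, y, fun γ => ?_⟩
  rw [← ht γ, map_sum, Finset.sum_apply]
  simp

end Dual

end Groth.Agent.Helper7.WqGen
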