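import Mathlib

set_option autoImplicit false
universe u v w

/-!
# A commutative group of order `p ^ n` generated by `n` subgroups of order `p`:
the generating subgroups are independent
-/

namespace Groth.Agent.Helper7.WqGen

section Grp

variable {H : Type*} [Group H]

theorem normal_of_comm (hcomm : ∀ g h : H, g * h = h * g) (N : Subgroup H) : N.Normal := by
  refine ⟨fun x hx g => ?_⟩
  rw [hcomm g x, mul_inv_cancel_right]
  exact hx

/-- an element fixed by each member of a family of subgroups is fixed by their supremum -/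
theorem smul_eq_of_mem_biSup {α : Type*} [MulAction H α] {ι : Type*} (K : ι → Subgroup H)
    (S : Set ι) (a : α) (h : ∀ l ∈ S, ∀ g ∈ K l, g • a = a) :
    ∀ g ∈ (⨆ l ∈ S, K l), g • a = a := by
  have hle : (⨆ l ∈ S, K l) ≤ MulAction.stabilizer H a := by
    apply iSup₂_le
    intro l hl g hg
    rw [MulAction.mem_stabilizer_iff]
    exact h l hl g hg
  intro g hg
  exact MulAction.mem_stabilizer_iff.mp (hle hg)

variable (p : ℕ) [Fact p.Prime] (n : ℕ) (Gi : Fin n → Subgroup H)

/-- the complement `G_i^⊥` -/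
abbrev perp (i : Fin n) : Subgroup H :=
  ⨆ j ∈ (Finset.univ.erase i : Finset (Fin n)), Gi j

theorem le_perp {l j : Fin n} (h : l ≠ j) : Gi l ≤ perp n Gi j :=
  le_iSup₂_of_le l (Finset.mem_erase.mpr ⟨h, Finset.mem_univ _⟩) le_rfl

theorem sup_perp_eq_top (hsup : (⨆ i, Gi i) = ⊤) (i : Fin n) : Gi i ⊔ perp n Gi i = ⊤ := by
  rw [eq_top_iff, ← hsup]
  apply iSup_le
  intro l
  by_cases h : l = i
  · subst h
    exact le_sup_left
  · exact (le_perp n Gi h).trans le_sup_right

section Indep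

variable [Finite H] (hcomm : ∀ g h : H, g * h = h * g) (hcard : Nat.card H = p ^ n)
  (hGi : ∀ i, Nat.card (Gi i) = p) (hsup : (⨆ i, Gi i) = ⊤)

include hcomm in
theorem pairwise_commute :
    Pairwise fun i j : Fin n => ∀ x y : H, x ∈ Gi i → y ∈ Gi j → Commute x y :=
  fun _ _ _ x y _ _ => hcomm x y

include hcomm hcard hGi hsup in
theorem noncommPiCoprod_bijective :
    Function.Bijective (Subgroup.noncommPiCoprod (pairwise_commute n Gi hcomm)) := by
  have hsurj : Function.Surjective (Subgroup.noncommPiCoprod (pairwise_commute n Gi hcomm)) := by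
    rw [← MonoidHom.range_eq_top, Subgroup.noncommPiCoprod_range, hsup]
  apply hsurj.bijective_of_nat_card_le
  rw [Nat.card_pi, hcard]
  simp [hGi]

include hcomm in
/-- elements of `G_j^⊥` have trivial `j`-th coordinate -/
theorem exists_of_mem_perp (j : Fin n) (x : H) (hx : x ∈ perp n Gi j) :
    ∃ g : ∀ i, Gi i, g j = 1 ∧ Subgroup.noncommPiCoprod (pairwise_commute n Gi hcomm) g = x := by
  classical
  let K : Subgroup (∀ i, Gi i) := (Pi.evalMonoidHom (fun i => Gi i) j).ker
  have hle : perp n Gi j ≤ K.map (Subgroup.noncommPiCoprod (pairwise_commute n Gi hcomm)) := by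
    apply iSup₂_le
    intro l hl y hy
    have hlj : l ≠ j := Finset.ne_of_mem_erase hl
    refine ⟨(Pi.mulSingle l (⟨y, hy⟩ : Gi l) : ∀ i, Gi i), ?_, ?_⟩
    · change (Pi.mulSingle l (⟨y, hy⟩ : Gi l) : ∀ i, Gi i) j = 1
      exact Pi.mulSingle_eq_of_ne' hlj _
    · rw [Subgroup.noncommPiCoprod_mulSingle]
  obtain ⟨g, hg, hgx⟩ := hle hx
  exact ⟨g, hg, hgx⟩

include hcomm hcard hGi hsup in
theorem inf_perp_eq_bot (i : Fin n) : Gi i ⊓ perp n Gi i = ⊥ := by
  classical
  rw [eq_bot_iff]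
  rintro x ⟨hx1, hx2⟩
  rw [Subgroup.mem_bot]
  obtain ⟨g, hg, hgx⟩ := exists_of_mem_perp n Gi hcomm i x hx2
  have h1 : Subgroup.noncommPiCoprod (pairwise_commute n Gi hcomm)
      (Pi.mulSingle i (⟨x, hx1⟩ : Gi i)) = x := by
    rw [Subgroup.noncommPiCoprod_mulSingle]
  have h2 := (noncommPiCoprod_bijective p n Gi hcomm hcard hGi hsup).1 (h1.trans hgx.symm)
  have h3 := congrFun h2 i
  rw [Pi.mulSingle_eq_same, hg] at h3
  exact congrArg Subtype.val h3

include hcomm hcard hGi hsup in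
theorem eq_one_of_forall_mem_perp (x : H) (hx : ∀ j, x ∈ perp n Gi j) : x = 1 := by
  classical
  obtain ⟨g₀, hg₀⟩ := (noncommPiCoprod_bijective p n Gi hcomm hcard hGi hsup).2 x
  have h1 : ∀ j, g₀ j = 1 := by
    intro j
    obtain ⟨g, hg, hgx⟩ := exists_of_mem_perp n Gi hcomm j x (hx j)
    have h2 := (noncommPiCoprod_bijective p n Gi hcomm hcard hGi hsup).1 (hgx.trans hg₀.symm)
    rw [← h2]
    exact hg
  have h2 : g₀ = 1 := funext h1
  rw [← hg₀, h2, map_one]

include hcomm hsup hGi in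
theorem card_quotient_perp_le (j : Fin n) : Nat.card (H ⧸ perp n Gi j) ≤ p := by
  haveI : (perp n Gi j).Normal := normal_of_comm hcomm _
  let f : Gi j → H ⧸ perp n Gi j := fun g => ((g : H) : H ⧸ perp n Gi j)
  have hf : Function.Surjective f := by
    intro q
    obtain ⟨h, rfl⟩ := QuotientGroup.mk_surjective q
    have hmem : h ∈ Gi j ⊔ perp n Gi j := by
      rw [sup_perp_eq_top n Gi hsup j]
      trivial
    have hmem' : h ∈ ((Gi j ⊔ perp n Gi j : Subgroup H) : Set H) := hmem
    rw [Subgroup.mul_normal] at hmem'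
    obtain ⟨y, hy, z, hz, hyz⟩ := Set.mem_mul.mp hmem'
    refine ⟨⟨y, hy⟩, ?_⟩
    change ((y : H) : H ⧸ perp n Gi j) = h
    rw [QuotientGroup.eq, ← hyz, inv_mul_cancel_left]
    exact hz
  have := Nat.card_le_card_of_surjective f hf
  rwa [hGi j] at this

end Indep

end Grp

end Groth.Agent.Helper7.WqGen
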