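import Mathlib
import Groth.Agent.Helper7.WqGenA
import Groth.Agent.Helper7.WqGenB
import Groth.Agent.Helper6.DecInert

set_option autoImplicit false
universe u v w

/-!
# The trace argument: generation in codimension one
-/

namespace Groth.Agent.Helper7.WqGen

open scoped Pointwise

section Trace

variable {R : Type u} {A : Type v} [CommRing R] [CommRing A] [Algebra R A]
  {H : Type w} [Group H] [Finite H] [MulSemiringAction H A] [SMulCommClass H R A]

open Classical in
/-- the abstract trace argument -/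
theorem trace_gen (hcomm : ∀ g h : H, g * h = h * g)
    (I N : Subgroup H) (hIN : ∀ x ∈ I, x ∈ N → x = 1)
    {J : Type*} [Fintype J] (M : J → Subgroup H)
    (hM : ∀ j, M j ≤ I ⊔ (N ⊓ M j))
    (hF3 : ∀ ν ∈ N, (∀ j, ν ∈ M j) → ν = 1)
    (s : R) (n' : ℕ) (X Y : Fin n' → A)
    (hY : ∀ k, ∀ g ∈ I, g • Y k = Y k)
    (hXY : ∀ σ : H, ∑ k, X k * σ • Y k = if σ ∈ I then algebraMap R A s else 0)
    (S : Subalgebra R A)
    (hSN : ∀ b : A, (∀ ν ∈ N, ν • b = b) → b ∈ S)
    (hSM : ∀ j, ∀ b : A, (∀ g ∈ M j, g • b = b) → b ∈ S) (a : A) :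
    algebraMap R A (s ^ Fintype.card J) * a ∈ S := by
  cases nonempty_fintype H
  let T : J → Subgroup H := fun j => N ⊓ M j
  let Yj : J → Fin n' → A := fun j k => ∑ μ : T j, (μ : H) • Y k
  have hYj : ∀ j k, Yj j k ∈ S := by
    intro j k
    apply hSM j
    intro g hg
    have hg' : g ∈ ((I ⊔ T j : Subgroup H) : Set H) := hM j hg
    haveI : (T j).Normal := normal_of_comm hcomm _
    rw [Subgroup.mul_normal] at hg'
    obtain ⟨ι, hι, μ₀, hμ₀, rfl⟩ := Set.mem_mul.mp hg'
    simp only [Yj]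
    rw [Finset.smul_sum]
    have h1 : ∀ μ : T j, (ι * μ₀) • (μ : H) • Y k = ((⟨μ₀, hμ₀⟩ * μ : T j) : H) • Y k := by
      intro μ
      rw [smul_smul, Subgroup.coe_mul]
      have h2 : ι * μ₀ * (μ : H) = μ₀ * μ * ι := by
        rw [hcomm ι μ₀, mul_assoc, hcomm ι μ, ← mul_assoc]
      rw [h2, mul_smul, hY k ι hι]
    simp_rw [h1]
    exact Fintype.sum_equiv (Equiv.mulLeft ⟨μ₀, hμ₀⟩) _ _ (fun μ => rfl)
  let Tr : A → A := fun b => ∑ ν : N, (ν : H) • b
  have hTr : ∀ b, Tr b ∈ S := by
    intro b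
    apply hSN
    intro ν hν
    simp only [Tr]
    rw [Finset.smul_sum]
    simp_rw [smul_smul]
    exact Fintype.sum_equiv (Equiv.mulLeft ⟨ν, hν⟩) _ _ (fun μ => rfl)
  have hev : ∀ (ν : N) (j : J), ∑ k, (ν : H) • X k * Yj j k =
      if (ν : H) ∈ M j then algebraMap R A s else 0 := by
    intro ν j
    have h1 : ∑ k, (ν : H) • X k * Yj j k =
        (ν : H) • ∑ μ : T j, ∑ k, X k * ((ν : H)⁻¹ * μ) • Y k := by
      simp only [Yj]
      simp_rw [Finset.smul_sum, Finset.mul_sum, smul_mul', smul_smul, mul_inv_cancel_left]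
      exact Finset.sum_comm
    rw [h1]
    simp_rw [hXY]
    have h2 : ∀ μ : T j, ((ν : H)⁻¹ * μ ∈ I ↔ (μ : H) = ν) := by
      intro μ
      constructor
      · intro h
        have hN : (ν : H)⁻¹ * μ ∈ N := N.mul_mem (N.inv_mem ν.2) μ.2.1
        have h3 : (ν : H)⁻¹ * μ = 1 := hIN _ h hN
        rw [inv_mul_eq_one] at h3
        exact h3.symm
      · intro h
        rw [h, inv_mul_cancel]
        exact I.one_mem
    by_cases hν : (ν : H) ∈ M j
    · rw [if_pos hν, Finset.sum_eq_single (⟨ν, ν.2, hν⟩ : T j)]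
      · rw [if_pos ((h2 _).mpr rfl), smul_algebraMap]
      · intro μ _ hne
        rw [if_neg]
        intro h
        exact hne (Subtype.ext ((h2 μ).mp h))
      · intro h
        exact absurd (Finset.mem_univ _) h
    · rw [if_neg hν, Finset.sum_eq_zero, smul_zero]
      intro μ _
      rw [if_neg]
      intro h
      apply hν
      rw [← (h2 μ).mp h]
      exact μ.2.2
  have hmain : algebraMap R A (s ^ Fintype.card J) * a =
      ∑ f : J → Fin n', Tr (a * ∏ j, X (f j)) * ∏ j, Yj j (f j) := by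
    symm
    simp only [Tr]
    calc ∑ f : J → Fin n', (∑ ν : N, (ν : H) • (a * ∏ j, X (f j))) * ∏ j, Yj j (f j)
        = ∑ ν : N, (ν : H) • a * ∑ f : J → Fin n', ∏ j, ((ν : H) • X (f j) * Yj j (f j)) := by
          simp_rw [Finset.sum_mul, Finset.mul_sum, smul_mul', Finset.smul_prod',
            Finset.prod_mul_distrib, mul_assoc]
          exact Finset.sum_comm
      _ = ∑ ν : N, (ν : H) • a * ∏ j, ∑ k, ((ν : H) • X k * Yj j k) := by
          apply Finset.sum_congr rfl
          intro ν _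
          rw [Fintype.prod_sum]
      _ = ∑ ν : N, (ν : H) • a * ∏ j, (if (ν : H) ∈ M j then algebraMap R A s else 0) := by
          simp_rw [hev]
      _ = algebraMap R A (s ^ Fintype.card J) * a := by
          rw [Finset.sum_eq_single (1 : N)]
          · have h1 : ∀ j, (1 : H) ∈ M j := fun j => (M j).one_mem
            simp only [Subgroup.coe_one, one_smul, h1, if_true, Finset.prod_const, Finset.card_univ,
              map_pow]
            ring
          · intro ν _ hne
            have h1 : ∃ j, (ν : H) ∉ M j := by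
              by_contra hall
              push Not at hall
              exact hne (Subtype.ext (hF3 ν ν.2 hall))
            obtain ⟨j, hj⟩ := h1
            rw [Finset.prod_eq_zero (Finset.mem_univ j) (if_neg hj), mul_zero]
          · intro h
            exact absurd (Finset.mem_univ _) h
  rw [hmain]
  exact S.sum_mem (fun f _ => S.mul_mem (hTr _) (S.prod_mem (fun j _ => hYj j (f j))))

end Trace

section CodimOne

variable (R : Type u) [CommRing R] (A : Type v) [CommRing A] [Algebra R A]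
  (H : Type w) [Group H] [Finite H] [MulSemiringAction H A] [SMulCommClass H R A]

open Classical in
/-- dual elements relative to a normal subgroup containing the inertia groups of the primes over
`𝔭` -/
theorem exists_dual_inertia
    (hinj : Function.Injective (algebraMap R A))
    (hfix : ∀ a : A, (∀ h : H, h • a = a) → a ∈ Set.range (algebraMap R A))
    (N : Subgroup H) [N.Normal] (𝔭 : Ideal R) [𝔭.IsPrime]
    (hI : ∀ P : Ideal A, P.IsPrime → P.comap (algebraMap R A) = 𝔭 → P.inertia H ≤ N) :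
    ∃ s : R, s ∉ 𝔭 ∧ ∃ (n' : ℕ) (X Y : Fin n' → A), (∀ k, ∀ g ∈ N, g • Y k = Y k) ∧
      ∀ σ : H, ∑ k, X k * σ • Y k = if σ ∈ N then algebraMap R A s else 0 := by
  haveI : Algebra.IsInvariant R A H := ⟨hfix⟩
  haveI : Algebra.IsIntegral R (FixedPoints.subalgebra R A N) :=
    Algebra.IsInvariant.isIntegral R _ (H ⧸ N)
  haveI : Algebra.IsInvariant (FixedPoints.subalgebra R A N) A N :=
    ⟨fun b hb => ⟨⟨b, hb⟩, rfl⟩⟩
  haveI hint : Algebra.IsIntegral (FixedPoints.subalgebra R A N) A :=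
    Algebra.IsInvariant.isIntegral _ _ N
  obtain ⟨s, hs, n', x, y, hxy⟩ := exists_dual_over_prime R (FixedPoints.subalgebra R A N)
    (H ⧸ N) 𝔭 (by
    intro γ hγ Q' hQ' hQ'𝔭
    by_contra hcon
    push Not at hcon
    apply hγ
    obtain ⟨h, rfl⟩ := QuotientGroup.mk_surjective γ
    obtain ⟨P, -, hP, hPQ⟩ := Ideal.exists_ideal_over_prime_of_isIntegral Q' (⊥ : Ideal A) (by
      intro z hz
      rw [Ideal.mem_comap, Ideal.mem_bot] at hz
      have hz0 : z = 0 := Subtype.ext hz
      rw [hz0]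
      exact zero_mem _)
    have hcomap : P.comap (algebraMap R A) = 𝔭 := by
      rw [IsScalarTower.algebraMap_eq R (FixedPoints.subalgebra R A N) A, ← Ideal.comap_comap,
        hPQ, hQ'𝔭]
    obtain ⟨ω, hω, hω'⟩ := Groth.Agent.Helper6.DecInert.inert N P h (fun z hzN => by
      have h1 := hcon ⟨z, fun g => hzN g.1 g.2⟩
      rw [← hPQ, Ideal.mem_comap] at h1
      exact h1)
    have h2 : h * ω ∈ N := hI P hP hcomap hω'
    rw [QuotientGroup.eq_one_iff]
    have h3 : h = (h * ω) * ω⁻¹ := by group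
    rw [h3]
    exact N.mul_mem h2 (N.inv_mem hω))
  refine ⟨s, hs, n', fun k => (x k : A), fun k => (y k : A), ?_, ?_⟩
  · intro k g hg
    exact (y k).2 ⟨g, hg⟩
  · intro σ
    have h1 := congrArg (FixedPoints.subalgebra R A N).val (hxy (σ : H ⧸ N))
    rw [map_sum] at h1
    simp only [map_mul] at h1
    rw [apply_ite (FixedPoints.subalgebra R A N).val, map_zero] at h1
    simp only [QuotientGroup.eq_one_iff] at h1
    exact h1

open Classical in
/-- generation in codimension one -/
theorem codim_one_gen [IsDomain A]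
    (hinj : Function.Injective (algebraMap R A))
    (hfix : ∀ a : A, (∀ h : H, h • a = a) → a ∈ Set.range (algebraMap R A))
    (hcomm : ∀ g h : H, g * h = h * g)
    (p : ℕ) [Fact p.Prime] (n : ℕ) (hcard : Nat.card H = p ^ n) (Gi : Fin n → Subgroup H)
    (hGi : ∀ i, Nat.card (Gi i) = p) (hsup : (⨆ i, Gi i) = ⊤)
    (𝔭 : Ideal R) [𝔭.IsPrime] (i : Fin n)
    (hI : ∀ P : Ideal A, P.IsPrime → P.comap (algebraMap R A) = 𝔭 → P.inertia H ≤ Gi i) :
    ∃ s : R, s ∉ 𝔭 ∧ ∀ a : A, algebraMap R A s * a ∈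
      (⨆ j, FixedPoints.subalgebra R A ↥(perp n Gi j) : Subalgebra R A) := by
  haveI : (Gi i).Normal := normal_of_comm hcomm _
  obtain ⟨s, hs, n', X, Y, hY, hXY⟩ := exists_dual_inertia R A H hinj hfix (Gi i) 𝔭 hI
  refine ⟨s ^ Fintype.card {j : Fin n // j ≠ i}, fun hmem => hs (Ideal.IsPrime.mem_of_pow_mem
    inferInstance _ hmem), fun a => ?_⟩
  apply trace_gen hcomm (Gi i) (perp n Gi i) ?_ (fun j : {j : Fin n // j ≠ i} => perp n Gi j.1)
    ?_ ?_ s n' X Y hY hXY _ ?_ ?_ a
  · intro x hx1 hx2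
    have h1 : x ∈ Gi i ⊓ perp n Gi i := ⟨hx1, hx2⟩
    rw [inf_perp_eq_bot p n Gi hcomm hcard hGi hsup i] at h1
    exact Subgroup.mem_bot.mp h1
  · rintro ⟨j, hj⟩
    apply iSup₂_le
    intro l hl
    have hlj : l ≠ j := Finset.ne_of_mem_erase hl
    by_cases hli : l = i
    · subst hli
      exact le_sup_left
    · exact (le_inf (le_perp n Gi hli) (le_perp n Gi hlj)).trans le_sup_right
  · intro ν hν hall
    apply eq_one_of_forall_mem_perp p n Gi hcomm hcard hGi hsup ν
    intro j
    by_cases hji : j = i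
    · subst hji
      exact hν
    · exact hall ⟨j, hji⟩
  · intro b hb
    exact le_iSup (fun j => FixedPoints.subalgebra R A ↥(perp n Gi j)) i (fun g => hb g.1 g.2)
  · rintro ⟨j, hj⟩ b hb
    exact le_iSup (fun j => FixedPoints.subalgebra R A ↥(perp n Gi j)) j (fun g => hb g.1 g.2)

end CodimOne

end Groth.Agent.Helper7.WqGen
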