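import Mathlib
import Groth.Agent.Helper7.ZNPurR
import Groth.Agent.Helper6.DecInert

set_option autoImplicit false
universe u v w

/-!
# Invariants of a normal subgroup, and generation by inertia groups
-/

namespace Groth.Agent.Helper7.ZNPur

open IsLocalRing
open scoped Pointwise

section FixedSub

variable (R : Type u) [CommRing R] (A : Type v) [CommRing A] [Algebra R A]
  (H : Type w) [Group H] [MulSemiringAction H A] [SMulCommClass H R A] (N : Subgroup H)

theorem mem_fixedSub_iff (x : A) : x ∈ FixedPoints.subalgebra R A N ↔ ∀ n ∈ N, n • x = x := by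
  constructor
  · intro h n hn
    exact h ⟨n, hn⟩
  · intro h n
    exact h n.1 n.2

instance isInvariant_fixedSub : Algebra.IsInvariant (FixedPoints.subalgebra R A N) A N :=
  ⟨fun b hb => ⟨⟨b, hb⟩, rfl⟩⟩

theorem finite_fixedSub [IsNoetherianRing R] [Module.Finite R A] :
    Module.Finite R (FixedPoints.subalgebra R A N) := by
  haveI : IsNoetherian R A := isNoetherian_of_isNoetherianRing_of_finite R A
  exact Module.Finite.of_injective (FixedPoints.subalgebra R A N).val.toLinearMap
    Subtype.val_injective

theorem isIntegral_fixedSub [Finite H] : Algebra.IsIntegral (FixedPoints.subalgebra R A N) A :=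
  Algebra.IsInvariant.isIntegral _ _ N

theorem isLocalRing_fixedSub [Finite H] [IsLocalRing A] :
    IsLocalRing (FixedPoints.subalgebra R A N) := by
  haveI := isIntegral_fixedSub R A H N
  haveI : FaithfulSMul (FixedPoints.subalgebra R A N) A :=
    (faithfulSMul_iff_algebraMap_injective _ _).mpr Subtype.val_injective
  exact (algebraMap (FixedPoints.subalgebra R A N) A).domain_isLocalRing

theorem isIntegrallyClosed_fixedSub [IsDomain A] [IsIntegrallyClosed A] :
    IsIntegrallyClosed (FixedPoints.subalgebra R A N) := by
  set A' := FixedPoints.subalgebra R A N with hA'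
  haveI : FaithfulSMul A' A :=
    (faithfulSMul_iff_algebraMap_injective _ _).mpr Subtype.val_injective
  haveI : FaithfulSMul A' (FractionRing A) := by
    rw [faithfulSMul_iff_algebraMap_injective, IsScalarTower.algebraMap_eq A' A (FractionRing A)]
    exact (IsFractionRing.injective A (FractionRing A)).comp Subtype.val_injective
  letI : Algebra (FractionRing A') (FractionRing A) := FractionRing.liftAlgebra A' (FractionRing A)
  haveI : IsScalarTower A' (FractionRing A') (FractionRing A) :=
    FractionRing.isScalarTower_liftAlgebra A' (FractionRing A)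
  rw [isIntegrallyClosed_iff (FractionRing A')]
  intro x hx
  have h1 : IsIntegral A' (algebraMap (FractionRing A') (FractionRing A) x) :=
    hx.map (IsScalarTower.toAlgHom A' (FractionRing A') (FractionRing A))
  have h2 : IsIntegral A (algebraMap (FractionRing A') (FractionRing A) x) := h1.tower_top
  obtain ⟨y, hy⟩ := (isIntegrallyClosed_iff (FractionRing A)).mp inferInstance h2
  obtain ⟨a, b, hb, rfl⟩ := IsFractionRing.div_surjective (A := A') x
  have hb0 : (b : A) ≠ 0 := by
    intro h0
    have : b = 0 := Subtype.ext h0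
    exact nonZeroDivisors.ne_zero hb this
  have hyb : y * (b : A) = (a : A) := by
    apply IsFractionRing.injective A (FractionRing A)
    rw [map_mul, hy, map_div₀, ← IsScalarTower.algebraMap_apply, ← IsScalarTower.algebraMap_apply,
      IsScalarTower.algebraMap_apply A' A (FractionRing A) a,
      IsScalarTower.algebraMap_apply A' A (FractionRing A) b]
    have hne : algebraMap A (FractionRing A) (algebraMap A' A b) ≠ 0 := by
      rw [Ne, map_eq_zero_iff _ (IsFractionRing.injective A (FractionRing A))]
      exact hb0
    exact div_mul_cancel₀ _ hne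
  have hyfix : y ∈ A' := by
    intro n
    have h3 : (n • y) * (b : A) = y * (b : A) := by
      have hbn : n • (b : A) = b := b.2 n
      have han : n • (a : A) = a := a.2 n
      calc (n • y) * (b : A) = (n • y) * (n • (b : A)) := by rw [hbn]
        _ = n • (y * (b : A)) := (smul_mul' n y _).symm
        _ = y * (b : A) := by rw [hyb, han]
    exact mul_right_cancel₀ hb0 h3
  refine ⟨⟨y, hyfix⟩, ?_⟩
  rw [eq_div_iff (by
    rw [Ne, map_eq_zero_iff _ (IsFractionRing.injective A' (FractionRing A'))]
    exact nonZeroDivisors.ne_zero hb), ← map_mul]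
  congr 1
  exact Subtype.ext hyb

end FixedSub

section Main

variable (R : Type u) [CommRing R] [IsRegularLocalRing R]
  (A : Type v) [CommRing A] [IsDomain A] [IsIntegrallyClosed A] [IsLocalRing A]
  [Algebra R A] [Module.Finite R A]
  (H : Type w) [Group H] [Finite H] [MulSemiringAction H A] [SMulCommClass H R A]
  [FaithfulSMul H A]

/-- a normal subgroup containing the inertia groups of the height-one primes is everything -/
theorem eq_top_of_inertia_le (hinj : Function.Injective (algebraMap R A))
    (hres : Function.Surjective (IsLocalRing.residue A ∘ algebraMap R A))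
    (hfix : ∀ a : A, (∀ h : H, h • a = a) → a ∈ Set.range (algebraMap R A))
    (N : Subgroup H) [N.Normal]
    (hN : ∀ P : Ideal A, P.IsPrime → P.height = 1 → P.inertia H ≤ N) : N = ⊤ := by
  haveI : Module.Finite R (FixedPoints.subalgebra R A N) := finite_fixedSub R A H N
  haveI : IsLocalRing (FixedPoints.subalgebra R A N) := isLocalRing_fixedSub R A H N
  haveI : IsIntegrallyClosed (FixedPoints.subalgebra R A N) := isIntegrallyClosed_fixedSub R A H N
  haveI : Algebra.IsInvariant R A H := ⟨hfix⟩
  haveI hint : Algebra.IsIntegral (FixedPoints.subalgebra R A N) A := isIntegral_fixedSub R A H N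
  have hinjA' : Function.Injective (algebraMap (FixedPoints.subalgebra R A N) A) :=
    Subtype.val_injective
  -- the key lifting property
  have key : ∀ (P : Ideal A) [P.IsPrime] (h : H),
      (∀ x : FixedPoints.subalgebra R A N, h • (x : A) - x ∈ P) →
      ∃ ω ∈ N, h * ω ∈ P.inertia H := by
    intro P _ h hx
    obtain ⟨ω, hω, hω'⟩ := Groth.Agent.Helper6.DecInert.inert N P h (fun x hxN =>
      hx ⟨x, (mem_fixedSub_iff R A H N x).mpr hxN⟩)
    exact ⟨ω, hω, hω'⟩
  have hmk : ∀ (h : H) (x : FixedPoints.subalgebra R A N),
      (((h : H ⧸ N) • x : FixedPoints.subalgebra R A N) : A) = h • (x : A) := fun h x => rfl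
  haveI : FaithfulSMul (H ⧸ N) (FixedPoints.subalgebra R A N) := by
    refine ⟨fun {q₁ q₂} hq => ?_⟩
    suffices hs : ∀ q : H ⧸ N, (∀ x : FixedPoints.subalgebra R A N, q • x = x) → q = 1 by
      have h1 : q₁⁻¹ * q₂ = 1 := by
        apply hs
        intro x
        rw [mul_smul, ← hq x, inv_smul_smul]
      rw [inv_mul_eq_one] at h1
      exact h1
    intro q hq
    obtain ⟨h, rfl⟩ := QuotientGroup.mk_surjective q
    obtain ⟨ω, hω, hω'⟩ := key ⊥ h (fun x => by
      have h1 := congrArg Subtype.val (hq x)
      rw [hmk] at h1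
      rw [h1, sub_self]
      exact zero_mem _)
    have h1 : h * ω = 1 := by
      apply FaithfulSMul.eq_of_smul_eq_smul (α := A)
      intro a
      have h2 : (h * ω) • a - a ∈ (⊥ : Ideal A) := hω' a
      rw [Ideal.mem_bot, sub_eq_zero] at h2
      rw [one_smul]
      exact h2
    rw [QuotientGroup.eq_one_iff]
    have h2 : h = ω⁻¹ := eq_inv_of_mul_eq_one_left h1
    rw [h2]
    exact N.inv_mem hω
  have hall := trivial_of_codim_one_free R (FixedPoints.subalgebra R A N)
    (fun x y hxy => hinj (congrArg Subtype.val hxy))
    (by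
      intro z
      obtain ⟨a', rfl⟩ := IsLocalRing.residue_surjective z
      obtain ⟨r, hr⟩ := hres (IsLocalRing.residue A (a' : A))
      refine ⟨r, ?_⟩
      change IsLocalRing.residue _ (algebraMap R (FixedPoints.subalgebra R A N) r) = _
      rw [← sub_eq_zero, ← map_sub, IsLocalRing.residue_eq_zero_iff]
      have hr' : IsLocalRing.residue A (algebraMap R A r) = IsLocalRing.residue A (a' : A) := hr
      rw [← sub_eq_zero, ← map_sub, IsLocalRing.residue_eq_zero_iff] at hr'
      rw [IsLocalRing.mem_maximalIdeal, mem_nonunits_iff] at hr' ⊢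
      intro hu
      exact hr' (hu.map (algebraMap (FixedPoints.subalgebra R A N) A)))
    (H ⧸ N)
    (fun a ha => Algebra.IsInvariant.isInvariant (A := R) (G := H ⧸ N) a ha)
    (by
      intro Q' hQ' hht
      rw [eq_bot_iff]
      intro q hq
      rw [Subgroup.mem_bot]
      obtain ⟨h, rfl⟩ := QuotientGroup.mk_surjective q
      obtain ⟨P, hP, hPQ⟩ := Ideal.exists_ideal_over_prime_of_isIntegral_of_isDomain Q' (S := A)
        (by
          rw [(RingHom.injective_iff_ker_eq_bot _).mp hinjA']
          exact bot_le)
      have hPht : P.height = 1 :=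
        height_eq_one_of_comap_of_isIntegral hinjA' P (by rw [hPQ]; exact hht)
      obtain ⟨ω, hω, hω'⟩ := key P h (fun x => by
        have h1 : (h : H ⧸ N) • x - x ∈ Q' := hq x
        rw [← hPQ, Ideal.mem_comap] at h1
        exact h1)
      have h2 : h * ω ∈ N := hN P hP hPht hω'
      rw [QuotientGroup.eq_one_iff]
      have h3 : h = (h * ω) * ω⁻¹ := by group
      rw [h3]
      exact N.mul_mem h2 (N.inv_mem hω))
  rw [eq_top_iff]
  intro h _
  have := hall (h : H ⧸ N)
  rwa [QuotientGroup.eq_one_iff] at this

/-- **Generation by inertia**: the group is generated by the inertia groups of the height-one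
primes. -/
theorem iSup_inertia_eq_top (hinj : Function.Injective (algebraMap R A))
    (hres : Function.Surjective (IsLocalRing.residue A ∘ algebraMap R A))
    (hfix : ∀ a : A, (∀ h : H, h • a = a) → a ∈ Set.range (algebraMap R A)) :
    (⨆ P : {P : Ideal A // P.IsPrime ∧ P.height = 1}, P.1.inertia H) = ⊤ := by
  set N : Subgroup H := ⨆ P : {P : Ideal A // P.IsPrime ∧ P.height = 1}, P.1.inertia H with hNdef
  haveI : N.Normal := by
    refine ⟨fun n hn g => ?_⟩
    have h1 : N.map (MulAut.conj g).toMonoidHom ≤ N := by
      rw [hNdef, Subgroup.map_iSup]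
      apply iSup_le
      rintro ⟨P, hP, hPht⟩
      haveI := hP
      have hgP : (g • P).IsPrime := Ideal.IsPrime.smul g
      have hgPht : (g • P).height = 1 := by
        rw [Ideal.pointwise_smul_eq_comap]
        have := RingEquiv.height_comap (MulSemiringAction.toRingEquiv H A g⁻¹) P
        rw [← hPht, ← this]
        rfl
      refine le_trans ?_ (le_iSup (fun P : {P : Ideal A // P.IsPrime ∧ P.height = 1} =>
        P.1.inertia H) ⟨g • P, hgP, hgPht⟩)
      rintro _ ⟨σ, hσ, rfl⟩
      intro x
      have h2 := hσ (g⁻¹ • x)
      have h3 : (MulAut.conj g).toMonoidHom σ • x - x = g • (σ • g⁻¹ • x - g⁻¹ • x) := by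
        change (g * σ * g⁻¹) • x - x = _
        rw [smul_sub, mul_smul, mul_smul, smul_inv_smul]
      rw [h3]
      exact Ideal.smul_mem_pointwise_smul_iff.mpr h2
    exact h1 ⟨n, hn, rfl⟩
  exact eq_top_of_inertia_le R A H hinj hres hfix N
    (fun P hP hPht => le_iSup (fun P : {P : Ideal A // P.IsPrime ∧ P.height = 1} =>
        P.1.inertia H) ⟨P, hP, hPht⟩)

end Main

end Groth.Agent.Helper7.ZNPur
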