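import Mathlib
import Groth.Agent.Helper7.WqGenC
import Groth.Agent.Helper7.ZNPurS
import Groth.Agent.Helper5.AssHt

set_option autoImplicit false
universe u v w

/-!
# Generation of a Galois normal domain by the invariant subalgebras of the complements
-/

namespace Groth.Agent.Helper7.WqGen

open scoped Pointwise

section Dvd

/-- divisibility in a Noetherian normal domain can be tested at the height-one primes -/
theorem dvd_of_forall_height_one (R : Type u) [CommRing R] [IsDomain R] [IsNoetherianRing R]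
    [IsIntegrallyClosed R] (c d : R) (hd : d ≠ 0)
    (h : ∀ 𝔭 : Ideal R, 𝔭.IsPrime → 𝔭.height = 1 → ∃ s : R, s ∉ 𝔭 ∧ d ∣ s * c) : d ∣ c := by
  by_contra hnd
  have hx : (Ideal.Quotient.mk (Ideal.span {d}) c) ≠ 0 := by
    rw [Ne, Ideal.Quotient.eq_zero_iff_mem, Ideal.mem_span_singleton]
    exact hnd
  obtain ⟨P, hP, hle⟩ := exists_le_isAssociatedPrime_of_isNoetherianRing R _ hx
  have hPmem : P ∈ associatedPrimes R (R ⧸ Ideal.span {d}) := hP
  have hht := Groth.Agent.Helper5.AssHt.main R d hd P hPmem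
  obtain ⟨s, hs, hdvd⟩ := h P hP.isPrime hht
  apply hs
  apply hle
  rw [Submodule.mem_colon_singleton, Submodule.mem_bot]
  have h1 : s • (Ideal.Quotient.mk (Ideal.span {d}) c) =
      Ideal.Quotient.mk (Ideal.span {d}) (s * c) := by
    rw [Algebra.smul_def, Ideal.Quotient.algebraMap_eq, ← map_mul]
  rw [h1, Ideal.Quotient.eq_zero_iff_mem, Ideal.mem_span_singleton]
  exact hdvd

end Dvd

section Faithful

variable (R : Type u) [CommRing R] (A : Type v) [CommRing A] [IsDomain A] [Algebra R A]
  (H : Type w) [Group H] [Finite H] [MulSemiringAction H A] [SMulCommClass H R A]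
  [FaithfulSMul H A]

/-- the quotient group acts faithfully on the invariants of a normal subgroup -/
theorem faithful_quotient_fixedSub (N : Subgroup H) [N.Normal] :
    FaithfulSMul (H ⧸ N) (FixedPoints.subalgebra R A N) := by
  have hmk : ∀ (h : H) (x : FixedPoints.subalgebra R A N),
      (((h : H ⧸ N) • x : FixedPoints.subalgebra R A N) : A) = h • (x : A) := fun h x => rfl
  refine ⟨fun {q₁ q₂} hq => ?_⟩
  suffices hs : ∀ q : H ⧸ N, (∀ x : FixedPoints.subalgebra R A N, q • x = x) → q = 1 by
    have h1 : q₁⁻¹ * q₂ = 1 := by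
      apply hs
      intro x
      rw [mul_smul, ← hq x, inv_smul_smul]
    rw [inv_mul_eq_one] at h1
    exact h1
  intro q hq
  obtain ⟨h, rfl⟩ := QuotientGroup.mk_surjective q
  obtain ⟨ω, hω, hω'⟩ := Groth.Agent.Helper6.DecInert.inert N (⊥ : Ideal A) h (fun x hxN => by
    have h1 := congrArg Subtype.val (hq ⟨x, fun g => hxN g.1 g.2⟩)
    rw [hmk] at h1
    change h • x = x at h1
    rw [h1, sub_self]
    exact zero_mem _)
  have h1 : h * ω = 1 := by
    apply FaithfulSMul.eq_of_smul_eq_smul (α := A)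
    intro a
    have h2 : (h * ω) • a - a ∈ (⊥ : Ideal A) := hω' a
    rw [Ideal.mem_bot, sub_eq_zero] at h2
    rw [one_smul]
    exact h2
  rw [QuotientGroup.eq_one_iff]
  have h2 : h = ω⁻¹ := eq_inv_of_mul_eq_one_left h1
  rw [h2]
  exact N.inv_mem hω

end Faithful

section Main

variable (p : ℕ) [Fact p.Prime] (R : Type u) [CommRing R] [IsRegularLocalRing R]
  (A : Type v) [CommRing A] [IsDomain A] [IsIntegrallyClosed A]
  [Algebra R A] [Module.Finite R A]
  (H : Type w) [Group H] [Finite H] [MulSemiringAction H A] [SMulCommClass H R A]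
  [FaithfulSMul H A]

/-- the codimension `≤ 1` property -/
theorem exists_mul_mem_of_height_le_one
    (hinj : Function.Injective (algebraMap R A))
    (hfix : ∀ a : A, (∀ h : H, h • a = a) → a ∈ Set.range (algebraMap R A))
    (hcomm : ∀ g h : H, g * h = h * g)
    (n : ℕ) (hn : 0 < n) (hcard : Nat.card H = p ^ n) (Gi : Fin n → Subgroup H)
    (hGi : ∀ i, Nat.card (Gi i) = p) (hsup : (⨆ i, Gi i) = ⊤)
    (hMR3 : ∀ P : Ideal A, P.IsPrime → P.height = 1 → P.inertia H ≠ ⊥ → ∃ i, P.inertia H = Gi i)
    (𝔭 : Ideal R) [𝔭.IsPrime] (h𝔭 : 𝔭.height ≤ 1) :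
    ∃ s : R, s ∉ 𝔭 ∧ ∀ a : A, algebraMap R A s * a ∈
      (⨆ j, FixedPoints.subalgebra R A ↥(perp n Gi j) : Subalgebra R A) := by
  haveI : Algebra.IsInvariant R A H := ⟨hfix⟩
  haveI : Algebra.IsIntegral R A := Algebra.IsIntegral.of_finite R A
  obtain ⟨P₀, -, hP₀, hP₀𝔭⟩ := Ideal.exists_ideal_over_prime_of_isIntegral 𝔭 (⊥ : Ideal A) (by
    rw [Ideal.comap_bot_of_injective _ hinj]
    exact bot_le)
  haveI := hP₀
  have hht : P₀.height ≤ 1 :=
    (Groth.Agent.Helper7.ZNPur.height_le_height_comap_of_isIntegral (R := R) P₀).trans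
      (hP₀𝔭 ▸ h𝔭)
  have hex : ∃ i, P₀.inertia H ≤ Gi i := by
    by_cases hb : P₀.inertia H = ⊥
    · exact ⟨⟨0, hn⟩, hb ▸ bot_le⟩
    · have h1 : P₀.height = 1 := by
        refine le_antisymm hht (Order.one_le_iff_pos.mpr (pos_iff_ne_zero.mpr ?_))
        intro h0
        rw [Ideal.height_eq_zero_iff_eq_bot] at h0
        apply hb
        rw [eq_bot_iff]
        intro σ hσ
        rw [Subgroup.mem_bot]
        apply FaithfulSMul.eq_of_smul_eq_smul (α := A)
        intro a
        have h2 : σ • a - a ∈ P₀ := hσ a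
        rw [h0, Ideal.mem_bot, sub_eq_zero] at h2
        rw [one_smul]
        exact h2
      obtain ⟨i, hi⟩ := hMR3 P₀ hP₀ h1 hb
      exact ⟨i, hi.le⟩
  obtain ⟨i, hi⟩ := hex
  apply codim_one_gen R A H hinj hfix hcomm p n hcard Gi hGi hsup 𝔭 i
  intro P hP hP𝔭
  haveI := hP
  obtain ⟨h, rfl⟩ := Algebra.IsInvariant.exists_smul_of_under_eq R A H P₀ P (by
    rw [Ideal.under_def, Ideal.under_def, hP₀𝔭, hP𝔭])
  refine le_trans ?_ hi
  intro σ hσ x
  have h1 : σ • h • x - h • x ∈ h • P₀ := hσ (h • x)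
  have h2 : σ • h • x - h • x = h • (σ • x - x) := by
    rw [smul_sub, smul_smul, smul_smul, hcomm σ h]
  rw [h2] at h1
  exact Ideal.smul_mem_pointwise_smul_iff.mp h1

end Main

section Span

variable (R : Type u) [CommRing R] (A : Type v) [CommRing A] [Algebra R A]

/-- products of elements of the `B j` lie in the span of the products of basis elements -/
theorem prod_mem_span_prod_basis {n : ℕ} (B : Fin n → Subalgebra R A)
    {ι : Fin n → Type*} [∀ j, Fintype (ι j)] (bs : ∀ j, Module.Basis (ι j) R (B j))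
    (β : ∀ j, B j) :
    ∏ j, (β j : A) ∈ Submodule.span R
      (Set.range fun m : (∀ j, ι j) => ∏ j, ((bs j (m j) : B j) : A)) := by
  classical
  have hβ : ∀ j, (β j : A) = ∑ k, (bs j).repr (β j) k • ((bs j k : B j) : A) := by
    intro j
    have h1 := congrArg (B j).val ((bs j).sum_repr (β j))
    rw [map_sum] at h1
    simp only [map_smul] at h1
    exact h1.symm
  have h2 : ∏ j, (β j : A) = ∑ m : (∀ j, ι j), (∏ j, (bs j).repr (β j) (m j)) •
      ∏ j, ((bs j (m j) : B j) : A) := by
    rw [Finset.prod_congr rfl (fun j _ => hβ j), Fintype.prod_sum]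
    apply Finset.sum_congr rfl
    intro m _
    rw [Finset.prod_smul]
  rw [h2]
  apply Submodule.sum_mem
  intro m _
  exact Submodule.smul_mem _ _ (Submodule.subset_span ⟨m, rfl⟩)

/-- the subalgebra generated by the `B j` lies in the span of the products of basis elements -/
theorem mem_span_prod_basis_of_mem_iSup {n : ℕ} (B : Fin n → Subalgebra R A)
    {ι : Fin n → Type*} [∀ j, Fintype (ι j)] (bs : ∀ j, Module.Basis (ι j) R (B j))
    (x : A) (hx : x ∈ (⨆ j, B j : Subalgebra R A)) :
    x ∈ Submodule.span R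
      (Set.range fun m : (∀ j, ι j) => ∏ j, ((bs j (m j) : B j) : A)) := by
  classical
  set P := Submodule.span R
    (Set.range fun m : (∀ j, ι j) => ∏ j, ((bs j (m j) : B j) : A)) with hP
  have h_one : (1 : A) ∈ P := by
    have h1 := prod_mem_span_prod_basis R A B bs (fun j => 1)
    simpa using h1
  have h_gen : ∀ m m' : (∀ j, ι j), (∏ j, ((bs j (m j) : B j) : A)) *
      (∏ j, ((bs j (m' j) : B j) : A)) ∈ P := by
    intro m m'
    rw [← Finset.prod_mul_distrib]
    exact prod_mem_span_prod_basis R A B bs (fun j => bs j (m j) * bs j (m' j))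
  have h_mul : ∀ x y, x ∈ P → y ∈ P → x * y ∈ P := by
    intro x y hx hy
    have h1 : P * P ≤ P := by
      rw [hP, Submodule.span_mul_span, Submodule.span_le]
      rintro _ ⟨_, ⟨m, rfl⟩, _, ⟨m', rfl⟩, rfl⟩
      exact h_gen m m'
    exact h1 (Submodule.mul_mem_mul hx hy)
  have hle : (⨆ j, B j : Subalgebra R A) ≤ P.toSubalgebra h_one h_mul := by
    apply iSup_le
    intro j β hβ
    rw [Submodule.mem_toSubalgebra]
    have h1 := prod_mem_span_prod_basis R A B bs
      (Function.update (fun l => (1 : B l)) j ⟨β, hβ⟩)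
    rw [Fintype.prod_eq_single j (fun l hl => by rw [Function.update_of_ne hl]; rfl),
      Function.update_self] at h1
    exact h1
  exact Submodule.mem_toSubalgebra.mp (hle hx)

end Span

section Reflexive

variable (R : Type u) [CommRing R] [IsDomain R] [IsNoetherianRing R] [IsIntegrallyClosed R]
  (A : Type v) [CommRing A] [IsDomain A] [Algebra R A]

/-- subalgebras `B j`, free over the Noetherian normal domain `R`, with the product of the ranks at
most the rank of `A`, which generate `A` at the primes of height `≤ 1`, generate `A`. -/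
theorem iSup_eq_top_of_codim_one (hinj : Function.Injective (algebraMap R A))
    {n : ℕ} (B : Fin n → Subalgebra R A)
    {ι : Fin n → Type*} [∀ j, Fintype (ι j)] (bs : ∀ j, Module.Basis (ι j) R (B j))
    (hcard : ∏ j, Fintype.card (ι j) ≤ Module.finrank R A)
    (hcod : ∀ 𝔭 : Ideal R, 𝔭.IsPrime → 𝔭.height ≤ 1 → ∃ s : R, s ∉ 𝔭 ∧
      ∀ a : A, algebraMap R A s * a ∈ (⨆ j, B j : Subalgebra R A)) :
    (⨆ j, B j : Subalgebra R A) = ⊤ := by
  classical
  set e : (∀ j, ι j) → A := fun m => ∏ j, ((bs j (m j) : B j) : A) with he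
  set P := Submodule.span R (Set.range e) with hP
  have hSP : ∀ x ∈ (⨆ j, B j : Subalgebra R A), x ∈ P := fun x hx =>
    mem_span_prod_basis_of_mem_iSup R A B bs x hx
  have hPS : ∀ x ∈ P, x ∈ (⨆ j, B j : Subalgebra R A) := by
    intro x hx
    have h1 : P ≤ Subalgebra.toSubmodule (⨆ j, B j : Subalgebra R A) := by
      rw [hP, Submodule.span_le]
      rintro _ ⟨m, rfl⟩
      exact Subalgebra.prod_mem _ (fun j _ => (le_iSup B j) (bs j (m j)).2)
    exact h1 hx
  -- generic generation
  obtain ⟨s₀, hs₀, hs₀'⟩ := hcod ⊥ Ideal.isPrime_bot (by rw [Ideal.height_bot]; exact bot_le)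
  have hs₀ne : s₀ ≠ 0 := fun h => hs₀ (by rw [h]; exact zero_mem _)
  -- ranks
  have hrank : Module.finrank R P = Module.finrank R A := by
    have h1 := rank_quotient_add_rank_of_isDomain P
    have h2 : Module.rank R (A ⧸ P) = 0 := by
      rw [rank_eq_zero_iff]
      intro x
      obtain ⟨a, rfl⟩ := Submodule.Quotient.mk_surjective P x
      refine ⟨s₀, hs₀ne, ?_⟩
      rw [← Submodule.Quotient.mk_smul, Submodule.Quotient.mk_eq_zero, Algebra.smul_def]
      exact hSP _ (hs₀' a)
    rw [h2, zero_add] at h1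
    unfold Module.finrank
    rw [h1]
  have hli : LinearIndependent R e := by
    rw [linearIndependent_iff_card_le_finrank_span, Fintype.card_pi]
    change _ ≤ Module.finrank R P
    rw [hrank]
    exact hcard
  rw [eq_top_iff]
  intro a _
  obtain ⟨c, hc⟩ := (Submodule.mem_span_range_iff_exists_fun R).mp (hSP _ (hs₀' a))
  have hdvd : ∀ m, s₀ ∣ c m := by
    intro m
    apply dvd_of_forall_height_one R (c m) s₀ hs₀ne
    intro 𝔭 h𝔭 hht
    haveI := h𝔭
    obtain ⟨s, hs, hs'⟩ := hcod 𝔭 h𝔭 hht.le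
    refine ⟨s, hs, ?_⟩
    obtain ⟨c', hc'⟩ := (Submodule.mem_span_range_iff_exists_fun R).mp (hSP _ (hs' a))
    have h1 : ∑ m, (s₀ * c' m - s * c m) • e m = 0 := by
      simp_rw [sub_smul, mul_smul]
      rw [Finset.sum_sub_distrib, ← Finset.smul_sum, ← Finset.smul_sum, hc, hc',
        Algebra.smul_def, Algebra.smul_def]
      ring
    have h2 := Fintype.linearIndependent_iff.mp hli _ h1 m
    rw [sub_eq_zero] at h2
    exact ⟨c' m, h2.symm⟩
  choose h hh using hdvd
  have h3 : algebraMap R A s₀ * a = algebraMap R A s₀ * ∑ m, h m • e m := by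
    rw [← hc, Finset.mul_sum]
    apply Finset.sum_congr rfl
    intro m _
    rw [hh m, mul_smul, Algebra.smul_def s₀]
  have h4 : algebraMap R A s₀ ≠ 0 := by
    rw [Ne, map_eq_zero_iff _ hinj]
    exact hs₀ne
  have h5 : a = ∑ m, h m • e m := mul_left_cancel₀ h4 h3
  rw [h5]
  apply hPS
  exact Submodule.sum_mem _ (fun m _ => Submodule.smul_mem _ _ (Submodule.subset_span ⟨m, rfl⟩))

end Reflexive

section Final

variable (p : ℕ) [Fact p.Prime] (R : Type u) [CommRing R] [IsRegularLocalRing R]
  (A : Type v) [CommRing A] [IsDomain A] [IsIntegrallyClosed A]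
  [Algebra R A] [Module.Finite R A]
  (H : Type w) [Group H] [Finite H] [MulSemiringAction H A] [SMulCommClass H R A]
  [FaithfulSMul H A]

/-- **Generation by the invariant subalgebras of the complements.** -/
theorem iSup_fixedSub_perp_eq_top
    (hinj : Function.Injective (algebraMap R A))
    (hfix : ∀ a : A, (∀ h : H, h • a = a) → a ∈ Set.range (algebraMap R A))
    (hcomm : ∀ g h : H, g * h = h * g)
    (n : ℕ) (hcard : Nat.card H = p ^ n) (Gi : Fin n → Subgroup H)
    (hGi : ∀ i, Nat.card (Gi i) = p) (hsup : (⨆ i, Gi i) = ⊤)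
    (hMR3 : ∀ P : Ideal A, P.IsPrime → P.height = 1 → P.inertia H ≠ ⊥ → ∃ i, P.inertia H = Gi i)
    (hMR4 : ∀ i, Module.Free R (FixedPoints.subalgebra R A ↥(perp n Gi i))) :
    (⨆ i, FixedPoints.subalgebra R A ↥(perp n Gi i) : Subalgebra R A) = ⊤ := by
  haveI : IsDomain R := Groth.Agent.Lead.RegLocal.isDomain_of_isRegularLocalRing R
  haveI : IsIntegrallyClosed R :=
    Groth.Agent.Helper4.RegNormal.isIntegrallyClosed_of_isRegularLocalRing R
  haveI : FaithfulSMul R A := (faithfulSMul_iff_algebraMap_injective R A).mpr hinj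
  haveI : Algebra.IsInvariant R A H := ⟨hfix⟩
  haveI : IsGaloisGroup H R A := ⟨inferInstance, inferInstance, inferInstance⟩
  have hrkA : Module.finrank R A = p ^ n := by
    rw [← IsGaloisGroup.card_eq_finrank' H R A, hcard]
  rcases Nat.eq_zero_or_pos n with hn | hn
  · subst hn
    rw [pow_zero] at hcard
    haveI : Subsingleton H := (Nat.card_eq_one_iff_unique.mp hcard).1
    rw [eq_top_iff]
    intro a _
    obtain ⟨r, rfl⟩ := hfix a (fun h => by rw [Subsingleton.elim h 1, one_smul])
    exact Subalgebra.algebraMap_mem _ r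
  · haveI : ∀ j, Module.Finite R (FixedPoints.subalgebra R A ↥(perp n Gi j)) := fun j =>
      Groth.Agent.Helper7.ZNPur.finite_fixedSub R A H (perp n Gi j)
    haveI := hMR4
    have hrk : ∀ j, Module.finrank R (FixedPoints.subalgebra R A ↥(perp n Gi j)) ≤ p := by
      intro j
      haveI : (perp n Gi j).Normal := normal_of_comm hcomm _
      haveI := faithful_quotient_fixedSub R A H (perp n Gi j)
      haveI : IsGaloisGroup (H ⧸ perp n Gi j) R (FixedPoints.subalgebra R A ↥(perp n Gi j)) :=
        ⟨inferInstance, inferInstance, inferInstance⟩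
      haveI : FaithfulSMul R (FixedPoints.subalgebra R A ↥(perp n Gi j)) :=
        (faithfulSMul_iff_algebraMap_injective _ _).mpr
          (fun x y hxy => hinj (congrArg Subtype.val hxy))
      rw [← IsGaloisGroup.card_eq_finrank' (H ⧸ perp n Gi j) R
        (FixedPoints.subalgebra R A ↥(perp n Gi j))]
      exact card_quotient_perp_le p n Gi hcomm hGi hsup j
    apply iSup_eq_top_of_codim_one R A hinj
      (fun j => FixedPoints.subalgebra R A ↥(perp n Gi j))
      (fun j => Module.Free.chooseBasis R (FixedPoints.subalgebra R A ↥(perp n Gi j)))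
    · rw [hrkA]
      calc ∏ j, Fintype.card (Module.Free.ChooseBasisIndex R
            (FixedPoints.subalgebra R A ↥(perp n Gi j)))
          = ∏ j, Module.finrank R (FixedPoints.subalgebra R A ↥(perp n Gi j)) := by
            apply Finset.prod_congr rfl
            intro j _
            exact (Module.finrank_eq_card_chooseBasisIndex R _).symm
        _ ≤ ∏ _j : Fin n, p := Finset.prod_le_prod (fun _ _ => Nat.zero_le _) (fun j _ => hrk j)
        _ = p ^ n := by simp
    · intro 𝔭 h𝔭 hht
      haveI := h𝔭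
      exact exists_mul_mem_of_height_le_one p R A H hinj hfix hcomm n hn hcard Gi hGi hsup hMR3
        𝔭 hht

end Final

end Groth.Agent.Helper7.WqGen
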