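import Mathlib
import Groth.Agent.Helper7.WqInvB

set_option autoImplicit false
set_option linter.style.haveILetI false
set_option linter.unusedSectionVars false
set_option linter.unusedVariables false
set_option maxHeartbeats 800000

namespace Groth.Agent.Helper7.WqInv

open IsLocalRing

universe u v w

theorem main
    (p : ℕ) [Fact p.Prime] (A : Type u) [CommRing A] [IsRegularLocalRing A] [CharP A p]
    [IsAdicComplete (IsLocalRing.maximalIdeal A) A] (hdim : 2 ≤ ringKrullDim A)
    (k : Type v) [Field k] [Algebra k A]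
    (hk : Function.Surjective (IsLocalRing.residue A ∘ algebraMap k A))
    (G : Type w) [Group G] [Finite G] [MulSemiringAction G A] (hcard : Nat.card G = p)
    (hGk : ∀ (σ : G) (c : k), σ • algebraMap k A c = algebraMap k A c)
    (hram : ∀ P : Ideal A, P.IsPrime → P ≠ IsLocalRing.maximalIdeal A → P.inertia G = ⊥) :
    IsNoetherianRing (FixedPoints.subring A G) ∧ Module.Finite (FixedPoints.subring A G) A ∧
      IsIntegrallyClosed (FixedPoints.subring A G) ∧
      ringKrullDim (FixedPoints.subring A G) = ringKrullDim A ∧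
      IsAdicComplete (Ideal.comap (FixedPoints.subring A G).subtype (IsLocalRing.maximalIdeal A))
        (FixedPoints.subring A G) ∧
      ¬ IsRegularLocalRing (FixedPoints.subring A G) := by
  classical
  haveI : Fintype G := Fintype.ofFinite G
  have hpG : IsPGroup p G := IsPGroup.of_card (n := 1) (by rw [hcard, pow_one])
  have hres := smul_sub_mem (A := A) (G := G) hk hGk
  obtain ⟨n, hn⟩ : ∃ n : ℕ, ringKrullDim A = n :=
    ⟨(maximalIdeal A).spanFinrank, IsRegularLocalRing.spanFinrank_maximalIdeal.symm⟩
  obtain ⟨u, hu⟩ := Groth.Agent.S15792.result p A G hpG hres n hn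
  have hu1 : Ideal.span (Set.range u) = maximalIdeal A := by simpa using hu (fun _ => 1)
  set x : Fin n → A := fun i => ∏ σ : G, σ • u i with hxdef
  have hxfix : ∀ (τ : G) i, τ • x i = x i := fun τ i => smul_prod_eq τ (u i)
  have hum : ∀ i, u i ∈ maximalIdeal A := fun i => by
    rw [← hu1]; exact Ideal.subset_span ⟨i, rfl⟩
  have hxm : ∀ i, x i ∈ maximalIdeal A := fun i => by
    have : (1 : G) • u i ∈ maximalIdeal A := by rw [one_smul]; exact hum i
    exact Ideal.prod_mem (f := fun σ : G => σ • u i) _ (Finset.mem_univ (1 : G)) this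
  have hx : (Ideal.span (Set.range x)).radical = maximalIdeal A := by
    apply le_antisymm
    · rw [Ideal.IsPrime.radical_le_iff (inferInstance : (maximalIdeal A).IsPrime), Ideal.span_le]
      rintro _ ⟨i, rfl⟩
      exact hxm i
    · exact (Groth.Agent.S15790.result A G n u hu1).mpr
        (fun τ => by rw [hu τ]; exact Ideal.le_radical)
  obtain ⟨φ, hφ⟩ := Groth.Agent.Helper7.PSEval.exists_algHom_X (k := k) (maximalIdeal A) x hxm
  -- φ lands in the invariants
  have hφfix : ∀ (σ : G) (r : MvPowerSeries (Fin n) k), σ • φ r = φ r := by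
    intro σ r
    let σA : A →ₐ[k] A :=
      { MulSemiringAction.toRingHom G A σ with commutes' := fun c => hGk σ c }
    have h1 : σA.comp φ = φ := by
      haveI : IsHausdorff (maximalIdeal A) A := inferInstance
      apply algHom_ext_of_isHausdorff (maximalIdeal A)
      · intro i
        rw [AlgHom.comp_apply, hφ i]
        exact hxfix σ i
      · intro i
        rw [AlgHom.comp_apply, hφ i]
        show σ • x i ∈ maximalIdeal A
        rw [hxfix σ i]
        exact hxm i
    exact AlgHom.congr_fun h1 r
  letI algPA : Algebra (MvPowerSeries (Fin n) k) A := φ.toRingHom.toAlgebra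
  haveI : IsScalarTower k (MvPowerSeries (Fin n) k) A :=
    IsScalarTower.of_algebraMap_eq (fun c => (φ.commutes c).symm)
  have hφ' : ∀ i, algebraMap (MvPowerSeries (Fin n) k) A (MvPowerSeries.X i) = x i := hφ
  haveI hfinPA : Module.Finite (MvPowerSeries (Fin n) k) A :=
    Groth.Agent.Helper7.SopFree.finite_P hk x hx hφ'
  haveI hregP : IsRegularLocalRing (MvPowerSeries (Fin n) k) :=
    Groth.Agent.Helper5.MvPSDim.isRegular k n
  haveI : IsNoetherianRing (MvPowerSeries (Fin n) k) := inferInstance
  let ψ : MvPowerSeries (Fin n) k →+* (FixedPoints.subring A G) :=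
    φ.toRingHom.codRestrict (FixedPoints.subring A G) (fun r σ => hφfix σ r)
  letI algPB : Algebra (MvPowerSeries (Fin n) k) (FixedPoints.subring A G) := ψ.toAlgebra
  haveI : IsScalarTower (MvPowerSeries (Fin n) k) (FixedPoints.subring A G) A :=
    IsScalarTower.of_algebraMap_eq (fun r => rfl)
  haveI : IsNoetherian (MvPowerSeries (Fin n) k) A := isNoetherian_of_isNoetherianRing_of_finite _ A
  haveI hfinPB : Module.Finite (MvPowerSeries (Fin n) k) (FixedPoints.subring A G) :=
    Module.Finite.of_injective
      ((Algebra.linearMap (FixedPoints.subring A G) A).restrictScalars (MvPowerSeries (Fin n) k))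
      Subtype.val_injective
  haveI hNB : IsNoetherianRing (FixedPoints.subring A G) :=
    Algebra.FiniteType.isNoetherianRing (MvPowerSeries (Fin n) k) (FixedPoints.subring A G)
  haveI hfinBA : Module.Finite (FixedPoints.subring A G) A :=
    Module.Finite.of_restrictScalars_finite (MvPowerSeries (Fin n) k) (FixedPoints.subring A G) A
  haveI hdomA : IsDomain A := Groth.Agent.Lead.RegLocal.isDomain_of_isRegularLocalRing A
  haveI hicA : IsIntegrallyClosed A :=
    Groth.Agent.Helper4.RegNormal.isIntegrallyClosed_of_isRegularLocalRing A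
  -- integrally closed
  have hicB : IsIntegrallyClosed (FixedPoints.subring A G) := by
    refine Groth.Agent.Helper7.WqNrm.isIntegrallyClosed_of_sub (FixedPoints.subring A G).subtype
      Subtype.val_injective ?_
    intro t β1 β2 hβ2 h
    have hβ2' : (β2 : A) ≠ 0 := fun h0 => hβ2 (Subtype.ext h0)
    have ht : ∀ σ : G, σ • t = t := by
      intro σ
      have h1 : σ • t * (β2 : A) = t * (β2 : A) := by
        have e1 : σ • (β2 : A) = β2 := β2.2 σ
        have e2 : σ • (β1 : A) = β1 := β1.2 σ
        have h' : t * (β2 : A) = β1 := h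
        calc σ • t * (β2 : A) = σ • t * σ • (β2 : A) := by rw [e1]
          _ = σ • (t * (β2 : A)) := (smul_mul' σ t _).symm
          _ = t * (β2 : A) := by rw [h', e2]
      exact mul_right_cancel₀ hβ2' h1
    exact ⟨⟨t, ht⟩, rfl⟩
  -- dimension
  haveI hint : Algebra.IsIntegral (FixedPoints.subring A G) A := Algebra.IsIntegral.of_finite _ A
  have hdimB : ringKrullDim (FixedPoints.subring A G) = ringKrullDim A :=
    (ringKrullDim_eq_of_isIntegral_of_injective'' (R := FixedPoints.subring A G) (S := A)
      Subtype.val_injective).symm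
  -- completeness
  have hxB : ∀ i, x i ∈ FixedPoints.subring A G := fun i σ => hxfix σ i
  have hcomplB : IsAdicComplete (Ideal.comap (FixedPoints.subring A G).subtype
      (IsLocalRing.maximalIdeal A)) (FixedPoints.subring A G) := by
    haveI : IsAdicComplete (maximalIdeal (MvPowerSeries (Fin n) k)) (MvPowerSeries (Fin n) k) := by
      rw [Groth.Agent.Helper5.MvPSDim.maximalIdeal_eq k n]
      infer_instance
    haveI h1 : IsAdicComplete (maximalIdeal (MvPowerSeries (Fin n) k)) (FixedPoints.subring A G) :=
      isAdicComplete_of_finite''' _ _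
    have h2 : IsAdicComplete ((maximalIdeal (MvPowerSeries (Fin n) k)).map
        (algebraMap (MvPowerSeries (Fin n) k) (FixedPoints.subring A G))) (FixedPoints.subring A G) :=
      (IsAdicComplete.map_algebraMap_iff (I := maximalIdeal (MvPowerSeries (Fin n) k))
        (M := (FixedPoints.subring A G)) (S := (FixedPoints.subring A G))).mpr h1
    set I : Ideal (FixedPoints.subring A G) := (maximalIdeal (MvPowerSeries (Fin n) k)).map
        (algebraMap (MvPowerSeries (Fin n) k) (FixedPoints.subring A G)) with hI
    set J : Ideal (FixedPoints.subring A G) := Ideal.comap (FixedPoints.subring A G).subtype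
      (IsLocalRing.maximalIdeal A) with hJ
    have hIgen : I = Ideal.span (Set.range fun i => (⟨x i, hxB i⟩ : FixedPoints.subring A G)) := by
      rw [hI, Groth.Agent.Helper5.MvPSDim.maximalIdeal_eq k n, Ideal.map_span, ← Set.range_comp]
      congr 2
      funext i
      apply Subtype.ext
      exact hφ i
    have hIJ : I ≤ J := by
      rw [hIgen, Ideal.span_le]
      rintro _ ⟨i, rfl⟩
      exact hxm i
    have hJrad : J ≤ I.radical := by
      rw [Ideal.radical_eq_sInf]
      refine le_sInf ?_
      rintro 𝔮 ⟨hI𝔮, h𝔮⟩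
      haveI := h𝔮
      obtain ⟨𝔔, h𝔔p, h𝔔⟩ := Ideal.exists_ideal_over_prime_of_isIntegral_of_isDomain
        (R := FixedPoints.subring A G) (S := A) 𝔮 (by
          rw [(RingHom.injective_iff_ker_eq_bot _).mp
            (show Function.Injective (algebraMap (FixedPoints.subring A G) A) from
              Subtype.val_injective)]
          exact bot_le)
      have hx𝔔 : Ideal.span (Set.range x) ≤ 𝔔 := by
        rw [Ideal.span_le]
        rintro _ ⟨i, rfl⟩
        have : (⟨x i, hxB i⟩ : FixedPoints.subring A G) ∈ 𝔮 :=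
          hI𝔮 (hIgen ▸ Ideal.subset_span ⟨i, rfl⟩)
        rw [← h𝔔] at this
        exact this
      have hm𝔔 : maximalIdeal A ≤ 𝔔 := by
        rw [← hx, Ideal.IsPrime.radical_le_iff h𝔔p]
        exact hx𝔔
      rw [← h𝔔]
      exact Ideal.comap_mono hm𝔔
    obtain ⟨N, hN⟩ := Ideal.exists_pow_le_of_le_radical_of_fg hJrad (IsNoetherian.noetherian J)
    exact isAdicComplete_of_le_of_pow_le I J _ hIJ N hN
  refine ⟨hNB, hfinBA, hicB, hdimB, hcomplB, ?_⟩
  intro hregB
  refine Groth.Agent.S15794.result p A hdim k hk G hcard hGk hram ?_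
  haveI hCM : LocCoh.IsCohenMacaulayLocalRing A :=
    { supportDim_eq_depth := Groth.Agent.Helper2.RegCM.cm_of_isRegularLocalRing A }
  haveI hloc : IsLocalHom (algebraMap (FixedPoints.subring A G) A) := by
    refine ⟨fun b hb => ?_⟩
    obtain ⟨a, ha⟩ := hb.exists_right_inv
    have hbA : (algebraMap (FixedPoints.subring A G) A b) = (b : A) := rfl
    rw [hbA] at ha
    have hfix : ∀ σ : G, σ • a = a := by
      intro σ
      have e1 : σ • (b : A) = b := b.2 σ
      have h1 : (b : A) * σ • a = 1 := by
        calc (b : A) * σ • a = σ • (b : A) * σ • a := by rw [e1]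
          _ = σ • ((b : A) * a) := (smul_mul' σ _ _).symm
          _ = 1 := by rw [ha, smul_one]
      calc σ • a = (a * (b : A)) * σ • a := by rw [mul_comm a, ha, one_mul]
        _ = a * ((b : A) * σ • a) := by ring
        _ = a := by rw [h1, mul_one]
    exact IsUnit.of_mul_eq_one (⟨a, hfix⟩ : FixedPoints.subring A G) (Subtype.ext ha)
  apply Groth.Agent.S2082.result (R := FixedPoints.subring A G) (S := A)
  -- dimension of the closed fibre
  set 𝔞 : Ideal A := (maximalIdeal (FixedPoints.subring A G)).map
    (algebraMap (FixedPoints.subring A G) A) with h𝔞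
  have hx𝔞 : Ideal.span (Set.range x) ≤ 𝔞 := by
    rw [Ideal.span_le]
    rintro _ ⟨i, rfl⟩
    have hmem : (⟨x i, hxB i⟩ : FixedPoints.subring A G) ∈ maximalIdeal (FixedPoints.subring A G) := by
      rw [mem_maximalIdeal, mem_nonunits_iff]
      intro hunit
      have := hunit.map (algebraMap (FixedPoints.subring A G) A)
      exact (mem_nonunits_iff.mp ((mem_maximalIdeal _).mp (hxm i))) this
    exact Ideal.mem_map_of_mem _ hmem
  have h𝔞le : 𝔞 ≤ maximalIdeal A := by
    rw [h𝔞, Ideal.map_le_iff_le_comap]
    intro b hb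
    rw [Ideal.mem_comap, mem_maximalIdeal, mem_nonunits_iff]
    intro hunit
    exact (mem_nonunits_iff.mp ((mem_maximalIdeal _).mp hb)) (isUnit_of_map_unit _ _ hunit)
  haveI : Nontrivial (A ⧸ 𝔞) :=
    Ideal.Quotient.nontrivial_iff.mpr (fun h => (maximalIdeal.isMaximal A).ne_top (top_le_iff.mp (h ▸ h𝔞le)))
  have hzero : ringKrullDim (A ⧸ 𝔞) = 0 := by
    rw [← ringKrullDimZero_iff_ringKrullDim_eq_zero, Ring.krullDimLE_zero_iff]
    intro 𝔓 h𝔓
    haveI := h𝔓
    have hcm : 𝔓.comap (Ideal.Quotient.mk 𝔞) = maximalIdeal A := by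
      apply le_antisymm (IsLocalRing.le_maximalIdeal (Ideal.IsPrime.ne_top inferInstance))
      rw [← hx, Ideal.IsPrime.radical_le_iff (Ideal.comap_isPrime _ _)]
      refine hx𝔞.trans ?_
      intro a ha
      rw [Ideal.mem_comap, Ideal.Quotient.eq_zero_iff_mem.mpr ha]
      exact 𝔓.zero_mem
    have : 𝔓 = (maximalIdeal A).map (Ideal.Quotient.mk 𝔞) := by
      rw [← hcm, Ideal.map_comap_of_surjective _ Ideal.Quotient.mk_surjective]
    rw [this]
    exact Ideal.IsMaximal.map_of_surjective_of_ker_le Ideal.Quotient.mk_surjective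
      (by rw [Ideal.mk_ker]; exact h𝔞le)
  rw [hzero, add_zero, hdimB]

end Groth.Agent.Helper7.WqInv
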