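import Mathlib
import Groth.Agent.Helper7.WqKerB

set_option autoImplicit false

namespace Groth.Agent.Helper7.WqKer

open Polynomial

section Theta

/-- the key computation in a ring `Λ` where `α` is invertible -/
theorem key_rel {Λ : Type*} [CommRing Λ] (p : ℕ) (hp : p.Prime) (hpΛ : ((p : ℕ) : Λ) = 0)
    (α w Z U m ai x0 xi : Λ) (hw : α * w = 1)
    (hZ : Z ^ p = (m * α * ai) ^ (p - 1) * Z + (α ^ p * xi - ai ^ p * x0))
    (hU : U ^ p = (m * α) ^ (p - 1) * U + x0) :
    (w * (Z + ai * U)) ^ p = (m * ai) ^ (p - 1) * (w * (Z + ai * U)) + xi := by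
  obtain ⟨q, hq⟩ : ∃ q, p = q + 1 := ⟨p - 1, by have := hp.pos; omega⟩
  have hwp : α ^ p * w ^ p = 1 := by rw [← mul_pow, hw, one_pow]
  have hw1 : w = α ^ (p - 1) * w ^ p := by
    subst hq
    rw [Nat.add_sub_cancel]
    calc w = w * (α * w) ^ q := by rw [hw, one_pow, mul_one]
      _ = α ^ q * w ^ (q + 1) := by ring
  rw [mul_pow, add_pow_p p hp hpΛ, mul_pow, hZ, hU]
  subst hq
  rw [Nat.add_sub_cancel] at hw1 ⊢
  have e1 : (m * ai) ^ q * (w * (Z + ai * U)) = (m * ai) ^ q * (α ^ q * w ^ (q + 1)) * (Z + ai * U) := by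
    rw [← hw1]; ring
  have e2 : xi = (α ^ (q + 1) * w ^ (q + 1)) * xi := by rw [hwp, one_mul]
  rw [e1]
  conv_rhs => rw [e2]
  ring

end Theta

section Main

variable {R : Type*} [CommRing R] (p : ℕ) {n : ℕ} (a : Fin n → R) (μ : R) (x : Fin n → R)
  (i0 : Fin n)

/-- the localization `L[1/a_{i0}]` -/
abbrev Lam : Type _ := Localization.Away (algebraMap R (LL p a μ x i0) (a i0))

/-- the inverse of `a_{i0}` -/
noncomputable def wL : Lam p a μ x i0 :=
  IsLocalization.Away.invSelf (algebraMap R (LL p a μ x i0) (a i0))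

theorem alpha_mul_w : algebraMap R (Lam p a μ x i0) (a i0) * wL p a μ x i0 = 1 := by
  rw [IsScalarTower.algebraMap_apply R (LL p a μ x i0) (Lam p a μ x i0)]
  exact IsLocalization.Away.mul_invSelf _

/-- the image of `U` -/
noncomputable def UΛ : Lam p a μ x i0 :=
  algebraMap (LL p a μ x i0) (Lam p a μ x i0) (AdjoinRoot.root (gL p a μ x i0))

/-- the image of `Z_j` -/
noncomputable def ZΛ (j : JJ i0) : Lam p a μ x i0 :=
  algebraMap (LL p a μ x i0) (Lam p a μ x i0) (AdjoinRoot.of (gL p a μ x i0) (ZB p a μ x i0 j))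

theorem UΛ_rel :
    UΛ p a μ x i0 ^ p = algebraMap R (Lam p a μ x i0) ((μ * a i0) ^ (p - 1)) * UΛ p a μ x i0 +
      algebraMap R (Lam p a μ x i0) (x i0) := by
  have h := congrArg (algebraMap (LL p a μ x i0) (Lam p a μ x i0)) (UL_rel p a μ x i0)
  rw [map_pow, map_add, map_mul, ← IsScalarTower.algebraMap_apply,
    ← IsScalarTower.algebraMap_apply] at h
  exact h

theorem ZΛ_rel (j : JJ i0) :
    ZΛ p a μ x i0 j ^ p =
      algebraMap R (Lam p a μ x i0) ((μ * a i0 * a j.1) ^ (p - 1)) * ZΛ p a μ x i0 j +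
        algebraMap R (Lam p a μ x i0) (a i0 ^ p * x j.1 - a j.1 ^ p * x i0) := by
  let f : BB p a μ x i0 →+* Lam p a μ x i0 :=
    (algebraMap (LL p a μ x i0) (Lam p a μ x i0)).comp (AdjoinRoot.of (gL p a μ x i0))
  have hf : ∀ c : R, f (algebraMap R (BB p a μ x i0) c) = algebraMap R (Lam p a μ x i0) c := by
    intro c
    show algebraMap (LL p a μ x i0) (Lam p a μ x i0)
      (AdjoinRoot.of (gL p a μ x i0) (algebraMap R (BB p a μ x i0) c)) = _
    rw [← AdjoinRoot.algebraMap_eq, ← IsScalarTower.algebraMap_apply R (BB p a μ x i0),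
      ← IsScalarTower.algebraMap_apply R (LL p a μ x i0)]
  have h := congrArg f (ZB_rel p a μ x i0 j)
  rw [map_pow, map_add, map_mul, hf, hf] at h
  exact h

/-- the images of the `u_i` -/
noncomputable def thetaVal (i : Fin n) : Lam p a μ x i0 :=
  if h : i = i0 then UΛ p a μ x i0
  else wL p a μ x i0 * (ZΛ p a μ x i0 ⟨i, h⟩ + algebraMap R (Lam p a μ x i0) (a i) * UΛ p a μ x i0)

/-- the map on the polynomial ring -/
noncomputable def theta' : MvPolynomial (Fin n) R →ₐ[R] Lam p a μ x i0 :=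
  MvPolynomial.aeval (thetaVal p a μ x i0)

variable (hp : p.Prime) (hpR : ((p : ℕ) : R) = 0)

include hp hpR in
theorem theta'_rel (i : Fin n) : theta' p a μ x i0 (relA p a μ x i) = 0 := by
  have hpΛ : ((p : ℕ) : Lam p a μ x i0) = 0 := by
    rw [← map_natCast (algebraMap R (Lam p a μ x i0)), hpR, map_zero]
  unfold relA theta'
  rw [map_sub, map_sub, map_mul, map_pow, MvPolynomial.aeval_X, MvPolynomial.aeval_C,
    MvPolynomial.aeval_C]
  unfold thetaVal
  by_cases h : i = i0
  · subst h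
    rw [dif_pos rfl, UΛ_rel]
    ring
  · rw [dif_neg h]
    have hk := key_rel p hp hpΛ (algebraMap R (Lam p a μ x i0) (a i0)) (wL p a μ x i0)
      (ZΛ p a μ x i0 ⟨i, h⟩) (UΛ p a μ x i0) (algebraMap R (Lam p a μ x i0) μ)
      (algebraMap R (Lam p a μ x i0) (a i)) (algebraMap R (Lam p a μ x i0) (x i0))
      (algebraMap R (Lam p a μ x i0) (x i)) (alpha_mul_w p a μ x i0)
      (by
        have := ZΛ_rel p a μ x i0 ⟨i, h⟩
        simp only [map_mul, map_pow, map_sub] at this
        exact this)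
      (by
        have := UΛ_rel p a μ x i0
        simp only [map_mul, map_pow] at this
        exact this)
    rw [hk]
    simp only [map_mul, map_pow]
    ring

/-- the map `θ : A → L[1/a_{i0}]` -/
noncomputable def theta : AA p a μ x →ₐ[R] Lam p a μ x i0 :=
  Ideal.Quotient.liftₐ (IA p a μ x) (theta' p a μ x i0) (by
    intro f hf
    unfold IA at hf
    induction hf using Submodule.span_induction with
    | mem y hy =>
      obtain ⟨i, rfl⟩ := hy
      exact theta'_rel p a μ x i0 hp hpR i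
    | zero => exact map_zero _
    | add y z _ _ hy hz => rw [map_add, hy, hz, add_zero]
    | smul c y _ hy => rw [smul_eq_mul, map_mul, hy, mul_zero])

theorem theta_uu (i : Fin n) :
    theta p a μ x i0 hp hpR (uu p a μ x i) = thetaVal p a μ x i0 i := by
  unfold theta uu
  rw [← Ideal.Quotient.mkₐ_eq_mk R, Ideal.Quotient.liftₐ_apply]
  simp [theta']

theorem theta_zz (j : JJ i0) :
    theta p a μ x i0 hp hpR (zz p a μ x i0 j) = ZΛ p a μ x i0 j := by
  unfold zz
  rw [map_sub, map_mul, map_mul, AlgHom.commutes, AlgHom.commutes, theta_uu, theta_uu]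
  unfold thetaVal
  rw [dif_neg j.2, dif_pos rfl]
  have := alpha_mul_w p a μ x i0
  linear_combination (ZΛ p a μ x i0 ⟨j.1, j.2⟩ +
    algebraMap R (Lam p a μ x i0) (a j.1) * UΛ p a μ x i0) * this

end Main

section Final

variable {R : Type*} [CommRing R] [IsDomain R] (p : ℕ) {n : ℕ} (a : Fin n → R) (μ : R)
  (x : Fin n → R) (i0 : Fin n)
variable (hp : p.Prime) (hpR : ((p : ℕ) : R) = 0) (ha0 : a i0 ≠ 0)

include hp in
theorem free_LL : Module.Free R (LL p a μ x i0) := by
  haveI : Module.Free R (BB p a μ x i0) :=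
    free_quot (gB p a μ x i0) (gB_monic p a μ x i0 hp.two_le)
  haveI : Module.Free (BB p a μ x i0) (LL p a μ x i0) :=
    (gL_monic p a μ x i0 hp.two_le).free_adjoinRoot
  exact Module.Free.trans (R := R) (S := BB p a μ x i0) (M := LL p a μ x i0)

include hp ha0 in
theorem iota_injective :
    Function.Injective (algebraMap (LL p a μ x i0) (Lam p a μ x i0)) := by
  haveI := free_LL p a μ x i0 hp
  apply IsLocalization.injective (M := Submonoid.powers (algebraMap R (LL p a μ x i0) (a i0)))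
  rw [Submonoid.powers_le, mem_nonZeroDivisors_iff_right]
  intro y hy
  rw [mul_comm, ← Algebra.smul_def] at hy
  exact (smul_eq_zero.mp hy).resolve_left ha0

include hp hpR ha0 in
theorem ker_eq :
    RingHom.ker (MvPolynomial.aeval (zz p a μ x i0) : MvPolynomial (JJ i0) R →ₐ[R] AA p a μ x) =
      Ideal.span (Set.range (relB p a μ x i0)) := by
  apply le_antisymm
  · intro F hF
    rw [RingHom.mem_ker] at hF
    have hcomp : (theta p a μ x i0 hp hpR).comp (MvPolynomial.aeval (zz p a μ x i0)) =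
        ((IsScalarTower.toAlgHom R (LL p a μ x i0) (Lam p a μ x i0)).comp
          (IsScalarTower.toAlgHom R (BB p a μ x i0) (LL p a μ x i0))).comp
          (Ideal.Quotient.mkₐ R (ciIdeal (gB p a μ x i0))) := by
      apply MvPolynomial.algHom_ext
      intro j
      rw [AlgHom.comp_apply, MvPolynomial.aeval_X, theta_zz]
      rfl
    have h1 : theta p a μ x i0 hp hpR (MvPolynomial.aeval (zz p a μ x i0) F) =
        algebraMap (LL p a μ x i0) (Lam p a μ x i0)
          (AdjoinRoot.of (gL p a μ x i0) (Ideal.Quotient.mk (ciIdeal (gB p a μ x i0)) F)) :=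
      congrArg (fun φ : MvPolynomial (JJ i0) R →ₐ[R] Lam p a μ x i0 => φ F) hcomp
    rw [hF, map_zero] at h1
    have h2 := iota_injective p a μ x i0 hp ha0 (h1.symm.trans (map_zero _).symm)
    have h3 := of_injective p a μ x i0 hp.two_le (h2.trans (map_zero _).symm)
    rw [← ciIdeal_gB]
    exact Ideal.Quotient.eq_zero_iff_mem.mp h3
  · rw [Ideal.span_le]
    rintro _ ⟨j, rfl⟩
    exact zz_rel p a μ x i0 hp hpR j

end Final

end Groth.Agent.Helper7.WqKer
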