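import Mathlib
import Groth.Agent.Helper7.WqMinA

set_option autoImplicit false

namespace Groth.Agent.Helper7.WqMin

open Polynomial

section Gen

variable {R : Type*} [CommRing R] {A : Type*} [CommRing A] [Algebra R A]
variable {ι : Type*} (u : ι → A) (a : ι → R) (i0 : ι)

/-- the minor elements -/
def zel (j : {j : ι // j ≠ i0}) : A :=
  algebraMap R A (a i0) * u j.1 - algebraMap R A (a j.1) * u i0

/-- the subalgebra generated by the minor elements -/
def Aci : Subalgebra R A := Algebra.adjoin R (Set.range (zel u a i0))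

theorem exists_poly (hgen : Algebra.adjoin R (Set.range u) = ⊤) (t : A) :
    ∃ (N : ℕ) (f : (Aci u a i0)[X]), algebraMap R A (a i0) ^ N * t = aeval (u i0) f := by
  classical
  have ht : t ∈ Algebra.adjoin R (Set.range u) := by rw [hgen]; trivial
  induction ht using Algebra.adjoin_induction with
  | mem x hx =>
    obtain ⟨j, rfl⟩ := hx
    by_cases hj : j = i0
    · subst hj
      exact ⟨0, X, by simp⟩
    · refine ⟨1, C (⟨zel u a i0 ⟨j, hj⟩, Algebra.subset_adjoin ⟨⟨j, hj⟩, rfl⟩⟩ : Aci u a i0) +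
        C (algebraMap R (Aci u a i0) (a j)) * X, ?_⟩
      rw [map_add, map_mul, aeval_C, aeval_C, aeval_X, pow_one]
      show _ = zel u a i0 ⟨j, hj⟩ + algebraMap R A (a j) * u i0
      unfold zel
      ring
  | algebraMap r =>
    refine ⟨0, C (algebraMap R (Aci u a i0) r), ?_⟩
    rw [aeval_C, pow_zero, one_mul]
    rfl
  | add x y _ _ hx hy =>
    obtain ⟨N1, f1, h1⟩ := hx
    obtain ⟨N2, f2, h2⟩ := hy
    refine ⟨N1 + N2, C (algebraMap R (Aci u a i0) (a i0 ^ N2)) * f1 +
      C (algebraMap R (Aci u a i0) (a i0 ^ N1)) * f2, ?_⟩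
    rw [map_add, map_mul, map_mul, aeval_C, aeval_C, ← h1, ← h2]
    show _ = algebraMap R A (a i0 ^ N2) * _ + algebraMap R A (a i0 ^ N1) * _
    rw [map_pow, map_pow]
    ring
  | mul x y _ _ hx hy =>
    obtain ⟨N1, f1, h1⟩ := hx
    obtain ⟨N2, f2, h2⟩ := hy
    refine ⟨N1 + N2, f1 * f2, ?_⟩
    rw [map_mul, ← h1, ← h2]
    ring

end Gen

section Main

variable {R : Type*} [CommRing R] {A : Type*} [CommRing A] [Algebra R A]
variable {ι : Type*} (u : ι → A) (a : ι → R) (i0 : ι)

theorem main_abs (p : ℕ) (hp : 2 ≤ p)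
    (hunit : ∀ m : ℕ, 0 < m → m < p → IsUnit ((m : ℕ) : R))
    (hgen : Algebra.adjoin R (Set.range u) = ⊤) (μ x : R)
    (hrel : u i0 ^ p = algebraMap R A ((μ * a i0) ^ (p - 1)) * u i0 + algebraMap R A x)
    (σ : A ≃ₐ[R] A) (hσ : ∀ i, σ (u i) = u i + algebraMap R A (μ * a i))
    (t : A) (ht : σ t = t) :
    ∃ N : ℕ, algebraMap R A (μ * a i0) ^ N * t ∈ Aci u a i0 := by
  classical
  -- σ fixes Aci
  have hfix : ∀ r ∈ Aci u a i0, σ r = r := by
    intro r hr
    have hle : Aci u a i0 ≤ AlgHom.equalizer (σ : A →ₐ[R] A) (AlgHom.id R A) := by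
      apply Algebra.adjoin_le
      rintro _ ⟨j, rfl⟩
      show σ (zel u a i0 j) = zel u a i0 j
      unfold zel
      rw [map_sub, map_mul, map_mul, AlgEquiv.commutes, AlgEquiv.commutes, hσ, hσ, map_mul, map_mul]
      ring
    exact hle hr
  let σ' : A →ₐ[Aci u a i0] A :=
    { (σ : A →ₐ[R] A).toRingHom with
      commutes' := fun r => hfix r.1 r.2 }
  have hσ'app : ∀ y, σ' y = σ y := fun _ => rfl
  let c : Aci u a i0 := algebraMap R (Aci u a i0) (μ * a i0)
  have hc : algebraMap (Aci u a i0) A c = algebraMap R A (μ * a i0) := rfl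
  have hσ' : σ' (u i0) = u i0 + algebraMap (Aci u a i0) A c := by
    rw [hσ'app, hσ, hc]
  have hunit' : ∀ m : ℕ, 0 < m → m < p → IsUnit ((m : ℕ) : Aci u a i0) := by
    intro m h0 hm
    have := (hunit m h0 hm).map (algebraMap R (Aci u a i0))
    rwa [map_natCast] at this
  obtain ⟨N, f, hf⟩ := exists_poly u a i0 hgen t
  -- the monic relation
  let g : (Aci u a i0)[X] := X ^ p - (C (c ^ (p - 1)) * X + C (algebraMap R (Aci u a i0) x))
  have hgdeg : (C (c ^ (p - 1)) * X + C (algebraMap R (Aci u a i0) x) : (Aci u a i0)[X]).degree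
      < ((p : ℕ) : WithBot ℕ) := by
    refine lt_of_le_of_lt (degree_linear_le) ?_
    exact_mod_cast (by omega : 1 < p)
  have hgmonic : g.Monic := monic_X_pow_sub hgdeg
  have hgroot : aeval (u i0) g = 0 := by
    show aeval (u i0) (X ^ p - (C (c ^ (p - 1)) * X + C (algebraMap R (Aci u a i0) x))) = 0
    rw [map_sub, map_add, map_mul, map_pow, aeval_X, aeval_C, aeval_C, map_pow, hc, hrel, map_pow]
    show _ - (_ + algebraMap R A x) = 0
    ring
  rcases subsingleton_or_nontrivial A with hA | hA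
  · exact ⟨0, by rw [Subsingleton.elim (_ * t) 0]; exact zero_mem _⟩
  have hgne : g ≠ 1 := by
    intro h1
    have h2 : g.coeff p = (1 : (Aci u a i0)[X]).coeff p := by rw [h1]
    have h3 : g.coeff p = 1 := by
      show (X ^ p - (C (c ^ (p - 1)) * X + C (algebraMap R (Aci u a i0) x))).coeff p = 1
      rw [coeff_sub, coeff_X_pow, if_pos rfl, coeff_eq_zero_of_degree_lt hgdeg, sub_zero]
    rw [h3, coeff_one, if_neg (by omega)] at h2
    exact one_ne_zero h2
  have hgnat : g.natDegree = p := by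
    show (X ^ p - (C (c ^ (p - 1)) * X + C (algebraMap R (Aci u a i0) x))).natDegree = p
    rw [natDegree_sub_eq_left_of_natDegree_lt, natDegree_X_pow]
    rw [natDegree_X_pow]
    exact lt_of_le_of_lt natDegree_linear_le (by omega)
  let f' := f %ₘ g
  have hf'deg : f'.natDegree ≤ p - 1 := by
    have := natDegree_modByMonic_lt f hgmonic hgne
    rw [hgnat] at this
    show (f %ₘ g).natDegree ≤ p - 1
    omega
  have hf'val : aeval (u i0) f' = algebraMap R A (a i0) ^ N * t := by
    rw [hf]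
    exact aeval_modByMonic_eq_self_of_root hgroot
  have hf'fix : σ' (aeval (u i0) f') = aeval (u i0) f' := by
    rw [hf'val, hσ'app, map_mul, ht, map_pow, AlgEquiv.commutes]
  obtain ⟨N', s, hs⟩ := fixed_mem p hunit' σ' (u i0) c hσ' (p - 1) (by omega) f' hf'deg hf'fix
  refine ⟨N' + N, ?_⟩
  have : algebraMap R A (μ * a i0) ^ (N' + N) * t =
      algebraMap R A (μ ^ N) * (algebraMap (Aci u a i0) A c ^ N' * aeval (u i0) f') := by
    rw [hf'val, hc, map_pow, map_mul]
    ring
  rw [this, hs]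
  exact Subalgebra.mul_mem _ (Subalgebra.algebraMap_mem _ _) s.2

end Main

end Groth.Agent.Helper7.WqMin
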