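import Mathlib
import Groth.Agent.Helper7.WqRegB
import Groth.Agent.Lead.RegLocal

set_option autoImplicit false

namespace Groth.Agent.Helper7.WqReg

open Polynomial Groth.Agent.Helper7.WqKer

section Regular

variable {R : Type*} [CommRing R] [IsLocalRing R] [IsDomain R] (p : ℕ) {n : ℕ}
  (c x : Fin n → R)
variable (hp2 : 2 ≤ p) (hc : ∀ i, c i ∈ IsLocalRing.maximalIdeal R)
  (hx : IsLocalRing.maximalIdeal R = Ideal.span (Set.range x))

include hp2 hx in
theorem nontrivial_AC : Nontrivial (AC p c x) := by
  by_contra h
  rw [not_nontrivial_iff_subsingleton] at h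
  exact (nC_isMaximal p c x hp2 hx).ne_top (Subsingleton.elim _ _)

include hp2 hx in
theorem algebraMap_injective_AC : Function.Injective (algebraMap R (AC p c x)) := by
  haveI := free_AC p c x hp2
  haveI := nontrivial_AC p c x hp2 hx
  rw [injective_iff_map_eq_zero]
  intro r hr
  have h1 : r • (1 : AC p c x) = 0 := by
    rw [← hr]
    exact (Algebra.algebraMap_eq_smul_one r).symm
  exact (smul_eq_zero.mp h1).resolve_right one_ne_zero

include hp2 hx in
theorem ringKrullDim_AC : ringKrullDim (AC p c x) = ringKrullDim R := by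
  haveI := finite_AC p c x hp2
  haveI : Algebra.IsIntegral R (AC p c x) := Algebra.IsIntegral.of_finite R (AC p c x)
  exact Groth.Agent.Helper5.IntegralDim.ringKrullDim_eq_of_isIntegral_of_injective
    (algebraMap_injective_AC p c x hp2 hx)

include hp2 hc hx in
theorem isRegularLocalRing_AC [IsNoetherianRing R] (hdim : (n : WithBot ℕ∞) ≤ ringKrullDim R) :
    IsRegularLocalRing (AC p c x) := by
  letI := isLocalRing_AC p c x hp2 hc hx
  apply IsRegularLocalRing.of_spanFinrank_maximalIdeal_le
  rw [ringKrullDim_AC p c x hp2 hx]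
  refine le_trans ?_ hdim
  have h1 : (IsLocalRing.maximalIdeal (AC p c x)).spanFinrank ≤ n := by
    rw [maximalIdeal_AC p c x hp2 hc hx, nC_eq_span]
    refine le_trans (Submodule.spanFinrank_span_le_ncard_of_finite (Set.finite_range _)) ?_
    rw [← Set.image_univ]
    refine le_trans (Set.ncard_image_le Set.finite_univ) ?_
    simp
  exact_mod_cast h1

include hp2 hc hx in
theorem isDomain_AC [IsNoetherianRing R] (hdim : (n : WithBot ℕ∞) ≤ ringKrullDim R) :
    IsDomain (AC p c x) := by
  haveI := isRegularLocalRing_AC p c x hp2 hc hx hdim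
  exact Groth.Agent.Lead.RegLocal.isDomain_of_isRegularLocalRing _

end Regular

end Groth.Agent.Helper7.WqReg
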