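import Mathlib
import Groth.Agent.Helper7.WqNrmA
import Groth.Agent.Helper7.WqKerC
import Groth.Agent.Helper7.WqRegC
import Groth.Agent.Helper7.WqAutB
import Groth.Agent.Helper7.WqAutC
import Groth.Agent.Helper7.WqMinB
import Groth.Agent.Helper4.RegNormal

set_option autoImplicit false

namespace Groth.Agent.Helper7.WqNrm

open Polynomial Groth.Agent.Helper7.WqKer Groth.Agent.Helper7.WqReg Groth.Agent.Helper7.WqAut
  Groth.Agent.Helper7.WqMin

section Main

variable {R : Type*} [CommRing R] [IsDomain R] (p : ℕ) [hp : Fact p.Prime] [CharP R p] {n : ℕ}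
  (a : Fin n → R) (μ : R) (x : Fin n → R) (i0 : Fin n)

/-- the map `B → A` -/
noncomputable def jBA : BB p a μ x i0 →ₐ[R] AA p a μ x :=
  Ideal.Quotient.liftₐ (ciIdeal (gB p a μ x i0)) (MvPolynomial.aeval (zz p a μ x i0)) (by
    intro f hf
    rw [ciIdeal_gB] at hf
    have hpR : ((p : ℕ) : R) = 0 := CharP.cast_eq_zero R p
    induction hf using Submodule.span_induction with
    | mem y hy =>
      obtain ⟨j, rfl⟩ := hy
      exact zz_rel p a μ x i0 hp.out hpR j
    | zero => exact map_zero _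
    | add y z _ _ hy hz => rw [map_add, hy, hz, add_zero]
    | smul c y _ hy => rw [smul_eq_mul, map_mul, hy, mul_zero])

theorem jBA_mk (F : MvPolynomial (JJ i0) R) :
    jBA p a μ x i0 (Ideal.Quotient.mk _ F) = MvPolynomial.aeval (zz p a μ x i0) F := rfl

theorem jBA_injective (ha0 : a i0 ≠ 0) : Function.Injective (jBA p a μ x i0) := by
  rw [injective_iff_map_eq_zero]
  intro b hb
  obtain ⟨F, rfl⟩ := Ideal.Quotient.mk_surjective b
  rw [jBA_mk] at hb
  have hpR : ((p : ℕ) : R) = 0 := CharP.cast_eq_zero R p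
  have hmem : F ∈ RingHom.ker (MvPolynomial.aeval (zz p a μ x i0) :
      MvPolynomial (JJ i0) R →ₐ[R] AA p a μ x) := hb
  rw [ker_eq p a μ x i0 hp.out hpR ha0, ← ciIdeal_gB] at hmem
  exact Ideal.Quotient.eq_zero_iff_mem.mpr hmem

theorem range_jBA :
    (jBA p a μ x i0).range = Algebra.adjoin R (Set.range (zz p a μ x i0)) := by
  rw [Algebra.adjoin_range_eq_range_aeval]
  apply le_antisymm
  · rintro _ ⟨b, rfl⟩
    obtain ⟨F, rfl⟩ := Ideal.Quotient.mk_surjective b
    exact ⟨F, rfl⟩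
  · rintro _ ⟨F, rfl⟩
    exact ⟨Ideal.Quotient.mk _ F, rfl⟩

end Main

section Final

variable {R : Type*} [CommRing R] [IsDomain R] [IsLocalRing R] [IsNoetherianRing R] (p : ℕ)
  [hp : Fact p.Prime] [CharP R p] {n : ℕ} (a : Fin n → R) (μ : R) (x : Fin n → R) (i0 : Fin n)
variable (ha0 : a i0 ≠ 0) (hμ : μ ≠ 0) (ham : ∀ i, a i ∈ IsLocalRing.maximalIdeal R)
  (hx : IsLocalRing.maximalIdeal R = Ideal.span (Set.range x))
  (hdim : (n : WithBot ℕ∞) ≤ ringKrullDim R)

theorem gB_natDegree (j : JJ i0) : (gB p a μ x i0 j).natDegree = p := by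
  have hp2 := hp.out.two_le
  unfold gB
  rw [natDegree_sub_eq_left_of_natDegree_lt, natDegree_X_pow]
  rw [natDegree_X_pow]
  exact lt_of_le_of_lt natDegree_linear_le (by omega)

theorem free_BB : Module.Free R (BB p a μ x i0) :=
  free_quot (gB p a μ x i0) (gB_monic p a μ x i0 hp.out.two_le)

theorem finrank_BB : Module.finrank R (BB p a μ x i0) = p ^ (n - 1) := by
  rw [finrank_quot (gB p a μ x i0) (gB_monic p a μ x i0 hp.out.two_le)]
  simp only [gB_natDegree, Finset.prod_const, Finset.card_univ]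
  congr 1
  rw [Fintype.card_subtype_compl, Fintype.card_fin, Fintype.card_subtype_eq]

include ha0 hμ ham hx hdim in
theorem main_BB :
    IsDomain (BB p a μ x i0) ∧
      IsIntegrallyClosed (Localization.Away (algebraMap R (BB p a μ x i0) (μ * a i0))) := by
  have hp2 := hp.out.two_le
  have hc : ∀ i, (μ * a i) ^ (p - 1) ∈ IsLocalRing.maximalIdeal R := fun i =>
    Ideal.pow_mem_of_mem _ (Ideal.mul_mem_left _ _ (ham i)) _ (by omega)
  haveI hreg : IsRegularLocalRing (AA p a μ x) :=
    isRegularLocalRing_AC p (fun i => (μ * a i) ^ (p - 1)) x hp2 hc hx hdim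
  haveI hdomA : IsDomain (AA p a μ x) :=
    Groth.Agent.Lead.RegLocal.isDomain_of_isRegularLocalRing _
  haveI hicA : IsIntegrallyClosed (AA p a μ x) :=
    Groth.Agent.Helper4.RegNormal.isIntegrallyClosed_of_isRegularLocalRing _
  have hAinj : Function.Injective (algebraMap R (AA p a μ x)) :=
    algebraMap_injective_AC p (fun i => (μ * a i) ^ (p - 1)) x hp2 hx
  have hj := jBA_injective p a μ x i0 ha0
  haveI hdomB : IsDomain (BB p a μ x i0) := hj.isDomain (jBA p a μ x i0).toRingHom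
  refine ⟨hdomB, ?_⟩
  -- the automorphism
  let σ : AA p a μ x ≃ₐ[R] AA p a μ x := tauEquiv p (fun i => μ * a i) x (fun _ => 1)
  have hσu : ∀ i, σ (uu p a μ x i) = uu p a μ x i + algebraMap R (AA p a μ x) (μ * a i) := by
    intro i
    have h := tauEquiv_uS p (fun i => μ * a i) x (fun _ => 1) i
    unfold tauVal at h
    rw [map_one, one_mul] at h
    exact h
  have hσz : ∀ j, σ (zz p a μ x i0 j) = zz p a μ x i0 j := by
    intro j
    unfold zz
    rw [map_sub, map_mul, map_mul, AlgEquiv.commutes, AlgEquiv.commutes, hσu, hσu, map_mul,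
      map_mul]
    ring
  have hσj : ∀ b, σ (jBA p a μ x i0 b) = jBA p a μ x i0 b := by
    intro b
    have : ((σ : AA p a μ x →ₐ[R] AA p a μ x).comp (jBA p a μ x i0)) = jBA p a μ x i0 := by
      apply Ideal.Quotient.algHom_ext
      apply MvPolynomial.algHom_ext
      intro j
      show σ (jBA p a μ x i0 (Ideal.Quotient.mk _ (MvPolynomial.X j))) =
        jBA p a μ x i0 (Ideal.Quotient.mk _ (MvPolynomial.X j))
      rw [jBA_mk, MvPolynomial.aeval_X, hσz]
    exact congrArg (fun φ : BB p a μ x i0 →ₐ[R] AA p a μ x => φ b) this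
  have hfne : μ * a i0 ≠ 0 := mul_ne_zero hμ ha0
  have hf : algebraMap R (BB p a μ x i0) (μ * a i0) ≠ 0 := by
    intro h
    have h2 := congrArg (jBA p a μ x i0) h
    rw [AlgHom.commutes, map_zero] at h2
    exact hfne (hAinj (h2.trans (map_zero _).symm))
  have hP : ∀ t : AA p a μ x, σ t = t → ∃ (N : ℕ) (b : BB p a μ x i0),
      algebraMap R (AA p a μ x) (μ * a i0) ^ N * t = jBA p a μ x i0 b := by
    intro t ht
    have hgen : Algebra.adjoin R (Set.range (uu p a μ x)) = ⊤ :=
      adjoin_uC p (fun i => (μ * a i) ^ (p - 1)) x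
    obtain ⟨N, hN⟩ := main_abs (uu p a μ x) a i0 p hp2 (hunit_R p) hgen μ (x i0)
      (uu_rel p a μ x i0) σ hσu t ht
    have hN' : algebraMap R (AA p a μ x) (μ * a i0) ^ N * t ∈ (jBA p a μ x i0).range := by
      rw [range_jBA]
      exact hN
    obtain ⟨b, hb⟩ := hN'
    exact ⟨N, b, hb.symm⟩
  exact isIntegrallyClosed_away (jBA p a μ x i0) hj σ hσj (μ * a i0) hf hP

end Final

end Groth.Agent.Helper7.WqNrm
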