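import Mathlib
import Groth.Agent.Helper7.WqRegA

set_option autoImplicit false

namespace Groth.Agent.Helper7.WqOrt

open Polynomial PiTensorProduct Groth.Agent.Helper7.WqKer Groth.Agent.Helper7.WqReg
open scoped TensorProduct

section Coef

variable {R : Type*} [CommRing R]

/-- the coefficient of `root ^ M` in `AdjoinRoot g` -/
noncomputable def coefFun (g : R[X]) (hg : g.Monic) (M : ℕ) : AdjoinRoot g →ₗ[R] R :=
  if h : M < (AdjoinRoot.powerBasis' hg).dim then
    (AdjoinRoot.powerBasis' hg).basis.coord ⟨M, h⟩ else 0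

theorem coefFun_root_pow (g : R[X]) (hg : g.Monic) (M e : ℕ) (hM : M < g.natDegree)
    (he : e < g.natDegree) :
    coefFun g hg M (AdjoinRoot.root g ^ e) = if e = M then 1 else 0 := by
  have hd : (AdjoinRoot.powerBasis' hg).dim = g.natDegree := AdjoinRoot.powerBasis'_dim hg
  have hM' : M < (AdjoinRoot.powerBasis' hg).dim := by rw [hd]; exact hM
  have he' : e < (AdjoinRoot.powerBasis' hg).dim := by rw [hd]; exact he
  unfold coefFun
  rw [dif_pos hM']
  have h1 : AdjoinRoot.root g ^ e = (AdjoinRoot.powerBasis' hg).basis ⟨e, he'⟩ := by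
    rw [PowerBasis.basis_eq_pow, AdjoinRoot.powerBasis'_gen]
  rw [h1, Module.Basis.coord_apply, Module.Basis.repr_self, Finsupp.single_apply]
  by_cases h : e = M
  · subst h
    simp
  · rw [if_neg h, if_neg]
    intro h'
    exact h (congrArg Fin.val h')

end Coef

section Coord

variable {R : Type*} [CommRing R] (p : ℕ) {n : ℕ} (c x : Fin n → R)

/-- the algebra isomorphism `AC ≃ ⨂ AdjoinRoot` -/
noncomputable def toTT : AC p c x ≃ₐ[R] TT (gC p c x) :=
  (Ideal.quotientEquivAlgOfEq R (IC_eq p c x)).trans (quotEquiv (gC p c x))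

theorem toTT_uC (i : Fin n) : toTT p c x (uC p c x i) =
    singleAlgHom (R := R) (A := fun j => AdjoinRoot (gC p c x j)) i
      (AdjoinRoot.root (gC p c x i)) := by
  unfold toTT uC
  rw [AlgEquiv.trans_apply, Ideal.quotientEquivAlgOfEq_mk]
  show quotToT (gC p c x) (Ideal.Quotient.mk _ (MvPolynomial.X i)) = _
  rw [quotToT_mk, toT_X]

/-- coordinate functional from component functionals -/
noncomputable def coordFun (l : (j : Fin n) → AdjoinRoot (gC p c x j) →ₗ[R] R) :
    AC p c x →ₗ[R] R :=
  (PiTensorProduct.lift ((MultilinearMap.mkPiAlgebra R (Fin n) R).compLinearMap l)) ∘ₗ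
    (toTT p c x).toLinearMap

theorem coordFun_prod (l : (j : Fin n) → AdjoinRoot (gC p c x j) →ₗ[R] R) (e : Fin n → ℕ) :
    coordFun p c x l (∏ j, uC p c x j ^ e j) =
      ∏ j, l j (AdjoinRoot.root (gC p c x j) ^ e j) := by
  unfold coordFun
  rw [LinearMap.comp_apply, AlgEquiv.toLinearMap_apply, map_prod]
  have h1 : ∀ j, toTT p c x (uC p c x j ^ e j) =
      PiTensorProduct.tprod R (Pi.mulSingle j (AdjoinRoot.root (gC p c x j) ^ e j)) := by
    intro j
    rw [map_pow, toTT_uC, ← map_pow, singleAlgHom_apply]
    rfl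
  rw [Finset.prod_congr rfl (fun j _ => h1 j), ← tprod_prod, Finset.univ_prod_mulSingle,
    PiTensorProduct.lift.tprod]
  simp [MultilinearMap.compLinearMap_apply, MultilinearMap.mkPiAlgebra_apply]

variable (hp2 : 2 ≤ p)

/-- the coefficient of `u_m ^ M` in the monomial basis -/
noncomputable def lam (m : Fin n) (M : ℕ) : AC p c x →ₗ[R] R :=
  coordFun p c x (fun j => coefFun (gC p c x j) (gC_monic p c x hp2 j) (if j = m then M else 0))

theorem lam_prod [Nontrivial R] (m : Fin n) (M : ℕ) (hM : M < p) (e : Fin n → ℕ)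
    (he : ∀ j, e j < p) :
    lam p c x hp2 m M (∏ j, uC p c x j ^ e j) = if e = Pi.single m M then 1 else 0 := by
  unfold lam
  rw [coordFun_prod]
  have h1 : ∀ j, coefFun (gC p c x j) (gC_monic p c x hp2 j) (if j = m then M else 0)
      (AdjoinRoot.root (gC p c x j) ^ e j) = if e j = (Pi.single m M : Fin n → ℕ) j then 1 else 0 := by
    intro j
    have hd := gC_natDegree p c x hp2 j
    rw [coefFun_root_pow _ _ _ _ (by rw [hd]; split_ifs <;> omega) (by rw [hd]; exact he j)]
    by_cases hj : j = m
    · subst hj
      simp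
    · simp [hj]
  rw [Finset.prod_congr rfl (fun j _ => h1 j), Finset.prod_boole]
  by_cases h : e = Pi.single m M
  · rw [if_pos h, if_pos]
    intro j _
    rw [h]
  · rw [if_neg h, if_neg]
    intro h'
    apply h
    funext j
    exact h' j (Finset.mem_univ j)

/-- the linear form -/
noncomputable def zlin (β : Fin n → R) : AC p c x :=
  ∑ j, algebraMap R (AC p c x) (β j) * uC p c x j

theorem lam_zlin_pow [Nontrivial R] (β : Fin n → R) (m : Fin n) (M i : ℕ) (hM : M < p)
    (hi : i < p) :
    lam p c x hp2 m M (zlin p c x β ^ i) = if i = M then β m ^ M else 0 := by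
  classical
  unfold zlin
  rw [Finset.sum_pow_eq_sum_piAntidiag, map_sum]
  have hterm : ∀ k ∈ Finset.piAntidiag (Finset.univ : Finset (Fin n)) i,
      lam p c x hp2 m M ((Nat.multinomial Finset.univ k : AC p c x) *
        ∏ j, (algebraMap R (AC p c x) (β j) * uC p c x j) ^ k j) =
      if k = Pi.single m M then ((Nat.multinomial Finset.univ k : R) * ∏ j, β j ^ k j) else 0 := by
    intro k hk
    rw [Finset.mem_piAntidiag] at hk
    have hkp : ∀ j, k j < p := by
      intro j
      have h0 : k j ≤ Finset.univ.sum k := Finset.single_le_sum (f := k) (fun _ _ => Nat.zero_le _)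
        (Finset.mem_univ j)
      have h1 := hk.1
      omega
    have h2 : (Nat.multinomial Finset.univ k : AC p c x) *
        ∏ j, (algebraMap R (AC p c x) (β j) * uC p c x j) ^ k j =
        ((Nat.multinomial Finset.univ k : R) * ∏ j, β j ^ k j) • ∏ j, uC p c x j ^ k j := by
      have hs : ∀ (r : R) (y : AC p c x), r • y = algebraMap R (AC p c x) r * y :=
        fun r y => Algebra.smul_def r y
      rw [hs, map_mul, map_natCast, map_prod]
      simp only [mul_pow, Finset.prod_mul_distrib, map_pow]
      ring
    rw [h2, map_smul, lam_prod p c x hp2 m M hM k hkp, smul_eq_mul]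
    split_ifs <;> simp
  rw [Finset.sum_congr rfl hterm, Finset.sum_ite_eq']
  by_cases hiM : i = M
  · subst hiM
    rw [if_pos rfl, if_pos]
    · have hmult : Nat.multinomial Finset.univ (Pi.single m i : Fin n → ℕ) = 1 := by
        have hspec := Nat.multinomial_spec Finset.univ (Pi.single m i : Fin n → ℕ)
        have h3 : ∏ j, ((Pi.single m i : Fin n → ℕ) j).factorial = i.factorial := by
          rw [Finset.prod_eq_single m]
          · simp
          · intro j _ hj
            simp [hj]
          · intro h; exact absurd (Finset.mem_univ m) h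
        have h4 : ∑ j, (Pi.single m i : Fin n → ℕ) j = i := by
          rw [Finset.sum_eq_single m]
          · simp
          · intro j _ hj
            simp [hj]
          · intro h; exact absurd (Finset.mem_univ m) h
        rw [h3, h4] at hspec
        exact Nat.eq_of_mul_eq_mul_left (Nat.factorial_pos i) (by rw [hspec, mul_one])
      rw [hmult, Nat.cast_one, one_mul, Finset.prod_eq_single m]
      · simp
      · intro j _ hj
        simp [hj]
      · intro h; exact absurd (Finset.mem_univ m) h
    · rw [Finset.mem_piAntidiag]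
      refine ⟨?_, fun _ _ => Finset.mem_univ _⟩
      rw [Finset.sum_eq_single m]
      · simp
      · intro j _ hj
        simp [hj]
      · intro h; exact absurd (Finset.mem_univ m) h
  · rw [if_neg hiM, if_neg]
    intro hmem
    rw [Finset.mem_piAntidiag] at hmem
    apply hiM
    rw [← hmem.1, Finset.sum_eq_single m]
    · simp
    · intro j _ hj
      simp [hj]
    · intro h; exact absurd (Finset.mem_univ m) h

theorem lam_aeval [Nontrivial R] (β : Fin n → R) (m : Fin n) (M : ℕ) (hM : M < p) (g : R[X])
    (hg : g.natDegree ≤ M) :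
    lam p c x hp2 m M (Polynomial.aeval (zlin p c x β) g) = g.coeff M * β m ^ M := by
  rw [Polynomial.aeval_eq_sum_range' (Nat.lt_succ_of_le hg), map_sum]
  have hterm : ∀ i ∈ Finset.range (M + 1),
      lam p c x hp2 m M (g.coeff i • zlin p c x β ^ i) =
        if i = M then g.coeff M * β m ^ M else 0 := by
    intro i hi
    rw [Finset.mem_range] at hi
    rw [map_smul, lam_zlin_pow p c x hp2 β m M i hM (by omega), smul_eq_mul]
    split_ifs with h
    · rw [h]
    · rw [mul_zero]
  rw [Finset.sum_congr rfl hterm, Finset.sum_ite_eq']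
  rw [if_pos (Finset.mem_range.mpr (Nat.lt_succ_self M))]

end Coord

end Groth.Agent.Helper7.WqOrt
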