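import Mathlib
import Groth.Agent.Helper7.WqOrtA
import Groth.Agent.Helper7.WqMinA

set_option autoImplicit false

namespace Groth.Agent.Helper7.WqOrt

open Polynomial Groth.Agent.Helper7.WqKer Groth.Agent.Helper7.WqReg

section UFD

variable {R : Type*} [CommRing R] [IsDomain R] [UniqueFactorizationMonoid R]

/-- if `D ∣ c β_m ^ M` for all `m ∈ T` and no prime divides all `β_m`, then `D ∣ c` -/
theorem dvd_of_forall_dvd_mul_pow {ι : Type*} (T : Set ι) (β : ι → R) (M : ℕ)
    (hprime : ∀ π : R, Prime π → ∃ m ∈ T, ¬ π ∣ β m) :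
    ∀ D : R, D ≠ 0 → ∀ c : R, (∀ m ∈ T, D ∣ c * β m ^ M) → D ∣ c := by
  intro D
  refine UniqueFactorizationMonoid.induction_on_prime D ?_ ?_ ?_
  · intro h; exact absurd rfl h
  · intro u hu _ c _
    exact hu.dvd
  · intro D' π hD' hπ ih _ c hc
    obtain ⟨m₀, hm₀, hnd⟩ := hprime π hπ
    have h1 : π ∣ c * β m₀ ^ M := (Dvd.intro _ rfl).trans (hc m₀ hm₀)
    have h2 : π ∣ c := by
      rcases hπ.dvd_or_dvd h1 with h | h
      · exact h
      · exact absurd (hπ.dvd_of_dvd_pow h) hnd
    obtain ⟨c', rfl⟩ := h2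
    have h3 : ∀ m ∈ T, D' ∣ c' * β m ^ M := by
      intro m hm
      have := hc m hm
      rw [mul_assoc] at this
      exact (mul_dvd_mul_iff_left hπ.ne_zero).mp this
    exact mul_dvd_mul_left π (ih hD' c' h3)

end UFD

section Coeffs

variable {R : Type*} [CommRing R] [IsDomain R] [UniqueFactorizationMonoid R]
  (p : ℕ) {n : ℕ} (c x : Fin n → R) (hp2 : 2 ≤ p) (β : Fin n → R) (T : Set (Fin n))
  (hprime : ∀ π : R, Prime π → ∃ m ∈ T, ¬ π ∣ β m)

include hp2 hprime in
theorem top_coeff_dvd (D : R) (hD : D ≠ 0) (M : ℕ) (hM : M < p) (g : R[X])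
    (hg : g.natDegree ≤ M) (y : AC p c x)
    (h : Polynomial.aeval (zlin p c x β) g = algebraMap R (AC p c x) D * y) :
    D ∣ g.coeff M := by
  apply dvd_of_forall_dvd_mul_pow T β M hprime D hD
  intro m _
  have h1 := lam_aeval p c x hp2 β m M hM g hg
  have hs : ∀ (r : R) (y : AC p c x), r • y = algebraMap R (AC p c x) r * y :=
    fun r y => Algebra.smul_def r y
  rw [h, ← hs, map_smul, smul_eq_mul] at h1
  exact ⟨_, h1.symm⟩

include hp2 hprime in
theorem exists_eq_C_mul (D : R) (hD : D ≠ 0) (M : ℕ) (hM : M < p) :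
    ∀ (g : R[X]), g.natDegree ≤ M → ∀ y : AC p c x,
      Polynomial.aeval (zlin p c x β) g = algebraMap R (AC p c x) D * y →
      ∃ g' : R[X], g = C D * g' := by
  induction M with
  | zero =>
    intro g hg y h
    obtain ⟨q, hq⟩ := top_coeff_dvd p c x hp2 β T hprime D hD 0 hM g hg y h
    refine ⟨C q, ?_⟩
    rw [eq_C_of_natDegree_le_zero hg, hq, map_mul]
  | succ M ih =>
    intro g hg y h
    obtain ⟨q, hq⟩ := top_coeff_dvd p c x hp2 β T hprime D hD (M + 1) hM g hg y h
    let g₁ : R[X] := g - C (D * q) * X ^ (M + 1)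
    have hg₁ : g₁.natDegree ≤ M := by
      rw [natDegree_le_iff_coeff_eq_zero]
      intro N hN
      show (g - C (D * q) * X ^ (M + 1)).coeff N = 0
      rw [coeff_sub, coeff_C_mul, coeff_X_pow]
      rcases Nat.lt_or_ge (M + 1) N with h' | h'
      · rw [coeff_eq_zero_of_natDegree_lt (by omega), if_neg (by omega)]
        ring
      · have : N = M + 1 := by omega
        subst this
        rw [if_pos rfl, hq]
        ring
    have h₁ : Polynomial.aeval (zlin p c x β) g₁ = algebraMap R (AC p c x) D *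
        (y - algebraMap R (AC p c x) q * zlin p c x β ^ (M + 1)) := by
      show Polynomial.aeval (zlin p c x β) (g - C (D * q) * X ^ (M + 1)) = _
      rw [map_sub, h, map_mul, aeval_C, map_pow, aeval_X, map_mul]
      ring
    obtain ⟨g', hg'⟩ := ih (by omega) g₁ hg₁ _ h₁
    refine ⟨g' + C q * X ^ (M + 1), ?_⟩
    have : g = g₁ + C (D * q) * X ^ (M + 1) := by
      show g = g - C (D * q) * X ^ (M + 1) + C (D * q) * X ^ (M + 1)
      ring
    rw [this, hg', map_mul]
    ring

end Coeffs

section FwdDiff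

variable {S : Type*} [CommRing S] {A : Type*} [CommRing A] [Algebra S A]

/-- the forward difference of polynomials -/
noncomputable def fd (c : S) (f : S[X]) : S[X] := taylor c f - f

theorem fd_iterate (c : S) : ∀ (j : ℕ) (f : S[X]), f.natDegree ≤ j →
    (fd c)^[j] f = C ((j.factorial : S) * c ^ j * f.coeff j) := by
  intro j
  induction j with
  | zero =>
    intro f hf
    rw [Function.iterate_zero, id_eq, Nat.factorial_zero, Nat.cast_one, pow_zero, one_mul, one_mul]
    exact eq_C_of_natDegree_le_zero hf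
  | succ j ih =>
    intro f hf
    rw [Function.iterate_succ_apply, ih (fd c f) (WqMin.natDegree_taylor_sub_le c j f hf)]
    congr 1
    unfold fd
    rw [coeff_sub, WqMin.taylor_coeff_of_natDegree_le c j f hf, add_sub_cancel_left,
      Nat.factorial_succ, Nat.cast_mul, pow_succ]
    push_cast
    ring

variable (θ : A →ₐ[S] A) (z : A) (c : S) (hθ : θ z = z + algebraMap S A c)

/-- the difference operator on `A` -/
noncomputable def dl : A →ₗ[S] A := θ.toLinearMap - LinearMap.id

theorem dl_apply (t : A) : dl θ t = θ t - t := rfl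

include hθ in
theorem dl_aeval (f : S[X]) : dl θ (aeval z f) = aeval z (fd c f) := by
  rw [dl_apply]
  exact (WqMin.aeval_taylor_sub θ z c hθ f).symm

include hθ in
theorem dl_iterate_aeval (j : ℕ) (f : S[X]) :
    (dl θ)^[j] (aeval z f) = aeval z ((fd c)^[j] f) := by
  induction j generalizing f with
  | zero => rfl
  | succ j ih =>
    rw [Function.iterate_succ_apply, Function.iterate_succ_apply, dl_aeval θ z c hθ, ih]

include hθ in
theorem dl_iterate_pow (j : ℕ) :
    (dl θ)^[j] (z ^ j) = algebraMap S A ((j.factorial : S) * c ^ j) := by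
  have h1 : z ^ j = aeval z (X ^ j : S[X]) := by rw [map_pow, aeval_X]
  rw [h1, dl_iterate_aeval θ z c hθ, fd_iterate c j (X ^ j) (natDegree_X_pow_le j), aeval_C,
    coeff_X_pow, if_pos rfl, mul_one]

theorem dl_iterate_smul (j : ℕ) (r : S) (t : A) :
    (dl θ)^[j] (algebraMap S A r * t) = algebraMap S A r * (dl θ)^[j] t := by
  have h : ∀ t : A, algebraMap S A r * t = r • t := fun t => (Algebra.smul_def r t).symm
  rw [h, h]
  induction j generalizing t with
  | zero => rfl
  | succ j ih => rw [Function.iterate_succ_apply, map_smul, ih, ← Function.iterate_succ_apply]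

theorem dl_iterate_sub (j : ℕ) (t t' : A) :
    (dl θ)^[j] (t - t') = (dl θ)^[j] t - (dl θ)^[j] t' := by
  induction j generalizing t t' with
  | zero => rfl
  | succ j ih => rw [Function.iterate_succ_apply, map_sub, ih, ← Function.iterate_succ_apply,
      ← Function.iterate_succ_apply]

variable (p : ℕ) (hunit : ∀ m : ℕ, 0 < m → m < p → IsUnit ((m : ℕ) : S))
  (F : Subalgebra S A) (hzF : z ∈ F) (hθF : ∀ t ∈ F, θ t ∈ F)
  (hfix : ∀ t ∈ F, θ t = t → t ∈ Set.range (algebraMap S A))

include hunit in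
theorem factorial_isUnit (m : ℕ) (hm : m < p) : IsUnit ((m.factorial : ℕ) : S) := by
  induction m with
  | zero => simp
  | succ m ih =>
    rw [Nat.factorial_succ, Nat.cast_mul]
    exact (hunit (m + 1) (Nat.succ_pos m) hm).mul (ih (by omega))

include hθF in
theorem dl_mem (t : A) (ht : t ∈ F) : dl θ t ∈ F := by
  rw [dl_apply]
  exact F.sub_mem (hθF t ht) ht

include hθF in
theorem dl_iterate_mem (j : ℕ) (t : A) (ht : t ∈ F) : (dl θ)^[j] t ∈ F := by
  induction j generalizing t with
  | zero => exact ht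
  | succ j ih =>
    rw [Function.iterate_succ_apply]
    exact ih _ (dl_mem θ F hθF t ht)

include hθ hunit hzF hθF hfix in
theorem exists_pow_mul_eq_aeval (M : ℕ) (hM : M < p) :
    ∀ t ∈ F, (dl θ)^[M + 1] t = 0 →
      ∃ (N : ℕ) (g : S[X]), algebraMap S A (c ^ N) * t = aeval z g := by
  induction M with
  | zero =>
    intro t ht h0
    rw [Function.iterate_one, dl_apply, sub_eq_zero] at h0
    obtain ⟨r, hr⟩ := hfix t ht h0
    refine ⟨0, C r, ?_⟩
    rw [pow_zero, map_one, one_mul, aeval_C, hr]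
  | succ M ih =>
    intro t ht h0
    have hr'F := dl_iterate_mem θ F hθF (M + 1) t ht
    have hr'0 : θ ((dl θ)^[M + 1] t) = (dl θ)^[M + 1] t := by
      have : dl θ ((dl θ)^[M + 1] t) = 0 := by
        rw [← Function.iterate_succ_apply' (dl θ)]
        exact h0
      rw [dl_apply, sub_eq_zero] at this
      exact this
    obtain ⟨r, hr⟩ := hfix _ hr'F hr'0
    let w : S := ((M + 1).factorial : S) * c ^ (M + 1)
    let t' : A := algebraMap S A w * t - algebraMap S A r * z ^ (M + 1)
    have ht'F : t' ∈ F := by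
      refine F.sub_mem (F.mul_mem (F.algebraMap_mem _) ht) (F.mul_mem (F.algebraMap_mem _) ?_)
      exact F.pow_mem hzF _
    have ht'0 : (dl θ)^[M + 1] t' = 0 := by
      show (dl θ)^[M + 1] (algebraMap S A w * t - algebraMap S A r * z ^ (M + 1)) = 0
      rw [dl_iterate_sub, dl_iterate_smul, dl_iterate_smul, dl_iterate_pow θ z c hθ, ← hr]
      ring
    obtain ⟨N, g', hg'⟩ := ih (by omega) t' ht'F ht'0
    obtain ⟨v, hv⟩ := factorial_isUnit p hunit (M + 1) hM
    refine ⟨N + (M + 1), C (↑(v⁻¹) : S) * (g' + C (c ^ N * r) * X ^ (M + 1)), ?_⟩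
    have e1 : aeval z (C (↑(v⁻¹) : S) * (g' + C (c ^ N * r) * X ^ (M + 1))) =
        algebraMap S A ↑v⁻¹ * (algebraMap S A (c ^ N) *
          (algebraMap S A w * t - algebraMap S A r * z ^ (M + 1)) +
          algebraMap S A (c ^ N * r) * z ^ (M + 1)) := by
      rw [map_mul, aeval_C, map_add, ← hg', map_mul, aeval_C, aeval_X_pow]
    rw [e1]
    have hw : algebraMap S A w = algebraMap S A (v : S) * algebraMap S A (c ^ (M + 1)) := by
      rw [← map_mul, hv]
    have hvv : algebraMap S A (↑(v⁻¹) : S) * algebraMap S A (v : S) = 1 := by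
      rw [← map_mul, Units.inv_mul, map_one]
    rw [hw, pow_add, map_mul, map_mul]
    linear_combination (algebraMap S A (c ^ N) * algebraMap S A (c ^ (M + 1)) * t) * (-hvv)

end FwdDiff

end Groth.Agent.Helper7.WqOrt
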