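import Mathlib
import Groth.Agent.Helper7.WqOrtB
import Groth.Agent.Helper7.WqAutC

set_option autoImplicit false

namespace Groth.Agent.Helper7.WqOrt

open Polynomial Groth.Agent.Helper7.WqKer Groth.Agent.Helper7.WqReg Groth.Agent.Helper7.WqAut

section Ort

variable {R : Type*} [CommRing R] [IsDomain R] (p : ℕ) [hp : Fact p.Prime] [CharP R p] {n : ℕ}
  (b x : Fin n → R) (s : Fin n → ZMod p) (β : Fin n → R) (γ : R)
  (hβ : ∀ i, β i * b i = iota p (s i) * γ)
  (hβ0 : ∀ i, s i = 0 → β i = 0)

/-- the element `z_s` -/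
noncomputable abbrev zs : AS p b x := zlin p (fun i => b i ^ (p - 1)) x β

/-- the constant term of `f_s` -/
noncomputable def ee : R := ∑ i, β i ^ p * x i

/-- the polynomial `f_s` -/
noncomputable def fs : R[X] := X ^ p - C (γ ^ (p - 1)) * X - C (ee p x β)

include hβ in
theorem tau_zs (ν : Fin n → ZMod p) :
    tauEquiv p b x ν (zs p b x β) =
      zs p b x β + algebraMap R (AS p b x) (iota p (∑ i, ν i * s i) * γ) := by
  unfold zs zlin
  rw [map_sum]
  have h1 : ∀ i, tauEquiv p b x ν (algebraMap R (AS p b x) (β i) * uS p b x i) =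
      algebraMap R (AS p b x) (β i) * uS p b x i +
        algebraMap R (AS p b x) (iota p (ν i * s i) * γ) := by
    intro i
    rw [map_mul, AlgEquiv.commutes, tauEquiv_uS]
    unfold tauVal
    rw [mul_add, ← map_mul]
    congr 2
    rw [map_mul]
    linear_combination (iota p (ν i)) * hβ i
  rw [Finset.sum_congr rfl (fun i _ => h1 i), Finset.sum_add_distrib, ← map_sum, ← Finset.sum_mul,
    ← map_sum]

theorem sum_pow_p (S : Finset (Fin n)) (y : Fin n → AS p b x) :
    (∑ i ∈ S, y i) ^ p = ∑ i ∈ S, y i ^ p := by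
  classical
  induction S using Finset.induction_on with
  | empty =>
    rw [Finset.sum_empty, Finset.sum_empty, zero_pow hp.out.ne_zero]
  | insert a S ha ih =>
    rw [Finset.sum_insert ha, Finset.sum_insert ha, add_pow_p p hp.out (natCast_AS p b x), ih]

include hβ hβ0 in
theorem zs_pow :
    zs p b x β ^ p = algebraMap R (AS p b x) (γ ^ (p - 1)) * zs p b x β +
      algebraMap R (AS p b x) (ee p x β) := by
  obtain ⟨q, hq⟩ : ∃ q, p = q + 1 := ⟨p - 1, by have := hp.out.pos; omega⟩
  unfold zs zlin ee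
  rw [sum_pow_p, Finset.mul_sum, map_sum, ← Finset.sum_add_distrib]
  refine Finset.sum_congr rfl fun i _ => ?_
  rw [mul_pow, uC_rel]
  have key : β i ^ p * b i ^ (p - 1) = γ ^ (p - 1) * β i := by
    by_cases hs : s i = 0
    · rw [hβ0 i hs, zero_pow hp.out.ne_zero]; ring
    · have h1 : iota (R := R) p (s i) ^ (p - 1) = 1 := by
        rw [← map_pow, ZMod.pow_card_sub_one_eq_one hs, map_one]
      have h2 : β i ^ p * b i ^ (p - 1) = β i * (β i * b i) ^ (p - 1) := by
        rw [hq, Nat.add_sub_cancel, pow_succ, mul_pow]; ring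
      rw [h2, hβ i, mul_pow, h1, one_mul]; ring
  have key' := congrArg (algebraMap R (AS p b x)) key
  simp only [map_mul, map_pow] at key' ⊢
  linear_combination (uS p b x i) * key'

theorem fs_monic : (fs p x β γ).Monic := by
  unfold fs
  rw [sub_sub]
  apply monic_X_pow_sub
  refine lt_of_le_of_lt degree_linear_le ?_
  exact_mod_cast hp.out.one_lt

theorem fs_natDegree : (fs p x β γ).natDegree = p := by
  unfold fs
  rw [sub_sub, natDegree_sub_eq_left_of_natDegree_lt, natDegree_X_pow]
  rw [natDegree_X_pow]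
  exact lt_of_le_of_lt natDegree_linear_le hp.out.one_lt

include hβ hβ0 in
theorem aeval_fs : Polynomial.aeval (zs p b x β) (fs p x β γ) = 0 := by
  unfold fs
  rw [map_sub, map_sub, map_mul, map_pow, aeval_X, aeval_C, aeval_C, zs_pow p b x s β γ hβ hβ0]
  ring

variable [hdom : IsDomain (AS p b x)] (hinj : Function.Injective (algebraMap R (AS p b x)))
  (hγ : γ ≠ 0) (hs : s ≠ 0)

include hβ hinj hγ hs in
theorem eq_zero_of_aeval_eq_zero (r : R[X]) (hr : r.natDegree < p)
    (h0 : Polynomial.aeval (zs p b x β) r = 0) : r = 0 := by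
  obtain ⟨m₀, hm₀⟩ : ∃ m₀, s m₀ ≠ 0 := by
    by_contra hcon
    push Not at hcon
    exact hs (funext hcon)
  apply Polynomial.map_injective _ hinj
  rw [Polynomial.map_zero]
  apply eq_zero_of_natDegree_lt_card_of_eval_eq_zero (r.map (algebraMap R (AS p b x)))
    (f := fun j : ZMod p => zs p b x β + algebraMap R (AS p b x) (iota p j * γ))
  · intro j j' h
    have h1 := hinj (add_left_cancel h)
    have h2 := mul_right_cancel₀ hγ h1
    exact (iota (R := R) p).injective h2
  · intro j
    have hν : ∑ i, (Pi.single m₀ (j * (s m₀)⁻¹) : Fin n → ZMod p) i * s i = j := by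
      rw [Finset.sum_eq_single m₀]
      · rw [Pi.single_eq_same, mul_assoc, inv_mul_cancel₀ hm₀, mul_one]
      · intro i _ hi
        rw [Pi.single_eq_of_ne hi, zero_mul]
      · intro h; exact absurd (Finset.mem_univ m₀) h
    have h1 := tau_zs p b x s β γ hβ (Pi.single m₀ (j * (s m₀)⁻¹))
    rw [hν] at h1
    rw [Polynomial.eval_map_algebraMap, ← h1]
    have h2 : Polynomial.aeval (tauEquiv p b x (Pi.single m₀ (j * (s m₀)⁻¹)) (zs p b x β)) r =
        tauEquiv p b x (Pi.single m₀ (j * (s m₀)⁻¹)) (Polynomial.aeval (zs p b x β) r) :=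
      Polynomial.aeval_algHom_apply
        (tauEquiv p b x (Pi.single m₀ (j * (s m₀)⁻¹)) : AS p b x →ₐ[R] AS p b x) _ r
    rw [h2, h0, map_zero]
  · rw [ZMod.card]
    exact lt_of_le_of_lt natDegree_map_le hr

include hβ hβ0 hinj hγ hs in
theorem ker_aeval : RingHom.ker (Polynomial.aeval (zs p b x β) : R[X] →ₐ[R] AS p b x) =
    Ideal.span {fs p x β γ} := by
  apply le_antisymm
  · intro g hg
    rw [RingHom.mem_ker] at hg
    have hmon := fs_monic p x β γ
    have hne1 : fs p x β γ ≠ 1 := by
      intro h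
      have := fs_natDegree p x β γ
      rw [h, natDegree_one] at this
      exact hp.out.ne_zero this.symm
    have hr0 : g %ₘ fs p x β γ = 0 := by
      apply eq_zero_of_aeval_eq_zero p b x s β γ hβ hinj hγ hs
      · have := natDegree_modByMonic_lt g hmon hne1
        rwa [fs_natDegree] at this
      · rw [Polynomial.aeval_modByMonic_eq_self_of_root (aeval_fs p b x s β γ hβ hβ0), hg]
    rw [Ideal.mem_span_singleton]
    exact (Polynomial.modByMonic_eq_zero_iff_dvd hmon).mp hr0
  · rw [Ideal.span_le]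
    intro g hg
    rw [Set.mem_singleton_iff] at hg
    rw [hg]
    exact aeval_fs p b x s β γ hβ hβ0

end Ort

end Groth.Agent.Helper7.WqOrt
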