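import Mathlib
import Groth.Agent.Helper7.WqOrtC

set_option autoImplicit false

namespace Groth.Agent.Helper7.WqOrt

open Polynomial Groth.Agent.Helper7.WqKer Groth.Agent.Helper7.WqReg Groth.Agent.Helper7.WqAut

section Fix

variable {R : Type*} [CommRing R] [IsDomain R] (p : ℕ) [hp : Fact p.Prime] [CharP R p] {n : ℕ}
  (b x : Fin n → R) (s : Fin n → ZMod p) (β : Fin n → R) (γ : R)
  (hβ : ∀ i, β i * b i = iota p (s i) * γ)
  (hβ0 : ∀ i, s i = 0 → β i = 0)

/-- the invariants of `H_s` -/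
noncomputable def FS : Subalgebra R (AS p b x) where
  carrier := {t | ∀ ν : Fin n → ZMod p, ∑ i, ν i * s i = 0 → tauEquiv p b x ν t = t}
  mul_mem' := by
    intro a c ha hc ν hν
    rw [map_mul, ha ν hν, hc ν hν]
  add_mem' := by
    intro a c ha hc ν hν
    rw [map_add, ha ν hν, hc ν hν]
  algebraMap_mem' := by
    intro r ν _
    exact AlgEquiv.commutes _ r

theorem mem_FS (t : AS p b x) :
    t ∈ FS p b x s ↔ ∀ ν : Fin n → ZMod p, ∑ i, ν i * s i = 0 → tauEquiv p b x ν t = t :=
  Iff.rfl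

include hβ in
theorem zs_mem_FS : zs p b x β ∈ FS p b x s := by
  intro ν hν
  rw [tau_zs p b x s β γ hβ, hν, map_zero, zero_mul, map_zero, add_zero]

include hβ in
theorem range_le_FS : (Polynomial.aeval (zs p b x β) : R[X] →ₐ[R] AS p b x).range ≤ FS p b x s := by
  rw [← Algebra.adjoin_singleton_eq_range_aeval]
  apply Algebra.adjoin_le
  rw [Set.singleton_subset_iff]
  exact zs_mem_FS p b x s β γ hβ

/-- iterating a translation -/
theorem tau_iterate (e : Fin n → ZMod p) (t : AS p b x) (k : ℕ) :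
    (tauEquiv p b x e)^[k] t = tauEquiv p b x (k • e) t := by
  induction k with
  | zero => rw [Function.iterate_zero, id_eq, zero_smul, tauEquiv_zero]; rfl
  | succ k ih =>
    rw [Function.iterate_succ_apply', ih, succ_nsmul, add_comm, tauEquiv_add, AlgEquiv.mul_apply]

theorem tau_comm (ν ν' : Fin n → ZMod p) (t : AS p b x) :
    tauEquiv p b x ν (tauEquiv p b x ν' t) = tauEquiv p b x ν' (tauEquiv p b x ν t) := by
  rw [← AlgEquiv.mul_apply, ← AlgEquiv.mul_apply, ← tauEquiv_add, ← tauEquiv_add, add_comm]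

variable (m₀ : Fin n) (hm₀ : s m₀ ≠ 0)

/-- the chosen complement direction -/
noncomputable def e0 : Fin n → ZMod p := Pi.single m₀ (s m₀)⁻¹

include hm₀ in
theorem e0_sum : ∑ i, e0 p s m₀ i * s i = 1 := by
  unfold e0
  rw [Finset.sum_eq_single m₀]
  · rw [Pi.single_eq_same, inv_mul_cancel₀ hm₀]
  · intro i _ hi
    rw [Pi.single_eq_of_ne hi, zero_mul]
  · intro h; exact absurd (Finset.mem_univ m₀) h

/-- the generator of the complement -/
noncomputable def theta : AS p b x →ₐ[R] AS p b x :=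
  (tauEquiv p b x (e0 p s m₀) : AS p b x →ₐ[R] AS p b x)

theorem theta_apply (t : AS p b x) : theta p b x s m₀ t = tauEquiv p b x (e0 p s m₀) t := rfl

include hβ hm₀ in
theorem theta_zs : theta p b x s m₀ (zs p b x β) =
    zs p b x β + algebraMap R (AS p b x) γ := by
  rw [theta_apply, tau_zs p b x s β γ hβ, e0_sum p s m₀ hm₀, map_one, one_mul]

theorem theta_mem_FS (t : AS p b x) (ht : t ∈ FS p b x s) : theta p b x s m₀ t ∈ FS p b x s := by
  intro ν hν
  rw [theta_apply, tau_comm, ht ν hν]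

variable [hdom : IsDomain (AS p b x)] (hinj : Function.Injective (algebraMap R (AS p b x)))
  (hb : ∀ i, b i ≠ 0)
  (htf : ∀ (r : R) (y : AS p b x), r ≠ 0 → r • y = 0 → y = 0)

include hm₀ hinj hb htf in
theorem fixed_of_FS_theta (t : AS p b x) (ht : t ∈ FS p b x s) (hθt : theta p b x s m₀ t = t) :
    t ∈ Set.range (algebraMap R (AS p b x)) := by
  rw [← fixed_iff p b x hb htf t]
  intro σ
  obtain ⟨ν, rfl⟩ := tauEquiv_surjective p b x hb hinj σ
  set j : ZMod p := ∑ i, ν i * s i with hj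
  have hk : ∀ k : ℕ, tauEquiv p b x (k • e0 p s m₀) t = t := by
    intro k
    rw [← tau_iterate]
    induction k with
    | zero => rfl
    | succ k ih =>
      rw [Function.iterate_succ_apply]
      have : tauEquiv p b x (e0 p s m₀) t = t := hθt
      rw [this, ih]
  have hν' : ∑ i, (ν - j.val • e0 p s m₀) i * s i = 0 := by
    have h1 : ∀ i, (ν - j.val • e0 p s m₀) i * s i = ν i * s i - j * (e0 p s m₀ i * s i) := by
      intro i
      rw [Pi.sub_apply, Pi.smul_apply, nsmul_eq_mul, ZMod.natCast_zmod_val]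
      ring
    rw [Finset.sum_congr rfl (fun i _ => h1 i), Finset.sum_sub_distrib, ← Finset.mul_sum,
      e0_sum p s m₀ hm₀, mul_one, ← hj, sub_self]
  have hsplit : ν = (ν - j.val • e0 p s m₀) + j.val • e0 p s m₀ := by
    rw [sub_add_cancel]
  rw [hsplit, tauEquiv_add, AlgEquiv.mul_apply, hk]
  exact ht _ hν'

include hinj in
theorem dl_theta_iterate_p (t : AS p b x) : (dl (theta p b x s m₀))^[p] t = 0 := by
  have hinjE : Function.Injective (algebraMap R (Module.End R (AS p b x))) := by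
    intro r r' h
    have h1 := congrArg (fun f : Module.End R (AS p b x) => f 1) h
    simp only [Module.algebraMap_end_apply] at h1
    have hs : ∀ (r : R), r • (1 : AS p b x) = algebraMap R (AS p b x) r := fun r =>
      (Algebra.algebraMap_eq_smul_one r).symm
    rw [hs, hs] at h1
    exact hinj h1
  haveI : CharP (Module.End R (AS p b x)) p := charP_of_injective_algebraMap hinjE p
  have h1 : dl (theta p b x s m₀) =
      ((theta p b x s m₀).toLinearMap - 1 : Module.End R (AS p b x)) := rfl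
  rw [← Module.End.pow_apply, h1, sub_pow_char_of_commute p (Commute.one_right _), one_pow,
    LinearMap.sub_apply, Module.End.pow_apply, Module.End.one_apply]
  have h2 : ∀ k : ℕ, (⇑(theta p b x s m₀).toLinearMap)^[k] t =
      (tauEquiv p b x (e0 p s m₀))^[k] t := by
    intro k
    rfl
  rw [h2, tau_iterate]
  have h3 : p • e0 p s m₀ = 0 := by
    funext i
    rw [Pi.smul_apply, nsmul_eq_mul, CharP.cast_eq_zero (ZMod p) p, zero_mul]
    rfl
  rw [h3, tauEquiv_zero]
  exact sub_self t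

variable [UniqueFactorizationMonoid R] (hγ : γ ≠ 0)
  (hprime : ∀ π : R, Prime π → ∃ m, s m ≠ 0 ∧ ¬ π ∣ β m)

include hβ hβ0 hm₀ hinj hb htf hγ hprime in
theorem FS_le_range :
    FS p b x s ≤ (Polynomial.aeval (zs p b x β) : R[X] →ₐ[R] AS p b x).range := by
  intro t ht
  have hp2 : 2 ≤ p := hp.out.two_le
  obtain ⟨q, hq⟩ : ∃ q, p = q + 1 := ⟨p - 1, by omega⟩
  have h0 : (dl (theta p b x s m₀))^[q + 1] t = 0 := by
    rw [← hq]
    exact dl_theta_iterate_p p b x s m₀ hinj t
  obtain ⟨N, g, hg⟩ := exists_pow_mul_eq_aeval (theta p b x s m₀) (zs p b x β) γ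
    (theta_zs p b x s β γ hβ m₀ hm₀) p (hunit_R p) (FS p b x s)
    (zs_mem_FS p b x s β γ hβ) (theta_mem_FS p b x s m₀)
    (fixed_of_FS_theta p b x s m₀ hm₀ hinj hb htf) q (by omega) t ht h0
  have hmon := fs_monic p x β γ
  have hne1 : fs p x β γ ≠ 1 := by
    intro h
    have := fs_natDegree p x β γ
    rw [h, natDegree_one] at this
    exact hp.out.ne_zero this.symm
  have hdeg : (g %ₘ fs p x β γ).natDegree ≤ q := by
    have := natDegree_modByMonic_lt g hmon hne1
    rw [fs_natDegree] at this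
    omega
  have hg0 : Polynomial.aeval (zs p b x β) (g %ₘ fs p x β γ) =
      algebraMap R (AS p b x) (γ ^ N) * t := by
    rw [Polynomial.aeval_modByMonic_eq_self_of_root (aeval_fs p b x s β γ hβ hβ0), hg]
  obtain ⟨g', hg'⟩ := exists_eq_C_mul p (fun i => b i ^ (p - 1)) x hp2 β {m | s m ≠ 0}
    (fun π hπ => by
      obtain ⟨m, hm, hnd⟩ := hprime π hπ
      exact ⟨m, hm, hnd⟩)
    (γ ^ N) (pow_ne_zero N hγ) q (by omega) _ hdeg t hg0
  refine ⟨g', ?_⟩
  rw [hg', map_mul, aeval_C] at hg0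
  have h3 : algebraMap R (AS p b x) (γ ^ N) * (Polynomial.aeval (zs p b x β) g' - t) = 0 := by
    rw [mul_sub, hg0, sub_self]
  have hs : ∀ (r : R) (y : AS p b x), r • y = algebraMap R (AS p b x) r * y :=
    fun r y => Algebra.smul_def r y
  rw [← hs] at h3
  have h4 := htf _ _ (pow_ne_zero N hγ) h3
  exact sub_eq_zero.mp h4

include hβ hβ0 hm₀ hinj hb htf hγ hprime in
theorem fixed_iff_mem_range (t : AS p b x) :
    (∀ ν : Fin n → ZMod p, ∑ i, ν i * s i = 0 → tauEquiv p b x ν t = t) ↔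
      t ∈ (Polynomial.aeval (zs p b x β) : R[X] →ₐ[R] AS p b x).range := by
  constructor
  · intro h
    exact FS_le_range p b x s β γ hβ hβ0 m₀ hm₀ hinj hb htf hγ hprime h
  · intro h
    exact range_le_FS p b x s β γ hβ h

end Fix

end Groth.Agent.Helper7.WqOrt
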