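import Mathlib
import Groth.Agent.Helper7.WqOrtD

set_option autoImplicit false

namespace Groth.Agent.Helper7.WqOrt

open Polynomial Groth.Agent.Helper7.WqKer Groth.Agent.Helper7.WqReg Groth.Agent.Helper7.WqAut

section Conc

variable {R : Type*} [CommRing R] [IsDomain R] (p : ℕ) [hp : Fact p.Prime] [CharP R p] {n : ℕ}
  (a x : Fin n → R) (μ : R) (s : Fin n → ZMod p)

/-- the support of `s` -/
noncomputable def SF : Finset (Fin n) := Finset.univ.filter (fun i => s i ≠ 0)

theorem mem_SF (i : Fin n) : i ∈ SF p s ↔ s i ≠ 0 := by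
  unfold SF
  simp

/-- `α` -/
noncomputable def alpha : R := ∏ i ∈ SF p s, a i

/-- `α_i` -/
noncomputable def alphai (i : Fin n) : R := ∏ j ∈ (SF p s).erase i, a j

/-- `β_i = s_i α_i` -/
noncomputable def betaF (i : Fin n) : R := iota p (s i) * alphai p a s i

theorem betaF_mul (i : Fin n) :
    betaF p a s i * (μ * a i) = iota p (s i) * (μ * alpha p a s) := by
  unfold betaF
  by_cases hi : s i = 0
  · rw [hi, map_zero, zero_mul, zero_mul, zero_mul]
  · have h1 : a i * alphai p a s i = alpha p a s :=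
      Finset.mul_prod_erase (SF p s) a ((mem_SF p s i).mpr hi)
    rw [← h1]
    ring

theorem betaF_zero (i : Fin n) (hi : s i = 0) : betaF p a s i = 0 := by
  unfold betaF
  rw [hi, map_zero, zero_mul]

theorem iota_isUnit (j : ZMod p) (hj : j ≠ 0) : IsUnit (iota (R := R) p j) :=
  (IsUnit.mk0 j hj).map (iota (R := R) p)

theorem exists_of_dvd_betaF (π : R) (hπ : Prime π) (m : Fin n) (hm : s m ≠ 0)
    (h : π ∣ betaF p a s m) : ∃ j, j ≠ m ∧ s j ≠ 0 ∧ π ∣ a j := by
  unfold betaF at h
  have h1 : π ∣ alphai p a s m := by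
    rcases hπ.dvd_or_dvd h with h' | h'
    · exact absurd (isUnit_of_dvd_unit h' (iota_isUnit p (s m) hm)) hπ.not_isUnit
    · exact h'
  unfold alphai at h1
  obtain ⟨j, hj, hdvd⟩ := (Prime.dvd_finsetProd_iff hπ _).mp h1
  rw [Finset.mem_erase, mem_SF] at hj
  exact ⟨j, hj.1, hj.2, hdvd⟩

theorem hprime_betaF (hcop : ∀ i j, i ≠ j → IsRelPrime (a i) (a j)) (hs : s ≠ 0) :
    ∀ π : R, Prime π → ∃ m, s m ≠ 0 ∧ ¬ π ∣ betaF p a s m := by
  intro π hπ
  obtain ⟨m₁, hm₁⟩ : ∃ m₁, s m₁ ≠ 0 := by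
    by_contra hcon
    push Not at hcon
    exact hs (funext hcon)
  by_cases h1 : π ∣ betaF p a s m₁
  · obtain ⟨j, hjm, hj, hdj⟩ := exists_of_dvd_betaF p a s π hπ m₁ hm₁ h1
    refine ⟨j, hj, ?_⟩
    intro h2
    obtain ⟨l, hlj, _, hdl⟩ := exists_of_dvd_betaF p a s π hπ j hj h2
    exact hπ.not_isUnit (hcop j l (Ne.symm hlj) hdj hdl)
  · exact ⟨m₁, hm₁, h1⟩

theorem zs_eq (cc : Fin n → R) (hcc : ∀ i, cc i = iota p (s i)) :
    (∑ i ∈ Finset.univ.filter (fun i => s i ≠ 0),
      algebraMap R (AS p (fun i => μ * a i) x)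
        (cc i * ∏ j ∈ (Finset.univ.filter (fun j => s j ≠ 0)).erase i, a j) *
        uS p (fun i => μ * a i) x i) =
    zs p (fun i => μ * a i) x (betaF p a s) := by
  unfold zs zlin
  have h1 : ∀ i ∈ Finset.univ.filter (fun i => s i ≠ 0),
      algebraMap R (AS p (fun i => μ * a i) x)
        (cc i * ∏ j ∈ (Finset.univ.filter (fun j => s j ≠ 0)).erase i, a j) *
        uS p (fun i => μ * a i) x i =
      algebraMap R (AS p (fun i => μ * a i) x) (betaF p a s i) * uS p (fun i => μ * a i) x i := by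
    intro i _
    rw [hcc]
    rfl
  rw [Finset.sum_congr rfl h1]
  apply Finset.sum_subset (Finset.filter_subset _ _)
  intro i _ hi
  have : s i = 0 := by
    by_contra h
    exact hi (by simp [h])
  rw [betaF_zero p a s i this, map_zero, zero_mul]

theorem ee_eq (cc : Fin n → R) (hcc : ∀ i, cc i = iota p (s i)) :
    (∑ i ∈ Finset.univ.filter (fun i => s i ≠ 0),
      cc i * (∏ j ∈ (Finset.univ.filter (fun j => s j ≠ 0)).erase i, a j) ^ p * x i) =
    ee p x (betaF p a s) := by
  unfold ee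
  have h1 : ∀ i ∈ Finset.univ.filter (fun i => s i ≠ 0),
      cc i * (∏ j ∈ (Finset.univ.filter (fun j => s j ≠ 0)).erase i, a j) ^ p * x i =
      betaF p a s i ^ p * x i := by
    intro i _
    rw [hcc]
    unfold betaF alphai SF
    rw [mul_pow, iota_pow]
  rw [Finset.sum_congr rfl h1]
  apply Finset.sum_subset (Finset.filter_subset _ _)
  intro i _ hi
  have : s i = 0 := by
    by_contra h
    exact hi (by simp [h])
  rw [betaF_zero p a s i this, zero_pow hp.out.ne_zero, zero_mul]

/-- the product of translations -/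
theorem list_prod_tau (l : List (Fin n → ZMod p)) (b : Fin n → R) :
    (l.map (tauEquiv p b x)).prod = tauEquiv p b x l.sum := by
  induction l with
  | nil => rw [List.map_nil, List.prod_nil, List.sum_nil, tauEquiv_zero]
  | cons e l ih => rw [List.map_cons, List.prod_cons, List.sum_cons, ih, tauEquiv_add]

theorem sigma_eq (b : Fin n → R) (σ : Fin n → (AS p b x ≃ₐ[R] AS p b x))
    (hσ : ∀ i j, σ i (uS p b x j) = uS p b x j +
      (if i = j then algebraMap R (AS p b x) (b i) else 0)) (i : Fin n) :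
    σ i = tauEquiv p b x (Pi.single i 1) := by
  apply algEquiv_ext_AS
  intro j
  rw [hσ i j, tauEquiv_uS]
  unfold tauVal
  congr 1
  by_cases hij : i = j
  · subst hij
    rw [if_pos rfl, Pi.single_eq_same, map_one, one_mul]
  · rw [if_neg hij, Pi.single_eq_of_ne (Ne.symm hij), map_zero, zero_mul, map_zero]

theorem tau_pow (b : Fin n → R) (e : Fin n → ZMod p) (k : ℕ) :
    tauEquiv p b x e ^ k = tauEquiv p b x (k • e) := by
  induction k with
  | zero => rw [pow_zero, zero_smul, tauEquiv_zero]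
  | succ k ih => rw [pow_succ, ih, ← tauEquiv_add, succ_nsmul]

theorem list_ofFn_prod (b : Fin n → R) (σ : Fin n → (AS p b x ≃ₐ[R] AS p b x))
    (hσ : ∀ i j, σ i (uS p b x j) = uS p b x j +
      (if i = j then algebraMap R (AS p b x) (b i) else 0)) (ν : Fin n → ZMod p) :
    (List.ofFn (fun i : Fin n => σ i ^ (ν i).val)).prod = tauEquiv p b x ν := by
  have h1 : (fun i : Fin n => σ i ^ (ν i).val) =
      (tauEquiv p b x) ∘ (fun i : Fin n => (ν i).val • (Pi.single i 1 : Fin n → ZMod p)) := by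
    funext i
    rw [Function.comp_apply, sigma_eq p x b σ hσ i, tau_pow]
  rw [h1, ← List.map_ofFn, list_prod_tau, List.sum_ofFn]
  congr 1
  funext j
  rw [Finset.sum_apply, Finset.sum_eq_single j]
  · rw [Pi.smul_apply, Pi.single_eq_same, nsmul_eq_mul, mul_one, ZMod.natCast_zmod_val]
  · intro i _ hi
    rw [Pi.smul_apply, Pi.single_eq_of_ne (Ne.symm hi), smul_zero]
  · intro h; exact absurd (Finset.mem_univ j) h

variable [UniqueFactorizationMonoid R]
  [hdom : IsDomain (AS p (fun i => μ * a i) x)]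
  (hinj : Function.Injective (algebraMap R (AS p (fun i => μ * a i) x)))
  (htf : ∀ (r : R) (y : AS p (fun i => μ * a i) x), r ≠ 0 → r • y = 0 → y = 0)
  (ha : ∀ i, a i ≠ 0) (hμ : μ ≠ 0)
  (hcop : ∀ i j, i ≠ j → IsRelPrime (a i) (a j)) (hs : s ≠ 0)

include hinj htf ha hμ hcop hs in
theorem main_ort (cc : Fin n → R) (hcc : ∀ i, cc i = iota p (s i))
    (σ : Fin n → (AS p (fun i => μ * a i) x ≃ₐ[R] AS p (fun i => μ * a i) x))
    (hσ : ∀ i j, σ i (uS p (fun i => μ * a i) x j) = uS p (fun i => μ * a i) x j +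
      (if i = j then algebraMap R (AS p (fun i => μ * a i) x) (μ * a i) else 0)) :
    (∀ t : AS p (fun i => μ * a i) x,
      (∀ ν : Fin n → ZMod p, ∑ i, ν i * s i = 0 →
          (List.ofFn (fun i : Fin n => σ i ^ (ν i).val)).prod t = t) ↔
        t ∈ (Polynomial.aeval (∑ i ∈ Finset.univ.filter (fun i => s i ≠ 0),
          algebraMap R (AS p (fun i => μ * a i) x)
            (cc i * ∏ j ∈ (Finset.univ.filter (fun j => s j ≠ 0)).erase i, a j) *
            uS p (fun i => μ * a i) x i) : Polynomial R →ₐ[R] AS p (fun i => μ * a i) x).range) ∧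
      RingHom.ker (Polynomial.aeval (∑ i ∈ Finset.univ.filter (fun i => s i ≠ 0),
          algebraMap R (AS p (fun i => μ * a i) x)
            (cc i * ∏ j ∈ (Finset.univ.filter (fun j => s j ≠ 0)).erase i, a j) *
            uS p (fun i => μ * a i) x i) : Polynomial R →ₐ[R] AS p (fun i => μ * a i) x) =
        Ideal.span {(Polynomial.X ^ p - Polynomial.C ((μ * ∏ i ∈ Finset.univ.filter
          (fun i => s i ≠ 0), a i) ^ (p - 1)) * Polynomial.X
          - Polynomial.C (∑ i ∈ Finset.univ.filter (fun i => s i ≠ 0),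
            cc i * (∏ j ∈ (Finset.univ.filter (fun j => s j ≠ 0)).erase i, a j) ^ p * x i) :
              Polynomial R)} := by
  rw [zs_eq p a x μ s cc hcc, ee_eq p a x s cc hcc]
  obtain ⟨m₀, hm₀⟩ : ∃ m₀, s m₀ ≠ 0 := by
    by_contra hcon
    push Not at hcon
    exact hs (funext hcon)
  have hγ : μ * alpha p a s ≠ 0 := by
    apply mul_ne_zero hμ
    unfold alpha
    rw [Finset.prod_ne_zero_iff]
    intro i _
    exact ha i
  have hb : ∀ i, μ * a i ≠ 0 := fun i => mul_ne_zero hμ (ha i)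
  have hβ := betaF_mul p a μ s
  have hβ0 := betaF_zero p a s
  refine ⟨?_, ?_⟩
  · intro t
    have h1 := fixed_iff_mem_range p (fun i => μ * a i) x s (betaF p a s) (μ * alpha p a s) hβ hβ0
      m₀ hm₀ hinj hb htf hγ (hprime_betaF p a s hcop hs) t
    rw [← h1]
    constructor
    · intro h ν hν
      rw [← list_ofFn_prod p x (fun i => μ * a i) σ hσ ν]
      exact h ν hν
    · intro h ν hν
      rw [list_ofFn_prod p x (fun i => μ * a i) σ hσ ν]
      exact h ν hν
  · exact ker_aeval p (fun i => μ * a i) x s (betaF p a s) (μ * alpha p a s) hβ hβ0 hinj hγ hs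

end Conc

end Groth.Agent.Helper7.WqOrt
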