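import Mathlib
import Groth.Agent.Helper7.WqRegC
import Groth.Agent.Helper3.FinComp1
import Groth.Agent.Helper5.HenselFin

set_option autoImplicit false
universe u

namespace Groth.Agent.Helper7.WqReg

open Polynomial Groth.Agent.Helper7.WqKer

section Complete

variable {R : Type u} [CommRing R] [IsLocalRing R] [IsNoetherianRing R]
  [IsAdicComplete (IsLocalRing.maximalIdeal R) R] (p : ℕ) {n : ℕ} (c x : Fin n → R)
variable (hp2 : 2 ≤ p) (hc : ∀ i, c i ∈ IsLocalRing.maximalIdeal R)
  (hx : IsLocalRing.maximalIdeal R = Ideal.span (Set.range x))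

include hp2 hc hx in
theorem isAdicComplete_AC : IsAdicComplete (nC p c x) (AC p c x) := by
  haveI := finite_AC p c x hp2
  haveI h1 := Groth.Agent.Helper3.FinComp1.isAdicComplete_map R (AC p c x)
  have hle : (IsLocalRing.maximalIdeal R).map (algebraMap R (AC p c x)) ≤ nC p c x := by
    rw [Ideal.map_le_iff_le_comap]
    intro r hr
    exact algebraMap_mem_nC p c x hp2 hx r hr
  have hrad : nC p c x ≤ ((IsLocalRing.maximalIdeal R).map (algebraMap R (AC p c x))).radical := by
    rw [nC_eq_span, Ideal.span_le]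
    rintro _ ⟨i, rfl⟩
    refine ⟨p, ?_⟩
    rw [uC_rel]
    refine Ideal.add_mem _ (Ideal.mul_mem_right _ _ (Ideal.mem_map_of_mem _ (hc i)))
      (Ideal.mem_map_of_mem _ ?_)
    rw [hx]
    exact Ideal.subset_span ⟨i, rfl⟩
  have hfg : (nC p c x).FG := by
    rw [nC_eq_span]
    exact Submodule.fg_span (Set.finite_range _)
  obtain ⟨e, he⟩ := Ideal.exists_pow_le_of_le_radical_of_fg hrad hfg
  exact Groth.Agent.Helper5.HenselFin.isAdicComplete_of_pow_le _ (nC p c x) e he hle

end Complete

end Groth.Agent.Helper7.WqReg
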