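import Mathlib
import Groth.Agent.Helper7.WqOrtA

set_option autoImplicit false

namespace Groth.Agent.Helper7.WqSym

open Polynomial PiTensorProduct Groth.Agent.Helper7.WqKer Groth.Agent.Helper7.WqReg
  Groth.Agent.Helper7.WqOrt
open scoped TensorProduct

section OneVar

variable {R : Type*} [CommRing R] [Nontrivial R] (p : ℕ) (hp2 : 2 ≤ p) {n : ℕ} (c x : Fin n → R)
  (j : Fin n)

theorem root_pow_p : AdjoinRoot.root (gC p c x j) ^ p =
    algebraMap R (AdjoinRoot (gC p c x j)) (c j) * AdjoinRoot.root (gC p c x j) +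
      algebraMap R (AdjoinRoot (gC p c x j)) (x j) := by
  have h := AdjoinRoot.mk_self (f := gC p c x j)
  unfold gC at h
  rw [map_sub, map_add, map_mul, map_pow, AdjoinRoot.mk_X, AdjoinRoot.mk_C, AdjoinRoot.mk_C,
    sub_eq_zero] at h
  rw [AdjoinRoot.algebraMap_eq]
  exact h

include hp2 in
theorem coef_mk (q : R[X]) (hq : q.natDegree < p) (M : ℕ) (hM : M < p) :
    coefFun (gC p c x j) (gC_monic p c x hp2 j) M (AdjoinRoot.mk (gC p c x j) q) = q.coeff M := by
  have hd := gC_natDegree p c x hp2 j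
  rw [← AdjoinRoot.aeval_eq, Polynomial.aeval_eq_sum_range' hq, map_sum]
  have hterm : ∀ i ∈ Finset.range p,
      coefFun (gC p c x j) (gC_monic p c x hp2 j) M (q.coeff i • AdjoinRoot.root (gC p c x j) ^ i) =
        if i = M then q.coeff M else 0 := by
    intro i hi
    rw [Finset.mem_range] at hi
    rw [map_smul, coefFun_root_pow _ _ _ _ (by rw [hd]; exact hM) (by rw [hd]; exact hi),
      smul_eq_mul]
    split_ifs with h
    · rw [h, mul_one]
    · rw [mul_zero]
  rw [Finset.sum_congr rfl hterm, Finset.sum_ite_eq', if_pos (Finset.mem_range.mpr hM)]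

include hp2 in
theorem coef_root_pow (i : ℕ) (hi : i ≤ 2 * p - 2) :
    coefFun (gC p c x j) (gC_monic p c x hp2 j) (p - 1) (AdjoinRoot.root (gC p c x j) ^ i) =
      (if i = p - 1 then 1 else 0) + (if i = 2 * p - 2 then c j else 0) := by
  have hd := gC_natDegree p c x hp2 j
  rcases Nat.lt_or_ge i p with h | h
  · rw [coefFun_root_pow _ _ _ _ (by rw [hd]; omega) (by rw [hd]; exact h),
      if_neg (by omega : ¬ i = 2 * p - 2), add_zero]
  · obtain ⟨m', rfl⟩ : ∃ m', i = p + m' := ⟨i - p, by omega⟩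
    have e1 : AdjoinRoot.root (gC p c x j) ^ (p + m') =
        c j • AdjoinRoot.root (gC p c x j) ^ (m' + 1) +
          x j • AdjoinRoot.root (gC p c x j) ^ m' := by
      rw [pow_add, root_pow_p, Algebra.smul_def, Algebra.smul_def]
      ring
    rw [e1, map_add, map_smul, map_smul,
      coefFun_root_pow _ _ _ _ (by rw [hd]; omega) (by rw [hd]; omega),
      coefFun_root_pow _ _ _ _ (by rw [hd]; omega) (by rw [hd]; omega),
      if_neg (by omega : ¬ p + m' = p - 1), if_neg (by omega : ¬ m' = p - 1), zero_add, smul_zero,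
      add_zero, smul_eq_mul]
    by_cases h2 : m' + 1 = p - 1
    · rw [if_pos h2, if_pos (by omega), mul_one]
    · rw [if_neg h2, if_neg (by omega), mul_zero]

/-- the one-variable dual basis polynomials -/
noncomputable def dpoly (k' : ℕ) : R[X] :=
  if k' = 0 then X ^ (p - 1) - C (c j) else X ^ (p - 1 - k')

include hp2 in
theorem dual_one (k k' : ℕ) (hk : k < p) (hk' : k' < p) :
    coefFun (gC p c x j) (gC_monic p c x hp2 j) (p - 1)
      (AdjoinRoot.mk (gC p c x j) (X ^ k * dpoly p c j k')) = if k = k' then 1 else 0 := by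
  unfold dpoly
  by_cases h0 : k' = 0
  · rw [if_pos h0, mul_sub, map_sub, map_mul, map_mul, map_pow, map_pow, AdjoinRoot.mk_X,
      AdjoinRoot.mk_C, ← pow_add, map_sub]
    have e2 : AdjoinRoot.root (gC p c x j) ^ k * (AdjoinRoot.of (gC p c x j)) (c j) =
        c j • AdjoinRoot.root (gC p c x j) ^ k := by
      rw [Algebra.smul_def, AdjoinRoot.algebraMap_eq, mul_comm]
    rw [e2, map_smul, coef_root_pow p hp2 c x j _ (by omega), coef_root_pow p hp2 c x j _ (by omega),
      smul_eq_mul]
    subst h0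
    by_cases hk0 : k = 0
    · subst hk0
      rw [if_pos (by omega), if_neg (by omega), if_neg (by omega), if_neg (by omega), if_pos rfl]
      ring
    · rw [if_neg (by omega), if_neg hk0]
      by_cases hkp : k = p - 1
      · rw [if_pos (by omega), if_pos hkp, if_neg (by omega)]
        ring
      · rw [if_neg (by omega), if_neg hkp, if_neg (by omega)]
        ring
  · rw [if_neg h0, ← pow_add, map_pow, AdjoinRoot.mk_X, coef_root_pow p hp2 c x j _ (by omega),
      if_neg (by omega : ¬ k + (p - 1 - k') = 2 * p - 2), add_zero]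
    by_cases hkk : k = k'
    · rw [if_pos hkk, if_pos (by omega)]
    · rw [if_neg hkk, if_neg (by omega)]

include hp2 in
theorem coef_translate (r : R) (e : ℕ) (he : e < p) :
    coefFun (gC p c x j) (gC_monic p c x hp2 j) (p - 1)
      (AdjoinRoot.mk (gC p c x j) ((X + C r) ^ e)) = if e = p - 1 then 1 else 0 := by
  rw [coef_mk p hp2 c x j _ (lt_of_le_of_lt (natDegree_pow_le.trans (by
    have : (X + C r : R[X]).natDegree ≤ 1 := (natDegree_X_add_C r).le
    calc e * (X + C r : R[X]).natDegree ≤ e * 1 := Nat.mul_le_mul_left e this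
      _ = e := mul_one e)) he) (p - 1) (by omega), coeff_X_add_C_pow]
  by_cases h : e = p - 1
  · rw [if_pos h, h, Nat.sub_self, pow_zero, Nat.choose_self, Nat.cast_one, mul_one]
  · rw [if_neg h, Nat.choose_eq_zero_of_lt (by omega), Nat.cast_zero, mul_zero]

end OneVar

section Multi

variable {R : Type*} [CommRing R] [Nontrivial R] (p : ℕ) (hp2 : 2 ≤ p) {n : ℕ} (c x : Fin n → R)

omit [Nontrivial R] in
theorem toTT_aeval (j : Fin n) (q : R[X]) :
    toTT p c x (Polynomial.aeval (uC p c x j) q) =
      singleAlgHom (R := R) (A := fun j => AdjoinRoot (gC p c x j)) j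
        (AdjoinRoot.mk (gC p c x j) q) := by
  have h1 : toTT p c x (Polynomial.aeval (uC p c x j) q) =
      Polynomial.aeval (toTT p c x (uC p c x j)) q :=
    (Polynomial.aeval_algHom_apply (toTT p c x : AC p c x →ₐ[R] TT (gC p c x)) _ q).symm
  rw [h1, toTT_uC, Polynomial.aeval_algHom_apply, AdjoinRoot.aeval_eq]

omit [Nontrivial R] in
theorem coordFun_prod_aeval (l : (j : Fin n) → AdjoinRoot (gC p c x j) →ₗ[R] R)
    (q : Fin n → R[X]) :
    coordFun p c x l (∏ j, Polynomial.aeval (uC p c x j) (q j)) =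
      ∏ j, l j (AdjoinRoot.mk (gC p c x j) (q j)) := by
  unfold coordFun
  rw [LinearMap.comp_apply, AlgEquiv.toLinearMap_apply, map_prod]
  have h1 : ∀ j, toTT p c x (Polynomial.aeval (uC p c x j) (q j)) =
      PiTensorProduct.tprod R (Pi.mulSingle j (AdjoinRoot.mk (gC p c x j) (q j))) := by
    intro j
    rw [toTT_aeval, singleAlgHom_apply]
    rfl
  rw [Finset.prod_congr rfl (fun j _ => h1 j), ← tprod_prod, Finset.univ_prod_mulSingle,
    PiTensorProduct.lift.tprod]
  simp [MultilinearMap.compLinearMap_apply, MultilinearMap.mkPiAlgebra_apply]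

/-- the monomial basis -/
noncomputable def monoBasis : Module.Basis
    ((j : Fin n) → Fin (AdjoinRoot.powerBasis' (gC_monic p c x hp2 j)).dim) R (AC p c x) :=
  (Basis.piTensorProduct fun j => (AdjoinRoot.powerBasis' (gC_monic p c x hp2 j)).basis).map
    (toTT p c x).symm.toLinearEquiv

omit [Nontrivial R] in
theorem monoBasis_apply
    (e : (j : Fin n) → Fin (AdjoinRoot.powerBasis' (gC_monic p c x hp2 j)).dim) :
    monoBasis p hp2 c x e = ∏ j, uC p c x j ^ (e j : ℕ) := by
  unfold monoBasis
  rw [Module.Basis.map_apply, Basis.piTensorProduct_apply]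
  show (toTT p c x).symm _ = _
  rw [AlgEquiv.symm_apply_eq, map_prod]
  have h1 : ∀ j, toTT p c x (uC p c x j ^ (e j : ℕ)) =
      PiTensorProduct.tprod R (Pi.mulSingle j
        ((AdjoinRoot.powerBasis' (gC_monic p c x hp2 j)).basis (e j))) := by
    intro j
    rw [map_pow, toTT_uC, ← map_pow, singleAlgHom_apply, PowerBasis.basis_eq_pow,
      AdjoinRoot.powerBasis'_gen]
    rfl
  rw [Finset.prod_congr rfl (fun j _ => h1 j), ← tprod_prod, Finset.univ_prod_mulSingle]

theorem dim_eq (j : Fin n) : (AdjoinRoot.powerBasis' (gC_monic p c x hp2 j)).dim = p := by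
  rw [AdjoinRoot.powerBasis'_dim, gC_natDegree p c x hp2 j]

/-- the Frobenius form: coefficient of the top monomial -/
noncomputable def lamTop : AC p c x →ₗ[R] R :=
  coordFun p c x (fun j => coefFun (gC p c x j) (gC_monic p c x hp2 j) (p - 1))

/-- the dual basis elements -/
noncomputable def Mstar
    (e' : (j : Fin n) → Fin (AdjoinRoot.powerBasis' (gC_monic p c x hp2 j)).dim) : AC p c x :=
  ∏ j, Polynomial.aeval (uC p c x j) (dpoly p c j (e' j : ℕ))

theorem lamTop_mono_mul_Mstar
    (e e' : (j : Fin n) → Fin (AdjoinRoot.powerBasis' (gC_monic p c x hp2 j)).dim) :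
    lamTop p hp2 c x (monoBasis p hp2 c x e * Mstar p hp2 c x e') = if e = e' then 1 else 0 := by
  rw [monoBasis_apply, Mstar, ← Finset.prod_mul_distrib]
  have h1 : ∀ j, uC p c x j ^ (e j : ℕ) * Polynomial.aeval (uC p c x j) (dpoly p c j (e' j : ℕ)) =
      Polynomial.aeval (uC p c x j) (X ^ (e j : ℕ) * dpoly p c j (e' j : ℕ)) := by
    intro j
    rw [map_mul, aeval_X_pow]
  rw [Finset.prod_congr rfl (fun j _ => h1 j)]
  unfold lamTop
  rw [coordFun_prod_aeval]
  have h2 : ∀ j, coefFun (gC p c x j) (gC_monic p c x hp2 j) (p - 1)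
      (AdjoinRoot.mk (gC p c x j) (X ^ (e j : ℕ) * dpoly p c j (e' j : ℕ))) =
      if e j = e' j then 1 else 0 := by
    intro j
    have he : (e j : ℕ) < p := lt_of_lt_of_eq (e j).2 (dim_eq p hp2 c x j)
    have he' : (e' j : ℕ) < p := lt_of_lt_of_eq (e' j).2 (dim_eq p hp2 c x j)
    rw [dual_one p hp2 c x j _ _ he he']
    by_cases h : e j = e' j
    · rw [if_pos h, if_pos (congrArg Fin.val h)]
    · rw [if_neg h, if_neg]
      intro h'
      exact h (Fin.ext h')
  rw [Finset.prod_congr rfl (fun j _ => h2 j), Finset.prod_boole]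
  by_cases h : e = e'
  · rw [if_pos h, if_pos]
    intro j _
    rw [h]
  · rw [if_neg h, if_neg]
    intro h'
    exact h (funext fun j => h' j (Finset.mem_univ j))

theorem nd_surj (ψ : AC p c x →ₗ[R] R) :
    ∃ b : AC p c x, ∀ a : AC p c x, ψ a = lamTop p hp2 c x (a * b) := by
  classical
  let b : AC p c x := ∑ e', ψ (monoBasis p hp2 c x e') • Mstar p hp2 c x e'
  refine ⟨b, ?_⟩
  have hlin : ψ = (lamTop p hp2 c x) ∘ₗ (LinearMap.mulRight R b) := by
    apply (monoBasis p hp2 c x).ext
    intro e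
    rw [LinearMap.comp_apply, LinearMap.mulRight_apply]
    show _ = lamTop p hp2 c x (monoBasis p hp2 c x e *
      ∑ e', ψ (monoBasis p hp2 c x e') • Mstar p hp2 c x e')
    rw [Finset.mul_sum, map_sum]
    have h1 : ∀ e' ∈ Finset.univ, lamTop p hp2 c x (monoBasis p hp2 c x e *
        ψ (monoBasis p hp2 c x e') • Mstar p hp2 c x e') =
        if e = e' then ψ (monoBasis p hp2 c x e') else 0 := by
      intro e' _
      rw [mul_smul_comm, map_smul, lamTop_mono_mul_Mstar, smul_eq_mul]
      split_ifs <;> simp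
    rw [Finset.sum_congr rfl h1, Finset.sum_ite_eq, if_pos (Finset.mem_univ e)]
  intro a
  rw [hlin]
  rfl

/-- the Frobenius pairing as a linear map -/
noncomputable def Lam : AC p c x →ₗ[R] Module.Dual R (AC p c x) where
  toFun b := (lamTop p hp2 c x) ∘ₗ (LinearMap.mulRight R b)
  map_add' b b' := by
    apply LinearMap.ext
    intro a
    show lamTop p hp2 c x (a * (b + b')) = lamTop p hp2 c x (a * b) + lamTop p hp2 c x (a * b')
    rw [mul_add, map_add]
  map_smul' r b := by
    apply LinearMap.ext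
    intro a
    show lamTop p hp2 c x (a * (r • b)) = r • lamTop p hp2 c x (a * b)
    rw [mul_smul_comm, map_smul]

theorem Lam_apply (b a : AC p c x) : Lam p hp2 c x b a = lamTop p hp2 c x (a * b) := rfl

theorem nd_inj (b b' : AC p c x)
    (h : ∀ a : AC p c x, lamTop p hp2 c x (a * b) = lamTop p hp2 c x (a * b')) : b = b' := by
  haveI := finite_AC p c x hp2
  have hsurj : Function.Surjective (Lam p hp2 c x) := by
    intro ψ
    obtain ⟨b, hb⟩ := nd_surj p hp2 c x ψ
    refine ⟨b, ?_⟩
    apply LinearMap.ext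
    intro a
    rw [Lam_apply, hb]
  let E := (monoBasis p hp2 c x).toDualEquiv
  have hsurj2 : Function.Surjective (E.symm.toLinearMap ∘ₗ Lam p hp2 c x) := by
    rw [LinearMap.coe_comp]
    exact E.symm.surjective.comp hsurj
  have hinj2 := OrzechProperty.injective_of_surjective_endomorphism _ hsurj2
  have hinj : Function.Injective (Lam p hp2 c x) := by
    intro y y' hy
    apply hinj2
    rw [LinearMap.comp_apply, LinearMap.comp_apply, hy]
  apply hinj
  apply LinearMap.ext
  intro a
  rw [Lam_apply, Lam_apply, h a]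

end Multi

end Groth.Agent.Helper7.WqSym
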