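import Mathlib

set_option autoImplicit false

namespace Groth.Agent.Helper7.WqSym

section Skew

variable {R : Type*} [CommRing R] {A : Type*} [CommRing A] [Algebra R A]
  {G : Type*} [Group G] [Finite G] [MulSemiringAction G A] [SMulCommClass G R A]
  (lam : A →ₗ[R] R)

/-- the symmetrizing form: `lam` of the coefficient at the identity -/
noncomputable def phi : SkewMonoidAlgebra A G →ₗ[R] R :=
  lam ∘ₗ (Finsupp.lapply (1 : G)) ∘ₗ
    (SkewMonoidAlgebra.coeffLinearEquiv (S := R) (k := A) (G := G)).toLinearMap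

omit [Finite G] [SMulCommClass G R A] in
theorem phi_apply (y : SkewMonoidAlgebra A G) : phi lam y = lam (y.coeff 1) := rfl

omit [Finite G] [SMulCommClass G R A] in
theorem phi_single_mul (a : G) (c : A) (y : SkewMonoidAlgebra A G) :
    phi lam (SkewMonoidAlgebra.single a c * y) = lam (c * a • y.coeff a⁻¹) := by
  rw [phi_apply, SkewMonoidAlgebra.coeff_single_mul, mul_one]

omit [Finite G] [SMulCommClass G R A] in
theorem phi_mul_single (a : G) (c : A) (y : SkewMonoidAlgebra A G) :
    phi lam (y * SkewMonoidAlgebra.single a c) = lam (y.coeff a⁻¹ * a⁻¹ • c) := by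
  rw [phi_apply, SkewMonoidAlgebra.coeff_mul_single, one_mul]

variable (hinv : ∀ (h : G) (a : A), lam (h • a) = lam a)

include hinv in
omit [Finite G] [SMulCommClass G R A] in
theorem phi_symm (x y : SkewMonoidAlgebra A G) : phi lam (x * y) = phi lam (y * x) := by
  let f₁ : SkewMonoidAlgebra A G →+ R :=
    (phi lam).toAddMonoidHom.comp (AddMonoidHom.mulRight y)
  let f₂ : SkewMonoidAlgebra A G →+ R :=
    (phi lam).toAddMonoidHom.comp (AddMonoidHom.mulLeft y)
  have h : f₁ = f₂ := by
    apply SkewMonoidAlgebra.addHom_ext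
    intro a c
    show phi lam (SkewMonoidAlgebra.single a c * y) = phi lam (y * SkewMonoidAlgebra.single a c)
    rw [phi_single_mul, phi_mul_single, ← hinv a (y.coeff a⁻¹ * a⁻¹ • c), smul_mul',
      smul_inv_smul, mul_comm]
  exact DFunLike.congr_fun h x

variable (hinj : ∀ b b' : A, (∀ a, lam (a * b) = lam (a * b')) → b = b')
  (hsurj : ∀ ψ : A →ₗ[R] R, ∃ b : A, ∀ a, ψ a = lam (a * b))

include hinj in
omit [Finite G] [SMulCommClass G R A] in
theorem phi_injective : Function.Injective
    (fun y : SkewMonoidAlgebra A G => fun x : SkewMonoidAlgebra A G => phi lam (x * y)) := by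
  intro y y' h
  apply SkewMonoidAlgebra.ext
  intro a
  have h1 : ∀ c : A, lam (c * a⁻¹ • y.coeff a) = lam (c * a⁻¹ • y'.coeff a) := by
    intro c
    have := congrFun h (SkewMonoidAlgebra.single a⁻¹ c)
    simp only [phi_single_mul, inv_inv] at this
    exact this
  have h2 := hinj _ _ h1
  have h3 := congrArg (fun t => a • t) h2
  simpa using h3

include hsurj in
omit [SMulCommClass G R A] in
theorem phi_surjective (ψ : SkewMonoidAlgebra A G →ₗ[R] R) :
    ∃ y : SkewMonoidAlgebra A G, ∀ x, ψ x = phi lam (x * y) := by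
  classical
  -- the components of ψ
  let ψc : G → (A →ₗ[R] R) := fun a =>
    { toFun := fun c => ψ (SkewMonoidAlgebra.single a c)
      map_add' := fun c c' => by rw [SkewMonoidAlgebra.single_add, map_add]
      map_smul' := fun r c => by
        rw [← SkewMonoidAlgebra.smul_single, map_smul]
        rfl }
  choose bb hbb using fun a => hsurj (ψc a)
  let y : SkewMonoidAlgebra A G :=
    ⟨Finsupp.equivFunOnFinite.symm (fun g : G => g • bb g⁻¹)⟩
  have hy : ∀ g : G, y.coeff g = g • bb g⁻¹ := by
    intro g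
    show (Finsupp.equivFunOnFinite.symm (fun g : G => g • bb g⁻¹)) g = _
    rfl
  refine ⟨y, ?_⟩
  let f₁ : SkewMonoidAlgebra A G →+ R := ψ.toAddMonoidHom
  let f₂ : SkewMonoidAlgebra A G →+ R :=
    (phi lam).toAddMonoidHom.comp (AddMonoidHom.mulRight y)
  have h : f₁ = f₂ := by
    apply SkewMonoidAlgebra.addHom_ext
    intro a c
    show ψ (SkewMonoidAlgebra.single a c) = phi lam (SkewMonoidAlgebra.single a c * y)
    rw [phi_single_mul, hy, smul_inv_smul, inv_inv, ← hbb a c]
    rfl
  intro x
  exact DFunLike.congr_fun h x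

end Skew

end Groth.Agent.Helper7.WqSym
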