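import Mathlib
import Groth.Agent.Helper7.WqSymA
import Groth.Agent.Helper7.WqSymB

set_option autoImplicit false

namespace Groth.Agent.Helper7.WqSym

open Polynomial Groth.Agent.Helper7.WqKer Groth.Agent.Helper7.WqReg Groth.Agent.Helper7.WqOrt

section Inv

variable {R : Type*} [CommRing R] [Nontrivial R] (p : ℕ) (hp2 : 2 ≤ p) {n : ℕ} (c x a : Fin n → R)
  {G : Type*} [Group G] [MulSemiringAction G (AC p c x)] [SMulCommClass G R (AC p c x)]
  (g : G) (hg : ∀ i, g • uC p c x i = uC p c x i + algebraMap R (AC p c x) (a i))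
  (hgen : ∀ h : G, h ∈ Subgroup.zpowers g)

include hg in
theorem lamTop_smul_gen (y : AC p c x) : lamTop p hp2 c x (g • y) = lamTop p hp2 c x y := by
  let ρ : AC p c x →ₗ[R] AC p c x :=
    { toFun := fun y => g • y
      map_add' := smul_add g
      map_smul' := fun r y => smul_comm g r y }
  have h : (lamTop p hp2 c x) ∘ₗ ρ = lamTop p hp2 c x := by
    apply (monoBasis p hp2 c x).ext
    intro e
    rw [LinearMap.comp_apply]
    show lamTop p hp2 c x (g • monoBasis p hp2 c x e) = _
    rw [monoBasis_apply, Finset.smul_prod']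
    have h1 : ∀ j, g • (uC p c x j ^ (e j : ℕ)) =
        Polynomial.aeval (uC p c x j) ((X + C (a j)) ^ (e j : ℕ)) := by
      intro j
      rw [smul_pow', hg j, map_pow, map_add, aeval_X, aeval_C]
    have h2 : ∀ j, uC p c x j ^ (e j : ℕ) =
        Polynomial.aeval (uC p c x j) ((X : R[X]) ^ (e j : ℕ)) := by
      intro j
      rw [aeval_X_pow]
    rw [Finset.prod_congr rfl (fun j _ => h1 j), Finset.prod_congr rfl (fun j _ => h2 j)]
    unfold lamTop
    rw [coordFun_prod_aeval, coordFun_prod_aeval]
    refine Finset.prod_congr rfl fun j _ => ?_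
    have he : (e j : ℕ) < p := lt_of_lt_of_eq (e j).2 (dim_eq p hp2 c x j)
    rw [coef_translate p hp2 c x j (a j) _ he]
    have := coef_translate p hp2 c x j 0 _ he
    rw [map_zero, add_zero] at this
    rw [this]
  exact LinearMap.congr_fun h y

include hg hgen in
theorem lamTop_smul (h : G) (y : AC p c x) : lamTop p hp2 c x (h • y) = lamTop p hp2 c x y := by
  let S : Subgroup G :=
    { carrier := {h | ∀ y : AC p c x, lamTop p hp2 c x (h • y) = lamTop p hp2 c x y}
      mul_mem' := by
        intro h h' hh hh' y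
        rw [mul_smul, hh, hh']
      one_mem' := by
        intro y
        rw [one_smul]
      inv_mem' := by
        intro h hh y
        have := hh (h⁻¹ • y)
        rw [smul_inv_smul] at this
        exact this.symm }
  have hgS : g ∈ S := fun y => lamTop_smul_gen p hp2 c x a g hg y
  have hle : Subgroup.zpowers g ≤ S := (Subgroup.zpowers_le).mpr hgS
  exact hle (hgen h) y

variable [Finite G]

include hp2 hg hgen in
theorem main_sym : ∃ φ : SkewMonoidAlgebra (AC p c x) G →ₗ[R] R,
    (∀ x' y : SkewMonoidAlgebra (AC p c x) G, φ (x' * y) = φ (y * x')) ∧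
    Function.Injective (fun y : SkewMonoidAlgebra (AC p c x) G =>
      fun x' : SkewMonoidAlgebra (AC p c x) G => φ (x' * y)) ∧
    ∀ ψ : SkewMonoidAlgebra (AC p c x) G →ₗ[R] R,
      ∃ y : SkewMonoidAlgebra (AC p c x) G, ∀ x', ψ x' = φ (x' * y) := by
  refine ⟨phi (lamTop p hp2 c x), ?_, ?_, ?_⟩
  · exact phi_symm _ (lamTop_smul p hp2 c x a g hg hgen)
  · exact phi_injective _ (nd_inj p hp2 c x)
  · exact phi_surjective _ (nd_surj p hp2 c x)

end Inv

end Groth.Agent.Helper7.WqSym
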