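import Mathlib
import Groth.Agent.Helper7.SLHMa

/-!
# Constructions on polynomial representations of the matrix monoid (helper7)

* `comodOf ρ`: the comodule-algebra structure on `k[ι]` attached to a `PolyRep`.
* `stdRep`: the standard representation on `Fin n`.
* `PolyRep.sum`, `PolyRep.sigma`: direct sums.
-/

set_option autoImplicit false
set_option linter.unusedSectionVars false
universe u v w w'

namespace Groth.Agent.Helper7.Wzb

open CoordGrp TensorProduct Groth.Agent.Helper7.SLHM

section Comod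

variable {k : Type u} [CommRing k] {n : ℕ} {ι : Type w} [Fintype ι] [DecidableEq ι]
  (ρ : PolyRep k n ι)

/-- the coaction as an algebra map -/
noncomputable def coactAlg : MvPolynomial ι k →ₐ[k] MvPolynomial ι k ⊗[k] Mat n k :=
  MvPolynomial.aeval fun m => ∑ l : ι, MvPolynomial.X l ⊗ₜ[k] ρ.c l m

@[simp] theorem coactAlg_X (m : ι) :
    coactAlg ρ (MvPolynomial.X m) = ∑ l : ι, MvPolynomial.X l ⊗ₜ[k] ρ.c l m := by
  simp [coactAlg]

theorem coactAlg_coassoc :
    (Algebra.TensorProduct.assoc k k k (MvPolynomial ι k) (Mat n k) (Mat n k)).toAlgHom.comp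
        ((Algebra.TensorProduct.map (coactAlg ρ) (AlgHom.id k (Mat n k))).comp (coactAlg ρ)) =
      (Algebra.TensorProduct.map (AlgHom.id k _) (Bialgebra.comulAlgHom k (Mat n k))).comp
        (coactAlg ρ) := by
  apply MvPolynomial.algHom_ext
  intro i
  simp only [AlgHom.comp_apply, coactAlg_X, map_sum, Algebra.TensorProduct.map_tmul, AlgHom.id_apply,
    TensorProduct.sum_tmul, TensorProduct.tmul_sum, Bialgebra.comulAlgHom_apply, ρ.comul_c]
  exact Finset.sum_comm

theorem coactAlg_counit :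
    (Algebra.TensorProduct.rid k k (MvPolynomial ι k)).toAlgHom.comp
        ((Algebra.TensorProduct.map (AlgHom.id k _) (Bialgebra.counitAlgHom k (Mat n k))).comp
          (coactAlg ρ)) = AlgHom.id k _ := by
  classical
  apply MvPolynomial.algHom_ext
  intro i
  simp [Bialgebra.counitAlgHom_apply, ρ.counit_c, Finset.sum_ite_eq', tmul_ite]

/-- the comodule structure on `k[ι]` attached to a polynomial representation -/
@[reducible] noncomputable def comodOf : HopfRep.Comod k (Mat n k) (MvPolynomial ι k) where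
  coact := (coactAlg ρ).toLinearMap
  coassoc := by
    refine LinearMap.ext fun p => ?_
    exact congrArg (fun φ => φ p) (coactAlg_coassoc ρ)
  counit_comp := by
    refine LinearMap.ext fun p => ?_
    have h' : (Algebra.TensorProduct.rid k k (MvPolynomial ι k))
        (LinearMap.lTensor (MvPolynomial ι k) (CoalgebraStruct.counit (R := k) (A := Mat n k))
          (coactAlg ρ p)) = p := congrArg (fun φ => φ p) (coactAlg_counit ρ)
    apply (Algebra.TensorProduct.rid k k (MvPolynomial ι k)).injective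
    simpa using h'

theorem isCoactAlg_comodOf :
    @GLin.IsCoactAlg k _ (Mat n k) _ _ (MvPolynomial ι k) _ _ (comodOf ρ) :=
  @GLin.IsCoactAlg.mk k _ (Mat n k) _ _ (MvPolynomial ι k) _ _ (comodOf ρ)
    (by change coactAlg ρ 1 = 1; exact map_one _)
    (fun f g => by change coactAlg ρ (f * g) = coactAlg ρ f * coactAlg ρ g; exact map_mul _ _ _)

theorem comodOf_coact_X (m : ι) :
    (comodOf ρ).coact (MvPolynomial.X m) = ∑ l, MvPolynomial.X l ⊗ₜ[k] ρ.c l m :=
  coactAlg_X ρ m

end Comod

section Std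

variable (k : Type u) [CommRing k] (n : ℕ)

theorem diagHom_X (i j : Fin n) :
    diagHom k n (Mat.X i j) = if i = j then MvPolynomial.X i else 0 := by
  rw [diagHom, Mat.aeval_X, Matrix.diagonal_apply]

/-- the standard representation -/
noncomputable def stdRep : PolyRep k n (Fin n) where
  c := fun i j => Mat.X i j
  comul_c := fun l m => Mat.comul_X l m
  counit_c := fun l m => Mat.counit_X l m
  wt := fun m => Finsupp.single m 1
  diag_c := by
    intro l m
    rw [diagHom_X]
    by_cases h : l = m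
    · subst h; rw [if_pos rfl, if_pos rfl]; rfl
    · rw [if_neg h, if_neg h]

theorem rho_stdRep {B : Type v} [CommRing B] [Algebra k B] (M : Matrix (Fin n) (Fin n) B) :
    (stdRep k n).rho M = M := by
  ext i j
  exact Mat.aeval_X M i j

end Std

section Sum

variable {k : Type u} [CommRing k] {n : ℕ} {ι₁ : Type w} [Fintype ι₁] [DecidableEq ι₁]
  {ι₂ : Type w'} [Fintype ι₂] [DecidableEq ι₂]
  (ρ₁ : PolyRep k n ι₁) (ρ₂ : PolyRep k n ι₂)

/-- matrix coefficients of the direct sum -/
noncomputable def sumC : ι₁ ⊕ ι₂ → ι₁ ⊕ ι₂ → Mat n k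
  | Sum.inl l, Sum.inl m => ρ₁.c l m
  | Sum.inr l, Sum.inr m => ρ₂.c l m
  | Sum.inl _, Sum.inr _ => 0
  | Sum.inr _, Sum.inl _ => 0

/-- the direct sum of two polynomial representations -/
noncomputable def PolyRep.sum : PolyRep k n (ι₁ ⊕ ι₂) where
  c := sumC ρ₁ ρ₂
  comul_c := by
    rintro (l | l) (m | m)
    · simp [sumC, ρ₁.comul_c]
    · simp [sumC]
    · simp [sumC]
    · simp [sumC, ρ₂.comul_c]
  counit_c := by
    rintro (l | l) (m | m)
    · simp [sumC, ρ₁.counit_c]
    · simp [sumC]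
    · simp [sumC]
    · simp [sumC, ρ₂.counit_c]
  wt := Sum.elim ρ₁.wt ρ₂.wt
  diag_c := by
    rintro (l | l) (m | m)
    · simp [sumC, ρ₁.diag_c]
    · simp [sumC]
    · simp [sumC]
    · simp [sumC, ρ₂.diag_c]

theorem rho_sum {B : Type v} [CommRing B] [Algebra k B] (M : Matrix (Fin n) (Fin n) B) :
    (PolyRep.sum ρ₁ ρ₂).rho M = Matrix.fromBlocks (ρ₁.rho M) 0 0 (ρ₂.rho M) := by
  ext (l | l) (m | m)
  · rfl
  · exact map_zero _
  · exact map_zero _
  · rfl

end Sum

section Sigma

variable {k : Type u} [CommRing k] {n : ℕ} {I : Type w} [Fintype I] [DecidableEq I]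
  {κ : I → Type w'} [∀ i, Fintype (κ i)] [∀ i, DecidableEq (κ i)]
  (ρ : ∀ i, PolyRep k n (κ i))

/-- matrix coefficients of the direct sum of a family -/
noncomputable def sigmaC (x y : Σ i, κ i) : Mat n k :=
  if h : x.1 = y.1 then (ρ y.1).c (h ▸ x.2) y.2 else 0

theorem sigmaC_same (i : I) (l m : κ i) : sigmaC ρ ⟨i, l⟩ ⟨i, m⟩ = (ρ i).c l m := by
  simp [sigmaC]

theorem sigmaC_ne {i j : I} (h : i ≠ j) (l : κ i) (m : κ j) : sigmaC ρ ⟨i, l⟩ ⟨j, m⟩ = 0 := by
  simp [sigmaC, h]

/-- the direct sum of a finite family of polynomial representations -/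
noncomputable def PolyRep.sigma : PolyRep k n (Σ i, κ i) where
  c := sigmaC ρ
  comul_c := by
    rintro ⟨i, l⟩ ⟨j, m⟩
    rw [Fintype.sum_sigma]
    by_cases h : i = j
    · subst h
      rw [sigmaC_same, (ρ i).comul_c, Finset.sum_eq_single i]
      · simp only [sigmaC_same]
      · intro b _ hb
        refine Finset.sum_eq_zero fun r _ => ?_
        rw [sigmaC_ne ρ (Ne.symm hb), zero_tmul]
      · intro h; exact absurd (Finset.mem_univ i) h
    · rw [sigmaC_ne ρ h, map_zero]
      symm
      refine Finset.sum_eq_zero fun b _ => Finset.sum_eq_zero fun r _ => ?_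
      by_cases hb : i = b
      · subst hb
        rw [sigmaC_ne ρ h, tmul_zero]
      · rw [sigmaC_ne ρ hb, zero_tmul]
  counit_c := by
    rintro ⟨i, l⟩ ⟨j, m⟩
    by_cases h : i = j
    · subst h
      rw [sigmaC_same, (ρ i).counit_c]
      by_cases hlm : l = m
      · subst hlm; rw [if_pos rfl, if_pos rfl]
      · rw [if_neg hlm, if_neg]
        intro e
        exact hlm (eq_of_heq (Sigma.mk.inj e).2)
    · rw [sigmaC_ne ρ h, map_zero, if_neg]
      intro e
      exact h (Sigma.mk.inj e).1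
  wt := fun x => (ρ x.1).wt x.2
  diag_c := by
    rintro ⟨i, l⟩ ⟨j, m⟩
    by_cases h : i = j
    · subst h
      rw [sigmaC_same, (ρ i).diag_c]
      by_cases hlm : l = m
      · subst hlm; rw [if_pos rfl, if_pos rfl]
      · rw [if_neg hlm, if_neg]
        intro e
        exact hlm (eq_of_heq (Sigma.mk.inj e).2)
    · rw [sigmaC_ne ρ h, map_zero, if_neg]
      intro e
      exact h (Sigma.mk.inj e).1

theorem rho_sigma_same {B : Type v} [CommRing B] [Algebra k B] (M : Matrix (Fin n) (Fin n) B)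
    (i : I) (l m : κ i) : (PolyRep.sigma ρ).rho M ⟨i, l⟩ ⟨i, m⟩ = (ρ i).rho M l m := by
  change Mat.aeval n k M (sigmaC ρ ⟨i, l⟩ ⟨i, m⟩) = _
  rw [sigmaC_same]
  rfl

theorem rho_sigma_ne {B : Type v} [CommRing B] [Algebra k B] (M : Matrix (Fin n) (Fin n) B)
    {i j : I} (h : i ≠ j) (l : κ i) (m : κ j) : (PolyRep.sigma ρ).rho M ⟨i, l⟩ ⟨j, m⟩ = 0 := by
  change Mat.aeval n k M (sigmaC ρ ⟨i, l⟩ ⟨j, m⟩) = _
  rw [sigmaC_ne ρ h, map_zero]

end Sigma

end Groth.Agent.Helper7.Wzb
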