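import Mathlib
import Groth.Agent.Helper7.WzbA

/-!
# The upper unipotent one-parameter subgroup in a polynomial representation of `Mat 2` (helper7)

`PT ρ = ρ(u_T)` over `k[T]`; `EMat ρ` its derivative at `0`; `PT' = PT * E`.
-/

set_option autoImplicit false
set_option linter.unusedSectionVars false
universe u v v' w

namespace Groth.Agent.Helper7.Wzb

open CoordGrp TensorProduct Matrix Groth.Agent.Helper7.SLHM

section UMat

variable {B : Type v} [CommRing B]

/-- the upper unipotent matrix -/
def uMat (s : B) : Matrix (Fin 2) (Fin 2) B := !![1, s; 0, 1]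

theorem uMat_add (s t : B) : uMat (s + t) = uMat s * uMat t := by
  ext i j
  fin_cases i <;> fin_cases j <;> simp [uMat, Matrix.mul_apply, Fin.sum_univ_two, add_comm]

theorem uMat_zero : uMat (0 : B) = 1 := by
  ext i j
  fin_cases i <;> fin_cases j <;> simp [uMat]

theorem det_uMat (s : B) : (uMat s).det = 1 := by
  simp [uMat, Matrix.det_fin_two]

theorem uMat_map {B' : Type v'} [CommRing B'] (θ : B →+* B') (s : B) :
    (uMat s).map θ = uMat (θ s) := by
  ext i j
  fin_cases i <;> fin_cases j <;> simp [uMat]

end UMat

section PolyLemma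

variable {k : Type u} [CommRing k]

theorem coeff_one_aeval_add (p : Polynomial k) :
    ((Polynomial.aeval (Polynomial.X + Polynomial.C Polynomial.X : Polynomial (Polynomial k))) p).coeff 1 =
      Polynomial.derivative p := by
  have h1 : Polynomial.aeval (Polynomial.X + Polynomial.C Polynomial.X : Polynomial (Polynomial k)) p =
      Polynomial.taylor (Polynomial.X : Polynomial k) (p.map Polynomial.C) := by
    rw [Polynomial.taylor_apply, Polynomial.comp, Polynomial.eval₂_map, Polynomial.aeval_def]
    rfl
  rw [h1, Polynomial.taylor_coeff_one, Polynomial.derivative_map, Polynomial.eval_map,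
    Polynomial.eval₂_C_X]

end PolyLemma

section PT

variable {k : Type u} [CommRing k] {ι : Type w} [Fintype ι] [DecidableEq ι] (ρ : PolyRep k 2 ι)

/-- the one-parameter group `ρ(u_T)` over `k[T]` -/
noncomputable def PT : Matrix ι ι (Polynomial k) := ρ.rho (uMat (Polynomial.X : Polynomial k))

theorem rho_uMat {B : Type v} [CommRing B] [Algebra k B] (s : B) :
    ρ.rho (uMat s) = (PT ρ).map (Polynomial.aeval s) := by
  rw [PT, ← PolyRep.rho_map]
  congr 1
  have := uMat_map ((Polynomial.aeval s : Polynomial k →ₐ[k] B) : Polynomial k →+* B) (Polynomial.X : Polynomial k)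
  rw [RingHom.coe_coe, Polynomial.aeval_X] at this
  exact this.symm

/-- the infinitesimal generator -/
noncomputable def EMat : Matrix ι ι k := fun l m => (PT ρ l m).coeff 1

theorem PT_coeff_zero (l m : ι) : (PT ρ l m).coeff 0 = if l = m then 1 else 0 := by
  have h := rho_uMat ρ (0 : k)
  rw [uMat_zero, PolyRep.rho_one] at h
  have h2 := congrFun (congrFun h l) m
  rw [Matrix.map_apply, Polynomial.coe_aeval_eq_eval, ← Polynomial.coeff_zero_eq_eval_zero,
    Matrix.one_apply] at h2
  exact h2.symm

theorem aeval_C_X (p : Polynomial k) :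
    Polynomial.aeval (Polynomial.C Polynomial.X : Polynomial (Polynomial k)) p = Polynomial.C p := by
  have : (Polynomial.aeval (Polynomial.C Polynomial.X : Polynomial (Polynomial k)) :
      Polynomial k →ₐ[k] Polynomial (Polynomial k)) = Polynomial.CAlgHom := by
    apply Polynomial.algHom_ext
    simp
  rw [this]; rfl

theorem aeval_X_outer (p : Polynomial k) :
    Polynomial.aeval (Polynomial.X : Polynomial (Polynomial k)) p = p.map Polynomial.C := by
  have : (Polynomial.aeval (Polynomial.X : Polynomial (Polynomial k)) :
      Polynomial k →ₐ[k] Polynomial (Polynomial k)) =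
      Polynomial.mapAlgHom (Algebra.ofId k (Polynomial k)) := by
    apply Polynomial.algHom_ext
    simp
  rw [this]; rfl

/-- `P'(T) = P(T) E` -/
theorem derivative_PT :
    (PT ρ).map Polynomial.derivative = PT ρ * (EMat ρ).map Polynomial.C := by
  have h1 : ρ.rho (uMat (Polynomial.C Polynomial.X + Polynomial.X : Polynomial (Polynomial k))) =
      ρ.rho (uMat (Polynomial.C Polynomial.X : Polynomial (Polynomial k))) *
        ρ.rho (uMat (Polynomial.X : Polynomial (Polynomial k))) := by
    rw [uMat_add, PolyRep.rho_mul]
  rw [rho_uMat, rho_uMat, rho_uMat] at h1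
  apply Matrix.ext
  intro l m
  have h2 := congrArg (fun p => Polynomial.coeff p 1) (congrFun (congrFun h1 l) m)
  simp only [Matrix.map_apply, Matrix.mul_apply, Polynomial.finsetSum_coeff] at h2
  rw [add_comm (Polynomial.C Polynomial.X) Polynomial.X, coeff_one_aeval_add] at h2
  rw [Matrix.map_apply, h2, Matrix.mul_apply]
  refine Finset.sum_congr rfl fun r _ => ?_
  rw [Matrix.map_apply, aeval_C_X, aeval_X_outer, Polynomial.coeff_C_mul, Polynomial.coeff_map]
  rfl

end PT

end Groth.Agent.Helper7.Wzb
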