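import Mathlib
import Groth.Agent.Helper7.WzbB

/-!
# Invariance under the unipotent subgroup and the kernel of the derivation (helper7)
-/

set_option autoImplicit false
set_option linter.unusedSectionVars false
universe u v v' w

namespace Groth.Agent.Helper7.Wzb

open CoordGrp TensorProduct Matrix Groth.Agent.Helper7.SLHM

section Der

variable {k : Type u} [CommRing k] {ι : Type w} [Fintype ι]

/-- the linear derivation of `k[ι]` attached to a matrix: `X_m ↦ Σ_l E_{lm} X_l` -/
noncomputable def der (E : Matrix ι ι k) : Derivation k (MvPolynomial ι k) (MvPolynomial ι k) :=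
  MvPolynomial.mkDerivation k fun m => ∑ l, E l m • (MvPolynomial.X l : MvPolynomial ι k)

theorem der_X (E : Matrix ι ι k) (m : ι) :
    der E (MvPolynomial.X m) = ∑ l, E l m • (MvPolynomial.X l : MvPolynomial ι k) :=
  MvPolynomial.mkDerivation_X _ _ _

theorem der_C (E : Matrix ι ι k) (c : k) : der E (MvPolynomial.C c) = 0 := by
  rw [← MvPolynomial.algebraMap_eq]
  exact Derivation.map_algebraMap _ _

end Der

section Q

variable {k : Type u} [CommRing k] {ι : Type w} [Fintype ι] [DecidableEq ι] (ρ : PolyRep k 2 ι)

/-- the substitution `a ↦ a P(T)` -/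
noncomputable def qHom : MvPolynomial ι k →ₐ[k] Polynomial (MvPolynomial ι k) :=
  MvPolynomial.aeval fun m =>
    ∑ l, Polynomial.C (MvPolynomial.X l) * (PT ρ l m).map (algebraMap k (MvPolynomial ι k))

theorem qHom_X (m : ι) : qHom ρ (MvPolynomial.X m) =
    ∑ l, Polynomial.C (MvPolynomial.X l) * (PT ρ l m).map (algebraMap k (MvPolynomial ι k)) :=
  MvPolynomial.aeval_X _ _

theorem qHom_C (c : k) : qHom ρ (MvPolynomial.C c) = Polynomial.C (MvPolynomial.C c) := by
  rw [qHom, MvPolynomial.aeval_C]
  rfl

theorem eval_qHom (a : ι → k) (s : k) (b : MvPolynomial ι k) :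
    Polynomial.eval s ((qHom ρ b).map (MvPolynomial.eval a)) =
      MvPolynomial.eval (a ᵥ* ρ.rho (uMat s)) b := by
  induction b using MvPolynomial.induction_on with
  | C c => rw [qHom_C, Polynomial.map_C, Polynomial.eval_C, MvPolynomial.eval_C, MvPolynomial.eval_C]
  | add p q hp hq => rw [map_add, Polynomial.map_add, Polynomial.eval_add, hp, hq, map_add]
  | mul_X p m hp =>
    rw [map_mul, Polynomial.map_mul, Polynomial.eval_mul, hp, map_mul, MvPolynomial.eval_X, qHom_X,
      Polynomial.map_sum, Polynomial.eval_finsetSum]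
    congr 1
    rw [Matrix.vecMul, dotProduct]
    refine Finset.sum_congr rfl fun l _ => ?_
    rw [Polynomial.map_mul, Polynomial.eval_mul, Polynomial.map_C, Polynomial.eval_C,
      MvPolynomial.eval_X, Polynomial.map_map, rho_uMat, Matrix.map_apply,
      Polynomial.coe_aeval_eq_eval]
    congr 2
    have : (MvPolynomial.eval a).comp (algebraMap k (MvPolynomial ι k)) = RingHom.id k := by
      ext c; simp
    rw [this, Polynomial.map_id]

theorem coeff_zero_qHom (b : MvPolynomial ι k) : (qHom ρ b).coeff 0 = b := by
  induction b using MvPolynomial.induction_on with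
  | C c => rw [qHom_C, Polynomial.coeff_C_zero]
  | add p q hp hq => rw [map_add, Polynomial.coeff_add, hp, hq]
  | mul_X p m hp =>
    rw [map_mul, Polynomial.mul_coeff_zero, hp, qHom_X, Polynomial.finsetSum_coeff]
    congr 1
    rw [Finset.sum_eq_single m]
    · rw [Polynomial.coeff_C_mul, Polynomial.coeff_map, PT_coeff_zero, if_pos rfl, map_one, mul_one]
    · intro l _ hl
      rw [Polynomial.coeff_C_mul, Polynomial.coeff_map, PT_coeff_zero, if_neg hl, map_zero, mul_zero]
    · intro h; exact absurd (Finset.mem_univ m) h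

theorem coeff_one_qHom_X (m : ι) :
    (qHom ρ (MvPolynomial.X m)).coeff 1 = der (EMat ρ) (MvPolynomial.X m) := by
  rw [der_X, qHom_X, Polynomial.finsetSum_coeff]
  refine Finset.sum_congr rfl fun l _ => ?_
  rw [Polynomial.coeff_C_mul, Polynomial.coeff_map, MvPolynomial.smul_eq_C_mul, mul_comm]
  rfl

theorem coeff_one_qHom (b : MvPolynomial ι k) : (qHom ρ b).coeff 1 = der (EMat ρ) b := by
  induction b using MvPolynomial.induction_on with
  | C c => rw [qHom_C, Polynomial.coeff_C, if_neg one_ne_zero, der_C]
  | add p q hp hq => rw [map_add, Polynomial.coeff_add, hp, hq, map_add]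
  | mul_X p m hp =>
    rw [map_mul, Polynomial.mul_coeff_one, hp, coeff_zero_qHom, coeff_zero_qHom, Derivation.leibniz,
      smul_eq_mul, smul_eq_mul, coeff_one_qHom_X]
    ring

theorem derivative_qHom_X (m : ι) :
    Polynomial.derivative (qHom ρ (MvPolynomial.X m)) = qHom ρ (der (EMat ρ) (MvPolynomial.X m)) := by
  rw [qHom_X, der_X, map_sum, map_sum]
  have hd := derivative_PT ρ
  have : ∀ l, Polynomial.derivative (Polynomial.C (MvPolynomial.X l : MvPolynomial ι k) *
      (PT ρ l m).map (algebraMap k (MvPolynomial ι k))) =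
      ∑ r, Polynomial.C (MvPolynomial.X l : MvPolynomial ι k) *
        ((PT ρ l r).map (algebraMap k (MvPolynomial ι k)) *
          Polynomial.C (algebraMap k (MvPolynomial ι k) (EMat ρ r m))) := by
    intro l
    rw [Polynomial.derivative_C_mul, Polynomial.derivative_map, ← Finset.mul_sum]
    congr 1
    have h1 := congrFun (congrFun hd l) m
    rw [Matrix.map_apply] at h1
    rw [h1, Matrix.mul_apply, Polynomial.map_sum]
    refine Finset.sum_congr rfl fun r _ => ?_
    rw [Polynomial.map_mul, Matrix.map_apply, Polynomial.map_C]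
  simp_rw [this]
  rw [Finset.sum_comm]
  refine Finset.sum_congr rfl fun r _ => ?_
  rw [map_smul, qHom_X, Finset.smul_sum]
  refine Finset.sum_congr rfl fun l _ => ?_
  rw [Algebra.smul_def, ← mul_assoc, mul_comm]
  rfl

theorem derivative_qHom (b : MvPolynomial ι k) :
    Polynomial.derivative (qHom ρ b) = qHom ρ (der (EMat ρ) b) := by
  induction b using MvPolynomial.induction_on with
  | C c => rw [qHom_C, Polynomial.derivative_C, der_C, map_zero]
  | add p q hp hq => rw [map_add, map_add, hp, hq, map_add, map_add]
  | mul_X p m hp =>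
    rw [map_mul, Polynomial.derivative_mul, hp, derivative_qHom_X, Derivation.leibniz, smul_eq_mul,
      smul_eq_mul, map_add, map_mul, map_mul]
    ring

end Q

section Inv

variable {k : Type u} [Field k] [CharZero k] {ι : Type w} [Fintype ι] [DecidableEq ι]
  (ρ : PolyRep k 2 ι)

theorem qHom_eq_C_of_der_eq_zero (b : MvPolynomial ι k) (h : der (EMat ρ) b = 0) :
    qHom ρ b = Polynomial.C b := by
  have h1 : Polynomial.derivative (qHom ρ b) = 0 := by rw [derivative_qHom, h, map_zero]
  rw [Polynomial.eq_C_of_derivative_eq_zero h1, coeff_zero_qHom]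

/-- elements of the kernel of the derivation are invariant under the unipotent subgroup -/
theorem eval_uMat_of_der_eq_zero (b : MvPolynomial ι k) (h : der (EMat ρ) b = 0) (a : ι → k)
    (s : k) : MvPolynomial.eval (a ᵥ* ρ.rho (uMat s)) b = MvPolynomial.eval a b := by
  rw [← eval_qHom, qHom_eq_C_of_der_eq_zero ρ b h, Polynomial.map_C, Polynomial.eval_C]

/-- functions invariant under the unipotent subgroup are in the kernel of the derivation -/
theorem der_eq_zero_of_eval_uMat (b : MvPolynomial ι k)
    (h : ∀ (a : ι → k) (s : k), MvPolynomial.eval (a ᵥ* ρ.rho (uMat s)) b = MvPolynomial.eval a b) :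
    der (EMat ρ) b = 0 := by
  have hW : qHom ρ b - Polynomial.C b = 0 := by
    ext j : 1
    apply MvPolynomial.funext
    intro a
    rw [Polynomial.coeff_zero, map_zero]
    have h2 : (qHom ρ b - Polynomial.C b).map (MvPolynomial.eval a) = 0 := by
      apply Polynomial.funext
      intro s
      rw [Polynomial.map_sub, Polynomial.eval_sub, eval_qHom, h a s, Polynomial.map_C,
        Polynomial.eval_C, sub_self, Polynomial.eval_zero]
    have h3 := congrArg (fun p => Polynomial.coeff p j) h2
    simpa only [Polynomial.coeff_map, Polynomial.coeff_zero] using h3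
  rw [← coeff_one_qHom, sub_eq_zero.1 hW, Polynomial.coeff_C, if_neg one_ne_zero]

end Inv

end Groth.Agent.Helper7.Wzb
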