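import Mathlib
import Groth.Agent.Helper7.WzbC

/-!
# Central scalars, weighted homogeneity and the kernel of the derivation (helper7)
-/

set_option autoImplicit false
set_option linter.unusedSectionVars false
universe u v v' w

namespace Groth.Agent.Helper7.Wzb

open CoordGrp TensorProduct Matrix Groth.Agent.Helper7.SLHM MvPolynomial

section Gen

variable {k : Type u} [CommRing k] {ι : Type w} [Fintype ι] [DecidableEq ι]

/-- a derivation mapping each variable to a weighted homogeneous element of the same weight
preserves weighted homogeneity -/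
theorem isWeightedHomogeneous_mkDerivation (w : ι → ℕ) (f : ι → MvPolynomial ι k)
    (hf : ∀ i, IsWeightedHomogeneous w (f i) (w i)) (b : MvPolynomial ι k) (D : ℕ)
    (hb : IsWeightedHomogeneous w b D) :
    IsWeightedHomogeneous w (mkDerivation k f b) D := by
  induction hb using IsWeightedHomogeneous.induction_on with
  | zero => rw [map_zero]; exact isWeightedHomogeneous_zero _ _ _
  | add p q hp hq ihp ihq => rw [map_add]; exact ihp.add ihq
  | monomial d r hr =>
    rw [mkDerivation_monomial, smul_eq_C_mul]
    refine IsWeightedHomogeneous.C_mul ?_ r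
    rw [Finsupp.sum]
    refine IsWeightedHomogeneous.sum _ _ _ fun i hi => ?_
    rw [smul_eq_mul]
    have hdi : 1 ≤ d i := Nat.one_le_iff_ne_zero.2 (Finsupp.mem_support_iff.1 hi)
    have hle : Finsupp.single i 1 ≤ d := by
      rw [Finsupp.single_le_iff]
      exact hdi
    have hw : Finsupp.weight w (d - Finsupp.single i 1) + w i = D := by
      rw [← hr]
      conv_rhs => rw [← tsub_add_cancel_of_le hle]
      rw [map_add, Finsupp.weight_single, smul_eq_mul, one_mul]
    rw [← hw]
    exact (isWeightedHomogeneous_monomial w _ _ rfl).mul (hf i)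

/-- scaling the coordinates by powers of `c` multiplies a weighted homogeneous polynomial by a
power of `c` -/
theorem eval_scale_of_isWeightedHomogeneous (w : ι → ℕ) (b : MvPolynomial ι k) (D : ℕ)
    (hb : IsWeightedHomogeneous w b D) (a : ι → k) (c : k) :
    eval (fun m => a m * c ^ w m) b = c ^ D * eval a b := by
  induction hb using IsWeightedHomogeneous.induction_on with
  | zero => simp
  | add p q hp hq ihp ihq => rw [map_add, map_add, ihp, ihq, mul_add]
  | monomial d r hr =>
    rw [eval_monomial, eval_monomial, Finsupp.prod_fintype _ _ (fun i => pow_zero _),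
      Finsupp.prod_fintype _ _ (fun i => pow_zero _), ← hr, Finsupp.weight_eq_sum]
    simp_rw [mul_pow, Finset.prod_mul_distrib, ← pow_mul, smul_eq_mul]
    rw [Finset.prod_pow_eq_pow_sum]
    simp_rw [mul_comm (w _) (d _)]
    ring

end Gen

section W

variable {k : Type u} [Field k] [CharZero k] {ι : Type w} [Fintype ι] [DecidableEq ι]
  (ρ : PolyRep k 2 ι)

/-- the weight of the central torus on the coordinate `m` -/
def wdeg (m : ι) : ℕ := ∑ j, ρ.wt m j

theorem rho_scalar {B : Type v} [CommRing B] [Algebra k B] (c : B) :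
    ρ.rho (Matrix.diagonal fun _ => c) = Matrix.diagonal fun m => c ^ wdeg ρ m := by
  rw [PolyRep.rho_diagonal]
  congr 1
  ext m
  rw [PolyRep.chi, Finset.prod_pow_eq_pow_sum, wdeg]

theorem PT_eq_zero_of_wdeg_ne {l m : ι} (h : wdeg ρ l ≠ wdeg ρ m) : PT ρ l m = 0 := by
  have hcomm : (Matrix.diagonal fun _ : Fin 2 => (Polynomial.C (2 : k) : Polynomial k)) *
      uMat (Polynomial.X : Polynomial k) =
      uMat (Polynomial.X : Polynomial k) * Matrix.diagonal fun _ : Fin 2 => (Polynomial.C (2 : k)) := by
    rw [← Matrix.smul_one_eq_diagonal, Matrix.smul_mul, Matrix.mul_smul, one_mul, mul_one]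
  have h1 := congrArg ρ.rho hcomm
  rw [PolyRep.rho_mul, PolyRep.rho_mul, rho_scalar] at h1
  have h2 := congrFun (congrFun h1 l) m
  rw [Matrix.diagonal_mul, Matrix.mul_diagonal] at h2
  change Polynomial.C (2 : k) ^ wdeg ρ l * PT ρ l m = PT ρ l m * Polynomial.C (2 : k) ^ wdeg ρ m at h2
  rw [← map_pow, ← map_pow, mul_comm (PT ρ l m), ← sub_eq_zero, ← sub_mul, ← map_sub] at h2
  rcases mul_eq_zero.1 h2 with h3 | h3
  · exfalso
    rw [Polynomial.C_eq_zero, sub_eq_zero] at h3
    apply h
    have h4 : ((2 ^ wdeg ρ l : ℕ) : k) = ((2 ^ wdeg ρ m : ℕ) : k) := by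
      push_cast; exact h3
    exact Nat.pow_right_injective (le_refl 2) (Nat.cast_injective h4)
  · exact h3

theorem EMat_eq_zero_of_wdeg_ne {l m : ι} (h : wdeg ρ l ≠ wdeg ρ m) : EMat ρ l m = 0 := by
  rw [EMat, PT_eq_zero_of_wdeg_ne ρ h, Polynomial.coeff_zero]

theorem isWeightedHomogeneous_der (b : MvPolynomial ι k) (D : ℕ)
    (hb : IsWeightedHomogeneous (wdeg ρ) b D) :
    IsWeightedHomogeneous (wdeg ρ) (der (EMat ρ) b) D := by
  refine isWeightedHomogeneous_mkDerivation (wdeg ρ) _ (fun m => ?_) b D hb
  refine IsWeightedHomogeneous.sum _ _ _ fun l _ => ?_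
  by_cases h : wdeg ρ l = wdeg ρ m
  · rw [smul_eq_C_mul, ← h]
    exact (isWeightedHomogeneous_X k (wdeg ρ) l).C_mul _
  · rw [EMat_eq_zero_of_wdeg_ne ρ h, zero_smul]
    exact isWeightedHomogeneous_zero _ _ _

/-- the kernel of the derivation is spanned by its weighted homogeneous elements -/
theorem exists_decomp (b : MvPolynomial ι k) (h : der (EMat ρ) b = 0) :
    ∃ (S : Finset ℕ) (c : ℕ → MvPolynomial ι k),
      (∀ D, IsWeightedHomogeneous (wdeg ρ) (c D) D) ∧ (∀ D, der (EMat ρ) (c D) = 0) ∧
        b = ∑ D ∈ S, c D := by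
  classical
  have hfin := weightedHomogeneousComponent_finsupp (w := wdeg ρ) b
  refine ⟨hfin.toFinset, fun D => weightedHomogeneousComponent (wdeg ρ) D b,
    fun D => weightedHomogeneousComponent_isWeightedHomogeneous D b, ?_, ?_⟩
  · have hsum : b = ∑ D ∈ hfin.toFinset, weightedHomogeneousComponent (wdeg ρ) D b := by
      conv_lhs => rw [← sum_weightedHomogeneousComponent (wdeg ρ) b]
      exact finsum_eq_sum _ hfin
    intro D
    show der (EMat ρ) (weightedHomogeneousComponent (wdeg ρ) D b) = 0
    have h1 : der (EMat ρ) b =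
        ∑ D' ∈ hfin.toFinset, der (EMat ρ) (weightedHomogeneousComponent (wdeg ρ) D' b) := by
      conv_lhs => rw [hsum]
      rw [map_sum]
    have h2 := congrArg (weightedHomogeneousComponent (wdeg ρ) D) h1
    rw [h, map_zero, map_sum] at h2
    by_cases hD : D ∈ hfin.toFinset
    · rw [Finset.sum_eq_single D] at h2
      · rw [(isWeightedHomogeneous_der ρ _ D
          (weightedHomogeneousComponent_isWeightedHomogeneous D b)).weightedHomogeneousComponent_same]
          at h2
        exact h2.symm
      · intro D' _ hne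
        exact (isWeightedHomogeneous_der ρ _ D'
          (weightedHomogeneousComponent_isWeightedHomogeneous D' b)).weightedHomogeneousComponent_ne
          D (Ne.symm hne)
      · intro hn; exact absurd hD hn
    · have : weightedHomogeneousComponent (wdeg ρ) D b = 0 := by
        by_contra hne
        exact hD (hfin.mem_toFinset.2 hne)
      rw [this, map_zero]
  · conv_lhs => rw [← sum_weightedHomogeneousComponent (wdeg ρ) b]
    exact finsum_eq_sum _ hfin

end W

end Groth.Agent.Helper7.Wzb
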