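import Mathlib
import Groth.Agent.Helper7.WzbD

/-!
# Extending a unipotent-invariant function to an `SL₂`-invariant function on `V × k²` (helper7)
-/

set_option autoImplicit false
set_option linter.unusedSectionVars false
universe u v v' w

namespace Groth.Agent.Helper7.Wzb

open CoordGrp TensorProduct Matrix Groth.Agent.Helper7.SLHM MvPolynomial

section Mat2

variable {k : Type u} [Field k]

/-- the inverse of the matrix with second row `w` (chart `w 1 ≠ 0`) -/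
def hmat (w : Fin 2 → k) : Matrix (Fin 2) (Fin 2) k := !![w 1, 0; -w 0, (w 1)⁻¹]

/-- the inverse of the matrix with second row `w` (chart `w 0 ≠ 0`) -/
def hmat' (w : Fin 2 → k) : Matrix (Fin 2) (Fin 2) k := !![w 1, (w 0)⁻¹; -w 0, 0]

theorem hmat_e : hmat (![0, 1] : Fin 2 → k) = 1 := by
  ext i j
  fin_cases i <;> fin_cases j <;> simp [hmat]

theorem hmat'_eq (w : Fin 2 → k) (h0 : w 0 ≠ 0) (h1 : w 1 ≠ 0) :
    hmat' w = hmat w * uMat ((w 0 * w 1)⁻¹) := by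
  ext i j
  fin_cases i <;> fin_cases j
  · simp [hmat, hmat', uMat, Matrix.mul_apply, Fin.sum_univ_two]
  · simp [hmat, hmat', uMat, Matrix.mul_apply, Fin.sum_univ_two]
    field_simp
  · simp [hmat, hmat', uMat, Matrix.mul_apply, Fin.sum_univ_two]
  · simp [hmat, hmat', uMat, Matrix.mul_apply, Fin.sum_univ_two]
    field_simp
    ring

theorem N1_eq (w : Fin 2 → k) (h1 : w 1 ≠ 0) :
    (!![w 1 ^ 2, 0; -(w 0 * w 1), 1] : Matrix (Fin 2) (Fin 2) k) =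
      hmat w * Matrix.diagonal fun _ => w 1 := by
  ext i j
  fin_cases i <;> fin_cases j
  · simp [hmat, Matrix.mul_apply, Fin.sum_univ_two, pow_two]
  · simp [hmat, Matrix.mul_apply, Fin.sum_univ_two]
  · simp [hmat, Matrix.mul_apply, Fin.sum_univ_two]
  · simp [hmat, Matrix.mul_apply, Fin.sum_univ_two, h1]

theorem N2_eq (w : Fin 2 → k) (h0 : w 0 ≠ 0) :
    (!![w 0 * w 1, 1; -(w 0 ^ 2), 0] : Matrix (Fin 2) (Fin 2) k) =
      hmat' w * Matrix.diagonal fun _ => w 0 := by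
  ext i j
  fin_cases i <;> fin_cases j
  · simp [hmat', Matrix.mul_apply, Fin.sum_univ_two, mul_comm]
  · simp [hmat', Matrix.mul_apply, Fin.sum_univ_two, h0]
  · simp [hmat', Matrix.mul_apply, Fin.sum_univ_two, pow_two]
  · simp [hmat', Matrix.mul_apply, Fin.sum_univ_two]

theorem mul_hmat (g : Matrix (Fin 2) (Fin 2) k) (hg : g.det = 1) (w : Fin 2 → k) (h1 : w 1 ≠ 0)
    (h1' : (w ᵥ* g) 1 ≠ 0) :
    g * hmat (w ᵥ* g) = hmat w * uMat (g 0 1 / (w 1 * (w ᵥ* g) 1)) := by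
  rw [Matrix.det_fin_two] at hg
  have e0 : (w ᵥ* g) 0 = w 0 * g 0 0 + w 1 * g 1 0 := by
    simp [Matrix.vecMul, dotProduct, Fin.sum_univ_two]
  have e1 : (w ᵥ* g) 1 = w 0 * g 0 1 + w 1 * g 1 1 := by
    simp [Matrix.vecMul, dotProduct, Fin.sum_univ_two]
  have hh : hmat (w ᵥ* g) = !![(w ᵥ* g) 1, 0; -(w ᵥ* g) 0, ((w ᵥ* g) 1)⁻¹] := rfl
  rw [hh, e0]
  generalize (w ᵥ* g) 1 = d at e1 h1'
  ext i j
  fin_cases i <;> fin_cases j
  · simp [hmat, uMat, Matrix.mul_apply, Fin.sum_univ_two]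
    rw [e1]
    linear_combination (w 1) * hg
  · simp [hmat, uMat, Matrix.mul_apply, Fin.sum_univ_two]
    field_simp
  · simp [hmat, uMat, Matrix.mul_apply, Fin.sum_univ_two]
    rw [e1]
    linear_combination (-w 0) * hg
  · simp [hmat, uMat, Matrix.mul_apply, Fin.sum_univ_two]
    field_simp
    linear_combination (-1 : k) * e1

end Mat2

section Lift

variable {k : Type u} [Field k] [CharZero k] {ι : Type w} [Fintype ι] [DecidableEq ι]
  (ρ : PolyRep k 2 ι)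

/-- substitute `a ↦ a ρ(N)` where `N` is a matrix over `k[ι ⊕ Fin 2]` -/
noncomputable def substN (N : Matrix (Fin 2) (Fin 2) (MvPolynomial (ι ⊕ Fin 2) k)) :
    MvPolynomial ι k →ₐ[k] MvPolynomial (ι ⊕ Fin 2) k :=
  aeval fun m => ∑ l, X (Sum.inl l) * ρ.rho N l m

theorem eval_substN (N : Matrix (Fin 2) (Fin 2) (MvPolynomial (ι ⊕ Fin 2) k)) (p : ι ⊕ Fin 2 → k)
    (b : MvPolynomial ι k) :
    eval p (substN ρ N b) = eval ((p ∘ Sum.inl) ᵥ* ρ.rho (N.map (eval p))) b := by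
  have h1 : eval p (substN ρ N b) =
      (aeval p : MvPolynomial (ι ⊕ Fin 2) k →ₐ[k] k) (substN ρ N b) :=
    (RingHom.congr_fun (coe_aeval_eq_eval p) _).symm
  rw [h1, substN, comp_aeval_apply]
  have h2 : ∀ q : MvPolynomial ι k, (aeval ((p ∘ Sum.inl) ᵥ* ρ.rho (N.map (eval p))) :
      MvPolynomial ι k →ₐ[k] k) q = eval ((p ∘ Sum.inl) ᵥ* ρ.rho (N.map (eval p))) q :=
    fun q => RingHom.congr_fun (coe_aeval_eq_eval _) q
  rw [← h2]
  congr 2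
  ext m
  rw [map_sum, Matrix.vecMul, dotProduct]
  refine Finset.sum_congr rfl fun l _ => ?_
  rw [map_mul, aeval_X]
  congr 1
  have h3 := PolyRep.rho_map ρ (aeval p : MvPolynomial (ι ⊕ Fin 2) k →ₐ[k] k) N
  have h4 : N.map (aeval p : MvPolynomial (ι ⊕ Fin 2) k →ₐ[k] k) = N.map (eval p) := by
    ext i j
    exact RingHom.congr_fun (coe_aeval_eq_eval p) _
  rw [h4] at h3
  rw [h3]
  rfl

/-- the matrix `y · h_w`, chart `y ≠ 0` -/
noncomputable def N1 : Matrix (Fin 2) (Fin 2) (MvPolynomial (ι ⊕ Fin 2) k) :=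
  !![X (Sum.inr 1) ^ 2, 0; -(X (Sum.inr 0) * X (Sum.inr 1)), 1]

/-- the matrix `x · h'_w`, chart `x ≠ 0` -/
noncomputable def N2 : Matrix (Fin 2) (Fin 2) (MvPolynomial (ι ⊕ Fin 2) k) :=
  !![X (Sum.inr 0) * X (Sum.inr 1), 1; -(X (Sum.inr 0) ^ 2), 0]

theorem N1_map (p : ι ⊕ Fin 2 → k) :
    (N1 : Matrix (Fin 2) (Fin 2) (MvPolynomial (ι ⊕ Fin 2) k)).map (eval p) =
      !![(p ∘ Sum.inr) 1 ^ 2, 0; -((p ∘ Sum.inr) 0 * (p ∘ Sum.inr) 1), 1] := by
  ext i j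
  fin_cases i <;> fin_cases j <;> simp [N1]

theorem N2_map (p : ι ⊕ Fin 2 → k) :
    (N2 : Matrix (Fin 2) (Fin 2) (MvPolynomial (ι ⊕ Fin 2) k)).map (eval p) =
      !![(p ∘ Sum.inr) 0 * (p ∘ Sum.inr) 1, 1; -((p ∘ Sum.inr) 0 ^ 2), 0] := by
  ext i j
  fin_cases i <;> fin_cases j <;> simp [N2]

variable (b : MvPolynomial ι k) (D : ℕ)
  (hU : ∀ (a : ι → k) (s : k), eval (a ᵥ* ρ.rho (uMat s)) b = eval a b)
  (hD : ∀ (a : ι → k) (c : k), eval (fun m => a m * c ^ wdeg ρ m) b = c ^ D * eval a b)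

include hD in
theorem eval_scalar_mul (a : ι → k) (h : Matrix (Fin 2) (Fin 2) k) (c : k) :
    eval (a ᵥ* ρ.rho (h * Matrix.diagonal fun _ => c)) b = c ^ D * eval (a ᵥ* ρ.rho h) b := by
  have hv : a ᵥ* ρ.rho h ᵥ* Matrix.diagonal (fun m => c ^ wdeg ρ m) =
      fun m => (a ᵥ* ρ.rho h) m * c ^ wdeg ρ m := by
    ext m
    rw [Matrix.vecMul_diagonal]
  rw [PolyRep.rho_mul, rho_scalar, ← Matrix.vecMul_vecMul, ← hD, hv]

include hD in
theorem eval_F1 (p : ι ⊕ Fin 2 → k) (h1 : p (Sum.inr 1) ≠ 0) :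
    eval p (substN ρ N1 b) =
      p (Sum.inr 1) ^ D * eval ((p ∘ Sum.inl) ᵥ* ρ.rho (hmat (p ∘ Sum.inr))) b := by
  rw [eval_substN, N1_map, N1_eq _ h1, eval_scalar_mul ρ b D hD]
  rfl

include hD in
theorem eval_F2 (p : ι ⊕ Fin 2 → k) (h0 : p (Sum.inr 0) ≠ 0) :
    eval p (substN ρ N2 b) =
      p (Sum.inr 0) ^ D * eval ((p ∘ Sum.inl) ᵥ* ρ.rho (hmat' (p ∘ Sum.inr))) b := by
  rw [eval_substN, N2_map, N2_eq _ h0, eval_scalar_mul ρ b D hD]
  rfl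

include hU in
theorem eval_hmat' (a : ι → k) (w : Fin 2 → k) (h0 : w 0 ≠ 0) (h1 : w 1 ≠ 0) :
    eval (a ᵥ* ρ.rho (hmat' w)) b = eval (a ᵥ* ρ.rho (hmat w)) b := by
  rw [hmat'_eq w h0 h1, PolyRep.rho_mul, ← Matrix.vecMul_vecMul, hU]

include hU hD in
theorem X_pow_mul_F1 :
    (X (Sum.inr 0) : MvPolynomial (ι ⊕ Fin 2) k) ^ D * substN ρ N1 b =
      X (Sum.inr 1) ^ D * substN ρ N2 b := by
  have hx : (X (Sum.inr 0) : MvPolynomial (ι ⊕ Fin 2) k) ≠ 0 := X_ne_zero _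
  have hy : (X (Sum.inr 1) : MvPolynomial (ι ⊕ Fin 2) k) ≠ 0 := X_ne_zero _
  have key : (X (Sum.inr 0) * X (Sum.inr 1)) *
      ((X (Sum.inr 0) : MvPolynomial (ι ⊕ Fin 2) k) ^ D * substN ρ N1 b -
        X (Sum.inr 1) ^ D * substN ρ N2 b) = 0 := by
    apply MvPolynomial.funext
    intro p
    rw [map_mul, map_mul, map_sub, map_mul, map_mul, map_pow, map_pow, eval_X, eval_X, map_zero]
    by_cases h0 : p (Sum.inr 0) = 0
    · rw [h0, zero_mul, zero_mul]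
    by_cases h1 : p (Sum.inr 1) = 0
    · rw [h1, mul_zero, zero_mul]
    rw [eval_F1 ρ b D hD p h1, eval_F2 ρ b D hD p h0, eval_hmat' ρ b hU _ _ h0 h1]
    ring
  rcases mul_eq_zero.1 key with h | h
  · exact absurd h (mul_ne_zero hx hy)
  · exact sub_eq_zero.1 h

include hU hD in
theorem exists_F : ∃ F : MvPolynomial (ι ⊕ Fin 2) k,
    substN ρ N1 b = X (Sum.inr 1) ^ D * F := by
  have h := X_pow_mul_F1 ρ b D hU hD
  have hprime : Prime (X (Sum.inr 1) : MvPolynomial (ι ⊕ Fin 2) k) := X_prime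
  have hnd : ¬ (X (Sum.inr 1) : MvPolynomial (ι ⊕ Fin 2) k) ∣ X (Sum.inr 0) ^ D := by
    intro hdvd
    have h2 := hprime.dvd_of_dvd_pow hdvd
    rw [X_dvd_X] at h2
    have h3 : (1 : Fin 2) = 0 := Sum.inr_injective h2
    exact absurd h3 (by decide)
  have hd : (X (Sum.inr 1) : MvPolynomial (ι ⊕ Fin 2) k) ^ D ∣
      X (Sum.inr 0) ^ D * substN ρ N1 b := ⟨substN ρ N2 b, h⟩
  exact hprime.pow_dvd_of_dvd_mul_left D hnd hd

include hD in
theorem eval_F (F : MvPolynomial (ι ⊕ Fin 2) k) (hF : substN ρ N1 b = X (Sum.inr 1) ^ D * F)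
    (p : ι ⊕ Fin 2 → k) (h1 : p (Sum.inr 1) ≠ 0) :
    eval p F = eval ((p ∘ Sum.inl) ᵥ* ρ.rho (hmat (p ∘ Sum.inr))) b := by
  have h := eval_F1 ρ b D hD p h1
  rw [hF, map_mul, map_pow, eval_X] at h
  exact mul_left_cancel₀ (pow_ne_zero D h1) h

/-- the action of a matrix on `k[ι ⊕ Fin 2]` -/
noncomputable def actHom (g : Matrix (Fin 2) (Fin 2) k) :
    MvPolynomial (ι ⊕ Fin 2) k →ₐ[k] MvPolynomial (ι ⊕ Fin 2) k :=
  aeval (Sum.elim (fun m => ∑ l, X (Sum.inl l) * C (ρ.rho g l m))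
    (fun j => ∑ i, X (Sum.inr i) * C (g i j)))

theorem eval_actHom (g : Matrix (Fin 2) (Fin 2) k) (p : ι ⊕ Fin 2 → k)
    (q : MvPolynomial (ι ⊕ Fin 2) k) :
    eval p (actHom ρ g q) =
      eval (Sum.elim ((p ∘ Sum.inl) ᵥ* ρ.rho g) ((p ∘ Sum.inr) ᵥ* g)) q := by
  have h1 : eval p (actHom ρ g q) =
      (aeval p : MvPolynomial (ι ⊕ Fin 2) k →ₐ[k] k) (actHom ρ g q) :=
    (RingHom.congr_fun (coe_aeval_eq_eval p) _).symm
  rw [h1, actHom, comp_aeval_apply]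
  have h2 : ∀ (v : ι ⊕ Fin 2 → k) (q : MvPolynomial (ι ⊕ Fin 2) k),
      (aeval v : MvPolynomial (ι ⊕ Fin 2) k →ₐ[k] k) q = eval v q :=
    fun v q => RingHom.congr_fun (coe_aeval_eq_eval _) q
  rw [← h2]
  congr 2
  ext (m | j)
  · simp [Matrix.vecMul, dotProduct]
  · simp [Matrix.vecMul, dotProduct]

include hU hD in
theorem actHom_F (F : MvPolynomial (ι ⊕ Fin 2) k) (hF : substN ρ N1 b = X (Sum.inr 1) ^ D * F)
    (g : Matrix (Fin 2) (Fin 2) k) (hg : g.det = 1) : actHom ρ g F = F := by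
  have hy : (X (Sum.inr 1) : MvPolynomial (ι ⊕ Fin 2) k) ≠ 0 := X_ne_zero _
  have hl : actHom ρ g (X (Sum.inr 1)) ≠ 0 := by
    intro h0
    have e1 := congrArg (eval (Sum.elim (0 : ι → k) ![1, 0])) h0
    have e2 := congrArg (eval (Sum.elim (0 : ι → k) ![0, 1])) h0
    rw [eval_actHom, eval_X, map_zero] at e1 e2
    simp [Matrix.vecMul, dotProduct, Fin.sum_univ_two] at e1 e2
    rw [Matrix.det_fin_two, e1, e2] at hg
    simp at hg
  have key : (X (Sum.inr 1) * actHom ρ g (X (Sum.inr 1))) * (actHom ρ g F - F) = 0 := by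
    apply MvPolynomial.funext
    intro p
    rw [map_mul, map_mul, map_sub, eval_X, map_zero]
    by_cases h1 : p (Sum.inr 1) = 0
    · rw [h1, zero_mul, zero_mul]
    by_cases h1' : eval p (actHom ρ g (X (Sum.inr 1))) = 0
    · rw [h1', mul_zero, zero_mul]
    have h1'' : ((p ∘ Sum.inr) ᵥ* g) 1 ≠ 0 := by
      rw [eval_actHom, eval_X] at h1'
      exact h1'
    have h1''' : (Sum.elim ((p ∘ Sum.inl) ᵥ* ρ.rho g) ((p ∘ Sum.inr) ᵥ* g)) (Sum.inr 1) ≠ 0 := h1''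
    rw [eval_actHom ρ g p F, eval_F ρ b D hD F hF _ h1''', eval_F ρ b D hD F hF p h1]
    have e1 : (Sum.elim ((p ∘ Sum.inl) ᵥ* ρ.rho g) ((p ∘ Sum.inr) ᵥ* g)) ∘ Sum.inl =
        (p ∘ Sum.inl) ᵥ* ρ.rho g := rfl
    have e2 : (Sum.elim ((p ∘ Sum.inl) ᵥ* ρ.rho g) ((p ∘ Sum.inr) ᵥ* g)) ∘ Sum.inr =
        (p ∘ Sum.inr) ᵥ* g := rfl
    rw [e1, e2, Matrix.vecMul_vecMul, ← PolyRep.rho_mul, mul_hmat g hg _ h1 h1'', PolyRep.rho_mul,
      ← Matrix.vecMul_vecMul, hU, sub_self, mul_zero]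
  rcases mul_eq_zero.1 key with h | h
  · exact absurd h (mul_ne_zero hy hl)
  · exact sub_eq_zero.1 h

include hU hD in
/-- a function on `V` invariant under the unipotent subgroup and homogeneous for the central torus
extends to a function on `V × k²` invariant under all matrices of determinant one -/
theorem exists_lift : ∃ F : MvPolynomial (ι ⊕ Fin 2) k,
    (∀ a : ι → k, eval (Sum.elim a ![0, 1]) F = eval a b) ∧
    ∀ g : Matrix (Fin 2) (Fin 2) k, g.det = 1 → ∀ (a : ι → k) (w : Fin 2 → k),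
      eval (Sum.elim (a ᵥ* ρ.rho g) (w ᵥ* g)) F = eval (Sum.elim a w) F := by
  obtain ⟨F, hF⟩ := exists_F ρ b D hU hD
  refine ⟨F, ?_, ?_⟩
  · intro a
    have h1 : (Sum.elim a (![0, 1] : Fin 2 → k)) (Sum.inr 1) ≠ 0 := by simp
    rw [eval_F ρ b D hD F hF _ h1]
    have e1 : (Sum.elim a (![0, 1] : Fin 2 → k)) ∘ Sum.inl = a := rfl
    have e2 : (Sum.elim a (![0, 1] : Fin 2 → k)) ∘ Sum.inr = ![0, 1] := rfl
    rw [e1, e2, hmat_e, PolyRep.rho_one, Matrix.vecMul_one]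
  · intro g hg a w
    have h := eval_actHom ρ g (Sum.elim a w) F
    rw [actHom_F ρ b D hU hD F hF g hg] at h
    exact h.symm

end Lift

end Groth.Agent.Helper7.Wzb
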