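import Mathlib
import Groth.Agent.Helper7.WzbE
import Groth.Agent.Helper7.SLHMc
import Groth.Agent.Helper7.OrbFinC
import Groth.Agent.Helper7.PtExt3
import Groth.Agent.S11793
import Groth.Agent.S12559

/-!
# Weitzenböck's theorem for the unipotent generator of a polynomial representation of `SL₂` (helper7)
-/

set_option autoImplicit false
set_option linter.unusedSectionVars false
set_option linter.style.haveILetI false
universe u v v' w

namespace Groth.Agent.Helper7.Wzb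

open CoordGrp TensorProduct Matrix Groth.Agent.Helper7.SLHM MvPolynomial

section Main

variable {k : Type u} [Field k] [IsAlgClosed k] [CharZero k] {ι : Type u} [Fintype ι] [DecidableEq ι]
  (ρ : PolyRep k 2 ι)

/-- `ρ ⊕ std` -/
noncomputable def rho' : PolyRep k 2 (ι ⊕ Fin 2) := PolyRep.sum ρ (stdRep k 2)

theorem vecMul_rho' (g : Matrix (Fin 2) (Fin 2) k) (p : ι ⊕ Fin 2 → k) :
    p ᵥ* (rho' ρ).rho g = Sum.elim ((p ∘ Sum.inl) ᵥ* ρ.rho g) ((p ∘ Sum.inr) ᵥ* g) := by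
  rw [rho', rho_sum, rho_stdRep, Matrix.vecMul_fromBlocks]
  ext (m | j) <;> simp

/-- the action of `SL₂` on `k[ι ⊕ Fin 2]` -/
@[reducible] noncomputable def instC : HopfRep.Comod k (SLn 2 k) (MvPolynomial (ι ⊕ Fin 2) k) :=
  cSL (comodOf (rho' ρ))

theorem instI : @GLin.IsCoactAlg k _ (SLn 2 k) _ _ (MvPolynomial (ι ⊕ Fin 2) k) _ _ (instC ρ) :=
  hcSL _ (isCoactAlg_comodOf (rho' ρ))

theorem vecPt_apply' {σ : Type*} (a : σ → k) (F : MvPolynomial σ k) :
    GLin.vecPt k σ a F = MvPolynomial.eval a F := by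
  have := RingHom.congr_fun (MvPolynomial.coe_aeval_eq_eval a) F
  exact this

theorem actPt_vecPt' (g : SLn 2 k →ₐ[k] k) (p : ι ⊕ Fin 2 → k) :
    @GLin.actPt k _ (SLn 2 k) _ _ (MvPolynomial (ι ⊕ Fin 2) k) _ _ (instC ρ) (instI ρ) g
      (GLin.vecPt k _ p) = GLin.vecPt k _ (p ᵥ* (rho' ρ).rho (matOf g)) := by
  have := comp_orb (rho' ρ) (comodOf (rho' ρ)) (isCoactAlg_comodOf (rho' ρ))
    (comodOf_coact_X (rho' ρ)) g p
  exact this

/-- invariants are constant on orbits of rational points -/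
theorem eval_of_mem_fixedPts (F : MvPolynomial (ι ⊕ Fin 2) k)
    (hF : F ∈ @HopfRep.fixedPts k (SLn 2 k) _ _ _ (MvPolynomial (ι ⊕ Fin 2) k) _ _ (instC ρ))
    (g : Matrix (Fin 2) (Fin 2) k) (hg : g.det = 1) (p : ι ⊕ Fin 2 → k) :
    eval (p ᵥ* (rho' ρ).rho g) F = eval p F := by
  letI := instC ρ
  haveI := instI ρ
  have hco : HopfRep.Comod.coact (k := k) (A := SLn 2 k) F = F ⊗ₜ[k] (1 : SLn 2 k) := hF
  have h1 : GLin.actPt k (SLn.pt 2 k g hg) (GLin.vecPt k _ p) F = GLin.vecPt k _ p F := by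
    change (SLn.pt 2 k g hg) ((Algebra.TensorProduct.lid k (SLn 2 k))
      ((Algebra.TensorProduct.map (GLin.vecPt k _ p) (AlgHom.id k (SLn 2 k)))
        (HopfRep.Comod.coact (k := k) (A := SLn 2 k) F))) = _
    rw [hco, Algebra.TensorProduct.map_tmul, Algebra.TensorProduct.lid_tmul]
    simp
  rw [actPt_vecPt', matOf_pt, vecPt_apply', vecPt_apply'] at h1
  exact h1

/-- functions constant on orbits of rational points are invariants -/
theorem mem_fixedPts_of_eval (F : MvPolynomial (ι ⊕ Fin 2) k)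
    (h : ∀ g : Matrix (Fin 2) (Fin 2) k, g.det = 1 → ∀ p : ι ⊕ Fin 2 → k,
      eval (p ᵥ* (rho' ρ).rho g) F = eval p F) :
    F ∈ @HopfRep.fixedPts k (SLn 2 k) _ _ _ (MvPolynomial (ι ⊕ Fin 2) k) _ _ (instC ρ) := by
  letI := instC ρ
  haveI := instI ρ
  have hact : ∀ g : SLn 2 k →ₐ[k] k, HopfRep.Comod.act k (SLn 2 k) (MvPolynomial (ι ⊕ Fin 2) k) g F = F := by
    intro g
    apply MvPolynomial.funext
    intro p
    have h1 := Groth.Agent.Helper7.OrbFin.apply_comodAct (GLin.vecPt k _ p) g F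
    rw [actPt_vecPt', vecPt_apply', vecPt_apply'] at h1
    rw [h1]
    exact h _ (det_matOf g) p
  show HopfRep.Comod.coact (k := k) (A := SLn 2 k) F = F ⊗ₜ[k] (1 : SLn 2 k)
  rw [← sub_eq_zero]
  apply PtExt.eq_zero_of_points
  intro g
  rw [map_sub, map_sub, LinearMap.lTensor_tmul, TensorProduct.rid_tmul, AlgHom.toLinearMap_apply,
    map_one, one_smul, sub_eq_zero]
  exact hact g

/-- restriction to the slice `w = (0, 1)` -/
noncomputable def phi : MvPolynomial (ι ⊕ Fin 2) k →ₐ[k] MvPolynomial ι k :=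
  aeval (Sum.elim X fun j => C ((![0, 1] : Fin 2 → k) j))

theorem eval_phi (a : ι → k) (F : MvPolynomial (ι ⊕ Fin 2) k) :
    eval a (phi F) = eval (Sum.elim a ![0, 1]) F := by
  have h1 : eval a (phi F) = (aeval a : MvPolynomial ι k →ₐ[k] k) (phi F) :=
    (RingHom.congr_fun (coe_aeval_eq_eval a) _).symm
  rw [h1, phi, comp_aeval_apply]
  have h2 : ∀ (v : ι ⊕ Fin 2 → k) (q : MvPolynomial (ι ⊕ Fin 2) k),
      (aeval v : MvPolynomial (ι ⊕ Fin 2) k →ₐ[k] k) q = eval v q :=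
    fun v q => RingHom.congr_fun (coe_aeval_eq_eval _) q
  rw [← h2]
  congr 2
  ext (m | j)
  · simp
  · simp

/-- **Weitzenböck's theorem** for the infinitesimal generator of the upper unipotent subgroup in a
polynomial representation of `SL₂`. -/
theorem ker_der_fg : ∃ S : Subalgebra k (MvPolynomial ι k), S.FG ∧
    ∀ f : MvPolynomial ι k, f ∈ S ↔ der (EMat ρ) f = 0 := by
  classical
  letI := instC ρ
  haveI := instI ρ
  obtain ⟨s, hs1, hs2⟩ := Groth.Agent.S11793.result k (SLn 2 k) (Groth.Agent.S12559.result k 2)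
    (MvPolynomial (ι ⊕ Fin 2) k) (GLin.IsCoactAlg.coact_mul (k := k) (A := SLn 2 k))
    (GLin.IsCoactAlg.coact_one (k := k) (A := SLn 2 k))
  refine ⟨(Algebra.adjoin k (s : Set (MvPolynomial (ι ⊕ Fin 2) k))).map (phi (k := k) (ι := ι)),
    (Subalgebra.fg_adjoin_finset s).map _, fun f => ⟨?_, ?_⟩⟩
  · rintro ⟨F, hF, rfl⟩
    have hle : Algebra.adjoin k (s : Set (MvPolynomial (ι ⊕ Fin 2) k)) ≤
        GLin.invariants k (SLn 2 k) (MvPolynomial (ι ⊕ Fin 2) k) :=
      Algebra.adjoin_le fun x hx => hs1 x hx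
    have hFinv : F ∈ HopfRep.fixedPts k (SLn 2 k) (MvPolynomial (ι ⊕ Fin 2) k) := hle hF
    apply der_eq_zero_of_eval_uMat
    intro a c
    show eval (a ᵥ* ρ.rho (uMat c)) (phi F) = eval a (phi F)
    rw [eval_phi, eval_phi]
    have h1 := eval_of_mem_fixedPts ρ F hFinv (uMat c) (det_uMat c) (Sum.elim a ![0, 1])
    rw [vecMul_rho'] at h1
    have e1 : (Sum.elim a (![0, 1] : Fin 2 → k)) ∘ Sum.inl = a := rfl
    have e2 : (Sum.elim a (![0, 1] : Fin 2 → k)) ∘ Sum.inr = ![0, 1] := rfl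
    have e3 : (![0, 1] : Fin 2 → k) ᵥ* uMat c = ![0, 1] := by
      ext j
      fin_cases j <;> simp [uMat, Matrix.vecMul, dotProduct, Fin.sum_univ_two]
    rw [e1, e2, e3] at h1
    exact h1
  · intro hf
    obtain ⟨T, c, hc1, hc2, hsum⟩ := exists_decomp ρ f hf
    have hex : ∀ D, ∃ F : MvPolynomial (ι ⊕ Fin 2) k,
        F ∈ HopfRep.fixedPts k (SLn 2 k) (MvPolynomial (ι ⊕ Fin 2) k) ∧ phi F = c D := by
      intro D
      obtain ⟨F, hF1, hF2⟩ := exists_lift ρ (c D) D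
        (fun a s => eval_uMat_of_der_eq_zero ρ (c D) (hc2 D) a s)
        (fun a e => eval_scale_of_isWeightedHomogeneous (wdeg ρ) (c D) D (hc1 D) a e)
      refine ⟨F, mem_fixedPts_of_eval ρ F (fun g hg p => ?_), ?_⟩
      · rw [vecMul_rho']
        have := hF2 g hg (p ∘ Sum.inl) (p ∘ Sum.inr)
        rw [this]
        congr 2
        ext (m | j) <;> rfl
      · apply MvPolynomial.funext
        intro a
        rw [eval_phi, hF1]
    choose F hF1 hF2 using hex
    refine ⟨∑ D ∈ T, F D, hs2 _ (Submodule.sum_mem _ fun D _ => hF1 D), ?_⟩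
    rw [hsum]
    show phi (∑ D ∈ T, F D) = _
    rw [map_sum]
    exact Finset.sum_congr rfl fun D _ => hF2 D

end Main

end Groth.Agent.Helper7.Wzb
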