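import Mathlib
import Groth.Agent.Helper7.WzbB
import Groth.Agent.Helper7.FrmA

/-!
# The infinitesimal generator of the unipotent subgroup on binary forms (helper7)
-/

set_option autoImplicit false
set_option linter.unusedSectionVars false
universe u v v' w

namespace Groth.Agent.Helper7.Wzb

open CoordGrp TensorProduct Matrix Groth.Agent.Helper7.SLHM Groth.Agent.Helper7.Frm MvPolynomial

section Bin

variable {k : Type u} [Field k]

theorem subst_uMat_X0 :
    subst (k := k) (uMat (Polynomial.X : Polynomial k)) (X 0) = X 0 := by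
  rw [subst, aeval_X, Fin.sum_univ_two]
  simp [uMat]

theorem subst_uMat_X1 :
    subst (k := k) (uMat (Polynomial.X : Polynomial k)) (X 1) = C Polynomial.X * X 0 + X 1 := by
  rw [subst, aeval_X, Fin.sum_univ_two]
  simp [uMat]

theorem monomial_two (a b : ℕ) :
    (monomial (Finsupp.single (0 : Fin 2) a + Finsupp.single (1 : Fin 2) b) (1 : k)) =
      X 0 ^ a * X 1 ^ b := by
  rw [X_pow_eq_monomial, X_pow_eq_monomial, monomial_mul, one_mul]

theorem subst_uMat_monomial (a b : ℕ) :
    subst (k := k) (uMat (Polynomial.X : Polynomial k))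
      (monomial (Finsupp.single (0 : Fin 2) a + Finsupp.single (1 : Fin 2) b) (1 : k)) =
      X 0 ^ a * (C Polynomial.X * X 0 + X 1) ^ b := by
  rw [monomial_two, map_mul, map_pow, map_pow, subst_uMat_X0, subst_uMat_X1]

theorem expand (a b : ℕ) :
    (X 0 ^ a * (C Polynomial.X * X 0 + X 1) ^ b : MvPolynomial (Fin 2) (Polynomial k)) =
      ∑ i ∈ Finset.range (b + 1),
        monomial (Finsupp.single (0 : Fin 2) (a + i) + Finsupp.single (1 : Fin 2) (b - i))
          (Polynomial.X ^ i * (b.choose i : Polynomial k)) := by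
  rw [add_pow, Finset.mul_sum]
  refine Finset.sum_congr rfl fun i _ => ?_
  rw [mul_pow, ← map_pow, X_pow_eq_monomial, X_pow_eq_monomial, X_pow_eq_monomial, C_mul_monomial,
    mul_one, monomial_mul, ← C_eq_coe_nat, ← mul_assoc, monomial_mul, mul_comm, C_mul_monomial,
    ← add_assoc, ← Finsupp.single_add]
  congr 1
  ring

theorem coeff_one_coeff (a b : ℕ) (μ : Fin 2 →₀ ℕ) :
    (coeff μ (X 0 ^ a * (C Polynomial.X * X 0 + X 1) ^ b :
        MvPolynomial (Fin 2) (Polynomial k))).coeff 1 =
      if 1 ≤ b ∧ μ = Finsupp.single (0 : Fin 2) (a + 1) + Finsupp.single (1 : Fin 2) (b - 1)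
      then (b : k) else 0 := by
  classical
  rw [expand, coeff_sum, Polynomial.finsetSum_coeff]
  simp_rw [coeff_monomial]
  have hterm : ∀ i, ((if Finsupp.single (0 : Fin 2) (a + i) + Finsupp.single (1 : Fin 2) (b - i) = μ
      then (Polynomial.X ^ i * (b.choose i : Polynomial k)) else 0) : Polynomial k).coeff 1 =
      if i = 1 ∧ Finsupp.single (0 : Fin 2) (a + i) + Finsupp.single (1 : Fin 2) (b - i) = μ
      then (b.choose i : k) else 0 := by
    intro i
    split_ifs with h1 h2 h2
    · rw [← Polynomial.C_eq_natCast, Polynomial.coeff_mul_C, Polynomial.coeff_X_pow,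
        if_pos h2.1.symm, one_mul]
    · have hi : i ≠ 1 := fun h => h2 ⟨h, h1⟩
      rw [← Polynomial.C_eq_natCast, Polynomial.coeff_mul_C, Polynomial.coeff_X_pow,
        if_neg (Ne.symm hi), zero_mul]
    · exact absurd h2.2 h1
    · rw [Polynomial.coeff_zero]
  simp_rw [hterm]
  by_cases hb : 1 ≤ b
  · rw [Finset.sum_eq_single 1]
    · simp [hb, eq_comm]
    · intro i _ hi
      rw [if_neg]
      exact fun h => hi h.1
    · intro h
      exact absurd (Finset.mem_range.2 (by omega)) h
  · rw [Finset.sum_eq_zero, if_neg (fun h => hb h.1)]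
    intro i hi
    rw [if_neg]
    rintro ⟨rfl, _⟩
    rw [Finset.mem_range] at hi
    omega

theorem binIdx_val (d : ℕ) (j : Fin (d + 1)) :
    (binIdx d j).1 = Finsupp.single (0 : Fin 2) (d - (j : ℕ)) + Finsupp.single (1 : Fin 2) (j : ℕ) :=
  rfl

/-- the generator of the upper unipotent subgroup on binary forms of degree `d` is a weighted
shift -/
theorem EMat_formRep (d : ℕ) (i j : Fin (d + 1)) :
    EMat (formRep k 2 d) (binIdx d i) (binIdx d j) =
      if (i : ℕ) + 1 = (j : ℕ) then ((j : ℕ) : k) else 0 := by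
  have h1 : PT (formRep k 2 d) (binIdx d i) (binIdx d j) =
      coeff (binIdx d i).1 (subst (uMat (Polynomial.X : Polynomial k))
        (monomial (binIdx d j).1 (1 : k))) := aeval_formCoeff _ d _ _
  rw [EMat, h1, binIdx_val d j, subst_uMat_monomial, coeff_one_coeff, binIdx_val d i]
  have hi := i.2
  have hj := j.2
  congr 1
  apply propext
  constructor
  · rintro ⟨h2, h3⟩
    have h4 := DFunLike.congr_fun h3 1
    simp at h4
    omega
  · intro h2
    refine ⟨by omega, ?_⟩
    have e1 : d - (i : ℕ) = d - (j : ℕ) + 1 := by omega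
    have e2 : (i : ℕ) = (j : ℕ) - 1 := by omega
    rw [e1, ← e2]

end Bin

end Groth.Agent.Helper7.Wzb
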