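import Mathlib
import Groth.Agent.Helper7.WzbC

/-!
# Transport of the kernel of a linear derivation along a linear change of coordinates (helper7)
-/

set_option autoImplicit false
set_option linter.unusedSectionVars false
universe u v v' w w'

namespace Groth.Agent.Helper7.Wzb

open Matrix MvPolynomial

section Transport

variable {k : Type u} [Field k] {ι₁ : Type w} [Fintype ι₁] [DecidableEq ι₁]
  {ι₂ : Type w'} [Fintype ι₂] [DecidableEq ι₂]

/-- the linear substitution `X_j ↦ Σ_m Q_{mj} X_m` -/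
noncomputable def linSub (Q : Matrix ι₂ ι₁ k) : MvPolynomial ι₁ k →ₐ[k] MvPolynomial ι₂ k :=
  aeval fun j => ∑ m, Q m j • (X m : MvPolynomial ι₂ k)

theorem linSub_X (Q : Matrix ι₂ ι₁ k) (j : ι₁) :
    linSub Q (X j) = ∑ m, Q m j • (X m : MvPolynomial ι₂ k) := aeval_X _ _

theorem linSub_linSub (Q : Matrix ι₂ ι₁ k) (Q' : Matrix ι₁ ι₂ k) (h : Q' * Q = 1)
    (f : MvPolynomial ι₁ k) : linSub Q' (linSub Q f) = f := by
  have : (linSub Q').comp (linSub Q) = AlgHom.id k _ := by
    apply MvPolynomial.algHom_ext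
    intro j
    rw [AlgHom.comp_apply, linSub_X, map_sum, AlgHom.id_apply]
    simp_rw [map_smul, linSub_X, Finset.smul_sum, smul_smul]
    rw [Finset.sum_comm]
    have h2 : ∀ i : ι₁, ∑ m, (Q m j * Q' i m) • (X i : MvPolynomial ι₁ k) =
        ((1 : Matrix ι₁ ι₁ k) i j) • X i := by
      intro i
      rw [← Finset.sum_smul, ← h, Matrix.mul_apply]
      congr 1
      exact Finset.sum_congr rfl fun m _ => mul_comm _ _
    simp_rw [h2, Matrix.one_apply]
    rw [Finset.sum_eq_single j]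
    · rw [if_pos rfl, one_smul]
    · intro i _ hi
      rw [if_neg hi, zero_smul]
    · intro h; exact absurd (Finset.mem_univ j) h
  exact AlgHom.congr_fun this f

theorem linSub_der (Q : Matrix ι₂ ι₁ k) (E₁ : Matrix ι₁ ι₁ k) (E₂ : Matrix ι₂ ι₂ k)
    (h : Q * E₁ = E₂ * Q) (f : MvPolynomial ι₁ k) :
    linSub Q (der E₁ f) = der E₂ (linSub Q f) := by
  induction f using MvPolynomial.induction_on with
  | C c =>
    rw [der_C, map_zero]
    have : linSub Q (C c) = C c := by rw [linSub, aeval_C]; rfl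
    rw [this, der_C]
  | add p q hp hq => rw [map_add, map_add, hp, hq, map_add, map_add]
  | mul_X p j hp =>
    have hX : linSub Q (der E₁ (X j)) = der E₂ (linSub Q (X j)) := by
      rw [der_X, map_sum, linSub_X, map_sum]
      have e1 : ∀ x : ι₁, linSub Q (E₁ x j • (X x : MvPolynomial ι₁ k)) =
          ∑ m, (Q m x * E₁ x j) • (X m : MvPolynomial ι₂ k) := by
        intro x
        rw [map_smul, linSub_X, Finset.smul_sum]
        refine Finset.sum_congr rfl fun m _ => ?_
        rw [smul_smul, mul_comm]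
      have e2 : ∀ x : ι₂, der E₂ (Q x j • (X x : MvPolynomial ι₂ k)) =
          ∑ m, (E₂ m x * Q x j) • (X m : MvPolynomial ι₂ k) := by
        intro x
        rw [Derivation.map_smul, der_X, Finset.smul_sum]
        refine Finset.sum_congr rfl fun m _ => ?_
        rw [smul_smul, mul_comm]
      rw [Finset.sum_congr rfl fun x _ => e1 x, Finset.sum_congr rfl fun x _ => e2 x,
        Finset.sum_comm]
      conv_rhs => rw [Finset.sum_comm]
      refine Finset.sum_congr rfl fun m _ => ?_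
      rw [← Finset.sum_smul, ← Finset.sum_smul]
      congr 1
      have h1 := congrFun (congrFun h m) j
      rw [Matrix.mul_apply, Matrix.mul_apply] at h1
      exact h1
    rw [Derivation.leibniz, map_add, smul_eq_mul, smul_eq_mul, map_mul, map_mul, hp, hX, map_mul,
      Derivation.leibniz, smul_eq_mul, smul_eq_mul]

theorem transport (Q : Matrix ι₂ ι₁ k) (Q' : Matrix ι₁ ι₂ k) (hQ'Q : Q' * Q = 1) (hQQ' : Q * Q' = 1)
    (E₁ : Matrix ι₁ ι₁ k) (E₂ : Matrix ι₂ ι₂ k) (h : Q * E₁ = E₂ * Q)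
    (H : ∃ S : Subalgebra k (MvPolynomial ι₂ k), S.FG ∧ ∀ f, f ∈ S ↔ der E₂ f = 0) :
    ∃ S : Subalgebra k (MvPolynomial ι₁ k), S.FG ∧ ∀ f, f ∈ S ↔ der E₁ f = 0 := by
  obtain ⟨S, hfg, hS⟩ := H
  refine ⟨S.map (linSub Q'), hfg.map _, fun f => ⟨?_, ?_⟩⟩
  · rintro ⟨g, hg, rfl⟩
    have h1 : der E₂ g = 0 := (hS g).1 hg
    have h2 : linSub Q (der E₁ (linSub Q' g)) = 0 := by
      rw [linSub_der Q E₁ E₂ h, linSub_linSub Q' Q hQQ', h1]
    have h3 := congrArg (linSub Q') h2
    rw [linSub_linSub Q Q' hQ'Q, map_zero] at h3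
    exact h3
  · intro hf
    refine ⟨linSub Q f, (hS _).2 ?_, linSub_linSub Q Q' hQ'Q f⟩
    rw [← linSub_der Q E₁ E₂ h, hf, map_zero]

end Transport

end Groth.Agent.Helper7.Wzb
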