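import Mathlib
import Groth.Agent.Helper7.WzbF
import Groth.Agent.Helper7.WzbG
import Groth.Agent.Helper7.WzbH
import Groth.Agent.Helper8.GrJordan

/-!
# Weitzenböck's theorem: the kernel of a linear locally nilpotent derivation is finitely generated
(helper7)
-/

set_option autoImplicit false
set_option linter.unusedSectionVars false
set_option linter.style.haveILetI false
universe u v v' w w'

namespace Groth.Agent.Helper7.Wzb

open CoordGrp Matrix MvPolynomial Groth.Agent.Helper7.SLHM Groth.Agent.Helper7.Frm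

section Sig

variable {k : Type u} [Field k] [CharZero k] {I : Type u} [Fintype I] [DecidableEq I] (nn : I → ℕ)

/-- the sum of the representations on binary forms of degrees `nn i` -/
noncomputable def sigRep : PolyRep k 2 (Σ i, FormIdx 2 (nn i)) :=
  PolyRep.sigma fun i => formRep k 2 (nn i)

/-- reindexing of the coordinates -/
noncomputable def sigEquiv : (Σ i, Fin (nn i + 1)) ≃ (Σ i, FormIdx 2 (nn i)) :=
  Equiv.sigmaCongrRight fun i => binEquiv (nn i)

theorem sigEquiv_mk (i : I) (a : Fin (nn i + 1)) : sigEquiv nn ⟨i, a⟩ = ⟨i, binIdx (nn i) a⟩ := rfl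

theorem EMat_sigRep (x y : Σ i, Fin (nn i + 1)) :
    EMat (sigRep (k := k) nn) (sigEquiv nn x) (sigEquiv nn y) =
      if x.1 = y.1 ∧ (x.2 : ℕ) + 1 = (y.2 : ℕ) then ((y.2 : ℕ) : k) else 0 := by
  obtain ⟨i, a⟩ := x
  obtain ⟨j, b⟩ := y
  rw [sigEquiv_mk, sigEquiv_mk]
  by_cases h : i = j
  · subst h
    have h1 : PT (sigRep (k := k) nn) ⟨i, binIdx (nn i) a⟩ ⟨i, binIdx (nn i) b⟩ =
        PT (formRep k 2 (nn i)) (binIdx (nn i) a) (binIdx (nn i) b) :=
      rho_sigma_same _ _ i _ _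
    rw [EMat, h1]
    have h2 := EMat_formRep (k := k) (nn i) a b
    rw [EMat] at h2
    rw [h2]
    simp
  · have h1 : PT (sigRep (k := k) nn) ⟨i, binIdx (nn i) a⟩ ⟨j, binIdx (nn j) b⟩ = 0 :=
      rho_sigma_ne _ _ h _ _
    rw [EMat, h1, Polynomial.coeff_zero, if_neg]
    exact fun h2 => h h2.1

/-- the Jordan basis of the generator -/
noncomputable def sigBasis :
    Module.Basis (Σ i, Fin (nn i + 1)) k ((Σ i, FormIdx 2 (nn i)) → k) :=
  ((Pi.basisFun k (Σ i, FormIdx 2 (nn i))).reindex (sigEquiv nn).symm).unitsSMul fun x =>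
    Units.mk0 ((((x.2 : ℕ).factorial : ℕ) : k)⁻¹)
      (inv_ne_zero (Nat.cast_ne_zero.2 (Nat.factorial_ne_zero _)))

theorem sigBasis_apply (x : Σ i, Fin (nn i + 1)) :
    sigBasis (k := k) nn x =
      (((x.2 : ℕ).factorial : ℕ) : k)⁻¹ • (Pi.single (sigEquiv nn x) 1 : (Σ i, FormIdx 2 (nn i)) → k) := by
  rw [sigBasis, Module.Basis.unitsSMul_apply, Module.Basis.reindex_apply, Equiv.symm_symm,
    Pi.basisFun_apply]
  rfl

theorem mulVec_sigBasis (x : Σ i, Fin (nn i + 1)) (y : Σ i, Fin (nn i + 1)) :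
    (EMat (sigRep (k := k) nn) *ᵥ sigBasis nn x) (sigEquiv nn y) =
      (((x.2 : ℕ).factorial : ℕ) : k)⁻¹ *
        if y.1 = x.1 ∧ (y.2 : ℕ) + 1 = (x.2 : ℕ) then ((x.2 : ℕ) : k) else 0 := by
  rw [sigBasis_apply, Matrix.mulVec_smul, Matrix.mulVec_single_one, Pi.smul_apply, smul_eq_mul]
  show _ * EMat (sigRep (k := k) nn) (sigEquiv nn y) (sigEquiv nn x) = _
  rw [EMat_sigRep]

theorem mulVec_sigBasis_zero (i : I) :
    EMat (sigRep (k := k) nn) *ᵥ sigBasis nn ⟨i, 0⟩ = 0 := by
  funext y'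
  obtain ⟨y, rfl⟩ := (sigEquiv nn).surjective y'
  rw [mulVec_sigBasis, if_neg, mul_zero]
  · rfl
  · rintro ⟨-, h⟩
    simp at h

theorem mulVec_sigBasis_succ (i : I) (j : Fin (nn i)) :
    EMat (sigRep (k := k) nn) *ᵥ sigBasis nn ⟨i, j.succ⟩ = sigBasis nn ⟨i, j.castSucc⟩ := by
  funext y'
  obtain ⟨y, rfl⟩ := (sigEquiv nn).surjective y'
  rw [mulVec_sigBasis, sigBasis_apply, Pi.smul_apply, smul_eq_mul, Pi.single_apply]
  simp only [(sigEquiv nn).apply_eq_iff_eq]
  obtain ⟨i', a⟩ := y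
  by_cases h : i' = i
  · subst h
    by_cases h2 : (a : ℕ) = (j : ℕ)
    · have h3 : a = j.castSucc := Fin.ext h2
      subst h3
      rw [if_pos ⟨rfl, by simp⟩, if_pos rfl]
      simp only [Fin.val_succ, Fin.val_castSucc, Nat.factorial_succ, Nat.cast_mul, Nat.cast_succ]
      have h4 : ((j : ℕ) : k) + 1 ≠ 0 := by
        have : (((j : ℕ) + 1 : ℕ) : k) ≠ 0 := Nat.cast_ne_zero.2 (Nat.succ_ne_zero _)
        simpa using this
      have h5 : (((j : ℕ).factorial : ℕ) : k) ≠ 0 := Nat.cast_ne_zero.2 (Nat.factorial_ne_zero _)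
      field_simp
    · rw [if_neg, if_neg, mul_zero, mul_zero]
      · intro h3
        apply h2
        have := congrArg (fun z : Σ i, Fin (nn i + 1) => (z.2 : ℕ)) h3
        simpa using this
      · rintro ⟨-, h3⟩
        apply h2
        simp at h3
        exact h3
  · rw [if_neg (fun h2 => h h2.1), if_neg, mul_zero, mul_zero]
    intro h2
    exact h (congrArg Sigma.fst h2)

end Sig

section Final

variable {k : Type u} [Field k] [IsAlgClosed k] [CharZero k]

theorem isInternal_top (V : Type u) [AddCommGroup V] [Module k V] :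
    DirectSum.IsInternal (fun _ : Unit => (⊤ : Submodule k V)) := by
  apply DirectSum.isInternal_submodule_of_iSupIndep_of_iSup_eq_top
  · intro i
    simp
  · simp

/-- **Weitzenböck's theorem.** -/
theorem main (n : ℕ) (M : Matrix (Fin n) (Fin n) k) (hM : IsNilpotent M) :
    ∃ S : Subalgebra k (MvPolynomial (Fin n) k), S.FG ∧ ∀ f, f ∈ S ↔ der M f = 0 := by
  classical
  have hA : IsNilpotent (Matrix.toLin' M) := by
    obtain ⟨r, hr⟩ := hM
    exact ⟨r, by rw [← Matrix.toLin'_pow, hr, map_zero]⟩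
  obtain ⟨I, hfin, nn, b, -, hb0, hbs⟩ := Groth.Agent.Helper8.GrJordan.main k Unit (Fin n → k)
    (fun _ => ⊤) (isInternal_top _) (Matrix.toLin' M) hA 0 (fun _ v _ => Submodule.mem_top)
  letI : Fintype I := Fintype.ofFinite I
  let T : (Fin n → k) ≃ₗ[k] ((Σ i, FormIdx 2 (nn i)) → k) :=
    b.equiv (sigBasis nn) (Equiv.refl _)
  have hcomp : T.toLinearMap ∘ₗ Matrix.toLin' M =
      Matrix.toLin' (EMat (sigRep (k := k) nn)) ∘ₗ T.toLinearMap := by
    apply b.ext
    rintro ⟨i, l⟩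
    simp only [LinearMap.comp_apply, LinearEquiv.coe_coe, Matrix.toLin'_apply]
    induction l using Fin.cases with
    | zero =>
      have h1 := hb0 i
      rw [Matrix.toLin'_apply] at h1
      rw [h1, map_zero, Module.Basis.equiv_apply, Equiv.refl_apply, mulVec_sigBasis_zero]
    | succ l =>
      have h1 := hbs i l
      rw [Matrix.toLin'_apply] at h1
      rw [h1, Module.Basis.equiv_apply, Module.Basis.equiv_apply, Equiv.refl_apply,
        Equiv.refl_apply, mulVec_sigBasis_succ]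
  refine transport (LinearMap.toMatrix' T.toLinearMap) (LinearMap.toMatrix' T.symm.toLinearMap)
    ?_ ?_ M _ ?_ (ker_der_fg (sigRep nn))
  · rw [← LinearMap.toMatrix'_comp]
    simp
  · rw [← LinearMap.toMatrix'_comp]
    simp
  · have h2 := congrArg LinearMap.toMatrix' hcomp
    rw [LinearMap.toMatrix'_comp, LinearMap.toMatrix'_comp, LinearMap.toMatrix'_toLin',
      LinearMap.toMatrix'_toLin'] at h2
    exact h2

end Final

end Groth.Agent.Helper7.Wzb
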