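import Mathlib

set_option autoImplicit false
universe u
open DirectSum

namespace Groth.Agent.Helper7.ZGrNoeth

variable {R A : Type u} [CommRing R] [CommRing A] [Algebra R A]
  (𝒜 : ℤ → Submodule R A) [GradedAlgebra 𝒜]

/-- degree-`n` component of a finite combination of homogeneous elements -/
theorem proj_sum (T : Finset A) (deg : A → ℤ) (hT : ∀ t ∈ T, t ∈ 𝒜 (deg t)) (f : A → A) (n : ℤ) :
    ((decompose 𝒜 (∑ t ∈ T, f t * t) n : 𝒜 n) : A) =
      ∑ t ∈ T, ((decompose 𝒜 (f t) (n - deg t) : 𝒜 (n - deg t)) : A) * t := by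
  rw [decompose_sum, DFinsupp.finset_sum_apply, AddSubmonoidClass.coe_finset_sum]
  refine Finset.sum_congr rfl fun t ht => ?_
  have := DirectSum.coe_decompose_mul_add_of_right_mem 𝒜 (a := f t) (b := t) (i := n - deg t)
    (j := deg t) (hT t ht)
  rw [sub_add_cancel] at this
  exact this

variable (h2 : ∀ I : Ideal A, I.IsHomogeneous 𝒜 → I.FG)
include h2

/-- `𝒜 0`-submodules of a graded piece are finitely generated -/
theorem fg_of_le_piece (n : ℤ) (N : Submodule (𝒜 0) A) (hN : ∀ y ∈ N, y ∈ 𝒜 n) : N.FG := by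
  classical
  have hI : (Ideal.span (N : Set A)).IsHomogeneous 𝒜 :=
    Ideal.homogeneous_span 𝒜 _ (fun y hy => ⟨n, hN y hy⟩)
  obtain ⟨T, hTN, hT⟩ := (Submodule.fg_span_iff_fg_span_finset_subset _).mp (h2 _ hI)
  refine ⟨T, le_antisymm (Submodule.span_le.mpr hTN) ?_⟩
  intro y hy
  have hy' : y ∈ Submodule.span A (T : Set A) := by
    rw [← hT]; exact Submodule.subset_span hy
  obtain ⟨f, -, hf⟩ := Submodule.mem_span_finset.mp hy'
  have h1 := proj_sum 𝒜 T (fun _ => n) (fun t ht => hN t (hTN ht)) f n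
  simp only [smul_eq_mul] at hf
  rw [hf, decompose_of_mem_same 𝒜 (hN y hy)] at h1
  rw [h1]
  refine Submodule.sum_mem _ fun t ht => ?_
  have h3' : ∀ k : ℤ, k = 0 → ((decompose 𝒜 (f t) k : 𝒜 k) : A) ∈ 𝒜 0 := by
    intro k hk; subst hk; exact SetLike.coe_mem _
  have h3 := h3' (n - n) (sub_self n)
  have h4 : ((decompose 𝒜 (f t) (n - n) : 𝒜 (n - n)) : A) * t = (⟨_, h3⟩ : 𝒜 0) • t := rfl
  rw [h4]
  exact Submodule.smul_mem _ _ (Submodule.subset_span ht)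

omit h2 in
/-- a graded piece as an `𝒜 0`-submodule -/
def piece (n : ℤ) : Submodule (𝒜 0) A where
  carrier := 𝒜 n
  add_mem' := fun ha hb => add_mem ha hb
  zero_mem' := zero_mem _
  smul_mem' := by
    intro c x hx
    show (c : A) * x ∈ 𝒜 n
    have := SetLike.mul_mem_graded c.2 hx
    rwa [zero_add] at this

theorem piece_fg (n : ℤ) : (piece 𝒜 n).FG := fg_of_le_piece 𝒜 h2 n _ (fun _ hy => hy)

theorem adjoin_fg (s : ℤ) :
    (Algebra.adjoin (𝒜 0) {a : A | ∃ k : ℕ, a ∈ 𝒜 (s * k)}).FG := by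
  classical
  set P : Set A := {a : A | ∃ k : ℕ, 0 < k ∧ a ∈ 𝒜 (s * k)} with hP
  have hI : (Ideal.span P).IsHomogeneous 𝒜 :=
    Ideal.homogeneous_span 𝒜 _ (fun y hy => by obtain ⟨k, -, hk⟩ := hy; exact ⟨_, hk⟩)
  obtain ⟨T, hTP, hT⟩ := (Submodule.fg_span_iff_fg_span_finset_subset _).mp (h2 _ hI)
  -- degrees of the generators
  have hdeg : ∀ a : A, ∃ k : ℕ, a ∈ T → (0 < k ∧ a ∈ 𝒜 (s * k)) := by
    intro a
    by_cases ha : a ∈ T
    · obtain ⟨k, hk0, hk⟩ := hTP ha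
      exact ⟨k, fun _ => ⟨hk0, hk⟩⟩
    · exact ⟨0, fun h => absurd h ha⟩
  choose kdeg hkdeg using hdeg
  set d := T.sup kdeg with hd
  -- generators of the pieces
  choose G hG using fun k : ℕ => piece_fg 𝒜 h2 (s * k)
  set Gen : Finset A := T ∪ (Finset.range (d + 1)).biUnion G with hGen
  set B : Subalgebra (𝒜 0) A := Algebra.adjoin (𝒜 0) (Gen : Set A) with hB
  have hTB : ∀ t ∈ T, t ∈ B := fun t ht =>
    Algebra.subset_adjoin (Finset.mem_coe.mpr (Finset.mem_union_left _ ht))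
  have hGB : ∀ k ≤ d, ∀ y ∈ 𝒜 (s * k), y ∈ B := by
    intro k hk y hy
    have h1 : y ∈ Submodule.span (𝒜 0) (G k : Set A) := by rw [hG k]; exact hy
    have h2 : Submodule.span (𝒜 0) (G k : Set A) ≤ Subalgebra.toSubmodule B := by
      rw [Submodule.span_le]
      intro g hg
      refine Algebra.subset_adjoin (Finset.mem_coe.mpr (Finset.mem_union_right _ ?_))
      exact Finset.mem_biUnion.mpr ⟨k, Finset.mem_range.mpr (by omega), hg⟩
    exact h2 h1
  have key : ∀ n : ℕ, ∀ y ∈ 𝒜 (s * n), y ∈ B := by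
    intro n
    induction n using Nat.strong_induction_on with
    | _ n ih =>
      intro y hy
      rcases Nat.lt_or_ge d n with hdn | hdn
      · have hyP : y ∈ P := ⟨n, by omega, hy⟩
        have hy' : y ∈ Submodule.span A (T : Set A) := by
          rw [← hT]; exact Submodule.subset_span hyP
        obtain ⟨f, -, hf⟩ := Submodule.mem_span_finset.mp hy'
        simp only [smul_eq_mul] at hf
        have h1 := proj_sum 𝒜 T (fun t => s * kdeg t) (fun t ht => (hkdeg t ht).2) f (s * n)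
        rw [hf, decompose_of_mem_same 𝒜 hy] at h1
        rw [h1]
        refine Subalgebra.sum_mem _ fun t ht => ?_
        refine Subalgebra.mul_mem _ ?_ (hTB t ht)
        have hk1 : kdeg t ≤ d := Finset.le_sup ht
        have hk2 := (hkdeg t ht).1
        have h3 : s * (n : ℤ) - s * (kdeg t : ℤ) = s * ((n - kdeg t : ℕ) : ℤ) := by
          rw [Nat.cast_sub (by omega)]; ring
        have h4 : ∀ j : ℤ, j = s * ((n - kdeg t : ℕ) : ℤ) →
            ((decompose 𝒜 (f t) j : 𝒜 j) : A) ∈ B := by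
          intro j hj
          subst hj
          exact ih (n - kdeg t) (by omega) _ (SetLike.coe_mem _)
        exact h4 _ h3
      · exact hGB n hdn y hy
  have hEq : Algebra.adjoin (𝒜 0) {a : A | ∃ k : ℕ, a ∈ 𝒜 (s * k)} = B := by
    apply le_antisymm
    · rw [Algebra.adjoin_le_iff]
      rintro a ⟨k, hk⟩
      exact key k a hk
    · rw [hB, Algebra.adjoin_le_iff]
      intro g hg
      refine Algebra.subset_adjoin ?_
      rcases Finset.mem_union.mp (Finset.mem_coe.mp hg) with h | h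
      · obtain ⟨k, -, hk⟩ := hTP h
        exact ⟨k, hk⟩
      · obtain ⟨k, -, hk⟩ := Finset.mem_biUnion.mp h
        refine ⟨k, ?_⟩
        have : g ∈ Submodule.span (𝒜 0) (G k : Set A) := Submodule.subset_span hk
        rw [hG k] at this
        exact this
  rw [hEq]
  exact Subalgebra.fg_adjoin_finset _

theorem noeth_zero : IsNoetherianRing (𝒜 0) := by
  rw [isNoetherianRing_iff_ideal_fg]
  intro I₀
  have hinj : Function.Injective (Algebra.linearMap (𝒜 0) A) := Subtype.val_injective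
  refine Submodule.fg_of_fg_map_injective (Algebra.linearMap (𝒜 0) A) hinj ?_
  refine fg_of_le_piece 𝒜 h2 0 _ ?_
  rintro y ⟨c, -, rfl⟩
  exact c.2

omit h2 in
theorem set_nonneg : {a : A | ∃ n : ℤ, 0 ≤ n ∧ a ∈ 𝒜 n} = {a : A | ∃ k : ℕ, a ∈ 𝒜 ((1 : ℤ) * k)} := by
  ext a
  constructor
  · rintro ⟨n, hn, ha⟩
    refine ⟨n.toNat, ?_⟩
    rwa [one_mul, Int.toNat_of_nonneg hn]
  · rintro ⟨k, hk⟩
    exact ⟨(1 : ℤ) * k, by omega, hk⟩

omit h2 in
theorem set_nonpos : {a : A | ∃ n : ℤ, n ≤ 0 ∧ a ∈ 𝒜 n} = {a : A | ∃ k : ℕ, a ∈ 𝒜 ((-1 : ℤ) * k)} := by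
  ext a
  constructor
  · rintro ⟨n, hn, ha⟩
    refine ⟨(-n).toNat, ?_⟩
    rwa [Int.toNat_of_nonneg (by omega), neg_one_mul, neg_neg]
  · rintro ⟨k, hk⟩
    exact ⟨(-1 : ℤ) * k, by omega, hk⟩

omit h2 in
theorem adjoin_union_eq_top :
    Algebra.adjoin (𝒜 0) ({a : A | ∃ n : ℤ, 0 ≤ n ∧ a ∈ 𝒜 n} ∪ {a : A | ∃ n : ℤ, n ≤ 0 ∧ a ∈ 𝒜 n}) = ⊤ := by
  classical
  rw [eq_top_iff]
  have key : ∀ a : A, a ∈ Algebra.adjoin (𝒜 0)
      ({a : A | ∃ n : ℤ, 0 ≤ n ∧ a ∈ 𝒜 n} ∪ {a : A | ∃ n : ℤ, n ≤ 0 ∧ a ∈ 𝒜 n}) := by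
    intro a
    induction a using DirectSum.Decomposition.inductionOn 𝒜 with
    | zero => exact zero_mem _
    | add a b ha hb => exact add_mem ha hb
    | @homogeneous i m =>
      refine Algebra.subset_adjoin ?_
      rcases le_total 0 i with hi | hi
      · exact Or.inl ⟨i, hi, m.2⟩
      · exact Or.inr ⟨i, hi, m.2⟩
  intro a _
  exact key a

omit h2 in
theorem tfae : [IsNoetherianRing A,
     ∀ I : Ideal A, I.IsHomogeneous 𝒜 → I.FG,
     IsNoetherianRing (𝒜 0) ∧ (Algebra.adjoin (𝒜 0) {a : A | ∃ n : ℤ, 0 ≤ n ∧ a ∈ 𝒜 n}).FG ∧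
       (Algebra.adjoin (𝒜 0) {a : A | ∃ n : ℤ, n ≤ 0 ∧ a ∈ 𝒜 n}).FG,
     IsNoetherianRing (𝒜 0) ∧ Algebra.FiniteType (𝒜 0) A].TFAE := by
  tfae_have 1 → 2 := fun h I _ => (isNoetherianRing_iff_ideal_fg A).mp h I
  tfae_have 2 → 3 := by
    intro h2
    refine ⟨noeth_zero 𝒜 h2, ?_, ?_⟩
    · rw [set_nonneg]; exact adjoin_fg 𝒜 h2 1
    · rw [set_nonpos]; exact adjoin_fg 𝒜 h2 (-1)
  tfae_have 3 → 4 := by
    rintro ⟨h0, hp, hn⟩
    refine ⟨h0, ⟨?_⟩⟩
    rw [← adjoin_union_eq_top 𝒜, Algebra.adjoin_union]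
    exact hp.sup hn
  tfae_have 4 → 1 := by
    rintro ⟨h0, hft⟩
    exact Algebra.FiniteType.isNoetherianRing (𝒜 0) A
  tfae_finish

end Groth.Agent.Helper7.ZGrNoeth
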