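import Mathlib

set_option autoImplicit false
universe u v w

/-!
# A finite group generated by normal subgroups of prime order `p` is elementary abelian
-/

namespace Groth.Agent.Helper7.ZNPur

theorem comm_and_pow_of_iSup_eq_top {H : Type*} [Group H] (p : ℕ) [Fact p.Prime]
    {ι : Sort*} (K : ι → Subgroup H)
    (hK : ∀ i, K i ≠ ⊥ → Nat.card (K i) = p ∧ (K i).Normal) (htop : (⨆ i, K i) = ⊤) :
    (∀ g h : H, g * h = h * g) ∧ ∀ h : H, h ^ p = 1 := by
  rw [Subgroup.iSup_eq_closure] at htop
  -- the generators commute pairwise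
  have hgen : ∀ x ∈ (⋃ i, (K i : Set H)), ∀ y ∈ (⋃ i, (K i : Set H)), x * y = y * x := by
    intro x hx y hy
    rw [Set.mem_iUnion] at hx hy
    obtain ⟨i, hxi⟩ := hx
    obtain ⟨j, hyj⟩ := hy
    by_cases hi : K i = ⊥
    · rw [hi] at hxi
      have : x = 1 := Subgroup.mem_bot.mp hxi
      rw [this, one_mul, mul_one]
    by_cases hj : K j = ⊥
    · rw [hj] at hyj
      have : y = 1 := Subgroup.mem_bot.mp hyj
      rw [this, one_mul, mul_one]
    obtain ⟨hci, hni⟩ := hK i hi
    obtain ⟨hcj, hnj⟩ := hK j hj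
    haveI : Fact (Nat.card (K i)).Prime := ⟨hci ▸ Fact.out⟩
    rcases Subgroup.eq_bot_or_eq_top_of_prime_card ((K j).subgroupOf (K i)) with hb | ht
    · rw [Subgroup.subgroupOf_eq_bot] at hb
      exact (Subgroup.commute_of_normal_of_disjoint (K i) (K j) hni hnj hb.symm x y hxi hyj).eq
    · rw [Subgroup.subgroupOf_eq_top] at ht
      haveI : IsCyclic (K j) := isCyclic_of_prime_card hcj
      letI := IsCyclic.commGroup (α := K j)
      have h1 := mul_comm (⟨x, ht hxi⟩ : K j) ⟨y, hyj⟩
      exact congrArg Subtype.val h1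
  have hcomm : ∀ g h : H, g * h = h * g := by
    intro g h
    have hg : g ∈ Subgroup.closure (⋃ i, (K i : Set H)) := htop ▸ Subgroup.mem_top g
    have hh : h ∈ Subgroup.closure (⋃ i, (K i : Set H)) := htop ▸ Subgroup.mem_top h
    haveI := Subgroup.isMulCommutative_closure hgen
    have h1 := mul_comm' (⟨g, hg⟩ : Subgroup.closure (⋃ i, (K i : Set H))) ⟨h, hh⟩
    exact congrArg Subtype.val h1
  refine ⟨hcomm, ?_⟩
  let E : Subgroup H :=
    { carrier := {h | h ^ p = 1}
      mul_mem' := by
        intro a b ha hb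
        change (a * b) ^ p = 1
        rw [(show Commute a b from hcomm a b).mul_pow, ha, hb, one_mul]
      one_mem' := one_pow p
      inv_mem' := by
        intro a ha
        change a⁻¹ ^ p = 1
        rw [inv_pow, ha, inv_one] }
  have hE : Subgroup.closure (⋃ i, (K i : Set H)) ≤ E := by
    rw [Subgroup.closure_le]
    intro x hx
    rw [Set.mem_iUnion] at hx
    obtain ⟨i, hxi⟩ := hx
    by_cases hi : K i = ⊥
    · rw [hi] at hxi
      have : x = 1 := Subgroup.mem_bot.mp hxi
      rw [this]
      exact E.one_mem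
    · obtain ⟨hci, -⟩ := hK i hi
      have h1 := pow_card_eq_one' (G := K i) (x := ⟨x, hxi⟩)
      rw [hci] at h1
      exact congrArg Subtype.val h1
  intro h
  have hh : h ∈ Subgroup.closure (⋃ i, (K i : Set H)) := htop ▸ Subgroup.mem_top h
  exact hE hh

end Groth.Agent.Helper7.ZNPur
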