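import Mathlib

set_option autoImplicit false
universe u

namespace Groth.Agent.Helper7.ZarLaur
open Polynomial

section General

variable {A L : Type*} [CommRing A] [CommRing L] (φ : A →+* L) (P : A → Prop)

/-- "localization-like" hypotheses for a ring hom `φ` and a multiplicative predicate `P`. -/
structure LocLike : Prop where
  one : P 1
  mul : ∀ a b, P a → P b → P (a * b)
  unit : ∀ m, P m → IsUnit (φ m)
  surj : ∀ l : L, ∃ a m, P m ∧ l * φ m = φ a
  inj : Function.Injective φ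

variable {φ P}

theorem LocLike.mem_map (h : LocLike φ P) (I : Ideal A) (x : L) (hx : x ∈ I.map φ) :
    ∃ m a, P m ∧ a ∈ I ∧ x * φ m = φ a := by
  unfold Ideal.map at hx
  refine Submodule.span_induction ?_ ?_ ?_ ?_ hx
  · rintro _ ⟨a, ha, rfl⟩
    exact ⟨1, a, h.one, ha, by rw [map_one, mul_one]⟩
  · exact ⟨1, 0, h.one, I.zero_mem, by rw [map_zero, zero_mul]⟩
  · rintro x y _ _ ⟨m, a, hm, ha, hxa⟩ ⟨m', a', hm', ha', hya⟩
    refine ⟨m * m', a * m' + a' * m, h.mul _ _ hm hm',
      I.add_mem (I.mul_mem_right _ ha) (I.mul_mem_right _ ha'), ?_⟩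
    rw [map_mul, map_add, map_mul, map_mul, ← hxa, ← hya]
    ring
  · rintro l x _ ⟨m, a, hm, ha, hxa⟩
    obtain ⟨b, m₀, hm₀, hlb⟩ := h.surj l
    refine ⟨m₀ * m, b * a, h.mul _ _ hm₀ hm, I.mul_mem_left _ ha, ?_⟩
    rw [map_mul, map_mul, ← hxa, ← hlb, smul_eq_mul]
    ring

theorem LocLike.comap_map (h : LocLike φ P) (I : Ideal A)
    (hI : ∀ m, P m → ∃ m', m * m' - 1 ∈ I) : (I.map φ).comap φ = I := by
  refine le_antisymm ?_ Ideal.le_comap_map
  intro x hx
  rw [Ideal.mem_comap] at hx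
  obtain ⟨m, a, hm, ha, hxa⟩ := h.mem_map I _ hx
  rw [← map_mul] at hxa
  have h1 : x * m = a := h.inj hxa
  obtain ⟨m', hm'⟩ := hI m hm
  have h2 : x = (x * m) * m' - x * (m * m' - 1) := by ring
  rw [h2, h1]
  exact I.sub_mem (I.mul_mem_right _ ha) (I.mul_mem_left _ hm')

theorem LocLike.quotientMap_bijective (h : LocLike φ P) (I : Ideal A)
    (hI : ∀ m, P m → ∃ m', m * m' - 1 ∈ I) :
    Function.Bijective (Ideal.quotientMap (I.map φ) φ Ideal.le_comap_map) := by
  constructor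
  · rw [injective_iff_map_eq_zero]
    intro x hx
    obtain ⟨x, rfl⟩ := Ideal.Quotient.mk_surjective x
    rw [Ideal.quotientMap_mk, Ideal.Quotient.eq_zero_iff_mem] at hx
    rw [Ideal.Quotient.eq_zero_iff_mem, ← h.comap_map I hI]
    exact hx
  · intro y
    obtain ⟨l, rfl⟩ := Ideal.Quotient.mk_surjective y
    obtain ⟨a, m, hm, hla⟩ := h.surj l
    obtain ⟨m', hm'⟩ := hI m hm
    refine ⟨Ideal.Quotient.mk I (a * m'), ?_⟩
    rw [Ideal.quotientMap_mk, Ideal.Quotient.eq]
    have h1 : φ (a * m') - l = l * φ (m * m' - 1) := by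
      rw [map_mul, ← hla, map_sub, map_mul, map_one]
      ring
    rw [h1]
    exact Ideal.mul_mem_left _ _ (Ideal.mem_map_of_mem _ hm')

theorem LocLike.map_comap (h : LocLike φ P) (J : Ideal L) : (J.comap φ).map φ = J := by
  refine le_antisymm Ideal.map_comap_le ?_
  intro l hl
  obtain ⟨a, m, hm, hla⟩ := h.surj l
  have ha : a ∈ J.comap φ := by
    rw [Ideal.mem_comap, ← hla]
    exact J.mul_mem_right _ hl
  obtain ⟨u, hu⟩ := h.unit m hm
  have h1 : l = φ a * ((u⁻¹ : Lˣ) : L) := by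
    rw [← hla, ← hu, mul_assoc, Units.mul_inv, mul_one]
  rw [h1]
  exact Ideal.mul_mem_right _ _ (Ideal.mem_map_of_mem _ ha)

end General

section Pre

theorem closure_le_nonZeroDivisors (R : Type u) [CommRing R] :
    Submonoid.closure ({f : R[X] | f.coeff 0 = 1} ∪ {X}) ≤ nonZeroDivisors R[X] := by
  rw [Submonoid.closure_le]
  rintro f (hf | hf)
  · have hf0 : f.coeff 0 = 1 := hf
    rcases subsingleton_or_nontrivial R with hR | hR
    · have : f = 1 := Subsingleton.elim _ _
      rw [this]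
      exact one_mem _
    · apply mem_nonZeroDivisors_of_trailingCoeff
      have h1 : f.natTrailingDegree = 0 := by
        apply natTrailingDegree_eq_zero_of_constantCoeff_ne_zero
        rw [constantCoeff_apply, hf0]
        exact one_ne_zero
      rw [trailingCoeff, h1, hf0]
      exact one_mem _
  · rw [Set.mem_singleton_iff] at hf
    rw [hf]
    exact X_mem_nonzeroDivisors

end Pre

section Zar

variable {R : Type u} [CommRing R] {L : Type u} [CommRing L] [Algebra R[X] L] [Algebra R L]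
  [IsScalarTower R R[X] L] (ψ : R[X] →ₐ[R] L)

theorem psi_eq (p : R[X]) : ψ p = eval₂ (algebraMap R L) (ψ X) p := by
  have h : ψ = aeval (ψ X) := Polynomial.algHom_ext (by rw [aeval_X])
  conv_lhs => rw [h]
  rfl

theorem alg_eq (p : R[X]) :
    algebraMap R[X] L p = eval₂ (algebraMap R L) (algebraMap R[X] L X) p := by
  have h : IsScalarTower.toAlgHom R R[X] L = aeval (algebraMap R[X] L X) :=
    Polynomial.algHom_ext (by rw [aeval_X]; rfl)
  have h2 : algebraMap R[X] L p = IsScalarTower.toAlgHom R R[X] L p := rfl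
  rw [h2, h]
  rfl

variable (hψ : ψ X * algebraMap R[X] L X = 1)
include hψ

theorem K1 (N : ℕ) (p : R[X]) (hp : p.natDegree ≤ N) :
    ψ (reflect N p) * (algebraMap R[X] L X) ^ N = algebraMap R[X] L p := by
  letI : Invertible (algebraMap R[X] L X) := ⟨ψ X, hψ, by rw [mul_comm]; exact hψ⟩
  rw [psi_eq ψ (reflect N p), alg_eq (L := L) p]
  exact eval₂_reflect_mul_pow (algebraMap R L) (algebraMap R[X] L X) N p hp

theorem K2 (N : ℕ) (p : R[X]) (hp : p.natDegree ≤ N) :
    ψ p * (algebraMap R[X] L X) ^ N = algebraMap R[X] L (reflect N p) := by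
  have h1 : (reflect N p).natDegree ≤ N := by
    refine natDegree_reflect_le.trans ?_
    rw [max_eq_left hp]
  have := K1 ψ hψ N (reflect N p) h1
  rwa [reflect_reflect] at this

theorem psi_X_pow_mul (n : ℕ) : (ψ X) ^ n * (algebraMap R[X] L X) ^ n = 1 := by
  rw [← mul_pow, hψ, one_pow]

variable [IsLocalization (Submonoid.closure ({f : R[X] | f.coeff 0 = 1} ∪ {X})) L]

theorem isUnit_psi_monic (G : R[X]) (hG : G.Monic) : IsUnit (ψ G) := by
  have h1 := K2 ψ hψ G.natDegree G le_rfl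
  have hmem : reflect G.natDegree G ∈ Submonoid.closure ({f : R[X] | f.coeff 0 = 1} ∪ {X}) := by
    apply Submonoid.subset_closure
    left
    show (reflect G.natDegree G).coeff 0 = 1
    rw [coeff_reflect, revAt_zero]
    exact hG
  have h2 : IsUnit (algebraMap R[X] L (reflect G.natDegree G)) :=
    IsLocalization.map_units L ⟨_, hmem⟩
  rw [← h1] at h2
  exact isUnit_of_mul_isUnit_left h2

theorem exists_monic_of_mem (σ : R[X])
    (hσ : σ ∈ Submonoid.closure ({f : R[X] | f.coeff 0 = 1} ∪ {X})) :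
    ∃ G : R[X], G.Monic ∧ ∃ n : ℕ, ψ G = algebraMap R[X] L σ * (ψ X) ^ n := by
  induction hσ using Submonoid.closure_induction with
  | mem σ hσ =>
    rcases hσ with hσ | hσ
    · have hσ0 : σ.coeff 0 = 1 := hσ
      refine ⟨reflect σ.natDegree σ, ?_, σ.natDegree, ?_⟩
      · apply monic_of_natDegree_le_of_coeff_eq_one σ.natDegree
        · refine natDegree_reflect_le.trans ?_
          rw [max_self]
        · rw [coeff_reflect, revAt_le le_rfl, Nat.sub_self]
          exact hσ0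
      · have h1 := K1 ψ hψ σ.natDegree σ le_rfl
        rw [← h1, mul_assoc, mul_comm _ ((ψ X) ^ _), psi_X_pow_mul ψ hψ, mul_one]
    · rw [Set.mem_singleton_iff] at hσ
      subst hσ
      refine ⟨1, monic_one, 1, ?_⟩
      rw [map_one, pow_one, mul_comm, hψ]
  | one => exact ⟨1, monic_one, 0, by rw [map_one, map_one, pow_zero, mul_one]⟩
  | mul a b _ _ iha ihb =>
    obtain ⟨G₁, hG₁, n₁, h₁⟩ := iha
    obtain ⟨G₂, hG₂, n₂, h₂⟩ := ihb
    refine ⟨G₁ * G₂, hG₁.mul hG₂, n₁ + n₂, ?_⟩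
    rw [map_mul, map_mul, h₁, h₂, pow_add]
    ring

theorem surj (l : L) : ∃ p G : R[X], G.Monic ∧ l * ψ G = ψ p := by
  obtain ⟨⟨a, σ⟩, h⟩ := IsLocalization.surj (Submonoid.closure ({f : R[X] | f.coeff 0 = 1} ∪ {X})) l
  obtain ⟨G, hG, n, hGn⟩ := exists_monic_of_mem ψ hψ σ.1 σ.2
  have h1 := K1 ψ hψ a.natDegree a le_rfl
  refine ⟨reflect a.natDegree a * X ^ n, G * X ^ a.natDegree, hG.mul (monic_X_pow _), ?_⟩
  simp only at h
  rw [map_mul, map_mul, map_pow, map_pow, hGn]
  have h2 : l * (algebraMap R[X] L σ.1 * ψ X ^ n * ψ X ^ a.natDegree) =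
      (l * algebraMap R[X] L σ.1) * ψ X ^ n * ψ X ^ a.natDegree := by ring
  rw [h2, h, ← h1]
  have h3 := psi_X_pow_mul ψ hψ a.natDegree
  linear_combination (ψ (reflect a.natDegree a) * ψ X ^ n) * h3

theorem injective : Function.Injective ψ := by
  rw [injective_iff_map_eq_zero]
  intro p hp
  have h1 := K2 ψ hψ p.natDegree p le_rfl
  rw [hp, zero_mul] at h1
  obtain ⟨m, hm⟩ := (IsLocalization.map_eq_zero_iff
    (Submonoid.closure ({f : R[X] | f.coeff 0 = 1} ∪ {X})) L _).mp h1.symm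
  have hm' : (m : R[X]) ∈ nonZeroDivisors R[X] := closure_le_nonZeroDivisors R m.2
  have h2 : reflect p.natDegree p = 0 := (mul_left_mem_nonZeroDivisors_eq_zero_iff hm').mp hm
  exact reflect_eq_zero_iff.mp h2

theorem locLike : LocLike ψ.toRingHom (fun G : R[X] => G.Monic) where
  one := monic_one
  mul _ _ ha hb := ha.mul hb
  unit G hG := isUnit_psi_monic ψ hψ G hG
  surj l := by
    obtain ⟨p, G, hG, h⟩ := surj ψ hψ l
    exact ⟨p, G, hG, h⟩
  inj := injective ψ hψ

end Zar

end Groth.Agent.Helper7.ZarLaur
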