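import Mathlib
import Groth.Agent.Helper7.ZarLaur1
import Groth.Agent.Helper3.HensNonMonic

set_option autoImplicit false
universe u

namespace Groth.Agent.Helper7.ZarLaur
open Polynomial

section

variable {R : Type u} [CommRing R] [IsLocalRing R]

/-- polynomials reducing to zero mod `m` -/
theorem map_residue_eq_zero_iff (a : R[X]) :
    a.map (IsLocalRing.residue R) = 0 ↔
      a ∈ (IsLocalRing.maximalIdeal R).map (algebraMap R R[X]) := by
  have h : a.map (IsLocalRing.residue R) = 0 ↔
      a ∈ RingHom.ker (Polynomial.mapRingHom (IsLocalRing.residue R)) := by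
    rw [RingHom.mem_ker]; rfl
  rw [h, Polynomial.ker_mapRingHom, IsLocalRing.ker_residue]
  rfl

/-- monic polynomials are units modulo an ideal comaximal with `m R[s]` -/
theorem monic_unit_mod (I : Ideal R[X])
    (hI : I ⊔ (IsLocalRing.maximalIdeal R).map (algebraMap R R[X]) = ⊤)
    (G : R[X]) (hG : G.Monic) : ∃ G' : R[X], G * G' - 1 ∈ I := by
  have h1 : (1 : R[X]) ∈ I ⊔ (IsLocalRing.maximalIdeal R).map (algebraMap R R[X]) := by
    rw [hI]; trivial
  obtain ⟨F, hF, μ, hμ, hFμ⟩ := Submodule.mem_sup.mp h1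
  have hμ0 : μ.map (IsLocalRing.residue R) = 0 := (map_residue_eq_zero_iff μ).mpr hμ
  have hdvd : G.map (IsLocalRing.residue R) ∣ (F * 1 - 1).map (IsLocalRing.residue R) := by
    have : F * 1 - 1 = -μ := by linear_combination hFμ
    rw [this, Polynomial.map_neg, hμ0, neg_zero]
    exact dvd_zero _
  have hu := Groth.Agent.Helper3.HensNonMonic.isUnit_mk_of_mul_sub_one G F 1 hG hdvd
  obtain ⟨b, hb⟩ := hu.exists_right_inv
  obtain ⟨b', rfl⟩ := AdjoinRoot.mk_surjective b
  rw [← map_mul, ← map_one (AdjoinRoot.mk G), ← sub_eq_zero, ← map_sub, AdjoinRoot.mk_eq_zero] at hb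
  obtain ⟨q, hq⟩ := hb
  refine ⟨-q, ?_⟩
  have : G * -q - 1 = -(F * b') := by linear_combination hq
  rw [this]
  exact I.neg_mem (I.mul_mem_right _ hF)

end

section Main

variable {R : Type u} [CommRing R] [HenselianLocalRing R] {L : Type u} [CommRing L]
  [Algebra R[X] L] [Algebra R L] [IsScalarTower R R[X] L] (ψ : R[X] →ₐ[R] L)

theorem map_maximal_eq :
    (IsLocalRing.maximalIdeal R).map (algebraMap R L) =
      ((IsLocalRing.maximalIdeal R).map (algebraMap R R[X])).map ψ.toRingHom := by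
  rw [Ideal.map_map]
  congr 1
  ext r
  exact (ψ.commutes r).symm

/-- generic part, valid for any "localization at monics" -/
theorem main_of_locLike (h : LocLike ψ.toRingHom (fun G : R[X] => G.Monic)) :
    (∀ I : Ideal R[X], I ⊔ (IsLocalRing.maximalIdeal R).map (algebraMap R R[X]) = ⊤ →
        (I.map ψ.toRingHom).comap ψ.toRingHom = I ∧
        I.map ψ.toRingHom ⊔ (IsLocalRing.maximalIdeal R).map (algebraMap R L) = ⊤ ∧
        Function.Bijective (Ideal.quotientMap (I.map ψ.toRingHom) ψ.toRingHom Ideal.le_comap_map)) ∧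
    (∀ J : Ideal L, J ⊔ (IsLocalRing.maximalIdeal R).map (algebraMap R L) = ⊤ →
        (J.comap ψ.toRingHom).map ψ.toRingHom = J ∧
        J.comap ψ.toRingHom ⊔ (IsLocalRing.maximalIdeal R).map (algebraMap R R[X]) = ⊤) := by
  constructor
  · intro I hI
    have hunit := monic_unit_mod I hI
    refine ⟨h.comap_map I hunit, ?_, h.quotientMap_bijective I hunit⟩
    rw [map_maximal_eq ψ, ← Ideal.map_sup, hI, Ideal.map_top]
  · intro J hJ
    refine ⟨h.map_comap J, ?_⟩
    have h1 : (1 : L) ∈ J ⊔ (IsLocalRing.maximalIdeal R).map (algebraMap R L) := by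
      rw [hJ]; trivial
    obtain ⟨j, hj, ν, hν, hjν⟩ := Submodule.mem_sup.mp h1
    rw [map_maximal_eq ψ] at hν
    obtain ⟨G, a, hG, ha, hνa⟩ := h.mem_map _ ν hν
    -- p = G - a ∈ comap J
    have hp : G - a ∈ J.comap ψ.toRingHom := by
      rw [Ideal.mem_comap, map_sub, ← hνa]
      have : ψ.toRingHom G - ν * ψ.toRingHom G = j * ψ.toRingHom G := by
        linear_combination (-(ψ.toRingHom G)) * hjν
      rw [this]
      exact J.mul_mem_right _ hj
    have ha0 : a.map (IsLocalRing.residue R) = 0 := (map_residue_eq_zero_iff a).mpr ha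
    have hpmap : (G - a).map (IsLocalRing.residue R) = G.map (IsLocalRing.residue R) * 1 := by
      rw [Polynomial.map_sub, ha0, sub_zero, mul_one]
    obtain ⟨g, hh, hgh, hg, -, hh1⟩ := Groth.Agent.Helper3.HensNonMonic.main R (G - a)
      (G.map (IsLocalRing.residue R)) 1 (hG.map _) isCoprime_one_right hpmap
    -- hh ∈ comap J
    obtain ⟨u, hu⟩ := h.unit g hg
    have hhJ : hh ∈ J.comap ψ.toRingHom := by
      rw [Ideal.mem_comap]
      have h2 : ψ.toRingHom hh = ψ.toRingHom (G - a) * ((u⁻¹ : Lˣ) : L) := by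
        rw [hgh, map_mul, ← hu]
        rw [mul_comm (u : L), mul_assoc, Units.mul_inv, mul_one]
      rw [h2]
      exact J.mul_mem_right _ hp
    have hh1' : (hh - 1).map (IsLocalRing.residue R) = 0 := by
      rw [Polynomial.map_sub, hh1, Polynomial.map_one, sub_self]
    have hmem : hh - 1 ∈ (IsLocalRing.maximalIdeal R).map (algebraMap R R[X]) :=
      (map_residue_eq_zero_iff _).mp hh1'
    rw [Ideal.eq_top_iff_one]
    have : (1 : R[X]) = hh - (hh - 1) := by ring
    rw [this]
    exact Ideal.sub_mem _ (Ideal.mem_sup_left hhJ) (Ideal.mem_sup_right hmem)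

theorem main (hψ : ψ X * algebraMap R[X] L X = 1)
    [IsLocalization (Submonoid.closure ({f : R[X] | f.coeff 0 = 1} ∪ {X})) L] :
    (∀ I : Ideal R[X], I ⊔ (IsLocalRing.maximalIdeal R).map (algebraMap R R[X]) = ⊤ →
        (I.map ψ.toRingHom).comap ψ.toRingHom = I ∧
        I.map ψ.toRingHom ⊔ (IsLocalRing.maximalIdeal R).map (algebraMap R L) = ⊤ ∧
        Function.Bijective (Ideal.quotientMap (I.map ψ.toRingHom) ψ.toRingHom Ideal.le_comap_map)) ∧
    (∀ J : Ideal L, J ⊔ (IsLocalRing.maximalIdeal R).map (algebraMap R L) = ⊤ →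
        (J.comap ψ.toRingHom).map ψ.toRingHom = J ∧
        J.comap ψ.toRingHom ⊔ (IsLocalRing.maximalIdeal R).map (algebraMap R R[X]) = ⊤) :=
  main_of_locLike ψ (locLike ψ hψ)

end Main

end Groth.Agent.Helper7.ZarLaur
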